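import Groth.Statements.S4824
import Groth.Agent.VarietyLib.GeomField
import Mathlib
-- import your own Groth.Agent.* helpers here

set_option autoImplicit false
set_option backward.isDefEq.respectTransparency false
open scoped TensorProduct
open CategoryTheory AlgebraicGeometry
universe u
open Cons9

namespace Groth.Agent.S4824

open scoped TensorProduct

variable {σ : Type} {k : Type u} [Field k]

instance : ObjectProperty.IsClosedUnderIsomorphisms AlgebraicGeometry.IsIntegral.{u} :=
  ⟨fun e h => IsIntegral.of_isIso (h := h) e.hom⟩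

theorem isDomain_of_equiv {A B : Type*} [CommRing A] [CommRing B] [IsDomain B] (e : A ≃+* B) : IsDomain A :=
  e.toMulEquiv.isDomain B

/-- Base change of the coordinate ring of a hypersurface. -/
noncomputable def bcEquiv (K : Type u) [Field K] [Algebra k K] (F : MvPolynomial σ k) :
    (K ⊗[k] (MvPolynomial σ k ⧸ Ideal.span ({F} : Set (MvPolynomial σ k)))) ≃+*
      MvPolynomial σ K ⧸ Ideal.span ({MvPolynomial.map (algebraMap k K) F} : Set (MvPolynomial σ K)) :=
  (Algebra.TensorProduct.tensorQuotientEquiv (R := k) k (MvPolynomial σ k) K _).toRingEquiv.trans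
    (Ideal.quotientEquiv _ _ (MvPolynomial.algebraTensorAlgEquiv k K (σ := σ)).toRingEquiv (by
      rw [Ideal.map_span, Set.image_singleton]
      erw [Ideal.map_span, Set.image_singleton]
      congr 2
      simp))

theorem isDomain_quot_of_irreducible (p : MvPolynomial σ k) (hp : Irreducible p) :
    IsDomain (MvPolynomial σ k ⧸ Ideal.span ({p} : Set (MvPolynomial σ k))) := by
  have hp' : Prime p := UniqueFactorizationMonoid.irreducible_iff_prime.1 hp
  have := (Ideal.span_singleton_prime hp'.ne_zero).2 hp'
  infer_instance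

theorem irreducible_of_map (K : Type u) [Field K] [Algebra k K] {p : MvPolynomial σ k}
    (h : Irreducible (MvPolynomial.map (algebraMap k K) p)) : Irreducible p := by
  have : IsLocalHom (MvPolynomial.map (algebraMap k K) : MvPolynomial σ k →+* MvPolynomial σ K) := ⟨fun q hq => by
    obtain ⟨c, hc, hcq⟩ : ∃ c : K, c ≠ 0 ∧ MvPolynomial.map (algebraMap k K) q = MvPolynomial.C c := by
      have hd := MvPolynomial.isUnit_iff_totalDegree_of_isReduced.1 hq
      exact ⟨_, hd.1.ne_zero, MvPolynomial.totalDegree_eq_zero_iff_eq_C.1 hd.2⟩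
    have hdeg : q.totalDegree = 0 := by
      have := congrArg MvPolynomial.totalDegree hcq
      rw [MvPolynomial.totalDegree_C] at this
      unfold MvPolynomial.totalDegree at this ⊢
      rwa [MvPolynomial.support_map_of_injective _ (algebraMap k K).injective] at this
    rw [MvPolynomial.totalDegree_eq_zero_iff_eq_C.1 hdeg] at hcq ⊢
    rw [MvPolynomial.map_C] at hcq
    refine (isUnit_iff_ne_zero.2 fun h0 => hc ?_).map MvPolynomial.C
    rw [h0, map_zero] at hcq
    exact MvPolynomial.C_injective σ K hcq.symm⟩
  exact Irreducible.of_map h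

theorem irreducible_map_of_isAlgClosed [IsAlgClosed k] (L : Type u) [Field L] [Algebra k L] (p : MvPolynomial σ k)
    (hp : Irreducible p) : Irreducible (MvPolynomial.map (algebraMap k L) p) := by
  have := isDomain_quot_of_irreducible p hp
  have := VarietyLib.isDomain_tensor_of_isAlgClosed k L (MvPolynomial σ k ⧸ Ideal.span ({p} : Set (MvPolynomial σ k)))
  have : IsDomain (MvPolynomial σ L ⧸ Ideal.span ({MvPolynomial.map (algebraMap k L) p} : Set (MvPolynomial σ L))) :=
    isDomain_of_equiv (B := L ⊗[k] (MvPolynomial σ k ⧸ Ideal.span ({p} : Set (MvPolynomial σ k)))) (bcEquiv L p).symm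
  have h0 : MvPolynomial.map (algebraMap k L) p ≠ 0 := (map_ne_zero_iff _
    (MvPolynomial.map_injective _ (algebraMap k L).injective)).2 hp.ne_zero
  exact ((Ideal.span_singleton_prime h0).1 ((Ideal.Quotient.isDomain_iff_prime _).1 this)).irreducible


/-- Let k be a field, Ω an algebraically closed extension of k and F a non-constant polynomial in k[T_1,
…, T_n]. The following are equivalent: (a) the k-scheme Spec(k[T_1, …, T_n]/(F)) is geometrically
integral; (b) for every extension field K of k the image of F in K[T_1, …, T_n] is irreducible; (c)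
the image of F in Ω[T_1, …, T_n] is irreducible. (Such an F is called geometrically irreducible.) -/
theorem result {k : Type u} [Field k] (Ω : Type u) [Field Ω] [Algebra k Ω]
    [IsAlgClosed Ω] {n : ℕ} (F : MvPolynomial (Fin n) k) (hF : 0 < F.totalDegree) :
    List.TFAE [
      GeometricallyIntegral (Spec.map (CommRingCat.ofHom
        (algebraMap k (MvPolynomial (Fin n) k ⧸ Ideal.span ({F} : Set (MvPolynomial (Fin n) k)))))),
      ∀ (K : Type u) [Field K] [Algebra k K], Irreducible (MvPolynomial.map (algebraMap k K) F),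
      Irreducible (MvPolynomial.map (algebraMap k Ω) F)] := by
  tfae_have 1 → 2 := by
    intro h K _ _
    have h1 := geometrically_iff_of_commRing_of_isClosedUnderIsomorphisms.1 h.geometrically_isIntegral K
    have h2 : IsIntegral (Spec (CommRingCat.of (K ⊗[k] (MvPolynomial (Fin n) k ⧸ Ideal.span ({F} : Set (MvPolynomial (Fin n) k)))))) :=
      IsIntegral.of_isIso (Limits.pullbackSymmetry _ _ ≪≫ pullbackSpecIso k K (MvPolynomial (Fin n) k ⧸ Ideal.span ({F} : Set (MvPolynomial (Fin n) k)))).hom
    have h3 := affine_isIntegral_iff _ |>.1 h2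
    have : IsDomain (MvPolynomial (Fin n) K ⧸ Ideal.span ({MvPolynomial.map (algebraMap k K) F} : Set (MvPolynomial (Fin n) K))) :=
      isDomain_of_equiv (B := K ⊗[k] (MvPolynomial (Fin n) k ⧸ Ideal.span ({F} : Set (MvPolynomial (Fin n) k)))) (bcEquiv K F).symm
    have hF0 : MvPolynomial.map (algebraMap k K) F ≠ 0 := fun h0 => by
      rw [(map_eq_zero_iff _ (MvPolynomial.map_injective _ (algebraMap k K).injective)).1 h0,
        MvPolynomial.totalDegree_zero] at hF
      exact lt_irrefl _ hF
    exact ((Ideal.span_singleton_prime hF0).1 ((Ideal.Quotient.isDomain_iff_prime _).1 this)).irreducible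
  tfae_have 2 → 3 := fun h => h Ω
  tfae_have 3 → 1 := by
    intro h
    refine ⟨geometrically_iff_of_commRing_of_isClosedUnderIsomorphisms.2 fun K _ _ => ?_⟩
    -- a common extension of `Ω` and `K`
    obtain ⟨m, hm⟩ := Ideal.exists_maximal (Ω ⊗[k] K)
    let : Field ((Ω ⊗[k] K) ⧸ m) := Ideal.Quotient.field m
    let L := (Ω ⊗[k] K) ⧸ m
    let iΩ : Ω →ₐ[k] L := (Ideal.Quotient.mkₐ k m).comp Algebra.TensorProduct.includeLeft
    let iK : K →ₐ[k] L := (Ideal.Quotient.mkₐ k m).comp Algebra.TensorProduct.includeRight
    letI := iΩ.toRingHom.toAlgebra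
    letI := iK.toRingHom.toAlgebra
    have hL := irreducible_map_of_isAlgClosed L _ h
    have e : MvPolynomial.map (algebraMap Ω L) (MvPolynomial.map (algebraMap k Ω) F) =
        MvPolynomial.map (algebraMap K L) (MvPolynomial.map (algebraMap k K) F) := by
      rw [MvPolynomial.map_map, MvPolynomial.map_map]
      congr 2
      exact RingHom.ext fun c => (iΩ.commutes c).trans (iK.commutes c).symm
    rw [e] at hL
    have := isDomain_quot_of_irreducible _ (irreducible_of_map L hL)
    have : IsDomain (K ⊗[k] (MvPolynomial (Fin n) k ⧸ Ideal.span ({F} : Set (MvPolynomial (Fin n) k)))) :=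
      isDomain_of_equiv (A := K ⊗[k] (MvPolynomial (Fin n) k ⧸ Ideal.span ({F} : Set (MvPolynomial (Fin n) k)))) (bcEquiv K F)
    exact IsIntegral.of_isIso (Limits.pullbackSymmetry _ _ ≪≫ pullbackSpecIso k K (MvPolynomial (Fin n) k ⧸ Ideal.span ({F} : Set (MvPolynomial (Fin n) k)))).inv
  tfae_finish

end Groth.Agent.S4824
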