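import Groth.Statements.S4825
import Groth.Agent.H8Lim.LocalFactor
import Mathlib

set_option backward.isDefEq.respectTransparency.types false

set_option autoImplicit false
open CategoryTheory AlgebraicGeometry
universe u
open Lim8

namespace Groth.Agent.S4825

open CategoryTheory.Limits in
/-- Let Y be a Noetherian scheme and f : X ⟶ Y a morphism of finite type. Then f admits a factorization
into an immersion followed by a finite morphism if and only if, for every point y of Y, the base
change X ×_Y Spec O_{Y,y} ⟶ Spec O_{Y,y} of f to the local scheme of Y at y admits such a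
factorization. (Pointwise criterion for pseudo-finite morphisms.) -/
theorem result {X Y : Scheme.{u}} (f : X ⟶ Y) [IsNoetherian Y]
    [LocallyOfFiniteType f] [QuasiCompact f] :
    (∃ (Y' : Scheme.{u}) (f' : X ⟶ Y') (u : Y' ⟶ Y), IsImmersion f' ∧ IsFinite u ∧ f' ≫ u = f) ↔
      ∀ y : Y, ∃ (Z : Scheme.{u}) (g : pullback f (Y.fromSpecStalk y) ⟶ Z) (u : Z ⟶ Spec (Y.presheaf.stalk y)),
        IsImmersion g ∧ IsFinite u ∧ g ≫ u = pullback.snd f (Y.fromSpecStalk y) := by
  constructor
  · rintro ⟨Y', f', u, hf', hu, rfl⟩ y
    let j := Y.fromSpecStalk y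
    refine ⟨pullback u j, pullback.lift (pullback.fst (f' ≫ u) j ≫ f') (pullback.snd (f' ≫ u) j)
      (by rw [Category.assoc]; exact pullback.condition), pullback.snd u j, ?_, inferInstance,
      pullback.lift_snd _ _ _⟩
    refine MorphismProperty.of_isPullback (P := @IsImmersion) (f := pullback.fst u j) (g := f')
      (f' := pullback.fst (f' ≫ u) j) ?_ hf'
    refine IsPullback.of_bot ?_ (pullback.lift_fst _ _ _).symm (IsPullback.of_hasPullback u j)
    rw [pullback.lift_snd]
    exact IsPullback.of_hasPullback (f' ≫ u) j
  · intro h
    have := LocallyOfFiniteType.isLocallyNoetherian f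
    have : CompactSpace X := QuasiCompact.compactSpace_of_compactSpace f
    have hg : IsImmersion f.toNormalization := by
      refine Groth.Agent.H8Lim.LocalFactor.isImmersion_toNormalization_of_local f fun y => ?_
      obtain ⟨Z, g, u, hg, hu, e⟩ := h y
      exact Groth.Agent.H8Lim.LocalFactor.exists_spread f y g u e
    have : LocallyOfFiniteType (f.toNormalization ≫ f.fromNormalization) := by
      rw [Scheme.Hom.toNormalization_fromNormalization]; infer_instance
    obtain ⟨Y', f', u, hf', hu, e⟩ :=
      Groth.Agent.H8Lim.exists_immersion_finite_of_integral (h := f.fromNormalization) f.toNormalization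
    exact ⟨Y', f', u, hf', hu, e.trans f.toNormalization_fromNormalization⟩

end Groth.Agent.S4825
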