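import Groth.Statements.S4833
import Groth.Agent.H8Coh.FibreFlatOver
import Groth.Agent.H8Top.Noetherian
-- import your own Groth.Agent.* helpers here

set_option autoImplicit false
set_option backward.isDefEq.respectTransparency.types false
open CategoryTheory AlgebraicGeometry
universe u
open Cons9

namespace Groth.Agent.S4833

open CategoryTheory.Limits in
/-- Let S be an integral Noetherian scheme with generic point η, let g : X ⟶ Y be an S-morphism between
schemes of finite type over S (structure morphisms h : Y ⟶ S and g ≫ h), and let F be a coherent
O_X-module. For s in S write g_s : X_s ⟶ Y_s for the morphism induced on the fibres over s and F_s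
for the pullback of F to X_s. If F_η is not flat relative to g_η (not flat over O_{Y_η, g_η(x)} at
some point x of X_η), then there is an open neighbourhood U of η such that for every s in U the
module F_s is not flat relative to g_s. -/
theorem result {X Y S : Scheme.{u}} [IsIntegral S] [IsNoetherian S]
    (g : X ⟶ Y) (h : Y ⟶ S) [LocallyOfFiniteType h] [QuasiCompact h]
    [LocallyOfFiniteType (g ≫ h)] [QuasiCompact (g ≫ h)]
    (F : X.Modules) [Coh.IsQCoh F] (hF : CohB1.IsFP F)
    (hη : ¬ FlatMod.IsFlatOver
      (pullback.lift (pullback.fst (g ≫ h) (S.fromSpecResidueField (genericPoint S)) ≫ g)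
          (pullback.snd (g ≫ h) (S.fromSpecResidueField (genericPoint S)))
          ((Category.assoc _ _ _).trans pullback.condition) :
        pullback (g ≫ h) (S.fromSpecResidueField (genericPoint S)) ⟶ pullback h (S.fromSpecResidueField (genericPoint S)))
      ((Scheme.Modules.pullback (pullback.fst (g ≫ h) (S.fromSpecResidueField (genericPoint S)))).obj F)) :
    ∃ U : S.Opens, genericPoint S ∈ U ∧ ∀ s ∈ U, ¬ FlatMod.IsFlatOver
      (pullback.lift (pullback.fst (g ≫ h) (S.fromSpecResidueField s) ≫ g) (pullback.snd (g ≫ h) (S.fromSpecResidueField s))
          ((Category.assoc _ _ _).trans pullback.condition) :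
        pullback (g ≫ h) (S.fromSpecResidueField s) ⟶ pullback h (S.fromSpecResidueField s))
      ((Scheme.Modules.pullback (pullback.fst (g ≫ h) (S.fromSpecResidueField s))).obj F) := by
  have : LocallyOfFinitePresentation (g ≫ h) :=
    LocallyOfFinitePresentation.iff_locallyOfFiniteType.2 inferInstance
  have : LocallyOfFinitePresentation h :=
    LocallyOfFinitePresentation.iff_locallyOfFiniteType.2 inferInstance
  have hc := (H8Coh.FibreFlatOver.isLocallyConstructible_setOf_fibre_isFlatOver g h F hF).isConstructible.compl
  obtain ⟨U, hUs, hU, hηU⟩ := mem_nhds_iff.1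
    ((H8Top.mem_nhds_iff_dense_on_irreducible_closed (genericPoint S) hc).2 fun Z hZ _ hmem => by
      have hZu : Z = Set.univ := Set.eq_univ_of_univ_subset (by
        rw [← (genericPoint_spec S).def]
        exact hZ.closure_subset_iff.2 (Set.singleton_subset_iff.2 hmem))
      rw [hZu, Set.inter_univ]
      intro s _
      exact closure_mono (Set.singleton_subset_iff.2 (by exact hη))
        ((genericPoint_spec S).specializes trivial).mem_closure)
  exact ⟨⟨U, hU⟩, hηU, fun s hs => hUs hs⟩

end Groth.Agent.S4833
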