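import Groth.Statements.S4836
import Mathlib

set_option backward.isDefEq.respectTransparency.types false

set_option autoImplicit false
universe u
open Cons9

namespace Groth.Agent.S4836

/-- Principle of finite extension. Let k be a field and C a property of extension fields of k (in a
fixed universe) satisfying: (i) if K has C and there is a k-homomorphism K → K', then K' has C; (ii)
if K has C, some subextension K' of K finitely generated over k has C; (iii) if K has C and K is the
field of fractions of an integral k-algebra of finite type A, then there is a nonzero f in A such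
that every field quotient of A_f (as a k-algebra) has C. If some extension of k has C, then some
finite extension of k has C (and then, by (i), so does every algebraically closed extension). -/
theorem result {k : Type u} [Field k]
    (C : ∀ (K : Type u) [Field K] [Algebra k K], Prop)
    (h₁ : ∀ (K K' : Type u) [Field K] [Algebra k K] [Field K'] [Algebra k K'],
      Nonempty (K →ₐ[k] K') → C K → C K')
    (h₂ : ∀ (K : Type u) [Field K] [Algebra k K], C K →
      ∃ K' : IntermediateField k K, K'.FG ∧ C K')
    (h₃ : ∀ (A K : Type u) [CommRing A] [IsDomain A] [Algebra k A] [Algebra.FiniteType k A]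
      [Field K] [Algebra k K] [Algebra A K] [IsScalarTower k A K] [IsFractionRing A K], C K →
      ∃ f : A, f ≠ 0 ∧ ∀ (K' : Type u) [Field K'] [Algebra k K'] (φ : Localization.Away f →ₐ[k] K'),
        Function.Surjective φ → C K')
    (hC : ∃ (K : Type u) (_ : Field K) (_ : Algebra k K), C K) :
    ∃ (K' : Type u) (_ : Field K') (_ : Algebra k K'), Module.Finite k K' ∧ C K' := by
  classical
  obtain ⟨K, _, _, hK⟩ := hC
  obtain ⟨K₁, ⟨s, hs⟩, hK₁⟩ := h₂ K hK
  let t : Finset K₁ := s.attach.image fun x =>
    (⟨x.1, by rw [← hs]; exact IntermediateField.subset_adjoin k _ x.2⟩ : K₁)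
  let A := Algebra.adjoin k (t : Set K₁)
  have : Algebra.FiniteType k A := (Subalgebra.fg_iff_finiteType A).mp ⟨t, rfl⟩
  have hgen : IntermediateField.adjoin k (t : Set K₁) = ⊤ := by
    apply IntermediateField.map_injective K₁.val
    rw [IntermediateField.adjoin_map, ← AlgHom.fieldRange_eq_map, IntermediateField.fieldRange_val]
    refine Eq.trans ?_ hs
    congr 1
    ext x
    simp only [t, Finset.coe_image, Set.mem_image, Finset.mem_coe, Finset.mem_attach, true_and,
      exists_exists_eq_and, IntermediateField.coe_val]
    exact ⟨fun ⟨a, ha⟩ => ha ▸ a.2, fun hx => ⟨⟨x, hx⟩, rfl⟩⟩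
  have : IsFractionRing A K₁ := by
    refine IsFractionRing.of_field A K₁ fun z => ?_
    have hz : z ∈ IntermediateField.adjoin k (t : Set K₁) := hgen ▸ trivial
    obtain ⟨a, ha, b, hb, e⟩ := IntermediateField.mem_adjoin_iff_div.mp hz
    exact ⟨⟨a, ha⟩, ⟨b, hb⟩, e⟩
  obtain ⟨g, hg, hgC⟩ := h₃ A K₁ hK₁
  have : Nontrivial (Localization.Away g) :=
    (IsLocalization.injective (M := Submonoid.powers g) (Localization.Away g)
      (powers_le_nonZeroDivisors_of_noZeroDivisors hg)).nontrivial
  obtain ⟨m, hm⟩ := Ideal.exists_maximal (Localization.Away g)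
  letI : Field (Localization.Away g ⧸ m) := Ideal.Quotient.field m
  have : Algebra.FiniteType A (Localization.Away g) := inferInstance
  have : Algebra.FiniteType k (Localization.Away g) := Algebra.FiniteType.trans (S := A) ‹_› ‹_›
  have : Algebra.FiniteType k (Localization.Away g ⧸ m) :=
    Algebra.FiniteType.of_surjective (Ideal.Quotient.mkₐ k m) (Ideal.Quotient.mkₐ_surjective k m)
  refine ⟨Localization.Away g ⧸ m, inferInstance, inferInstance, ?_,
    hgC _ (Ideal.Quotient.mkₐ k m) (Ideal.Quotient.mkₐ_surjective k m)⟩
  exact finite_of_finite_type_of_isJacobsonRing k (Localization.Away g ⧸ m)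

end Groth.Agent.S4836
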