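import Groth.Statements.S4837
import Groth.Agent.RelSpecLib.Basic
import Mathlib
-- import your own Groth.Agent.* helpers here

set_option autoImplicit false
set_option backward.isDefEq.respectTransparency false
open CategoryTheory AlgebraicGeometry
universe u
open Lim8

namespace Groth.Agent.S4837

/-- Let f : X ⟶ Y be a quasi-compact quasi-separated morphism, C a quasi-coherent O_Y-algebra with
relative spectrum Z = Spec(C) over Y, g : X ⟶ Z a Y-morphism which is an immersion, and φ : C ⟶
f_*O_X the homomorphism of O_Y-algebras corresponding to g (the canonical identification of C with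
the direct image of O_Z followed by the map induced by g). Then the scheme-theoretic image of g is
the whole of Z, i.e. the kernel ideal of g vanishes, if and only if φ is injective; and when this
holds g is an open immersion. -/
theorem result {X Y : Scheme.{u}} (f : X ⟶ Y)
    [QuasiCompact f] [QuasiSeparated f] (C : RelSpec.QCAlg Y) (g : X ⟶ C.spec) (w : g ≫ C.π = f)
    [IsImmersion g] (φ : C ⟶ RelSpec.QCAlg.directImage f)
    (hφ : C.gammaMap ≫ φ.hom = AffAlg.algHom C.π f g w) :
    (g.ker = ⊥ ↔ ∀ U : Y.Opens, Function.Injective (φ.hom.app (Opposite.op U)).hom) ∧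
      (g.ker = ⊥ → IsOpenImmersion g) := by
  subst w
  have : QuasiCompact g := QuasiCompact.of_comp g C.π
  have hgi : IsIso C.gammaMap := RelSpecLib.isIso_gammaMap (A := C)
  have hiff : ∀ U : Y.Opens, Function.Injective (φ.hom.app (Opposite.op U)).hom ↔
      Function.Injective (g.app (C.π ⁻¹ᵁ U)).hom := fun U => by
    have h := congrArg (fun t => t.app (Opposite.op U)) hφ
    change C.gammaMap.app (Opposite.op U) ≫ φ.hom.app (Opposite.op U) = _ at h
    have he : Function.Injective ((C.gammaMap.app (Opposite.op U)) ≫ φ.hom.app (Opposite.op U)).hom ↔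
        Function.Injective (φ.hom.app (Opposite.op U)).hom := by
      have hb := ConcreteCategory.bijective_of_isIso (C.gammaMap.app (Opposite.op U))
      rw [CommRingCat.hom_comp, RingHom.coe_comp]
      exact Function.Injective.of_comp_iff' _ hb
    rw [← he, h]
    simp only [AffAlg.algHom, eqToHom_refl, Category.comp_id, TopCat.Presheaf.pushforward_map_app]
    rfl
  have hker : g.ker = ⊥ → ∀ W : C.spec.Opens, Function.Injective (g.app W).hom := fun h W => by
    rw [injective_iff_map_eq_zero]
    intro s hs
    refine C.spec.IsSheaf.section_ext fun z hz => ?_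
    obtain ⟨V, hV, hzV, hVW⟩ := exists_isAffineOpen_mem_and_subset (X := C.spec) (x := z) (U := W) hz
    refine ⟨V, hVW, hzV, ?_⟩
    have h0 : (g.app V).hom (C.spec.presheaf.map (homOfLE hVW).op s) = 0 := by
      have := ConcreteCategory.congr_hom (g.naturality (homOfLE hVW).op) s
      simp only [ConcreteCategory.comp_apply] at this
      rw [this, hs, map_zero]
    have : C.spec.presheaf.map (homOfLE hVW).op s ∈ g.ker.ideal ⟨V, hV⟩ := by
      rw [Scheme.Hom.ker_apply]
      exact h0
    rw [h] at this
    rw [map_zero]
    exact (Submodule.mem_bot _).1 this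
  refine ⟨⟨fun h U => (hiff U).2 (hker h _), fun h => ?_⟩, fun h => ?_⟩
  · refine Scheme.IdealSheafData.ext_of_iSup_eq_top
      (U := fun U : Y.affineOpens => (⟨C.π ⁻¹ᵁ U.1, U.2.preimage C.π⟩ : C.spec.affineOpens))
      ?_ fun U => ?_
    · exact eq_top_iff.2 fun z _ => by
        obtain ⟨V, hV, hzV, -⟩ := exists_isAffineOpen_mem_and_subset (X := Y) (x := C.π z) (U := ⊤) trivial
        exact TopologicalSpace.Opens.mem_iSup.2 ⟨⟨V, hV⟩, hzV⟩
    · rw [Scheme.Hom.ker_apply, Scheme.IdealSheafData.ideal_bot, Pi.bot_apply]
      exact (RingHom.injective_iff_ker_eq_bot _).1 ((hiff U.1).1 (h U.1))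
  · have : IsIso g.imageι := by
      show IsIso g.ker.subschemeι
      rw [h]
      infer_instance
    rw [← g.toImage_imageι]
    infer_instance

end Groth.Agent.S4837
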