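import Groth.Statements.S4846
import Groth.Agent.H8Lim.RelAmpleStage
-- import your own Groth.Agent.* helpers here

set_option autoImplicit false
set_option backward.isDefEq.respectTransparency.types false
universe u
open CategoryTheory AlgebraicGeometry
open Lim8

namespace Groth.Agent.S4846

/-- Let S = lim S_i be a cofiltered limit of schemes with affine transition maps and S_{i₀} a
quasi-compact stage; let X₀ and Y₀ be schemes of finite presentation over S_{i₀}, f₀ : X₀ ⟶ Y₀ an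
S_{i₀}-morphism and L₀ an invertible O_{X₀}-module. Let f : X ⟶ Y be the base change of f₀ along S ⟶
S_{i₀} and L the pullback of L₀ to X (base changes are expressed by pullback squares). Then L is
ample relative to f if and only if, for some index j over i₀, the pullback L_j of L₀ to X_j is ample
relative to the base change f_j : X_j ⟶ Y_j of f₀ along S_j ⟶ S_{i₀}. This is the case of relative
ampleness (the very ample case is not stated here). -/
theorem result {I : Type u} [SmallCategory I] [IsCofiltered I]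
    (D : I ⥤ Scheme.{u}) (c : Limits.Cone D) (hc : Limits.IsLimit c)
    [∀ (i j : I) (f : i ⟶ j), IsAffineHom (D.map f)] (i₀ : I) [CompactSpace (D.obj i₀)]
    {X₀ Y₀ : Scheme.{u}} (f₀ : X₀ ⟶ Y₀) (g₀ : Y₀ ⟶ D.obj i₀)
    [LocallyOfFinitePresentation g₀] [QuasiCompact g₀] [QuasiSeparated g₀]
    [LocallyOfFinitePresentation (f₀ ≫ g₀)] [QuasiCompact (f₀ ≫ g₀)] [QuasiSeparated (f₀ ≫ g₀)]
    (L₀ : X₀.Modules) (hL₀ : PicF.IsInvertible L₀)
    {X Y : Scheme.{u}} (f : X ⟶ Y) (g : Y ⟶ c.pt) (qY : Y ⟶ Y₀) (qX : X ⟶ X₀)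
    (hY : IsPullback qY g g₀ (c.π.app i₀)) (hX : IsPullback qX f f₀ qY) :
    RelAmple.IsRelAmple f ((Scheme.Modules.pullback qX).obj L₀) ↔
      ∃ (j : I) (φ : j ⟶ i₀) (Xj Yj : Scheme.{u}) (fj : Xj ⟶ Yj) (gj : Yj ⟶ D.obj j) (pY : Yj ⟶ Y₀)
        (pX : Xj ⟶ X₀), IsPullback pY gj g₀ (D.map φ) ∧ IsPullback pX fj f₀ pY ∧
          RelAmple.IsRelAmple fj ((Scheme.Modules.pullback pX).obj L₀) := by
  have : QuasiCompact f₀ := QuasiCompact.of_comp f₀ g₀
  have : QuasiSeparated f₀ := QuasiSeparated.of_comp f₀ g₀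
  constructor
  · intro h
    obtain ⟨j, φ, hj⟩ := H8Lim.exists_stage_isRelAmple hc f₀ g₀ L₀ hL₀ f g qY qX hY hX h
    have hYj := IsPullback.of_hasPullback g₀ (D.map φ)
    have hXj := IsPullback.of_hasPullback f₀ (Limits.pullback.fst g₀ (D.map φ))
    exact ⟨j, φ, _, _, _, _, _, _, hYj, hXj, hj j (𝟙 j) _ _ _ _ (by rw [Category.id_comp]; exact hYj) hXj⟩
  · rintro ⟨j, φ, Xj, Yj, fj, gj, pY, pX, hYj, hXj, h⟩
    let rY := hYj.lift qY (g ≫ c.π.app j) (by rw [Category.assoc, c.w]; exact hY.w)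
    let rX := hXj.lift qX (f ≫ rY) (by rw [Category.assoc, hYj.lift_fst]; exact hX.w)
    have hsq : IsPullback rX f fj rY :=
      IsPullback.of_right (by rw [hXj.lift_fst, hYj.lift_fst]; exact hX) (hXj.lift_snd _ _ _) hXj
    have : QuasiCompact fj := MorphismProperty.of_isPullback hXj ‹QuasiCompact f₀›
    have hb := AmpleLib.isRelAmple_baseChange fj rY h
    rw [AmpleLib.isRelAmple_iff] at hb ⊢
    have hqf : QuasiCompact f := MorphismProperty.of_isPullback hsq ‹QuasiCompact fj›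
    refine ⟨hqf, fun V => ?_⟩
    let e := hsq.isoPullback
    have h1 := hb.2 V
    rw [AmpleLib.isAmple_pullback_comp_iff, AmpleLib.isAmple_pullback_comp_iff] at h1
    rw [AmpleLib.isAmple_pullback_comp_iff]
    have hle : f ⁻¹ᵁ V.1 = e.hom ⁻¹ᵁ (Limits.pullback.snd fj rY ⁻¹ᵁ V.1) := by
      rw [← Scheme.Hom.comp_preimage, hsq.isoPullback_hom_snd]
    rw [hle]
    have h2 := AmpleLib.isAmple_pullback_of_isAffineHom (e.hom ∣_ (Limits.pullback.snd fj rY ⁻¹ᵁ V.1)) h1
    rw [AmpleLib.isAmple_pullback_comp_iff] at h2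
    refine AmpleLib.isAmple_pullback_congr ?_ h2
    simp only [Category.assoc, morphismRestrict_ι_assoc, hsq.isoPullback_hom_fst_assoc, e, rX, hXj.lift_fst]

end Groth.Agent.S4846
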