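import Groth.Statements.S4847
import Groth.Agent.FlatCrit.Inj
import Groth.Agent.EGA43.Cons.FibFlatBridge
import Groth.Agent.AssSch12.Primary
import Groth.Prelude.Def_FlatMod2

set_option autoImplicit false
set_option backward.isDefEq.respectTransparency false
universe u
open EGA43

namespace Groth.Agent.S4847

open AlgebraicGeometry CategoryTheory Limits in
/-- Case 1° (fibrewise flatness criterion for locally Noetherian schemes): let S, X and Y be locally
Noetherian schemes, f : X ⟶ Y and h : Y ⟶ S arbitrary morphisms, F a coherent O_X-module and x a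
point of X with images y in Y and s in S, such that the stalk F_x is nonzero. Then F is flat over S
at x and F_x / m_s F_x is flat over O_{Y,y} / m_s O_{Y,y} (that is, the fibre module F_s is flat
over the fibre Y_s at x) if and only if h is flat at y and F is flat over Y at x. No finiteness
hypothesis on f or h is required in this case. -/
theorem result {X Y S : Scheme.{u}}
    [IsLocallyNoetherian X] [IsLocallyNoetherian Y] [IsLocallyNoetherian S]
    (f : X ⟶ Y) (h : Y ⟶ S) (F : X.Modules) (hF : Coh.IsCoh F) (x : X)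
    (hx : Nontrivial ↑(F.presheaf.stalk x)) :
    letI := FlatMod.moduleStalkOver f F x
    (FlatMod.IsFlatOverAt (f ≫ h) F x ∧
      Module.Flat (↑(Y.presheaf.stalk (f x)) ⧸ Ideal.map (h.stalkMap (f x)).hom (IsLocalRing.maximalIdeal ↑(S.presheaf.stalk (h (f x)))))
        (↑(F.presheaf.stalk x) ⧸ (Ideal.map (h.stalkMap (f x)).hom (IsLocalRing.maximalIdeal ↑(S.presheaf.stalk (h (f x)))) •
          (⊤ : Submodule ↑(Y.presheaf.stalk (f x)) ↑(F.presheaf.stalk x))))) ↔
    ((h.stalkMap (f x)).hom.Flat ∧ FlatMod.IsFlatOverAt f F x) := by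
  let := FlatMod.moduleStalkOver f F x
  let := FlatMod.moduleStalkOver (f ≫ h) F x
  let := (f.stalkMap x).hom.toAlgebra
  let := (h.stalkMap (f x)).hom.toAlgebra
  let := Module.compHom (F.presheaf.stalk x) ((h.stalkMap (f x)).hom)
  have : IsScalarTower (Y.presheaf.stalk (f x)) (X.presheaf.stalk x) (F.presheaf.stalk x) :=
    .of_algebraMap_smul fun _ _ => rfl
  have : IsScalarTower (S.presheaf.stalk (h (f x))) (Y.presheaf.stalk (f x)) (F.presheaf.stalk x) :=
    .of_algebraMap_smul fun _ _ => rfl
  have : Module.Finite (X.presheaf.stalk x) (F.presheaf.stalk x) :=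
    Groth.Agent.AssSch12.finite_stalk hF x
  have hfl : FlatMod.IsFlatOverAt (f ≫ h) F x ↔
      Module.Flat (S.presheaf.stalk (h (f x))) (F.presheaf.stalk x) := by
    suffices he : FlatMod.moduleStalkOver (f ≫ h) F x =
        Module.compHom (F.presheaf.stalk x) ((h.stalkMap (f x)).hom) by
      unfold FlatMod.IsFlatOverAt
      rw [he]
      rfl
    refine Module.ext' _ _ fun r m => ?_
    show ((f ≫ h).stalkMap x).hom r • m = (f.stalkMap x).hom ((h.stalkMap (f x)).hom r) • m
    rw [Scheme.Hom.stalkMap_comp]
    rfl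
  rw [hfl, Groth.Agent.EGA43.Cons.flat_quotient_iff_quotFlat, RingHom.Flat]
  show _ ↔ Module.Flat (S.presheaf.stalk (h (f x))) (Y.presheaf.stalk (f x)) ∧
    Module.Flat (Y.presheaf.stalk (f x)) (F.presheaf.stalk x)
  have hloc : IsLocalHom (f.stalkMap x).hom := inferInstance
  constructor
  · rintro ⟨h₁, h₂⟩
    have hy : Module.Flat (Y.presheaf.stalk (f x)) (F.presheaf.stalk x) := by
      refine Groth.Agent.FlatCrit.flat_of_rTensor_injective (S := X.presheaf.stalk x)
        ((IsLocalRing.maximalIdeal (S.presheaf.stalk (h (f x)))).map (h.stalkMap (f x)).hom)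
        ?_ ?_ h₂
      · rw [IsLocalRing.jacobson_eq_maximalIdeal ⊥ bot_ne_top]
        rw [Ideal.map_le_iff_le_comap, Ideal.map_le_iff_le_comap]
        intro a ha
        exact map_nonunit (f.stalkMap x).hom _ (map_nonunit (h.stalkMap (f x)).hom a ha)
      · exact Groth.Agent.FlatCrit.rTensor_map_injective
          (Module.Flat.rTensor_preserves_injective_linearMap _ Subtype.val_injective)
    refine ⟨?_, hy⟩
    have : Module.FaithfullyFlat (Y.presheaf.stalk (f x)) (F.presheaf.stalk x) := by
      refine ⟨fun m hm => ?_⟩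
      intro he
      have hm' := IsLocalRing.eq_maximalIdeal hm
      subst hm'
      have htop : (IsLocalRing.maximalIdeal (X.presheaf.stalk x)) •
          (⊤ : Submodule (X.presheaf.stalk x) (F.presheaf.stalk x)) = ⊤ := by
        refine top_le_iff.1 fun z _ => ?_
        have hz : z ∈ IsLocalRing.maximalIdeal (Y.presheaf.stalk (f x)) •
            (⊤ : Submodule (Y.presheaf.stalk (f x)) (F.presheaf.stalk x)) := he.ge trivial
        refine Submodule.smul_induction_on hz (fun a ha z _ => ?_) fun _ _ => add_mem
        show (f.stalkMap x).hom a • z ∈ _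
        exact Submodule.smul_mem_smul (map_nonunit (f.stalkMap x).hom a ha) trivial
      have hbot := Submodule.eq_bot_of_le_smul_of_le_jacobson_bot _ _ Module.Finite.fg_top
        htop.ge (IsLocalRing.maximalIdeal_le_jacobson ⊥)
      exact not_subsingleton (F.presheaf.stalk x)
        ⟨fun a b => ((Submodule.eq_bot_iff _).1 hbot a trivial).trans
          ((Submodule.eq_bot_iff _).1 hbot b trivial).symm⟩
    exact Groth.Agent.FlatCrit.flat_of_flat_of_faithfullyFlat (M := F.presheaf.stalk x)
  · rintro ⟨h₁, h₂⟩
    exact ⟨Module.Flat.trans _ (Y.presheaf.stalk (f x)) _,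
      Groth.Agent.FlatCrit.quotFlat_of_module_flat _⟩
end Groth.Agent.S4847
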