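import Groth.Statements.S4856
import Groth.Agent.EGA43.FlatBC.SpecBase
import Groth.Agent.AssSch12.Primary
-- import your own Groth.Agent.* helpers here

set_option autoImplicit false
set_option backward.isDefEq.respectTransparency false
universe u
open CategoryTheory AlgebraicGeometry
open EGA43

namespace Groth.Agent.S4856

open CategoryTheory.Limits in
/-- Let A be an Artinian local ring, f : X ⟶ Spec A locally of finite type, F a coherent O_X-module and
x a point of X. Let (u_i : A → A_i) be a family of ring homomorphisms into local rings such that an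
element of A killed by every u_i is zero. If, for every i, the pullback of F to X_i = X ×_{Spec A}
Spec A_i is flat over Spec A_i at every point of X_i whose images are x in X and the closed point in
Spec A_i, then F is f-flat at x. -/
theorem result {A : Type u} [CommRing A]
    [IsArtinianRing A] [IsLocalRing A] {X : Scheme.{u}} (f : X ⟶ Spec (CommRingCat.of A))
    [LocallyOfFiniteType f] (F : X.Modules) (hF : Coh.IsCoh F) (x : X)
    {ι : Type u} (A' : ι → Type u) [∀ i, CommRing (A' i)] [∀ i, IsLocalRing (A' i)] (u : ∀ i, A →+* A' i)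
    (hu : ∀ a : A, (∀ i, u i a = 0) → a = 0)
    (hflat : ∀ (i : ι) (x' : ↥(pullback f (Spec.map (CommRingCat.ofHom (u i))))),
      pullback.fst f (Spec.map (CommRingCat.ofHom (u i))) x' = x →
      pullback.snd f (Spec.map (CommRingCat.ofHom (u i))) x' = IsLocalRing.closedPoint (A' i) →
      FlatMod.IsFlatOverAt (pullback.snd f (Spec.map (CommRingCat.ofHom (u i))))
        ((Scheme.Modules.pullback (pullback.fst f (Spec.map (CommRingCat.ofHom (u i))))).obj F) x') :
    FlatMod.IsFlatOverAt f F x := by
  open Groth.Agent.EGA43.FlatBC in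
  haveI := Groth.Agent.EGA43.FlatBC.subsingleton_spec A
  haveI : IsNoetherianRing A := inferInstance
  haveI : IsLocallyNoetherian X := LocallyOfFiniteType.isLocallyNoetherian f
  haveI := Groth.Agent.AssSch12.finite_stalk hF x
  let g : ∀ i, Spec (CommRingCat.of (A' i)) ⟶ Spec (CommRingCat.of A) := fun i => Spec.map (CommRingCat.ofHom (u i))
  let y : ∀ i, ↥(Spec (CommRingCat.of (A' i))) := fun i => IsLocalRing.closedPoint (A' i)
  have h : ∀ i, f x = g i (y i) := fun i => Subsingleton.elim _ _
  have hp : (f x : PrimeSpectrum A).asIdeal = IsLocalRing.maximalIdeal A := by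
    rw [Subsingleton.elim (f x) (IsLocalRing.closedPoint A)]
    rfl
  have hb := toStalk_bijective A (f x) hp
  refine isFlatOverAt_of_family f F g y x ?_ h (fun a ha => ?_) hflat
  · let e := RingEquiv.ofBijective _ hb
    haveI : IsArtinianRing ((Spec (CommRingCat.of A)).presheaf.stalk (f x)) :=
      Function.Surjective.isArtinianRing (f := e.toRingHom) e.surjective
    obtain ⟨n, hn⟩ := IsArtinianRing.isNilpotent_jacobson_bot
      (R := (Spec (CommRingCat.of A)).presheaf.stalk (f x))
    rw [IsLocalRing.jacobson_eq_maximalIdeal ⊥ bot_ne_top] at hn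
    exact ⟨n, hn⟩
  · obtain ⟨r, rfl⟩ := hb.2 a
    rw [hu r fun i => ?_, map_zero]
    refine (toStalk_bijective (A' i) (y i) rfl).1 ?_
    rw [map_zero]
    refine Eq.trans ?_ (ha i)
    exact (ConcreteCategory.congr_hom (toStalk_baseMap f (u i) x (y i) (h i)) r).symm

end Groth.Agent.S4856
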