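import Groth.Statements.S4859
import Groth.Agent.EGA43.VeryDense

set_option autoImplicit false
universe u
open EGA43

namespace Groth.Agent.S4859

/-- Conditions a), a′), b) (quasi-homeomorphisms): for a continuous map f : X₀ → X the following are
equivalent: taking preimages is a bijection from the open subsets of X onto the open subsets of X₀;
taking preimages is a bijection from the closed subsets of X onto the closed subsets of X₀; the
topology of X₀ is induced from X through f and the image f(X₀) is very dense in X, in the sense that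
two open subsets of X with the same trace on f(X₀) coincide. -/
theorem result {X₀ X : Type u} [TopologicalSpace X₀] [TopologicalSpace X]
    (f : X₀ → X) (hf : Continuous f) :
    [Function.Bijective (fun U : TopologicalSpace.Opens X =>
        (⟨f ⁻¹' (U : Set X), U.isOpen.preimage hf⟩ : TopologicalSpace.Opens X₀)),
      Function.Bijective (fun F : TopologicalSpace.Closeds X =>
        (⟨f ⁻¹' (F : Set X), F.isClosed.preimage hf⟩ : TopologicalSpace.Closeds X₀)),
      Topology.IsInducing f ∧
        ∀ U V : Set X, IsOpen U → IsOpen V → U ∩ Set.range f = V ∩ Set.range f → U = V].TFAE := by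
  have hcl : ∀ U : TopologicalSpace.Opens X, f ⁻¹' (↑U : Set X)ᶜ = (f ⁻¹' (U : Set X))ᶜ := fun U => rfl
  tfae_have 1 → 3 := fun h => ⟨(Groth.Agent.EGA43.qh_of_bijective hf h).isInducing hf,
    fun U V hU hV e => (Groth.Agent.EGA43.qh_of_bijective hf h).1 U V hU hV
      (Groth.Agent.EGA43.preimage_eq_of_inter_range_eq e)⟩
  tfae_have 3 → 1 := fun h => (Groth.Agent.EGA43.qh_of_inducing h.1
      (Groth.Agent.EGA43.veryDense_of_opens_inj h.2)).bijective hf
  tfae_have 1 → 2 := by
    intro h
    refine ⟨fun F G e => ?_, fun G => ?_⟩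
    · have := h.1 (a₁ := F.compl) (a₂ := G.compl) (SetLike.ext' (congrArg compl (congrArg SetLike.coe e)))
      exact SetLike.ext' (compl_injective (congrArg SetLike.coe this))
    · obtain ⟨U, hU⟩ := h.2 G.compl
      refine ⟨U.compl, SetLike.ext' ?_⟩
      show (f ⁻¹' (U : Set X))ᶜ = (G : Set X₀)
      rw [show f ⁻¹' (U : Set X) = (G : Set X₀)ᶜ from congrArg SetLike.coe hU, compl_compl]
  tfae_have 2 → 1 := by
    intro h
    refine ⟨fun F G e => ?_, fun G => ?_⟩
    · have := h.1 (a₁ := F.compl) (a₂ := G.compl) (SetLike.ext' (congrArg compl (congrArg SetLike.coe e)))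
      exact SetLike.ext' (compl_injective (congrArg SetLike.coe this))
    · obtain ⟨U, hU⟩ := h.2 G.compl
      refine ⟨U.compl, SetLike.ext' ?_⟩
      show (f ⁻¹' (U : Set X))ᶜ = (G : Set X₀)
      rw [show f ⁻¹' (U : Set X) = (G : Set X₀)ᶜ from congrArg SetLike.coe hU, compl_compl]
  tfae_finish

end Groth.Agent.S4859
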