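import Groth.Statements.S4860
import Groth.Agent.EGA43.GScheme

set_option autoImplicit false
universe u
open EGA43

namespace Groth.Agent.S4860

/-- For an integral domain B the following are equivalent: a) the localization B_f is a field for some
nonzero f; b) the fraction field of B is a finitely generated B-algebra; c) there is a field
containing B (an injective algebra map from B) which is a finitely generated B-algebra; d) the
generic point of Spec B is open. -/
theorem result (B : Type u) [CommRing B] [IsDomain B] :
    [∃ f : B, f ≠ 0 ∧ IsField (Localization.Away f),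
      Algebra.FiniteType B (FractionRing B),
      ∃ (K : Type u) (_ : Field K) (_ : Algebra B K), Function.Injective (algebraMap B K) ∧ Algebra.FiniteType B K,
      IsOpen ({⟨⊥, Ideal.bot_prime⟩} : Set (PrimeSpectrum B))].TFAE := by
  tfae_have 1 → 2 := fun h => Groth.Agent.EGA43.finiteType_fractionRing_of_isG B ((Groth.Agent.EGA43.isG_iff_exists_isField_away B).2 h)
  tfae_have 2 → 3 := fun h => ⟨FractionRing B, inferInstance, inferInstance, IsFractionRing.injective B _, h⟩
  tfae_have 3 → 4 := by
    rintro ⟨K, _, _, hinj, hft⟩
    exact (Groth.Agent.EGA43.isG_iff_isOpen B).1 (Groth.Agent.EGA43.isG_of_finiteType_field B K hinj)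
  tfae_have 4 → 1 := fun h => (Groth.Agent.EGA43.isG_iff_exists_isField_away B).1 ((Groth.Agent.EGA43.isG_iff_isOpen B).2 h)
  tfae_finish

end Groth.Agent.S4860
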