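import Groth.Statements.S4861
import Groth.Agent.EGA43.GScheme

set_option autoImplicit false
universe u
open EGA43

namespace Groth.Agent.S4861

/-- For a Noetherian integral domain B the following are equivalent (and hence equivalent to: the
fraction field of B is a finitely generated B-algebra; the generic point of Spec B is open): a) the
localization B_f is a field for some nonzero f; e) Spec B is finite; f) B is semi-local (finitely
many maximal ideals) of Krull dimension at most 1. -/
theorem result (B : Type u) [CommRing B] [IsDomain B]
    [IsNoetherianRing B] :
    [∃ f : B, f ≠ 0 ∧ IsField (Localization.Away f),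
      Finite (PrimeSpectrum B),
      Finite (MaximalSpectrum B) ∧ ringKrullDim B ≤ 1].TFAE := by
  tfae_have 1 → 2 := fun h => Groth.Agent.EGA43.finite_of_isG B ((Groth.Agent.EGA43.isG_iff_exists_isField_away B).2 h)
  tfae_have 2 → 3 := fun h => (Groth.Agent.EGA43.isG_iff_semilocal B).1 (Groth.Agent.EGA43.isG_of_finite B)
  tfae_have 3 → 1 := fun h => (Groth.Agent.EGA43.isG_iff_exists_isField_away B).1 ((Groth.Agent.EGA43.isG_iff_semilocal B).2 h)
  tfae_finish

end Groth.Agent.S4861
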