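import Groth.Statements.S4862
import Groth.Agent.EGA43.GScheme

set_option autoImplicit false
universe u
open EGA43

namespace Groth.Agent.S4862

/-- For a commutative ring A the following are equivalent: a) A is a Jacobson ring; b) for every prime
ideal p of A which is not maximal and every nonzero f of B = A/p, the localization B_f is not a
field; b′) every finitely generated A-algebra which is a field is a finite A-module. -/
theorem result (A : Type u) [CommRing A] :
    [IsJacobsonRing A,
      ∀ (p : Ideal A) [p.IsPrime], ¬ p.IsMaximal → ∀ f : A ⧸ p, f ≠ 0 → ¬ IsField (Localization.Away f),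
      ∀ (K : Type u) [Field K] [Algebra A K], Algebra.FiniteType A K → Module.Finite A K].TFAE := by
  tfae_have 1 → 2 := fun h p _ hp f hf hF =>
    hp (Groth.Agent.EGA43.isMaximal_of_isG p ((Groth.Agent.EGA43.isG_iff_exists_isField_away _).2 ⟨f, hf, hF⟩))
  tfae_have 2 → 1 := fun h => Groth.Agent.EGA43.isJacobsonRing_of_forall_isG fun p _ hG => by
    by_contra hp
    obtain ⟨f, hf, hF⟩ := (Groth.Agent.EGA43.isG_iff_exists_isField_away _).1 hG
    exact h p hp f hf hF
  tfae_have 1 → 3 := fun h K _ _ hK => finite_of_finite_type_of_isJacobsonRing A K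
  tfae_have 3 → 2 := by
    intro h p _ hp f hf hF
    have hG : Groth.Agent.EGA43.IsG (A ⧸ p) := (Groth.Agent.EGA43.isG_iff_exists_isField_away _).2 ⟨f, hf, hF⟩
    have hft : Algebra.FiniteType (A ⧸ p) (FractionRing (A ⧸ p)) :=
      Groth.Agent.EGA43.finiteType_fractionRing_of_isG _ hG
    have : Algebra.FiniteType A (A ⧸ p) := inferInstance
    have hft' : Algebra.FiniteType A (FractionRing (A ⧸ p)) := Algebra.FiniteType.trans this hft
    have hfin : Module.Finite A (FractionRing (A ⧸ p)) := h _ hft'
    have : Module.Finite (A ⧸ p) (FractionRing (A ⧸ p)) := Module.Finite.of_restrictScalars_finite A _ _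
    exact hp (Ideal.Quotient.maximal_of_isField _ (isField_of_isIntegral_of_isField
      (IsFractionRing.injective (A ⧸ p) (FractionRing (A ⧸ p))) (Field.toIsField _)))
  tfae_finish

end Groth.Agent.S4862
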