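import Groth.Statements.S4864
import Groth.Agent.EGA43.QcohFlat
import Groth.Agent.H8Top.SchemeBasic

set_option autoImplicit false
set_option backward.isDefEq.respectTransparency false
universe u
open EGA43

namespace Groth.Agent.S4864

open AlgebraicGeometry CategoryTheory Limits in
/-- Let f : X ⟶ Y and g : Y ⟶ Z be morphisms of finite presentation and F a quasi-coherent O_X-module of
finite presentation. Then the set U of points y of Y such that, for every generization y' of y, F is
(f ≫ g)-flat at every point of X above y', is open in Y. -/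
theorem result {X Y Z : Scheme.{u}} (f : X ⟶ Y) (g : Y ⟶ Z)
    [LocallyOfFinitePresentation f] [QuasiCompact f] [QuasiSeparated f]
    [LocallyOfFinitePresentation g] [QuasiCompact g] [QuasiSeparated g]
    (F : X.Modules) [Coh.IsQCoh F] (hF : CohB1.IsFP F) :
    IsOpen {y : Y | ∀ y' : Y, y' ⤳ y → ∀ x : X, f x = y' → FlatMod.IsFlatOverAt (f ≫ g) F x} := by
  have hO := Groth.Agent.EGA43.QcohFlat.isOpen_setOf_isFlatOverAt (f ≫ g) F hF
  let Z : TopologicalSpace.Closeds X :=
    ⟨{x : X | FlatMod.IsFlatOverAt (f ≫ g) F x}ᶜ, hO.isClosed_compl⟩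
  let j := (Scheme.IdealSheafData.vanishingIdeal Z).subschemeι
  have hj : Set.range j = (Z : Set X) := by
    rw [Scheme.IdealSheafData.range_subschemeι, Scheme.IdealSheafData.coe_support_vanishingIdeal]
  have hrange : Set.range (j ≫ f) = f '' (Z : Set X) := by
    rw [← hj, ← Set.range_comp]
    rfl
  have key : {y : Y | ∀ y' : Y, y' ⤳ y → ∀ x : X, f x = y' →
      FlatMod.IsFlatOverAt (f ≫ g) F x} = (closure (f '' (Z : Set X)))ᶜ := by
    ext y
    constructor
    · intro hy hmem
      obtain ⟨z, hz⟩ := Groth.Agent.H8Top.exists_specializes_of_mem_closure_range (j ≫ f)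
        (y := y) (hrange ▸ hmem)
      have hzZ : j z ∈ (Z : Set X) := hj ▸ ⟨z, rfl⟩
      exact hzZ (hy (f (j z)) hz (j z) rfl)
    · intro hy y' hy' x hx
      by_contra h
      refine hy (hy'.mem_closed isClosed_closure (subset_closure ⟨x, h, hx⟩))
  rw [key]
  exact isClosed_closure.isOpen_compl

end Groth.Agent.S4864
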