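import Groth.Statements.S4865
import Groth.Agent.EGA43.FlatDescent.Global

set_option autoImplicit false
set_option backward.isDefEq.respectTransparency false
universe u
open EGA43

namespace Groth.Agent.S4865

open TensorProduct in
theorem aux {A B C : Type u} [CommRing A] [CommRing B] [CommRing C]
    [Algebra A B] [Algebra B C] [Algebra A C] [IsScalarTower A B C]
    [Algebra.FinitePresentation A B] [Algebra.FinitePresentation B C]
    (M : Type u) [AddCommGroup M] [Module C M] [Module B M] [Module A M]
    [IsScalarTower B C M] [IsScalarTower A C M] [IsScalarTower A B M]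
    [Module.FinitePresentation C M] :
    IsOpen {q : PrimeSpectrum B | Module.Flat A (LocalizedModule q.asIdeal.primeCompl M)} := by
  have : Algebra.FinitePresentation A C := Algebra.FinitePresentation.trans A B C
  let W := {r : PrimeSpectrum C | Module.Flat A (LocalizedModule r.asIdeal.primeCompl M)}
  have hW : IsOpen W := Groth.Agent.EGA43.FlatDescent.isOpen_setOf_flat
  obtain ⟨J, hJ⟩ := (PrimeSpectrum.isClosed_iff_zeroLocus_ideal _).1 hW.isClosed_compl
  have hW' : ∀ r : PrimeSpectrum C, r ∉ W ↔ J ≤ r.asIdeal := fun r => by
    rw [← Set.mem_compl_iff, hJ]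
    exact PrimeSpectrum.mem_zeroLocus _ _
  suffices h : ∀ q : PrimeSpectrum B,
      Module.Flat A (LocalizedModule q.asIdeal.primeCompl M) ↔
        ¬ J.comap (algebraMap B C) ≤ q.asIdeal by
    have he : {q : PrimeSpectrum B | Module.Flat A (LocalizedModule q.asIdeal.primeCompl M)} =
        (PrimeSpectrum.zeroLocus (J.comap (algebraMap B C) : Set B))ᶜ := Set.ext fun q => h q
    rw [he]
    exact (PrimeSpectrum.isClosed_zeroLocus _).isOpen_compl
  intro q
  constructor
  · intro h hle
    obtain ⟨m, hm, hmq⟩ := Ideal.exists_minimalPrimes_le hle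
    obtain ⟨r, hr, hrJ, hrc⟩ := Ideal.exists_comap_eq_of_mem_minimalPrimes (algebraMap B C) m hm
    refine (hW' ⟨r, hr⟩).2 hrJ ?_
    refine (@Module.Flat.iff_rTensor_preserves_injective_linearMap A
      (LocalizedModule r.primeCompl M) _ _ _).2 fun X Y _ _ _ _ i hi => ?_
    refine Groth.Agent.EGA43.FlatOpen.rTensor_injective_localized (S := C) i _ fun z hz => ?_
    obtain ⟨t, ht, htz⟩ :=
      Groth.Agent.EGA43.FlatOpen.exists_smul_eq_zero_of_flat (S := B) i hi q.asIdeal.primeCompl z hz
    exact ⟨algebraMap B C t, fun hh => ht (hmq (hrc ▸ Ideal.mem_comap.2 hh)),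
      by rw [algebraMap_smul, htz]⟩
  · intro hq
    refine (@Module.Flat.iff_rTensor_preserves_injective_linearMap A
      (LocalizedModule q.asIdeal.primeCompl M) _ _ _).2 fun X Y _ _ _ _ i hi => ?_
    refine Groth.Agent.EGA43.FlatOpen.rTensor_injective_localized (S := B) i _ fun z hz => ?_
    by_contra! hne
    let Ann : Ideal C := LinearMap.ker (LinearMap.toSpanSingleton C (M ⊗[A] X) z)
    obtain ⟨r, hr, hle, hdis⟩ := Ideal.exists_le_prime_disjoint Ann
      (Algebra.algebraMapSubmonoid C q.asIdeal.primeCompl) (Set.disjoint_left.2 fun c hc hc' => by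
        obtain ⟨t, ht, rfl⟩ := hc'
        have : algebraMap B C t • z = 0 := hc
        rw [algebraMap_smul] at this
        exact hne t ht this)
    have hrW : (⟨r, hr⟩ : PrimeSpectrum C) ∈ W := by
      by_contra hn
      refine hq fun b hb => ?_
      by_contra hbq
      exact Set.disjoint_left.1 hdis ((hW' _).1 hn hb) ⟨b, hbq, rfl⟩
    have : Module.Flat A (LocalizedModule r.primeCompl M) := hrW
    obtain ⟨t, ht, htz⟩ :=
      Groth.Agent.EGA43.FlatOpen.exists_smul_eq_zero_of_flat (S := C) i hi r.primeCompl z hz
    exact ht (hle htz)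

/-- Let A be a commutative ring, B a finitely presented A-algebra, C a finitely presented B-algebra and
M a finitely presented C-module. Then the set of prime ideals q of B such that the localized module
M_q (M regarded as a B-module) is flat over A is open in Spec B. -/
theorem result {A B C : Type u} [CommRing A] [CommRing B] [CommRing C]
    [Algebra A B] [Algebra B C] [Algebra A C] [IsScalarTower A B C]
    [Algebra.FinitePresentation A B] [Algebra.FinitePresentation B C]
    (M : Type u) [AddCommGroup M] [Module C M] [Module B M] [Module A M]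
    [IsScalarTower B C M] [IsScalarTower A C M] [IsScalarTower A B M] [Module.FinitePresentation C M] :
    IsOpen {q : PrimeSpectrum B | Module.Flat A (LocalizedModule q.asIdeal.primeCompl M)} := by
  exact aux (C := C) M

end Groth.Agent.S4865
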