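import Groth.Statements.S4872
import Groth.Agent.EGA43.SchDom

set_option autoImplicit false
universe u
open CategoryTheory AlgebraicGeometry
open EGA43

namespace Groth.Agent.S4872

/-- Conditions b), c), d) (schematically dominant families): let p : X ⟶ S be a morphism and (f_i : Z_i
⟶ X) a family of morphisms. The following are equivalent: b) for every open V of X, a section of O_X
over V whose images in all the Γ(f_i⁻¹(V), O_{Z_i}) are zero is zero; c) for every open U of X, a
closed immersion j : Y ⟶ U through which each restriction f_i⁻¹(U) ⟶ U factors is an isomorphism; d)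
for every separated S-scheme X', every open U of X and every pair of S-morphisms u, v : U ⟶ X'
having the same composite with each f_i⁻¹(U) ⟶ U, one has u = v. -/
theorem result {X S : Scheme.{u}} (p : X ⟶ S) {ι : Type u} (Z : ι → Scheme.{u})
    (f : ∀ i, Z i ⟶ X) :
    [(∀ (V : (X).Opens) (t : Γ(X, V)), (∀ i, (f i).app V t = 0) → t = 0),
      ∀ (U : X.Opens) (Y : Scheme.{u}) (j : Y ⟶ (U : Scheme.{u})), IsClosedImmersion j →
        (∀ i, ∃ g : ((f i) ⁻¹ᵁ U : Scheme.{u}) ⟶ Y, g ≫ j = (f i) ∣_ U) → IsIso j,
      ∀ (X' : Scheme.{u}) (q : X' ⟶ S), IsSeparated q → ∀ (U : X.Opens) (u v : (U : Scheme.{u}) ⟶ X'),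
        u ≫ q = U.ι ≫ p → v ≫ q = U.ι ≫ p → (∀ i, ((f i) ∣_ U) ≫ u = ((f i) ∣_ U) ≫ v) → u = v].TFAE := by
  tfae_have 1 → 2 := fun h U Y j hj hg => Groth.Agent.EGA43.SchDom.isIso_of_factor (Groth.Agent.EGA43.SchDom.restrict h U) j hg
  tfae_have 2 → 3 := by
    intro h X' q hq U u v hu hv he
    let w : (U : Scheme.{u}) ⟶ Limits.pullback q q := Limits.pullback.lift u v (hu.trans hv.symm)
    have hc : IsClosedImmersion (Limits.pullback.fst w (Limits.pullback.diagonal q)) :=
      (IsClosedImmersion.isStableUnderBaseChange).of_isPullback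
        (CategoryTheory.IsPullback.of_hasPullback w (Limits.pullback.diagonal q)).flip
        IsSeparated.isClosedImmersion_diagonal
    have hiso : IsIso (Limits.pullback.fst w (Limits.pullback.diagonal q)) := by
      refine h U _ _ hc fun i => ⟨Limits.pullback.lift (f i ∣_ U) ((f i ∣_ U) ≫ u) ?_,
        Limits.pullback.lift_fst _ _ _⟩
      apply Limits.pullback.hom_ext
      · simp only [w, Category.assoc, Limits.pullback.diagonal_fst, Category.comp_id,
          Limits.pullback.lift_fst]
      · simp only [w, Category.assoc, Limits.pullback.diagonal_snd, Category.comp_id,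
          Limits.pullback.lift_snd, he i]
    rw [← cancel_epi (Limits.pullback.fst w (Limits.pullback.diagonal q))]
    have h1 := congrArg (· ≫ Limits.pullback.fst q q)
      (Limits.pullback.condition (f := w) (g := Limits.pullback.diagonal q))
    have h2 := congrArg (· ≫ Limits.pullback.snd q q)
      (Limits.pullback.condition (f := w) (g := Limits.pullback.diagonal q))
    simp only [w, Category.assoc, Limits.pullback.diagonal_fst, Limits.pullback.diagonal_snd,
      Category.comp_id, Limits.pullback.lift_fst, Limits.pullback.lift_snd] at h1 h2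
    rw [h1, h2]
  tfae_have 3 → 1 := fun h => Groth.Agent.EGA43.schDom_of_forall_separated p h
  tfae_finish

end Groth.Agent.S4872
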