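import Groth.Statements.S4880
import Groth.Agent.EGA43.GScheme

set_option autoImplicit false
universe u
open CategoryTheory AlgebraicGeometry
open EGA43

namespace Groth.Agent.S4880

/-- For a Noetherian irreducible scheme X the following are equivalent: a) the generic point of X is an
isolated point; b) the underlying set of X is finite; c) X has dimension at most 1 and finitely many
closed points. -/
theorem result (X : Scheme.{u}) [IsNoetherian X]
    [IrreducibleSpace X] :
    [IsOpen ({genericPoint X} : Set X),
      Finite X,
      topologicalKrullDim X ≤ 1 ∧ {x : X | IsClosed ({x} : Set X)}.Finite].TFAE := by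
  tfae_have 1 → 2 := by
    intro h
    have hf := Groth.Agent.EGA43.finite_closure_of_isLocallyClosed h.isLocallyClosed
    rw [genericPoint_closure] at hf
    exact Set.finite_univ_iff.1 hf
  tfae_have 2 → 1 := by
    intro h
    rw [← isClosed_compl_iff]
    refine isClosed_of_closure_subset fun z hz => ?_
    rw [← Set.biUnion_of_singleton ({genericPoint X}ᶜ : Set X),
      (Set.toFinite _).closure_biUnion] at hz
    obtain ⟨a, ha, hza⟩ := Set.mem_iUnion₂.1 hz
    intro hzg
    rw [Set.mem_singleton_iff] at hzg
    subst hzg
    have h1 : a ⤳ genericPoint X := specializes_iff_mem_closure.2 hza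
    exact ha (h1.antisymm ((genericPoint_spec X).specializes trivial)).eq
  tfae_have 2 → 3 := by
    intro h
    refine ⟨?_, Set.toFinite _⟩
    rw [topologicalKrullDim, Order.krullDim_le_one_iff]
    intro C
    obtain ⟨c, hc⟩ : ∃ c, IsGenericPoint c (C : Set X) := QuasiSober.sober C.2 C.3
    by_cases hlc : c = genericPoint X
    · refine Or.inr fun D hD => ?_
      show (D : Set X) ⊆ C
      rw [← hc.def, hlc, genericPoint_closure]
      exact Set.subset_univ _
    · refine Or.inl fun D hD => ?_
      obtain ⟨w, hw⟩ : ∃ w, IsGenericPoint w (D : Set X) := QuasiSober.sober D.2 D.3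
      have hopen : IsLocallyClosed ({genericPoint X} : Set X) := by
        refine IsOpen.isLocallyClosed ?_
        exact tfae_2_to_1 h
      have hwe := Groth.Agent.EGA43.no_chain_of_isLocallyClosed hopen ((genericPoint_spec X).specializes trivial)
        (hc.specializes (hD hw.mem)) (Ne.symm hlc)
      show (C : Set X) ⊆ D
      rw [← hc.def, hwe, hw.def]
  tfae_have 3 → 2 := by
    rintro ⟨hdim, hfin⟩
    rw [topologicalKrullDim, Order.krullDim_le_one_iff] at hdim
    refine Set.finite_univ_iff.1 ((hfin.insert (genericPoint X)).subset fun x _ => ?_)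
    by_contra hx
    simp only [Set.mem_insert_iff, Set.mem_ofPred_eq, not_or] at hx
    obtain ⟨y, hy, hyx⟩ : ∃ y ∈ closure ({x} : Set X), y ≠ x := by
      by_contra hh
      push Not at hh
      exact hx.2 (isClosed_of_closure_subset fun y hy => hh y hy)
    rcases hdim ⟨closure {x}, isIrreducible_singleton.closure, isClosed_closure⟩ with hmin | hmax
    · have hle : closure ({x} : Set X) ⊆ closure {y} :=
        hmin (b := ⟨closure {y}, isIrreducible_singleton.closure, isClosed_closure⟩)
          (closure_minimal (Set.singleton_subset_iff.2 hy) isClosed_closure)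
      have h1 : y ⤳ x := specializes_iff_mem_closure.2 (hle (subset_closure rfl))
      exact hyx (h1.antisymm (specializes_iff_mem_closure.2 hy)).eq
    · have hle : (Set.univ : Set X) ⊆ closure {x} :=
        hmax (b := ⟨Set.univ, IrreducibleSpace.isIrreducible_univ X, isClosed_univ⟩) (Set.subset_univ _)
      have h1 : x ⤳ genericPoint X := specializes_iff_mem_closure.2 (hle trivial)
      exact hx.1 (h1.antisymm ((genericPoint_spec X).specializes trivial)).eq
  tfae_finish

end Groth.Agent.S4880
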