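import Groth.Statements.S4897
import Groth.Agent.EGA43.VeryDense

set_option autoImplicit false
universe u
open EGA43

namespace Groth.Agent.S4897

/-- Let f : X → Y be a quasi-homeomorphism, i.e. a continuous map such that U ↦ f⁻¹(U) is a bijection
from the open subsets of Y onto the open subsets of X. Then Z ↦ f⁻¹(Z) induces bijections from the
locally closed (resp. constructible, resp. locally constructible) subsets of Y onto those of X. -/
theorem result {X Y : Type u}
    [TopologicalSpace X] [TopologicalSpace Y] (f : X → Y) (hf : Continuous f)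
    (hq : Function.Bijective (fun U : TopologicalSpace.Opens Y =>
      (⟨f ⁻¹' (U : Set Y), U.isOpen.preimage hf⟩ : TopologicalSpace.Opens X))) :
    Function.Bijective (fun Z : {Z : Set Y // IsLocallyClosed Z} =>
        (⟨f ⁻¹' Z.1, Z.2.preimage hf⟩ : {Z : Set X // IsLocallyClosed Z})) ∧
      Set.BijOn (fun Z : Set Y => f ⁻¹' Z) {Z | Topology.IsConstructible Z} {Z | Topology.IsConstructible Z} ∧
      Set.BijOn (fun Z : Set Y => f ⁻¹' Z) {Z | Topology.IsLocallyConstructible Z}
        {Z | Topology.IsLocallyConstructible Z} := by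
  have h := Groth.Agent.EGA43.qh_of_bijective hf hq
  refine ⟨⟨fun Z Z' e => Subtype.ext (h.eq_of_preimage
    (Groth.Agent.EGA43.LQC.of_isLocallyClosed Z.2) (Groth.Agent.EGA43.LQC.of_isLocallyClosed Z'.2)
    (congrArg Subtype.val e)), fun W => ?_⟩, ?_, ?_⟩
  · obtain ⟨Z, hZ, e⟩ := h.exists_isLocallyClosed hf W.2
    exact ⟨⟨Z, hZ⟩, Subtype.ext e⟩
  · refine ⟨fun Z hZ => h.isConstructible_preimage hf hZ, fun Z hZ Z' hZ' e => h.eq_of_preimage
      (Groth.Agent.EGA43.qc_of_isConstructible hZ).lqc (Groth.Agent.EGA43.qc_of_isConstructible hZ').lqc e,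
      fun W hW => ?_⟩
    obtain ⟨Z, hZ, e⟩ := h.exists_isConstructible hf hW
    exact ⟨Z, hZ, e⟩
  · refine ⟨fun Z hZ => (h.isLocallyConstructible_preimage_iff hf
        (Groth.Agent.EGA43.lqc_of_isLocallyConstructible hZ)).2 hZ,
      fun Z hZ Z' hZ' e => h.eq_of_preimage (Groth.Agent.EGA43.lqc_of_isLocallyConstructible hZ)
        (Groth.Agent.EGA43.lqc_of_isLocallyConstructible hZ') e, fun W hW => ?_⟩
    obtain ⟨Z, hZ, e⟩ := h.exists_lqc hf (Groth.Agent.EGA43.lqc_of_isLocallyConstructible hW)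
    subst e
    exact ⟨Z, (h.isLocallyConstructible_preimage_iff hf hZ).1 hW, rfl⟩

end Groth.Agent.S4897
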