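import Groth.Statements.S4902
import Groth.Agent.EGA43.FlatBC.StalkFamily
import Groth.Agent.EGA43.FlatBC.MainPrimary
import Groth.Agent.AssSch12.Primary
-- import your own Groth.Agent.* helpers here

set_option autoImplicit false
set_option backward.isDefEq.respectTransparency false
universe u
open CategoryTheory AlgebraicGeometry
open EGA43

namespace Groth.Agent.S4902

open CategoryTheory.Limits in
/-- Let Y be a locally Noetherian scheme, f : X ⟶ Y locally of finite type, F a coherent O_X-module and
x a point of X with y = f x, such that k(x) is a primary extension of k(y) (every element of k(x)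
separable algebraic over k(y) lies in k(y)). Let (φ_i : O_{Y,y} → A_i) be a family of local
homomorphisms into local rings such that, for every N, some finite intersection of the ideals
φ_i⁻¹(m_{A_i}^n) is contained in m_y^N; let Y_i = Spec A_i ⟶ Y be the induced Y-schemes and X_i = X
×_Y Y_i. If for every i there is a point of X_i above x and above the closed point of Y_i at which
the pullback of F is flat over Y_i, then F is f-flat at x. -/
theorem result {X Y : Scheme.{u}} [IsLocallyNoetherian Y]
    (f : X ⟶ Y) [LocallyOfFiniteType f] (F : X.Modules) (hF : Coh.IsCoh F) (x : X)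
    (hprim : letI := (f.residueFieldMap x).hom.toAlgebra
      ∀ a : ↑(X.residueField x), IsSeparable ↑(Y.residueField (f x)) a → a ∈ (f.residueFieldMap x).hom.range)
    {ι : Type u} (A : ι → Type u) [∀ i, CommRing (A i)] [∀ i, IsLocalRing (A i)]
    (φ : ∀ i, (Y.presheaf.stalk (f x) : Type u) →+* A i) [∀ i, IsLocalHom (φ i)]
    (htop : ∀ N : ℕ, ∃ s : Finset (ι × ℕ),
      ⨅ p ∈ s, Ideal.comap (φ p.1) (IsLocalRing.maximalIdeal (A p.1) ^ p.2) ≤
        IsLocalRing.maximalIdeal ↑(Y.presheaf.stalk (f x)) ^ N) :
    letI g : ∀ i, Spec (CommRingCat.of (A i)) ⟶ Y :=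
      fun i => Spec.map (CommRingCat.ofHom (φ i)) ≫ Y.fromSpecStalk (f x)
    (∀ i : ι, ∃ x' : ↥(pullback f (g i)), pullback.fst f (g i) x' = x ∧
      pullback.snd f (g i) x' = IsLocalRing.closedPoint (A i) ∧
      FlatMod.IsFlatOverAt (pullback.snd f (g i)) ((Scheme.Modules.pullback (pullback.fst f (g i))).obj F) x') →
    FlatMod.IsFlatOverAt f F x := by
  intro hflat
  let g : ∀ i, Spec (CommRingCat.of (A i)) ⟶ Y := fun i =>
    Groth.Agent.EGA43.FlatBC.specTo f x (φ i)
  open Groth.Agent.EGA43.FlatBC in
  haveI : IsLocallyNoetherian X := LocallyOfFiniteType.isLocallyNoetherian f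
  haveI := Groth.Agent.AssSch12.finite_stalk hF x
  have h : ∀ i, f x = g i (IsLocalRing.closedPoint (A i)) := fun i =>
    Groth.Agent.EGA43.FlatBC.specTo_apply f x (φ i) _ (IsLocalRing.maximalIdeal_comap (φ i))
  refine Groth.Agent.EGA43.FlatBC.isFlatOverAt_of_adic_family_primary f F g (fun i => IsLocalRing.closedPoint (A i)) x h
    (fun N => ?_) (Groth.Agent.EGA43.FlatBC.isPrimaryAt_of_residueFieldMap f x hprim) hflat
  obtain ⟨s, hs⟩ := htop N
  refine ⟨s, le_trans (le_of_eq ?_) hs⟩
  exact iInf_congr fun p => iInf_congr fun _ => Groth.Agent.EGA43.FlatBC.comap_pow_eq f x (φ p.1) (h p.1) p.2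

end Groth.Agent.S4902
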