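import Groth.Statements.S4903
import Groth.Agent.EGA43.VeryDense

set_option autoImplicit false
universe u
open EGA43

namespace Groth.Agent.S4903

/-- Conditions a), b), b′), c″), c‴) and its last assertion: given a topological space X and a subset X₀
⊆ X, the statements below are equivalent. Every locally closed subset of X that is nonempty
intersects X₀. Every nonempty locally quasi-constructible subset of X intersects X₀; here a subset
is locally quasi-constructible when each point of X has an open neighbourhood on which the subset's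
trace can be written as a union of finitely many locally closed sets. Each locally
quasi-constructible Z ⊆ X is contained in the closure of Z ∩ X₀. Any two quasi-constructible subsets
of X (unions of finitely many locally closed sets) having equal traces on X₀ coincide. Any two
locally quasi-constructible subsets of X having equal traces on X₀ coincide. Assuming these
conditions, each locally quasi-constructible subset of the subspace X₀ arises as the trace on X₀ of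
some locally quasi-constructible subset of X. -/
theorem result {X : Type u} [TopologicalSpace X] (X₀ : Set X) :
    [∀ Z : Set X, IsLocallyClosed Z → Z.Nonempty → (Z ∩ X₀).Nonempty,
      ∀ Z : Set X, (∀ x : X, ∃ U : Set X, IsOpen U ∧ x ∈ U ∧ ∃ T : Set (Set X), T.Finite ∧ (∀ t ∈ T, IsLocallyClosed t) ∧ U ∩ Z = ⋃₀ T) → Z.Nonempty → (Z ∩ X₀).Nonempty,
      ∀ Z : Set X, (∀ x : X, ∃ U : Set X, IsOpen U ∧ x ∈ U ∧ ∃ T : Set (Set X), T.Finite ∧ (∀ t ∈ T, IsLocallyClosed t) ∧ U ∩ Z = ⋃₀ T) → Z ⊆ closure (Z ∩ X₀),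
      ∀ Z Z' : Set X, (∃ T : Set (Set X), T.Finite ∧ (∀ t ∈ T, IsLocallyClosed t) ∧ Z = ⋃₀ T) → (∃ T : Set (Set X), T.Finite ∧ (∀ t ∈ T, IsLocallyClosed t) ∧ Z' = ⋃₀ T) → Z ∩ X₀ = Z' ∩ X₀ → Z = Z',
      ∀ Z Z' : Set X, (∀ x : X, ∃ U : Set X, IsOpen U ∧ x ∈ U ∧ ∃ T : Set (Set X), T.Finite ∧ (∀ t ∈ T, IsLocallyClosed t) ∧ U ∩ Z = ⋃₀ T) → (∀ x : X, ∃ U : Set X, IsOpen U ∧ x ∈ U ∧ ∃ T : Set (Set X), T.Finite ∧ (∀ t ∈ T, IsLocallyClosed t) ∧ U ∩ Z' = ⋃₀ T) → Z ∩ X₀ = Z' ∩ X₀ → Z = Z'].TFAE ∧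
    ((∀ Z : Set X, IsLocallyClosed Z → Z.Nonempty → (Z ∩ X₀).Nonempty) →
      ∀ Z₀ : Set ↥X₀, (∀ x : ↥X₀, ∃ U : Set ↥X₀, IsOpen U ∧ x ∈ U ∧ ∃ T : Set (Set ↥X₀), T.Finite ∧ (∀ t ∈ T, IsLocallyClosed t) ∧ U ∩ Z₀ = ⋃₀ T) →
        ∃ Z : Set X, (∀ x : X, ∃ U : Set X, IsOpen U ∧ x ∈ U ∧ ∃ T : Set (Set X), T.Finite ∧ (∀ t ∈ T, IsLocallyClosed t) ∧ U ∩ Z = ⋃₀ T) ∧ Subtype.val ⁻¹' Z = Z₀) := by
  refine ⟨?_, fun h Z₀ hZ₀ =>
    (Groth.Agent.EGA43.VeryDense.qh_subtypeVal h).exists_lqc continuous_subtype_val hZ₀⟩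
  tfae_have 1 → 2 := fun h Z hZ hne => Groth.Agent.EGA43.VeryDense.nonempty_inter h hZ hne
  tfae_have 1 → 3 := fun h Z hZ => Groth.Agent.EGA43.VeryDense.subset_closure h hZ
  tfae_have 1 → 5 := fun h Z Z' hZ hZ' e => Groth.Agent.EGA43.VeryDense.eq_of_inter_eq h hZ hZ' e
  tfae_have 5 → 4 := fun h Z Z' hZ hZ' e =>
    h Z Z' (Groth.Agent.EGA43.QC.lqc hZ) (Groth.Agent.EGA43.QC.lqc hZ') e
  tfae_have 4 → 1 := fun h => Groth.Agent.EGA43.veryDense_of_opens_inj fun U V hU hV e =>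
    h U V (Groth.Agent.EGA43.QC.of_isLocallyClosed hU.isLocallyClosed)
      (Groth.Agent.EGA43.QC.of_isLocallyClosed hV.isLocallyClosed) e
  tfae_have 2 → 1 := fun h Z hZ hne => h Z (Groth.Agent.EGA43.LQC.of_isLocallyClosed hZ) hne
  tfae_have 3 → 1 := by
    intro h Z hZ hne
    obtain ⟨z, hz⟩ := hne
    by_contra hc
    have := h Z (Groth.Agent.EGA43.LQC.of_isLocallyClosed hZ) hz
    rw [Set.not_nonempty_iff_eq_empty.1 hc, closure_empty] at this
    exact this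
  tfae_finish

end Groth.Agent.S4903
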