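import Groth.Statements.S4914
import Groth.Agent.EGA43.OpenAt

set_option autoImplicit false
open CategoryTheory AlgebraicGeometry
universe u v w
open EGA43

namespace Groth.Agent.S4914

/-- Let ψ : X → Y be a continuous map, x a point of X, and (Y_i) a locally finite covering of Y by
closed subsets. If for every index i with ψ x ∈ Y_i the restriction ψ⁻¹(Y_i) → Y_i of ψ is open at
x, then ψ is open at x. -/
theorem result {α : Type u} {β : Type v} {ι : Type w} [TopologicalSpace α]
    [TopologicalSpace β] (ψ : α → β) (hψ : Continuous ψ) (x : α) (Y : ι → Set β) (hY : LocallyFinite Y)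
    (hcl : ∀ i, IsClosed (Y i)) (hcov : ⋃ i, Y i = Set.univ)
    (h : ∀ i, ∀ hi : ψ x ∈ Y i, EGA43.IsOpenAt ((Y i).restrictPreimage ψ) ⟨x, hi⟩) :
    EGA43.IsOpenAt ψ x := by
  refine Groth.Agent.EGA43.isOpenAt_of_locallyFinite hY hcl hcov fun i hi U hU => ?_
  obtain ⟨W, hW, hWs⟩ := Groth.Agent.EGA43.exists_nhds_inter_range_subset (f := ψ)
    (j := (Subtype.val : ψ ⁻¹' Y i → α)) (i := (Subtype.val : Y i → β))
    Topology.IsInducing.subtypeVal continuous_subtype_val rfl (h i hi) (U := U) hU
  rw [Subtype.range_coe] at hWs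
  exact ⟨W, hW, hWs⟩

end Groth.Agent.S4914
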