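import Groth.Statements.S4946
import Groth.Agent.EGA43.DimFormula.Dedekind
-- import your own Groth.Agent.* helpers here

set_option autoImplicit false
set_option backward.isDefEq.respectTransparency false
open CategoryTheory AlgebraicGeometry
universe u v w
open EGA43

namespace Groth.Agent.S4946

/-- Let Y be an irreducible locally Noetherian scheme which is regular of dimension 1 (all local rings
regular of dimension at most 1), f : X ⟶ Y a morphism locally of finite type and y a point of Y.
Then the following are equivalent: d) every irreducible component of X meeting the fibre X_y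
dominates Y; e) for every point x closed in X_y and every irreducible component X_i of X containing
x, there are an irreducible reduced scheme T and an immersion T ⟶ X with image containing x and
contained in X_i, such that T ⟶ Y is quasi-finite and dominant. -/
theorem result {X Y : Scheme.{u}} [IrreducibleSpace Y]
    [IsLocallyNoetherian Y] (hY : ∀ y : Y, IsRegularLocalRing (Y.presheaf.stalk y) ∧ ringKrullDim (Y.presheaf.stalk y) ≤ 1)
    (f : X ⟶ Y) [LocallyOfFiniteType f] (y : Y) :
    (∀ Z ∈ irreducibleComponents (X : Type u), (Z ∩ f.base ⁻¹' {y}).Nonempty → Dense (f.base '' Z)) ↔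
      ∀ x : X, f.base x = y → (∀ x' : X, f.base x' = y → x ⤳ x' → x' = x) →
        ∀ Xi ∈ irreducibleComponents (X : Type u), x ∈ Xi →
          ∃ (T : Scheme.{u}) (i : T ⟶ X), IsImmersion i ∧ IrreducibleSpace ↥T ∧ IsReduced T ∧ x ∈ Set.range i.base ∧
            Set.range i.base ⊆ Xi ∧
            LocallyOfFiniteType (i ≫ f) ∧ LocallyQuasiFinite (i ≫ f) ∧ QuasiCompact (i ≫ f) ∧ IsDominant (i ≫ f) := by
  constructor
  · intro h x hx hcl Xi hXi hxXi
    have hXc : IsClosed Xi := isClosed_of_mem_irreducibleComponents Xi hXi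
    obtain ⟨ξ, hgen⟩ : ∃ ξ, IsGenericPoint ξ Xi :=
      ⟨hXi.1.genericPoint, by simpa [hXc.closure_eq] using hXi.1.isGenericPoint_genericPoint_closure⟩
    have h1 := h Xi hXi ⟨x, hxXi, hx⟩
    have hη : f ξ = genericPoint Y := by
      refine IsGenericPoint.eq (isGenericPoint_def.2 ?_) (genericPoint_spec Y)
      refine Set.eq_univ_of_forall fun a => ?_
      have h3 : f.base '' Xi ⊆ closure {f ξ} := by
        have := image_closure_subset_closure_image (s := {ξ}) f.continuous
        rwa [Set.image_singleton, hgen.def] at this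
      exact (closure_minimal h3 isClosed_closure) (h1 a)
    obtain ⟨T, i, h2, h3, h4, h5, h6, h7, h8, h9, h10⟩ :=
      Groth.Agent.EGA43.DimFormula.exists_section_in_component (fun y => (hY y).2) f
        (fun x' he hs => hcl x' (he.trans hx) hs) (hgen.specializes hxXi) hη
    exact ⟨T, i, h2, h3, h4, h5, hgen.def ▸ h6, h7, h8, h9, h10⟩
  · rintro h Z hZ ⟨z, hzZ, hz⟩
    obtain ⟨x, hzx, hxz, hcl⟩ := Groth.Agent.EGA43.DimFormula.exists_closed_in_fibre f z
    have hxZ : x ∈ Z := (isClosed_of_mem_irreducibleComponents Z hZ).closure_subset_iff.2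
      (Set.singleton_subset_iff.2 hzZ) (specializes_iff_mem_closure.1 hzx)
    obtain ⟨T, i, -, -, -, -, hsub, -, -, -, hdom⟩ :=
      h x (hxz.trans hz) (fun x' he hs => hcl x' (he.trans (hxz.trans hz).symm) hs) Z hZ hxZ
    refine hdom.denseRange.mono ?_
    rintro _ ⟨t, rfl⟩
    exact ⟨i t, hsub ⟨t, rfl⟩, rfl⟩

end Groth.Agent.S4946
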