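import Groth.Statements.S4952
import Groth.Agent.EGA43.SectionComp.Dim

set_option backward.isDefEq.respectTransparency false
set_option linter.style.haveILetI false

set_option autoImplicit false
open CategoryTheory AlgebraicGeometry
universe u v w
open EGA43

namespace Groth.Agent.S4952

theorem exists_generic_Z {X Y : Scheme.{u}} (f : X ⟶ Y) [LocallyOfFiniteType f] (y' : Y) (Z : Set X)
    (hZs : Z ⊆ f.base ⁻¹' {y'}) (hZi : IsIrreducible Z)
    (hmax : ∀ Z' : Set X, IsIrreducible Z' → Z' ⊆ f.base ⁻¹' {y'} → Z ⊆ Z' → Z' = Z) :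
    ∃ ξ ∈ Z, (∀ x ∈ Z, ξ ⤳ x) ∧
      topologicalKrullDim ↥Z = ((EGA43.DimFormula.trdAt f ξ : ℕ) : WithBot ℕ∞) := by
  have hsub : Z ⊆ Set.range (f.fiberι y') := fun x hx => (f.range_fiberι y').ge (hZs hx)
  have hirr : IsIrreducible (closure (f.fiberι y' ⁻¹' Z)) := by
    refine IsIrreducible.closure ⟨?_, ?_⟩
    · obtain ⟨x, hx⟩ := hZi.1
      obtain ⟨t, rfl⟩ := hsub hx
      exact ⟨t, hx⟩
    · intro u v hu hv ⟨a, ha, hau⟩ ⟨b, hb, hbv⟩
      obtain ⟨U, hU, rfl⟩ := (f.fiberι y').isEmbedding.isInducing.isOpen_iff.1 hu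
      obtain ⟨V, hV, rfl⟩ := (f.fiberι y').isEmbedding.isInducing.isOpen_iff.1 hv
      obtain ⟨x, hx, hxU, hxV⟩ := hZi.2 U V hU hV ⟨_, ha, hau⟩ ⟨_, hb, hbv⟩
      obtain ⟨t, rfl⟩ := hsub hx
      exact ⟨t, hx, hxU, hxV⟩
  obtain ⟨η, hη⟩ := QuasiSober.sober hirr isClosed_closure
  have himg : (f.fiberι y').base '' closure (f.fiberι y' ⁻¹' Z) = Z := hmax _
    (hirr.image _ (f.fiberι y').continuous.continuousOn) (by
      rintro _ ⟨t, -, rfl⟩
      exact (f.range_fiberι y').le ⟨t, rfl⟩)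
    (fun x hx => by obtain ⟨t, rfl⟩ := hsub hx; exact ⟨t, subset_closure hx, rfl⟩)
  have hξ : f.fiberι y' η ∈ Z := himg.le ⟨η, hη.mem, rfl⟩
  have hgen : ∀ x ∈ Z, f.fiberι y' η ⤳ x := fun x hx => by
    obtain ⟨t, rfl⟩ := hsub hx
    exact (hη.specializes (subset_closure hx)).map (f.fiberι y').continuous
  refine ⟨_, hξ, hgen, ?_⟩
  have hy : f (f.fiberι y' η) = y' := hZs hξ
  have : closure {f.fiberι y' η} ∩ f.base ⁻¹' {f (f.fiberι y' η)} = Z := by
    rw [hy]
    refine Set.Subset.antisymm (fun x ⟨hx, hxy⟩ => ?_) fun x hx =>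
      ⟨specializes_iff_mem_closure.1 (hgen x hx), hZs hx⟩
    obtain ⟨t, rfl⟩ : x ∈ Set.range (f.fiberι y') := (f.range_fiberι y').ge hxy
    refine himg.le ⟨t, hη.def ▸ specializes_iff_mem_closure.1 ?_, rfl⟩
    exact (f.fiberι y').isEmbedding.isInducing.specializes_iff.1 (specializes_iff_mem_closure.2 hx)
  conv_lhs => rw [← this]
  exact EGA43.Chevalley.topologicalKrullDim_closure_inter_fibre f _

/-- Let Y be a locally Noetherian scheme, f : X ⟶ Y a morphism locally of finite type and g : Y ⟶ X a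
section of f; for z in Y let X_z^0 be the connected component of the fibre f⁻¹(z) containing g z (a
subset of X with the induced topology). Let y be a point of Y and y' a generization of y. (i) If
there is an irreducible component Z of f⁻¹(y') containing g y' with dim Z = dim X_{y'}^0, then dim
X_y^0 ≥ dim X_{y'}^0. (ii) If moreover X_y^0 is irreducible and dim X_y^0 = dim X_{y'}^0, then X_y^0
is contained in the closure of X_{y'}^0 in X. -/
theorem result {X Y : Scheme.{u}} [IsLocallyNoetherian Y] (f : X ⟶ Y)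
    [LocallyOfFiniteType f] (g : Y ⟶ X) (hg : g ≫ f = 𝟙 Y) (y y' : Y) (hy : y' ⤳ y)
    (hZ : ∃ Z : Set X, Z ⊆ f.base ⁻¹' {y'} ∧ IsIrreducible Z ∧
      (∀ Z' : Set X, IsIrreducible Z' → Z' ⊆ f.base ⁻¹' {y'} → Z ⊆ Z' → Z' = Z) ∧ g.base y' ∈ Z ∧
      topologicalKrullDim ↥Z = topologicalKrullDim ↥(connectedComponentIn (f.base ⁻¹' {y'}) (g.base y'))) :
    topologicalKrullDim ↥(connectedComponentIn (f.base ⁻¹' {y'}) (g.base y')) ≤ topologicalKrullDim ↥(connectedComponentIn (f.base ⁻¹' {y}) (g.base y)) ∧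
      (IsIrreducible (connectedComponentIn (f.base ⁻¹' {y}) (g.base y)) → topologicalKrullDim ↥(connectedComponentIn (f.base ⁻¹' {y}) (g.base y)) = topologicalKrullDim ↥(connectedComponentIn (f.base ⁻¹' {y'}) (g.base y')) →
        connectedComponentIn (f.base ⁻¹' {y}) (g.base y) ⊆ closure (connectedComponentIn (f.base ⁻¹' {y'}) (g.base y'))) := by
  obtain ⟨Z, hZs, hZi, hmax, hgZ, hd⟩ := hZ
  obtain ⟨ξ, hξ, hgen, hdim⟩ := exists_generic_Z f y' Z hZs hZi hmax
  exact EGA43.SectionComp.dim_comp_le f g hg hy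
    (hZi.isConnected.isPreconnected.subset_connectedComponentIn hgZ hZs hξ) (hgen _ hgZ) (hd.symm.trans hdim)

end Groth.Agent.S4952
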