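import Groth.Statements.S4956
import Groth.Agent.EGA43.SectionComp.ConstFP
import Groth.Agent.EGA43.SectionComp.DvrConnected
-- import your own Groth.Agent.* helpers here

set_option autoImplicit false
set_option backward.isDefEq.respectTransparency false
open CategoryTheory AlgebraicGeometry
universe u v w
open EGA43

namespace Groth.Agent.S4956

/-- Let f : X ⟶ Y be a morphism of finite presentation with a section g, X_y^0 the connected component
of f⁻¹(y) containing g y, every X_y^0 geometrically irreducible over κ(y), and y₀ a point of Y such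
that f is universally open at the generic point of X_{y₀}^0. Suppose moreover that either (α) the
fibre over y₀ is geometrically reduced at g y₀ and the local ring O_{Y,y₀} is Noetherian, or (β) dim
X_{y'} = dim X_{y'}^0 for the generic point y' of every irreducible component of Y containing y₀.
Then y ↦ dim X_y^0 is constant on a neighbourhood of y₀. -/
theorem result {X Y : Scheme.{u}} (f : X ⟶ Y)
    [LocallyOfFinitePresentation f] [QuasiCompact f] [QuasiSeparated f] (g : Y ⟶ X) (hg : g ≫ f = 𝟙 Y)
    (hirr : ∀ y : Y, (∀ (K : Type u) [Field K] [Algebra (IsLocalRing.ResidueField (Y.presheaf.stalk y)) K],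
        IsIrreducible ((FBase.bcπ (f.fiberToSpecResidueField y) K ≫ f.fiberι y).base ⁻¹' connectedComponentIn (f.base ⁻¹' {y}) (g.base y))))
    (y₀ : Y) (hopen : ∀ ξ ∈ connectedComponentIn (f.base ⁻¹' {y₀}) (g.base y₀), connectedComponentIn (f.base ⁻¹' {y₀}) (g.base y₀) ⊆ closure {ξ} → EGA43.IsUnivOpenAt f ξ)
    (hαβ : (FBase.IsGeomReducedAt (f.fiberToSpecResidueField (f.base (g.base y₀))) (f.asFiber (g.base y₀)) ∧
        IsNoetherianRing (Y.presheaf.stalk y₀)) ∨
      (∀ y' : Y, y₀ ∈ closure {y'} → closure {y'} ∈ irreducibleComponents (Y : Type u) →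
        topologicalKrullDim ↥(f.fiber y') = topologicalKrullDim ↥(connectedComponentIn (f.base ⁻¹' {y'}) (g.base y')))) :
    ∃ V ∈ nhds y₀, ∀ z ∈ V, topologicalKrullDim ↥(connectedComponentIn (f.base ⁻¹' {z}) (g.base z)) = topologicalKrullDim ↥(connectedComponentIn (f.base ⁻¹' {y₀}) (g.base y₀)) := by
  have hirr' := fun z => EGA43.SectionComp.isIrreducible_comp_of_geom f g z (hirr z _)
  refine EGA43.SectionComp.eventually_eq_of_generizations f g hg hirr' y₀ fun z hz => ?_
  rcases hαβ with ⟨hred, hN⟩ | h
  · haveI := hN
    exact EGA43.SectionComp.le_dim_comp_of_geomReduced f g hg hirr y₀ hopen hred hz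
  · obtain ⟨η, hη, hηz, -⟩ := EGA43.SectionComp.exists_maximal_mem (X := Y) isOpen_univ (Set.mem_univ z)
    refine le_trans ?_ (EGA43.SectionComp.dim_comp_le_of_specializes f g hg hirr' hηz)
    exact EGA43.SectionComp.generic_le_of_dim_fibre f g hg hirr' y₀ hopen (hηz.trans hz)
      (h η (specializes_iff_mem_closure.1 (hηz.trans hz))
        (DimLib.closure_mem_components (X := Y) fun w hw => (hη w hw).symm))

end Groth.Agent.S4956
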