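import Groth.Statements.S4959
import Mathlib.AlgebraicGeometry.Morphisms.Flat
import Mathlib.AlgebraicGeometry.Morphisms.Proper

set_option autoImplicit false
set_option backward.isDefEq.respectTransparency false
open CategoryTheory AlgebraicGeometry
universe u v w
open EGA43

namespace Groth.Agent.S4959

open CategoryTheory.Limits in
/-- Let f : X ⟶ Y be a morphism of schemes and g : Y' ⟶ Y a surjective morphism which is either proper,
or flat and quasi-compact. If the base change f' : X ×_Y Y' ⟶ Y' is universally submersive (all of
its base changes are topological quotient maps), then f is universally submersive. -/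
theorem result {X Y Y' : Scheme.{u}} (f : X ⟶ Y) (g : Y' ⟶ Y) [Surjective g]
    (hg : IsProper g ∨ (Flat g ∧ QuasiCompact g))
    (h : MorphismProperty.universally (topologically @Topology.IsQuotientMap) (pullback.snd f g)) :
    MorphismProperty.universally (topologically @Topology.IsQuotientMap) f := by
  intro X' T i₁ i₂ f' H
  let q : pullback i₂ g ⟶ T := pullback.fst i₂ g
  let r : pullback i₂ g ⟶ Y' := pullback.snd i₂ g
  have hq : Topology.IsQuotientMap q := by
    have : Surjective q := MorphismProperty.pullback_fst i₂ g inferInstance
    rcases hg with hg | ⟨hg, hg'⟩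
    · have : IsProper q := MorphismProperty.pullback_fst i₂ g hg
      exact IsClosedMap.isQuotientMap q.isClosedMap q.continuous q.surjective
    · have : Flat q := MorphismProperty.pullback_fst i₂ g hg
      have : QuasiCompact q := MorphismProperty.pullback_fst i₂ g hg'
      exact Flat.isQuotientMap_of_surjective q
  let a : pullback f' q ⟶ X' := pullback.fst f' q
  let b : pullback f' q ⟶ pullback i₂ g := pullback.snd f' q
  have h1 : IsPullback b a q f' := (IsPullback.of_hasPullback f' q).flip
  have h2 : IsPullback b (a ≫ i₁) (q ≫ i₂) f := h1.paste_vert H
  have hw : (a ≫ i₁) ≫ f = (b ≫ r) ≫ g := by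
    rw [← h2.w, Category.assoc, show q ≫ i₂ = r ≫ g from pullback.condition]
  let c : pullback f' q ⟶ pullback f g := pullback.lift (a ≫ i₁) (b ≫ r) hw
  have h3 : IsPullback b c r (pullback.snd f g) := by
    refine IsPullback.of_bot ?_ (pullback.lift_snd _ _ hw).symm (IsPullback.of_hasPullback f g).flip
    rw [pullback.lift_fst, ← pullback.condition]
    exact h2
  have hb : Topology.IsQuotientMap b := h c r b h3
  have hcomp : Topology.IsQuotientMap (f' ∘ a) := by
    have e : (f' ∘ a : _ → T) = q ∘ b := by
      funext x
      show (a ≫ f') x = (b ≫ q) x
      rw [pullback.condition]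
    rw [e]
    exact hq.comp hb
  exact Topology.IsQuotientMap.of_comp a.continuous f'.continuous hcomp

end Groth.Agent.S4959
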