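import Groth.Statements.S4962
import Groth.Agent.EGA43.FibDepth.LociScheme
-- import your own Groth.Agent.* helpers here

set_option autoImplicit false
set_option backward.isDefEq.respectTransparency false
open CategoryTheory AlgebraicGeometry
universe u v w
open EGA43

namespace Groth.Agent.S4962

/-- Let f : X ⟶ Y be a morphism locally of finite presentation and k a natural number. The set of points
x of X such that f is flat at x and the local ring at x of the fibre of f through x satisfies
Serre's condition (S_k) is open in X. -/
theorem result {X Y : Scheme.{u}} (f : X ⟶ Y) [LocallyOfFinitePresentation f]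
    (k : ℕ) :
    IsOpen {x : X | (f.stalkMap x).hom.Flat ∧ LocCoh.HasSk k ((f.fiber (f.base x)).presheaf.stalk (f.asFiber x)) ((f.fiber (f.base x)).presheaf.stalk (f.asFiber x))} := by
  have h := (Groth.Agent.EGA43.FibDepth.isOpen_flat_assLoci f (Coh.structureModule X)
    (Groth.Agent.EGA43.FibDepth.isFP_structureModule X) k ∅).1
  simpa only [Groth.Agent.EGA43.FibDepth.isFlatOverAt_structureModule,
    Groth.Agent.EGA43.FibDepth.skP_structureModule_iff] using h

end Groth.Agent.S4962
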