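import Groth.Statements.S4966
import Groth.Agent.EGA43.FibDepth.Components
-- import your own Groth.Agent.* helpers here

set_option autoImplicit false
set_option backward.isDefEq.respectTransparency false
open CategoryTheory AlgebraicGeometry
universe u v w
open EGA43

namespace Groth.Agent.S4966

/-- Let f : X ⟶ Y be a proper morphism of finite presentation and F a finitely presented O_X-module
which is f-flat; for y in Y write F_y for the restriction of F to the fibre X_y. Let Φ be a finite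
set of natural numbers. Then the set of points y of Y such that F_y has no embedded associated point
and the set of dimensions of the irreducible components of Supp(F_y) is exactly Φ is open in Y. -/
theorem result {X Y : Scheme.{u}} (f : X ⟶ Y) [IsProper f]
    [LocallyOfFinitePresentation f] (F : X.Modules) (hF : CohB1.IsFP F) (hflat : FlatMod.IsFlatOver f F) (Φ : Finset ℕ) :
    IsOpen {y : Y | AssSch.NoEmbedded ((Scheme.Modules.pullback (f.fiberι y)).obj F) ∧
      (fun Z : Set ↥{z : ↥(f.fiber y) | Nontrivial (((Scheme.Modules.pullback (f.fiberι y)).obj F).presheaf.stalk z)} => topologicalKrullDim ↥Z) '' irreducibleComponents ↥{z : ↥(f.fiber y) | Nontrivial (((Scheme.Modules.pullback (f.fiberι y)).obj F).presheaf.stalk z)} =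
        (fun n : ℕ => (n : WithBot ℕ∞)) '' (Φ : Set ℕ)} := by
  obtain ⟨-, h2, h3, -⟩ :=
    Groth.Agent.EGA43.FibDepth.isOpen_flat_assLoci f F hF 0 (Φ : Set ℕ)
  simp only [hflat _, true_and] at h2 h3
  have h := ((Groth.Agent.EGA43.FibDepth.isOpen_forall_fiber f _ h3).inter
      (Groth.Agent.EGA43.FibDepth.isOpen_forall_fiber f _ h2)).inter
    (Φ.finite_toSet.isOpen_biInter fun n _ =>
      Groth.Agent.EGA43.FibDepth.isOpen_exists_compP f F hF hflat n)
  convert h using 1
  ext y
  have hc := Groth.Agent.EGA43.FibDepth.exists_component_iff_minP f F hF y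
  simp only [Set.mem_inter_iff, Set.mem_iInter, Set.mem_ofPred_eq, Finset.mem_coe]
  constructor
  · rintro ⟨hne, heq⟩
    have hNE : ∀ z, Groth.Agent.EGA43.FibDepth.NoEmbP f F y z := fun z₀ z hz _ z' hz' hcl =>
      (hne z hz z' hz' (specializes_iff_mem_closure.2 hcl)).symm
    refine ⟨⟨hNE, fun z₀ z hz _ => ?_⟩, fun n hn => ?_⟩
    · have hmin := (Groth.Agent.EGA43.FibDepth.exists_chart_facts f F hF y z).2 (hNE z) hz
      obtain ⟨Z, hZ, hd⟩ := (hc _).2 ⟨z, hmin, rfl⟩
      obtain ⟨n, hn, hn'⟩ := heq.le ⟨Z, hZ, rfl⟩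
      exact ⟨n, hn, hd.symm.trans hn'.symm⟩
    · obtain ⟨Z, hZ, hd⟩ := heq.ge ⟨n, hn, rfl⟩
      exact (Groth.Agent.EGA43.FibDepth.exists_component_iff f F hF y n).1 ⟨Z, hZ, hd⟩
  · rintro ⟨⟨hNE, hass⟩, hex⟩
    refine ⟨fun x hx x' hx' hs =>
      (hNE x x hx (subset_closure rfl) x' hx' hs.mem_closure).symm, Set.Subset.antisymm ?_ ?_⟩
    · rintro _ ⟨Z, hZ, rfl⟩
      obtain ⟨z, hmin, hd⟩ := (hc _).1 ⟨Z, hZ, rfl⟩
      obtain ⟨n, hn, hn'⟩ := hass z z ((Groth.Agent.EGA43.FibDepth.exists_chart_facts f F hF y z).1 hmin)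
        (subset_closure rfl)
      exact ⟨n, hn, hn'.symm.trans hd⟩
    · rintro _ ⟨n, hn, rfl⟩
      obtain ⟨Z, hZ, hd⟩ :=
        (Groth.Agent.EGA43.FibDepth.exists_component_iff f F hF y n).2 (hex n hn)
      exact ⟨Z, hZ, hd⟩

end Groth.Agent.S4966
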