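import Groth.Statements.S4975
import Groth.Agent.EGA43.SectionComp.Const
import Groth.Agent.EGA43.SectionComp.Nhd
-- import your own Groth.Agent.* helpers here

set_option autoImplicit false
set_option backward.isDefEq.respectTransparency false
open CategoryTheory AlgebraicGeometry
universe u v w
open EGA43

namespace Groth.Agent.S4975

/-- Let f : X ⟶ Y be a morphism locally of finite type with Y locally Noetherian, g : Y ⟶ X a section of
f, X_y^0 the connected component of f⁻¹(y) containing g y, and X^0 ⊆ X their union. Suppose every
X_y^0 is geometrically integral over κ(y) (its preimage in X_y ⊗ K is irreducible and has reduced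
local rings, for every field extension K of κ(y)). Then y ↦ dim X_y^0 is locally constant on Y if
and only if f is universally open at every point of X^0; and when this holds, X^0 is open in X. (The
published statement also lists, as a further equivalent condition, flatness of the base change of f
to the reduced closed subscheme Y_red at the points of X^0; that condition is not stated here.) -/
theorem result {X Y : Scheme.{u}}
    [IsLocallyNoetherian Y] (f : X ⟶ Y) [LocallyOfFiniteType f] (g : Y ⟶ X) (hg : g ≫ f = 𝟙 Y)
    (hint : ∀ y : Y, (∀ (K : Type u) [Field K] [Algebra (IsLocalRing.ResidueField (Y.presheaf.stalk y)) K],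
        IsIrreducible ((FBase.bcπ (f.fiberToSpecResidueField y) K ≫ f.fiberι y).base ⁻¹' connectedComponentIn (f.base ⁻¹' {y}) (g.base y)) ∧
        ∀ x' : ↥(FBase.bc (f.fiberToSpecResidueField y) K),
          (FBase.bcπ (f.fiberToSpecResidueField y) K ≫ f.fiberι y).base x' ∈ connectedComponentIn (f.base ⁻¹' {y}) (g.base y) →
          _root_.IsReduced ((FBase.bc (f.fiberToSpecResidueField y) K).presheaf.stalk x'))) :
    (IsLocallyConstant (fun y : Y => topologicalKrullDim ↥(connectedComponentIn (f.base ⁻¹' {y}) (g.base y))) ↔ ∀ x ∈ MoreMor.sectionComponents f g, EGA43.IsUnivOpenAt f x) ∧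
      (IsLocallyConstant (fun y : Y => topologicalKrullDim ↥(connectedComponentIn (f.base ⁻¹' {y}) (g.base y))) → IsOpen (MoreMor.sectionComponents f g)) := by
  have hgi : ∀ (z : Y) (K : Type u) [Field K] [Algebra (IsLocalRing.ResidueField (Y.presheaf.stalk z)) K],
      IsIrreducible ((FBase.bcπ (f.fiberToSpecResidueField z) K ≫ f.fiberι z).base ⁻¹'
        EGA43.SectionComp.comp f g z) := fun z K _ _ => (hint z K).1
  have hred : ∀ x ∈ MoreMor.sectionComponents f g,
      FBase.IsGeomReducedAt (f.fiberToSpecResidueField (f.base x)) (f.asFiber x) := by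
    intro x hx K _ _ x' hx'
    refine (hint (f.base x) K).2 x' ?_
    rw [show (FBase.bcπ (f.fiberToSpecResidueField (f.base x)) K ≫ f.fiberι (f.base x)).base x' = x from
      (congrArg (f.fiberι (f.base x)) hx').trans (f.fiberι_asFiber x)]
    exact hx
  have hu : IsLocallyConstant (fun y : Y => topologicalKrullDim ↥(connectedComponentIn (f.base ⁻¹' {y}) (g.base y))) →
      ∀ x ∈ MoreMor.sectionComponents f g, EGA43.IsUnivOpenAt f x := fun h x hx =>
    EGA43.SectionComp.isUnivOpenAt_of_dim_comp_const f g hg hgi (f.base x)
      (fun y' hy' => hy'.mem_open (h.isOpen_fiber _) rfl) hx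
  refine ⟨⟨hu, fun h => (IsLocallyConstant.iff_eventually_eq _).2 fun y => ?_⟩, fun h => ?_⟩
  · have hgy := EGA43.SectionComp.mem_sectionComponents_of_mem f g (EGA43.SectionComp.mem_comp_self f g hg y)
    have hirr' := fun z => EGA43.SectionComp.isIrreducible_comp_of_geom f g z (hgi z _)
    obtain ⟨V, hV, hc⟩ := EGA43.SectionComp.eventually_eq_of_generic_le f g hg hirr' y fun η hη hηy =>
      EGA43.SectionComp.generic_le_of_geomReduced f g hg hirr' y
        (fun ξ hξ _ => h ξ (EGA43.SectionComp.mem_sectionComponents_of_mem f g hξ)) (hred _ hgy) hη hηy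
    exact Filter.mem_of_superset hV hc
  · rw [← subset_interior_iff_isOpen]
    intro x hx
    exact EGA43.SectionComp.mem_interior_sectionComponents f g hg (f.base x)
      (fun x' hx' => ⟨hu h x' (EGA43.SectionComp.mem_sectionComponents_of_mem f g hx'),
        hred x' (EGA43.SectionComp.mem_sectionComponents_of_mem f g hx')⟩) x hx

end Groth.Agent.S4975
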