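import Groth.Statements.S4978
import Groth.Agent.EGA43.ProperDvr.Rational
-- import your own Groth.Agent.* helpers here

set_option autoImplicit false
set_option backward.isDefEq.respectTransparency false
open CategoryTheory AlgebraicGeometry
universe u v w
open EGA43

namespace Groth.Agent.S4978

open CategoryTheory.Limits in
/-- Let Y be a Noetherian scheme, f : X ⟶ Y a separated morphism of finite type, Z a subset of X such
that every maximal point of the closure of Z belongs to Z, and y a point of Y. Then the closure of Z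
is proper over Y at y (for some open U ∋ y, its trace on f⁻¹(U) is proper over U with the reduced
structure) if and only if: for every discrete valuation ring A' and every morphism g : Spec A' ⟶ Y
mapping the closed point to y, every point x' of X' = X ×_Y Spec A' which projects into Z, lies over
the generic point η' of Spec A' and is rational over κ(η') is in the image of some section of X' ⟶
Spec A'. -/
theorem result {X Y : Scheme.{u}} [IsNoetherian Y] (f : X ⟶ Y) [IsSeparated f]
    [LocallyOfFiniteType f] [QuasiCompact f] (Z : Set X)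
    (hZ : ∀ z ∈ closure Z, (∀ z' ∈ closure Z, z ∈ closure {z'} → z' = z) → z ∈ Z) (y : Y) :
    (∃ U : Y.Opens, y ∈ U ∧ ∃ hC : IsClosed ((f ⁻¹ᵁ U).ι.base ⁻¹' closure Z),
      IsProper ((Scheme.IdealSheafData.vanishingIdeal
        (⟨(f ⁻¹ᵁ U).ι.base ⁻¹' closure Z, hC⟩ : TopologicalSpace.Closeds ↥(f ⁻¹ᵁ U))).subschemeι ≫ (f ∣_ U))) ↔
      ∀ (A' : Type u) [CommRing A'] [IsDomain A'] [IsDiscreteValuationRing A'] (g : Spec (CommRingCat.of A') ⟶ Y),
        g.base (IsLocalRing.closedPoint A') = y →
        ∀ x' : ↥(pullback f g), (pullback.fst f g).base x' ∈ Z →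
          (pullback.snd f g).base x' = genericPoint (Spec (CommRingCat.of A')) →
          Function.Bijective ((pullback.snd f g).residueFieldMap x').hom →
          ∃ s : Spec (CommRingCat.of A') ⟶ pullback f g, s ≫ pullback.snd f g = 𝟙 _ ∧ x' ∈ Set.range s.base := by
  let C : TopologicalSpace.Closeds X := ⟨closure Z, isClosed_closure⟩
  let i := (Scheme.IdealSheafData.vanishingIdeal C).subschemeι
  have hi : Set.range i = closure Z := by rw [Scheme.IdealSheafData.range_subschemeι]; rfl
  constructor
  · rintro ⟨U, hyU, hC, hprop⟩ A' _ _ _ g hg x' hxZ hgen hrat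
    haveI : IsProper ((i ≫ f) ∣_ U) := (EGA43.ProperDvr.isProper_subscheme_iff f C U hC).1 hprop
    obtain ⟨u, hu, hinj, hfrac⟩ := EGA43.ProperDvr.exists_fractions (pullback.snd f g) x' hgen
    letI : Algebra A' ((pullback f g).residueField x') := u.hom.toAlgebra
    haveI : FaithfulSMul A' ((pullback f g).residueField x') := (faithfulSMul_iff_algebraMap_injective _ _).2 hinj
    haveI : IsFractionRing A' ((pullback f g).residueField x') := IsFractionRing.of_field _ _ fun z => by
      obtain ⟨a, b, hb, h⟩ := hfrac.1 hrat.2 z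
      exact ⟨a, b, (eq_div_iff ((map_ne_zero_iff _ hinj).2 hb)).2 h⟩
    let K := (pullback f g).residueField x'
    have hmap : Spec.map (CommRingCat.ofHom (algebraMap A' K)) =
        (pullback f g).fromSpecResidueField x' ≫ pullback.snd f g := hu
    let σ : Spec (CommRingCat.of K) ⟶ X := (pullback f g).fromSpecResidueField x' ≫ pullback.fst f g
    obtain ⟨l₀, hl₀⟩ : ∃ l₀, l₀ ≫ i = σ := EGA43.ProperDvr.exists_lift_closed σ C
      (EGA43.ProperDvr.range_subset_of_mem σ (C := closure Z) (subset_closure (by
        show pullback.fst f g ((pullback f g).fromSpecResidueField x' (IsLocalRing.closedPoint K)) ∈ Z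
        rw [Scheme.fromSpecResidueField_apply]
        exact hxZ)))
    have hgU : Set.range g ⊆ Set.range U.ι := by
      rw [Scheme.Opens.range_ι]
      rintro _ ⟨p, rfl⟩
      exact ((IsLocalRing.specializes_closedPoint p).map g.continuous).mem_open U.isOpen (hg.symm ▸ hyU)
    let i₂ : Spec (CommRingCat.of A') ⟶ U.toScheme := IsOpenImmersion.lift U.ι g hgU
    have hi₂ : i₂ ≫ U.ι = g := IsOpenImmersion.lift_fac _ _ _
    have hw : l₀ ≫ i ≫ f = (Spec.map (CommRingCat.ofHom (algebraMap A' K)) ≫ i₂) ≫ U.ι := by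
      rw [Category.assoc, hi₂, reassoc_of% hl₀, hmap]
      simp only [σ, Category.assoc, pullback.condition]
    let i₁ := (isPullback_morphismRestrict (i ≫ f) U).lift (Spec.map (CommRingCat.ofHom (algebraMap A' K)) ≫ i₂) l₀ hw.symm
    let S : ValuativeCommSq ((i ≫ f) ∣_ U) :=
      ValuativeCommSq.mk A' K i₁ i₂ ⟨IsPullback.lift_fst _ _ _ _⟩
    obtain ⟨⟨m⟩⟩ := (UniversallyClosed.eq_valuativeCriterion.le _ _ _
      (inferInstanceAs (UniversallyClosed ((i ≫ f) ∣_ U)))).1 S
    let l := m.l ≫ ((i ≫ f) ⁻¹ᵁ U).ι ≫ i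
    have hlf : l ≫ f = 𝟙 _ ≫ g := by
      rw [Category.id_comp, Category.assoc, Category.assoc, ← morphismRestrict_ι, reassoc_of% m.fac_right]
      exact hi₂
    refine ⟨pullback.lift l (𝟙 _) hlf, pullback.lift_snd _ _ _,
      Spec.map (CommRingCat.ofHom (algebraMap A' K)) (IsLocalRing.closedPoint K), ?_⟩
    have hfac : Spec.map (CommRingCat.ofHom (algebraMap A' K)) ≫ pullback.lift l (𝟙 _) hlf =
        (pullback f g).fromSpecResidueField x' := by
      apply pullback.hom_ext
      · rw [Category.assoc, pullback.lift_fst]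
        show _ ≫ m.l ≫ ((i ≫ f) ⁻¹ᵁ U).ι ≫ i = σ
        rw [reassoc_of% m.fac_left, ← Category.assoc]
        show (i₁ ≫ ((i ≫ f) ⁻¹ᵁ U).ι) ≫ i = σ
        rw [IsPullback.lift_snd, hl₀]
      · rw [Category.assoc, pullback.lift_snd, Category.comp_id, hmap]
    exact (congrArg (fun ψ : Spec (CommRingCat.of K) ⟶ pullback f g => ψ (IsLocalRing.closedPoint K)) hfac).trans
      (Scheme.fromSpecResidueField_apply _ _)
  · intro h
    obtain ⟨U, hyU, hU⟩ := EGA43.ProperDvr.exists_isProper_of_dvr (i ≫ f) y fun ξ hξ A _ _ _ K _ _ _ g σ hσ hg hσξ => by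
      let σ' := pullback.lift (σ ≫ i) (Spec.map (CommRingCat.ofHom (algebraMap A K)))
        (show (σ ≫ i) ≫ f = _ ≫ g by rw [Category.assoc]; exact hσ)
      let c := IsLocalRing.closedPoint K
      have hfst : pullback.fst f g (σ' c) = i ξ :=
        (congrArg (fun ψ : Spec (CommRingCat.of K) ⟶ X => ψ c) (pullback.lift_fst _ _ _)).trans (congrArg i hσξ)
      have hξZ : i ξ ∈ Z := by
        refine hZ _ (hi.le ⟨ξ, rfl⟩) fun z' hz' hcl => ?_
        obtain ⟨w, rfl⟩ := hi.ge hz'
        rw [hξ w (i.isEmbedding.isInducing.specializes_iff.1 (specializes_iff_mem_closure.2 hcl))]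
      obtain ⟨hgen, hrat, huniq⟩ := EGA43.ProperDvr.rational_of_frac K (pullback.snd f g) σ' (pullback.lift_snd _ _ _)
      obtain ⟨s, hs, t, ht⟩ := h A g hg (σ' c) (hfst.symm ▸ hξZ) hgen hrat
      have htgen : t = genericPoint (Spec (CommRingCat.of A)) :=
        ((congrArg (fun ψ : Spec (CommRingCat.of A) ⟶ Spec (CommRingCat.of A) => ψ t) hs).symm.trans
          (congrArg (pullback.snd f g) ht)).trans hgen
      have hsc : Spec.map (CommRingCat.ofHom (algebraMap A K)) ≫ s = σ' := by
        refine huniq _ (by rw [Category.assoc, hs, Category.comp_id]) ?_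
        exact (congrArg s ((EGA43.ProperDvr.specMap_frac_apply A K c).trans htgen.symm)).trans ht
      obtain ⟨l, hl⟩ := EGA43.ProperDvr.exists_lift_closed (s ≫ pullback.fst f g) C (by
        rintro _ ⟨p, rfl⟩
        have h1 : (s ≫ pullback.fst f g) t ∈ (C : Set X) :=
          subset_closure (((congrArg (pullback.fst f g) ht).trans hfst).symm ▸ hξZ)
        exact (((genericPoint_specializes p).map (s ≫ pullback.fst f g).continuous).mem_closed C.isClosed
          (htgen ▸ h1)))
      refine ⟨l, by rw [← Category.assoc, hl, Category.assoc, pullback.condition, ← Category.assoc, hs, Category.id_comp], ?_⟩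
      rw [← cancel_mono i, Category.assoc, hl, ← Category.assoc, hsc, pullback.lift_fst]
    exact ⟨U, hyU, isClosed_closure.preimage (f ⁻¹ᵁ U).ι.continuous,
      (EGA43.ProperDvr.isProper_subscheme_iff f C U _).2 hU⟩

end Groth.Agent.S4978
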