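import Groth.Statements.S4979
import Groth.Agent.EGA3Amp7.OpenDescent
import Groth.Agent.KRRPBLib.Basic
-- import your own Groth.Agent.* helpers here

set_option autoImplicit false
set_option linter.style.haveILetI false
set_option backward.isDefEq.respectTransparency false
open CategoryTheory AlgebraicGeometry
universe u v w
open EGA43

namespace Groth.Agent.S4979

open CategoryTheory.Limits in
/-- Let Y be a locally Noetherian scheme, f : X ⟶ Y a morphism locally of finite type, g : Y' ⟶ Y a
morphism locally of finite type which is universally open and surjective, f' : X ×_Y Y' ⟶ Y' the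
base change of f, L an invertible O_X-module and L' its pullback to X ×_Y Y'. Suppose there is a
closed subset Z of X which, with its reduced subscheme structure, is proper over Y, and such that
the local rings of X at the points outside Z are integrally closed domains. Then L is ample relative
to f if and only if L' is ample relative to f'. -/
theorem result {X Y Y' : Scheme.{u}}
    [IsLocallyNoetherian Y] (f : X ⟶ Y) [LocallyOfFiniteType f] (g : Y' ⟶ Y) [LocallyOfFiniteType g]
    [UniversallyOpen g] [Surjective g] (L : X.Modules) (hL : FlatMod.IsFinLocFreeOfRank 1 L)
    (Z : TopologicalSpace.Closeds X) (hZ : IsProper ((Scheme.IdealSheafData.vanishingIdeal Z).subschemeι ≫ f))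
    (hnor : ∀ x : X, x ∉ (Z : Set X) → IsDomain (X.presheaf.stalk x) ∧ IsIntegrallyClosed (X.presheaf.stalk x)) :
    RelAmple.IsRelAmple f L ↔
      RelAmple.IsRelAmple (pullback.snd f g) ((Scheme.Modules.pullback (pullback.fst f g)).obj L) := by
  constructor
  · intro h
    haveI : QuasiCompact f := h.1
    exact AmpleLib.isRelAmple_baseChange f g h
  · exact fun h => EGA3Amp7.isRelAmple_of_universallyOpen f g (KRRPBLib.isInvertible_of_rankOne hL)
      ⟨Z.isClosed, hZ⟩ hnor h

end Groth.Agent.S4979
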