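import Groth.Statements.S4986
import Groth.Agent.EGA43.DimFormula.Sets
-- import your own Groth.Agent.* helpers here

set_option autoImplicit false
set_option backward.isDefEq.respectTransparency false
open CategoryTheory AlgebraicGeometry
universe u v w
open EGA43

namespace Groth.Agent.S4986

/-- Let Y be locally Noetherian, f : X ⟶ Y of finite type, x ∈ X, y = f x, X' an irreducible closed
subset containing x with its reduced structure, Y' the closure of f(X') with its reduced structure
and generic point η', and A, B, A', B' the local rings of Y at y, of X at x, of Y' at y and of X' at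
x. Suppose dim B = dim A + dim(B ⊗ κ(y)). Then X' satisfies the four conditions (i) dim A' = dim A,
(ii) dim_x(X' ∩ X_y) = dim_x(X_y), (iii) X' equidimensional over Y' at x, (iv) dim B' = dim A' +
dim(B' ⊗ κ(y)), if and only if dim B' = dim B. -/
theorem result {X Y : Scheme.{u}} [IsLocallyNoetherian Y] (f : X ⟶ Y)
    [LocallyOfFiniteType f] [QuasiCompact f] (x : X) (X' : TopologicalSpace.Closeds X) (hirr : IsIrreducible (X' : Set X))
    (hx : x ∈ X') (w : ↥(Scheme.IdealSheafData.vanishingIdeal X').subscheme)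
    (hw : (Scheme.IdealSheafData.vanishingIdeal X').subschemeι.base w = x)
    (v : ↥(Scheme.IdealSheafData.vanishingIdeal
      (⟨closure (f.base '' (X' : Set X)), isClosed_closure⟩ : TopologicalSpace.Closeds Y)).subscheme)
    (hv : (Scheme.IdealSheafData.vanishingIdeal
      (⟨closure (f.base '' (X' : Set X)), isClosed_closure⟩ : TopologicalSpace.Closeds Y)).subschemeι.base v = f.base x)
    (η' : Y) (hη' : closure ({η'} : Set Y) = closure (f.base '' (X' : Set X))) :
    letI ιX := (Scheme.IdealSheafData.vanishingIdeal X').subschemeι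
    letI dA := ringKrullDim (Y.presheaf.stalk (f.base x))
    letI dB := ringKrullDim (X.presheaf.stalk x)
    letI dA' := ringKrullDim ((Scheme.IdealSheafData.vanishingIdeal
      (⟨closure (f.base '' (X' : Set X)), isClosed_closure⟩ : TopologicalSpace.Closeds Y)).subscheme.presheaf.stalk v)
    letI dB' := ringKrullDim ((Scheme.IdealSheafData.vanishingIdeal X').subscheme.presheaf.stalk w)
    letI dBk := ringKrullDim ((f.fiber (f.base x)).presheaf.stalk (f.asFiber x))
    letI dB'k := ringKrullDim (((ιX ≫ f).fiber ((ιX ≫ f).base w)).presheaf.stalk ((ιX ≫ f).asFiber w))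
    letI e' := topologicalKrullDim ↥((X' : Set X) ∩ f.base ⁻¹' {η'})
    dB = dA + dBk →
      ((dA' = dA ∧ FlatMor.localDim ↥((X' : Set X) ∩ f.base ⁻¹' {f.base x}) ⟨x, ⟨hx, rfl⟩⟩ = FlatMor.fibreDimAt f x ∧
        FlatMor.fibreDimAt (ιX ≫ f) w = e' ∧ dB' = dA' + dB'k) ↔ dB' = dB) := by
  intro hdf
  let ιX := (Scheme.IdealSheafData.vanishingIdeal X').subschemeι
  haveI := LocallyOfFiniteType.isLocallyNoetherian f
  obtain ⟨ξ, hI, hgen, hη, he, hr⟩ :=
    Groth.Agent.EGA43.DimFormula.subscheme_data f X' hirr η' hη'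
  haveI := hI
  haveI : LocallyOfFiniteType (ιX ≫ f) := inferInstance
  haveI := LocallyOfFiniteType.isLocallyNoetherian (ιX ≫ f)
  have hA' := Groth.Agent.EGA43.DimFormula.image_data f X' η' hη' x v hv
  obtain ⟨-, h2⟩ := Groth.Agent.EGA43.DimFormula.four_iff f ιX w x hw η' (hgen.symm ▸ hη) rfl rfl
  have h3 := h2 ((Groth.Agent.EGA43.DimFormula.dF_iff f x).1 hdf)
  rw [he, hA']
  rw [Groth.Agent.EGA43.DimFormula.localDim_inter_fibre_eq_fibreDimAt ιX f _ hr w x hw,
    Groth.Agent.EGA43.DimFormula.fibreDimAt_eq (ιX ≫ f) w, Groth.Agent.EGA43.DimFormula.fibreDimAt_eq f x,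
    Groth.Agent.EGA43.DimFormula.fibDim_eq (ιX ≫ f) w,
    Groth.Agent.EGA43.DimFormula.dimAt_eq, Groth.Agent.EGA43.DimFormula.dimAt_eq,
    Groth.Agent.EGA43.DimFormula.dimAt_eq, ← hgen]
  exact_mod_cast h3

end Groth.Agent.S4986
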