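import Groth.Statements.S4996
import Groth.Agent.CAlgH.AdicSmoothGeom
import Groth.Agent.CAlgH.AdicSmoothCotangent
import Groth.Agent.CAlgH.RegularSmooth
import Groth.Agent.SmoothLib.AtPoint
import Mathlib.RingTheory.Smooth.Flat

set_option autoImplicit false
set_option backward.isDefEq.respectTransparency.types false
universe u
open Unram17

namespace Groth.Agent.S4996

open TensorProduct in
/-- Let B be a finitely presented algebra over a commutative ring A. Then B is smooth over A if and only
if B is flat over A and every fibre ring κ(p) ⊗_A B, p a prime of A, is geometrically regular over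
the residue field κ(p), i.e. stays a regular ring after base change to any finite extension of κ(p). -/
theorem result (A B : Type u) [CommRing A] [CommRing B]
    [Algebra A B] [Algebra.FinitePresentation A B] :
    Algebra.Smooth A B ↔
      Module.Flat A B ∧ ∀ (p : Ideal A) [p.IsPrime], CAlg.IsGeometricallyRegular p.ResidueField (p.Fiber B) := by
  constructor
  · intro h
    refine ⟨inferInstance, fun p _ k' _ _ _ => ?_⟩
    exact Groth.Agent.CAlgH.isRegularRing_of_smooth k' (TensorProduct p.ResidueField k' (p.Fiber B))
  · rintro ⟨hflat, hreg⟩
    have key : ∀ (q : Ideal B) [q.IsPrime], Algebra.IsSmoothAt A q := by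
      intro q _
      let p : PrimeSpectrum A := ⟨q.comap (algebraMap A B), inferInstance⟩
      let x : PrimeSpectrum.comap (algebraMap A B) ⁻¹' {p} := ⟨⟨q, inferInstance⟩, rfl⟩
      let P := PrimeSpectrum.preimageEquivFiber A B p x
      have hP : P.asIdeal.comap (Algebra.TensorProduct.includeRight : B →ₐ[A] p.asIdeal.Fiber B).toRingHom = q :=
        congrArg (fun y => y.1.asIdeal) ((PrimeSpectrum.preimageEquivFiber A B p).symm_apply_apply x)
      haveI : IsNoetherianRing (p.asIdeal.Fiber B) :=
        Algebra.FiniteType.isNoetherianRing p.asIdeal.ResidueField _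
      haveI : IsNoetherianRing (Localization.AtPrime P.asIdeal) :=
        IsLocalization.isNoetherianRing P.asIdeal.primeCompl _ inferInstance
      haveI : Algebra.IsSmoothAt p.asIdeal.ResidueField P.asIdeal :=
        Groth.Agent.CAlgH.AdicSmooth.formallySmooth_localization P.asIdeal
          (Groth.Agent.CAlgH.AdicSmooth.of_isGeometricallyRegular
            (Groth.Agent.CAlgH.AdicSmooth.isGeometricallyRegular_localization p.asIdeal.ResidueField
              (p.asIdeal.Fiber B) (hreg p.asIdeal) P.asIdeal.primeCompl _))
      haveI : Module.Flat A (Localization.AtPrime q) :=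
        haveI : Module.Flat B (Localization.AtPrime q) := IsLocalization.flat (Localization.AtPrime q) q.primeCompl
        Module.Flat.trans A B _
      exact Groth.Agent.SmoothLib.isSmoothAt_of_fibre p.asIdeal q P.asIdeal hP
    exact ⟨Algebra.smoothLocus_eq_univ_iff.1 (Set.eq_univ_of_forall fun y => key y.asIdeal), inferInstance⟩

end Groth.Agent.S4996
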