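import Groth.Statements.S4998
import Groth.Agent.FiniteEt.Trace
import Mathlib.RingTheory.Unramified.Finite
import Mathlib.RingTheory.LocalRing.Module
import Mathlib.RingTheory.Etale.Basic
import Mathlib.RingTheory.Smooth.Flat
import Mathlib.RingTheory.Etale.Descent

set_option autoImplicit false
universe u
open Unram17

namespace Groth.Agent.S4998
open TensorProduct

/-- Let A be an algebra of finite type over a field k. Then A is formally unramified over k if and only
if A is finite over k and every element of A has separable minimal polynomial over k (equivalently,
A is a finite product of finite separable extensions of k). -/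
theorem result (k A : Type u) [Field k] [CommRing A]
    [Algebra k A] [Algebra.FiniteType k A] :
    Algebra.FormallyUnramified k A ↔ Module.Finite k A ∧ Algebra.IsSeparable k A := by
  classical
  constructor
  · intro h
    have := Algebra.FormallyUnramified.finite_of_free k A
    refine ⟨inferInstance, ⟨fun x => ?_⟩⟩
    haveI := Algebra.FormallyEtale.of_formallyUnramified_of_field k A
    obtain ⟨I, _, Ai, _, _, e, hsep⟩ := (Algebra.FormallyEtale.iff_exists_algEquiv_prod k A).mp inferInstance
    letI := Fintype.ofFinite I
    let S : Finset (Polynomial k) := Finset.univ.image fun i => minpoly k (e x i)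
    let p : Polynomial k := ∏ q ∈ S, q
    have hint : ∀ i, IsIntegral k (e x i) := fun i => (Algebra.IsSeparable.isSeparable k (e x i)).isIntegral
    have hp : p.Separable := by
      apply Polynomial.separable_prod' 
      · intro q hq q' hq' hne
        obtain ⟨i, -, rfl⟩ := Finset.mem_image.mp hq
        obtain ⟨j, -, rfl⟩ := Finset.mem_image.mp hq'
        apply (minpoly.irreducible (hint i)).coprime_iff_not_dvd.mpr
        exact fun hd => hne (Polynomial.eq_of_monic_of_associated (minpoly.monic (hint i)) (minpoly.monic (hint j))
          ((minpoly.irreducible (hint i)).associated_of_dvd (minpoly.irreducible (hint j)) hd))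
      · intro q hq
        obtain ⟨i, -, rfl⟩ := Finset.mem_image.mp hq
        exact Algebra.IsSeparable.isSeparable k (e x i)
    have hx : Polynomial.aeval x p = 0 := by
      apply e.injective
      funext i
      rw [map_zero, Pi.zero_apply]
      have : e (Polynomial.aeval x p) i = Polynomial.aeval (e x i) p := by
        exact (Polynomial.aeval_algHom_apply ((Pi.evalAlgHom k Ai i).comp e.toAlgHom) x p).symm
      rw [this]
      obtain ⟨c, hc⟩ : minpoly k (e x i) ∣ p := Finset.dvd_prod_of_mem _ (Finset.mem_image_of_mem _ (Finset.mem_univ i))
      rw [hc, map_mul, minpoly.aeval, zero_mul]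
    exact hp.of_dvd (minpoly.dvd k x hx)
  · rintro ⟨hfin, hsep⟩
    constructor
    have hD : ∀ x : A, KaehlerDifferential.D k A x = 0 := by
      intro x
      have hs : (minpoly k x).Separable := Algebra.IsSeparable.isSeparable k x
      obtain ⟨a, b, hab⟩ := hs
      have h1 := congrArg (Polynomial.aeval x) hab
      simp only [map_add, map_mul, minpoly.aeval, mul_zero, zero_add, map_one] at h1
      have h2 := congrArg (KaehlerDifferential.D k A) (minpoly.aeval k x)
      rw [Derivation.map_aeval, map_zero] at h2
      calc KaehlerDifferential.D k A x = (Polynomial.aeval x b * Polynomial.aeval x (Polynomial.derivative (minpoly k x))) • KaehlerDifferential.D k A x := by rw [h1, one_smul]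
        _ = 0 := by rw [mul_smul, h2, smul_zero]
    refine subsingleton_of_forall_eq 0 fun w => ?_
    have := KaehlerDifferential.span_range_derivation k A
    have hr : Submodule.span A (Set.range (KaehlerDifferential.D k A)) ≤ ⊥ := by
      rw [Submodule.span_le]; rintro _ ⟨x, rfl⟩; exact hD x
    rw [this] at hr
    exact (Submodule.mem_bot A).mp (hr trivial)

end Groth.Agent.S4998
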