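import Groth.Statements.S4999
import Groth.Agent.Unram17Lib.KaehlerCriterion
import Groth.Agent.EGA41Lib.FieldSeparableSmooth
import Mathlib.RingTheory.HopkinsLevitzki
import Mathlib.RingTheory.Spectrum.Prime.FreeLocus

set_option autoImplicit false
set_option backward.isDefEq.respectTransparency.types false
universe u
open Unram17

namespace Groth.Agent.S4999

/-- Let A be an algebra of finite type over a field k. Then A is smooth over k if and only if the module
of differentials of A over k is projective (locally free) and, at every minimal prime p of A, the
local ring A_p is geometrically reduced over k, which for this Artinian local ring says that A_p is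
a field and a separable (not necessarily algebraic) extension of k. -/
theorem result (k A : Type u) [Field k] [CommRing A]
    [Algebra k A] [Algebra.FiniteType k A] :
    Algebra.Smooth k A ↔
      Module.Projective A (KaehlerDifferential k A) ∧
        ∀ (p : Ideal A) [p.IsPrime], p ∈ minimalPrimes A →
          Algebra.IsGeometricallyReduced k (Localization.AtPrime p) := by
  haveI : IsNoetherianRing A := Algebra.FiniteType.isNoetherianRing k A
  haveI hfp : Algebra.FinitePresentation k A := Algebra.FinitePresentation.of_finiteType.1 inferInstance
  have hart : ∀ (p : Ideal A) [p.IsPrime], p ∈ minimalPrimes A → IsArtinianRing (Localization.AtPrime p) := by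
    intro p _ hp
    haveI : IsNoetherianRing (Localization.AtPrime p) :=
      IsLocalization.isNoetherianRing p.primeCompl _ inferInstance
    refine isArtinianRing_iff_isNoetherianRing_krullDimLE_zero.2 ⟨inferInstance, ?_⟩
    haveI := IsLocalization.subsingleton_primeSpectrum_of_mem_minimalPrimes p hp (Localization.AtPrime p)
    exact ⟨Order.krullDim_nonpos_of_subsingleton⟩
  constructor
  · intro h
    refine ⟨inferInstance, fun p _ hp => ?_⟩
    haveI : Algebra.IsSmoothAt k p :=
      (Set.eq_univ_iff_forall.1 (Algebra.smoothLocus_eq_univ (R := k) (A := A)) ⟨p, inferInstance⟩ :)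
    haveI := hart p hp
    haveI := (Groth.Agent.Unram17Lib.regular_and_localDim_eq_finrank k p).1
    haveI := Groth.Agent.CAlgH3.isDomain_of_isRegularLocalRing (Localization.AtPrime p)
    have hF := IsArtinianRing.isField_of_isReduced_of_isLocalRing (R := Localization.AtPrime p)
    letI := hF.toField
    exact (Groth.Agent.EGA41Lib.formallySmooth_iff_isGeometricallyReduced_field k (Localization.AtPrime p)).1
      ‹Algebra.IsSmoothAt k p›
  · rintro ⟨hproj, hred⟩
    haveI : Module.FinitePresentation A (KaehlerDifferential k A) :=
      Module.finitePresentation_of_projective _ _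
    have key : ∀ (q : Ideal A) [q.IsPrime], Algebra.IsSmoothAt k q := by
      intro q _
      obtain ⟨p, hp, hpq⟩ := Ideal.exists_minimalPrimes_le (bot_le : (⊥ : Ideal A) ≤ q)
      haveI := hp.1.1
      haveI := hart p hp
      haveI := hred p hp
      haveI := Algebra.isReduced_of_isGeometricallyReduced (k := k) (A := Localization.AtPrime p)
      haveI : Algebra.IsSmoothAt k p := by
        letI := (IsArtinianRing.isField_of_isReduced_of_isLocalRing (R := Localization.AtPrime p)).toField
        exact (Groth.Agent.EGA41Lib.formallySmooth_iff_isGeometricallyReduced_field k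
          (Localization.AtPrime p)).2 (hred p hp)
      refine Groth.Agent.Unram17Lib.isSmoothAt_of_finrank_kaehler_le k q ?_
      have hrank : Module.rankAtStalk (R := A) (KaehlerDifferential k A) ⟨q, inferInstance⟩ =
          Module.rankAtStalk (R := A) (KaehlerDifferential k A) ⟨p, inferInstance⟩ := by
        have hlc := Module.isLocallyConstant_rankAtStalk (R := A) (M := KaehlerDifferential k A)
        have hs : (⟨p, inferInstance⟩ : PrimeSpectrum A) ⤳ ⟨q, inferInstance⟩ :=
          (PrimeSpectrum.le_iff_specializes _ _).1 hpq
        exact ((hs.mem_open (hlc.isOpen_fiber _) rfl) :).symm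
      have e1 := Ideal.finrank_fiber_eq_rankAtStalk (R := A) (M := KaehlerDifferential k A) q
      have e2 := Ideal.finrank_fiber_eq_rankAtStalk (R := A) (M := KaehlerDifferential k A) p
      refine le_trans (le_of_eq ?_) (le_iInf fun U => ?_ :
        FlatMor.localDim (PrimeSpectrum A) ⟨p, inferInstance⟩ ≤ FlatMor.localDim (PrimeSpectrum A) ⟨q, inferInstance⟩)
      · rw [(Groth.Agent.Unram17Lib.regular_and_localDim_eq_finrank k p).2]
        exact_mod_cast e1.trans (hrank.trans e2.symm)
      · exact iInf_le_of_le ⟨U.1, ((PrimeSpectrum.le_iff_specializes _ _).1 hpq).mem_open U.1.2 U.2⟩ le_rfl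
    exact ⟨Algebra.smoothLocus_eq_univ_iff.1 (Set.eq_univ_of_forall fun y => key y.asIdeal), hfp⟩

end Groth.Agent.S4999
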