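import Groth.Statements.S5000
import Groth.Agent.HopfLib.RegularDerivations
import Groth.Agent.CAlgH.CotangentResidue
import Groth.Agent.CAlgH.FieldSmooth
import Groth.Agent.S9442

set_option autoImplicit false
set_option backward.isDefEq.respectTransparency.types false
universe u
open Unram17

theorem Groth.Agent.S5000Aux.exists_int_derivation.{u1, v1} {k : Type u1} {R : Type v1} [CommRing k] [CommRing R]
    [Algebra k R] (D : Derivation k R R) : ∃ D' : Derivation ℤ R R, ∀ a, D' a = D a :=
  ⟨D.restrictScalars ℤ, fun _ => rfl⟩

namespace Groth.Agent.S5000

/-- Let k be a field of characteristic zero, A a k-algebra of finite type and q a prime of A. Then A is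
smooth over k at q if and only if the module of differentials of the local ring A_q over k is free. -/
theorem result (k A : Type u) [Field k] [CharZero k] [CommRing A]
    [Algebra k A] [Algebra.FiniteType k A] (q : Ideal A) [q.IsPrime] :
    Algebra.IsSmoothAt k q ↔
      Module.Free (Localization.AtPrime q) (KaehlerDifferential k (Localization.AtPrime q)) := by
  classical
  haveI : IsNoetherianRing A := Algebra.FiniteType.isNoetherianRing k A
  let R := Localization.AtPrime q
  haveI : IsNoetherianRing R := IsLocalization.isNoetherianRing q.primeCompl _ inferInstance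
  haveI : Algebra.EssFiniteType A R := Algebra.EssFiniteType.of_isLocalization _ q.primeCompl
  haveI : Algebra.EssFiniteType k R := Algebra.EssFiniteType.comp k A _
  constructor
  · intro h
    haveI : Algebra.FormallySmooth k R := h
    exact Module.free_of_flat_of_isLocalRing
  · intro hfree
    let K := IsLocalRing.ResidueField R
    haveI : Algebra.FormallySmooth k K := Groth.Agent.CAlgH.formallySmooth_of_perfectField_any k K
    have hinj := Groth.Agent.CAlgH.kerCotangentToTensor_injective_of_formallySmooth k R K
      IsLocalRing.residue_surjective
    -- minimal generators of the maximal ideal with independent differentials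
    let n := Module.finrank K (IsLocalRing.CotangentSpace R)
    let b : Module.Basis (Fin n) K (IsLocalRing.CotangentSpace R) := Module.finBasis K _
    have hsur : ∀ i, ∃ y : IsLocalRing.maximalIdeal R, (IsLocalRing.maximalIdeal R).toCotangent y = b i :=
      fun i => Ideal.toCotangent_surjective _ _
    choose y hy using hsur
    let x : Fin n → R := fun i => (y i : R)
    have hspanK : Submodule.span K (Set.range b) = ⊤ := b.span_eq
    have hx : Ideal.span (Set.range x) = IsLocalRing.maximalIdeal R := by
      have hy2 : Submodule.span R (Set.range y) = ⊤ := by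
        rw [← IsLocalRing.CotangentSpace.span_image_eq_top_iff]
        rw [← hspanK]
        congr 1
        rw [← Set.range_comp]
        exact congrArg Set.range (funext hy)
      have := congrArg (Submodule.map (IsLocalRing.maximalIdeal R).subtype) hy2
      rw [Submodule.map_span, ← Set.range_comp, Submodule.map_top, Submodule.range_subtype] at this
      exact this
    let v : Fin n → TensorProduct R K (KaehlerDifferential k R) := fun i =>
      (1 : K) ⊗ₜ[R] KaehlerDifferential.D k R (x i)
    have hv : LinearIndependent K v := by
      rw [Fintype.linearIndependent_iff]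
      intro c hc
      choose c' hc' using fun i => IsLocalRing.residue_surjective (c i)
      let z : R := ∑ i, c' i * x i
      have hz : z ∈ IsLocalRing.maximalIdeal R :=
        Ideal.sum_mem _ fun i _ => Ideal.mul_mem_left _ _ (y i).2
      have hker : RingHom.ker (algebraMap R K) = IsLocalRing.maximalIdeal R := IsLocalRing.ker_residue
      let z' : RingHom.ker (algebraMap R K) := ⟨z, hker.ge hz⟩
      have h0 : (1 : K) ⊗ₜ[R] KaehlerDifferential.D k R z = 0 := by
        rw [map_sum, TensorProduct.tmul_sum]
        refine Eq.trans (Finset.sum_congr rfl fun i _ => ?_) hc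
        rw [Derivation.leibniz, TensorProduct.tmul_add, ← TensorProduct.smul_tmul, ← TensorProduct.smul_tmul]
        have hxi : (x i • (1 : K)) = 0 := by
          rw [Algebra.smul_def, mul_one]
          exact (IsLocalRing.residue_eq_zero_iff _).2 (y i).2
        rw [hxi, TensorProduct.zero_tmul, add_zero, ← hc' i, Algebra.smul_def, mul_one]
        show _ = IsLocalRing.residue R (c' i) • v i
        rw [TensorProduct.smul_tmul', smul_eq_mul, mul_one]
        rfl
      rw [show (1 : K) ⊗ₜ[R] KaehlerDifferential.D k R z =
          KaehlerDifferential.kerCotangentToTensor k R K (Ideal.toCotangent _ z') from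
        (KaehlerDifferential.kerCotangentToTensor_toCotangent k R K z').symm,
        map_eq_zero_iff _ hinj, Ideal.toCotangent_eq_zero] at h0
      have h2 : z ∈ IsLocalRing.maximalIdeal R ^ 2 :=
        (congrArg (fun J : Ideal R => z ∈ J ^ 2) hker).mp h0
      have h3 : ∑ i, c i • b i = 0 := by
        have hz2 : (IsLocalRing.maximalIdeal R).toCotangent ⟨z, hz⟩ = 0 := (Ideal.toCotangent_eq_zero _ _).2 h2
        have : (⟨z, hz⟩ : IsLocalRing.maximalIdeal R) = ∑ i, c' i • y i :=
          Subtype.ext (by simp [z, x])
        rw [this, map_sum] at hz2
        refine Eq.trans (Finset.sum_congr rfl fun i _ => ?_) hz2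
        rw [map_smul, hy, ← hc' i]
        rfl
      exact Fintype.linearIndependent_iff.1 b.linearIndependent c h3
    have hphi : ∀ i : Fin n, ∃ φ : TensorProduct R K (KaehlerDifferential k R) →ₗ[K] K,
        ∀ j, φ (v j) = if i = j then 1 else 0 := by
      intro i
      obtain ⟨L, hL⟩ := (Finsupp.linearCombination K v).exists_leftInverse_of_injective
        (LinearMap.ker_eq_bot.2 hv)
      refine ⟨Finsupp.lapply i ∘ₗ L, fun j => ?_⟩
      have : L (v j) = Finsupp.single j 1 := by
        have := LinearMap.congr_fun hL (Finsupp.single j 1)
        simpa using this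
      simp [this, Finsupp.single_apply, eq_comm]
    choose φ hφ using hphi
    have hlift : ∀ i : Fin n, ∃ ψ : KaehlerDifferential k R →ₗ[R] R, ∀ ω,
        IsLocalRing.residue R (ψ ω) = φ i ((1 : K) ⊗ₜ[R] ω) := by
      intro i
      obtain ⟨ψ, hψ⟩ := Module.projective_lifting_property (Algebra.linearMap R K)
        (((φ i).restrictScalars R) ∘ₗ TensorProduct.mk R K (KaehlerDifferential k R) 1)
        IsLocalRing.residue_surjective
      exact ⟨ψ, fun ω => LinearMap.congr_fun hψ ω⟩
    choose ψ hψ using hlift
    have hreg : IsRegularLocalRing R := by
      choose D' hD' using fun i =>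
        Groth.Agent.S5000Aux.exists_int_derivation ((ψ i).compDer (KaehlerDifferential.D k R))
      refine Groth.Agent.HopfLib.isRegularLocalRing_of_derivations x hx D' (fun i j => ?_) (fun d hd => ?_)
      · rw [← IsLocalRing.residue_eq_zero_iff, map_sub, sub_eq_zero, hD']
        show IsLocalRing.residue R (ψ i (KaehlerDifferential.D k R (x j))) = _
        rw [hψ, hφ]
        split_ifs <;> simp
      · have : IsUnit (algebraMap k R (d : k)) := (isUnit_iff_ne_zero.2 (Nat.cast_ne_zero.2 hd.ne')).map _
        rwa [map_natCast] at this
    haveI : Algebra.FormallySmooth k (IsLocalRing.ResidueField (Localization.AtPrime q)) := ‹_›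
    haveI : IsRegularLocalRing (Localization.AtPrime q) := hreg
    exact Groth.Agent.CAlgH.AdicSmooth.formallySmooth_localization q
      Groth.Agent.CAlgH.AdicSmooth.of_regular_formallySmooth_residueField

end Groth.Agent.S5000
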