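import Groth.Statements.S5001
import Groth.Agent.Unram17Lib.LocalDim
import Groth.Agent.FlatLocal.FlatAt
import Groth.Agent.CAlgH3.MiracleFlat
import Groth.Agent.VarietyLib.SmoothStalk
import Groth.Agent.DimLib.Algebra
import Mathlib.RingTheory.MvPolynomial.Ideal
import Mathlib.RingTheory.Unramified.LocalRing

set_option autoImplicit false
set_option backward.isDefEq.respectTransparency.types false
universe u
open Unram17

namespace Groth.Agent.S5001

/-- Let k be a field, A a k-algebra of finite type equipped with a k-algebra map from the polynomial
ring in n variables, with images g_i of the variables, and p a prime of A such that Spec A has local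
dimension n at p, the residue field of p is a finite separable extension of k, and every g_i lies in
p. Then A is etale over the polynomial ring at p if and only if the images of the g_i generate the
maximal ideal of the local ring A_p. -/
theorem result (k A : Type u) [Field k] [CommRing A] [Algebra k A]
    [Algebra.FiniteType k A] (n : ℕ) [Algebra (MvPolynomial (Fin n) k) A]
    [IsScalarTower k (MvPolynomial (Fin n) k) A] (p : Ideal A) [p.IsPrime]
    (hn : FlatMor.localDim (PrimeSpectrum A) ⟨p, inferInstance⟩ = (n : WithBot ℕ∞))
    [Module.Finite k p.ResidueField] [Algebra.IsSeparable k p.ResidueField]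
    (hg : ∀ i : Fin n, algebraMap (MvPolynomial (Fin n) k) A (MvPolynomial.X i) ∈ p) :
    Algebra.IsEtaleAt (MvPolynomial (Fin n) k) p ↔
      Ideal.span (Set.range fun i : Fin n =>
        algebraMap A (Localization.AtPrime p) (algebraMap (MvPolynomial (Fin n) k) A (MvPolynomial.X i))) =
        IsLocalRing.maximalIdeal (Localization.AtPrime p) := by
  classical
  let P := MvPolynomial (Fin n) k
  haveI : IsNoetherianRing A := Algebra.FiniteType.isNoetherianRing k A
  haveI : Algebra.FiniteType P A := Algebra.FiniteType.of_restrictScalars_finiteType k P A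
  haveI : Algebra.FinitePresentation P A := Algebra.FinitePresentation.of_finiteType.mp inferInstance
  let m0 : Ideal P := p.comap (algebraMap P A)
  have hvle : MvPolynomial.idealOfVars (Fin n) k ≤ m0 := Ideal.span_le.2 (by rintro _ ⟨i, rfl⟩; exact hg i)
  have hvker : MvPolynomial.idealOfVars (Fin n) k = RingHom.ker (MvPolynomial.constantCoeff (σ := Fin n) (R := k)) := by
    ext f
    rw [RingHom.mem_ker, ← pow_one (MvPolynomial.idealOfVars (Fin n) k), MvPolynomial.mem_pow_idealOfVars_iff']
    refine ⟨fun h => h 0 (by simp), fun h d hd => ?_⟩
    have : d = 0 := Finsupp.degree_eq_zero_iff d |>.1 (by omega)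
    exact this ▸ h
  have hvmax : (MvPolynomial.idealOfVars (Fin n) k).IsMaximal :=
    hvker ▸ RingHom.ker_isMaximal_of_surjective _ fun c => ⟨MvPolynomial.C c, MvPolynomial.constantCoeff_C _ c⟩
  have hm0 : m0 = MvPolynomial.idealOfVars (Fin n) k :=
    (hvmax.eq_of_le (Ideal.IsPrime.ne_top inferInstance) hvle).symm
  haveI : m0.IsMaximal := hm0 ▸ hvmax
  haveI : p.LiesOver m0 := ⟨rfl⟩
  let S := Localization.AtPrime p
  letI := Localization.AtPrime.algebraOfLiesOver m0 p
  haveI : IsNoetherianRing S := IsLocalization.isNoetherianRing p.primeCompl _ inferInstance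
  have hmap : m0.map (algebraMap P S) = Ideal.span (Set.range fun i : Fin n =>
      algebraMap A S (algebraMap P A (MvPolynomial.X i))) := by
    rw [hm0, MvPolynomial.idealOfVars, Ideal.map_span, ← Set.range_comp]
    rfl
  constructor
  · intro he
    haveI : Algebra.IsUnramifiedAt P p := by
      haveI : Algebra.FormallyEtale P S := he
      show Algebra.FormallyUnramified P S
      infer_instance
    rw [← hmap]
    exact ((Algebra.isUnramifiedAt_iff_map_eq P m0 p).1 inferInstance).2
  · intro hspan
    -- A_p has dimension n
    haveI hpmax : p.IsMaximal := by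
      refine Ideal.Quotient.maximal_of_isField p ?_
      haveI : Module.Finite k (A ⧸ p) := Module.Finite.of_injective
        (IsScalarTower.toAlgHom k (A ⧸ p) p.ResidueField).toLinearMap
        (FaithfulSMul.algebraMap_injective (A ⧸ p) p.ResidueField)
      exact isField_of_isIntegral_of_isField' (R := k) (Field.toIsField k)
    have hdim : ringKrullDim S = (n : WithBot ℕ∞) := by
      have h := Groth.Agent.Unram17Lib.localDim_spec k A ⟨p, inferInstance⟩
      rw [hn] at h
      have h0 : ringKrullDim (A ⧸ p) = 0 :=
        ringKrullDim_eq_zero_of_isField ((Ideal.Quotient.maximal_ideal_iff_isField_quotient p).1 hpmax)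
      simpa [h0] using h.symm
    haveI : IsRegularLocalRing S := by
      refine IsRegularLocalRing.of_spanFinrank_maximalIdeal_le S ?_
      rw [hdim, ← hspan]
      have h := Submodule.spanFinrank_span_le_ncard_of_finite (R := S) (Set.finite_range fun i : Fin n =>
        algebraMap A S (algebraMap P A (MvPolynomial.X i)))
      have h2 : (Set.range fun i : Fin n => algebraMap A S (algebraMap P A (MvPolynomial.X i))).ncard ≤ n := by
        rw [← Set.image_univ]
        exact (Set.ncard_image_le Set.finite_univ).trans (by simp)
      exact_mod_cast h.trans h2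
    let R := Localization.AtPrime m0
    haveI : IsLocalHom (algebraMap R S) :=
      Localization.isLocalHom_localRingHom m0 p (algebraMap P A) Ideal.LiesOver.over
    haveI : Algebra.Smooth k P := ⟨inferInstance, inferInstance⟩
    haveI : IsRegularLocalRing R := Groth.Agent.VarietyLib.isRegularLocalRing_of_smooth k P m0
    haveI := Groth.Agent.CAlgH3.isCohenMacaulayLocalRing_of_regular S
    have hmS : (IsLocalRing.maximalIdeal R).map (algebraMap R S) = IsLocalRing.maximalIdeal S := by
      rw [← Localization.AtPrime.map_eq_maximalIdeal, Ideal.map_map, ← IsScalarTower.algebraMap_eq, hmap, hspan]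
    haveI : Module.Flat R S := by
      refine Groth.Agent.CAlgH3.flat_of_dim_eq _ R rfl S ?_
      have h0 : ringKrullDim (S ⧸ (IsLocalRing.maximalIdeal R).map (algebraMap R S)) = 0 :=
        ringKrullDim_eq_zero_of_isField ((Ideal.Quotient.maximal_ideal_iff_isField_quotient _).1
          (hmS ▸ IsLocalRing.maximalIdeal.isMaximal S))
      rw [h0, add_zero, hdim, IsLocalization.AtPrime.ringKrullDim_eq_height m0,
        Groth.Agent.DimLib.height_eq_of_isMaximal_mvPolynomial n m0]
      rfl
    haveI : Module.Flat P S := Module.Flat.trans P R S
    haveI : Algebra.IsUnramifiedAt P p := by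
      refine (Algebra.isUnramifiedAt_iff_map_eq P m0 p).2 ⟨?_, by rw [hmap, hspan]⟩
      haveI : IsScalarTower k m0.ResidueField p.ResidueField := IsScalarTower.of_algebraMap_eq fun c => by
        rw [IsScalarTower.algebraMap_apply k P p.ResidueField, IsScalarTower.algebraMap_apply k P m0.ResidueField,
          ← IsScalarTower.algebraMap_apply P m0.ResidueField p.ResidueField]
      exact Algebra.isSeparable_tower_top_of_isSeparable k m0.ResidueField p.ResidueField
    exact Groth.Agent.FlatLocal.isEtaleAt_of_flatAt p

end Groth.Agent.S5001
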