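import Groth.Statements.S5006

set_option autoImplicit false
universe u
open Nrm16

namespace Groth.Agent.S5006

/-- Let A be a commutative ring, I a finitely generated ideal and p a prime ideal containing I. Then
some basic open neighbourhood of p in Spec A is contained in the closed set V(I) (so that V(I) ⟶
Spec A is a local homeomorphism onto an open set near p) if and only if there is an integer n > 0
with I^n A_p = I^(n+1) A_p in the local ring at p. Affine form. -/
theorem result (A : Type u) [CommRing A] (I : Ideal A) (hI : I.FG)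
    (p : Ideal A) [p.IsPrime] (hp : I ≤ p) :
    (∃ f : A, f ∉ p ∧ ∀ q : Ideal A, q.IsPrime → f ∉ q → I ≤ q) ↔
      ∃ n : ℕ, 0 < n ∧
        (I ^ n).map (algebraMap A (Localization.AtPrime p)) =
          (I ^ (n + 1)).map (algebraMap A (Localization.AtPrime p)) := by
  classical
  set S := Localization.AtPrime p
  set J := I.map (algebraMap A S)
  have hJ : J ≤ IsLocalRing.maximalIdeal S := by
    rw [← Localization.AtPrime.map_eq_maximalIdeal]
    exact Ideal.map_mono hp
  have hJfg : J.FG := hI.map _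
  constructor
  · rintro ⟨f, hfp, hf⟩
    have hnil : J ≤ nilradical S := by
      rw [nilradical_eq_sInf]
      refine le_sInf fun Q (hQ : Q.IsPrime) => Ideal.map_le_iff_le_comap.mpr (hf _ (hQ.comap _) fun hfQ => ?_)
      exact hQ.ne_top (Ideal.eq_top_of_isUnit_mem Q hfQ (IsLocalization.map_units S (⟨f, hfp⟩ : p.primeCompl)))
    obtain ⟨n, hn⟩ := Ideal.exists_pow_le_of_le_radical_of_fg (I := J) (J := (⊥ : Ideal S)) hnil hJfg
    refine ⟨n + 1, Nat.succ_pos n, ?_⟩
    have h1 : ∀ m, n ≤ m → J ^ m = ⊥ := fun m hm => le_bot_iff.mp ((Ideal.pow_le_pow_right hm).trans hn)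
    rw [Ideal.map_pow, Ideal.map_pow]
    show J ^ (n + 1) = J ^ (n + 1 + 1)
    rw [h1 _ (by omega), h1 _ (by omega)]
  · rintro ⟨n, hn0, hn⟩
    rw [Ideal.map_pow, Ideal.map_pow] at hn
    change J ^ n = J ^ (n + 1) at hn
    have hfgn : (I ^ n).FG := Ideal.FG.pow hI
    have h0 : J ^ n = ⊥ := Submodule.eq_bot_of_le_smul_of_le_jacobson_bot J (J ^ n) (Ideal.FG.pow hJfg)
      (le_of_eq (hn.trans (pow_succ' J n))) (hJ.trans (IsLocalRing.maximalIdeal_le_jacobson ⊥))
    obtain ⟨s, hs⟩ := hfgn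
    have hx : ∀ x : (s : Set A), ∃ c : p.primeCompl, (c : A) * x.1 = 0 := fun x => by
      have : algebraMap A S x.1 ∈ J ^ n := by
        rw [← Ideal.map_pow]
        exact Ideal.mem_map_of_mem _ (hs ▸ Submodule.subset_span x.2)
      rw [h0, Ideal.mem_bot, IsLocalization.map_eq_zero_iff p.primeCompl] at this
      exact this
    choose c hc using hx
    refine ⟨(∏ x : s, (c ⟨x.1, x.2⟩ : p.primeCompl) : p.primeCompl).1, (∏ x : s, c ⟨x.1, x.2⟩).2, fun q hq hfq => ?_⟩
    refine (hq.pow_le_iff (Nat.pos_iff_ne_zero.mp hn0)).mp (hs ▸ Submodule.span_le.mpr fun x hx => ?_)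
    refine (hq.mem_or_mem (show (c ⟨x, hx⟩).1 * x ∈ q from ?_)).resolve_left (fun h => hfq ?_)
    · rw [hc]; exact q.zero_mem
    · rw [Submonoid.coe_finset_prod]
      exact Ideal.mem_of_dvd q (Finset.dvd_prod_of_mem (fun x : s => (c ⟨x.1, x.2⟩ : p.primeCompl).1) (Finset.mem_univ ⟨x, hx⟩)) h

end Groth.Agent.S5006
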