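import Groth.Statements.S5007
import Groth.Agent.FlatLocal.FibreCrit
import Groth.Agent.FlatLocal.FiberMap
import Groth.Prelude

set_option autoImplicit false
universe u
open CategoryTheory CategoryTheory.Limits AlgebraicGeometry TopologicalSpace
open Unram17

namespace Groth.Agent.S5007
open CategoryTheory CategoryTheory.Limits AlgebraicGeometry
set_option backward.isDefEq.respectTransparency.types false

/-- Let g : Y ⟶ S and h : X ⟶ S be locally of finite presentation and f : X ⟶ Y a morphism over S. Then
f is (formally) unramified if and only if for every point s of S the base change of f along the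
fibre Y_s ⟶ Y, which is the fibre map X_s ⟶ Y_s, is (formally) unramified. -/
theorem result {X Y S : Scheme.{u}} (g : Y ⟶ S) (h : X ⟶ S)
    [LocallyOfFinitePresentation g] [LocallyOfFinitePresentation h] (f : X ⟶ Y) (w : f ≫ g = h) :
    FormallyUnramified f ↔ ∀ s : ↥S, FormallyUnramified (pullback.snd f (g.fiberι s)) := by
  refine ⟨fun _ s => MorphismProperty.pullback_snd _ _ ‹FormallyUnramified f›, fun H => ?_⟩
  haveI : LocallyOfFiniteType f := by
    haveI : LocallyOfFiniteType (f ≫ g) := by rw [w]; infer_instance
    exact locallyOfFiniteType_of_comp f g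
  rw [Groth.Agent.FlatLocal.formallyUnramified_iff_stalkMap f]
  intro x
  subst w
  obtain ⟨x', hx'⟩ : x ∈ Set.range ((f ≫ g).fiberι ((f ≫ g) x)) := by rw [Scheme.Hom.range_fiberι]; rfl
  generalize (f ≫ g) x = s at x' hx'
  let f' := CohIII.fiberMapOver f (f ≫ g) g rfl s
  have sq : (f ≫ g).fiberι s ≫ f = f' ≫ g.fiberι s := (pullback.lift_fst _ _ _).symm
  haveI : LocallyOfFiniteType f' := Groth.Agent.FlatLocal.prop_fiberMapOver f g s (MorphismProperty.pullback_snd _ _ inferInstance)
  haveI : FormallyUnramified f' := Groth.Agent.FlatLocal.prop_fiberMapOver f g s (H s)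
  subst hx'
  refine (Groth.Agent.FlatLocal.formallyUnramified_stalkMap_iff_of_square f f' ((f ≫ g).fiberι s) (g.fiberι s) sq x'
    (((f ≫ g).fiberι s).stalkMap_surjective x') ((g.fiberι s).stalkMap_surjective _) ?_).mpr (FormallyUnramified.stalkMap f' x')
  rw [(Groth.Agent.Props12.stalkMap_fiberι (f ≫ g) s x').2]
  rw [Scheme.Hom.stalkMap_comp]
  refine le_trans (le_of_eq (Ideal.map_map (g.stalkMap _).hom (f.stalkMap _).hom).symm) ?_
  exact Ideal.map_mono (Ideal.map_le_iff_le_comap.mpr fun b hb => map_nonunit (g.stalkMap _).hom b hb)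

end Groth.Agent.S5007
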