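import Groth.Statements.S5009
import Groth.Agent.FlatLocal.LocalPoints
import Groth.Agent.FlatLocal.SquareZero
import Mathlib.AlgebraicGeometry.Morphisms.FormallyUnramified
import Mathlib.AlgebraicGeometry.Morphisms.FinitePresentation
import Mathlib.RingTheory.Unramified.Locus

set_option autoImplicit false
universe u
open CategoryTheory CategoryTheory.Limits AlgebraicGeometry TopologicalSpace
open Unram17

namespace Groth.Agent.S5009
open CategoryTheory AlgebraicGeometry

/-- Let f : X ⟶ Y be locally of finite presentation and x a point of X. Then f is (formally) unramified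
on an open neighbourhood of x if and only if for every surjection of local rings B' → B with
square-zero kernel, every morphism Spec B ⟶ X sending the closed point to x and every morphism Spec
B' ⟶ Y making the square commute, any two lifts Spec B' ⟶ X compatible with both are equal. -/
theorem result {X Y : Scheme.{u}} (f : X ⟶ Y)
    [LocallyOfFinitePresentation f] (x : ↥X) :
    (∃ U : X.Opens, x ∈ U ∧ FormallyUnramified (U.ι ≫ f)) ↔
      ∀ (B B' : Type u) [CommRing B] [CommRing B'] [IsLocalRing B] [IsLocalRing B'] (φ : B' →+* B),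
      Function.Surjective φ → RingHom.ker φ ^ 2 = ⊥ →
      ∀ (α : Spec (CommRingCat.of B) ⟶ X) (β : Spec (CommRingCat.of B') ⟶ Y),
        α.base (IsLocalRing.closedPoint B) = x → Spec.map (CommRingCat.ofHom φ) ≫ β = α ≫ f →
        ∀ γ₁ γ₂ : Spec (CommRingCat.of B') ⟶ X,
          Spec.map (CommRingCat.ofHom φ) ≫ γ₁ = α → γ₁ ≫ f = β →
          Spec.map (CommRingCat.ofHom φ) ≫ γ₂ = α → γ₂ ≫ f = β → γ₁ = γ₂ := by
  obtain ⟨W, hW, hxW, -⟩ := exists_isAffineOpen_mem_and_subset (x := f x) (U := ⊤) trivial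
  constructor
  · rintro ⟨U, hxU, hU⟩ B B' _ _ _ _ φ hφ hker α β hα hsq γ₁ γ₂ h₁ h₁' h₂ h₂'
    obtain ⟨V, hV, hxV, hVW : V ≤ U ⊓ f ⁻¹ᵁ W⟩ :=
      exists_isAffineOpen_mem_and_subset (x := x) (U := U ⊓ f ⁻¹ᵁ W) ⟨hxU, hxW⟩
    have e : V ≤ f ⁻¹ᵁ W := hVW.trans inf_le_right
    have hu : (f.appLE W V e).hom.FormallyUnramified := by
      have eU : V ≤ U := hVW.trans inf_le_left
      have h0 := (U.ι ≫ f).formallyUnramified_appLE hW ((hV.preimage_of_isOpenImmersion U.ι (by rw [U.opensRange_ι]; exact eU) : IsAffineOpen (U.ι ⁻¹ᵁ V))) (fun z hz => e hz)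
      rw [← Scheme.Hom.appLE_comp_appLE U.ι f W V _ e le_rfl] at h0
      haveI : IsIso (U.ι.appLE V (U.ι ⁻¹ᵁ V) le_rfl) := by
        rw [← Scheme.Hom.app_eq_appLE]; exact U.ι.isIso_app V (by rw [U.opensRange_ι]; exact eU)
      exact (RingHom.FormallyUnramified.respectsIso.cancel_right_isIso _ _).mp h0
    algebraize [(f.appLE W V e).hom]
    have hmem : ∀ γ, Spec.map (CommRingCat.ofHom φ) ≫ γ = α → γ (IsLocalRing.closedPoint B') ∈ V := by
      intro γ hγ
      rw [← Groth.Agent.FlatLocal.closedPoint_SpecMap_of_surjective φ hφ, ← Scheme.Hom.comp_apply, hγ, hα]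
      exact hxV
    obtain ⟨ψ₁, hψ₁⟩ := Groth.Agent.FlatLocal.exists_eq_SpecMap_fromSpec hV B' γ₁ (hmem _ h₁)
    obtain ⟨ψ₂, hψ₂⟩ := Groth.Agent.FlatLocal.exists_eq_SpecMap_fromSpec hV B' γ₂ (hmem _ h₂)
    have eφ : ψ₁ ≫ CommRingCat.ofHom φ = ψ₂ ≫ CommRingCat.ofHom φ := by
      rw [← Spec.map_inj, ← cancel_mono hV.fromSpec, Spec.map_comp, Spec.map_comp, Category.assoc,
        Category.assoc, hψ₁, hψ₂, h₁, h₂]
    have eA : f.appLE W V e ≫ ψ₁ = f.appLE W V e ≫ ψ₂ := by
      rw [← Spec.map_inj, ← cancel_mono hW.fromSpec, Spec.map_comp, Spec.map_comp, Category.assoc,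
        Category.assoc, IsAffineOpen.SpecMap_appLE_fromSpec f hW hV e, reassoc_of% hψ₁,
        reassoc_of% hψ₂, h₁', h₂']
    letI : Algebra Γ(Y, W) B' := (f.appLE W V e ≫ ψ₁).hom.toAlgebra
    let a₁ : Γ(X, V) →ₐ[Γ(Y, W)] B' := ⟨ψ₁.hom, fun r => rfl⟩
    let a₂ : Γ(X, V) →ₐ[Γ(Y, W)] B' := ⟨ψ₂.hom, fun r => (DFunLike.congr_fun (congrArg CommRingCat.Hom.hom eA) r).symm⟩
    have := Algebra.FormallyUnramified.ext' φ ⟨2, hker⟩ a₁ a₂
      (fun z => DFunLike.congr_fun (congrArg CommRingCat.Hom.hom eφ) z)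
    rw [← hψ₁, ← hψ₂, show ψ₁ = ψ₂ from CommRingCat.hom_ext (congrArg AlgHom.toRingHom this)]
  · intro H
    obtain ⟨V, hV, hxV, e : V ≤ f ⁻¹ᵁ W⟩ :=
      exists_isAffineOpen_mem_and_subset (x := x) (U := f ⁻¹ᵁ W) hxW
    have hft : (f.appLE W V e).hom.FiniteType :=
      HasRingHomProperty.appLE @LocallyOfFiniteType f inferInstance ⟨W, hW⟩ ⟨V, hV⟩ e
    algebraize [(f.appLE W V e).hom]
    let p := (hV.primeIdealOf ⟨x, hxV⟩).asIdeal
    let S := Localization.AtPrime p
    have hp : Algebra.IsUnramifiedAt Γ(Y, W) p := by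
      refine ⟨Groth.Agent.FlatLocal.subsingleton_omega_of_unique_local_lifts Γ(Y, W) S
        fun B' _ _ _ π hπ hk g₁ g₂ e₁ e₂ => ?_⟩
      let c := CommRingCat.ofHom (algebraMap Γ(X, V) S)
      let α : Spec (CommRingCat.of S) ⟶ X := Spec.map c ≫ hV.fromSpec
      let β : Spec (CommRingCat.of B') ⟶ Y := Spec.map (CommRingCat.ofHom (algebraMap Γ(Y, W) B')) ≫ hW.fromSpec
      have hα : α (IsLocalRing.closedPoint S) = x := by
        have : Spec.map c (IsLocalRing.closedPoint S) = hV.primeIdealOf ⟨x, hxV⟩ :=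
          PrimeSpectrum.ext (IsLocalization.AtPrime.under_maximalIdeal S p)
        show hV.fromSpec (Spec.map c (IsLocalRing.closedPoint S)) = x
        rw [this, hV.fromSpec_primeIdealOf]
      have hc : ∀ g : S →ₐ[Γ(Y, W)] B', f.appLE W V e ≫ c ≫ CommRingCat.ofHom g.toRingHom =
          CommRingCat.ofHom (algebraMap Γ(Y, W) B') := fun g => CommRingCat.hom_ext <| RingHom.ext fun r => by
        show g (algebraMap Γ(X, V) S (algebraMap Γ(Y, W) Γ(X, V) r)) = _
        rw [← IsScalarTower.algebraMap_apply, g.commutes]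
        rfl
      have hl : ∀ g : S →ₐ[Γ(Y, W)] B', π.comp g = AlgHom.id _ S →
          Spec.map (CommRingCat.ofHom π.toRingHom) ≫ Spec.map (CommRingCat.ofHom g.toRingHom) ≫ α = α ∧
          (Spec.map (CommRingCat.ofHom g.toRingHom) ≫ α) ≫ f = β := fun g hg => by
        constructor
        · rw [← Spec.map_comp_assoc, show CommRingCat.ofHom g.toRingHom ≫ CommRingCat.ofHom π.toRingHom = 𝟙 _ from
            CommRingCat.hom_ext (congrArg AlgHom.toRingHom hg), Spec.map_id, Category.id_comp]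
        · simp only [α, β, Category.assoc]
          rw [← IsAffineOpen.SpecMap_appLE_fromSpec f hW hV e, ← Spec.map_comp_assoc, ← Spec.map_comp_assoc,
            hc]
      have := H S B' π.toRingHom hπ hk α β hα
        (by rw [← (hl g₁ e₁).2, ← Category.assoc, (hl g₁ e₁).1]) _ _ (hl g₁ e₁).1 (hl g₁ e₁).2 (hl g₂ e₂).1 (hl g₂ e₂).2
      have h2 : c ≫ CommRingCat.ofHom g₁.toRingHom = c ≫ CommRingCat.ofHom g₂.toRingHom := by
        rw [← Spec.map_inj, ← cancel_mono hV.fromSpec, Spec.map_comp, Spec.map_comp]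
        simpa [α] using this
      exact AlgHom.coe_ringHom_injective
        (IsLocalization.ringHom_ext p.primeCompl (congrArg CommRingCat.Hom.hom h2))
    obtain ⟨s, hs, hsu⟩ := Algebra.exists_formallyUnramified_of_isUnramifiedAt (R := Γ(Y, W)) p
    refine ⟨X.basicOpen (s : Γ(X, V)), ?_, ?_⟩
    · suffices hV.primeIdealOf ⟨x, hxV⟩ ∈ hV.fromSpec ⁻¹ᵁ X.basicOpen s by
        have h2 : hV.fromSpec (hV.primeIdealOf ⟨x, hxV⟩) ∈ X.basicOpen s := this
        rwa [hV.fromSpec_primeIdealOf ⟨x, hxV⟩] at h2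
      rw [hV.fromSpec_preimage_basicOpen]
      exact hs
    · haveI : IsAffine (W : Scheme) := hW
      haveI : IsAffine (X.basicOpen s : Scheme) := hV.basicOpen s
      have e' : X.basicOpen s ≤ f ⁻¹ᵁ W := (X.basicOpen_le s).trans e
      rw [← f.resLE_comp_ι e']
      refine MorphismProperty.comp_mem @FormallyUnramified _ _ ?_ inferInstance
      rw [HasRingHomProperty.iff_of_isAffine (P := @FormallyUnramified),
        RingHom.FormallyUnramified.respectsIso.arrow_mk_iso_iff (arrowResLEAppIso f W (X.basicOpen s) e')]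
      letI : Algebra Γ(X, V) Γ(X, X.basicOpen s) := (X.presheaf.map (homOfLE (X.basicOpen_le s)).op).hom.toAlgebra
      haveI := hV.isLocalization_basicOpen s
      letI : Algebra Γ(Y, W) Γ(X, X.basicOpen s) := (f.appLE W (X.basicOpen s) e').hom.toAlgebra
      haveI : IsScalarTower Γ(Y, W) Γ(X, V) Γ(X, X.basicOpen s) :=
        IsScalarTower.of_algebraMap_eq' (congrArg CommRingCat.Hom.hom (Scheme.Hom.appLE_map f e (homOfLE (X.basicOpen_le s)).op).symm)
      exact RingHom.formallyUnramified_algebraMap.mpr (Algebra.FormallyUnramified.of_equiv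
        ((IsLocalization.algEquiv (Submonoid.powers s) (Localization.Away s) Γ(X, X.basicOpen s)).restrictScalars Γ(Y, W)))

end Groth.Agent.S5009
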