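import Groth.Statements.S5011
import Groth.Agent.FlatLocal.StalkCrit

set_option autoImplicit false
universe u
open CategoryTheory CategoryTheory.Limits AlgebraicGeometry TopologicalSpace
open Unram17

namespace Groth.Agent.S5011
open CategoryTheory AlgebraicGeometry
set_option backward.isDefEq.respectTransparency.types false

/-- Let f : X ⟶ Y be locally of finite presentation. Then f is etale if and only if f is flat and, for
every point x of X with image y, the quotient of the local ring of X at x by the extension of the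
maximal ideal of the local ring of Y at y is a field, finite and separable over the residue field
κ(y); that is, every fibre of f is a sum of spectra of finite separable extensions of the residue
field. -/
theorem result {X Y : Scheme.{u}} (f : X ⟶ Y)
    [LocallyOfFinitePresentation f] :
    Etale f ↔ Flat f ∧ ∀ x : ↥X,
      letI φ := (f.stalkMap x).hom
      letI 𝔪 := IsLocalRing.maximalIdeal ↑(Y.presheaf.stalk (f.base x))
      letI := (Ideal.quotientMap (𝔪.map φ) φ Ideal.le_comap_map).toAlgebra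
      IsField (↑(X.presheaf.stalk x) ⧸ 𝔪.map φ) ∧
        Module.Finite (↑(Y.presheaf.stalk (f.base x)) ⧸ 𝔪) (↑(X.presheaf.stalk x) ⧸ 𝔪.map φ) ∧
        Algebra.IsSeparable (↑(Y.presheaf.stalk (f.base x)) ⧸ 𝔪) (↑(X.presheaf.stalk x) ⧸ 𝔪.map φ) := by
  rw [Groth.Agent.FlatLocal.etale_iff_stalkMap f, Flat.iff_flat_stalkMap f, forall_and]
  refine and_congr_right fun _ => forall_congr' fun x => ?_
  set φ := (f.stalkMap x).hom with hφdef
  set 𝔪 := IsLocalRing.maximalIdeal ↑(Y.presheaf.stalk (f.base x))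
  let q := Ideal.quotientMap (𝔪.map φ) φ Ideal.le_comap_map
  show φ.FormallyUnramified ↔ (letI := q.toAlgebra; _ ∧ Module.Finite _ _ ∧ Algebra.IsSeparable _ _)
  have h2 := LocallyOfFiniteType.stalkMap f x
  algebraize [(f.stalkMap x).hom]
  haveI : IsLocalHom (algebraMap (Y.presheaf.stalk (f x)) (X.presheaf.stalk x)) :=
    inferInstanceAs <| IsLocalHom (f.stalkMap x).hom
  letI := q.toAlgebra
  letI := Ideal.Quotient.field 𝔪
  haveI : IsScalarTower (Y.presheaf.stalk (f x)) (Y.presheaf.stalk (f x) ⧸ 𝔪) (X.presheaf.stalk x ⧸ 𝔪.map φ) :=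
    IsScalarTower.of_algebraMap_eq fun _ => rfl
  haveI : Algebra.EssFiniteType (Y.presheaf.stalk (f x)) (X.presheaf.stalk x ⧸ 𝔪.map φ) :=
    .comp _ (X.presheaf.stalk x) _
  haveI : Algebra.EssFiniteType (Y.presheaf.stalk (f x) ⧸ 𝔪) (X.presheaf.stalk x ⧸ 𝔪.map φ) :=
    .of_comp (Y.presheaf.stalk (f x)) _ _
  constructor
  · intro hu
    haveI : Algebra.FormallyUnramified (Y.presheaf.stalk (f x)) (X.presheaf.stalk x) := hu
    have hF : IsField (X.presheaf.stalk x ⧸ 𝔪.map φ) :=
      Algebra.FormallyUnramified.isField_quotient_map_maximalIdeal (R := Y.presheaf.stalk (f x))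
    letI := hF.toField
    haveI : Algebra.FormallyUnramified (Y.presheaf.stalk (f x)) (X.presheaf.stalk x ⧸ 𝔪.map φ) :=
      .comp _ (X.presheaf.stalk x) _
    haveI : Algebra.FormallyUnramified (Y.presheaf.stalk (f x) ⧸ 𝔪) (X.presheaf.stalk x ⧸ 𝔪.map φ) :=
      .of_restrictScalars (Y.presheaf.stalk (f x)) _ _
    exact ⟨hF, Algebra.FormallyUnramified.finite_of_free _ _, Algebra.FormallyUnramified.isSeparable _ _⟩
  · rintro ⟨hF, -, hsep⟩
    have hmax : (𝔪.map φ).IsMaximal := Ideal.Quotient.maximal_of_isField _ hF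
    have heq : 𝔪.map φ = IsLocalRing.maximalIdeal _ := IsLocalRing.eq_maximalIdeal hmax
    rw [hφdef, Groth.Agent.FlatLocal.formallyUnramified_stalkMap_iff f x]
    refine ⟨?_, heq⟩
    letI := (f.residueFieldMap x).hom.toAlgebra
    haveI := hsep
    exact Algebra.IsSeparable.of_equiv_equiv (A₁ := Y.presheaf.stalk (f x) ⧸ 𝔪) (B₁ := X.presheaf.stalk x ⧸ 𝔪.map φ)
      (RingEquiv.refl _) (Ideal.quotEquivOfEq heq) (RingHom.ext fun z => by
        obtain ⟨z, rfl⟩ := Ideal.Quotient.mk_surjective z
        rfl)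

end Groth.Agent.S5011
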