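import Groth.Statements.S5012
import Groth.Agent.EGA41Lib.FieldSeparableSmooth
import Groth.Agent.S9442
import Mathlib.RingTheory.KrullDimension.Zero
import Mathlib.RingTheory.Spectrum.Prime.Topology

set_option autoImplicit false
set_option backward.isDefEq.respectTransparency.types false
universe u
open Unram17

namespace Groth.Agent.S5012

/-- Let A be an algebra of finite type over a field k. Then Spec A has a dense open subset consisting of
points at which A is smooth over k if and only if, for every minimal prime p of A, the local ring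
A_p is geometrically reduced over k (that is, A_p is a field and a separable extension of k). -/
theorem result (k A : Type u) [Field k] [CommRing A] [Algebra k A]
    [Algebra.FiniteType k A] :
    (∃ U : TopologicalSpace.Opens (PrimeSpectrum A), Dense (U : Set (PrimeSpectrum A)) ∧
        ∀ p ∈ U, Algebra.IsSmoothAt k p.asIdeal) ↔
      ∀ (p : Ideal A) [p.IsPrime], p ∈ minimalPrimes A →
        Algebra.IsGeometricallyReduced k (Localization.AtPrime p) := by
  classical
  haveI : IsNoetherianRing A := Algebra.FiniteType.isNoetherianRing k A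
  haveI : Algebra.FinitePresentation k A := Algebra.FinitePresentation.of_finiteType.mp inferInstance
  constructor
  · rintro ⟨U, hU, hsm⟩ p hp hmin
    have hgen : (⟨p, hp⟩ : PrimeSpectrum A) ∈ U := by
      let T : Set (PrimeSpectrum A) := {w | w.asIdeal ∈ minimalPrimes A ∧ w.asIdeal ≠ p}
      have hT : T.Finite :=
        ((minimalPrimes.finite_of_isNoetherianRing A).preimage fun a _ b _ h => PrimeSpectrum.ext h).subset fun w hw => hw.1
      let V : TopologicalSpace.Opens (PrimeSpectrum A) :=
        ⟨(⋃ w ∈ T, closure {w})ᶜ, (hT.isClosed_biUnion fun w _ => isClosed_closure).isOpen_compl⟩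
      have hpV : (⟨p, hp⟩ : PrimeSpectrum A) ∈ V := by
        show _ ∈ (⋃ w ∈ T, closure {w})ᶜ
        simp only [Set.mem_compl_iff, Set.mem_iUnion, not_exists]
        intro w hw hwp
        have hle : w.asIdeal ≤ p :=
          (PrimeSpectrum.le_iff_specializes w ⟨p, hp⟩).2 (specializes_iff_mem_closure.2 hwp)
        exact hw.2 (le_antisymm hle (hmin.2 ⟨w.isPrime, bot_le⟩ hle))
      obtain ⟨q, hqV, hqU⟩ := hU.inter_open_nonempty V V.isOpen ⟨_, hpV⟩
      obtain ⟨w, hw, hwq⟩ := Ideal.exists_minimalPrimes_le (bot_le : (⊥ : Ideal A) ≤ q.asIdeal)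
      have hwp : w = p := by
        by_contra hne
        refine hqV ?_
        refine Set.mem_biUnion (x := ⟨w, hw.1.1⟩) ⟨hw, hne⟩ ?_
        exact specializes_iff_mem_closure.1 ((PrimeSpectrum.le_iff_specializes ⟨w, hw.1.1⟩ q).1 hwq)
      subst hwp
      exact ((PrimeSpectrum.le_iff_specializes ⟨w, hp⟩ q).1 hwq).mem_open U.isOpen hqU
    haveI : Algebra.FormallySmooth k (Localization.AtPrime p) := hsm _ hgen
    haveI : Ring.KrullDimLE 0 (Localization.AtPrime p) := .of_isLocalization _ hmin _
    haveI := IsLocalization.isNoetherianRing p.primeCompl (Localization.AtPrime p) inferInstance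
    haveI : IsRegularLocalRing (Localization.AtPrime p) :=
      Groth.Agent.CAlgH.AdicSmooth.isRegularLocalRing_of_adicSmooth (k := k)
        Groth.Agent.CAlgH.AdicSmooth.of_formallySmooth
    haveI : IsDomain (Localization.AtPrime p) := Groth.Agent.CAlgH3.isDomain_of_isRegularLocalRing _
    have hf : IsField (Localization.AtPrime p) := Ring.KrullDimLE.isField_of_isDomain
    letI := hf.toField
    exact (Groth.Agent.EGA41Lib.formallySmooth_iff_isGeometricallyReduced_field k (Localization.AtPrime p)).1
      inferInstance
  · intro h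
    refine ⟨⟨Algebra.smoothLocus k A, Algebra.isOpen_smoothLocus⟩, ?_, fun p hp => hp⟩
    intro q
    obtain ⟨w, hw, hwq⟩ := Ideal.exists_minimalPrimes_le (bot_le : (⊥ : Ideal A) ≤ q.asIdeal)
    haveI := hw.1.1
    have hmem : (⟨w, hw.1.1⟩ : PrimeSpectrum A) ∈ Algebra.smoothLocus k A := by
      haveI := h w hw
      haveI : Ring.KrullDimLE 0 (Localization.AtPrime w) := .of_isLocalization _ hw _
      haveI : IsReduced (Localization.AtPrime w) := Algebra.isReduced_of_isGeometricallyReduced k
      have hf : IsField (Localization.AtPrime w) := Ring.KrullDimLE.isField_of_isReduced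
      show Algebra.FormallySmooth k (Localization.AtPrime w)
      letI := hf.toField
      exact (Groth.Agent.EGA41Lib.formallySmooth_iff_isGeometricallyReduced_field k (Localization.AtPrime w)).2
        inferInstance
    exact closure_mono (Set.singleton_subset_iff.2 hmem)
      (specializes_iff_mem_closure.1 ((PrimeSpectrum.le_iff_specializes ⟨w, hw.1.1⟩ q).1 hwq))

end Groth.Agent.S5012
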