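import Groth.Statements.S5016
import Groth.Agent.OmegaLib.StalkCompat

set_option autoImplicit false
set_option backward.isDefEq.respectTransparency.types false
set_option backward.isDefEq.respectTransparency false
universe u
open CategoryTheory CategoryTheory.Limits AlgebraicGeometry TopologicalSpace
open Unram17

namespace Groth.Agent.S5016

open OmegaLib

theorem result {X Y S : Scheme.{u}} (g : Y ⟶ S) (h : X ⟶ S)
    (f : X ⟶ Y) (w : f ≫ g = h) (hf : MoreMor.IsFormallySmoothHom f)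
    (ΩY : Y.Modules) (dY : OmegaSh.Der g ΩY) (hY : OmegaSh.IsUniversal dY)
    (ΩX : X.Modules) (dX : OmegaSh.Der h ΩX) (hX : OmegaSh.IsUniversal dX)
    (c : (Scheme.Modules.pullback f).obj ΩY ⟶ ΩX) (hc : OmegaSh.IsDiffCompat f dY dX c) :
    Mono c := by
  subst w
  refine mono_of_stalks_injective c fun x => ?_
  obtain ⟨T, hT, hxT, -⟩ := Opens.isBasis_iff_nbhd.mp S.isBasis_affineOpens (Opens.mem_top (g (f x)))
  letI := (f.stalkMap x).hom.toAlgebra
  letI : Algebra Γ(S, T) (Y.presheaf.stalk (f x)) :=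
    (S.presheaf.germ T (g (f x)) hxT ≫ g.stalkMap (f x)).hom.toAlgebra
  letI : Algebra Γ(S, T) (X.presheaf.stalk x) :=
    ((S.presheaf.germ T (g (f x)) hxT ≫ g.stalkMap (f x)) ≫ f.stalkMap x).hom.toAlgebra
  haveI : IsScalarTower Γ(S, T) (Y.presheaf.stalk (f x)) (X.presheaf.stalk x) :=
    IsScalarTower.of_algebraMap_eq fun _ => rfl
  obtain ⟨E₂, hE₂⟩ := exists_stalk_equiv hX hT x hxT fun r => by
    show f.stalkMap x (g.stalkMap (f x) (S.presheaf.germ T (g (f x)) hxT r)) = _
    rw [Scheme.Hom.stalkMap_comp]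
    rfl
  obtain ⟨E₁, hE₁⟩ := exists_stalk_compat hY hc hT x hxT (fun _ => rfl) E₂ hE₂
  haveI := formallySmooth_stalkMap hf x
  intro a b hab
  obtain ⟨s, rfl⟩ := E₁.surjective a
  obtain ⟨t, rfl⟩ := E₁.surjective b
  rw [hE₁, hE₁] at hab
  exact congrArg E₁ (mapBaseChange_injective _ _ _ (E₂.injective hab))

end Groth.Agent.S5016
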