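import Groth.Statements.S5017
import Groth.Agent.FlatLocal.StalkCrit
import Mathlib.AlgebraicGeometry.Morphisms.UniversallyInjective
import Mathlib.AlgebraicGeometry.Morphisms.FormallyUnramified
import Mathlib.FieldTheory.PurelyInseparable.Basic
import Mathlib.AlgebraicGeometry.Morphisms.IsIso

set_option autoImplicit false
set_option backward.isDefEq.respectTransparency.types false
universe u
open CategoryTheory CategoryTheory.Limits AlgebraicGeometry TopologicalSpace
open Unram17

namespace Groth.Agent.S5017

/-- Let f : X ⟶ Y be locally of finite type. Then f is a monomorphism if and only if, for every point x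
of X with image y, x is the only point of its fibre and the canonical map from the residue field
κ(y) to the quotient of the local ring of X at x by the extension of the maximal ideal at y is
bijective (each nonempty fibre is Spec κ(y)). -/
theorem result {X Y : Scheme.{u}} (f : X ⟶ Y) [LocallyOfFiniteType f] :
    Mono f ↔ ∀ x : ↥X,
      (∀ x' : ↥X, f.base x' = f.base x → x' = x) ∧
        Function.Bijective
          (Ideal.quotientMap
            ((IsLocalRing.maximalIdeal ↑(Y.presheaf.stalk (f.base x))).map (f.stalkMap x).hom)
            (f.stalkMap x).hom Ideal.le_comap_map) := by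
  classical
  have hres : ∀ (x : ↥X) (r : ↑(Y.presheaf.stalk (f.base x))),
      f.residueFieldMap x (IsLocalRing.residue _ r) = IsLocalRing.residue _ (f.stalkMap x r) :=
    fun x r => rfl
  constructor
  · intro hm x
    haveI : UniversallyInjective f := inferInstance
    haveI := (CategoryTheory.Limits.pullback.isIso_diagonal_iff f).mpr hm
    haveI : FormallyUnramified f := inferInstance
    refine ⟨fun x' h => f.injective h, ?_⟩
    obtain ⟨hsep, hmax⟩ := (Groth.Agent.FlatLocal.formallyUnramified_stalkMap_iff f x).1
      (FormallyUnramified.stalkMap f x)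
    have t : UniversallyInjective f ↔ (Function.Injective f ∧ ∀ x, (f.residueFieldMap x).hom.IsPurelyInseparable) :=
      (tfae_universallyInjective (f := f)).out 0 2
    have hpi := (t.1 inferInstance).2 x
    letI := (f.residueFieldMap x).hom.toAlgebra
    haveI : IsPurelyInseparable (Y.residueField (f x)) (X.residueField x) := hpi
    haveI : Algebra.IsSeparable (Y.residueField (f x)) (X.residueField x) := hsep
    have hs := IsPurelyInseparable.surjective_algebraMap_of_isSeparable
      (Y.residueField (f x)) (X.residueField x)
    constructor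
    · rw [injective_iff_map_eq_zero]
      intro a ha
      obtain ⟨r, rfl⟩ := Ideal.Quotient.mk_surjective a
      rw [Ideal.quotientMap_mk, Ideal.Quotient.eq_zero_iff_mem, hmax] at ha
      rw [Ideal.Quotient.eq_zero_iff_mem]
      haveI : IsLocalHom (f.stalkMap x).hom := f.toLRSHom.prop x
      exact (IsLocalRing.maximalIdeal_comap (f.stalkMap x).hom).le ha
    · intro b
      obtain ⟨s, rfl⟩ := Ideal.Quotient.mk_surjective b
      obtain ⟨w, hw⟩ := hs (IsLocalRing.residue _ s)
      obtain ⟨r, rfl⟩ := IsLocalRing.residue_surjective w
      refine ⟨Ideal.Quotient.mk _ r, ?_⟩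
      rw [Ideal.quotientMap_mk, Ideal.Quotient.mk_eq_mk_iff_sub_mem, hmax]
      exact Ideal.Quotient.eq.1 ((hres x r).symm.trans hw)
  · intro h
    have key : ∀ x : ↥X, (IsLocalRing.maximalIdeal (Y.presheaf.stalk (f x))).map (f.stalkMap x).hom =
        IsLocalRing.maximalIdeal (X.presheaf.stalk x) ∧ Function.Surjective (f.residueFieldMap x) := by
      intro x
      obtain ⟨-, hbij⟩ := h x
      have hfield : IsField (↑(X.presheaf.stalk x) ⧸
          (IsLocalRing.maximalIdeal (Y.presheaf.stalk (f x))).map (f.stalkMap x).hom) :=
        (RingEquiv.ofBijective _ hbij).symm.toMulEquiv.isField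
          ((Ideal.Quotient.maximal_ideal_iff_isField_quotient _).1 (IsLocalRing.maximalIdeal.isMaximal _))
      have hM := IsLocalRing.eq_maximalIdeal ((Ideal.Quotient.maximal_ideal_iff_isField_quotient _).2 hfield)
      refine ⟨hM, fun w => ?_⟩
      obtain ⟨s, rfl⟩ := IsLocalRing.residue_surjective w
      obtain ⟨a, ha⟩ := hbij.2 (Ideal.Quotient.mk _ s)
      obtain ⟨r, rfl⟩ := Ideal.Quotient.mk_surjective a
      rw [Ideal.quotientMap_mk, Ideal.Quotient.mk_eq_mk_iff_sub_mem] at ha
      exact ⟨IsLocalRing.residue _ r, (hres x r).trans (Ideal.Quotient.eq.2 (hM.le ha))⟩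
    haveI : FormallyUnramified f := by
      refine (Groth.Agent.FlatLocal.formallyUnramified_iff_stalkMap f).2 fun x => ?_
      refine (Groth.Agent.FlatLocal.formallyUnramified_stalkMap_iff f x).2 ⟨?_, (key x).1⟩
      letI := (f.residueFieldMap x).hom.toAlgebra
      refine ⟨fun w => ?_⟩
      obtain ⟨r, rfl⟩ := (key x).2 w
      exact isSeparable_algebraMap r
    haveI : UniversallyInjective f := by
      have t : UniversallyInjective f ↔ (Function.Injective f ∧ ∀ x, (f.residueFieldMap x).hom.IsPurelyInseparable) :=
        (tfae_universallyInjective (f := f)).out 0 2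
      refine t.2 ⟨fun a b hab => ?_, fun x => ?_⟩
      · exact ((h b).1 a hab)
      · letI := (f.residueFieldMap x).hom.toAlgebra
        refine isPurelyInseparable_iff.2 fun w => ?_
        obtain ⟨r, rfl⟩ := (key x).2 w
        exact ⟨isIntegral_algebraMap, fun _ => ⟨r, rfl⟩⟩
    haveI : Surjective (CategoryTheory.Limits.pullback.diagonal f) :=
      (UniversallyInjective.iff_diagonal f).1 inferInstance
    haveI : IsOpenImmersion (CategoryTheory.Limits.pullback.diagonal f) := inferInstance
    haveI : IsIso (CategoryTheory.Limits.pullback.diagonal f) := (isIso_iff_isOpenImmersion_and_surjective _).mpr ⟨inferInstance, inferInstance⟩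
    exact (CategoryTheory.Limits.pullback.isIso_diagonal_iff f).mp inferInstance

end Groth.Agent.S5017
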