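import Groth.Statements.S5023
import Groth.Agent.OmegaLib.StalkCompat
import Groth.Agent.OmegaLib.KaehlerCoprod
import Mathlib.AlgebraicGeometry.Morphisms.Flat
import Mathlib.Algebra.Category.Ring.Constructions

set_option autoImplicit false
set_option backward.isDefEq.respectTransparency.types false
set_option backward.isDefEq.respectTransparency false
set_option linter.style.haveILetI false
universe u
open CategoryTheory CategoryTheory.Limits AlgebraicGeometry TopologicalSpace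
open Nrm16

namespace Groth.Agent.S5023

open OmegaLib

theorem germ_appLE {X Y : Scheme.{u}} (f : X ⟶ Y) {W : Y.Opens} {U : X.Opens} (e : U ≤ f ⁻¹ᵁ W) (x : X)
    (hx : x ∈ U) (r : Γ(Y, W)) :
    X.presheaf.germ U x hx (f.appLE W U e r) = f.stalkMap x (Y.presheaf.germ W (f x) (e hx) r) := by
  rw [Scheme.Hom.germ_stalkMap_apply, Scheme.Hom.appLE, CommRingCat.comp_apply]
  exact X.presheaf.germ_res_apply _ x hx _

theorem germ_stalkMap₂ {X Y S : Scheme.{u}} (f : X ⟶ Y) (g : Y ⟶ S) (h : X ⟶ S) (w : f ≫ g = h) (x : X)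
    (T : S.Opens) (h₁ : g (f x) ∈ T) (h₂ : h x ∈ T) (r : Γ(S, T)) :
    f.stalkMap x (g.stalkMap (f x) (S.presheaf.germ T (g (f x)) h₁ r)) =
      h.stalkMap x (S.presheaf.germ T (h x) h₂ r) := by
  subst w
  rw [Scheme.Hom.stalkMap_comp]
  rfl

/-- Biproduct and coproduct. -/
noncomputable def cIso {R : Type u} [Ring R] (M N : ModuleCat.{u} R) : M ⊞ N ≅ M ⨿ N where
  hom := biprod.desc coprod.inl coprod.inr
  inv := coprod.desc biprod.inl biprod.inr
  hom_inv_id := by apply biprod.hom_ext' <;> simp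
  inv_hom_id := by apply coprod.hom_ext <;> simp

/-- `α ⨿ β` is an isomorphism on stalks when the sum map is bijective. -/
theorem isIso_map_coprod_desc {X : Scheme.{u}} (x : X) {M N K : X.Modules} (α : M ⟶ K) (β : N ⟶ K)
    (h : Function.Bijective (((DerSch.stalkFunctor X x).map α).hom.coprod
      ((DerSch.stalkFunctor X x).map β).hom)) :
    IsIso ((DerSch.stalkFunctor X x).map (coprod.desc α β)) := by
  let F := DerSch.stalkFunctor X x
  have hF : coprodComparison F M N ≫ F.map (coprod.desc α β) = coprod.desc (F.map α) (F.map β) := by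
    ext1 <;> simp [coprodComparison, ← Functor.map_comp]
  haveI : IsIso (coprod.desc (F.map α) (F.map β)) := by
    have hd : (cIso (F.obj M) (F.obj N)).hom ≫ coprod.desc (F.map α) (F.map β) =
        (ModuleCat.biprodIsoProd (F.obj M) (F.obj N)).hom ≫
          ModuleCat.ofHom ((F.map α).hom.coprod (F.map β).hom) := by
      rw [← cancel_epi (ModuleCat.biprodIsoProd (F.obj M) (F.obj N)).inv, Iso.inv_hom_id_assoc]
      refine ModuleCat.hom_ext (LinearMap.ext fun v => ?_)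
      have hv : (ModuleCat.biprodIsoProd (F.obj M) (F.obj N)).inv v =
          (biprod.inl : F.obj M ⟶ _) v.1 + (biprod.inr : F.obj N ⟶ _) v.2 := by
        apply (ConcreteCategory.bijective_of_isIso (ModuleCat.biprodIsoProd (F.obj M) (F.obj N)).hom).1
        rw [Iso.inv_hom_id_apply, map_add]
        refine Prod.ext ?_ ?_
        · show v.1 = (biprod.inl ≫ biprod.fst : F.obj M ⟶ F.obj M) v.1 +
            (biprod.inr ≫ biprod.fst : F.obj N ⟶ F.obj M) v.2
          rw [biprod.inl_fst, biprod.inr_fst]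
          exact (add_zero _).symm
        · show v.2 = (biprod.inl ≫ biprod.snd : F.obj M ⟶ F.obj N) v.1 +
            (biprod.inr ≫ biprod.snd : F.obj N ⟶ F.obj N) v.2
          rw [biprod.inl_snd, biprod.inr_snd]
          exact (zero_add _).symm
      show coprod.desc (F.map α) (F.map β) ((cIso (F.obj M) (F.obj N)).hom
        ((ModuleCat.biprodIsoProd (F.obj M) (F.obj N)).inv v)) = (F.map α) v.1 + (F.map β) v.2
      have hd0 : (cIso (F.obj M) (F.obj N)).hom ≫ coprod.desc (F.map α) (F.map β) =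
          biprod.desc (F.map α) (F.map β) := by
        apply biprod.hom_ext' <;> simp [cIso]
      rw [← ConcreteCategory.comp_apply, hd0, hv, map_add, ← ConcreteCategory.comp_apply,
        ← ConcreteCategory.comp_apply, biprod.inl_desc, biprod.inr_desc]
    haveI : IsIso (ModuleCat.ofHom ((F.map α).hom.coprod (F.map β).hom) :
        ModuleCat.of _ (F.obj M × F.obj N) ⟶ F.obj K) := (ConcreteCategory.isIso_iff_bijective _).2 h
    haveI : IsIso ((cIso (F.obj M) (F.obj N)).hom ≫ coprod.desc (F.map α) (F.map β)) := by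
      rw [hd]; infer_instance
    exact IsIso.of_isIso_comp_left (cIso (F.obj M) (F.obj N)).hom _
  haveI : IsIso (coprodComparison F M N ≫ F.map (coprod.desc α β)) := by rw [hF]; infer_instance
  exact IsIso.of_isIso_comp_left (coprodComparison F M N) _

theorem result {X Y S Z : Scheme.{u}} (a : X ⟶ S) (b : Y ⟶ S)
    (p : Z ⟶ X) (q : Z ⟶ Y) (h : Z ⟶ S) (wp : p ≫ a = h) (wq : q ≫ b = h) (hZ : IsPullback p q a b)
    (ΩX : X.Modules) (dX : OmegaSh.Der a ΩX) (hX : OmegaSh.IsUniversal dX)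
    (ΩY : Y.Modules) (dY : OmegaSh.Der b ΩY) (hY : OmegaSh.IsUniversal dY)
    (ΩZ : Z.Modules) (dZ : OmegaSh.Der h ΩZ) (hZu : OmegaSh.IsUniversal dZ)
    (c₁ : (Scheme.Modules.pullback p).obj ΩX ⟶ ΩZ) (hc₁ : OmegaSh.IsDiffCompat p dX dZ c₁)
    (c₂ : (Scheme.Modules.pullback q).obj ΩY ⟶ ΩZ) (hc₂ : OmegaSh.IsDiffCompat q dY dZ c₂) :
    IsIso (coprod.desc c₁ c₂) := by
  refine ModStalk.isIso_of_stalks _ fun z => isIso_map_coprod_desc z c₁ c₂ ?_
  obtain ⟨T, hT, hzT, -⟩ := Opens.isBasis_iff_nbhd.mp S.isBasis_affineOpens (Opens.mem_top (h z))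
  have hxT : a (p z) ∈ T := by rw [← Scheme.Hom.comp_apply, wp]; exact hzT
  have hyT : b (q z) ∈ T := by rw [← Scheme.Hom.comp_apply, wq]; exact hzT
  obtain ⟨U, hU, hxU, hUT⟩ := Opens.isBasis_iff_nbhd.mp X.isBasis_affineOpens (show p z ∈ a ⁻¹ᵁ T from hxT)
  obtain ⟨V, hV, hyV, hVT⟩ := Opens.isBasis_iff_nbhd.mp Y.isBasis_affineOpens (show q z ∈ b ⁻¹ᵁ T from hyT)
  let P := p ⁻¹ᵁ U ⊓ q ⁻¹ᵁ V
  have hzP : z ∈ P := ⟨hxU, hyV⟩
  haveI : IsAffine (Scheme.Opens.toScheme T) := hT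
  haveI : IsAffine (Scheme.Opens.toScheme U) := hU
  haveI : IsAffine (Scheme.Opens.toScheme V) := hV
  have hP : IsAffineOpen P :=
    .of_isIso (Scheme.Hom.isPullback_resLE hZ hVT hUT (rfl : P = _)).isoPullback.hom
  have hpush := (isIso_pushoutSection_iff hZ hVT hUT (rfl : P = _)).mp
    (isIso_pushoutSection_of_isAffineOpen hZ hVT hUT rfl hT hV hU)
  have hPT : P ≤ h ⁻¹ᵁ T := fun w hw => by
    show h w ∈ T
    rw [← wp]; exact hUT hw.1
  letI := (a.appLE T U hUT).hom.toAlgebra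
  letI := (b.appLE T V hVT).hom.toAlgebra
  letI := (h.appLE T P hPT).hom.toAlgebra
  letI := (p.appLE U P inf_le_left).hom.toAlgebra
  letI := (q.appLE V P inf_le_right).hom.toAlgebra
  haveI : IsScalarTower Γ(S, T) Γ(X, U) Γ(Z, P) := IsScalarTower.of_algebraMap_eq fun r => by
    change h.appLE T P hPT r = p.appLE U P inf_le_left (a.appLE T U hUT r)
    subst wp
    rw [← CommRingCat.comp_apply, Scheme.Hom.appLE_comp_appLE]
  haveI : IsScalarTower Γ(S, T) Γ(Y, V) Γ(Z, P) := IsScalarTower.of_algebraMap_eq fun r => by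
    change h.appLE T P hPT r = q.appLE V P inf_le_right (b.appLE T V hVT r)
    subst wq
    rw [← CommRingCat.comp_apply, Scheme.Hom.appLE_comp_appLE]
  haveI : Algebra.IsPushout Γ(S, T) Γ(X, U) Γ(Y, V) Γ(Z, P) :=
    CommRingCat.isPushout_iff_isPushout.1 hpush
  letI : Algebra Γ(X, U) (X.presheaf.stalk (p z)) := (X.presheaf.germ U (p z) hxU).hom.toAlgebra
  letI : Algebra Γ(Y, V) (Y.presheaf.stalk (q z)) := (Y.presheaf.germ V (q z) hyV).hom.toAlgebra
  letI : Algebra Γ(Z, P) (Z.presheaf.stalk z) := (Z.presheaf.germ P z hzP).hom.toAlgebra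
  letI : Algebra (X.presheaf.stalk (p z)) (Z.presheaf.stalk z) := (p.stalkMap z).hom.toAlgebra
  letI : Algebra (Y.presheaf.stalk (q z)) (Z.presheaf.stalk z) := (q.stalkMap z).hom.toAlgebra
  letI : Algebra Γ(S, T) (X.presheaf.stalk (p z)) :=
    (S.presheaf.germ T (a (p z)) hxT ≫ a.stalkMap (p z)).hom.toAlgebra
  letI : Algebra Γ(S, T) (Y.presheaf.stalk (q z)) :=
    (S.presheaf.germ T (b (q z)) hyT ≫ b.stalkMap (q z)).hom.toAlgebra
  letI : Algebra Γ(S, T) (Z.presheaf.stalk z) :=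
    (S.presheaf.germ T (h z) hzT ≫ h.stalkMap z).hom.toAlgebra
  letI : Algebra Γ(X, U) (Z.presheaf.stalk z) :=
    (X.presheaf.germ U (p z) hxU ≫ p.stalkMap z).hom.toAlgebra
  letI : Algebra Γ(Y, V) (Z.presheaf.stalk z) :=
    (Y.presheaf.germ V (q z) hyV ≫ q.stalkMap z).hom.toAlgebra
  haveI : IsScalarTower Γ(S, T) (X.presheaf.stalk (p z)) (Z.presheaf.stalk z) :=
    IsScalarTower.of_algebraMap_eq fun r => (germ_stalkMap₂ p a h wp z T hxT hzT r).symm
  haveI : IsScalarTower Γ(S, T) (Y.presheaf.stalk (q z)) (Z.presheaf.stalk z) :=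
    IsScalarTower.of_algebraMap_eq fun r => (germ_stalkMap₂ q b h wq z T hyT hzT r).symm
  haveI : IsScalarTower Γ(S, T) Γ(Z, P) (Z.presheaf.stalk z) :=
    IsScalarTower.of_algebraMap_eq fun r => (germ_appLE h hPT z hzP r).symm
  haveI : IsScalarTower Γ(X, U) Γ(Z, P) (Z.presheaf.stalk z) :=
    IsScalarTower.of_algebraMap_eq fun r => (germ_appLE p inf_le_left z hzP r).symm
  haveI : IsScalarTower Γ(Y, V) Γ(Z, P) (Z.presheaf.stalk z) :=
    IsScalarTower.of_algebraMap_eq fun r => (germ_appLE q inf_le_right z hzP r).symm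
  haveI : IsScalarTower Γ(S, T) Γ(X, U) (X.presheaf.stalk (p z)) :=
    IsScalarTower.of_algebraMap_eq fun r => (germ_appLE a hUT (p z) hxU r).symm
  haveI : IsScalarTower Γ(S, T) Γ(Y, V) (Y.presheaf.stalk (q z)) :=
    IsScalarTower.of_algebraMap_eq fun r => (germ_appLE b hVT (q z) hyV r).symm
  haveI : IsScalarTower Γ(X, U) (X.presheaf.stalk (p z)) (Z.presheaf.stalk z) :=
    IsScalarTower.of_algebraMap_eq fun _ => rfl
  haveI : IsScalarTower Γ(Y, V) (Y.presheaf.stalk (q z)) (Z.presheaf.stalk z) :=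
    IsScalarTower.of_algebraMap_eq fun _ => rfl
  haveI : IsLocalization (hP.primeIdealOf ⟨z, hzP⟩).asIdeal.primeCompl (Z.presheaf.stalk z) :=
    hP.isLocalization_stalk ⟨z, hzP⟩
  haveI : IsLocalization (hU.primeIdealOf ⟨p z, hxU⟩).asIdeal.primeCompl (X.presheaf.stalk (p z)) :=
    hU.isLocalization_stalk ⟨p z, hxU⟩
  haveI : IsLocalization (hV.primeIdealOf ⟨q z, hyV⟩).asIdeal.primeCompl (Y.presheaf.stalk (q z)) :=
    hV.isLocalization_stalk ⟨q z, hyV⟩
  obtain ⟨E, hE⟩ := exists_stalk_equiv hZu hT z hzT fun _ => rfl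
  obtain ⟨E₁, h₁⟩ := exists_stalk_compat hX hc₁ hT z hxT (fun _ => rfl) E hE
  obtain ⟨E₂, h₂⟩ := exists_stalk_compat hY hc₂ hT z hyT (fun _ => rfl) E hE
  have hb := bijective_coprod_mapBaseChange Γ(S, T) Γ(X, U) Γ(Y, V) Γ(Z, P)
    (A' := X.presheaf.stalk (p z)) (C' := Y.presheaf.stalk (q z)) (B := Z.presheaf.stalk z)
    (hP.primeIdealOf ⟨z, hzP⟩).asIdeal.primeCompl (hU.primeIdealOf ⟨p z, hxU⟩).asIdeal.primeCompl
    (hV.primeIdealOf ⟨q z, hyV⟩).asIdeal.primeCompl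
  refine ⟨fun v w hvw => ?_, fun w => ?_⟩
  · obtain ⟨v₁, hv₁⟩ := E₁.surjective v.1
    obtain ⟨v₂, hv₂⟩ := E₂.surjective v.2
    obtain ⟨w₁, hw₁⟩ := E₁.surjective w.1
    obtain ⟨w₂, hw₂⟩ := E₂.surjective w.2
    rw [LinearMap.coprod_apply, LinearMap.coprod_apply, ← hv₁, ← hv₂, ← hw₁, ← hw₂] at hvw
    have := hb.1 (a₁ := (v₁, v₂)) (a₂ := (w₁, w₂)) (E.injective (by
      rw [LinearMap.coprod_apply, LinearMap.coprod_apply, map_add, map_add, ← h₁, ← h₁, ← h₂, ← h₂]
      exact hvw))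
    refine Prod.ext ?_ ?_
    · rw [← hv₁, ← hw₁, show v₁ = w₁ from congrArg Prod.fst this]
    · rw [← hv₂, ← hw₂, show v₂ = w₂ from congrArg Prod.snd this]
  · obtain ⟨⟨v₁, v₂⟩, hv⟩ := hb.2 (E.symm w)
    refine ⟨(E₁ v₁, E₂ v₂), ?_⟩
    rw [LinearMap.coprod_apply] at hv ⊢
    refine (congrArg₂ (· + ·) (h₁ v₁) (h₂ v₂)).trans ?_
    rw [← map_add, hv, E.apply_symm_apply]

end Groth.Agent.S5023
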