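import Groth.Statements.S5026
import Groth.Agent.S2790

set_option autoImplicit false
set_option backward.isDefEq.respectTransparency.types false
universe u
open Unram17

namespace Groth.Agent.S5026

/-- Let k be a field, A a k-algebra of finite type equipped with a k-algebra map from the polynomial
ring in n variables (images g_i of the variables), p a prime of A such that Spec A has local
dimension n at p, r the Krull dimension of the local ring A_p, and suppose g_i ∈ p for the indices i
< r. Then A is etale at p over the polynomial ring if and only if the images of the g_i with i < r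
generate the maximal ideal of A_p and the differentials of the residue classes of the g_i with i ≥ r
generate the module of differentials of the residue field κ(p) over k. (The published statement adds
that these conditions imply that A is smooth at p over k and that κ(p) is separable over k; this row
does not state that consequence.) -/
theorem result (k A : Type u) [Field k]
    [CommRing A] [Algebra k A] [Algebra.FiniteType k A] (n r : ℕ) [Algebra (MvPolynomial (Fin n) k) A]
    [IsScalarTower k (MvPolynomial (Fin n) k) A] (p : Ideal A) [p.IsPrime]
    (hn : FlatMor.localDim (PrimeSpectrum A) ⟨p, inferInstance⟩ = (n : WithBot ℕ∞))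
    (hr : ringKrullDim (Localization.AtPrime p) = (r : WithBot ℕ∞))
    (hg : ∀ i : Fin n, (i : ℕ) < r → algebraMap (MvPolynomial (Fin n) k) A (MvPolynomial.X i) ∈ p) :
    Algebra.IsEtaleAt (MvPolynomial (Fin n) k) p ↔
      Ideal.span ((fun i : Fin n =>
          algebraMap A (Localization.AtPrime p) (algebraMap (MvPolynomial (Fin n) k) A (MvPolynomial.X i))) ''
            {i : Fin n | (i : ℕ) < r}) = IsLocalRing.maximalIdeal (Localization.AtPrime p) ∧
        Submodule.span p.ResidueField ((fun i : Fin n =>
          KaehlerDifferential.D k p.ResidueField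
            (IsLocalRing.residue (Localization.AtPrime p)
              (algebraMap A (Localization.AtPrime p) (algebraMap (MvPolynomial (Fin n) k) A (MvPolynomial.X i))))) ''
            {i : Fin n | r ≤ (i : ℕ)}) = ⊤ := by
  classical
  let L := Localization.AtPrime p
  let K := p.ResidueField
  let P := MvPolynomial (Fin n) k
  haveI : IsNoetherianRing A := Algebra.FiniteType.isNoetherianRing k A
  haveI : IsNoetherianRing L := IsLocalization.isNoetherianRing p.primeCompl _ inferInstance
  haveI : Algebra.EssFiniteType k L := Algebra.EssFiniteType.comp k A L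
  let g : Fin n → L := fun i => algebraMap A L (algebraMap P A (MvPolynomial.X i))
  have hgm : ∀ i : Fin n, (i : ℕ) < r → g i ∈ IsLocalRing.maximalIdeal L := fun i hi => by
    rw [← Localization.AtPrime.map_eq_maximalIdeal]
    exact Ideal.mem_map_of_mem _ (hg i hi)
  let v : Fin n → TensorProduct L K (KaehlerDifferential k L) := fun i => 1 ⊗ₜ[L] KaehlerDifferential.D k L (g i)
  let π := KaehlerDifferential.mapBaseChange k L K
  have hπv : ∀ i, π (v i) = KaehlerDifferential.D k K (IsLocalRing.residue L (g i)) := fun i => by
    simp only [π, v, KaehlerDifferential.mapBaseChange_tmul, one_smul, KaehlerDifferential.map_D]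
    rfl
  -- differentials of the local ring and its closed fibre
  have hspan_iff : Submodule.span K (Set.range v) = ⊤ ↔
      Submodule.span L (Set.range fun i => KaehlerDifferential.D k L (g i)) = ⊤ := by
    rw [← IsLocalRing.map_tensorProduct_mk_eq_top (N := Submodule.span L _), Submodule.map_span,
      ← Set.range_comp, ← Submodule.restrictScalars_span L K IsLocalRing.residue_surjective,
      Submodule.restrictScalars_eq_top_iff]
    rfl
  rw [Groth.Agent.S2790.result k A n p hn, ← hspan_iff]
  constructor
  · intro htop
    have hK : Submodule.span K ((fun i : Fin n =>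
        KaehlerDifferential.D k K (IsLocalRing.residue L (g i))) '' {i : Fin n | r ≤ (i : ℕ)}) = ⊤ := by
      rw [eq_top_iff]
      intro z _
      obtain ⟨w, rfl⟩ := KaehlerDifferential.mapBaseChange_surjective k L K IsLocalRing.residue_surjective z
      obtain ⟨c, rfl⟩ := (Submodule.mem_span_range_iff_exists_fun K).1 (htop.ge (Submodule.mem_top (x := w)))
      rw [map_sum]
      refine Submodule.sum_mem _ fun i _ => ?_
      show π (c i • v i) ∈ _
      have hlin : π (c i • v i) = c i • π (v i) := map_smul π (c i) (v i)
      rw [hlin]
      refine Submodule.smul_mem _ _ ?_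
      rw [hπv]
      by_cases hi : (i : ℕ) < r
      · rw [(IsLocalRing.residue_eq_zero_iff _).2 (hgm i hi), map_zero]
        exact zero_mem _
      · exact Submodule.subset_span ⟨i, Nat.le_of_not_lt hi, rfl⟩
    refine ⟨?_, hK⟩
    haveI hsm : Algebra.IsSmoothAt k p := by
      have h := (Groth.Agent.S2790.result k A n p hn).2 (hspan_iff.1 htop)
      haveI : Algebra.FormallyEtale P L := h
      exact Algebra.FormallySmooth.comp k P L
    obtain ⟨hreg, hdimeq⟩ := Groth.Agent.Unram17Lib.regular_and_localDim_eq_finrank k p
    haveI : Algebra.FormallyEtale A L := .of_isLocalization p.primeCompl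
    have hW : Module.finrank K (TensorProduct L K (KaehlerDifferential k L)) = n := by
      rw [((LinearEquiv.baseChange L K _ _ (KaehlerDifferential.tensorKaehlerEquivOfFormallyEtale k A L)).symm.trans
        (TensorProduct.AlgebraTensorModule.cancelBaseChange A L K K (KaehlerDifferential k A))).finrank_eq]
      rw [hn] at hdimeq
      exact_mod_cast hdimeq.symm
    have hli : LinearIndependent K v :=
      linearIndependent_of_top_le_span_of_card_eq_finrank htop.ge (by rw [Fintype.card_fin, hW])
    let ψ : IsLocalRing.CotangentSpace L →ₗ[L] TensorProduct L K (KaehlerDifferential k L) :=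
      (KaehlerDifferential.kerCotangentToTensor k L K).comp
        (Ideal.Cotangent.equivOfEq _ _ (IsLocalRing.ker_residue (R := L)).symm).toLinearMap
    let c : {i : Fin n | (i : ℕ) < r} → IsLocalRing.CotangentSpace L :=
      fun i => (IsLocalRing.maximalIdeal L).toCotangent ⟨g i.1, hgm i.1 i.2⟩
    have hψc : ∀ i, ψ (c i) = v i.1 := fun i => by
      simp only [ψ, c, LinearMap.comp_apply, LinearEquiv.coe_coe, Ideal.Cotangent.equivOfEq_toCotangent]
      rfl
    have hc : LinearIndependent K c := by
      rw [Fintype.linearIndependent_iff]
      intro a ha i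
      have hli' := Fintype.linearIndependent_iff.1 (hli.comp (fun i : {i : Fin n | (i : ℕ) < r} => i.1) Subtype.val_injective)
      refine hli' a ?_ i
      have h0 := congrArg ψ ha
      rw [map_zero, map_sum] at h0
      refine Eq.trans (Finset.sum_congr rfl fun j _ => ?_) h0
      obtain ⟨b, hb⟩ := IsLocalRing.residue_surjective (R := L) (a j)
      rw [← hb]
      show IsLocalRing.residue L b • v j.1 = ψ (IsLocalRing.residue L b • c j)
      rw [show IsLocalRing.residue L b • v j.1 = b • v j.1 from algebraMap_smul K b (v j.1),
        show IsLocalRing.residue L b • c j = b • c j from algebraMap_smul K b (c j), map_smul, hψc]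
    have hcard : Fintype.card {i : Fin n | (i : ℕ) < r} = r := by
      have hrn : r ≤ n := by
        obtain ⟨d, hd⟩ : ∃ d : ℕ, ringKrullDim (A ⧸ p) = (d : WithBot ℕ∞) :=
          ⟨_, Groth.Agent.DimLib.ringKrullDim_quotient_eq_ptDim (A := CommRingCat.of A) (algebraMap k A)
            (RingHom.finiteType_algebraMap.2 inferInstance) ⟨p, inferInstance⟩⟩
        have h := Groth.Agent.Unram17Lib.localDim_spec k A ⟨p, inferInstance⟩
        rw [hn, hr, hd] at h
        have h' : n = r + d := by exact_mod_cast h
        omega
      rw [← Set.toFinset_card, Set.toFinset_setOf]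
      simp [Fin.card_filter_val_lt, hrn]
    have hcot : Submodule.span K (Set.range c) = ⊤ := by
      rcases Nat.eq_zero_or_pos r with h0 | h0
      · have : Subsingleton (IsLocalRing.CotangentSpace L) := by
          apply Module.finrank_zero_iff (R := K).1
          have := (IsRegularLocalRing.iff_finrank_cotangentSpace L).1 hreg
          rw [hr, h0] at this
          exact_mod_cast this
        exact Subsingleton.elim _ _
      · haveI : Nonempty {i : Fin n | (i : ℕ) < r} := Fintype.card_pos_iff.1 (by omega)
        refine hc.span_eq_top_of_card_eq_finrank ?_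
        have := (IsRegularLocalRing.iff_finrank_cotangentSpace L).1 hreg
        rw [hr] at this
        rw [hcard]
        exact_mod_cast this.symm
    have h2 := (IsLocalRing.CotangentSpace.span_image_eq_top_iff
      (s := Set.range fun i : {i : Fin n | (i : ℕ) < r} => (⟨g i.1, hgm i.1 i.2⟩ : IsLocalRing.maximalIdeal L))).1
      (by rw [← Set.range_comp]; exact hcot)
    have h3 := congrArg (Submodule.map (IsLocalRing.maximalIdeal L).subtype) h2
    rw [Submodule.map_span, Submodule.map_top, Submodule.range_subtype, ← Set.range_comp] at h3
    refine Eq.trans ?_ h3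
    rw [Set.image_eq_range]
    rfl
  · rintro ⟨hm, hK⟩
    have hker : ∀ x ∈ IsLocalRing.maximalIdeal L,
        (1 : K) ⊗ₜ[L] KaehlerDifferential.D k L x ∈ Submodule.span K (Set.range v) := by
      intro x hx
      rw [← hm] at hx
      induction hx using Submodule.span_induction with
      | mem y hy =>
        obtain ⟨i, -, rfl⟩ := hy
        exact Submodule.subset_span ⟨i, rfl⟩
      | zero => rw [map_zero, TensorProduct.tmul_zero]; exact zero_mem _
      | add y z _ _ hy hz => rw [map_add, TensorProduct.tmul_add]; exact add_mem hy hz
      | smul a y hy' hy =>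
        have hym : y ∈ IsLocalRing.maximalIdeal L := hm.le hy'
        rw [smul_eq_mul, Derivation.leibniz, TensorProduct.tmul_add]
        refine add_mem ?_ ?_
        · rw [TensorProduct.tmul_smul, ← algebraMap_smul K a]
          exact Submodule.smul_mem _ _ hy
        · rw [TensorProduct.tmul_smul, ← algebraMap_smul K y,
            show algebraMap L K y = 0 from (IsLocalRing.residue_eq_zero_iff y).2 hym, zero_smul]
          exact zero_mem _
    rw [eq_top_iff]
    intro z _
    obtain ⟨c, hc⟩ : ∃ c : Fin n → K, π z = ∑ i, c i • π (v i) := by
      have hz : π z ∈ Submodule.span K (Set.range fun i => π (v i)) := by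
        refine Submodule.span_mono ?_ (hK.ge (Submodule.mem_top (x := π z)))
        rintro _ ⟨i, -, rfl⟩
        exact ⟨i, hπv i⟩
      obtain ⟨c, hc⟩ := (Submodule.mem_span_range_iff_exists_fun K).1 hz
      exact ⟨c, hc.symm⟩
    have h0 : π (z - ∑ i, c i • v i) = 0 := by
      rw [map_sub, map_sum, hc, sub_eq_zero]
      exact Finset.sum_congr rfl fun i _ => (map_smul π (c i) (v i)).symm
    obtain ⟨y, hy⟩ := (KaehlerDifferential.exact_kerCotangentToTensor_mapBaseChange k L K
      IsLocalRing.residue_surjective (z - ∑ i, c i • v i)).1 h0
    obtain ⟨y, rfl⟩ := Ideal.toCotangent_surjective _ y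
    rw [KaehlerDifferential.kerCotangentToTensor_toCotangent] at hy
    have hy' : y.1 ∈ IsLocalRing.maximalIdeal L := (IsLocalRing.residue_eq_zero_iff y.1).1 y.2
    rw [← sub_add_cancel z (∑ i, c i • v i), ← hy]
    exact add_mem (hker _ hy') (Submodule.sum_mem _ fun i _ => Submodule.smul_mem _ _ (Submodule.subset_span ⟨i, rfl⟩))

end Groth.Agent.S5026
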