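import Groth.Statements.S5027
import Groth.Agent.Unram17Lib.FieldKaehler
import Groth.Agent.EGA41Lib.FieldSeparableSmooth

set_option autoImplicit false
set_option backward.isDefEq.respectTransparency.types false
universe u
open Unram17

namespace Groth.Agent.S5027

/-- Let A be an algebra of finite type over a field k, p a prime of A such that Spec A has local
dimension n at p, and r the Krull dimension of the local ring A_p. Then A_p is regular and the
residue field κ(p) is a separable extension of k (geometrically reduced over k) if and only if there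
exist n elements of the local ring A_p (germs at p in place of sections over an open neighbourhood
of p, which is equivalent) of which those with index < r generate the maximal ideal and the residue
classes of the remaining ones have differentials generating the module of differentials of κ(p) over
k. -/
theorem result (k A : Type u) [Field k]
    [CommRing A] [Algebra k A] [Algebra.FiniteType k A] (n r : ℕ) (p : Ideal A) [p.IsPrime]
    (hn : FlatMor.localDim (PrimeSpectrum A) ⟨p, inferInstance⟩ = (n : WithBot ℕ∞))
    (hr : ringKrullDim (Localization.AtPrime p) = (r : WithBot ℕ∞)) :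
    (IsRegularLocalRing (Localization.AtPrime p) ∧ Algebra.IsGeometricallyReduced k p.ResidueField) ↔
      ∃ g : Fin n → Localization.AtPrime p,
        Ideal.span (g '' {i : Fin n | (i : ℕ) < r}) = IsLocalRing.maximalIdeal (Localization.AtPrime p) ∧
          Submodule.span p.ResidueField ((fun i : Fin n =>
            KaehlerDifferential.D k p.ResidueField (IsLocalRing.residue (Localization.AtPrime p) (g i))) ''
              {i : Fin n | r ≤ (i : ℕ)}) = ⊤ := by
  classical
  let L := Localization.AtPrime p
  let K := p.ResidueField
  haveI : IsNoetherianRing A := Algebra.FiniteType.isNoetherianRing k A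
  haveI : IsNoetherianRing L := IsLocalization.isNoetherianRing p.primeCompl _ inferInstance
  haveI : Algebra.FiniteType k (A ⧸ p) := Algebra.FiniteType.of_surjective (Ideal.Quotient.mkₐ k p) Ideal.Quotient.mk_surjective
  obtain ⟨d, hd, hnd⟩ : ∃ d : ℕ, ringKrullDim (A ⧸ p) = (d : WithBot ℕ∞) ∧ n = r + d := by
    obtain ⟨d, hd⟩ : ∃ d : ℕ, ringKrullDim (A ⧸ p) = (d : WithBot ℕ∞) :=
      ⟨_, Groth.Agent.DimLib.ringKrullDim_quotient_eq_ptDim (A := CommRingCat.of A) (algebraMap k A)
        (RingHom.finiteType_algebraMap.2 inferInstance) ⟨p, inferInstance⟩⟩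
    refine ⟨d, hd, ?_⟩
    have h := Groth.Agent.Unram17Lib.localDim_spec k A ⟨p, inferInstance⟩
    rw [hn, hr, hd] at h
    exact_mod_cast h
  obtain ⟨hK1, hK2⟩ := Groth.Agent.Unram17Lib.formallySmooth_fractionRing_iff k (A ⧸ p) K
  haveI : Algebra.EssFiniteType (A ⧸ p) K := Algebra.EssFiniteType.of_isLocalization K (nonZeroDivisors (A ⧸ p))
  haveI : Algebra.EssFiniteType k K := Algebra.EssFiniteType.comp k (A ⧸ p) K
  constructor
  · rintro ⟨hreg, hgr⟩
    have hdK := hK2 ((Groth.Agent.EGA41Lib.formallySmooth_iff_isGeometricallyReduced_field k K).2 hgr)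
    rw [hd] at hdK
    have hdK' : Module.finrank K (KaehlerDifferential k K) = d := by exact_mod_cast hdK
    obtain ⟨s, hs, hsp⟩ := (IsNoetherian.noetherian (IsLocalRing.maximalIdeal L)).exists_span_finset_card_eq_spanFinrank
    have hsr : s.card = r := by
      have h := IsRegularLocalRing.spanFinrank_maximalIdeal (R := L)
      rw [hr, ← hs] at h
      exact_mod_cast h
    obtain ⟨κ', a, ha, hasp, hali⟩ := exists_linearIndependent' K (fun z : K => KaehlerDifferential.D k K z)
    have htop : Submodule.span K (Set.range ((fun z : K => KaehlerDifferential.D k K z) ∘ a)) = ⊤ := by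
      rw [hasp]; exact KaehlerDifferential.span_range_derivation k K
    let b := Module.Basis.mk hali htop.ge
    haveI : Fintype κ' := FiniteDimensional.fintypeBasisIndex b
    let e : κ' ≃ Fin d := Fintype.equivFinOfCardEq ((Module.finrank_eq_card_basis b).symm.trans hdK')
    let es : (s : Set L) ≃ Fin r := Fintype.equivFinOfCardEq ((Fintype.card_coe s).trans hsr)
    choose σ hσ using IsLocalRing.residue_surjective (R := L)
    let g : Fin n → L := fun i => if h : (i : ℕ) < r then (es.symm ⟨i, h⟩).1 else
      σ (a (e.symm ⟨i - r, by omega⟩))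
    refine ⟨g, ?_, ?_⟩
    · rw [show g '' {i : Fin n | (i : ℕ) < r} = (s : Set L) from ?_]
      · exact hsp
      ext z
      constructor
      · rintro ⟨i, hi, rfl⟩
        simp only [g, dif_pos (show (i : ℕ) < r from hi)]
        exact (es.symm _).2
      · intro hz
        refine ⟨⟨es ⟨z, hz⟩, by omega⟩, (es ⟨z, hz⟩).2, ?_⟩
        simp only [g, dif_pos (es ⟨z, hz⟩).2, Equiv.symm_apply_apply, Fin.eta]
    · rw [eq_top_iff, ← htop, Submodule.span_le]
      rintro _ ⟨j, rfl⟩
      refine Submodule.subset_span ⟨⟨r + e j, by omega⟩, Nat.le_add_right r (e j), ?_⟩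
      simp only [g, dif_neg (Nat.not_lt.2 (Nat.le_add_right r (e j))), hσ, Function.comp]
      congr
      simp
      exact hσ _
  · rintro ⟨g, hgm, hgK⟩
    refine ⟨IsRegularLocalRing.of_spanFinrank_maximalIdeal_le L ?_, ?_⟩
    · rw [hr, ← hgm]
      have h := Submodule.spanFinrank_span_le_ncard_of_finite (R := L)
        ((Set.toFinite {i : Fin n | (i : ℕ) < r}).image g)
      have h2 : (g '' {i : Fin n | (i : ℕ) < r}).ncard ≤ r := by
        refine (Set.ncard_image_le (Set.toFinite _)).trans ?_
        rw [Set.ncard_eq_toFinset_card', Set.toFinset_setOf]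
        simp [Fin.card_filter_val_lt]
      exact_mod_cast h.trans h2
    · refine (Groth.Agent.EGA41Lib.formallySmooth_iff_isGeometricallyReduced_field k K).1 (hK1.2 ?_)
      rw [hd]
      have : Module.finrank K (KaehlerDifferential k K) ≤ d := by
        let v : {i : Fin n | r ≤ (i : ℕ)} → KaehlerDifferential k K := fun i =>
          KaehlerDifferential.D k K (IsLocalRing.residue L (g i.1))
        have hv : Submodule.span K (Set.range v) = ⊤ := by
          rw [← hgK, Set.image_eq_range]
        have h := finrank_range_le_card (R := K) (b := v)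
        rw [Set.finrank, hv, finrank_top] at h
        refine h.trans ?_
        rw [← Set.toFinset_card, Set.toFinset_setOf]
        have h3 := Finset.card_filter_add_card_filter_not (s := (Finset.univ : Finset (Fin n))) (fun i : Fin n => r ≤ (i : ℕ))
        simp only [not_le, Fin.card_filter_val_lt, Finset.card_univ, Fintype.card_fin] at h3
        omega
      exact_mod_cast this

end Groth.Agent.S5027
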