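import Groth.Statements.S5029
import Groth.Agent.SymAlgLib.SpecMaps
import Groth.Agent.CAlgH3.LocFreeFactor
import Mathlib.LinearAlgebra.SymmetricAlgebra.Basis
open Opposite Groth.Agent Groth.Agent.PicLib Groth.Agent.Coherent Groth.Agent.SymAlgLib Groth.Agent.CAlgH3 Groth.Agent.CAlgH3.LocFreeFactor TopologicalSpace
set_option linter.style.haveILetI false
set_option backward.isDefEq.respectTransparency.types false

set_option autoImplicit false
universe u
open CategoryTheory CategoryTheory.Limits AlgebraicGeometry TopologicalSpace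
open Unram17

set_option backward.isDefEq.respectTransparency.types false
set_option backward.isDefEq.respectTransparency false

namespace Groth.Agent.S5029


/-- Let S be a scheme and E a quasi-coherent O_S-module that is finite locally free. If A is a
quasi-coherent O_S-algebra which is the symmetric algebra of E (through j : E ⟶ A), then the
structure morphism of the relative spectrum of A, i.e. of the vector bundle V(E), is smooth. -/
theorem result {S : Scheme.{u}} (E : S.Modules) (hE : Coh.IsQCoh E)
    (hlf : FlatMod.IsFinLocFree E) (A : RelSpec.QCAlg S) (j : E ⟶ A.toModule) (hA : RelSpec.IsSymAlg E A j) :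
    Smooth A.π := by
  choose U n e hx hU hb using exists_affine_basis hlf
  obtain ⟨ψ, -⟩ := exists_iso_symAlg hA
  haveI : Coh.IsQCoh E := hE
  let 𝒰 : A.spec.OpenCover := Scheme.Cover.mkOfCovers S (fun x => Spec (A.presheaf.obj (op (U x))))
    (fun x => A.ι (U x) (hU x)) (fun y => by
      have : y ∈ A.π ⁻¹ᵁ U (A.π y) := hx (A.π y)
      rw [A.π_preimage _ (hU (A.π y))] at this
      exact ⟨A.π y, this⟩) (fun x => inferInstance)
  refine IsZariskiLocalAtSource.of_openCover (P := @Smooth) 𝒰 fun (x : S) => ?_
  show Smooth (A.ι (U x) (hU x) ≫ A.π)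
  rw [A.ι_π (U x) (hU x)]
  let R := Γ(S, U x)
  let M := Γ(E, U x)
  let L : (ULift.{u} (Fin (n x)) → R) →ₗ[R] M :=
    ∑ i, (LinearMap.proj i).smulRight (resM E le_rfl (e x i))
  have hL : Function.Bijective L := by
    have := @hb x (U x) le_rfl
    convert this using 1
    funext c
    simp [L]
  let b : Module.Basis (ULift.{u} (Fin (n x))) R M := Module.Basis.ofEquivFun (LinearEquiv.ofBijective L hL).symm
  let eS : MvPolynomial (ULift.{u} (Fin (n x))) R ≃ₐ[R] SymmetricAlgebra R M := (SymmetricAlgebra.equivMvPolynomial b).symm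
  haveI : Algebra.Smooth R (MvPolynomial (ULift.{u} (Fin (n x))) R) := ⟨inferInstance, inferInstance⟩
  haveI : Algebra.Smooth R (SymmetricAlgebra R M) := Algebra.Smooth.of_equiv eS
  let iU : (symAlg E).presheaf.obj (op (U x)) ≅ A.presheaf.obj (op (U x)) :=
    ⟨ψ.hom.hom.app (op (U x)), ψ.inv.hom.app (op (U x)),
      NatTrans.congr_app (congrArg RelSpec.QCAlg.Hom.hom ψ.hom_inv_id) (op (U x)),
      NatTrans.congr_app (congrArg RelSpec.QCAlg.Hom.hom ψ.inv_hom_id) (op (U x))⟩
  let eA := (secIso E).app (op ⟨U x, hU x⟩)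
  have hsm : (A.str.app (op (U x))).hom.Smooth := by
    have h0 : A.str.app (op (U x)) =
        CommRingCat.ofHom (algebraMap R (SymmetricAlgebra R M)) ≫ eA.inv ≫ iU.hom := by
      ext r
      show A.str.app (op (U x)) r = iU.hom (eA.inv (algebraMap R (SymmetricAlgebra R M) r))
      rw [show eA.inv (algebraMap R (SymmetricAlgebra R M) r) = _ from secIso_inv_algebraMap E ⟨U x, hU x⟩ r]
      exact (ConcreteCategory.congr_hom (NatTrans.congr_app ψ.hom.comm (op (U x))) r).symm
    rw [h0]
    haveI : IsIso iU.hom := Iso.isIso_hom iU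
    have hA0 : (algebraMap R (SymmetricAlgebra R M)).Smooth := RingHom.smooth_algebraMap.2 ‹_›
    have hA1 : eA.inv.hom.Smooth := RingHom.Smooth.of_bijective (ConcreteCategory.bijective_of_isIso eA.inv)
    have hA2 : iU.hom.hom.Smooth := RingHom.Smooth.of_bijective (ConcreteCategory.bijective_of_isIso iU.hom)
    exact (hA0.comp hA1).comp hA2
  have hspec : Smooth (Spec.map (A.str.app (op (U x)))) := (HasRingHomProperty.Spec_iff (P := @Smooth)).2 hsm
  exact MorphismProperty.comp_mem _ _ _ hspec inferInstance

end Groth.Agent.S5029
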