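import Groth.Statements.S5037
import Groth.Agent.HenselLib.ClopenSpace
import Groth.Agent.HenselLib.SectionsIdem
-- import your own Groth.Agent.* helpers here

set_option autoImplicit false
set_option linter.all false
set_option backward.isDefEq.respectTransparency false
set_option backward.isDefEq.respectTransparency.types false
open CategoryTheory CategoryTheory.Limits AlgebraicGeometry
universe u
open Hensel

namespace Groth.Agent.S5037

/-- b) implies a'): let i : S₀ ⟶ S be a closed immersion. Suppose that for every étale separated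
morphism g : S' ⟶ S and every section u₀ of S' ×_S S₀ ⟶ S₀ there is exactly one section u of g with
i ≫ u = u₀ followed by the first projection. Then for every finite locally free morphism g : S' ⟶ S
(finite, flat and locally of finite presentation), every open-closed subset of S' ×_S S₀ is the
inverse image under the first projection of exactly one open-closed subset of S'. -/
theorem result {S S₀ : Scheme.{u}} (i : S₀ ⟶ S) [IsClosedImmersion i]
    (hb : ∀ (S' : Scheme.{u}) (g : S' ⟶ S), Etale g → IsSeparated g →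
      ∀ u₀ : S₀ ⟶ pullback g i, u₀ ≫ pullback.snd g i = 𝟙 S₀ →
        ∃! u : S ⟶ S', u ≫ g = 𝟙 S ∧ i ≫ u = u₀ ≫ pullback.fst g i)
    {S' : Scheme.{u}} (g : S' ⟶ S) [IsFinite g] [Flat g] [LocallyOfFinitePresentation g]
    (V : Set ↥(pullback g i)) (hV : IsClopen V) :
    ∃! U : Set ↥S', IsClopen U ∧ (pullback.fst g i).base ⁻¹' U = V := by
  classical
  have hg : Mor2.IsFinLocFree g := ⟨inferInstance, inferInstance, inferInstance⟩
  obtain ⟨E, hE, ⟨r⟩⟩ := Groth.Agent.HenselLib.ClopenSpace.exists_rep g hg
  have hEt : Etale E.hom := Groth.Agent.HenselLib.ClopenSpace.etale g hg r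
  let T₀ : Over S := Over.mk i
  let T₁ : Over S := Over.mk (𝟙 S)
  let t : T₀ ⟶ T₁ := Over.homMk i (Category.comp_id i)
  let σ := pullbackSymmetry i g
  let ι : S' ⟶ pullback (𝟙 S) g := pullback.lift g (𝟙 S') (by simp)
  haveI : IsIso ι := ⟨pullback.snd _ _, pullback.lift_snd _ _ _, pullback.hom_ext
    (by rw [Category.assoc, pullback.lift_fst, Category.id_comp, ← pullback.condition, Category.comp_id])
    (by rw [Category.assoc, pullback.lift_snd, Category.comp_id, Category.id_comp])⟩
  have hfac : pullback.fst g i ≫ ι = σ.inv ≫ ((Over.pullback g).map t).left := by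
    refine pullback.hom_ext ?_ ?_
    · rw [Category.assoc, pullback.lift_fst, pullback.condition, Category.assoc]
      refine Eq.symm ((congrArg (σ.inv ≫ ·) (pullback.lift_fst _ _ _)).trans ?_)
      exact (pullbackSymmetry_inv_comp_fst_assoc i g _)
    · rw [Category.assoc, pullback.lift_snd, Category.comp_id, Category.assoc]
      refine Eq.symm ((congrArg (σ.inv ≫ ·) (pullback.lift_snd _ _ _)).trans ?_)
      exact pullbackSymmetry_inv_comp_snd i g
  obtain ⟨e₀, he₀, hV'⟩ := Groth.Agent.HenselLib.SectionsIdem.exists_idempotent hV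
  obtain ⟨h, hh, huniq⟩ := r.uniq (T := T₀) (σ.hom.appTop e₀) (he₀.map σ.hom.appTop.hom)
  obtain ⟨u, ⟨hu₁, hu₂⟩, hu⟩ := hb E.left E.hom hEt inferInstance
    (pullback.lift h.left (𝟙 S₀) ((Over.w h).trans (Category.id_comp i).symm)) (pullback.lift_snd _ _ _)
  rw [pullback.lift_fst] at hu₂
  let hu' : T₁ ⟶ E := Over.homMk u hu₁
  have hth : t ≫ hu' = h := Over.OverMorphism.ext hu₂
  have hpre : ∀ a : Γ(pullback (𝟙 S) g, ⊤), (pullback.fst g i).base ⁻¹' ((S'.basicOpen (ι.appTop a) : Set S')) =
      ((pullback g i).basicOpen (σ.inv.appTop (((Over.pullback g).map t).left.appTop a)) : Set _) := by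
    intro a
    have h1 : (pullback.fst g i).appTop (ι.appTop a) = σ.inv.appTop (((Over.pullback g).map t).left.appTop a) := by
      change (ι.appTop ≫ (pullback.fst g i).appTop) a = ((((Over.pullback g).map t).left.appTop) ≫ σ.inv.appTop) a
      rw [← Scheme.Hom.comp_appTop, hfac, Scheme.Hom.comp_appTop]
      rfl
    rw [← h1]
    exact congrArg (fun O : (pullback g i).Opens => (O : Set ↥(pullback g i))) (Scheme.preimage_basicOpen (pullback.fst g i) (ι.appTop a))
  have hσ : ∀ a, σ.inv.appTop (σ.hom.appTop a) = a := fun a => by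
    rw [← CommRingCat.comp_apply, ← Scheme.Hom.comp_appTop, Iso.inv_hom_id, Scheme.Hom.id_appTop]
    rfl
  refine ⟨(S'.basicOpen (ι.appTop (r.Φ hu')) : Set S'),
    ⟨Groth.Agent.HenselLib.SectionsIdem.isClopen_basicOpen ((r.idem hu').map ι.appTop.hom), ?_⟩, ?_⟩
  · rw [hpre, ← r.nat, hth, hh, hσ, hV']
  · rintro U ⟨hU, hUV⟩
    obtain ⟨e, he, hUe⟩ := Groth.Agent.HenselLib.SectionsIdem.exists_idempotent hU
    let e₁ := (inv ι).appTop e
    have he₁ : ι.appTop e₁ = e := by
      rw [← CommRingCat.comp_apply, ← Scheme.Hom.comp_appTop, IsIso.hom_inv_id, Scheme.Hom.id_appTop]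
      rfl
    obtain ⟨h', hh', -⟩ := r.uniq (T := T₁) e₁ (he.map (inv ι).appTop.hom)
    have hth' : t ≫ h' = h := by
      refine huniq _ ?_
      change r.Φ (t ≫ h') = _
      have hi : IsIso σ.inv.appTop := inferInstance
      apply (ConcreteCategory.bijective_of_isIso σ.inv.appTop).1
      rw [hσ, r.nat, hh']
      refine Groth.Agent.HenselLib.SectionsIdem.eq_of_basicOpen_eq ?_ he₀ (TopologicalSpace.Opens.ext ?_)
      · exact ((he.map (inv ι).appTop.hom).map ((Over.pullback g).map t).left.appTop.hom).map σ.inv.appTop.hom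
      · rw [hV', ← hpre, he₁, hUe, hUV]
    have : h'.left = u := hu h'.left ⟨Over.w h', by
      rw [pullback.lift_fst]; exact congrArg Over.Hom.left hth'⟩
    have : h' = hu' := Over.OverMorphism.ext this
    rw [← hUe, ← he₁, ← hh', this]

end Groth.Agent.S5037
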