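import Groth.Statements.S5039
import Groth.Agent.HenselLib.NagataHens

set_option autoImplicit false
universe u
open Hensel

namespace Groth.Agent.S5039

/-- Let R be a Noetherian local ring and S its henselization. Then S is universally Japanese if and only
if R is. -/
theorem result (R S : Type u) [CommRing R] [IsLocalRing R] [IsNoetherianRing R]
    [CommRing S] [IsLocalRing S] [Algebra R S] [IsLocalHom (algebraMap R S)] [Hensel.IsHenselization R S] :
    CAlg.IsUniversallyJapanese S ↔ CAlg.IsUniversallyJapanese R := by
  obtain ⟨e⟩ := Groth.Agent.HenselLib.IsPairHull.equiv_pairH (R := R) (I := IsLocalRing.maximalIdeal R)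
    ((Groth.Agent.S1993.result R S).mpr inferInstance)
  haveI : IsNoetherianRing S := by
    haveI := Groth.Agent.HenselLib.isNoetherianRing_pairH (R := R) (IsLocalRing.maximalIdeal R)
    exact isNoetherianRing_of_ringEquiv _ e.toRingEquiv
  have h := Groth.Agent.HenselLib.NagataHens.isNagata_iff R S
  rw [Groth.Agent.S0567.result, Groth.Agent.S0567.result] at h
  exact ⟨fun hS => (h.1 ⟨inferInstance, hS⟩).2, fun hR => (h.2 ⟨inferInstance, hR⟩).2⟩

end Groth.Agent.S5039
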