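import Groth.Statements.S5040
import Groth.Agent.CAlgH.WEtRegular
import Groth.Agent.HenselLib.LocalHens
import Groth.Agent.S1993
import Groth.Agent.S9228
import Groth.Agent.S2773
import Groth.Agent.S2636
-- import your own Groth.Agent.* helpers here

set_option autoImplicit false
universe u
open Hensel

namespace Groth.Agent.S5040

open TensorProduct IsLocalRing Groth.Agent.CAlgH

/-- Let R be a Noetherian local ring with henselization S. If R is formally catenary (the completion of
R/p is equidimensional for every prime ideal p), then S is formally catenary. -/
theorem result (R S : Type u) [CommRing R] [IsLocalRing R] [IsNoetherianRing R]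
    [CommRing S] [IsLocalRing S] [Algebra R S] [IsLocalHom (algebraMap R S)] [Hensel.IsHenselization R S]
    (h : EGA4.IsFormallyCatenary R) : EGA4.IsFormallyCatenary S := by
  have hP := (_root_.Groth.Agent.S1993.result R S).mpr inferInstance
  obtain ⟨e⟩ := HenselLib.IsPairHull.equiv_pairH (R := R) (I := maximalIdeal R) hP
  haveI : Algebra.WeaklyEtale R S := HenselLib.weaklyEtale_of_equiv e
  haveI : IsNoetherianRing S := by
    haveI := HenselLib.isNoetherianRing_pairH (R := R) (maximalIdeal R)
    exact isNoetherianRing_of_ringEquiv _ e.toRingEquiv
  exact _root_.Groth.Agent.S9228.result S (_root_.Groth.Agent.S2773.result R S (_root_.Groth.Agent.S2636.result R h))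

end Groth.Agent.S5040
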