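import Groth.Statements.S5041
import Groth.Agent.CAlgH.WEtRegular
import Groth.Agent.HenselLib.LocalHens
import Groth.Agent.S1993
import Groth.Agent.CommAlg6.StrictlyEquidim
import Groth.Agent.CommAlg6.FlatEquidim
-- import your own Groth.Agent.* helpers here

set_option autoImplicit false
universe u
open Hensel

namespace Groth.Agent.S5041

open TensorProduct IsLocalRing Groth.Agent.CAlgH

/-- Strict equidimensionality passes to a quotient that embeds. -/
theorem isStrictlyEquidim_quotient_of_injective {T : Type u} [CommRing T] [IsNoetherianRing T] (J J' : Ideal T)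
    (hJ : J ≤ J') (hJ' : J' ≠ ⊤) (g : (T ⧸ J') →ₗ[T] (T ⧸ J)) (hg : Function.Injective g)
    (h : EGA4.IsStrictlyEquidim (T ⧸ J)) : EGA4.IsStrictlyEquidim (T ⧸ J') := by
  haveI : Nontrivial (T ⧸ J') := Ideal.Quotient.nontrivial_iff.2 hJ'
  have key : ∀ Q ∈ associatedPrimes (T ⧸ J') (T ⧸ J'), ringKrullDim ((T ⧸ J') ⧸ Q) = ringKrullDim (T ⧸ J) := by
    intro Q hQ
    obtain ⟨hQp, t, ht⟩ := isAssociatedPrime_iff.mp hQ
    haveI := hQp
    let Q0 : Ideal T := Q.comap (Ideal.Quotient.mk J')
    haveI : Q0.IsPrime := Ideal.comap_isPrime _ _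
    have h0 : Q0 ∈ associatedPrimes T (T ⧸ J') := by
      refine isAssociatedPrime_iff.mpr ⟨inferInstance, t, ?_⟩
      ext z
      rw [Submodule.mem_colon_singleton, Submodule.mem_bot, Ideal.mem_comap, ht, Submodule.mem_colon_singleton,
        Submodule.mem_bot]
      rfl
    obtain ⟨-, s, hs⟩ := isAssociatedPrime_iff.mp (associatedPrimes.subset_of_injective hg h0)
    have hker : J ≤ Q0 := fun z hz => by
      rw [hs, Submodule.mem_colon_singleton, Submodule.mem_bot]
      obtain ⟨s, rfl⟩ := Ideal.Quotient.mk_surjective s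
      exact Ideal.Quotient.eq_zero_iff_mem.2 (Ideal.mul_mem_right _ _ hz)
    let P : Ideal (T ⧸ J) := Q0.map (Ideal.Quotient.mk J)
    have hPc : P.comap (Ideal.Quotient.mk J) = Q0 := by
      rw [Ideal.comap_map_of_surjective' _ Ideal.Quotient.mk_surjective, Ideal.mk_ker, sup_eq_left.2 hker]
    haveI : P.IsPrime := Ideal.map_isPrime_of_surjective Ideal.Quotient.mk_surjective (by rwa [Ideal.mk_ker])
    have hP : P ∈ associatedPrimes (T ⧸ J) (T ⧸ J) := by
      refine isAssociatedPrime_iff.mpr ⟨inferInstance, s, ?_⟩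
      ext z
      obtain ⟨z, rfl⟩ := Ideal.Quotient.mk_surjective z
      rw [Submodule.mem_colon_singleton, Submodule.mem_bot, ← Ideal.mem_comap, hPc, hs,
        Submodule.mem_colon_singleton, Submodule.mem_bot]
      rfl
    rw [← h P hP]
    refine ringKrullDim_eq_of_ringEquiv ?_
    refine ((RingHom.quotientKerEquivOfSurjective (f := (Ideal.Quotient.mk Q).comp (Ideal.Quotient.mk J'))
      (Ideal.Quotient.mk_surjective.comp Ideal.Quotient.mk_surjective)).symm.trans (Ideal.quotEquivOfEq ?_)).trans
      (RingHom.quotientKerEquivOfSurjective (f := (Ideal.Quotient.mk P).comp (Ideal.Quotient.mk J))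
        (Ideal.Quotient.mk_surjective.comp Ideal.Quotient.mk_surjective))
    rw [← RingHom.comap_ker, ← RingHom.comap_ker, Ideal.mk_ker, Ideal.mk_ker, hPc]
  have hdim : ringKrullDim (T ⧸ J') = ringKrullDim (T ⧸ J) := by
    refine le_antisymm (ringKrullDim_le_of_surjective (Ideal.Quotient.factor hJ) (Ideal.Quotient.factor_surjective hJ)) ?_
    obtain ⟨Q, hQ⟩ := associatedPrimes.nonempty (T ⧸ J') (T ⧸ J')
    rw [← key Q hQ]
    exact ringKrullDim_le_of_surjective (Ideal.Quotient.mk Q) Ideal.Quotient.mk_surjective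
  exact fun Q hQ => (key Q hQ).trans hdim.symm


/-- Let R be a Noetherian local ring with henselization S. If R is strictly formally catenary (for every
prime ideal p, every associated prime of the completion of R/p has quotient of dimension dim R/p),
then so is S. -/
theorem result (R S : Type u) [CommRing R] [IsLocalRing R] [IsNoetherianRing R]
    [CommRing S] [IsLocalRing S] [Algebra R S] [IsLocalHom (algebraMap R S)] [Hensel.IsHenselization R S]
    (h : EGA4.IsFormallyStrictlyCatenary R) : EGA4.IsFormallyStrictlyCatenary S := by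
  have hP := (_root_.Groth.Agent.S1993.result R S).mpr inferInstance
  obtain ⟨e⟩ := HenselLib.IsPairHull.equiv_pairH (R := R) (I := maximalIdeal R) hP
  haveI : Algebra.WeaklyEtale R S := HenselLib.weaklyEtale_of_equiv e
  haveI : IsNoetherianRing S := by
    haveI := HenselLib.isNoetherianRing_pairH (R := R) (maximalIdeal R)
    exact isNoetherianRing_of_ringEquiv _ e.toRingEquiv
  haveI : Module.Flat R S := Algebra.WeaklyEtale.flat
  have hm : Ideal.map (algebraMap R S) (maximalIdeal R) = maximalIdeal S := by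
    rw [← e.toAlgHom.comp_algebraMap, ← Ideal.map_map]
    exact (congrArg (Ideal.map _) (HenselLib.map_maximalIdeal_localH (R := R))).trans
      (IsLocalRing.map_ringEquiv_maximalIdeal e.toRingEquiv)
  have hres : ∀ y : S, ∃ a, y - algebraMap R S a ∈ maximalIdeal S := fun y => by
    obtain ⟨a, ha⟩ := HenselLib.exists_sub_algebraMap_mem R (maximalIdeal R) (e.symm y)
    refine ⟨a, ?_⟩
    have h2 := Ideal.mem_map_of_mem e.toAlgHom.toRingHom ha
    rw [Ideal.map_map, show e.toAlgHom.toRingHom.comp (algebraMap R (HenselLib.PairH R (maximalIdeal R))) = algebraMap R S from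
      e.toAlgHom.comp_algebraMap, hm] at h2
    simpa using h2
  haveI : IsNoetherianRing (EGA4.Cpl S) := _root_.Groth.Agent.Matlis6.isNoetherianRing_adicCompletion _
  haveI : IsNoetherianRing (EGA4.Cpl R) := _root_.Groth.Agent.Matlis6.isNoetherianRing_adicCompletion _
  obtain ⟨_, _, _⟩ := _root_.Groth.Agent.CommAlg6.exists_algebra_completion R S
  have hk : Function.Surjective (IsLocalRing.ResidueField.map (algebraMap R S)) := fun z => by
    obtain ⟨y, rfl⟩ := residue_surjective z
    obtain ⟨a, ha⟩ := hres y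
    exact ⟨residue R a, (Ideal.Quotient.eq.mpr ha).symm⟩
  have hb := completion_map_bijective R S hm hk (algebraMap _ _)
    (by rw [← IsScalarTower.algebraMap_eq, ← IsScalarTower.algebraMap_eq])
  let T := EGA4.Cpl S
  let θ : EGA4.Cpl R ≃+* T := RingEquiv.ofBijective _ hb
  haveI : Module.Flat S T := AdicCompletion.flat_of_isNoetherian _
  intro P _
  let p := P.comap (algebraMap R S)
  let pS := p.map (algebraMap R S)
  let J := pS.map (algebraMap S T)
  let J' := P.map (algebraMap S T)
  haveI : IsLocalRing (R ⧸ p) := .of_surjective' _ Ideal.Quotient.mk_surjective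
  haveI : IsLocalRing (S ⧸ P) := .of_surjective' _ Ideal.Quotient.mk_surjective
  obtain ⟨e1⟩ := CAlgH.completion_quotient_equiv (Ideal.Quotient.mk p) Ideal.Quotient.mk_surjective
  obtain ⟨e2⟩ := CAlgH.completion_quotient_equiv (Ideal.Quotient.mk P) Ideal.Quotient.mk_surjective
  rw [Ideal.mk_ker] at e1 e2
  haveI : IsNoetherianRing (AdicCompletion (maximalIdeal (R ⧸ p)) (R ⧸ p)) :=
    _root_.Groth.Agent.Matlis6.isNoetherianRing_adicCompletion _
  haveI : IsNoetherianRing (AdicCompletion (maximalIdeal (S ⧸ P)) (S ⧸ P)) :=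
    _root_.Groth.Agent.Matlis6.isNoetherianRing_adicCompletion _
  refine _root_.Groth.Agent.CommAlg6.isStrictlyEquidim_of_ringEquiv e2 ?_
  have hJeq : J = (p.map (algebraMap R (EGA4.Cpl R))).map θ.toRingHom := by
    show (p.map (algebraMap R S)).map (algebraMap S T) = _
    rw [Ideal.map_map, Ideal.map_map, ← IsScalarTower.algebraMap_eq]
    exact congrArg (fun f => Ideal.map f p) (IsScalarTower.algebraMap_eq R (EGA4.Cpl R) T)
  have hJse : EGA4.IsStrictlyEquidim (T ⧸ J) :=
    _root_.Groth.Agent.CommAlg6.isStrictlyEquidim_of_ringEquiv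
      (e1.symm.trans (Ideal.quotientEquiv _ J θ hJeq)) (h p)
  have hle : pS ≤ P := Ideal.map_le_iff_le_comap.2 le_rfl
  have hmin : P ∈ pS.minimalPrimes := by
    refine ⟨⟨inferInstance, hle⟩, ?_⟩
    rintro P' ⟨hP', hP'le⟩ hP'P
    haveI := hP'
    have hc : P'.comap (algebraMap R S) = p :=
      le_antisymm (Ideal.comap_mono hP'P) (Ideal.map_le_iff_le_comap.1 hP'le)
    have hU : HenselLib.WEt.VNR (p.ResidueField ⊗[R] S) :=
      HenselLib.WEt.vnr_of_weaklyEtale (HenselLib.WEt.vnr_field p.ResidueField)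
    let F := PrimeSpectrum.preimageOrderIsoFiber R S ⟨p, inferInstance⟩
    let a : PrimeSpectrum.comap (algebraMap R S) ⁻¹' {⟨p, inferInstance⟩} := ⟨⟨P', hP'⟩, PrimeSpectrum.ext hc⟩
    let b : PrimeSpectrum.comap (algebraMap R S) ⁻¹' {⟨p, inferInstance⟩} := ⟨⟨P, inferInstance⟩, PrimeSpectrum.ext rfl⟩
    have hab : F a ≤ F b := F.monotone (show a ≤ b from hP'P)
    have heq : F a = F b := PrimeSpectrum.ext
      ((hU.isMaximal (F a).asIdeal).eq_of_le (F b).isPrime.ne_top hab)
    exact (congrArg (fun x => x.1.asIdeal) (F.injective heq)).ge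
  have hass : P ∈ associatedPrimes S (S ⧸ pS) :=
    Module.associatedPrimes.minimalPrimes_annihilator_subset_associatedPrimes S (S ⧸ pS) (by rw [Ideal.annihilator_quotient]; exact hmin)
  obtain ⟨-, g0, hg0⟩ := (isAssociatedPrime_iff_exists_injective_linearMap P (S ⧸ pS)).mp hass
  let g : (T ⧸ J') →ₗ[T] (T ⧸ J) :=
    ((Algebra.TensorProduct.quotIdealMapEquivTensorQuot T pS).symm.toLinearEquiv.toLinearMap.comp
      (AlgebraTensorModule.map (LinearMap.id : T →ₗ[T] T) g0)).comp
      (Algebra.TensorProduct.quotIdealMapEquivTensorQuot T P).toLinearEquiv.toLinearMap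
  have hg : Function.Injective g :=
    ((Algebra.TensorProduct.quotIdealMapEquivTensorQuot T pS).symm.injective.comp
      (Module.Flat.lTensor_preserves_injective_linearMap g0 hg0)).comp
      (Algebra.TensorProduct.quotIdealMapEquivTensorQuot T P).injective
  haveI : IsLocalHom (algebraMap S T) := _root_.Groth.Agent.CommAlg6.isLocalHom_completion S
  exact isStrictlyEquidim_quotient_of_injective J J' (Ideal.map_mono hle)
    (ne_top_of_le_ne_top (maximalIdeal.isMaximal T).ne_top
      ((Ideal.map_mono (le_maximalIdeal (Ideal.IsPrime.ne_top inferInstance))).trans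
        (_root_.Groth.Agent.CommAlg6.map_maximalIdeal_le (A := S) (B := T)))) g hg hJse

end Groth.Agent.S5041
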