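import Groth.Statements.S5042
import Groth.Agent.HenselLib.ExcellentHull
import Groth.Agent.HenselLib.LocalHens
import Groth.Agent.HenselLib.HullProps
import Groth.Agent.S2045

set_option autoImplicit false
universe u
open Hensel

namespace Groth.Agent.S5042

/-- The henselization S of an excellent local ring R is excellent. -/
theorem result (R S : Type u) [CommRing R] [IsLocalRing R]
    [CommRing S] [IsLocalRing S] [Algebra R S] [IsLocalHom (algebraMap R S)] [Hensel.IsHenselization R S]
    (h : EGA4.IsExcellent R) : EGA4.IsExcellent S := by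
  obtain ⟨hN, hUC, hG, hJ⟩ := h
  haveI := hN
  haveI := HenselLib.isNoetherianRing_localH (R := R)
  obtain ⟨e⟩ := HenselLib.exists_equiv_localH (R := R) S
  exact ⟨isNoetherianRing_of_ringEquiv _ e.toRingEquiv,
    HenselLib.Catenary.isUniversallyCatenary_of_equiv e.toRingEquiv
      (HenselLib.Catenary.isUniversallyCatenary_hull R _ hUC),
    Groth.Agent.S2045.result hG,
    HenselLib.Catenary.isJ2_of_equiv e.toRingEquiv (HenselLib.Catenary.isJ2_hull R _ hJ)⟩

end Groth.Agent.S5042
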