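import Groth.Statements.S5043
import Groth.Agent.HenselLib.HullWEt
import Groth.Agent.HenselLib.WEtNoeth
import Groth.Agent.HenselLib.LocalHens

set_option autoImplicit false
universe u
open Hensel

namespace Groth.Agent.S5043

/-- Let R be a Noetherian local ring with henselization S. A prime ideal P of S is an associated prime
of S if and only if its inverse image in R is an associated prime of R. -/
theorem result (R S : Type u) [CommRing R] [IsLocalRing R] [IsNoetherianRing R]
    [CommRing S] [IsLocalRing S] [Algebra R S] [IsLocalHom (algebraMap R S)] [Hensel.IsHenselization R S]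
    (P : Ideal S) [P.IsPrime] :
    P ∈ associatedPrimes S S ↔ P.comap (algebraMap R S) ∈ associatedPrimes R R := by
  obtain ⟨e⟩ := HenselLib.exists_equiv_localH (R := R) S
  haveI : Algebra.WeaklyEtale R S := HenselLib.weaklyEtale_of_equiv e
  haveI : IsNoetherianRing S :=
    haveI := HenselLib.isNoetherianRing_localH (R := R)
    isNoetherianRing_of_ringEquiv (HenselLib.LocalH R) e.toRingEquiv
  exact HenselLib.WEtNoeth.mem_associatedPrimes_iff P

end Groth.Agent.S5043
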