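import Groth.Statements.S5047
import Groth.Agent.S2767

set_option autoImplicit false
set_option backward.isDefEq.respectTransparency.types false
set_option linter.style.haveILetI false
open CategoryTheory AlgebraicGeometry
universe u
open Unram Groth.Agent CategoryTheory.Limits

namespace Groth.Agent.S5047

/-- Consider morphisms g : Y ⟶ S and h : X ⟶ S, both locally of finite presentation, where h is flat and
every local ring of every fibre of g is a normal domain (this holds, e.g., when g is smooth). Given
an S-morphism f : X ⟶ Y, the morphism f is an open immersion exactly when it is a monomorphism and,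
at each point x of X, the local dimension at x of the h-fibre containing x coincides with the local
dimension at f x of the g-fibre containing f x. -/
theorem result {X Y S : Scheme.{u}} (g : Y ⟶ S) (h : X ⟶ S)
    [LocallyOfFinitePresentation g] [LocallyOfFinitePresentation h] [Flat h]
    (hnorm : ∀ y : Y, IsDomain ((g.fiber (g.base y)).presheaf.stalk (g.asFiber y)) ∧
      IsIntegrallyClosed ((g.fiber (g.base y)).presheaf.stalk (g.asFiber y)))
    (f : X ⟶ Y) (w : f ≫ g = h) :
    IsOpenImmersion f ↔ (Mono f ∧ ∀ x : X, FlatMor.fibreDimAt h x = FlatMor.fibreDimAt g (f.base x)) := by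
  subst w
  haveI := FlatMor12.lfp_of_comp f g
  refine ⟨fun _ => ⟨inferInstance, fun x => ?_⟩, fun ⟨_, hdim⟩ => ?_⟩
  · exact (AlgSpLib.fibreDimAt_eq_of_etale_square (h := g) (h' := f ≫ g) f (𝟙 S) (by simp) x).symm
  · haveI : IsIso (pullback.diagonal f) := inferInstance
    haveI : FormallyUnramified f := inferInstance
    have hE : ∀ x : X, ∃ U : X.Opens, x ∈ U ∧ Etale (U.ι ≫ f) := fun x =>
      (S2767.result g (f ≫ g) f rfl x (Flat.stalkMap (f ≫ g) x) (hnorm (f x))).2
        ⟨⟨⊤, trivial, inferInstance⟩, hdim x⟩
    choose U hxU hU using hE
    haveI : Etale f := IsZariskiLocalAtSource.of_iSup_eq_top U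
      (TopologicalSpace.Opens.ext (Set.eq_univ_of_forall fun x => by simpa using ⟨x, hxU x⟩)) hU
    exact FEtLib.isOpenImmersion_of_etale_universallyInjective f

end Groth.Agent.S5047
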