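import Groth.Statements.S5049
import Groth.Agent.FlatLocal.MaxPoints

set_option autoImplicit false
open CategoryTheory AlgebraicGeometry
universe u
open Unram

namespace Groth.Agent.S5049
open CategoryTheory AlgebraicGeometry

/-- Let f : X ⟶ Y be flat, locally of finite type and locally quasi-finite. If the irreducible
components of Y form a locally finite family of subsets, then so do the irreducible components of X. -/
theorem result {X Y : Scheme.{u}} (f : X ⟶ Y)
    [Flat f] [LocallyOfFiniteType f] [LocallyQuasiFinite f]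
    (hY : LocallyFinite (fun Z : ↥(irreducibleComponents ↥Y) => (Z : Set ↥Y))) :
    LocallyFinite (fun Z : ↥(irreducibleComponents ↥X) => (Z : Set ↥X)) := by
  intro x
  obtain ⟨t, ht, hfin⟩ := hY (f x)
  obtain ⟨t', htt, ht'o, hxt⟩ := mem_nhds_iff.mp ht
  obtain ⟨_, ⟨W, hW, rfl⟩, hxW, hWt⟩ := Y.isBasis_affineOpens.exists_subset_of_mem_open hxt ht'o
  obtain ⟨_, ⟨V, hV, rfl⟩, hxV, hVW : V ≤ f ⁻¹ᵁ W⟩ :=
    X.isBasis_affineOpens.exists_subset_of_mem_open hxW (f ⁻¹ᵁ W).isOpen
  refine ⟨V, V.isOpen.mem_nhds hxV, ?_⟩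
  let g := f.resLE W V hVW
  haveI : IsAffine (W : Scheme) := hW
  haveI : IsAffine (V : Scheme) := hV
  haveI : LocallyQuasiFinite g := inferInstance
  haveI : QuasiCompact g := inferInstance
  let M : Set W := {y : W | Groth.Agent.FlatLocal.IsMaxPt (y : Y)}
  have hM : M.Finite := by
    refine Set.Finite.of_finite_image (f := fun y : W => closure ({(y : Y)} : Set Y))
      ((hfin.image Subtype.val).subset ?_) ?_
    · rintro _ ⟨y, hy, rfl⟩
      exact ⟨⟨_, (Groth.Agent.FlatLocal.isMaxPt_iff _).mp hy⟩,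
        ⟨Scheme.Opens.ι W y, subset_closure rfl, htt (hWt y.2)⟩, rfl⟩
    · intro a _ b _ e
      exact Subtype.ext (isGenericPoint_closure.eq ((isGenericPoint_def).mpr e.symm))
  have hN : (g ⁻¹' M).Finite := g.finite_preimage hM
  refine Set.Finite.of_finite_image (f := fun Z : ↥(irreducibleComponents ↥X) => (Z : Set X))
    ((hN.image fun v : V => closure ({(v : X)} : Set X)).subset ?_) Subtype.val_injective.injOn
  rintro _ ⟨⟨Z, hZ⟩, ⟨z, hzZ, hzV⟩, rfl⟩
  have hgen : IsGenericPoint hZ.1.genericPoint Z :=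
    hZ.1.isGenericPoint_genericPoint (isClosed_of_mem_irreducibleComponents _ hZ)
  have hη : hZ.1.genericPoint ∈ V := (hgen.mem_open_set_iff V.isOpen).mpr ⟨z, hzZ, hzV⟩
  refine ⟨⟨_, hη⟩, ?_, hgen.def⟩
  show Groth.Agent.FlatLocal.IsMaxPt (Scheme.Opens.ι W (g ⟨_, hη⟩))
  rw [show Scheme.Opens.ι W (g ⟨_, hη⟩) = f hZ.1.genericPoint from congr($(f.resLE_comp_ι hVW) (⟨_, hη⟩ : V))]
  refine Groth.Agent.FlatLocal.isMaxPt_of_flat f ((Groth.Agent.FlatLocal.isMaxPt_iff _).mpr ?_)
  rw [hgen.def]; exact hZ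

end Groth.Agent.S5049
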