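import Groth.Statements.S5050
import Mathlib.RingTheory.Filtration
-- import your own Groth.Agent.* helpers here

set_option autoImplicit false
universe u v
open CInt

namespace Groth.Agent.S5050

/-- Let A be a Noetherian ring, N a finitely generated A-module, E and F submodules of N and Q an ideal
of A. For every natural number k there is h > 0 with E ⊓ (F ⊔ Q^h N) ≤ (E ⊓ F) ⊔ Q^k N. -/
theorem result {A : Type u} [CommRing A] [IsNoetherianRing A] {N : Type v} [AddCommGroup N]
    [Module A N] [Module.Finite A N] (E F : Submodule A N) (Q : Ideal A) (k : ℕ) :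
    ∃ h : ℕ, 0 < h ∧ E ⊓ (F ⊔ Q ^ h • (⊤ : Submodule A N)) ≤ (E ⊓ F) ⊔ Q ^ k • (⊤ : Submodule A N) := by
  obtain ⟨c, hc⟩ := Q.exists_pow_inf_eq_pow_smul (E.map F.mkQ)
  refine ⟨k + c + 1, Nat.succ_pos _, ?_⟩
  intro e he
  obtain ⟨heE, heF⟩ := Submodule.mem_inf.1 he
  obtain ⟨f, hf, q, hq, rfl⟩ := Submodule.mem_sup.1 heF
  have h1 : F.mkQ (f + q) ∈ Q ^ (k + c + 1) • (⊤ : Submodule A (N ⧸ F)) ⊓ E.map F.mkQ := by
    refine ⟨?_, Submodule.mem_map_of_mem heE⟩
    rw [map_add, show F.mkQ f = 0 from (Submodule.Quotient.mk_eq_zero F).2 hf, zero_add]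
    have := Submodule.mem_map_of_mem (f := F.mkQ) hq
    rw [Submodule.map_smul''] at this
    exact Submodule.smul_mono le_rfl le_top this
  rw [hc _ (by omega), show k + c + 1 - c = k + 1 by omega] at h1
  have h2 : F.mkQ (f + q) ∈ (Q ^ k • E).map F.mkQ := by
    rw [Submodule.map_smul'']
    exact Submodule.smul_mono (Ideal.pow_le_pow_right (by omega)) inf_le_right h1
  obtain ⟨w, hw, hwq⟩ := h2
  refine Submodule.mem_sup.2 ⟨f + q - w, ⟨E.sub_mem heE (Submodule.smul_le_right hw), ?_⟩, w,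
    Submodule.smul_mono le_rfl le_top hw, sub_add_cancel _ _⟩
  exact (Submodule.Quotient.eq F).1 hwq.symm

end Groth.Agent.S5050
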