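import Groth.Statements.S5052
import Groth.Agent.EtCard.Card
-- import your own Groth.Agent.* helpers here

set_option autoImplicit false
open CategoryTheory AlgebraicGeometry
universe u
open Unram

set_option backward.isDefEq.respectTransparency.types false
set_option backward.isDefEq.respectTransparency false

namespace Groth.Agent.S5052

/-- Let f : X ⟶ Y be étale, separated and of finite type, and y a point of Y. The number of points of
the geometric fibre is constant on a neighbourhood of y if and only if the restriction of f over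
some open neighbourhood of y is a finite morphism. -/
theorem result {X Y : Scheme.{u}} (f : X ⟶ Y) [Etale f] [IsSeparated f]
    [LocallyOfFiniteType f] [QuasiCompact f] (y : Y) :
    (∃ U : Y.Opens, y ∈ U ∧ ∀ y' : Y, y' ∈ U → ENat.card ↥(MoreMor.geomFiber f y') = ENat.card ↥(MoreMor.geomFiber f y)) ↔
      ∃ U : Y.Opens, y ∈ U ∧ IsFinite (f ∣_ U) := by
  constructor
  · rintro ⟨U, hy, hU⟩
    obtain ⟨n, hn⟩ := ENat.ne_top_iff_exists.mp (EtCard.N_ne_top f y)
    refine ⟨U, hy, EtCard.isFinite_of_N_eq n (f ∣_ U) fun u => ?_⟩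
    rw [EtCard.N_restrict, hn]
    exact hU (U.ι u) u.2
  · rintro ⟨U, hy, hU⟩
    haveI := hU
    let u₀ : U.toScheme := ⟨y, hy⟩
    obtain ⟨W, hW, hu₀, hc⟩ := (IsLocallyConstant.iff_exists_open (EtCard.N (f ∣_ U))).mp
      (EtCard.isLocallyConstant_N (f ∣_ U)) u₀
    refine ⟨⟨U.ι '' W, U.ι.isOpenEmbedding.isOpenMap _ hW⟩, ⟨u₀, hu₀, rfl⟩, ?_⟩
    rintro _ ⟨u, hu, rfl⟩
    have := hc u hu
    rw [EtCard.N_restrict, EtCard.N_restrict] at this
    exact this

end Groth.Agent.S5052
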