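import Groth.Statements.S5053
import Groth.Agent.EtCard.Card
-- import your own Groth.Agent.* helpers here

set_option autoImplicit false
open CategoryTheory AlgebraicGeometry
universe u
open Unram

set_option backward.isDefEq.respectTransparency.types false
set_option backward.isDefEq.respectTransparency false

namespace Groth.Agent.S5053

/-- Let Y be a connected scheme and f : X ⟶ Y étale, separated and of finite type. Then f is finite if
and only if all geometric fibres of f have the same number of points. -/
theorem result {X Y : Scheme.{u}} [ConnectedSpace ↥Y] (f : X ⟶ Y)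
    [Etale f] [IsSeparated f] [LocallyOfFiniteType f] [QuasiCompact f] :
    IsFinite f ↔ ∃ n : ℕ∞, ∀ y : Y, ENat.card ↥(MoreMor.geomFiber f y) = n := by
  constructor
  · intro _
    obtain ⟨y₀⟩ := (inferInstance : Nonempty Y)
    exact ⟨EtCard.N f y₀, fun y => (EtCard.isLocallyConstant_N f).apply_eq_of_preconnectedSpace y y₀⟩
  · rintro ⟨n, hn⟩
    obtain ⟨y₀⟩ := (inferInstance : Nonempty Y)
    obtain ⟨m, hm⟩ := ENat.ne_top_iff_exists.mp (EtCard.N_ne_top f y₀)
    exact EtCard.isFinite_of_N_eq m f fun y => (hn y).trans ((hn y₀).symm.trans hm.symm)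

end Groth.Agent.S5053
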