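import Groth.Statements.S5057
import Mathlib.AlgebraicGeometry.IdealSheaf.Functorial

set_option autoImplicit false
open CategoryTheory CategoryTheory.Limits AlgebraicGeometry
universe u
open Hensel

namespace Groth.Agent.S5057

/-- Let i : S₀ ⟶ S be a closed immersion such that for every finite morphism g : S' ⟶ S every
open-closed subset of S' ×_S S₀ is the inverse image under the first projection of exactly one
open-closed subset of S'. Then for every finite morphism g : S' ⟶ S, every open subset of S'
containing the image of S' ×_S S₀ is all of S'. -/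
theorem result {S S₀ : Scheme.{u}} (i : S₀ ⟶ S) [IsClosedImmersion i]
    (ha : ∀ (S' : Scheme.{u}) (g : S' ⟶ S), IsFinite g →
      ∀ V : Set ↥(pullback g i), IsClopen V → ∃! U : Set ↥S', IsClopen U ∧ (pullback.fst g i).base ⁻¹' U = V)
    {S' : Scheme.{u}} (g : S' ⟶ S) [IsFinite g] (U : Set ↥S') (hU : IsOpen U)
    (hU₀ : Set.range (pullback.fst g i).base ⊆ U) : U = Set.univ := by
  by_contra hne
  let Z : TopologicalSpace.Closeds S' := ⟨Uᶜ, hU.isClosed_compl⟩
  let I := Scheme.IdealSheafData.vanishingIdeal Z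
  let j := I.subschemeι
  have hrange : Set.range j.base = Uᶜ := by
    rw [Scheme.IdealSheafData.range_subschemeι]
    exact Scheme.IdealSheafData.coe_support_vanishingIdeal Z
  haveI : IsEmpty ↥(pullback (j ≫ g) i) := by
    refine ⟨fun p => ?_⟩
    let q : pullback (j ≫ g) i ⟶ pullback g i :=
      pullback.lift (pullback.fst (j ≫ g) i ≫ j) (pullback.snd (j ≫ g) i)
        (by rw [Category.assoc]; exact pullback.condition)
    have h1 : j.base ((pullback.fst (j ≫ g) i).base p) ∈ U := by
      refine hU₀ ⟨q.base p, ?_⟩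
      rw [← Scheme.Hom.comp_apply, pullback.lift_fst]
      rfl
    have h2 : j.base ((pullback.fst (j ≫ g) i).base p) ∈ Uᶜ := hrange ▸ Set.mem_range_self _
    exact h2 h1
  obtain ⟨W, -, huniq⟩ := ha I.subscheme (j ≫ g) inferInstance ∅ isClopen_empty
  have h1 := huniq ∅ ⟨isClopen_empty, Set.preimage_empty⟩
  have h2 := huniq Set.univ ⟨isClopen_univ, Set.eq_empty_of_isEmpty _⟩
  obtain ⟨x, hx⟩ := (Set.ne_univ_iff_exists_notMem U).mp hne
  obtain ⟨y, -⟩ : x ∈ Set.range j.base := hrange ▸ hx
  have h3 : y ∈ (Set.univ : Set ↥I.subscheme) := Set.mem_univ y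
  rw [h2, ← h1] at h3
  exact h3

end Groth.Agent.S5057
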