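import Groth.Statements.S5058
import Groth.Agent.H8Lim.NoetherianModel
import Groth.Agent.EGA43.FlatModelDescent
import Groth.Agent.HenselLib.LocalHens
import Groth.Agent.HenselLib.HullProps

set_option autoImplicit false
open CategoryTheory CategoryTheory.Limits AlgebraicGeometry
universe u
open Hensel

namespace Groth.Agent.S5058

/-- Let A be a henselian local ring and f : X ⟶ Spec A a morphism of finite presentation. Then there
exist a Noetherian henselian local ring A₀, a local ring homomorphism φ : A₀ → A, a morphism of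
finite type f₀ : X₀ ⟶ Spec A₀ and a cartesian square exhibiting X as the base change of X₀ along
Spec φ. -/
theorem result (A : Type u) [CommRing A] [HenselianLocalRing A]
    {X : Scheme.{u}} (f : X ⟶ Spec (CommRingCat.of A)) [LocallyOfFinitePresentation f] [QuasiCompact f] [QuasiSeparated f] :
    ∃ (A₀ : Type u) (_ : CommRing A₀) (_ : HenselianLocalRing A₀) (_ : IsNoetherianRing A₀) (φ : A₀ →+* A) (_ : IsLocalHom φ)
      (X₀ : Scheme.{u}) (f₀ : X₀ ⟶ Spec (CommRingCat.of A₀)) (g : X ⟶ X₀),
      LocallyOfFiniteType f₀ ∧ QuasiCompact f₀ ∧ IsPullback g f f₀ (Spec.map (CommRingCat.ofHom φ)) := by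
  obtain ⟨k, Z, h, q, hlfp, hqc, -, sq⟩ := Groth.Agent.H8Lim.exists_stage_spec f
  let R₀ := Groth.Agent.H8Lim.fgSub A k.unop
  haveI : IsNoetherianRing R₀ :=
    haveI : Algebra.FiniteType ℤ R₀ := (Subalgebra.fg_iff_finiteType _).1 (Subalgebra.fg_adjoin_finset _)
    Algebra.FiniteType.isNoetherianRing ℤ R₀
  let p : Ideal R₀ := (IsLocalRing.maximalIdeal A).comap R₀.val.toRingHom
  let B := Localization.AtPrime p
  haveI : IsNoetherianRing B := IsLocalization.isNoetherianRing p.primeCompl B inferInstance
  have hu : ∀ y : p.primeCompl, IsUnit (R₀.val.toRingHom y) := fun y =>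
    IsLocalRing.notMem_maximalIdeal.1 y.2
  let l : B →+* A := IsLocalization.lift hu
  haveI hl : IsLocalHom l := ⟨fun z hz => by
    obtain ⟨⟨a, s⟩, h'⟩ := IsLocalization.surj p.primeCompl z
    have ha : a ∈ p.primeCompl := fun hap => by
      refine (IsLocalRing.mem_maximalIdeal _).1 hap ?_
      have := congrArg l h'
      rw [map_mul, IsLocalization.lift_eq, IsLocalization.lift_eq] at this
      rw [← this]
      exact hz.mul (hu s)
    refine isUnit_of_mul_isUnit_left (y := algebraMap R₀ B s) ?_
    rw [h']; exact IsLocalization.map_units B (⟨a, ha⟩ : p.primeCompl)⟩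
  obtain ⟨φ, hφ, -⟩ := (Groth.Agent.HenselLib.isHenselization_localH (R := B)).universal A l hl
  let A₀ := Groth.Agent.HenselLib.LocalH B
  haveI : HenselianLocalRing A₀ := (Groth.Agent.HenselLib.isHenselization_localH (R := B)).henselian
  haveI : IsLocalHom φ := by
    refine ((IsLocalRing.local_hom_TFAE φ).out 0 2).2 ?_
    rw [← Groth.Agent.HenselLib.map_maximalIdeal_localH (R := B), Ideal.map_map, hφ]
    exact ((IsLocalRing.local_hom_TFAE l).out 0 2).1 hl
  let ρ : R₀ →+* A₀ := (algebraMap B A₀).comp (algebraMap R₀ B)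
  have hρ : φ.comp ρ = R₀.val.toRingHom := by
    rw [← RingHom.comp_assoc, hφ]; exact IsLocalization.lift_comp hu
  let c : Spec (CommRingCat.of A₀) ⟶ (Groth.Agent.H8Lim.fgSpecDiagram A).obj k := Spec.map (CommRingCat.ofHom ρ)
  have hc : Spec.map (CommRingCat.ofHom φ) ≫ c = (Groth.Agent.H8Lim.fgSpecCone A).π.app k := by
    show Spec.map (CommRingCat.ofHom φ) ≫ Spec.map (CommRingCat.ofHom ρ) = Spec.map (CommRingCat.ofHom R₀.val.toRingHom)
    rw [← Spec.map_comp, ← CommRingCat.ofHom_comp, hρ]
  have sq0 : IsPullback (pullback.fst h c) (pullback.snd h c) h c := IsPullback.of_hasPullback h c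
  let g : X ⟶ pullback h c := pullback.lift q (f ≫ Spec.map (CommRingCat.ofHom φ)) (by
    rw [Category.assoc, hc]; exact sq.w)
  refine ⟨A₀, inferInstance, inferInstance, Groth.Agent.HenselLib.isNoetherianRing_localH (R := B), φ, inferInstance,
    pullback h c, pullback.snd h c, g, ?_, MorphismProperty.pullback_snd h c hqc, ?_⟩
  · haveI : LocallyOfFiniteType h := inferInstance
    infer_instance
  · refine IsPullback.of_right ?_ (pullback.lift_snd _ _ _) sq0
    rw [pullback.lift_fst, hc]
    exact sq

end Groth.Agent.S5058
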