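import Groth.Statements.S5061
import Groth.Agent.CommAlg6.InsepReduced
import Groth.Agent.CommAlg6.CTensorBasic

set_option autoImplicit false
open scoped TensorProduct
universe u
open EGA418

namespace Groth.Agent.S5061

/-- a) iff c): let k be a field of characteristic p > 0, P a perfect closure of k (a perfect field
purely inseparable over k) and K an extension field of k. Then the ring K ⊗_k P is Artinian if and
only if there exists a finite purely inseparable extension k' of k such that (k' ⊗_k K) modulo its
nilradical is geometrically reduced over k'. -/
theorem result (p : ℕ) [Fact p.Prime]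
    (k K : Type u) [Field k] [CharP k p] [Field K] [Algebra k K]
    (P : Type u) [Field P] [Algebra k P] [PerfectRing P p] [IsPRadical (algebraMap k P) p] :
    IsArtinianRing (K ⊗[k] P) ↔
      ∃ (k' : Type u) (_ : Field k') (_ : Algebra k k'), Module.Finite k k' ∧ IsPurelyInseparable k k' ∧
        Algebra.IsGeometricallyReduced k' ((k' ⊗[k] K) ⧸ nilradical (k' ⊗[k] K)) := by
  haveI : ExpChar k p := ExpChar.prime Fact.out
  haveI : CharP P p := charP_of_injective_algebraMap (algebraMap k P).injective p
  haveI : ExpChar P p := ExpChar.prime Fact.out
  haveI : PerfectField P := PerfectRing.toPerfectField P p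
  haveI : IsPurelyInseparable k P := IsPRadical.isPurelyInseparable k P p
  constructor
  · intro h
    haveI : IsNoetherianRing (P ⊗[k] K) :=
      isNoetherianRing_of_ringEquiv (K ⊗[k] P) (Algebra.TensorProduct.comm k K P).toRingEquiv
    exact CommAlg6.exists_finite_geomReduced (P := P) (IsNoetherian.noetherian _)
  · rintro ⟨k', _, _, _, _, hred⟩
    haveI : ExpChar k' p := expChar_of_injective_algebraMap (algebraMap k k').injective p
    haveI : IsPRadical (algebraMap k k') p := IsPurelyInseparable.isPRadical k k' p
    let j : k' →+* P := PerfectRing.lift (algebraMap k k') (algebraMap k P) p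
    letI : Algebra k' P := j.toAlgebra
    haveI : IsScalarTower k k' P :=
      .of_algebraMap_eq fun c => (PerfectRing.lift_comp_apply (algebraMap k k') (algebraMap k P) p c).symm
    haveI : Algebra.IsAlgebraic k' P := Algebra.IsAlgebraic.tower_top (K := k) k'
    haveI := CommAlg6.isArtinianRing_of_fg_nilradical (k := k) (k' := P) (K := K)
      (CommAlg6.fg_nilradical_of_geomReduced (P := P) (K := K) k')
    exact (Algebra.TensorProduct.comm k P K).toRingEquiv.isArtinianRing

end Groth.Agent.S5061
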