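import Groth.Statements.S5062
import Groth.Agent.HenselLib.StrictSections
import Mathlib.AlgebraicGeometry.Morphisms.Etale
import Mathlib.AlgebraicGeometry.AffineScheme

set_option autoImplicit false
open CategoryTheory AlgebraicGeometry
universe u
open Hensel

namespace Groth.Agent.S5062

/-- a) iff c): a local ring A is henselian with separably closed residue field if and only if, for every
étale morphism f : X ⟶ Spec A and every point x of X lying over the closed point s, there is a
section u of f with u s = x. -/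
theorem result (A : Type u) [CommRing A] [IsLocalRing A] :
    (HenselianLocalRing A ∧ IsSepClosed (IsLocalRing.ResidueField A)) ↔
      ∀ (X : Scheme.{u}) (f : X ⟶ Spec (CommRingCat.of A)), Etale f →
        ∀ x : X, f.base x = IsLocalRing.closedPoint A →
          ∃ u : Spec (CommRingCat.of A) ⟶ X, u ≫ f = 𝟙 _ ∧ u.base (IsLocalRing.closedPoint A) = x := by
  constructor
  · rintro ⟨_, _⟩ X f hf x hx
    obtain ⟨U, hU, hxU, -⟩ := exists_isAffineOpen_mem_and_subset (x := x) (U := ⊤) trivial
    obtain ⟨φ, hφ⟩ := Spec.map_surjective (hU.fromSpec ≫ f)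
    have het : φ.hom.Etale := (HasRingHomProperty.Spec_iff (P := @Etale)).mp (hφ ▸ inferInstance)
    algebraize [φ.hom]
    have hqx : (Spec.map φ) (hU.primeIdealOf ⟨x, hxU⟩) = IsLocalRing.closedPoint A := by
      rw [hφ, Scheme.Hom.comp_apply, hU.fromSpec_primeIdealOf ⟨x, hxU⟩]
      exact hx
    obtain ⟨τ, hτ⟩ := HenselLib.StrictSections.exists_algHom_of_prime A Γ(X, U)
      (hU.primeIdealOf ⟨x, hxU⟩).asIdeal (congrArg PrimeSpectrum.asIdeal hqx)
    refine ⟨Spec.map (CommRingCat.ofHom τ.toRingHom) ≫ hU.fromSpec, ?_, ?_⟩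
    · rw [Category.assoc, ← hφ, ← Spec.map_comp,
        show φ ≫ CommRingCat.ofHom τ.toRingHom = 𝟙 (CommRingCat.of A) from
          CommRingCat.hom_ext (RingHom.ext τ.commutes), Spec.map_id]
    · have hp : Spec.map (CommRingCat.ofHom τ.toRingHom) (IsLocalRing.closedPoint A) =
          hU.primeIdealOf ⟨x, hxU⟩ := PrimeSpectrum.ext hτ
      exact (Scheme.Hom.comp_apply _ _ _).trans (hp ▸ hU.fromSpec_primeIdealOf ⟨x, hxU⟩)
  · intro h
    refine HenselLib.StrictSections.henselian_and_sepClosed_of_sections A fun E _ _ _ q _ hq => ?_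
    have hf : Etale (Spec.map (CommRingCat.ofHom (algebraMap A E))) :=
      (HasRingHomProperty.Spec_iff (P := @Etale)).mpr (RingHom.etale_algebraMap.mpr inferInstance)
    obtain ⟨u, hu, hux⟩ := h (Spec (CommRingCat.of E)) _ hf ⟨q, inferInstance⟩ (PrimeSpectrum.ext hq)
    obtain ⟨ψ, rfl⟩ := Spec.map_surjective u
    rw [← Spec.map_comp, ← Spec.map_id] at hu
    have hψ := Spec.map_injective hu
    exact ⟨{ ψ.hom with commutes' := fun r => congr($(congrArg CommRingCat.Hom.hom hψ) r) },
      congrArg PrimeSpectrum.asIdeal hux⟩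

end Groth.Agent.S5062
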