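import Groth.Statements.S5063
import Groth.Agent.FlatLocal.Descent
import Groth.Agent.FEtLib.EqLocus
import Mathlib.RingTheory.Unramified.LocalStructure
import Mathlib.AlgebraicGeometry.Morphisms.Etale
import Mathlib.AlgebraicGeometry.Limits

set_option autoImplicit false
open CategoryTheory CategoryTheory.Limits AlgebraicGeometry
universe u
open Unram

namespace Groth.Agent.S5063
open CategoryTheory CategoryTheory.Limits AlgebraicGeometry

/-- Let f : X ⟶ Y be locally of finite presentation. If f is unramified then there are étale morphisms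
g_a : Y'_a ⟶ Y and opens U_a of the fibre products X ×_Y Y'_a whose images under the first
projections cover X, such that each U_a ⟶ Y'_a (inclusion followed by the second projection) is a
closed immersion. Conversely, the existence of such a family with the g_a only assumed flat implies
that f is unramified. -/
theorem result {X Y : Scheme.{u}} (f : X ⟶ Y) [LocallyOfFinitePresentation f] :
    (FormallyUnramified f → ∃ (ι : Type u) (Y' : ι → Scheme.{u}) (g : ∀ a, Y' a ⟶ Y) (U : ∀ a, (pullback f (g a)).Opens),
      (∀ a, Etale (g a)) ∧ (∀ x : X, ∃ a, x ∈ (pullback.fst f (g a)).base '' (U a : Set ↥(pullback f (g a)))) ∧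
        ∀ a, IsClosedImmersion ((U a).ι ≫ pullback.snd f (g a))) ∧
    ((∃ (ι : Type u) (Y' : ι → Scheme.{u}) (g : ∀ a, Y' a ⟶ Y) (U : ∀ a, (pullback f (g a)).Opens),
      (∀ a, Flat (g a)) ∧ (∀ x : X, ∃ a, x ∈ (pullback.fst f (g a)).base '' (U a : Set ↥(pullback f (g a)))) ∧
        ∀ a, IsClosedImmersion ((U a).ι ≫ pullback.snd f (g a))) → FormallyUnramified f) := by
  constructor
  · intro hf
    have main : ∀ x : X, ∃ (Z Y' : Scheme.{u}) (j : Z ⟶ X) (i : Z ⟶ Y') (g : Y' ⟶ Y),
        IsOpenImmersion j ∧ IsClosedImmersion i ∧ Etale g ∧ j ≫ f = i ≫ g ∧ x ∈ Set.range j := by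
      intro x
      obtain ⟨_, ⟨W, hW, rfl⟩, hxW, -⟩ :=
        Y.isBasis_affineOpens.exists_subset_of_mem_open (Set.mem_univ (f x)) isOpen_univ
      obtain ⟨_, ⟨V, hV, rfl⟩, hxV, hVW : V ≤ f ⁻¹ᵁ W⟩ :=
        X.isBasis_affineOpens.exists_subset_of_mem_open hxW (f ⁻¹ᵁ W).isOpen
      have h1 : (f.appLE W V hVW).hom.FiniteType :=
        HasRingHomProperty.appLE @LocallyOfFiniteType f inferInstance ⟨W, hW⟩ ⟨V, hV⟩ hVW
      have h2 := f.formallyUnramified_appLE hW hV hVW
      algebraize [(f.appLE W V hVW).hom]
      haveI : Algebra.FormallyUnramified Γ(Y, W) Γ(X, V) := h2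
      obtain ⟨s, hs, P, φ, hφ⟩ := Algebra.IsUnramifiedAt.exists_hasStandardEtaleSurjectionOn
        (R := Γ(Y, W)) (hV.primeIdealOf ⟨x, hxV⟩).asIdeal
      refine ⟨Spec (CommRingCat.of (Localization.Away s)), Spec (CommRingCat.of P.Ring),
        Spec.map (CommRingCat.ofHom (algebraMap Γ(X, V) (Localization.Away s))) ≫ hV.fromSpec,
        Spec.map (CommRingCat.ofHom φ.toRingHom),
        Spec.map (CommRingCat.ofHom (algebraMap Γ(Y, W) P.Ring)) ≫ hW.fromSpec,
        ?_, IsClosedImmersion.spec_of_surjective _ hφ, ?_, ?_, ?_⟩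
      · haveI : IsOpenImmersion (Spec.map (CommRingCat.ofHom (algebraMap Γ(X, V) (Localization.Away s)))) :=
          IsOpenImmersion.of_isLocalization s
        infer_instance
      · haveI : Etale (Spec.map (CommRingCat.ofHom (algebraMap Γ(Y, W) P.Ring))) :=
          HasRingHomProperty.Spec_iff.mpr (RingHom.etale_algebraMap.mpr inferInstance)
        infer_instance
      · rw [Category.assoc, ← IsAffineOpen.SpecMap_appLE_fromSpec f hW hV hVW, ← Spec.map_comp_assoc,
          ← Spec.map_comp_assoc]
        congr 2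
        ext1
        exact (IsScalarTower.algebraMap_eq Γ(Y, W) Γ(X, V) (Localization.Away s)).symm.trans φ.comp_algebraMap.symm
      · rw [Scheme.Hom.comp_base, TopCat.coe_comp, Set.range_comp]
        refine ⟨hV.primeIdealOf ⟨x, hxV⟩, ?_, hV.fromSpec_primeIdealOf ⟨x, hxV⟩⟩
        show _ ∈ Set.range (PrimeSpectrum.comap (algebraMap Γ(X, V) (Localization.Away s)))
        rw [PrimeSpectrum.localization_away_comap_range (Localization.Away s) s]
        exact hs
    choose Z Y' j i g hj hi hg hji hx using main
    let e : ∀ x, Z x ⟶ pullback f (g x) := fun x => pullback.lift (j x) (i x) (hji x)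
    haveI he : ∀ x, IsOpenImmersion (e x) := fun x => by
      have := hj x
      have := hg x
      haveI : Etale (pullback.fst f (g x)) := MorphismProperty.pullback_fst _ _ (hg x)
      haveI h : Etale (e x ≫ pullback.fst f (g x)) := by
        rw [pullback.lift_fst]; infer_instance
      haveI := Etale.of_comp (e x) (pullback.fst f (g x))
      haveI : Mono (e x ≫ pullback.fst f (g x)) := by rw [pullback.lift_fst]; infer_instance
      haveI := mono_of_mono (e x) (pullback.fst f (g x))
      exact Groth.Agent.FEtLib.isOpenImmersion_of_etale_universallyInjective (e x)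
    refine ⟨X, Y', g, fun x => (e x).opensRange, hg, fun x => ?_, fun x => ?_⟩
    · obtain ⟨z, hz⟩ := hx x
      refine ⟨x, e x z, ⟨z, rfl⟩, ?_⟩
      show (e x ≫ pullback.fst f (g x)) z = x
      rw [pullback.lift_fst, hz]
    · have h : (e x).opensRange.ι ≫ pullback.snd f (g x) = (e x).isoOpensRange.inv ≫ i x := by
        rw [← cancel_epi (e x).isoOpensRange.hom, ← Category.assoc,
          Scheme.Hom.isoOpensRange_hom_ι, pullback.lift_snd, Iso.hom_inv_id_assoc]
      have := hi x
      rw [h]; infer_instance
  · rintro ⟨ι, Y', g, U, hg, hU, hI⟩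
    let q : ∀ a, ((U a : Scheme)) ⟶ X := fun a => (U a).ι ≫ pullback.fst f (g a)
    haveI hq : ∀ a, Flat (q a) := fun a => by
      have : Flat (pullback.fst f (g a)) := MorphismProperty.pullback_fst _ _ (hg a)
      infer_instance
    haveI : FormallyUnramified f := by
      refine FormallyUnramified.of_hom_ext f fun R S φ hφ hker g₁ g₂ he hgf => ?_
      let W : ι → Scheme.{u} := fun a => pullback g₁ (q a)
      let A : ∀ a, W a ⟶ Spec R := fun a => pullback.fst g₁ (q a)
      haveI : ∀ a, Flat (A a) := fun a => MorphismProperty.pullback_fst _ _ (hq a)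
      haveI : Flat (Sigma.desc A) := IsZariskiLocalAtSource.sigmaDesc inferInstance
      haveI : Surjective (Sigma.desc A) := ⟨fun r => by
        obtain ⟨a, p, hp, hx⟩ := hU (g₁ r)
        obtain ⟨w, hw, -⟩ := Scheme.Pullback.exists_preimage_pullback (f := g₁) (g := q a) r ⟨p, hp⟩ hx.symm
        refine ⟨Sigma.ι W a w, ?_⟩
        show (Sigma.ι W a ≫ Sigma.desc A) w = r
        rw [Sigma.ι_desc]; exact hw⟩
      haveI := Flat.epi_of_flat_of_surjective (Sigma.desc A)
      rw [← cancel_epi (Sigma.desc A)]
      refine Sigma.hom_ext _ _ fun a => ?_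
      simp only [Sigma.ι_desc_assoc]
      let b : W a ⟶ (U a : Scheme) := pullback.snd g₁ (q a)
      have hab : A a ≫ g₁ = b ≫ (U a).ι ≫ pullback.fst f (g a) := pullback.condition
      let c : W a ⟶ pullback f (g a) := pullback.lift (A a ≫ g₂) (b ≫ (U a).ι ≫ pullback.snd f (g a))
        (by rw [Category.assoc, ← hgf, reassoc_of% hab, pullback.condition]; simp only [Category.assoc])
      let i : pullback (A a) (Spec.map φ) ⟶ W a := pullback.fst _ _
      haveI : IsClosedImmersion (Spec.map φ) := IsClosedImmersion.spec_of_surjective φ hφ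
      haveI : Surjective (Spec.map φ) := by
        refine ⟨fun x => ?_⟩
        have : RingHom.ker φ.hom ≤ x.asIdeal := fun z hz => x.isPrime.mem_of_pow_mem 2 (by
          have : z * z ∈ RingHom.ker φ.hom ^ 2 := by rw [pow_two]; exact Ideal.mul_mem_mul hz hz
          rw [hker, Ideal.mem_bot] at this; rw [pow_two, this]; exact zero_mem _)
        have hx : x ∈ PrimeSpectrum.zeroLocus (RingHom.ker φ.hom : Set R) := this
        rwa [← range_comap_of_surjective _ φ.hom hφ] at hx
      have hic : i ≫ c = i ≫ b ≫ (U a).ι := by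
        apply pullback.hom_ext <;> simp only [Category.assoc, c, pullback.lift_fst, pullback.lift_snd]
        rw [← hab]
        simp only [i, pullback.condition_assoc]
        rw [he]
      have hc : Set.range c ⊆ Set.range (U a).ι := by
        rintro _ ⟨w, rfl⟩
        obtain ⟨z, rfl⟩ := i.surjective w
        refine ⟨b (i z), ?_⟩
        exact (congr($hic z)).symm
      have hc' : IsOpenImmersion.lift (U a).ι c hc = b := by
        have := hI a
        rw [← cancel_mono ((U a).ι ≫ pullback.snd f (g a)), IsOpenImmersion.lift_fac_assoc]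
        exact pullback.lift_snd _ _ _
      rw [hab, ← hc', IsOpenImmersion.lift_fac_assoc]
      exact pullback.lift_fst _ _ _
    infer_instance

end Groth.Agent.S5063
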