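import Groth.Statements.S5064
import Groth.Agent.FlatLocal.Descent
import Mathlib.AlgebraicGeometry.Morphisms.Etale
import Mathlib.AlgebraicGeometry.Limits

set_option autoImplicit false
open CategoryTheory CategoryTheory.Limits AlgebraicGeometry
universe u
open Unram

namespace Groth.Agent.S5064
open CategoryTheory CategoryTheory.Limits AlgebraicGeometry

/-- Let f : X ⟶ Y be locally of finite presentation. If f is étale then there are étale morphisms g_a :
Y'_a ⟶ Y and opens U_a of the fibre products X ×_Y Y'_a whose images under the first projections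
cover X, such that each U_a ⟶ Y'_a (inclusion followed by the second projection) is an open
immersion. Conversely, the existence of such a family with the g_a only assumed flat implies that f
is étale. -/
theorem result {X Y : Scheme.{u}} (f : X ⟶ Y) [LocallyOfFinitePresentation f] :
    (Etale f → ∃ (ι : Type u) (Y' : ι → Scheme.{u}) (g : ∀ a, Y' a ⟶ Y) (U : ∀ a, (pullback f (g a)).Opens),
      (∀ a, Etale (g a)) ∧ (∀ x : X, ∃ a, x ∈ (pullback.fst f (g a)).base '' (U a : Set ↥(pullback f (g a)))) ∧
        ∀ a, IsOpenImmersion ((U a).ι ≫ pullback.snd f (g a))) ∧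
    ((∃ (ι : Type u) (Y' : ι → Scheme.{u}) (g : ∀ a, Y' a ⟶ Y) (U : ∀ a, (pullback f (g a)).Opens),
      (∀ a, Flat (g a)) ∧ (∀ x : X, ∃ a, x ∈ (pullback.fst f (g a)).base '' (U a : Set ↥(pullback f (g a)))) ∧
        ∀ a, IsOpenImmersion ((U a).ι ≫ pullback.snd f (g a))) → Etale f) := by
  constructor
  · intro hf
    refine ⟨PUnit, fun _ => X, fun _ => f, fun _ => (pullback.diagonal f).opensRange, fun _ => hf, fun x => ⟨.unit, _, ⟨x, rfl⟩, ?_⟩, fun _ => ?_⟩
    · show ((pullback.diagonal f) ≫ pullback.fst f f) x = x
      simp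
    · have h : (pullback.diagonal f).opensRange.ι ≫ pullback.snd f f =
          (pullback.diagonal f).isoOpensRange.inv := by
        rw [← cancel_epi (pullback.diagonal f).isoOpensRange.hom, ← Category.assoc,
          Scheme.Hom.isoOpensRange_hom_ι]
        simp
      rw [h]; infer_instance
  · rintro ⟨ι, Y', g, U, hg, hU, hI⟩
    let q : ∀ a, ((U a : Scheme)) ⟶ X := fun a => (U a).ι ≫ pullback.fst f (g a)
    haveI hq : ∀ a, Flat (q a) := fun a => by
      have : Flat (pullback.fst f (g a)) := MorphismProperty.pullback_fst _ _ (hg a)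
      infer_instance
    let Q : (∐ fun a => (U a : Scheme)) ⟶ X := Sigma.desc q
    haveI : Flat Q := IsZariskiLocalAtSource.sigmaDesc hq
    haveI : Surjective Q := ⟨fun x => by
      obtain ⟨a, p, hp, hx⟩ := hU x
      refine ⟨(Sigma.ι (fun a => (U a : Scheme)) a) ⟨p, hp⟩, ?_⟩
      show ((Sigma.ι (fun a => (U a : Scheme)) a) ≫ Sigma.desc q) ⟨p, hp⟩ = x
      rw [Sigma.ι_desc]
      exact hx⟩
    haveI : Flat (Q ≫ f) := by
      have : Q ≫ f = Sigma.desc fun a => ((U a).ι ≫ pullback.snd f (g a)) ≫ g a :=
        Sigma.hom_ext _ _ fun a => by simp [Q, q, pullback.condition]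
      rw [this]
      exact IsZariskiLocalAtSource.sigmaDesc fun a => by
        have := hI a; have := hg a; infer_instance
    haveI : Flat f := Groth.Agent.FlatLocal.flat_of_comp Q f
    haveI : FormallyUnramified f := by
      refine FormallyUnramified.of_hom_ext f fun R S φ hφ hker g₁ g₂ he hgf => ?_
      let W : ι → Scheme.{u} := fun a => pullback g₁ (q a)
      let A : ∀ a, W a ⟶ Spec R := fun a => pullback.fst g₁ (q a)
      haveI : ∀ a, Flat (A a) := fun a => MorphismProperty.pullback_fst _ _ (hq a)
      haveI : Flat (Sigma.desc A) := IsZariskiLocalAtSource.sigmaDesc inferInstance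
      haveI : Surjective (Sigma.desc A) := ⟨fun r => by
        obtain ⟨a, p, hp, hx⟩ := hU (g₁ r)
        obtain ⟨w, hw, -⟩ := Scheme.Pullback.exists_preimage_pullback (f := g₁) (g := q a) r ⟨p, hp⟩ hx.symm
        refine ⟨Sigma.ι W a w, ?_⟩
        show (Sigma.ι W a ≫ Sigma.desc A) w = r
        rw [Sigma.ι_desc]; exact hw⟩
      haveI := Flat.epi_of_flat_of_surjective (Sigma.desc A)
      rw [← cancel_epi (Sigma.desc A)]
      refine Sigma.hom_ext _ _ fun a => ?_
      simp only [Sigma.ι_desc_assoc]
      let b : W a ⟶ (U a : Scheme) := pullback.snd g₁ (q a)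
      have hab : A a ≫ g₁ = b ≫ (U a).ι ≫ pullback.fst f (g a) := pullback.condition
      let c : W a ⟶ pullback f (g a) := pullback.lift (A a ≫ g₂) (b ≫ (U a).ι ≫ pullback.snd f (g a))
        (by rw [Category.assoc, ← hgf, reassoc_of% hab, pullback.condition]; simp only [Category.assoc])
      let i : pullback (A a) (Spec.map φ) ⟶ W a := pullback.fst _ _
      haveI : IsClosedImmersion (Spec.map φ) := IsClosedImmersion.spec_of_surjective φ hφ
      haveI : Surjective (Spec.map φ) := by
        refine ⟨fun x => ?_⟩
        have : RingHom.ker φ.hom ≤ x.asIdeal := fun z hz => x.isPrime.mem_of_pow_mem 2 (by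
          have : z * z ∈ RingHom.ker φ.hom ^ 2 := by rw [pow_two]; exact Ideal.mul_mem_mul hz hz
          rw [hker, Ideal.mem_bot] at this; rw [pow_two, this]; exact zero_mem _)
        have hx : x ∈ PrimeSpectrum.zeroLocus (RingHom.ker φ.hom : Set R) := this
        rwa [← range_comap_of_surjective _ φ.hom hφ] at hx
      have hic : i ≫ c = i ≫ b ≫ (U a).ι := by
        apply pullback.hom_ext <;> simp only [Category.assoc, c, pullback.lift_fst, pullback.lift_snd]
        rw [← hab]
        simp only [i, pullback.condition_assoc]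
        rw [he]
      have hc : Set.range c ⊆ Set.range (U a).ι := by
        rintro _ ⟨w, rfl⟩
        obtain ⟨z, rfl⟩ := i.surjective w
        refine ⟨b (i z), ?_⟩
        exact (congr($hic z)).symm
      have hc' : IsOpenImmersion.lift (U a).ι c hc = b := by
        have := hI a
        rw [← cancel_mono ((U a).ι ≫ pullback.snd f (g a)), IsOpenImmersion.lift_fac_assoc]
        exact pullback.lift_snd _ _ _
      rw [hab, ← hc', IsOpenImmersion.lift_fac_assoc]
      exact pullback.lift_fst _ _ _
    exact Etale.of_formallyUnramified_of_flat f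

end Groth.Agent.S5064
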