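import Groth.Statements.S5066
import Groth.Agent.HenselLib.Unique

set_option autoImplicit false
universe u
open Hensel

namespace Groth.Agent.S5066

/-- Case of a local ring, affine étale schemes: a local ring A with maximal ideal m is henselian if and
only if, for every finite A-algebra C and every étale A-algebra E, composing with the projection C →
C/mC is a bijection from the set of A-algebra homomorphisms E → C onto the set of A-algebra
homomorphisms E → C/mC. -/
theorem result (A : Type u) [CommRing A] [IsLocalRing A] :
    HenselianLocalRing A ↔
      ∀ (C : Type u) [CommRing C] [Algebra A C] [Module.Finite A C] (E : Type u) [CommRing E] [Algebra A E] [Algebra.Etale A E],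
        Function.Bijective (fun φ : E →ₐ[A] C =>
          (Ideal.Quotient.mkₐ A (Ideal.map (algebraMap A C) (IsLocalRing.maximalIdeal A))).comp φ) := by
  constructor
  · intro _ C _ _ _ E _ _ _
    exact HenselLib.bijective_comp_mk (IsLocalRing.maximalIdeal A) E C
  · intro h
    have : HenselianRing A (IsLocalRing.maximalIdeal A) :=
      HenselLib.henselianRing_of_etale_lift _ fun E _ _ _ σ => by
        have hle : IsLocalRing.maximalIdeal A ≤
            Ideal.map (algebraMap A A) (IsLocalRing.maximalIdeal A) := by
          rw [Algebra.algebraMap_self, Ideal.map_id]
        have hge : Ideal.map (algebraMap A A) (IsLocalRing.maximalIdeal A) ≤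
            IsLocalRing.maximalIdeal A := by
          rw [Algebra.algebraMap_self, Ideal.map_id]
        obtain ⟨τ, hτ⟩ := (h A E).surjective ((Ideal.Quotient.factorₐ A hle).comp σ)
        refine ⟨τ, AlgHom.ext fun x => ?_⟩
        have h1 := congr(Ideal.Quotient.factorₐ A hge ($hτ x))
        obtain ⟨y, hy⟩ := Ideal.Quotient.mk_surjective (σ x)
        simp only [AlgHom.comp_apply, ← hy] at h1
        simpa [← hy] using h1
    exact HenselLib.henselianLocalRing_of_henselianRing A

end Groth.Agent.S5066
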