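import Groth.Statements.S5067
import Groth.Agent.FEtLib.EqLocus
import Groth.Agent.S4997
import Mathlib.AlgebraicGeometry.Morphisms.QuasiFinite
import Mathlib.AlgebraicGeometry.Morphisms.UniversallyOpen

set_option autoImplicit false
open CategoryTheory AlgebraicGeometry
universe u
open Unram

namespace Groth.Agent.S5067
open CategoryTheory CategoryTheory.Limits AlgebraicGeometry

/-- Let f : X ⟶ Y be an étale separated morphism of integral schemes which maps the generic point of X
to the generic point of Y and induces a bijection between the residue fields of the generic points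
(f is birational). Then f is an open immersion. -/
theorem result {X Y : Scheme.{u}} [IsIntegral X] [IsIntegral Y]
    (f : X ⟶ Y) [Etale f] [IsSeparated f] (hgen : f.base (genericPoint X) = genericPoint Y)
    (hbir : Function.Bijective (f.residueFieldMap (genericPoint X)).hom) : IsOpenImmersion f := by
  haveI : LocallyQuasiFinite f := ((Groth.Agent.S4997.result f).mp inferInstance).2
  haveI : IsIso (f.residueFieldMap (genericPoint X)) := (ConcreteCategory.isIso_iff_bijective _).mpr hbir
  suffices Surjective (pullback.diagonal f) by
    haveI := (UniversallyInjective.iff_diagonal f).mpr this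
    exact Groth.Agent.FEtLib.isOpenImmersion_of_etale_universallyInjective f
  refine ⟨fun p => ?_⟩
  obtain ⟨p₀, hp, hp₀⟩ := Flat.generalizingMap (pullback.fst f f)
    (genericPoint_specializes (pullback.fst f f p))
  refine hp.mem_closed (pullback.diagonal f).isClosedEmbedding.isClosed_range ?_
  have hfr : f (pullback.snd f f p₀) = genericPoint Y := by
    rw [← hgen, ← hp₀, ← Scheme.Hom.comp_apply, ← Scheme.Hom.comp_apply, pullback.condition]
  have hr : pullback.snd f f p₀ = genericPoint X := by
    have hd : _root_.IsDiscrete (f ⁻¹' {genericPoint Y}) := f.isDiscrete_preimage_singleton _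
    haveI := hd.to_subtype
    have h2 : (⟨genericPoint X, hgen⟩ : ↥(f ⁻¹' {genericPoint Y})) ⤳ ⟨_, hfr⟩ :=
      (Topology.IsInducing.subtypeVal.specializes_iff).mp (genericPoint_specializes _)
    exact (congrArg Subtype.val h2.eq).symm
  have hlift : ∀ (π : pullback f f ⟶ X) (h : π p₀ = genericPoint X),
      ∃ α : X.residueField (genericPoint X) ⟶ (pullback f f).residueField p₀,
        (pullback f f).fromSpecResidueField p₀ ≫ π = Spec.map α ≫ X.fromSpecResidueField _ := by
    intro π h
    refine ⟨(X.residueFieldCongr h.symm).hom ≫ π.residueFieldMap p₀, ?_⟩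
    rw [Spec.map_comp, Category.assoc, Scheme.residueFieldCongr_fromSpecResidueField,
      Scheme.Hom.SpecMap_residueFieldMap_fromSpecResidueField]
  obtain ⟨α, hα⟩ := hlift (pullback.fst f f) hp₀
  obtain ⟨β, hβ⟩ := hlift (pullback.snd f f) hr
  have hαβ : α = β := by
    have e : Spec.map α ≫ X.fromSpecResidueField _ ≫ f = Spec.map β ≫ X.fromSpecResidueField _ ≫ f := by
      rw [← reassoc_of% hα, ← reassoc_of% hβ, pullback.condition]
    rw [← Scheme.Hom.SpecMap_residueFieldMap_fromSpecResidueField, ← Spec.map_comp_assoc,
      ← Spec.map_comp_assoc, cancel_mono, Spec.map_inj, cancel_epi] at e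
    exact e
  have e : (pullback f f).fromSpecResidueField p₀ =
      Spec.map α ≫ X.fromSpecResidueField _ ≫ pullback.diagonal f := by
    apply pullback.hom_ext <;>
      simp only [Category.assoc, pullback.diagonal_fst, pullback.diagonal_snd, Category.comp_id]
    · exact hα
    · rw [hαβ]; exact hβ
  refine ⟨genericPoint X, ?_⟩
  have := congr($e (default : Spec ((pullback f f).residueField p₀)))
  rw [Scheme.fromSpecResidueField_apply] at this
  rw [this, ← Category.assoc, Scheme.Hom.comp_apply, Scheme.Hom.comp_apply, Scheme.fromSpecResidueField_apply]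

end Groth.Agent.S5067
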