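import Groth.Statements.S5071
import Groth.Agent.TransFlatH2.Basic

set_option autoImplicit false
universe u
open CInt

namespace Groth.Agent.S5071

/-- Let B be an A-algebra and J an ideal of B generated by a sequence which is transversally regular
relative to A. Then for n < m the module J^n/J^m is flat over A, and for every prime q of B
containing J the localisation (J^n)_q is flat over A (modules regarded as A-modules by restriction
of scalars). -/
theorem result (A B : Type u) [CommRing A] [CommRing B] [Algebra A B]
    (rs : List B) (hrs : RegImm.IsTransRegularSeq A B rs) (n m : ℕ) (hnm : n < m) :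
    Module.Flat A (RestrictScalars A B
      (↥(Ideal.ofList rs ^ n) ⧸ (Submodule.comap (Ideal.ofList rs ^ n).subtype (Ideal.ofList rs ^ m)))) ∧
      ∀ (q : Ideal B) [q.IsPrime], Ideal.ofList rs ≤ q →
        Module.Flat A (RestrictScalars A B (LocalizedModule q.primeCompl ↥(Ideal.ofList rs ^ n))) := by
  have hq := TransFlatH2.isQuasiRegular_get hrs.1
  have h0 : Module.Flat A (B ⧸ Ideal.ofList (rs.take 0)) := hrs.2 0 (Nat.zero_le _)
  haveI : Module.Flat A B := by
    have e : Ideal.ofList (rs.take 0) = ⊥ := by simp
    rw [e] at h0
    exact Module.Flat.of_linearEquiv ((Submodule.quotEquivOfEqBot (⊥ : Ideal B) rfl).restrictScalars A).symm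
  have h1 : Module.Flat A (B ⧸ Ideal.ofList (rs.take rs.length)) := hrs.2 _ le_rfl
  rw [List.take_length] at h1
  rw [TransFlatH2.ofList_eq_span] at h1 ⊢
  haveI := h1
  obtain ⟨k, rfl⟩ := Nat.exists_eq_add_of_le hnm.le
  refine ⟨?_, fun q _ _ => ?_⟩
  · haveI := TransFlatH2.flat_pow_quotient (A := A) rs.get hq n k
    exact TransFlatH2.flat_restrictScalars
  · haveI := TransFlatH2.flat_pow (A := A) rs.get hq n
    haveI := Props12.flat_localizedModule (A := A) q.primeCompl ↥(Ideal.span (Set.range rs.get) ^ n)
    exact TransFlatH2.flat_restrictScalars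

end Groth.Agent.S5071
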