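import Groth.Statements.S5072
import Groth.Agent.HenselLib.HensBase
import Groth.Agent.HenselLib.LocalInt

set_option autoImplicit false
open scoped TensorProduct
universe u
open Hensel

namespace Groth.Agent.S5072
open Groth.Agent

/-- Case of a local ring A and a local finite A-algebra B: let S be a strict henselization of A and T a
strict henselization of B. Then there is a maximal ideal q of B ⊗_A S such that T is isomorphic, as
a B-algebra, to the local ring (B ⊗_A S)_q. -/
theorem result (A B S T : Type u) [CommRing A] [IsLocalRing A]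
    [CommRing B] [IsLocalRing B] [Algebra A B] [Module.Finite A B]
    [CommRing S] [IsLocalRing S] [Algebra A S] [IsLocalHom (algebraMap A S)] [Hensel.IsStrictHenselization A S]
    [CommRing T] [IsLocalRing T] [Algebra B T] [IsLocalHom (algebraMap B T)] [Hensel.IsStrictHenselization B T] :
    ∃ (q : Ideal (B ⊗[A] S)) (_ : q.IsMaximal), Nonempty (Localization.AtPrime q ≃ₐ[B] T) := by
  have := (inferInstance : Hensel.IsStrictHenselization A S).henselian
  have := (inferInstance : Hensel.IsStrictHenselization B T).henselian
  have : IsSepClosed (IsLocalRing.ResidueField S) :=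
    (inferInstance : Hensel.IsStrictHenselization A S).isSepClosure.sep_closed
  have hT := (inferInstance : Hensel.IsStrictHenselization B T).isSepClosure
  have : IsSepClosed (IsLocalRing.ResidueField T) := hT.sep_closed
  have : Algebra.IsSeparable (IsLocalRing.ResidueField B) (IsLocalRing.ResidueField T) := hT.separable
  have : Algebra.IsSeparable (IsLocalRing.ResidueField A) (IsLocalRing.ResidueField S) :=
    (inferInstance : Hensel.IsStrictHenselization A S).isSepClosure.separable
  have : IsLocalHom (algebraMap A B) := HenselLib.LocalInt.isLocalHom_of_isIntegral A B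
  let : Algebra A T := ((algebraMap B T).comp (algebraMap A B)).toAlgebra
  have : IsScalarTower A B T := IsScalarTower.of_algebraMap_eq (R := A) (S := B) (A := T) fun _ => rfl
  have : IsLocalHom (algebraMap A T) :=
    RingHom.isLocalHom_comp (algebraMap B T) (algebraMap A B)
  -- the map `S → T`
  let τA : IsLocalRing.ResidueField S →ₐ[IsLocalRing.ResidueField A] IsLocalRing.ResidueField T :=
    IsSepClosed.lift
  obtain ⟨g₁, ⟨hg₁, hg₁res⟩, -⟩ :=
    (inferInstance : Hensel.IsStrictHenselization A S).universal T (algebraMap A T) τA.toRingHom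
      τA.comp_algebraMap
  let g₁' : S →ₐ[A] T := { g₁ with commutes' := fun a => congr($hg₁ a) }
  let ψ : B ⊗[A] S →ₐ[B] T :=
    Algebra.TensorProduct.lift (Algebra.ofId B T) g₁' fun _ _ => Commute.all _ _
  let q : Ideal (B ⊗[A] S) := (IsLocalRing.maximalIdeal T).comap ψ.toRingHom
  let : Algebra S (B ⊗[A] S) := Algebra.TensorProduct.rightAlgebra
  have : Module.Finite S (B ⊗[A] S) :=
    Module.Finite.equiv (R := S) (M := S ⊗[A] B)
      ({ Algebra.TensorProduct.comm A S B with
          map_smul' := fun c x => by
            induction x using TensorProduct.induction_on with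
            | zero => simp
            | tmul a b =>
              show Algebra.TensorProduct.comm A S B ((c * a) ⊗ₜ[A] b) =
                (1 ⊗ₜ[A] c) * (b ⊗ₜ[A] a)
              simp
            | add x y hx hy =>
              simp only [smul_add, RingHom.id_apply] at hx hy ⊢
              show Algebra.TensorProduct.comm A S B (c • x + c • y) =
                c • Algebra.TensorProduct.comm A S B (x + y)
              rw [map_add, map_add, smul_add]
              exact congrArg₂ (· + ·) hx hy } : (S ⊗[A] B) ≃ₗ[S] (B ⊗[A] S))
  have hqp : q.IsPrime := inferInstanceAs ((IsLocalRing.maximalIdeal T).comap _).IsPrime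
  have hqS : q.comap (algebraMap S (B ⊗[A] S)) = IsLocalRing.maximalIdeal S := by
    refine ((IsLocalRing.maximalIdeal.isMaximal S).eq_of_le (Ideal.IsPrime.ne_top inferInstance)
      fun x hx => ?_).symm
    show ψ ((1 : B) ⊗ₜ[A] x) ∈ IsLocalRing.maximalIdeal T
    rw [show ψ ((1 : B) ⊗ₜ[A] x) = g₁ x by simp [ψ]; rfl, ← IsLocalRing.residue_eq_zero_iff, hg₁res,
      (IsLocalRing.residue_eq_zero_iff x).mpr hx, map_zero]
  have hqm : q.IsMaximal := Ideal.isMaximal_of_isIntegral_of_isMaximal_comap (R := S) q
    (hqS ▸ IsLocalRing.maximalIdeal.isMaximal S)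
  refine ⟨q, hqm, ?_⟩
  let L := Localization.AtPrime q
  have hsurjL := HenselLib.LocalInt.surjective_algebraMap_localization S q
  have : HenselianLocalRing L := HenselLib.LocalInt.henselianLocalRing_localization S q
  have : Algebra.IsIntegral S L :=
    Algebra.IsIntegral.of_surjective (IsScalarTower.toAlgHom S (B ⊗[A] S) L) hsurjL
  have : IsLocalHom (algebraMap S L) := HenselLib.LocalInt.isLocalHom_of_isIntegral S L
  have : IsSepClosed (IsLocalRing.ResidueField L) := HenselLib.LocalInt.isSepClosed_residueField S L
  -- `L → T`
  let h : L →ₐ[B] T := IsLocalization.liftAlgHom (M := q.primeCompl) (f := ψ)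
    fun y => IsLocalRing.notMem_maximalIdeal.mp y.2
  have hlocal : IsLocalHom h.toRingHom := HenselLib.HensBase.isLocalHom_of_comap_eq q _
    (Ideal.ext fun x => by
      rw [Ideal.mem_comap, RingHom.comp_apply]
      show h (algebraMap (B ⊗[A] S) L x) ∈ _ ↔ _
      rw [show h (algebraMap (B ⊗[A] S) L x) = ψ x from IsLocalization.lift_eq _ x]
      exact Iff.rfl)
  have : IsLocalHom (algebraMap B L) := ⟨fun b hb => by
    refine isUnit_of_map_unit (algebraMap B T) b ?_
    rw [← h.commutes]
    exact hb.map h⟩
  let τh := IsLocalRing.ResidueField.map h.toRingHom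
  have hτB : τh.comp (IsLocalRing.ResidueField.map (algebraMap B L)) =
      IsLocalRing.ResidueField.map (algebraMap B T) := RingHom.ext fun x => by
    obtain ⟨b, rfl⟩ := IsLocalRing.residue_surjective x
    exact congrArg (IsLocalRing.residue T) (h.commutes b)
  have hτsurj : Function.Surjective τh := by
    let : Algebra (IsLocalRing.ResidueField L) (IsLocalRing.ResidueField T) := τh.toAlgebra
    have : IsScalarTower (IsLocalRing.ResidueField B) (IsLocalRing.ResidueField L)
        (IsLocalRing.ResidueField T) := IsScalarTower.of_algebraMap_eq fun x => congr($hτB.symm x)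
    have : Algebra.IsSeparable (IsLocalRing.ResidueField L) (IsLocalRing.ResidueField T) :=
      Algebra.isSeparable_tower_top_of_isSeparable (IsLocalRing.ResidueField B) _ _
    exact IsSepClosed.algebraMap_surjective (IsLocalRing.ResidueField L) (IsLocalRing.ResidueField T)
  let e₀ := RingEquiv.ofBijective τh ⟨τh.injective, hτsurj⟩
  obtain ⟨g, ⟨hg, hgres⟩, -⟩ := (inferInstance : Hensel.IsStrictHenselization B T).universal L
    (algebraMap B L) e₀.symm.toRingHom (RingHom.ext fun x => e₀.injective (by
      show e₀ (e₀.symm _) = _
      rw [e₀.apply_symm_apply]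
      exact congr($hτB.symm x)))
  have h1 : h.toRingHom.comp g = RingHom.id T :=
    ((inferInstance : Hensel.IsStrictHenselization B T).universal T (algebraMap B T) (RingHom.id _)
      (RingHom.id_comp _)).unique
      ⟨by rw [RingHom.comp_assoc, hg]; exact h.comp_algebraMap, fun x => by
        show τh (IsLocalRing.residue L (g x)) = IsLocalRing.residue T x
        rw [hgres]
        exact e₀.apply_symm_apply _⟩ ⟨RingHom.id_comp _, fun _ => rfl⟩
  have hres : ∀ x : L, IsLocalRing.residue L (g (h x)) = IsLocalRing.residue L x := fun x => by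
    rw [hgres]
    show e₀.symm (e₀ (IsLocalRing.residue L x)) = _
    exact e₀.symm_apply_apply _
  let g' : T →ₐ[B] L := { g with commutes' := fun b => congr($hg b) }
  let inS : S →+* L := algebraMap S L
  have : IsLocalHom (inS.comp (algebraMap A S)) :=
    RingHom.isLocalHom_comp (algebraMap S L) (algebraMap A S)
  have hSA : (g.comp (h.toRingHom.comp inS)).comp (algebraMap A S) = inS.comp (algebraMap A S) := by
    refine RingHom.ext fun a => ?_
    have : inS (algebraMap A S a) = algebraMap B L (algebraMap A B a) := by
      show algebraMap (B ⊗[A] S) L ((1 : B) ⊗ₜ[A] algebraMap A S a) =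
        algebraMap (B ⊗[A] S) L (algebraMap A B a ⊗ₜ[A] (1 : S))
      exact congrArg (algebraMap (B ⊗[A] S) L)
        (((Algebra.TensorProduct.includeRight : S →ₐ[A] B ⊗[A] S).commutes a).trans
          ((Algebra.TensorProduct.includeLeft : B →ₐ[A] B ⊗[A] S).commutes a).symm)
    show g' (h (inS (algebraMap A S a))) = inS (algebraMap A S a)
    rw [this, h.commutes, g'.commutes]
  have key : g.comp (h.toRingHom.comp inS) = inS :=
    ((inferInstance : Hensel.IsStrictHenselization A S).universal L (inS.comp (algebraMap A S))
      (IsLocalRing.ResidueField.map inS) (IsLocalRing.ResidueField.map_comp _ _).symm).unique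
      ⟨hSA, fun x => hres (inS x)⟩ ⟨rfl, fun _ => rfl⟩
  refine ⟨AlgEquiv.ofAlgHom h g' (AlgHom.coe_ringHom_injective h1)
    (IsLocalization.algHom_ext q.primeCompl (AlgHom.ext fun x => ?_))⟩
  show g' (h (algebraMap (B ⊗[A] S) L x)) = algebraMap (B ⊗[A] S) L x
  induction x using TensorProduct.induction_on with
  | zero => simp
  | tmul b s =>
    rw [show b ⊗ₜ[A] s = algebraMap B (B ⊗[A] S) b * ((1 : B) ⊗ₜ[A] s) by
      simp, map_mul, map_mul, map_mul, ← IsScalarTower.algebraMap_apply, h.commutes, g'.commutes]
    exact congrArg (_ * ·) congr($key s)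
  | add x y hx hy => rw [map_add, map_add, map_add, hx, hy]

end Groth.Agent.S5072
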