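import Groth.Statements.S5073
import Mathlib.RingTheory.Ideal.MinimalPrime.Noetherian

set_option autoImplicit false
universe u
open EGA418

namespace Groth.Agent.S5073

/-- Let A be a Noetherian local ring, p a prime ideal and x an element of A. Then there is an element x'
of A whose image in A_p equals that of x and which belongs to no minimal prime ideal of A not
contained in p. -/
theorem result (A : Type u) [CommRing A] [IsNoetherianRing A] [IsLocalRing A]
    (p : Ideal A) [p.IsPrime] (x : A) :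
    ∃ x' : A, algebraMap A (Localization.AtPrime p) x' = algebraMap A (Localization.AtPrime p) x ∧
      ∀ q ∈ minimalPrimes A, ¬ q ≤ p → x' ∉ q := by
  classical
  set S := {q ∈ minimalPrimes A | ¬ q ≤ p}
  have hfin : S.Finite := (minimalPrimes.finite_of_isNoetherianRing A).subset (fun q hq => hq.1)
  set T₁ := hfin.toFinset.filter (fun q => x ∉ q)
  set T₂ := hfin.toFinset.filter (fun q => x ∈ q)
  obtain ⟨K, hKdef⟩ : ∃ K : Ideal A, K = RingHom.ker (algebraMap A (Localization.AtPrime p)) := ⟨_, rfl⟩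
  obtain ⟨J, hJdef⟩ : ∃ J : Ideal A, J = K * ∏ q ∈ T₁, q := ⟨_, rfl⟩
  have hK : ∀ q ∈ S, ¬ K ≤ q := by
    rintro q ⟨hq, hqp⟩
    have hqP : q.IsPrime := hq.1.1
    obtain ⟨z, hzq, hzp⟩ := SetLike.not_le_iff_exists.1 hqp
    have hz : IsNilpotent (algebraMap A (Localization.AtPrime q) z) := by
      rw [← mem_nilradical, nilradical_eq_sInf, Submodule.mem_sInf]
      intro (P : Ideal (Localization.AtPrime q)) hP
      have hP' : P.IsPrime := hP
      have hle : P.comap (algebraMap A (Localization.AtPrime q)) ≤ q := by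
        intro a ha
        by_contra hna
        exact hP'.ne_top (Ideal.eq_top_of_isUnit_mem _ ha
          (IsLocalization.map_units (Localization.AtPrime q) (⟨a, hna⟩ : q.primeCompl)))
      exact (hq.2 ⟨inferInstance, bot_le⟩ hle) hzq
    obtain ⟨n, hn⟩ := hz
    rw [← map_pow, IsLocalization.map_eq_zero_iff q.primeCompl] at hn
    obtain ⟨⟨t, ht⟩, htz⟩ := hn
    intro hle
    refine ht (hle ?_)
    rw [hKdef, RingHom.mem_ker, IsLocalization.map_eq_zero_iff p.primeCompl]
    exact ⟨⟨z ^ n, fun h => hzp (‹p.IsPrime›.mem_of_pow_mem n h)⟩, by simpa [mul_comm] using htz⟩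
  have hJ : ∀ q ∈ T₂, ¬ J ≤ q := by
    intro q hq hle
    simp only [T₂, Finset.mem_filter, Set.Finite.mem_toFinset] at hq
    have hqP : q.IsPrime := hq.1.1.1.1
    rw [hJdef] at hle
    rcases hqP.mul_le.1 hle with h | h
    · exact hK q hq.1 h
    · obtain ⟨q', hq', hle'⟩ := hqP.prod_le.1 h
      simp only [T₁, Finset.mem_filter, Set.Finite.mem_toFinset] at hq'
      have hge : q ≤ q' := hq.1.1.2 ⟨hq'.1.1.1.1, bot_le⟩ hle'
      exact hq'.2 (hge hq.2)
  obtain ⟨y, hyJ, hy⟩ : ∃ y ∈ J, ∀ q ∈ T₂, y ∉ q := by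
    by_contra hcon
    push Not at hcon
    have hsub : (J : Set A) ⊆ ⋃ q ∈ (T₂ : Set (Ideal A)), (id q : Ideal A) := by
      intro y hy
      obtain ⟨q, hq, hyq⟩ := hcon y hy
      exact Set.mem_biUnion hq hyq
    obtain ⟨q, hq, hle⟩ := (J.subset_union_prime (s := T₂) (f := id) ⊥ ⊥ (fun q hq _ _ => by
      simp only [T₂, Finset.mem_filter, Set.Finite.mem_toFinset] at hq
      exact hq.1.1.1.1)).1 hsub
    exact hJ q hq hle
  refine ⟨x + y, ?_, fun q hq hqp hmem => ?_⟩
  · have hyK : y ∈ K := (show K * (∏ q ∈ T₁, q) ≤ K from Ideal.mul_le_left) (hJdef ▸ hyJ)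
    rw [hKdef] at hyK
    rw [map_add, RingHom.mem_ker.1 hyK, add_zero]
  · have hqS : q ∈ hfin.toFinset := hfin.mem_toFinset.2 ⟨hq, hqp⟩
    by_cases hx : x ∈ q
    · exact hy q (Finset.mem_filter.2 ⟨hqS, hx⟩) ((Ideal.add_mem_iff_right q hx).1 hmem)
    · have hT : q ∈ T₁ := Finset.mem_filter.2 ⟨hqS, hx⟩
      have hpr : (∏ r ∈ T₁, r) ≤ q := (Ideal.prod_le_inf (s := T₁) (f := fun r => r)).trans (Finset.inf_le hT)
      have hyq : y ∈ q := (Ideal.mul_le_right.trans hpr : K * (∏ r ∈ T₁, r) ≤ q) (hJdef ▸ hyJ)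
      exact hx ((Ideal.add_mem_iff_left q hyq).1 hmem)

end Groth.Agent.S5073
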