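import Groth.Statements.S5076
import Mathlib.RingTheory.Localization.AtPrime.Basic
import Mathlib.RingTheory.Ideal.GoingUp
import Mathlib.RingTheory.Nakayama
-- import your own Groth.Agent.* helpers here

set_option autoImplicit false
universe u
open Unram

set_option linter.style.haveILetI false
set_option maxHeartbeats 800000

namespace Groth.Agent.S5076

/-- Let A be a local ring with maximal ideal m, C a finite A-algebra, r a maximal ideal of C, and u an
element of C which lies in every maximal ideal of C other than r, does not lie in r, and whose image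
generates C_r modulo m C_r as an A-algebra. Let B = A[u] be the A-subalgebra of C generated by u and
n the inverse image of r in B. Then the canonical homomorphism B_n → C_r is bijective. -/
theorem result (A C : Type u) [CommRing A] [IsLocalRing A]
    [CommRing C] [Algebra A C] [Module.Finite A C] (r : Ideal C) [r.IsMaximal] (u : C)
    (hu₁ : ∀ r' : Ideal C, r'.IsMaximal → r' ≠ r → u ∈ r') (hu₂ : u ∉ r)
    (hu₃ : Subalgebra.toSubmodule (Algebra.adjoin A {algebraMap C (Localization.AtPrime r) u}) ⊔
        Submodule.restrictScalars A (Ideal.map (algebraMap A (Localization.AtPrime r)) (IsLocalRing.maximalIdeal A)) = ⊤) :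
    Function.Bijective (Localization.localRingHom (Ideal.comap (Algebra.adjoin A ({u} : Set C)).val.toRingHom r) r
      (Algebra.adjoin A ({u} : Set C)).val.toRingHom rfl) := by
  classical
  set B := Algebra.adjoin A ({u} : Set C) with hB
  set n := Ideal.comap B.val.toRingHom r with hn
  set φ := Localization.localRingHom n r B.val.toRingHom rfl with hφ
  haveI : Algebra.IsIntegral B C := ⟨fun x => (Algebra.IsIntegral.isIntegral (R := A) x).tower_top⟩
  haveI hnmax : n.IsMaximal := Ideal.isMaximal_comap_of_isIntegral_of_isMaximal (R := B) r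
  have hub : u ∈ B := Algebra.self_mem_adjoin_singleton A u
  have huniq : ∀ q : Ideal C, q.IsPrime → n ≤ q.comap B.val.toRingHom → q = r := by
    intro q hq hle
    have hqn : q.comap B.val.toRingHom = n :=
      (hnmax.eq_of_le (Ideal.comap_ne_top _ hq.ne_top) hle).symm
    haveI : q.IsMaximal := Ideal.isMaximal_of_isIntegral_of_isMaximal_comap (R := B) q (hqn ▸ hnmax)
    by_contra hne
    have h1 : (⟨u, hub⟩ : B) ∈ q.comap B.val.toRingHom := hu₁ q inferInstance hne
    rw [hqn] at h1
    exact hu₂ h1
  have hden : ∀ t : C, t ∉ r → ∃ c : C, ∃ s : B, s ∉ n ∧ t * c = (s : C) := by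
    intro t ht
    by_contra hne
    push_neg at hne
    let J := Ideal.span {t}
    have hle : J.comap (algebraMap B C) ≤ n := by
      intro s hs
      by_contra hsn
      obtain ⟨c, hc⟩ := Ideal.mem_span_singleton.mp (Ideal.mem_comap.mp hs)
      exact hne c s hsn hc.symm
    obtain ⟨q, hq, hq1, hq2⟩ := Ideal.exists_ideal_over_prime_of_isIntegral (S := C) n J hle
    exact ht (huniq q hq1 hq2.ge ▸ hq (Ideal.mem_span_singleton_self t))
  have hmk : ∀ (b : B) (s : n.primeCompl),
      φ (IsLocalization.mk' (Localization.AtPrime n) b s) * algebraMap C (Localization.AtPrime r) (s : B) =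
        algebraMap C (Localization.AtPrime r) (b : C) := by
    intro b s
    have h1 := congrArg φ (IsLocalization.mk'_spec (Localization.AtPrime n) b s)
    rw [map_mul, hφ, Localization.localRingHom_to_map, Localization.localRingHom_to_map] at h1
    exact h1
  have hunit : ∀ t : C, t ∉ r → IsUnit (algebraMap C (Localization.AtPrime r) t) := fun t ht =>
    IsLocalization.map_units (Localization.AtPrime r) (⟨t, ht⟩ : r.primeCompl)
  refine ⟨?_, ?_⟩
  · rw [injective_iff_map_eq_zero]
    intro x hx
    obtain ⟨b, s, rfl⟩ := IsLocalization.exists_mk'_eq n.primeCompl x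
    have h1 := hmk b s
    rw [hx, zero_mul] at h1
    obtain ⟨⟨t, ht⟩, h2⟩ := (IsLocalization.map_eq_zero_iff r.primeCompl (Localization.AtPrime r) (b : C)).mp h1.symm
    obtain ⟨c, s', hs', hc⟩ := hden t ht
    rw [IsLocalization.mk'_eq_zero_iff]
    refine ⟨⟨s', hs'⟩, Subtype.ext ?_⟩
    show (s' : C) * (b : C) = 0
    rw [← hc, mul_comm t c, mul_assoc]
    exact mul_eq_zero_of_right c h2
  · letI : Algebra (Localization.AtPrime n) (Localization.AtPrime r) := φ.toAlgebra
    obtain ⟨g, hg⟩ := Module.Finite.fg_top (R := A) (M := C)
    have hA : ∀ a : A, φ (algebraMap B (Localization.AtPrime n) (algebraMap A B a)) =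
        algebraMap A (Localization.AtPrime r) a := fun a => by
      rw [hφ, Localization.localRingHom_to_map, IsScalarTower.algebraMap_apply A C (Localization.AtPrime r)]
      rfl
    have hfin : Module.Finite (Localization.AtPrime n) (Localization.AtPrime r) := by
      refine ⟨⟨g.image (algebraMap C (Localization.AtPrime r)), top_unique fun x _ => ?_⟩⟩
      obtain ⟨c, ⟨t, ht⟩, rfl⟩ := IsLocalization.exists_mk'_eq r.primeCompl x
      obtain ⟨c', s, hs, hc⟩ := hden t ht
      have key : IsLocalization.mk' (Localization.AtPrime r) c ⟨t, ht⟩ =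
          φ (IsLocalization.mk' (Localization.AtPrime n) 1 (⟨s, hs⟩ : n.primeCompl)) * algebraMap C (Localization.AtPrime r) (c * c') := by
        rw [IsLocalization.mk'_eq_iff_eq_mul]
        have h1 := hmk 1 (⟨s, hs⟩ : n.primeCompl)
        rw [OneMemClass.coe_one, map_one] at h1
        rw [mul_assoc, ← map_mul, mul_assoc, mul_comm c' t, hc, map_mul, mul_comm (algebraMap C _ c), ← mul_assoc, h1, one_mul]
      rw [key]
      refine Submodule.smul_mem _ (IsLocalization.mk' (Localization.AtPrime n) 1 (⟨s, hs⟩ : n.primeCompl)) ?_
      have hmem : c * c' ∈ Submodule.span A (g : Set C) := hg ▸ Submodule.mem_top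
      rw [Finset.coe_image]
      refine Submodule.span_induction (p := fun y _ => algebraMap C (Localization.AtPrime r) y ∈
        Submodule.span (Localization.AtPrime n) (algebraMap C (Localization.AtPrime r) '' (g : Set C)))
        (fun y hy => Submodule.subset_span ⟨y, hy, rfl⟩) (by rw [map_zero]; exact zero_mem _)
        (fun y z _ _ hy hz => by rw [map_add]; exact add_mem hy hz)
        (fun a y _ hy => ?_) hmem
      rw [Algebra.smul_def, map_mul, ← IsScalarTower.algebraMap_apply, ← hA]
      exact Submodule.smul_mem _ _ hy
    let M : Submodule (Localization.AtPrime n) (Localization.AtPrime r) :=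
      LinearMap.range (Algebra.linearMap _ _)
    have hM : (⊤ : Submodule (Localization.AtPrime n) (Localization.AtPrime r)) ≤ M := by
      refine Submodule.le_of_le_smul_of_le_jacobson_bot (I := IsLocalRing.maximalIdeal _) hfin.fg_top
        (IsLocalRing.maximalIdeal_le_jacobson ⊥) ?_
      intro x _
      have hx : x ∈ Subalgebra.toSubmodule (Algebra.adjoin A {algebraMap C (Localization.AtPrime r) u}) ⊔
        Submodule.restrictScalars A (Ideal.map (algebraMap A (Localization.AtPrime r)) (IsLocalRing.maximalIdeal A)) :=
        hu₃ ▸ Submodule.mem_top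
      obtain ⟨y, hy, z, hz, rfl⟩ := Submodule.mem_sup.mp hx
      refine Submodule.mem_sup.mpr ⟨y, ?_, z, ?_, rfl⟩
      · show y ∈ Set.range φ
        clear hx
        replace hy : y ∈ Algebra.adjoin A {algebraMap C (Localization.AtPrime r) u} := hy
        revert hy
        clear * - hA hub
        intro hy
        induction hy using Algebra.adjoin_induction with
        | mem y hy =>
          obtain rfl := Set.mem_singleton_iff.mp hy
          exact ⟨algebraMap B (Localization.AtPrime n) ⟨u, hub⟩, Localization.localRingHom_to_map _ _ _ _ _⟩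
        | algebraMap a => exact ⟨_, hA a⟩
        | add y z _ _ hy hz =>
          obtain ⟨⟨y, rfl⟩, ⟨z, rfl⟩⟩ := hy, hz
          exact ⟨_, map_add φ y z⟩
        | mul y z _ _ hy hz =>
          obtain ⟨⟨y, rfl⟩, ⟨z, rfl⟩⟩ := hy, hz
          exact ⟨_, map_mul φ y z⟩
      · rw [Ideal.smul_top_eq_map, Submodule.restrictScalars_mem]
        refine (Ideal.map_le_iff_le_comap.mpr fun a ha => ?_) hz
        rw [Ideal.mem_comap, ← hA]
        refine Ideal.mem_map_of_mem φ ?_
        rw [IsLocalization.AtPrime.to_map_mem_maximal_iff (Localization.AtPrime n) n]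
        show algebraMap A C a ∈ r
        have : r.comap (algebraMap A C) = IsLocalRing.maximalIdeal A :=
          IsLocalRing.eq_maximalIdeal (Ideal.isMaximal_comap_of_isIntegral_of_isMaximal r)
        exact this.ge ha
    intro x
    exact hM (Submodule.mem_top (x := x))

end Groth.Agent.S5076
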