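import Groth.Statements.S5077
import Mathlib.RingTheory.Unramified.Locus
import Mathlib.RingTheory.Nakayama
import Mathlib.FieldTheory.Minpoly.Field
import Mathlib.RingTheory.Support
-- import your own Groth.Agent.* helpers here

set_option autoImplicit false
universe u
open Unram

set_option linter.style.haveILetI false
set_option maxHeartbeats 800000

namespace Groth.Agent.S5077

/-- Let A be a local ring and B a finite A-algebra generated by a single element u. Then there is a
monic polynomial F with coefficients in A such that F(u) = 0 and F'(u) does not belong to any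
maximal ideal n of B at which B is unramified over A. -/
theorem result (A B : Type u) [CommRing A] [IsLocalRing A]
    [CommRing B] [Algebra A B] [Module.Finite A B] (u : B) (hu : Algebra.adjoin A ({u} : Set B) = ⊤) :
    ∃ F : Polynomial A, F.Monic ∧ Polynomial.aeval u F = 0 ∧
      ∀ (n : Ideal B) [n.IsMaximal], Algebra.IsUnramifiedAt A n → Polynomial.aeval u (Polynomial.derivative F) ∉ n := by
  classical
  let m := IsLocalRing.maximalIdeal A
  let k := A ⧸ m
  letI : Field k := Ideal.Quotient.field m
  let J : Ideal B := m.map (algebraMap A B)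
  let π : A →+* k := Ideal.Quotient.mk m
  let ι : k →+* B ⧸ J := Ideal.quotientMap J (algebraMap A B) Ideal.le_comap_map
  letI : Algebra k (B ⧸ J) := ι.toAlgebra
  let ub : B ⧸ J := Ideal.Quotient.mk J u
  haveI : Module.Finite k (B ⧸ J) := by
    have hc : (Ideal.Quotient.mk J).comp (algebraMap A B) = ι.comp π := RingHom.ext fun a => rfl
    refine RingHom.Finite.of_comp_finite (f := π) (g := ι) ?_
    rw [← hc]
    exact (RingHom.Finite.of_surjective _ Ideal.Quotient.mk_surjective).comp (RingHom.finite_algebraMap.mpr inferInstance)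
  have hint : IsIntegral k ub := Algebra.IsIntegral.isIntegral ub
  let fb := minpoly k ub
  let d := fb.natDegree
  have hmap : ∀ P : Polynomial A, Polynomial.aeval ub (P.map π) = Ideal.Quotient.mk J (Polynomial.aeval u P) := by
    intro P
    rw [Polynomial.aeval_def, Polynomial.eval₂_map, Polynomial.aeval_def, Polynomial.hom_eval₂]
    rfl
  have hsur : ∀ b : B, ∃ P : Polynomial A, Polynomial.aeval u P = b := fun b => by
    have : b ∈ Algebra.adjoin A ({u} : Set B) := hu ▸ Algebra.mem_top
    rwa [Algebra.adjoin_singleton_eq_range_aeval] at this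
  have hFb : fb.Monic := minpoly.monic hint
  let S : Submodule A B := Submodule.map (Polynomial.aeval u).toLinearMap (Polynomial.degreeLT A d)
  have hS : S = ⊤ := by
    refine top_unique (Submodule.le_of_le_smul_of_le_jacobson_bot (I := m) (Module.Finite.fg_top (R := A) (M := B))
      (IsLocalRing.maximalIdeal_le_jacobson ⊥) ?_)
    intro b _
    obtain ⟨P, rfl⟩ := hsur b
    obtain ⟨G, hG, hGd, hGm⟩ := Polynomial.lifts_and_degree_eq_and_monic
      (Polynomial.map_surjective π Ideal.Quotient.mk_surjective fb |> (Polynomial.mem_lifts _).mpr) hFb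
    refine Submodule.mem_sup.mpr ⟨Polynomial.aeval u (P %ₘ G), ⟨P %ₘ G, ?_, rfl⟩,
      Polynomial.aeval u (G * (P /ₘ G)), ?_, ?_⟩
    · refine Polynomial.mem_degreeLT.mpr ?_
      rcases subsingleton_or_nontrivial A with h | h
      · exact absurd h (not_subsingleton A)
      · refine lt_of_lt_of_eq (Polynomial.degree_modByMonic_lt _ hGm) ?_
        rw [hGd, Polynomial.degree_eq_natDegree hFb.ne_zero]
    · rw [Ideal.smul_top_eq_map, Submodule.restrictScalars_mem]
      show Polynomial.aeval u (G * (P /ₘ G)) ∈ J
      rw [← Ideal.Quotient.eq_zero_iff_mem, ← hmap, Polynomial.map_mul, map_mul, hG, minpoly.aeval, zero_mul]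
    · rw [← map_add, Polynomial.modByMonic_add_div]
  obtain ⟨R, hR, hRu⟩ : Polynomial.aeval u (Polynomial.X ^ d : Polynomial A) ∈ S := hS ▸ Submodule.mem_top
  have hRu' : Polynomial.aeval u R = Polynomial.aeval u (Polynomial.X ^ d : Polynomial A) := hRu
  let F := Polynomial.X ^ d - R
  have hF : F.Monic := Polynomial.monic_X_pow_sub (Polynomial.mem_degreeLT.mp hR)
  have hFu : Polynomial.aeval u F = 0 := by rw [map_sub, hRu', sub_self]
  refine ⟨F, hF, hFu, fun n hn hun hF' => ?_⟩
  have hmn : m ≤ n.comap (algebraMap A B) := by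
    haveI : (n.comap (algebraMap A B)).IsMaximal := Ideal.isMaximal_comap_of_isIntegral_of_isMaximal n
    exact (IsLocalRing.eq_maximalIdeal ‹_›).ge
  have hFd : F.natDegree = d := by
    apply Polynomial.natDegree_eq_of_degree_eq_some
    rw [Polynomial.degree_sub_eq_left_of_degree_lt (by rw [Polynomial.degree_X_pow]; exact Polynomial.mem_degreeLT.mp hR),
      Polynomial.degree_X_pow]
  have hd0 : 0 < d := by
    haveI : Nontrivial (B ⧸ J) := Ideal.Quotient.nontrivial_iff.mpr (ne_top_of_le_ne_top hn.ne_top (Ideal.map_le_iff_le_comap.mpr hmn))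
    exact minpoly.natDegree_pos hint
  have key : ∀ G : Polynomial A, Polynomial.aeval u G = 0 → Polynomial.aeval u G.derivative ∈ n := by
    intro G hG
    have hr0 : Polynomial.aeval u (G %ₘ F) = 0 := by rw [Polynomial.aeval_modByMonic_eq_self_of_root hFu, hG]
    have hr1 : (G %ₘ F).map π = 0 := by
      by_contra hne
      have h1 := Polynomial.natDegree_le_natDegree (minpoly.degree_le_of_ne_zero k ub hne (by rw [hmap, hr0, map_zero]))
      have h2 := Polynomial.natDegree_modByMonic_lt G hF (fun h => by rw [h, Polynomial.natDegree_one] at hFd; exact hd0.ne hFd)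
      have h3 := Polynomial.natDegree_map_le (f := π) (p := G %ₘ F)
      rw [hFd] at h2
      change d ≤ _ at h1
      omega
    have hc : ∀ i, (G %ₘ F).coeff i ∈ m := fun i => by
      rw [← Ideal.Quotient.eq_zero_iff_mem]
      show π _ = 0
      rw [← Polynomial.coeff_map, hr1, Polynomial.coeff_zero]
    rw [← Polynomial.modByMonic_add_div G F, Polynomial.derivative_add, Polynomial.derivative_mul, map_add,
      map_add, map_mul, map_mul, hFu, zero_mul, add_zero]
    refine n.add_mem ?_ (n.mul_mem_right _ hF')
    rw [Polynomial.aeval_eq_sum_range]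
    refine Ideal.sum_mem _ fun i _ => ?_
    rw [Polynomial.coeff_derivative, Algebra.smul_def, map_mul]
    exact n.mul_mem_right _ (n.mul_mem_right _ (hmn (hc _)))
  choose P hP using hsur
  let D₀ : B → B ⧸ n := fun b => Ideal.Quotient.mk n (Polynomial.aeval u (P b).derivative)
  have hD₀ : ∀ (b : B) (Q : Polynomial A), Polynomial.aeval u Q = b →
      D₀ b = Ideal.Quotient.mk n (Polynomial.aeval u Q.derivative) := fun b Q hQ => by
    refine Ideal.Quotient.eq.mpr ?_
    rw [← map_sub, ← Polynomial.derivative_sub]
    exact key _ (by rw [map_sub, hP, hQ, sub_self])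
  let D₁ : B →ₗ[A] B ⧸ n :=
    { toFun := D₀
      map_add' := fun a b => by
        rw [hD₀ (a + b) (P a + P b) (by rw [map_add, hP, hP]), Polynomial.derivative_add, map_add, map_add]
      map_smul' := fun r b => by
        rw [hD₀ (r • b) (r • P b) (by rw [map_smul, hP]), Polynomial.derivative_smul, map_smul]
        rfl }
  let D : Derivation A B (B ⧸ n) := Derivation.mk' D₁ fun a b => by
    show D₀ (a * b) = a • D₀ b + b • D₀ a
    rw [hD₀ (a * b) (P a * P b) (by rw [map_mul, hP, hP]), Polynomial.derivative_mul, map_add, map_mul, map_mul, hP, hP,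
      map_add, map_mul, map_mul, Algebra.smul_def, Algebra.smul_def]
    show Ideal.Quotient.mk n _ * Ideal.Quotient.mk n b + Ideal.Quotient.mk n a * Ideal.Quotient.mk n _ =
      Ideal.Quotient.mk n a * D₀ b + Ideal.Quotient.mk n b * D₀ a
    ring
  have hD1 : D u = 1 := by
    show D₀ u = 1
    rw [hD₀ u Polynomial.X (Polynomial.aeval_X u), Polynomial.derivative_X, map_one, map_one]
  have hsupp : (⟨n, hn.isPrime⟩ : PrimeSpectrum B) ∈ (Module.support B (Ω[B⁄A]))ᶜ := by
    rw [← Algebra.unramifiedLocus_eq_compl_support]
    exact hun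
  obtain ⟨s, hs, hs0⟩ := Module.notMem_support_iff'.mp hsupp (KaehlerDifferential.D A B u)
  have h0 := congrArg D.liftKaehlerDifferential hs0
  rw [map_smul, map_zero, Derivation.liftKaehlerDifferential_comp_D, hD1, Algebra.smul_def, mul_one] at h0
  exact hs (Ideal.Quotient.eq_zero_iff_mem.mp h0)

end Groth.Agent.S5077
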