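import Groth.Statements.S5078
import Mathlib.RingTheory.AdicCompletion.Functoriality
import Mathlib.RingTheory.Finiteness.Cardinality

set_option autoImplicit false
universe u v
open Hensel

namespace Groth.Agent.S5078

/-- Let A be a ring, I an ideal such that A is I-adically separated and complete, and M a finitely
generated projective A-module. Then M is I-adically separated and complete. -/
theorem result {A : Type u} [CommRing A] (I : Ideal A) [IsAdicComplete I A]
    (M : Type v) [AddCommGroup M] [Module A M] [Module.Finite A M] [Module.Projective A M] :
    IsAdicComplete I M := by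
  obtain ⟨n, p, hp⟩ := Module.Finite.exists_fin' A M
  obtain ⟨s, hs⟩ := Module.projective_lifting_property p LinearMap.id hp
  rw [← AdicCompletion.of_bijective_iff]
  have hpi : Function.Bijective (AdicCompletion.of I (Fin n → A)) := by
    have hA : Function.Bijective (AdicCompletion.of I A) := AdicCompletion.of_bijective I A
    have heq : (AdicCompletion.piEquivOfFintype I (fun _ : Fin n => A)).toFun ∘ AdicCompletion.of I (Fin n → A) =
        fun v i => AdicCompletion.of I A (v i) := by
      funext v i
      refine AdicCompletion.ext fun {k} => ?_
      simp
      rfl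
    refine (Function.Bijective.of_comp_iff'
      (AdicCompletion.piEquivOfFintype I (fun _ : Fin n => A)).bijective _).mp ?_
    rw [show (⇑(AdicCompletion.piEquivOfFintype I fun _ : Fin n => A) ∘ ⇑(AdicCompletion.of I (Fin n → A))) = _ from heq]
    exact Function.Bijective.piMap fun _ => hA
  have hnat : ∀ x, AdicCompletion.map I s (AdicCompletion.of I M x) = AdicCompletion.of I _ (s x) :=
    fun x => AdicCompletion.ext fun {k} => by simp
  have hnatp : ∀ x, AdicCompletion.map I p (AdicCompletion.of I _ x) = AdicCompletion.of I M (p x) :=
    fun x => AdicCompletion.ext fun {k} => by simp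
  refine ⟨fun x y h => ?_, fun y => ?_⟩
  · have h1 := congrArg (AdicCompletion.map I s) h
    rw [hnat, hnat] at h1
    have := congrArg p (hpi.1 h1)
    rwa [show p (s x) = x from congr($hs x), show p (s y) = y from congr($hs y)] at this
  · obtain ⟨v, hv⟩ := hpi.2 (AdicCompletion.map I s y)
    refine ⟨p v, ?_⟩
    refine (hnatp v).symm.trans ?_
    rw [hv, AdicCompletion.map_comp_apply, hs, AdicCompletion.map_id]
    rfl

end Groth.Agent.S5078
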