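import Groth.Statements.S5079
import Groth.Agent.CAlgH3.PuncturedNormal

set_option autoImplicit false
open CategoryTheory AlgebraicGeometry Opposite
universe u
open Unram

set_option maxHeartbeats 1000000

namespace Groth.Agent.S5079

open CAlgH3.PuncturedNormal

variable {R : CommRingCat.{u}}

/-- Basic open as an open of the scheme. -/
abbrev D (h : R) : (Spec R).Opens := PrimeSpectrum.basicOpen h

theorem D_mul_left (h h' : R) : D (h * h') ≤ D h := PrimeSpectrum.basicOpen_mul_le_left h h'

theorem D_mul_right (h h' : R) : D (h * h') ≤ D h' := PrimeSpectrum.basicOpen_mul_le_right h h'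


theorem res_algebraMap {U V : (Spec R).Opens} (h : V ≤ U) (a : R) :
    ((Spec R).presheaf.map (homOfLE h).op).hom (algebraMap R Γ(Spec R, U) a) =
      algebraMap R Γ(Spec R, V) a := by
  rw [IsAffineOpen.algebraMap_Spec_obj, IsAffineOpen.algebraMap_Spec_obj]
  change ((Spec R).presheaf.map (homOfLE le_top).op ≫ (Spec R).presheaf.map (homOfLE h).op).hom _ = _
  rw [← Functor.map_comp]
  rfl

/-- Evaluation of sections on `D h` in a ring where `h` is a unit. -/
noncomputable def ev {T : Type u} [CommRing T] (g : R →+* T) (h : R) (hu : IsUnit (g h)) :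
    Γ(Spec R, D h) →+* T :=
  IsLocalization.Away.lift (g := g) (h : R) hu

theorem ev_algebraMap {T : Type u} [CommRing T] (g : R →+* T) (h : R) (hu : IsUnit (g h)) (a : R) :
    ev g h hu (algebraMap R Γ(Spec R, D h) a) = g a :=
  IsLocalization.Away.lift_eq _ hu a

theorem ev_res {T : Type u} [CommRing T] (g : R →+* T) (h h' : R) (hu : IsUnit (g h)) (hu' : IsUnit (g h'))
    (hle : D h' ≤ D h) :
    (ev g h' hu').comp ((Spec R).presheaf.map (homOfLE hle).op).hom = ev g h hu :=
  IsLocalization.ringHom_ext (Submonoid.powers (h : R)) (RingHom.ext fun a => by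
    simp only [RingHom.comp_apply]
    rw [ev_algebraMap, res_algebraMap, ev_algebraMap])

theorem comp_ev {T T' : Type u} [CommRing T] [CommRing T'] (g : R →+* T) (j : T →+* T') (g' : R →+* T') (hj : j.comp g = g')
    (h : R) (hu : IsUnit (g h)) (hu' : IsUnit (g' h)) :
    j.comp (ev g h hu) = ev g' h hu' :=
  IsLocalization.ringHom_ext (Submonoid.powers (h : R)) (RingHom.ext fun a => by
    simp only [RingHom.comp_apply]
    rw [ev_algebraMap, ev_algebraMap]
    exact RingHom.congr_fun hj a)

theorem ev_res_eq {T : Type u} [CommRing T] (g : R →+* T) {U : (Spec R).Opens} (s : Γ(Spec R, U)) (h h' : R)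
    (hu : IsUnit (g h)) (hu' : IsUnit (g h')) (hhU : D h ≤ U) (hhU' : D h' ≤ U) :
    ev g h hu (((Spec R).presheaf.map (homOfLE hhU).op).hom s) =
      ev g h' hu' (((Spec R).presheaf.map (homOfLE hhU').op).hom s) := by
  have hu'' : IsUnit (g (h * h')) := by rw [map_mul]; exact hu.mul hu'
  rw [← ev_res g h (h * h') hu hu'' (D_mul_left h h'),
    ← ev_res g h' (h * h') hu' hu'' (D_mul_right h h')]
  simp only [RingHom.comp_apply, ← CommRingCat.comp_apply, ← Functor.map_comp]
  rfl


theorem core (R : CommRingCat.{u}) [IsNoetherianRing R] [IsLocalRing R] [_root_.IsReduced R]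
    (hdim : ∀ (m' : Ideal ↥(integralClosure R (FractionRing R))) [m'.IsMaximal],
      m'.comap (algebraMap R ↥(integralClosure R (FractionRing R))) = IsLocalRing.maximalIdeal R →
        2 ≤ ringKrullDim (Localization.AtPrime m')) :
    (((Spec R).presheaf.map (homOfLE (le_top : FEt.puncturedSpec R ≤ (⊤ : (Spec R).Opens))).op).hom.comp
        (Scheme.ΓSpecIso R).inv.hom).IsIntegral ∧
      ∃ φ : Γ(Spec R, FEt.puncturedSpec R) →+* ↥(integralClosure R (FractionRing R)),
        Function.Injective φ ∧
          φ.comp (((Spec R).presheaf.map (homOfLE (le_top : FEt.puncturedSpec R ≤ (⊤ : (Spec R).Opens))).op).hom.comp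
            (Scheme.ΓSpecIso R).inv.hom) = algebraMap R ↥(integralClosure R (FractionRing R)) := by
  classical
  let X := Spec R
  let U : X.Opens := FEt.puncturedSpec R
  let K := FractionRing R
  have hfinP := minimalPrimes.finite_of_isNoetherianRing R
  have hpm : ∀ p ∈ minimalPrimes R, ¬ IsLocalRing.maximalIdeal R ≤ p := by
    intro p hp hle
    have := hp.1.1
    have heq : p = IsLocalRing.maximalIdeal R := le_antisymm (IsLocalRing.le_maximalIdeal hp.1.1.ne_top) hle
    obtain ⟨q, hq⟩ := Ideal.exists_maximal ↥(integralClosure R (FractionRing R))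
    have hqA : q.comap (algebraMap R ↥(integralClosure R (FractionRing R))) = IsLocalRing.maximalIdeal R :=
      IsLocalRing.eq_maximalIdeal (Ideal.isMaximal_comap_of_isIntegral_of_isMaximal' (algebraMap R ↥(integralClosure R (FractionRing R))) (fun x => Algebra.IsIntegral.isIntegral x) q)
    have h2 := hdim q hqA
    have hq0 : q.height = 0 := Ideal.height_eq_zero_iff.2 ⟨⟨hq.isPrime, bot_le⟩, fun Q hQ hQq => by
      have hQp : (Q.comap (algebraMap R ↥(integralClosure R (FractionRing R)))).IsPrime := hQ.1.comap _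
      have hle' : Q.comap (algebraMap R ↥(integralClosure R (FractionRing R))) ≤ p :=
        (Ideal.comap_mono hQq).trans (hqA.le.trans hle)
      have hQmax : Q.IsMaximal := by
        have := hQ.1
        refine Ideal.isMaximal_of_isIntegral_of_isMaximal_comap (R := (R : Type u)) Q ?_
        rw [le_antisymm hle' (hp.2 ⟨hQp, bot_le⟩ hle'), heq]
        exact IsLocalRing.maximalIdeal.isMaximal R
      exact (hQmax.eq_of_le hq.ne_top hQq).ge⟩
    rw [IsLocalization.AtPrime.ringKrullDim_eq_height q (Localization.AtPrime q), hq0] at h2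
    exact absurd h2 (by norm_num)
  have hex : ¬ ((IsLocalRing.maximalIdeal R : Set R) ⊆ ⋃ p ∈ (hfinP.toFinset : Set (Ideal R)), (p : Set R)) := fun h => by
    obtain ⟨p, hp, hle⟩ := (Ideal.subset_union_prime (f := id) ⊥ ⊥ fun p hp _ _ => (hfinP.mem_toFinset.1 hp).1.1).1 h
    exact hpm p (hfinP.mem_toFinset.1 hp) hle
  obtain ⟨f, hfm, hf⟩ := Set.not_subset.1 hex
  have hfp : ∀ p ∈ minimalPrimes R, f ∉ p := fun p hp h => hf (Set.mem_biUnion (hfinP.mem_toFinset.2 hp) h)
  have hfreg : f ∈ nonZeroDivisors R := mem_nonZeroDivisors_iff_left.2 fun y hy => by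
    have hy' : y ∈ sInf (Ideal.minimalPrimes (⊥ : Ideal R)) := Ideal.mem_sInf.2 fun {q} hq =>
      (hq.1.1.mem_or_mem (x := f) (y := y) (by rw [hy]; exact q.zero_mem)).resolve_left (hfp q hq)
    rw [Ideal.sInf_minimalPrimes] at hy'
    obtain ⟨n, hn⟩ := hy'
    exact IsNilpotent.eq_zero ⟨n, hn⟩
  have hDU : ∀ g ∈ IsLocalRing.maximalIdeal R, (D g) ≤ U := by
    intro g hg x hx (hxm : x = IsLocalRing.closedPoint R)
    subst hxm
    exact hx hg
  let res : ∀ g (hg : g ∈ IsLocalRing.maximalIdeal R), Γ(X, U) →+* Γ(X, D g) := fun g hg =>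
    (X.presheaf.map (homOfLE (hDU g hg)).op).hom
  have hu : IsUnit (algebraMap R K f) := IsLocalization.map_units K (⟨f, hfreg⟩ : nonZeroDivisors R)
  let φ₀ : Γ(X, U) →+* K := (ev (algebraMap R K) f hu).comp (res f hfm)
  have hinj : Function.Injective φ₀ := by
    have hev : Function.Injective (ev (algebraMap R K) f hu) := by
      refine (IsLocalization.lift_injective_iff (M := Submonoid.powers f) _).2 fun a b => ⟨fun h => ?_, fun h => congrArg _ (IsFractionRing.injective R K h)⟩
      obtain ⟨⟨c, n, rfl⟩, hc⟩ := IsLocalization.exists_of_eq (M := Submonoid.powers (f : R)) h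
      exact congrArg (algebraMap R K) ((mul_cancel_left_mem_nonZeroDivisors (pow_mem hfreg n)).1 hc)
    rw [injective_iff_map_eq_zero]
    intro s hs
    have hsf : res f hfm s = 0 := (map_eq_zero_iff _ hev).1 hs
    refine X.sheaf.eq_of_locally_eq' (fun g : IsLocalRing.maximalIdeal R => (D g.1)) U
      (fun g => homOfLE (hDU g.1 g.2)) ?_ s 0 fun g => ?_
    · intro x hx
      obtain ⟨g, hg, hgx⟩ := SetLike.not_le_iff_exists.1 (fun hle : IsLocalRing.maximalIdeal R ≤ x.asIdeal =>
        hx (PrimeSpectrum.ext ((IsLocalRing.maximalIdeal.isMaximal R).eq_of_le x.isPrime.ne_top hle).symm))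
      exact TopologicalSpace.Opens.mem_iSup.2 ⟨⟨g, hg⟩, hgx⟩
    · rw [map_zero]
      change res g.1 g.2 s = 0
      obtain ⟨⟨b, c, n, rfl⟩, hb⟩ := IsLocalization.surj (Submonoid.powers g.1) (res g.1 g.2 s)
      have hfg : (D (g.1 * f)) ≤ D g.1 := D_mul_left _ _
      have hfg' : (D (g.1 * f)) ≤ D f := D_mul_right _ _
      have h0 : (X.presheaf.map (homOfLE hfg).op).hom (res g.1 g.2 s) = 0 := by
        have h := congrArg (X.presheaf.map (homOfLE hfg').op).hom hsf
        rw [map_zero] at h
        rw [← h]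
        simp only [res, ← CommRingCat.comp_apply, ← Functor.map_comp]
        rfl
      have hb' := congrArg (X.presheaf.map (homOfLE hfg).op).hom hb
      rw [map_mul, h0, zero_mul, res_algebraMap] at hb'
      obtain ⟨⟨d, k, rfl⟩, hd⟩ := (IsLocalization.map_eq_zero_iff (Submonoid.powers ((g.1 * f : R) : R)) _ b).1 hb'.symm
      have hd' : f ^ k * (g.1 ^ k * b) = 0 := by
        rw [← mul_assoc, ← mul_pow, mul_comm f]
        exact hd
      have hgb : g.1 ^ k * b = 0 := (mem_nonZeroDivisors_iff_left.1 (pow_mem hfreg k)) _ hd'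
      have hb0 : algebraMap (R) Γ(X, D g.1) b = 0 :=
        (IsLocalization.map_eq_zero_iff (Submonoid.powers (g.1 : R)) _ b).2 ⟨⟨_, k, rfl⟩, hgb⟩
      rw [hb0] at hb
      exact (IsLocalization.map_units Γ(X, D g.1) (⟨_, n, rfl⟩ : Submonoid.powers (g.1 : R))).mul_left_eq_zero.1 hb
  have hint : ∀ s, IsIntegral R (φ₀ s) := by
    intro s
    refine isIntegral_of_pow R hdim (φ₀ s) fun p _ hp a ha => ?_
    let g' := algebraMap R (FractionRing (R ⧸ p))
    have hup : IsUnit (g' f) := isUnit_iff_ne_zero.2 fun h => hfp p hp ((algebraMap_eq_zero_iff R p f).1 h)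
    by_cases hap : a ∈ p
    · exact ⟨1, 0, by rw [(algebraMap_eq_zero_iff R p a).2 hap, map_zero, pow_one, zero_mul]⟩
    have hua : IsUnit (g' a) := isUnit_iff_ne_zero.2 fun h => hap ((algebraMap_eq_zero_iff R p a).1 h)
    have hx : proj R p hp (φ₀ s) = ev g' a hua (res a ha s) := by
      change _ = ev g' a hua ((X.presheaf.map (homOfLE (hDU a ha)).op).hom s)
      rw [ev_res_eq g' s a f hua hup (hDU a ha) (hDU f hfm)]
      exact RingHom.congr_fun (comp_ev (algebraMap R K) (proj R p hp) g' (RingHom.ext (proj_algebraMap R p hp)) f hu hup) _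
    obtain ⟨⟨b, c, n, rfl⟩, hb⟩ := IsLocalization.surj (Submonoid.powers a) (res a ha s)
    refine ⟨n, b, ?_⟩
    have h := congrArg (ev g' a hua) hb
    rw [map_mul, ev_algebraMap, ev_algebraMap, ← hx, map_pow, mul_comm] at h
    exact h
  have hρ : ∀ a : R, φ₀ (((X.presheaf.map (homOfLE (le_top : U ≤ ⊤)).op).hom.comp
      (Scheme.ΓSpecIso (R)).inv.hom) a) = algebraMap R K a := by
    intro a
    change ev (algebraMap R K) f hu (res f hfm (algebraMap (R) Γ(X, U) a)) = _
    rw [res_algebraMap, ev_algebraMap]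
  let φ : Γ(X, U) →+* ↥(integralClosure R (FractionRing R)) := φ₀.codRestrict (integralClosure R (FractionRing R)) hint
  refine ⟨fun s => ?_, φ, fun s t h => hinj (congrArg Subtype.val h), RingHom.ext fun a => Subtype.ext (hρ a)⟩
  obtain ⟨P, hPm, hP⟩ := hint s
  refine ⟨P, hPm, hinj ?_⟩
  rw [Polynomial.hom_eval₂, map_zero, RingHom.ext (f := φ₀.comp _) hρ]
  exact hP

/-- Let A be a reduced Noetherian local ring, A' the integral closure of A in its total ring of
fractions and U the punctured spectrum of A. Assume that for every maximal ideal m' of A' lying over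
the maximal ideal of A the local ring A'_{m'} has dimension at least 2. Then, writing ρ for the
restriction map A = Γ(Spec A, O) → Γ(U, O), the ring Γ(U, O) is integral over A via ρ and there is
an injective ring homomorphism Γ(U, O) → A' compatible with ρ and the inclusion of A in A'. -/
theorem result (A : Type u) [CommRing A] [IsNoetherianRing A]
    [IsLocalRing A] [IsReduced A]
    (hdim : ∀ (m' : Ideal ↥(integralClosure A (FractionRing A))) [m'.IsMaximal],
      m'.comap (algebraMap A ↥(integralClosure A (FractionRing A))) = IsLocalRing.maximalIdeal A →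
        2 ≤ ringKrullDim (Localization.AtPrime m')) :
    (((Spec (CommRingCat.of A)).presheaf.map (homOfLE (le_top : FEt.puncturedSpec A ≤ ⊤)).op).hom.comp
        (Scheme.ΓSpecIso (CommRingCat.of A)).inv.hom).IsIntegral ∧
      ∃ φ : ↑((Spec (CommRingCat.of A)).presheaf.obj (op (FEt.puncturedSpec A))) →+* ↥(integralClosure A (FractionRing A)),
        Function.Injective φ ∧
          φ.comp (((Spec (CommRingCat.of A)).presheaf.map (homOfLE (le_top : FEt.puncturedSpec A ≤ ⊤)).op).hom.comp
            (Scheme.ΓSpecIso (CommRingCat.of A)).inv.hom) = algebraMap A ↥(integralClosure A (FractionRing A)) := by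
  exact core (CommRingCat.of A) hdim

end Groth.Agent.S5079
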