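import Groth.Statements.S5081
import Mathlib.RingTheory.Unramified.Basic
import Mathlib.RingTheory.Ideal.IdempotentFG
import Mathlib.RingTheory.Localization.Away.Basic
import Mathlib.RingTheory.Kaehler.Polynomial
import Mathlib.RingTheory.AdjoinRoot

set_option autoImplicit false
universe u
open Unram

namespace Groth.Agent.S5081
open TensorProduct

/-- Let B be a finite A-algebra generated by a single element u and F a polynomial with coefficients in
A such that F(u) = 0. Then the ideal generated by F'(u) is contained in the annihilator of the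
module of differentials of B over A, and equals it when the kernel of the surjection A[T] → B
sending T to u is generated by F. -/
theorem result (A B : Type u) [CommRing A] [CommRing B] [Algebra A B]
    [Module.Finite A B] (u : B) (hu : Algebra.adjoin A ({u} : Set B) = ⊤) (F : Polynomial A) (hF : Polynomial.aeval u F = 0) :
    Ideal.span {Polynomial.aeval u (Polynomial.derivative F)} ≤ Module.annihilator B (KaehlerDifferential A B) ∧
      (RingHom.ker (Polynomial.aeval u : Polynomial A →ₐ[A] B) = Ideal.span {F} →
        Module.annihilator B (KaehlerDifferential A B) = Ideal.span {Polynomial.aeval u (Polynomial.derivative F)}) := by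
  have hspan : ∀ m : Ω[B⁄A], ∃ b : B, b • KaehlerDifferential.D A B u = m := by
    intro m
    have hm : m ∈ (⊤ : Submodule B Ω[B⁄A]) := trivial
    rw [← KaehlerDifferential.span_range_derivation A B] at hm
    have hle : Submodule.span B (Set.range (KaehlerDifferential.D A B)) ≤ Submodule.span B {KaehlerDifferential.D A B u} := by
      rw [Submodule.span_le]
      rintro _ ⟨b, rfl⟩
      obtain ⟨q, rfl⟩ : b ∈ (Polynomial.aeval u : Polynomial A →ₐ[A] B).range := by
        rw [← Algebra.adjoin_singleton_eq_range_aeval, hu]; trivial
      refine Submodule.mem_span_singleton.mpr ⟨Polynomial.aeval u (Polynomial.derivative q), ?_⟩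
      exact ((KaehlerDifferential.D A B).map_aeval q u).symm
    exact Submodule.mem_span_singleton.mp (hle hm)
  have h1 : Ideal.span {Polynomial.aeval u (Polynomial.derivative F)} ≤ Module.annihilator B Ω[B⁄A] := by
    rw [Ideal.span_le, Set.singleton_subset_iff, SetLike.mem_coe, Module.mem_annihilator]
    intro m
    obtain ⟨b, rfl⟩ := hspan m
    rw [smul_comm, ← (KaehlerDifferential.D A B).map_aeval F u, hF, map_zero, smul_zero]
  refine ⟨h1, fun hker => le_antisymm (fun b hb => ?_) h1⟩
  let J := Ideal.span {Polynomial.aeval u (Polynomial.derivative F)}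
  let P : Polynomial A →+* B ⧸ J := (Ideal.Quotient.mk J).comp (Polynomial.aeval u : Polynomial A →ₐ[A] B).toRingHom
  have hsurj : Function.Surjective (Polynomial.aeval u : Polynomial A →ₐ[A] B) :=
    (AlgHom.range_eq_top _).mp ((Algebra.adjoin_singleton_eq_range_aeval A u).symm.trans hu)
  choose s hs using hsurj
  have key : ∀ q, Polynomial.aeval u q = 0 → P (Polynomial.derivative q) = 0 := fun q hq => by
    have hqm : q ∈ Ideal.span {F} := hker ▸ (RingHom.mem_ker (f := (Polynomial.aeval u : Polynomial A →ₐ[A] B))).mpr hq
    obtain ⟨c, rfl⟩ := Ideal.mem_span_singleton'.mp hqm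
    rw [Polynomial.derivative_mul, map_add, map_mul, map_mul]
    have hPF : P F = 0 := by simp [P, hF]
    have hPF' : P (Polynomial.derivative F) = 0 :=
      Ideal.Quotient.eq_zero_iff_mem.mpr (Ideal.mem_span_singleton_self _)
    simp [hPF, hPF']
  let d : B → B ⧸ J := fun b => P (Polynomial.derivative (s b))
  have hd : ∀ q, d (Polynomial.aeval u q) = P (Polynomial.derivative q) := fun q => by
    have := key (s (Polynomial.aeval u q) - q) (by simp [hs])
    simpa [d, map_sub, sub_eq_zero] using this
  let D : Derivation A B (B ⧸ J) :=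
    { toFun := d
      map_add' := fun x y => by
        obtain ⟨p, rfl⟩ := (⟨s x, hs x⟩ : ∃ p, Polynomial.aeval u p = x)
        obtain ⟨q, rfl⟩ := (⟨s y, hs y⟩ : ∃ q, Polynomial.aeval u q = y)
        rw [← map_add, hd, hd, hd, map_add, map_add]
      map_smul' := fun a x => by
        obtain ⟨p, rfl⟩ := (⟨s x, hs x⟩ : ∃ p, Polynomial.aeval u p = x)
        rw [← map_smul, hd, RingHom.id_apply, hd, Polynomial.derivative_smul]
        simp [P, Algebra.smul_def]
      map_one_eq_zero' := by
        show d 1 = 0
        rw [← map_one (Polynomial.aeval u : Polynomial A →ₐ[A] B), hd, Polynomial.derivative_one, map_zero]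
      leibniz' := fun x y => by
        obtain ⟨p, rfl⟩ := (⟨s x, hs x⟩ : ∃ p, Polynomial.aeval u p = x)
        obtain ⟨q, rfl⟩ := (⟨s y, hs y⟩ : ∃ q, Polynomial.aeval u q = y)
        show d _ = _ • d _ + _ • d _
        rw [← map_mul, hd, hd, hd, Polynomial.derivative_mul, map_add, map_mul, map_mul, Algebra.smul_def, Algebra.smul_def]
        simp only [P, Ideal.Quotient.algebraMap_eq, RingHom.comp_apply, AlgHom.toRingHom_eq_coe, RingHom.coe_coe]
        ring }
  have h2 := congrArg D.liftKaehlerDifferential (Module.mem_annihilator.mp hb (KaehlerDifferential.D A B u))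
  rw [map_smul, Derivation.liftKaehlerDifferential_comp_D, map_zero] at h2
  have hDu : D u = 1 := by
    show d u = 1
    conv_lhs => rw [← Polynomial.aeval_X (R := A) u]
    rw [hd, Polynomial.derivative_X, map_one]
  rw [hDu, Algebra.smul_def, mul_one] at h2
  exact Ideal.Quotient.eq_zero_iff_mem.mp h2

end Groth.Agent.S5081
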