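import Groth.Statements.S5082
import Groth.Agent.MeroLib.Torsion

set_option autoImplicit false
universe u
open CategoryTheory CategoryTheory.Limits AlgebraicGeometry TopologicalSpace
open Mero

namespace Groth.Agent.S5082

open Groth.Agent.MeroLib

/-- Let A be a Noetherian local ring. Then the group of divisors of Spec A is trivial (every divisor
equals the unit divisor, divisors being written multiplicatively) if and only if A has depth 0, that
is, if and only if every element of the maximal ideal of A is a zero-divisor. -/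
theorem result (A : Type u) [CommRing A] [IsNoetherianRing A] [IsLocalRing A] :
    (∀ D : Mero.Divisor (Spec (CommRingCat.of A)), D = 1) ↔ LocCoh.depth A A = 0 := by
  let x0 : Spec (CommRingCat.of A) := ⟨IsLocalRing.maximalIdeal A, (IsLocalRing.maximalIdeal.isMaximal A).isPrime⟩
  letI : Algebra A ((Spec (CommRingCat.of A)).presheaf.stalk x0) := (StructureSheaf.toStalk A x0).hom.toAlgebra
  haveI : IsLocalization.AtPrime ((Spec (CommRingCat.of A)).presheaf.stalk x0) x0.asIdeal :=
    StructureSheaf.IsLocalization.to_stalk A x0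
  let e := IsLocalization.atUnits A x0.asIdeal.primeCompl (S := (Spec (CommRingCat.of A)).presheaf.stalk x0)
    (fun a ha => IsLocalRing.notMem_maximalIdeal.1 ha)
  have htop : ∀ U : (Spec (CommRingCat.of A)).Opens, x0 ∈ U → ∀ y, y ∈ U := fun U hU y =>
    (show y ⤳ x0 from (PrimeSpectrum.le_iff_specializes _ _).1 (IsLocalRing.le_maximalIdeal y.2.ne_top)).mem_open U.isOpen hU
  rw [Groth.Agent.CAlgH3.depth_eq_zero_iff]
  constructor
  · intro h
    by_contra hm
    obtain ⟨a, ham, hreg⟩ := Groth.Agent.CAlgH3.exists_regular_iff_notMem_associatedPrimes.2 hm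
    have hau : ¬ IsUnit (e a) := fun hu => (IsLocalRing.mem_maximalIdeal a).1 ham
      (by simpa using hu.map e.symm)
    let W : (Spec (CommRingCat.of A)).Opens := ⊤
    let a' : Γ(Spec (CommRingCat.of A), W) := (Scheme.ΓSpecIso (CommRingCat.of A)).inv a
    have haA : a ∈ nonZeroDivisors A :=
      mem_nonZeroDivisors_iff_right.2 fun z hz => hreg.right_eq_zero_of_smul ((mul_comm a z).trans hz)
    have hb : a' ∈ Mero.regSub (Spec (CommRingCat.of A)) W := by
      rw [regSub_eq_of_isAffineOpen (isAffineOpen_top _)]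
      exact (MulEquivClass.map_nonZeroDivisors (Scheme.ΓSpecIso (CommRingCat.of A)).commRingCatIsoToRingEquiv.symm).le
        (Submonoid.mem_map_of_mem _ haA)
    let u := fracUnit ⟨a', hb⟩ (1 : Mero.regSub (Spec (CommRingCat.of A)) W)
    have hD := h ⟨fun x => Mero.germOf u ⟨x, trivial⟩, fun x => ⟨W, trivial, u, fun y => rfl⟩⟩
    obtain ⟨v, hv⟩ := (germ_eq_one_iff_fracUnit (W := W) ⟨a', hb⟩ 1 ⟨x0, trivial⟩).1 (congrArg (fun E : Mero.Divisor (Spec (CommRingCat.of A)) => E.1 x0) hD)
    rw [OneMemClass.coe_one, map_one, mul_one] at hv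
    refine hau ?_
    have : e a = (Spec (CommRingCat.of A)).presheaf.germ W x0 trivial a' := rfl
    rw [this, hv]
    exact v.isUnit
  · intro hm D
    obtain ⟨W, -, hxW, a, b, hab⟩ := exists_divisor_fraction D x0
    have hass : IsAssociatedPrime (IsLocalRing.maximalIdeal A) A := hm
    have hu : ∀ c : Mero.regSub (Spec (CommRingCat.of A)) W,
        IsUnit ((Spec (CommRingCat.of A)).presheaf.germ W x0 hxW c.1) := fun c => by
      obtain ⟨c', hc'⟩ := e.surjective ((Spec (CommRingCat.of A)).presheaf.germ W x0 hxW c.1)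
      have hn : c' ∈ nonZeroDivisors A := by
        rw [mem_nonZeroDivisors_iff_right]
        intro z hz
        refine e.injective ((mem_nonZeroDivisors_iff_right.1 (c.2 ⟨x0, hxW⟩) (e z) ?_).trans (map_zero e).symm)
        rw [← hc', ← map_mul, hz, map_zero]
      rw [← hc']
      exact (isUnit_of_regular_of_assoc hass hn).map e
    refine Subtype.ext (funext fun y => (hab y (htop W hxW y)).trans ?_)
    have hyu : ∀ c : Mero.regSub (Spec (CommRingCat.of A)) W,
        IsUnit ((Spec (CommRingCat.of A)).presheaf.germ W y (htop W hxW y) c.1) := fun c =>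
      (Scheme.mem_basicOpen _ c.1 y (htop W hxW y)).1
        (htop _ ((Scheme.mem_basicOpen _ c.1 x0 hxW).2 (hu c)) y)
    exact (germ_eq_one_iff_fracUnit a b ⟨y, htop W hxW y⟩).2
      ⟨(hyu a).unit * (hyu b).unit⁻¹, by rw [Units.val_mul, IsUnit.unit_spec, mul_assoc, IsUnit.val_inv_mul, mul_one]⟩

end Groth.Agent.S5082
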