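import Groth.Statements.S5083
import Groth.Agent.MeroLib.OfMero

set_option autoImplicit false
universe u
open CategoryTheory CategoryTheory.Limits AlgebraicGeometry TopologicalSpace
open Mero

namespace Groth.Agent.S5083

open Groth.Agent.MeroLib

/-- Let X be a scheme and D, D' divisors on X (global sections of the sheaf of units of K_X modulo units
of O_X, written multiplicatively). If D and D' are linearly equivalent, i.e. D · D'⁻¹ is the divisor
of a unit of the ring of global sections of K_X, then the O_X-modules O_X(D) and O_X(D') are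
isomorphic. (The published statement is an equivalence: O_X(D) and O_X(D') are isomorphic if and
only if D and D' are linearly equivalent; this row states only that linearly equivalent divisors
have isomorphic modules.) -/
theorem result (X : Scheme.{u}) (D D' : Mero.Divisor X) (h : Mero.LinEquiv D D') :
    Nonempty (Mero.divMod D ≅ Mero.divMod D') := by
  obtain ⟨f, hf⟩ := h
  have hDD : ∀ x, D.1 x = D'.1 x * Mero.germOf f ⟨x, TopologicalSpace.Opens.mem_top x⟩ := fun x => by
    have h1 := congrArg (fun E : Mero.Divisor X => E.1 x) hf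
    change D.1 x * (D'.1 x)⁻¹ = _ at h1
    rw [mul_inv_eq_iff_eq_mul] at h1
    rw [h1]
    exact @mul_comm (Mero.Germ X x) _ _ _
  choose U hUa hxU a b hab using exists_divisor_fraction D'
  choose s hs hgen using fun x => exists_gen_divMod D' (fracUnit (a x) (b x)) (fun y => hab x y.1 y.2)
  obtain ⟨e⟩ := nonempty_iso_divMod D U hxU s hgen (fun x => fracUnit (a x) (b x) * resU le_top f)
    (fun x y => by
      rw [hDD, hab x y.1 y.2]
      refine Eq.trans ?_ (congrArg QuotientGroup.mk (map_mul (Units.map (Mero.evalK X (U x) y).toMonoidHom) _ _).symm)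
      exact (QuotientGroup.mk_mul _ _ _).symm)
    (fun i j W hi hj c hc => by
      have h2 := congrArg ((Mero.divModι D').app W) hc
      rw [Scheme.Modules.Hom.app_smul, Groth.Agent.Coherent.app_resM, Groth.Agent.Coherent.app_resM, hs, hs] at h2
      have h3 := h2.trans (smul_eq_toK_mul _ _)
      change ((resU hi (fracUnit (a i) (b i)))⁻¹ : (Γ(Mero.kmod X, W))ˣ).val =
        Mero.toK X W c * ((resU hj (fracUnit (a j) (b j)))⁻¹ : (Γ(Mero.kmod X, W))ˣ).val at h3
      rw [Units.eq_mul_inv_iff_mul_eq, Units.inv_mul_eq_iff_eq_mul] at h3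
      refine Subtype.ext (funext fun y => ?_)
      have h4 := congrArg (fun g : Γ(Mero.kmod X, W) => g.1 y) h3
      simp only [Mero.kmod_mul_apply] at h4 ⊢
      rw [resU_val, resU_val] at h4 ⊢
      show (fracUnit (a j) (b j) : Γ(Mero.kmod X, U j)).1 ⟨y.1, hj y.2⟩ * f.val.1 ⟨y.1, trivial⟩ =
        _ * ((fracUnit (a i) (b i) : Γ(Mero.kmod X, U i)).1 ⟨y.1, hi y.2⟩ * f.val.1 ⟨y.1, trivial⟩)
      rw [h4]
      ring)
  exact ⟨e.symm⟩

end Groth.Agent.S5083
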