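import Groth.Statements.S5085
import Groth.Agent.MeroLib.Noeth

set_option autoImplicit false
universe u
open CategoryTheory CategoryTheory.Limits AlgebraicGeometry TopologicalSpace
open Mero

namespace Groth.Agent.S5085

open Groth.Agent.MeroLib

/-- Let X be a scheme, U an open subset and V an open subset of U which is schematically dense in U (for
every open W ⊆ U, restriction of functions from W to W ∩ V is injective). Then restriction of
sections of the sheaf of meromorphic functions K_X from U to V is injective: the canonical map from
meromorphic functions to pseudo-functions is injective. -/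
theorem result (X : Scheme.{u}) (U V : X.Opens) (hVU : V ≤ U)
    (hV : ∀ W : X.Opens, W ≤ U →
      Function.Injective ⇑(X.presheaf.map (homOfLE (inf_le_left : W ⊓ V ≤ W)).op)) :
    Function.Injective ⇑((Mero.kmod X).presheaf.map (homOfLE hVU).op) := by
  intro s s' h
  refine sub_eq_zero.1 ?_
  have hd : (Mero.kmod X).presheaf.map (homOfLE hVU).op (s - s') = 0 := by rw [map_sub]; exact sub_eq_zero.2 h
  generalize s - s' = d at hd
  refine Subtype.ext (funext fun x => ?_)
  obtain ⟨W, hWU, -, hxW, a, b, w⟩ := exists_fraction d x.2
  have ha : a = 0 := hV W hWU (by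
    rw [map_zero]
    refine Groth.Agent.MeroLib.section_ext fun y hy => Mero.algebraMap_KStalk_injective y ?_
    rw [TopCat.Presheaf.germ_res_apply]
    rw [map_zero, map_zero]
    refine (w y hy.1).symm.trans ?_
    rw [show d.1 ⟨y, hWU hy.1⟩ = 0 from congrArg (fun g : Γ(Mero.kmod X, V) => g.1 ⟨y, hy.2⟩) hd, zero_mul])
  have hx := w x.1 hxW
  rw [ha, map_zero, map_zero] at hx
  exact (isUnit_algebraMap_germ b ⟨x.1, hxW⟩).mul_left_eq_zero.1 hx

end Groth.Agent.S5085
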