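import Groth.Statements.S5086
import Groth.Agent.MeroLib.Extend

set_option autoImplicit false
universe u
open CategoryTheory CategoryTheory.Limits AlgebraicGeometry TopologicalSpace
open Mero

namespace Groth.Agent.S5086

open Groth.Agent.MeroLib

/-- Let X be a scheme which is either locally Noetherian, or reduced with locally finite set of
irreducible components (every point has an open neighbourhood meeting only finitely many irreducible
components). Let U be an open subset, V an open subset of U schematically dense in U (restriction of
functions from every open W ⊆ U to W ∩ V is injective) and g a function on V. Then there is a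
section of the sheaf of meromorphic functions K_X over U whose restriction to V is g/1; with part
(i), meromorphic functions over U are exactly the pseudo-functions on U. -/
theorem result (X : Scheme.{u})
    (hX : IsLocallyNoetherian X ∨ (IsReduced X ∧ ∀ x : ↥X, ∃ W : X.Opens, x ∈ W ∧
      {Z : Set ↥X | Z ∈ irreducibleComponents ↥X ∧ (Z ∩ (W : Set ↥X)).Nonempty}.Finite))
    (U V : X.Opens) (hVU : V ≤ U)
    (hV : ∀ W : X.Opens, W ≤ U →
      Function.Injective ⇑(X.presheaf.map (homOfLE (inf_le_left : W ⊓ V ≤ W)).op))
    (g : Γ(X, V)) :
    ∃ s : Γ(Mero.kmod X, U), (Mero.kmod X).presheaf.map (homOfLE hVU).op s = Mero.toK X V g := by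
  rcases hX with hN | ⟨hR, hfin⟩
  · haveI := hN
    obtain ⟨s, hs⟩ := exists_extend hVU hV (fun W hW => finite_weakPts_of_noetherian hW)
      (fun y hy hyw => mem_of_weak_of_noetherian hV hy hyw) g
    exact ⟨s, Subtype.ext (funext fun y => (hs y.1 y.2).trans (toK_val g y).symm)⟩
  · haveI := hR
    have hmax : ∀ y : X, y ∈ weakPts X ↔ ∀ z : X, z ⤳ y → z = y :=
      Groth.Agent.SDiv28.isWeakAssPoint_structureModule_iff_reduced
    have hf : ∀ W : X.Opens, IsAffineOpen W → {y | y ∈ W ∧ y ∈ weakPts X}.Finite := fun W hW => by
      simp only [hmax]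
      exact finite_maxPts_of_locallyFinite hfin hW
    obtain ⟨s, hs⟩ := exists_extend hVU hV hf
      (fun y hy hyw => mem_of_max_of_reduced hV hy ((hmax y).1 hyw) (fun W hW => finite_maxPts_of_locallyFinite hfin hW)) g
    exact ⟨s, Subtype.ext (funext fun y => (hs y.1 y.2).trans (toK_val g y).symm)⟩

end Groth.Agent.S5086
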