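import Groth.Statements.S5097
import Groth.Agent.MeroLib.Noeth

set_option autoImplicit false
universe u
open CategoryTheory CategoryTheory.Limits AlgebraicGeometry TopologicalSpace
open Mero

namespace Groth.Agent.S5097

open Groth.Agent.MeroLib

/-- Injectivity of the canonical homomorphism from divisors to invertible fractional ideals: let X be a
scheme and D, D' two divisors on X such that, over every open subset U, a section t of the sheaf of
meromorphic functions lies in O_X(D) (t_x · g ∈ O_{X,x} for a representative g of the germ of D at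
x, for all x in U) if and only if it lies in O_X(D'). Then D = D'. -/
theorem result (X : Scheme.{u}) (D D' : Mero.Divisor X)
    (h : ∀ (U : X.Opens) (t : Γ(Mero.kmod X, U)),
      (∀ x : ↥U, Mero.DivCond D x.1 (t.1 x)) ↔ (∀ x : ↥U, Mero.DivCond D' x.1 (t.1 x))) :
    D = D' := by
  refine Subtype.ext (funext fun x => ?_)
  obtain ⟨W, -, hxW, a, b, hab⟩ := exists_divisor_fraction D x
  obtain ⟨W', -, hxW', a', b', hab'⟩ := exists_divisor_fraction D' x
  have key : ∀ (E E' : Mero.Divisor X) (U : X.Opens) (hxU : x ∈ U) (g : (Γ(Mero.kmod X, U))ˣ) (g' : (Mero.KStalk X x)ˣ),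
      (∀ y : U, E.1 y.1 = Mero.germOf g y) → E'.1 x = QuotientGroup.mk g' →
      (∀ (t : Γ(Mero.kmod X, U)), (∀ y : U, Mero.DivCond E y.1 (t.1 y)) → ∀ y : U, Mero.DivCond E' y.1 (t.1 y)) →
      ∃ c, algebraMap (X.presheaf.stalk x) (Mero.KStalk X x) c * (g : Γ(Mero.kmod X, U)).1 ⟨x, hxU⟩ = g' := by
    intro E E' U hxU g g' hE hE' hEE
    have h1 : ((g⁻¹ : _) : Γ(Mero.kmod X, U)) ∈ {t : Γ(Mero.kmod X, U) | ∀ y : U, Mero.DivCond E y.1 (t.1 y)} :=
      (exists_mul_eq E g hE le_rfl _).2 ⟨1, by rw [map_one, one_mul]; exact Subtype.ext (funext fun _ => rfl)⟩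
    obtain ⟨c, hc⟩ := (divCond_iff E' hE' _).1 (hEE _ h1 ⟨x, hxU⟩)
    refine ⟨c, ?_⟩
    rw [hc, mul_comm _ (g' : Mero.KStalk X x), mul_assoc]
    exact (congrArg ((g' : Mero.KStalk X x) * ·)
      (congrArg (fun e : Γ(Mero.kmod X, U) => e.1 ⟨x, hxU⟩) g.inv_mul)).trans (mul_one _)
  obtain ⟨c, hc⟩ := key D D' W hxW (fracUnit a b) (Units.map (Mero.evalK X W' ⟨x, hxW'⟩).toMonoidHom (fracUnit a' b'))
    (fun y => hab y.1 y.2) (hab' x hxW') (fun t ht => (h W t).1 ht)
  obtain ⟨c', hc'⟩ := key D' D W' hxW' (fracUnit a' b') (Units.map (Mero.evalK X W ⟨x, hxW⟩).toMonoidHom (fracUnit a b))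
    (fun y => hab' y.1 y.2) (hab x hxW) (fun t ht => (h W' t).2 ht)
  set G := Units.map (Mero.evalK X W ⟨x, hxW⟩).toMonoidHom (fracUnit a b) with hG
  set G' := Units.map (Mero.evalK X W' ⟨x, hxW'⟩).toMonoidHom (fracUnit a' b') with hG'
  change algebraMap _ _ c * (G : Mero.KStalk X x) = G' at hc
  change algebraMap _ _ c' * (G' : Mero.KStalk X x) = G at hc'
  have hcc : c' * c = 1 := Mero.algebraMap_KStalk_injective x (G.isUnit.mul_left_inj.1 (by
    rw [map_mul, mul_assoc, hc, hc', map_one, one_mul]))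
  rw [hab x hxW, hab' x hxW']
  exact (mk_eq_mk_iff G G').2 ⟨(IsUnit.of_mul_eq_one c' ((mul_comm c c').trans hcc)).unit, by
    rw [IsUnit.unit_spec, mul_comm]; exact hc.symm⟩

end Groth.Agent.S5097
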