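import Groth.Statements.S5100
import Groth.Agent.Misc15.DivDescentOrder

set_option autoImplicit false
universe u
open CategoryTheory CategoryTheory.Limits AlgebraicGeometry TopologicalSpace
open Div21
open Groth.Agent.Misc15.DivDescent IsLocalRing

set_option backward.isDefEq.respectTransparency false
set_option backward.isDefEq.respectTransparency.types false

namespace Groth.Agent.S5100

private theorem stalk_term {X Y : Scheme.{u}} (f : X ⟶ Y) {x : X} {y : Y} (hx : f x = y)
    (t : Y.presheaf.stalk y) (n : ℕ) :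
    ((f.stalkMap x).hom ((Y.presheaf.stalkCongr (.of_eq hx.symm)).hom t)) ^ n = φ f hx (t ^ n) := by
  rw [map_pow]
  rfl

private theorem span_pow_eq {A : Type u} [CommRing A] {a b : A} (h : Ideal.span {a} = Ideal.span {b}) (n : ℕ) :
    Ideal.span {a ^ n} = Ideal.span {b ^ n} := by
  rw [← Ideal.span_singleton_pow, ← Ideal.span_singleton_pow, h]

/-- Suppose X and Y are locally Noetherian schemes, and consider a morphism f : X → Y that is flat and
surjective (i.e. faithfully flat) and is either quasi-compact or open. Assume Y is normal, and that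
whenever y ∈ Y has a local ring of dimension 1, the fibre X_y has no embedded associated point (if
one associated point of X_y specializes to another, the two coincide). Given an effective Cartier
divisor D' on X, described by its ideal sheaf 𝓙, D' arises as the inverse image of some effective
Cartier divisor on Y exactly when both of the following hold: (1) at each maximal point η of Y,
pulling D' back to the fibre X_η gives zero (the resulting ideal is the unit ideal); and (2) at each
y ∈ Y with one-dimensional local ring (a discrete valuation ring, because Y is normal) one can find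
an integer n ≥ 0 so that, for any uniformizer t of O_{Y,y} and any maximal point x of f⁻¹(y), the
ideal of D' in O_{X,x} (namely the inverse image of 𝓙 on Spec O_{X,x}) is generated by the image of
t raised to the n-th power. -/
theorem result {X Y : Scheme.{u}}
    [IsLocallyNoetherian X] [IsLocallyNoetherian Y] (f : X ⟶ Y) [Flat f] [Surjective f]
    (hf : QuasiCompact f ∨ IsOpenMap f) (hY : Pi1.IsNormalScheme Y)
    (hfib : ∀ y : ↥Y, ringKrullDim ↑(Y.presheaf.stalk y) = 1 → ∀ z z' : ↥(f.fiber y),
      IsAssociatedPrime (IsLocalRing.maximalIdeal ↑((f.fiber y).presheaf.stalk z)) ↑((f.fiber y).presheaf.stalk z) →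
      IsAssociatedPrime (IsLocalRing.maximalIdeal ↑((f.fiber y).presheaf.stalk z')) ↑((f.fiber y).presheaf.stalk z') →
      z' ⤳ z → z' = z)
    (𝓙 : X.IdealSheafData) (hJ : BlowUp.IsEffCartierIdeal 𝓙) :
    (∃ 𝓘 : Y.IdealSheafData, BlowUp.IsEffCartierIdeal 𝓘 ∧ 𝓘.comap f = 𝓙) ↔
      ((∀ η : ↥Y, (∀ z : ↥Y, z ⤳ η → z = η) → 𝓙.comap (f.fiberι η) = ⊤) ∧
        ∀ y : ↥Y, ringKrullDim ↑(Y.presheaf.stalk y) = 1 → ∃ n : ℕ, ∀ t : ↑(Y.presheaf.stalk y),
          IsLocalRing.maximalIdeal ↑(Y.presheaf.stalk y) = Ideal.span {t} →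
          ∀ (x : ↥X) (hx : f x = y), (∀ z : ↥X, f z = y → z ⤳ x → z = x) →
            (𝓙.comap (X.fromSpecStalk x)).ideal ⟨⊤, isAffineOpen_top _⟩ =
              Ideal.span {(Scheme.ΓSpecIso (X.presheaf.stalk x)).inv
                (((f.stalkMap x).hom ((Y.presheaf.stalkCongr (.of_eq hx.symm)).hom t)) ^ n)}) := by
  constructor
  · rintro ⟨I, hI, rfl⟩
    refine ⟨fun η hη => ?_, fun y hy => ?_⟩
    · have := (hY η).1
      refine ext_stk fun t => ?_
      have htop : stk (⊤ : (f.fiber η).IdealSheafData) t = ⊤ := by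
        obtain ⟨_, ⟨U, hU, rfl⟩, hsU, -⟩ :=
          (f.fiber η).isBasis_affineOpens.exists_subset_of_mem_open (Set.mem_univ t) isOpen_univ
        rw [stk_eq _ ⟨U, hU⟩ hsU, show (⊤ : (f.fiber η).IdealSheafData).ideal ⟨U, hU⟩ = ⊤ from rfl, Ideal.map_top]
      have hη' : f (f.fiberι η t) = η := (f.range_fiberι η).le ⟨t, rfl⟩
      have hbot : maximalIdeal (Y.presheaf.stalk η) = ⊥ := by
        by_contra hb
        obtain ⟨z, hz, hzP⟩ := exists_point (⊥ : Ideal (Y.presheaf.stalk η)) Ideal.isPrime_bot
        obtain rfl := hη z hz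
        exact hb ((primeOf_refl _ _).symm.trans hzP)
      obtain ⟨g, hg, hgI⟩ := exists_gen hI η
      have hgu : IsUnit g := by
        by_contra hgu
        have : g ∈ maximalIdeal (Y.presheaf.stalk η) := hgu
        rw [hbot, Ideal.mem_bot] at this
        exact nonZeroDivisors.ne_zero hg this
      have key : stk I (f (f.fiberι η t)) = ⊤ := hη'.symm ▸ (hgI.trans (Ideal.span_singleton_eq_top.2 hgu))
      rw [htop, stk_comap, stk_comap, key, Ideal.map_top, Ideal.map_top]
    · have := (hY y).1
      have := (hY y).2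
      have hP : ∀ P : Ideal (Y.presheaf.stalk y), P ≠ ⊥ → P.IsPrime → P = maximalIdeal _ := fun P hP0 hPp =>
        by_contra fun hPm => by
          have h1 := Ideal.height_add_one_le_of_lt_of_isPrime (bot_lt_iff_ne_bot.2 hP0)
          have h2 := Ideal.height_add_one_le_of_lt_of_isPrime (lt_of_le_of_ne (le_maximalIdeal hPp.ne_top) hPm)
          have h4 : (1 : ℕ∞) ≤ P.height := le_trans le_add_self h1
          have h3 : (2 : ℕ∞) ≤ (maximalIdeal (Y.presheaf.stalk y)).height :=
            le_trans (by rw [← one_add_one_eq_two]; gcongr) h2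
          have h5 := IsLocalRing.maximalIdeal_height_eq_ringKrullDim (R := Y.presheaf.stalk y)
          rw [hy] at h5
          have h6 : (maximalIdeal (Y.presheaf.stalk y)).height = 1 := WithBot.coe_injective h5
          rw [h6] at h3
          simp at h3
      have h34 : (IsIntegrallyClosed (Y.presheaf.stalk y) ∧
          ∀ P : Ideal (Y.presheaf.stalk y), P ≠ ⊥ → P.IsPrime → P = maximalIdeal _) ↔
            (maximalIdeal (Y.presheaf.stalk y)).IsPrincipal :=
        (tfae_of_isNoetherianRing_of_isLocalRing_of_isDomain (Y.presheaf.stalk y)).out 3 4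
      obtain ⟨π, hπ⟩ := h34.1 ⟨inferInstance, hP⟩
      rw [Ideal.submodule_span_eq] at hπ
      have hbot : maximalIdeal (Y.presheaf.stalk y) ≠ ⊥ := by
        intro hb
        have := IsLocalRing.maximalIdeal_height_eq_ringKrullDim (R := Y.presheaf.stalk y)
        rw [hb, Ideal.height_bot, hy] at this
        simp at this
      have hπ0 : π ≠ 0 := fun h0 => hbot (by rw [hπ, h0, Ideal.span_singleton_eq_bot])
      obtain ⟨g, hg, hgI⟩ := exists_gen hI y
      have hrad : π ∈ (Ideal.span {g}).radical := by
        rw [Ideal.radical_eq_sInf, Submodule.mem_sInf]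
        rintro Q ⟨hQ, hQp⟩
        rw [hP Q (fun h0 => nonZeroDivisors.ne_zero hg (by simpa [h0] using hQ)) hQp, hπ]
        exact Ideal.mem_span_singleton_self π
      obtain ⟨N, hN⟩ := hrad
      obtain ⟨n, hn⟩ := exists_associated_pow (mem_nonZeroDivisors_of_ne_zero hπ0)
        (hπ ▸ (maximalIdeal.isMaximal _).isPrime) N g (Ideal.mem_span_singleton.1 hN)
      refine ⟨n, fun t ht x hx _ => ?_⟩
      rw [comap_fromSpecStalk_ideal_eq_span, stalk_term f hx, stk_comap]
      have h2 : stk I y = Ideal.span {t ^ n} := by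
        rw [hgI, span_pow_eq (ht.symm.trans hπ) n]
        exact Ideal.span_singleton_eq_span_singleton.2 hn
      subst hx
      rw [h2, φ_rfl, Ideal.map_span, Set.image_singleton]
  · rintro ⟨h, hord⟩
    refine exists_effCartier hf hJ (descAt_all hJ fun y => ?_)
    have := (hY y).1
    have := (hY y).2
    by_cases hbot : maximalIdeal (Y.presheaf.stalk y) = ⊥
    · refine Or.inr ⟨1, fun x hx => ?_⟩
      obtain ⟨t, rfl⟩ : ∃ t, f.fiberι y t = x := ⟨_, f.fiberι_fiberHomeo_symm y ⟨x, hx⟩⟩
      rw [stk_eq_top_of_comap _ (h y fun z hz => eq_of_specializes_of_field hbot hz) t, map_one,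
        Ideal.span_singleton_one]
    by_cases hP : ∀ P : Ideal (Y.presheaf.stalk y), P ≠ ⊥ → P.IsPrime → P = maximalIdeal _
    swap
    · push Not at hP
      obtain ⟨P, hP0, hPp, hPm⟩ := hP
      refine Or.inl (regPair_of_depth _ (CAlgH3.two_le_depth_of_normal ?_))
      rw [← IsLocalRing.maximalIdeal_height_eq_ringKrullDim]
      have h1 := Ideal.height_add_one_le_of_lt_of_isPrime (bot_lt_iff_ne_bot.2 hP0)
      have h2 := Ideal.height_add_one_le_of_lt_of_isPrime (lt_of_le_of_ne (le_maximalIdeal hPp.ne_top) hPm)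
      have h4 : (1 : ℕ∞) ≤ P.height := le_trans le_add_self h1
      have h3 : (2 : ℕ∞) ≤ (maximalIdeal (Y.presheaf.stalk y)).height :=
        le_trans (by rw [← one_add_one_eq_two]; gcongr) h2
      exact WithBot.coe_le_coe.2 h3
    have h34 : (IsIntegrallyClosed (Y.presheaf.stalk y) ∧
        ∀ P : Ideal (Y.presheaf.stalk y), P ≠ ⊥ → P.IsPrime → P = maximalIdeal _) ↔
          (maximalIdeal (Y.presheaf.stalk y)).IsPrincipal :=
      (tfae_of_isNoetherianRing_of_isLocalRing_of_isDomain (Y.presheaf.stalk y)).out 3 4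
    have h40 : (maximalIdeal (Y.presheaf.stalk y)).IsPrincipal ↔ IsPrincipalIdealRing (Y.presheaf.stalk y) :=
      (tfae_of_isNoetherianRing_of_isLocalRing_of_isDomain (Y.presheaf.stalk y)).out 4 0
    obtain ⟨π, hπ⟩ := h34.1 ⟨inferInstance, hP⟩
    rw [Ideal.submodule_span_eq] at hπ
    have hπ0 : π ≠ 0 := fun h0 => hbot (by rw [hπ, h0, Ideal.span_singleton_eq_bot])
    have hdim : ringKrullDim (Y.presheaf.stalk y) = 1 := by
      have : IsPrincipalIdealRing (Y.presheaf.stalk y) :=
        h40.1 ⟨π, hπ.trans (Ideal.submodule_span_eq).symm⟩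
      exact IsPrincipalIdealRing.ringKrullDim_eq_one _ (fun hF => hbot (isField_iff_maximalIdeal_eq.1 hF))
    obtain ⟨n, hn⟩ := hord y hdim
    refine Or.inr (descAt_dvr_of_order hJ y (hfib y hdim) π hπ (mem_nonZeroDivisors_of_ne_zero hπ0) ?_ n
      fun x hx hm => ?_)
    swap
    · have := hn π hπ x hx hm
      rwa [comap_fromSpecStalk_ideal_eq_span, stalk_term f hx] at this
    intro x hx hne
    have hz0 : primeOf hx = ⊥ := by
      by_contra hz
      exact hne (eq_of_primeOf_eq hx (specializes_refl y) ((hP _ hz (isPrime_primeOf hx)).trans (primeOf_refl _ _).symm))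
    have hmax : ∀ w, w ⤳ f x → w = f x := fun w hw => by
      by_cases hw0 : primeOf (hw.trans hx) = ⊥
      · exact eq_of_primeOf_eq (hw.trans hx) hx (hw0.trans hz0.symm)
      · obtain rfl : w = y := eq_of_primeOf_eq (hw.trans hx) (specializes_refl y)
          ((hP _ hw0 (isPrime_primeOf _)).trans (primeOf_refl _ _).symm)
        exact absurd (hx.antisymm hw).eq hne
    obtain ⟨t, ht⟩ : ∃ t, f.fiberι (f x) t = x := ⟨_, f.fiberι_fiberHomeo_symm (f x) ⟨x, rfl⟩⟩
    rw [← ht]
    exact stk_eq_top_of_comap _ (h _ hmax) t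

end Groth.Agent.S5100
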