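import Groth.Statements.S5103
import Groth.Agent.CAlgH3.InvertibleDivisor

set_option autoImplicit false
universe u
open CategoryTheory CategoryTheory.Limits AlgebraicGeometry TopologicalSpace
open Div21

namespace Groth.Agent.S5103

/-- For an integral scheme (the canonical homomorphism Pic(X) → Cl(X) to the group of codimension-1
cycle classes is injective): let X be a normal locally Noetherian integral scheme, L an invertible
O_X-module and s a nonzero rational section of L (a nonzero element of the fibre of L at the generic
point). If the Weil divisor of s is principal — there is a nonzero rational function f whose order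
of vanishing at every point of codimension 1 (coheight 1 in the specialization order) equals the
order of s there — then L is isomorphic to O_X. -/
theorem result (X : Scheme.{u}) [IsIntegral X] [IsLocallyNoetherian X]
    (hX : Pi1.IsNormalScheme X) (L : X.Modules) (hL : PicF.IsInvertible L)
    (s : Cyc.secFibre L (genericPoint ↥X)) (hs : s ≠ 0) (f : ↑X.functionField) (hf : f ≠ 0)
    (h : ∀ x : ↥X, Order.coheight x = 1 →
      Cyc.secOrdAt L (genericPoint ↥X) x (genericPoint_specializes x) s = Scheme.ord f x) :
    Nonempty (L ≅ Coh.structureModule X) := by
  obtain ⟨s, rfl⟩ := Submodule.Quotient.mk_surjective _ s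
  have hs0 : s ≠ 0 := fun e => hs (by rw [e]; rfl)
  have ht : f • AssSch12.unitOne (genericPoint X) ≠ 0 := fun e => RefHullLib.unitOne_ne_zero (by
    rw [← inv_smul_smul₀ hf (AssSch12.unitOne (genericPoint X)), e]; exact smul_zero _)
  refine RefHullLib.nonempty_iso_of_isDiv hX (CAlgH3.InvertibleDivisor.isRef1 hL) RefHullLib.isRef1_structureModule hs0 ht
    fun x hx => ?_
  rw [CAlgH3.InvertibleDivisor.sOrd_smul_unitOne hf hx]
  exact h x hx

end Groth.Agent.S5103
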