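import Groth.Statements.S5111
import Groth.Agent.CommAlg4.TraitExtension
-- import your own Groth.Agent.* helpers here

set_option autoImplicit false
universe u
open CategoryTheory CategoryTheory.Limits AlgebraicGeometry TopologicalSpace
open Rat20

namespace Groth.Agent.S5111

open TopologicalSpace in
set_option maxHeartbeats 1600000 in
/-- Let S and X be locally Noetherian schemes, f : X → S a flat morphism, g : Y → S a morphism locally
of finite type, U a dense open subset of S, h : f⁻¹(U) → Y an S-morphism, Z the reduced closed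
subscheme of X with underlying space f⁻¹(S − U), and h₀ : Z → Y an S-morphism; suppose X is normal
at every point of Z. Then there is an S-morphism h' : X → Y extending h and inducing h₀ on Z if and
only if: for every spectrum S₁ of a discrete valuation ring and every morphism u : S₁ → S sending
the closed point outside U and the generic point into U, there is an S₁-morphism h'₁ : X ×_S S₁ → Y
×_S S₁ which extends the base change of h on the inverse image of U and which, at every point z₁ of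
Z ×_S S₁, agrees on Spec k(z₁) with the base change of h₀. (Morphisms into Y ×_S S₁ over S₁ are
compared through their components in Y.) -/
theorem result {X Y S : Scheme.{u}} [IsLocallyNoetherian S]
    [IsLocallyNoetherian X] (f : X ⟶ S) [Flat f] (g : Y ⟶ S) [LocallyOfFiniteType g]
    (U : S.Opens) (hU : Dense (U : Set ↥S)) (h : ↑(f ⁻¹ᵁ U) ⟶ Y) (hh : h ≫ g = (f ⁻¹ᵁ U).ι ≫ f)
    (Z : Scheme.{u}) (iZ : Z ⟶ X) [IsClosedImmersion iZ] [IsReduced Z]
    (hZ : Set.range ⇑iZ = ((f ⁻¹ᵁ U : X.Opens) : Set ↥X)ᶜ) (h₀ : Z ⟶ Y) (hh₀ : h₀ ≫ g = iZ ≫ f)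
    (hnorm : ∀ z : ↥Z, IsDomain ↑(X.presheaf.stalk (iZ z)) ∧ IsIntegrallyClosed ↑(X.presheaf.stalk (iZ z))) :
    (∃ h' : X ⟶ Y, h' ≫ g = f ∧ (f ⁻¹ᵁ U).ι ≫ h' = h ∧ iZ ≫ h' = h₀) ↔
      ∀ (R : Type u) [CommRing R] [IsDomain R] [IsDiscreteValuationRing R]
        (u : Spec (CommRingCat.of R) ⟶ S),
        u (IsLocalRing.closedPoint R) ∉ U → u (genericPoint ↥(Spec (CommRingCat.of R))) ∈ U →
        ∃ h₁ : pullback f u ⟶ pullback g u,
          h₁ ≫ pullback.snd g u = pullback.snd f u ∧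
          ((pullback.fst f u) ⁻¹ᵁ (f ⁻¹ᵁ U)).ι ≫ h₁ ≫ pullback.fst g u = (pullback.fst f u ∣_ (f ⁻¹ᵁ U)) ≫ h ∧
          ∀ z₁ : ↥(pullback (iZ ≫ f) u),
            (pullback (iZ ≫ f) u).fromSpecResidueField z₁ ≫
                pullback.lift (pullback.fst (iZ ≫ f) u ≫ iZ) (pullback.snd (iZ ≫ f) u)
                  ((Category.assoc _ _ _).trans pullback.condition) ≫ h₁ ≫ pullback.fst g u =
              (pullback (iZ ≫ f) u).fromSpecResidueField z₁ ≫ pullback.fst (iZ ≫ f) u ≫ h₀ := by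
  classical
  constructor
  · rintro ⟨h', hh', hh'U, hh'Z⟩ R _ _ _ u _ _
    refine ⟨pullback.lift (pullback.fst f u ≫ h') (pullback.snd f u) (by rw [Category.assoc, hh']; exact pullback.condition),
      pullback.lift_snd _ _ _, ?_, fun z₁ => ?_⟩
    · rw [pullback.lift_fst, ← hh'U]
      exact (morphismRestrict_ι_assoc _ _ _).symm
    · rw [pullback.lift_fst, pullback.lift_fst_assoc, Category.assoc, hh'Z]
  intro H
  have HT : Groth.Agent.CommAlg4.TraitExtension.TraitData f g U h iZ h₀ := by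
    intro R _ _ _ r hr hrgen
    obtain ⟨h₁, hs, hgen, hcl⟩ := H R (r ≫ f) hr hrgen
    let σ : Spec (CommRingCat.of R) ⟶ pullback f (r ≫ f) := pullback.lift r (𝟙 _) (Category.id_comp _).symm
    refine ⟨σ ≫ h₁ ≫ pullback.fst g (r ≫ f), ?_, fun γ hγ => ?_, fun ζ hζ => ?_⟩
    · rw [Category.assoc, Category.assoc, pullback.condition, reassoc_of% hs, pullback.lift_snd_assoc, Category.id_comp]
    · let ι := Spec.map (CommRingCat.ofHom (algebraMap R (FractionRing R)))
      let O := (pullback.fst f (r ≫ f)) ⁻¹ᵁ (f ⁻¹ᵁ U)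
      have hrange : Set.range (ι ≫ σ) ⊆ Set.range O.ι := by
        rw [Scheme.Opens.range_ι]
        rintro _ ⟨p, rfl⟩
        show pullback.fst f (r ≫ f) ((ι ≫ σ) p) ∈ f ⁻¹ᵁ U
        rw [← Scheme.Hom.comp_apply, Category.assoc, pullback.lift_fst, ← hγ, Scheme.Hom.comp_apply]
        exact (γ p).2
      have hl : IsOpenImmersion.lift O.ι (ι ≫ σ) hrange ≫ O.ι = ι ≫ σ := IsOpenImmersion.lift_fac _ _ _
      show ι ≫ σ ≫ h₁ ≫ pullback.fst g (r ≫ f) = γ ≫ h
      rw [← reassoc_of% hl, hgen, ← Category.assoc]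
      congr 1
      rw [← cancel_mono (f ⁻¹ᵁ U).ι, Category.assoc, morphismRestrict_ι, reassoc_of% hl, pullback.lift_fst, hγ]
    · let cl := Spec.map (CommRingCat.ofHom (IsLocalRing.residue R))
      let ζ' : Spec (CommRingCat.of (IsLocalRing.ResidueField R)) ⟶ pullback (iZ ≫ f) (r ≫ f) :=
        pullback.lift ζ cl (by rw [reassoc_of% hζ])
      have hfac := Scheme.descResidueField_stalkClosedPointTo_fromSpecResidueField (IsLocalRing.ResidueField R) _ ζ'
      have key := congrArg (Spec.map (Scheme.descResidueField (Scheme.stalkClosedPointTo ζ')) ≫ ·) (hcl (ζ' (IsLocalRing.closedPoint _)))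
      simp only [reassoc_of% hfac] at key
      show cl ≫ σ ≫ h₁ ≫ pullback.fst g (r ≫ f) = ζ ≫ h₀
      rw [show ζ' ≫ pullback.fst (iZ ≫ f) (r ≫ f) ≫ h₀ = ζ ≫ h₀ from pullback.lift_fst_assoc _ _ _ _] at key
      rw [← key, ← Category.assoc cl, ← Category.assoc ζ']
      congr 1
      apply pullback.hom_ext
      · rw [Category.assoc, pullback.lift_fst, Category.assoc, pullback.lift_fst, pullback.lift_fst_assoc, hζ]
      · rw [Category.assoc, pullback.lift_snd, Category.assoc, pullback.lift_snd, Category.comp_id, pullback.lift_snd]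
  choose W φ hzW hφg hφU hφpt hφres using fun z : ↥Z =>
    haveI := (hnorm z).1
    Groth.Agent.CommAlg4.TraitExtension.exists_local_extension f g U h iZ h₀ hU hh hh₀ hZ HT z (hnorm z).2
  have hXd : Dense ((f ⁻¹ᵁ U : X.Opens) : Set ↥X) := Groth.Agent.CommAlg4.TraitExtension.dense_preimage f U hU
  let V : Option ↥Z → X.Opens := fun o => o.elim (f ⁻¹ᵁ U) W
  have hV : ⨆ o, V o = ⊤ := by
    refine top_le_iff.1 fun x _ => Opens.mem_iSup.2 ?_
    by_cases hx : x ∈ f ⁻¹ᵁ U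
    · exact ⟨none, hx⟩
    · obtain ⟨z, rfl⟩ : x ∈ Set.range iZ := hZ.ge hx
      exact ⟨some z, hzW z⟩
  let ψ : ∀ o, (V o : Scheme.{u}) ⟶ Y := fun o => Option.rec h φ o
  have hcompat : ∀ o o', pullback.fst (V o).ι (V o').ι ≫ ψ o = pullback.snd (V o).ι (V o').ι ≫ ψ o' := by
    rintro (_ | z) (_ | z')
    · have : pullback.fst (V none).ι (V none).ι = pullback.snd _ _ := (cancel_mono (V none).ι).1 pullback.condition
      rw [this]
    · exact (hφU z' _ _ _ pullback.condition.symm).symm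
    · exact hφU z _ _ _ pullback.condition
    · let P := pullback (W z).ι (W z').ι
      let q : P ⟶ X := pullback.fst _ _ ≫ (W z).ι
      let a : P ⟶ Y := pullback.fst _ _ ≫ φ z
      let b : P ⟶ Y := pullback.snd _ _ ≫ φ z'
      show a = b
      have hloc : ∀ p : P, ∃ N : P.Opens, p ∈ N ∧ N.ι ≫ a = N.ι ≫ b := by
        intro p
        let O : P.Opens := q ⁻¹ᵁ (f ⁻¹ᵁ U)
        let bO : (O : Scheme.{u}) ⟶ ↑(f ⁻¹ᵁ U) := IsOpenImmersion.lift (f ⁻¹ᵁ U).ι (O.ι ≫ q) (by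
          rw [Scheme.Opens.range_ι]; rintro _ ⟨t, rfl⟩; exact t.2)
        have hbO : bO ≫ (f ⁻¹ᵁ U).ι = O.ι ≫ q := IsOpenImmersion.lift_fac _ _ _
        have hO : O.ι ≫ a = O.ι ≫ b := by
          rw [← Category.assoc, ← Category.assoc, hφU z _ (O.ι ≫ pullback.fst _ _) bO (by rw [hbO, Category.assoc]),
            hφU z' _ (O.ι ≫ pullback.snd _ _) bO (by rw [hbO, Category.assoc, ← pullback.condition])]
        by_cases hp : q p ∈ f ⁻¹ᵁ U
        · exact ⟨O, hp, hO⟩
        obtain ⟨z₂, hz₂⟩ : q p ∈ Set.range iZ := hZ.ge hp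
        haveI : IsDomain (X.presheaf.stalk (iZ z₂)) := (hnorm z₂).1
        obtain ⟨T, hT, hTint⟩ := Groth.Agent.CAlgSmall.ValExtend.exists_integral_nhd (iZ z₂)
        obtain ⟨A, hA, hzA, -⟩ := exists_isAffineOpen_mem_and_subset (x := h₀ z₂) (U := ⊤) trivial
        have hap : a p = h₀ z₂ := by
          have h1 : iZ z₂ = (W z).ι (pullback.fst (W z).ι (W z').ι p) := hz₂.trans (Scheme.Hom.comp_apply _ _ _)
          have hm : iZ z₂ ∈ W z := h1 ▸ (pullback.fst (W z).ι (W z').ι p).2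
          rw [← hφpt z z₂ hm]
          show φ z (pullback.fst (W z).ι (W z').ι p) = _
          congr 1
          exact Subtype.ext h1.symm
        have hbp : b p = h₀ z₂ := by
          have h1 : iZ z₂ = (W z').ι (pullback.snd (W z).ι (W z').ι p) :=
            hz₂.trans ((congrArg (fun m : P ⟶ X => m p) pullback.condition).trans (Scheme.Hom.comp_apply _ _ _))
          have hm : iZ z₂ ∈ W z' := h1 ▸ (pullback.snd (W z).ι (W z').ι p).2
          rw [← hφpt z' z₂ hm]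
          show φ z' (pullback.snd (W z).ι (W z').ι p) = _
          congr 1
          exact Subtype.ext h1.symm
        let N : P.Opens := q ⁻¹ᵁ T ⊓ a ⁻¹ᵁ A ⊓ b ⁻¹ᵁ A
        have hpN : p ∈ N := ⟨⟨show q p ∈ T from hz₂ ▸ hT, show a p ∈ A from hap ▸ hzA⟩, show b p ∈ A from hbp ▸ hzA⟩
        refine ⟨N, hpN, ?_⟩
        haveI := hTint
        let NT : (N : Scheme.{u}) ⟶ (T : Scheme.{u}) := IsOpenImmersion.lift T.ι (N.ι ≫ q) (by
          rw [Scheme.Opens.range_ι]; rintro _ ⟨t, rfl⟩; exact t.2.1.1)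
        have hNT : NT ≫ T.ι = N.ι ≫ q := IsOpenImmersion.lift_fac _ _ _
        haveI : IsOpenImmersion (NT ≫ T.ι) := by rw [hNT]; infer_instance
        haveI : IsOpenImmersion NT := IsOpenImmersion.of_comp NT T.ι
        haveI : Nonempty (N : Scheme.{u}) := ⟨⟨p, hpN⟩⟩
        haveI : IsIntegral (N : Scheme.{u}) := isIntegral_of_isOpenImmersion NT
        have hNU : ((N.ι ⁻¹ᵁ O : (N : Scheme.{u}).Opens) : Set ↥(N : Scheme.{u})).Nonempty := by
          obtain ⟨x, ⟨t, ht⟩, hxU⟩ := hXd.exists_mem_open (IsOpenImmersion.isOpen_range (N.ι ≫ q))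
            ⟨_, ⟨⟨p, hpN⟩, rfl⟩⟩ |> fun ⟨x, hxU, hx⟩ => (⟨x, hx, hxU⟩ : ∃ x, x ∈ Set.range (N.ι ≫ q) ∧ x ∈ f ⁻¹ᵁ U)
          exact ⟨t, show q (N.ι t) ∈ f ⁻¹ᵁ U from ht ▸ hxU⟩
        haveI : IsDominant (N.ι ⁻¹ᵁ O).ι := ⟨by
          rw [DenseRange, Scheme.Opens.range_ι]
          exact (N.ι ⁻¹ᵁ O).2.dense hNU⟩
        haveI : IsAffine (A : Scheme.{u}) := hA
        have ha : Set.range (N.ι ≫ a) ⊆ Set.range A.ι := by
          rw [Scheme.Opens.range_ι]; rintro _ ⟨t, rfl⟩; exact t.2.1.2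
        have hb : Set.range (N.ι ≫ b) ⊆ Set.range A.ι := by
          rw [Scheme.Opens.range_ι]; rintro _ ⟨t, rfl⟩; exact t.2.2
        rw [← IsOpenImmersion.lift_fac A.ι _ ha, ← IsOpenImmersion.lift_fac A.ι _ hb]
        congr 1
        refine ext_of_isDominant (N.ι ⁻¹ᵁ O).ι ?_
        rw [← cancel_mono A.ι, Category.assoc, IsOpenImmersion.lift_fac, Category.assoc, IsOpenImmersion.lift_fac]
        have h1 : (N.ι ⁻¹ᵁ O).ι ≫ N.ι = (N.ι ∣_ O) ≫ O.ι := (morphismRestrict_ι _ _).symm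
        rw [reassoc_of% h1, reassoc_of% h1, hO]
      choose N hpN hN using hloc
      exact Scheme.Cover.hom_ext (P.openCoverOfIsOpenCover N (top_le_iff.1 fun p _ => Opens.mem_iSup.2 ⟨p, hpN p⟩)) _ _ hN
  let 𝒱 := X.openCoverOfIsOpenCover V hV
  have hι : ∀ o, (V o).ι ≫ 𝒱.glueMorphisms ψ hcompat = ψ o := Scheme.Cover.ι_glueMorphisms 𝒱 ψ hcompat
  refine ⟨𝒱.glueMorphisms ψ hcompat, Scheme.Cover.hom_ext 𝒱 _ _ fun o => ?_, hι none, ?_⟩
  · show (V o).ι ≫ 𝒱.glueMorphisms ψ hcompat ≫ g = (V o).ι ≫ f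
    refine (Category.assoc _ _ _).symm.trans ((congrArg (· ≫ g) (hι o)).trans ?_)
    cases o with
    | none => exact hh
    | some z => exact hφg z
  -- on the reduced complement
  refine (?_ : iZ ≫ 𝒱.glueMorphisms ψ hcompat = h₀)
  have hloc : ∀ z : Z, ∃ N : Z.Opens, z ∈ N ∧ N.ι ≫ iZ ≫ 𝒱.glueMorphisms ψ hcompat = N.ι ≫ h₀ := by
    intro z
    obtain ⟨A, hA, hzA, -⟩ := exists_isAffineOpen_mem_and_subset (x := h₀ z) (U := ⊤) trivial
    let N : Z.Opens := iZ ⁻¹ᵁ W z ⊓ h₀ ⁻¹ᵁ A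
    refine ⟨N, ⟨hzW z, hzA⟩, ?_⟩
    let NW : (N : Scheme.{u}) ⟶ (W z : Scheme.{u}) := IsOpenImmersion.lift (W z).ι (N.ι ≫ iZ) (by
      rw [Scheme.Opens.range_ι]; rintro _ ⟨t, rfl⟩; exact t.2.1)
    have hNW : NW ≫ (W z).ι = N.ι ≫ iZ := IsOpenImmersion.lift_fac _ _ _
    rw [← reassoc_of% hNW, show (W z).ι ≫ 𝒱.glueMorphisms ψ hcompat = φ z from hι (some z)]
    haveI : IsAffine (A : Scheme.{u}) := hA
    haveI : IsReduced (N : Scheme.{u}) := isReduced_of_isOpenImmersion N.ι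
    have hb : Set.range (N.ι ≫ h₀) ⊆ Set.range A.ι := by
      rw [Scheme.Opens.range_ι]; rintro _ ⟨t, rfl⟩; exact t.2.2
    have ha : Set.range (NW ≫ φ z) ⊆ Set.range A.ι := by
      rw [Scheme.Opens.range_ι]; rintro _ ⟨t, rfl⟩
      have h1 : (W z).ι (NW t) = iZ (N.ι t) := by rw [← Scheme.Hom.comp_apply, hNW, Scheme.Hom.comp_apply]
      have hm : iZ (N.ι t) ∈ W z := h1 ▸ (NW t).2
      rw [Scheme.Hom.comp_apply, show NW t = ⟨iZ (N.ι t), hm⟩ from Subtype.ext h1, hφpt z (N.ι t) hm]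
      exact t.2.2
    rw [← IsOpenImmersion.lift_fac A.ι _ ha, ← IsOpenImmersion.lift_fac A.ι _ hb]
    congr 1
    refine ext_of_fromSpecResidueField_eq _ _ (terminal.from (A : Scheme.{u})) Set.univ dense_univ (fun t _ => ?_)
      (terminal.hom_ext _ _)
    · rw [← cancel_mono A.ι, Category.assoc, IsOpenImmersion.lift_fac, Category.assoc, IsOpenImmersion.lift_fac,
        ← Category.assoc, ← Category.assoc _ N.ι]
      exact hφres z _ (((N : Scheme.{u}).fromSpecResidueField t) ≫ NW) (((N : Scheme.{u}).fromSpecResidueField t) ≫ N.ι)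
        ((Category.assoc _ _ _).trans ((congrArg ((N : Scheme.{u}).fromSpecResidueField t ≫ ·) hNW).trans (Category.assoc _ _ _).symm))
  choose N hzN hN using hloc
  exact Scheme.Cover.hom_ext (Z.openCoverOfIsOpenCover N (top_le_iff.1 fun p _ => Opens.mem_iSup.2 ⟨p, hzN p⟩)) _ _ hN

end Groth.Agent.S5111
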