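import Groth.Statements.S5112
import Groth.Agent.CAlgH3.PrincipalPunctured

set_option autoImplicit false
universe u
open CategoryTheory CategoryTheory.Limits AlgebraicGeometry TopologicalSpace
open Div21

namespace Groth.Agent.S5112

/-- The implication from (b) to (a), for an integral scheme (a normal locally Noetherian scheme is the
disjoint union of its integral components): let X be a normal locally Noetherian integral scheme and
S a subset of X. A codimension-1 cycle Z (an integer-valued function on points, zero off the points
of codimension 1, i.e. of coheight 1, with locally finite support) is principal at a point x when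
there is a nonzero rational function whose order at every codimension-1 point generizing x is the
value of Z there (the trace of Z on Spec O_{X,x} is a principal divisor). Suppose (b): for every
point x of X which is not a generization of a point of S (the closure of x does not meet S) and
whose local ring has dimension at least 2, the local ring O_{X,x} is parafactorial. Then (a): every
codimension-1 cycle which is principal at all points of S is principal at every point of X (it is
locally principal). (The published statement asserts that (a) and (b) are equivalent. The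
implication from (a) to (b) fails: on the quotient of the real 2-sphere x² + y² + z² = 1 by (x, y,
z) ↦ (−x, −y, z), a normal Noetherian integral surface with exactly two singular points and divisor
class group of order 2, take S to be one singular point; every cycle principal there is principal
everywhere, while the local ring at the other singular point has dimension 2 and is not
parafactorial. This row states the implication from (b) to (a), which the published argument does
prove.) -/
theorem result (X : Scheme.{u}) [IsIntegral X]
    [IsLocallyNoetherian X] (hX : Pi1.IsNormalScheme X) (S : Set ↥X)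
    (hpar : ∀ x : ↥X, closure {x} ∩ S = ∅ → (2 : WithBot ℕ∞) ≤ ringKrullDim ↑(X.presheaf.stalk x) →
        ParaF.IsParafactorialLocalRing ↑(X.presheaf.stalk x))
    (Z : ↥X → ℤ) (hZ : ∀ x : ↥X, Order.coheight x ≠ 1 → Z x = 0)
    (hZfin : ∀ x : ↥X, ∃ W : X.Opens, x ∈ W ∧ {z : ↥X | z ∈ W ∧ Z z ≠ 0}.Finite)
    (hS : ∀ s : ↥X, s ∈ S →
        ∃ f : ↑X.functionField, f ≠ 0 ∧ ∀ x' : ↥X, Order.coheight x' = 1 → x' ⤳ s → Z x' = Scheme.ord f x')
    (x : ↥X) :
    ∃ f : ↑X.functionField, f ≠ 0 ∧ ∀ x' : ↥X, Order.coheight x' = 1 → x' ⤳ x → Z x' = Scheme.ord f x' := by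
  classical
  suffices H : ∀ (n : ℕ) (x : X), ringKrullDim (X.presheaf.stalk x) ≤ (n : ℕ) →
      ∃ f : ↑X.functionField, f ≠ 0 ∧ ∀ x' : ↥X, Order.coheight x' = 1 → x' ⤳ x → Z x' = Scheme.ord f x' by
    obtain ⟨n, hn⟩ : ∃ n : ℕ, ringKrullDim (X.presheaf.stalk x) ≤ (n : ℕ) := by
      rw [← IsLocalRing.maximalIdeal_height_eq_ringKrullDim]
      obtain ⟨n, hn⟩ := ENat.ne_top_iff_exists.1
        (Ideal.height_ne_top (IsLocalRing.maximalIdeal.isMaximal (X.presheaf.stalk x)).ne_top)
      exact ⟨n, by rw [← hn]; rfl⟩
    exact H n x hn
  intro n
  induction n using Nat.strong_induction_on with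
  | _ n ih =>
    intro x hx
    by_cases h2 : (2 : WithBot ℕ∞) ≤ ringKrullDim (X.presheaf.stalk x)
    swap
    · have hG : ∀ y : X, Order.coheight y = 1 → y ⤳ x → y = x := by
        intro y hy h
        by_contra hne
        refine h2 ?_
        haveI := CAlgH3.PrincipalPunctured.isPrime_q h
        have hlt := lt_of_le_of_ne (IsLocalRing.le_maximalIdeal (CAlgH3.PrincipalPunctured.isPrime_q h).ne_top)
          (S5090.comap_ne x y h hne)
        have := Ideal.height_add_one_le_of_lt_of_isPrime hlt
        rw [CAlgH3.PrincipalPunctured.height_q h hy] at this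
        rw [← IsLocalRing.maximalIdeal_height_eq_ringKrullDim]
        exact WithBot.coe_le_coe.2 (le_trans (le_of_eq one_add_one_eq_two.symm) this)
      by_cases hx1 : Order.coheight x = 1
      · refine ⟨RefHullLib.unif x ^ Z x, zpow_ne_zero _ (RefHullLib.unif_ne_zero x), fun y hy h => ?_⟩
        rw [hG y hy h, RefHullLib.ord_unif_zpow hX hx1]
      · exact ⟨1, one_ne_zero, fun y hy h => absurd (hG y hy h ▸ hy) hx1⟩
    by_cases hmeet : closure {x} ∩ S = ∅
    swap
    · obtain ⟨s, hs, hsS⟩ := Set.nonempty_iff_ne_empty.2 hmeet
      obtain ⟨f, hf, hfs⟩ := hS s hsS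
      exact ⟨f, hf, fun y hy h => hfs y hy (h.trans (specializes_iff_mem_closure.2 hs))⟩
    have hgood := (CAlgH.ParaStalk.good_iff _).1 (hpar x hmeet h2)
    obtain ⟨W, hxW, hW⟩ := hZfin x
    refine CAlgH3.PrincipalPunctured.exists_principal hX x hgood h2 Z
      (CAlgH3.PrincipalPunctured.finite_gen_support x hxW (s := {y | Z y ≠ 0}) hW) fun z hz hne => ?_
    haveI := CAlgH3.PrincipalPunctured.isPrime_q hz
    have hlt := lt_of_le_of_ne (IsLocalRing.le_maximalIdeal (CAlgH3.PrincipalPunctured.isPrime_q hz).ne_top)
      (S5090.comap_ne x z hz hne)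
    have hh := Ideal.height_add_one_le_of_lt_of_isPrime hlt
    rw [← IsLocalRing.maximalIdeal_height_eq_ringKrullDim] at hx
    have hn : (CAlgH3.PrincipalPunctured.q hz).height + 1 ≤ (n : ℕ∞) := hh.trans (WithBot.coe_le_coe.1 hx)
    obtain ⟨m, hm⟩ := ENat.ne_top_iff_exists.1 (ne_top_of_le_ne_top (ENat.natCast_ne_top n) (le_self_add.trans hn))
    rw [← hm] at hn
    refine ih m (by exact_mod_cast hn) z ?_
    rw [S5090.dim_eq_height hz]
    change ((CAlgH3.PrincipalPunctured.q hz).height : WithBot ℕ∞) ≤ _
    rw [← hm]
    rfl

end Groth.Agent.S5112
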