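import Groth.Statements.S5114
import Groth.Agent.HenselLib.SchemeFinitePart
import Mathlib.RingTheory.Henselian
import Groth.Agent.SGA1Quot.GeomTransitive
import Mathlib.AlgebraicGeometry.Morphisms.Proper
-- import your own Groth.Agent.* helpers here

set_option autoImplicit false
set_option linter.style.haveILetI false
set_option backward.isDefEq.respectTransparency.types false
universe u
open SGA1

namespace Groth.Agent.S5114

open AlgebraicGeometry CategoryTheory CategoryTheory.Limits in
/-- Let A be a complete Noetherian local ring, S = Spec A, and g : S' ⟶ S a surjective morphism of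
finite type whose fibre over the closed point s is finite. If every point of S' specialises to some
point of the fibre over s (equivalently: the disjoint union of the spectra of the local rings of S'
at the points over s maps onto S'), then g is universally submersive. (The published statement
asserts an equivalence and does not mention surjectivity of g; the converse fails: for A a complete
discrete valuation ring with fraction field K, S' = S ⊔ Spec K ⟶ S has a section, hence is
universally submersive, while the isolated point Spec K specialises to no point over s. This row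
states the implication the published proof establishes, with the surjectivity it uses.) -/
theorem result (A : Type u) [CommRing A]
    [IsNoetherianRing A] [IsLocalRing A] [IsAdicComplete (IsLocalRing.maximalIdeal A) A]
    {S' : Scheme.{u}} (g : S' ⟶ Spec (CommRingCat.of A)) [LocallyOfFiniteType g] [QuasiCompact g]
    [Surjective g]
    (hfin : (g.base ⁻¹' {IsLocalRing.closedPoint A}).Finite)
    (hsp : ∀ t : S', ∃ s' : S', g.base s' = IsLocalRing.closedPoint A ∧ t ⤳ s') :
    SGA1.UnivSubmersive g := by
  haveI : HenselianLocalRing A :=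
    { is_henselian := fun p hp a₀ h1 h2 =>
        HenselianRing.is_henselian (I := IsLocalRing.maximalIdeal A) p hp a₀ h1 (h2.map _) }
  let s₀ := IsLocalRing.closedPoint A
  haveI := hfin.to_subtype
  have hV : ∀ x : g.base ⁻¹' {s₀}, ∃ V : S'.Opens, x.1 ∈ V ∧ IsFinite (V.ι ≫ g) := by
    rintro ⟨x, hx⟩
    have hqf : g.QuasiFiniteAt x := by
      have hfin' : (g ⁻¹' {g x}).Finite := by rw [show g x = s₀ from hx]; exact hfin
      have : Finite (g.fiber (g x)) := (g.fiberHomeo (g x)).finite_iff.mpr hfin'.to_subtype
      exact Scheme.Hom.quasiFiniteAt_iff_isOpen_singleton_asFiber.mpr (isOpen_discrete _)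
    let L := g.quasiFiniteLocus
    obtain ⟨U, hU, hxU, -⟩ := exists_isAffineOpen_mem_and_subset (X := (L : Scheme.{u})) (x := ⟨x, hqf⟩) (U := ⊤) trivial
    obtain ⟨V, -, hxV, hfinV⟩ := HenselLib.SchemeFinite.exists_finite_open (L.ι ≫ g) U hU ⟨x, hqf⟩ hxU
      (by rw [Scheme.Hom.comp_apply]; exact hx)
    refine ⟨L.ι ''ᵁ V, ⟨⟨x, hqf⟩, hxV, rfl⟩, ?_⟩
    have e : (L.ι ''ᵁ V).ι ≫ g = (L.ι.isoImage V).inv ≫ V.ι ≫ L.ι ≫ g := by
      rw [← Scheme.Hom.isoImage_inv_ι_assoc]
    rw [e]
    infer_instance
  choose V hxV hVfin using hV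
  let q : (∐ fun x => (V x : Scheme.{u})) ⟶ S' := Sigma.desc fun x => (V x).ι
  haveI : Surjective q := ⟨fun t => by
    obtain ⟨x, hx, htx⟩ := hsp t
    have ht : t ∈ V ⟨x, hx⟩ := htx.mem_open (V ⟨x, hx⟩).2 (hxV ⟨x, hx⟩)
    refine ⟨Sigma.ι (fun x => (V x : Scheme.{u})) ⟨x, hx⟩ ⟨t, ht⟩, ?_⟩
    rw [← Scheme.Hom.comp_apply, Sigma.ι_desc]
    rfl⟩
  haveI : IsFinite (q ≫ g) := by
    have e : q ≫ g = Sigma.desc fun x => (V x).ι ≫ g := by
      refine Sigma.hom_ext _ _ fun x => ?_
      rw [Sigma.ι_desc_assoc, Sigma.ι_desc]
    rw [e]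
    exact SGA1Quot.GeomTrans.isFinite_sigmaDesc _ hVfin
  haveI : Surjective (q ≫ g) := inferInstance
  intro P₁ T a b k h
  let q' := pullback.fst a q
  have hk : IsPullback (pullback.snd a q) (q' ≫ k) (q ≫ g) b :=
    (IsPullback.of_hasPullback a q).flip.paste_vert h.flip
  haveI : IsFinite (q' ≫ k) := MorphismProperty.of_isPullback hk ‹IsFinite (q ≫ g)›
  haveI : Surjective (q' ≫ k) := MorphismProperty.of_isPullback hk ‹Surjective (q ≫ g)›
  have hquot : Topology.IsQuotientMap (q' ≫ k) :=
    (q' ≫ k).isClosedMap.isQuotientMap (q' ≫ k).continuous (q' ≫ k).surjective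
  exact Topology.IsQuotientMap.of_comp q'.continuous k.continuous (by
    have e : (fun z => k (q' z)) = fun z => (q' ≫ k) z := funext fun z => (Scheme.Hom.comp_apply q' k z).symm
    show Topology.IsQuotientMap fun z => k (q' z)
    rw [e]; exact hquot)

end Groth.Agent.S5114
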