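import Groth.Statements.S5115
import Groth.Agent.Et18.TopInvEquiv
import Groth.Agent.FEtDesc.Fpqc
import Mathlib.AlgebraicGeometry.Morphisms.Flat

set_option autoImplicit false
set_option backward.isDefEq.respectTransparency false
set_option linter.all false
universe u
open CategoryTheory AlgebraicGeometry
open EtCoh

namespace Groth.Agent.S5115

open CategoryTheory.Limits

/-- A flat quasi-compact radicial surjection is integral. -/
theorem isIntegralHom_of_flat {S S' : Scheme.{u}} (g : S' ⟶ S)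
    [Flat g] [Surjective g] [QuasiCompact g] [UniversallyInjective g] : IsIntegralHom g := by
  have key : ∀ {A B : Scheme.{u}} (f : A ⟶ B) [Flat f] [Surjective f] [QuasiCompact f] [UniversallyInjective f],
      IsHomeomorph f := fun f _ _ _ _ => by
    have hq := Flat.isQuotientMap_of_surjective f
    refine ⟨f.continuous, fun U hU => ?_, f.injective, f.surjective⟩
    rw [← hq.isOpen_preimage, Set.preimage_image_eq _ f.injective]
    exact hU
  have huc : UniversallyClosed g := by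
    refine ⟨fun A B a b f h => ?_⟩
    haveI : Flat f := MorphismProperty.of_isPullback (P := @Flat) h.flip inferInstance
    haveI : Surjective f := MorphismProperty.of_isPullback (P := @Surjective) h.flip inferInstance
    haveI : QuasiCompact f := MorphismProperty.of_isPullback (P := @QuasiCompact) h.flip inferInstance
    haveI : UniversallyInjective f := MorphismProperty.of_isPullback (P := @UniversallyInjective) h.flip inferInstance
    exact (key f).isClosedEmbedding.isClosedMap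
  exact IsIntegralHom.iff_universallyClosed_and_isAffineHom.2 ⟨huc,
    isAffineHom_of_isInducing _ (key g).isInducing (key g).isClosedEmbedding.isClosed_range⟩

section Datum

variable {X S : Scheme.{u}} (p : X ⟶ S) [IsIntegralHom p] [UniversallyInjective p]
  (W : Over X) [Etale W.hom]

/-- Two points agree where their images in `X` do. -/
def Rel {T : Scheme.{u}} {x₀ x₁ : T ⟶ X} (v₀ : Desc.Lifts W x₀) (v₁ : Desc.Lifts W x₁) : Prop :=
  ∀ (T' : Scheme.{u}) (i : T' ⟶ T), i ≫ x₀ = i ≫ x₁ → i ≫ v₀.1 = i ≫ v₁.1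

/-- The locus where two maps with the same image in `S` agree. -/
theorem exists_eqLocus {T : Scheme.{u}} (x₀ x₁ : T ⟶ X) (h : x₀ ≫ p = x₁ ≫ p) :
    ∃ (E : Scheme.{u}) (i : E ⟶ T), IsIntegralHom i ∧ UniversallyInjective i ∧ Surjective i ∧ i ≫ x₀ = i ≫ x₁ ∧
      ∀ (T' : Scheme.{u}) (j : T' ⟶ T), j ≫ x₀ = j ≫ x₁ → ∃ l : T' ⟶ E, l ≫ i = j := by
  let e : T ⟶ pullback p p := pullback.lift x₀ x₁ h
  haveI : Surjective (pullback.diagonal p) := (UniversallyInjective.iff_diagonal _).1 inferInstance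
  refine ⟨pullback e (pullback.diagonal p), pullback.fst _ _, inferInstance, inferInstance, inferInstance, ?_, ?_⟩
  · have h0 := congrArg (· ≫ pullback.fst p p) (pullback.condition (f := e) (g := pullback.diagonal p))
    have h1 := congrArg (· ≫ pullback.snd p p) (pullback.condition (f := e) (g := pullback.diagonal p))
    simp only [Category.assoc, e, pullback.lift_fst, pullback.lift_snd, pullback.diagonal_fst,
      pullback.diagonal_snd, Category.comp_id] at h0 h1
    exact h0.trans h1.symm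
  · intro T' j hj
    refine ⟨pullback.lift j (j ≫ x₀) ?_, pullback.lift_fst _ _ _⟩
    apply pullback.hom_ext
    · simp [e]
    · simp [e, hj]

theorem existsUnique_rel {T : Scheme.{u}} (x₀ x₁ : T ⟶ X) (h : x₀ ≫ p = x₁ ≫ p) (v₀ : Desc.Lifts W x₀) :
    ∃! v₁ : Desc.Lifts W x₁, Rel W v₀ v₁ := by
  obtain ⟨E, i, _, _, _, hi, hfac⟩ := exists_eqLocus p x₀ x₁ h
  obtain ⟨f, ⟨hf1, hf2⟩, huniq⟩ := FEtLib.existsUnique_lift W.hom x₁ i (i ≫ v₀.1)
    (by rw [Category.assoc, v₀.2, hi])
  refine ⟨⟨f, hf1⟩, fun T' j hj => ?_, fun v hv => Subtype.ext (huniq _ ⟨v.2, (hv E i hi).symm⟩)⟩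
  obtain ⟨l, rfl⟩ := hfac T' j hj
  simp [hf2]

theorem rel_symm {T : Scheme.{u}} {x₀ x₁ : T ⟶ X} {v₀ : Desc.Lifts W x₀} {v₁ : Desc.Lifts W x₁}
    (h : Rel W v₀ v₁) : Rel W v₁ v₀ := fun T' i hi => (h T' i hi.symm).symm

/-- The transition bijection. -/
noncomputable def move {T : Scheme.{u}} (x₀ x₁ : T ⟶ X) (h : x₀ ≫ p = x₁ ≫ p) :
    Desc.Lifts W x₀ ≃ Desc.Lifts W x₁ where
  toFun v := (existsUnique_rel p W x₀ x₁ h v).exists.choose
  invFun v := (existsUnique_rel p W x₁ x₀ h.symm v).exists.choose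
  left_inv v := (existsUnique_rel p W x₁ x₀ h.symm _).unique
    (existsUnique_rel p W x₁ x₀ h.symm _).exists.choose_spec
    (rel_symm W (existsUnique_rel p W x₀ x₁ h v).exists.choose_spec)
  right_inv v := (existsUnique_rel p W x₀ x₁ h _).unique
    (existsUnique_rel p W x₀ x₁ h _).exists.choose_spec
    (rel_symm W (existsUnique_rel p W x₁ x₀ h.symm v).exists.choose_spec)

theorem move_spec {T : Scheme.{u}} (x₀ x₁ : T ⟶ X) (h : x₀ ≫ p = x₁ ≫ p) (v : Desc.Lifts W x₀) :
    Rel W v (move p W x₀ x₁ h v) :=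
  (existsUnique_rel p W x₀ x₁ h v).exists.choose_spec

/-- Schemes étale over `X` carry a unique descent datum. -/
noncomputable def datum : Desc.SchDD p where
  obj := W
  φ T x₀ x₁ h := move p W x₀ x₁ h
  φ_natural T T' g x₀ x₁ h h' v v' hv := by
    have hr : Rel W v' (⟨g ≫ (move p W x₀ x₁ h v).1, by rw [Category.assoc, (move p W x₀ x₁ h v).2]⟩ :
        Desc.Lifts W (g ≫ x₁)) := fun T'' i hi => by
      rw [hv, ← Category.assoc, ← Category.assoc]
      exact move_spec p W x₀ x₁ h v T'' (i ≫ g) (by rw [Category.assoc, Category.assoc, hi])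
    exact congrArg Subtype.val ((existsUnique_rel p W (g ≫ x₀) (g ≫ x₁) h' v').unique
      (move_spec p W (g ≫ x₀) (g ≫ x₁) h' v') hr)
  φ_self T x v := (existsUnique_rel p W x x rfl v).unique (move_spec p W x x rfl v) fun _ _ _ => rfl
  φ_comp T x₀ x₁ x₂ h₀₁ h₁₂ v := by
    let v₁ := move p W x₀ x₁ h₀₁ v
    let v₂ := move p W x₁ x₂ h₁₂ v₁
    obtain ⟨E, i, _, _, _, hi, -⟩ := exists_eqLocus p x₀ x₁ h₀₁
    obtain ⟨E', i', _, _, _, hi', -⟩ := exists_eqLocus p (i ≫ x₁) (i ≫ x₂)
      (by rw [Category.assoc, Category.assoc, h₁₂])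
    have e01 : (i' ≫ i) ≫ x₀ = (i' ≫ i) ≫ x₁ := by rw [Category.assoc, hi, Category.assoc]
    have e12 : (i' ≫ i) ≫ x₁ = (i' ≫ i) ≫ x₂ := by rw [Category.assoc, hi', Category.assoc]
    have h1 := move_spec p W x₀ x₁ h₀₁ v E' (i' ≫ i) e01
    have h2 := move_spec p W x₁ x₂ h₁₂ v₁ E' (i' ≫ i) e12
    have h3 := move_spec p W x₀ x₂ (h₀₁.trans h₁₂) v E' (i' ≫ i) (e01.trans e12)
    refine Subtype.ext (FEtLib.eq_of_surjective W.hom _ _ (i' ≫ i) ((h1.trans h2).symm.trans h3) ?_)
    rw [(move p W x₁ x₂ h₁₂ v₁).2, (move p W x₀ x₂ (h₀₁.trans h₁₂) v).2]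

end Datum

open AlgebraicGeometry CategoryTheory CategoryTheory.Limits in
/-- Let g : S' ⟶ S be faithfully flat (flat and surjective), quasi-compact and radicial (universally
injective). Then base change along g is an equivalence from the category of schemes etale over S to
the category of schemes etale over S'. -/
theorem result {S S' : Scheme.{u}} (g : S' ⟶ S)
    [Flat g] [Surjective g] [QuasiCompact g] [UniversallyInjective g] :
    (EtCoh.bc g).IsEquivalence := by
  haveI := isIntegralHom_of_flat g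
  refine Et18.bc_isEquivalence_of_local_lift g fun W w => ?_
  obtain ⟨V, hV, hwV, -⟩ := TopologicalSpace.Opens.isBasis_iff_nbhd.mp S.isBasis_affineOpens
    (TopologicalSpace.Opens.mem_top (g (W.hom w)))
  have hgV : IsAffineOpen (g ⁻¹ᵁ V) := hV.preimage g
  obtain ⟨O, hO, hwO, hOV⟩ := TopologicalSpace.Opens.isBasis_iff_nbhd.mp W.left.isBasis_affineOpens
    (show w ∈ W.hom ⁻¹ᵁ (g ⁻¹ᵁ V) from hwV)
  refine ⟨O, hwO, ?_⟩
  let g' := g ∣_ V
  haveI : IsIntegralHom g' := IsZariskiLocalAtTarget.restrict (P := @IsIntegralHom) inferInstance V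
  haveI : UniversallyInjective g' := MorphismProperty.of_isPullback (P := @UniversallyInjective)
    (isPullback_morphismRestrict g V).flip inferInstance
  haveI : Surjective g' := IsZariskiLocalAtTarget.restrict (P := @Surjective) inferInstance V
  haveI : Flat g' := IsZariskiLocalAtTarget.restrict (P := @Flat) inferInstance V
  haveI : QuasiCompact g' := IsZariskiLocalAtTarget.restrict (P := @QuasiCompact) inferInstance V
  haveI := W.prop
  let o : (O : Scheme.{u}) ⟶ (g ⁻¹ᵁ V : S'.Opens) := IsOpenImmersion.lift (g ⁻¹ᵁ V).ι ((Scheme.Opens.ι O) ≫ W.hom) (by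
    rintro _ ⟨t, rfl⟩
    rw [Scheme.Opens.range_ι]
    exact hOV t.2)
  have ho : o ≫ (g ⁻¹ᵁ V).ι = (Scheme.Opens.ι O) ≫ W.hom := IsOpenImmersion.lift_fac _ _ _
  haveI : Etale (o ≫ (g ⁻¹ᵁ V).ι) := by rw [ho]; infer_instance
  haveI : Etale o := Etale.of_comp o (g ⁻¹ᵁ V).ι
  haveI : IsAffine (g ⁻¹ᵁ V : S'.Opens) := hgV
  haveI : IsAffine (O : Scheme.{u}) := hO
  let W' : Over (g ⁻¹ᵁ V : Scheme.{u}) := Over.mk o
  haveI : Etale W'.hom := inferInstanceAs (Etale o)
  haveI : IsAffineHom o := isAffineHom_of_isAffine o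
  haveI : QuasiCompact (datum g' W').obj.hom := inferInstanceAs (QuasiCompact o)
  haveI : IsSeparated (datum g' W').obj.hom := inferInstanceAs (IsSeparated o)
  haveI : Etale (datum g' W').obj.hom := inferInstanceAs (Etale o)
  obtain ⟨U, -, -, hUet, ⟨e⟩⟩ := FEtDesc.exists_descend g' (datum g' W')
  haveI := hUet
  let m : pullback g' U.hom ⟶ (O : Scheme.{u}) := e.hom.hom.left
  haveI : IsIso m :=
    ⟨e.inv.hom.left, congrArg (fun k => k.hom.left) e.hom_inv_id, congrArg (fun k => k.hom.left) e.inv_hom_id⟩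
  have hm : m ≫ o = pullback.fst g' U.hom := Over.w e.hom.hom
  haveI : Etale (U.hom ≫ (Scheme.Opens.ι V)) := inferInstance
  let U' : S.Etale := Scheme.Etale.mk (U.hom ≫ (Scheme.Opens.ι V))
  have sq : IsPullback (pullback.snd g' U.hom) (pullback.fst g' U.hom ≫ (g ⁻¹ᵁ V).ι) (U.hom ≫ (Scheme.Opens.ι V)) g :=
    (IsPullback.of_hasPullback g' U.hom).flip.paste_vert (isPullback_morphismRestrict g V)
  let iso : pullback (U.hom ≫ (Scheme.Opens.ι V)) g ≅ (O : Scheme.{u}) := sq.isoPullback.symm ≪≫ asIso m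
  refine ⟨U', ⟨(Scheme.Etale.forget S').preimageIso (Over.isoMk iso ?_)⟩⟩
  show (sq.isoPullback.inv ≫ m) ≫ (Scheme.Opens.ι O) ≫ W.hom = pullback.snd (U.hom ≫ (Scheme.Opens.ι V)) g
  rw [Category.assoc, ← ho, reassoc_of% hm, IsPullback.isoPullback_inv_snd]

end Groth.Agent.S5115
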