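import Groth.Statements.S5116
import Groth.Agent.FEtStein.ProperHensel

set_option backward.isDefEq.respectTransparency.types false
set_option backward.isDefEq.respectTransparency false
set_option linter.style.haveILetI false
-- import your own Groth.Agent.* helpers here

set_option autoImplicit false
universe u
open Pi1

namespace Groth.Agent.S5116

open AlgebraicGeometry CategoryTheory CategoryTheory.Limits in
/-- The injectivity of π₁ of the geometric closed fibre into π₁ of the total space, in terms of covers.
Let A be a complete Noetherian local ring with residue field k, k̄ an algebraic closure of k, ξ :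
Spec k̄ ⟶ Spec A the resulting geometric point, X a proper A-scheme with X ×_A Spec k̄ connected.
Then every finite etale cover of X ×_A Spec k̄ admits an open and closed immersion, over X ×_A Spec
k̄, into the base change of some finite etale cover of X. -/
theorem result (A : Type u) [CommRing A]
    [IsNoetherianRing A] [IsLocalRing A] [IsAdicComplete (IsLocalRing.maximalIdeal A) A]
    {X : Scheme.{u}} (f : X ⟶ Spec (CommRingCat.of A)) [IsProper f]
    (ξ : Spec (CommRingCat.of (AlgebraicClosure (IsLocalRing.ResidueField A))) ⟶ Spec (CommRingCat.of A))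
    (hξ : ξ = Spec.map (CommRingCat.ofHom ((algebraMap (IsLocalRing.ResidueField A)
      (AlgebraicClosure (IsLocalRing.ResidueField A))).comp (IsLocalRing.residue A))))
    [ConnectedSpace ↥(pullback f ξ)] (V : FEt.Cat (pullback f ξ)) :
    ∃ (U : FEt.Cat X) (ι : V ⟶ (FEt.restrict (pullback.fst f ξ)).obj U),
      IsOpenImmersion ι.left ∧ IsClosedImmersion ι.left := by
  subst hξ
  let r := Spec.map (CommRingCat.ofHom (IsLocalRing.residue A))
  let ξ₁ := Spec.map (CommRingCat.ofHom (algebraMap (IsLocalRing.ResidueField A) (AlgebraicClosure (IsLocalRing.ResidueField A))))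
  let g := pullback.snd f r
  haveI : IsProper g := MorphismProperty.pullback_snd _ _ ‹IsProper f›
  haveI : CompactSpace ↥(pullback f r) := QuasiCompact.compactSpace_of_compactSpace g
  haveI : QuasiSeparatedSpace ↥(pullback f r) := quasiSeparatedSpace_of_quasiSeparated g
  have hξ : ξ₁ ≫ r = Spec.map (CommRingCat.ofHom ((algebraMap (IsLocalRing.ResidueField A)
      (AlgebraicClosure (IsLocalRing.ResidueField A))).comp (IsLocalRing.residue A))) := by
    rw [← Spec.map_comp, ← CommRingCat.ofHom_comp]
  let e := pullbackLeftPullbackSndIso f r ξ₁ ≪≫ pullback.congrHom rfl hξ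
  obtain ⟨U₀, ι', ho, hcl⟩ := Groth.Agent.FEtQuot.FieldLimit.exists_dominating (Ω := AlgebraicClosure (IsLocalRing.ResidueField A)) g
    ((FEt.restrict e.hom).obj V)
  haveI := Groth.Agent.FEtStein.restrict_isEquivalence_henselian (IsLocalRing.maximalIdeal A) f
  haveI hess : (FEt.restrict (pullback.fst f r)).EssSurj :=
    Groth.Agent.FEtStein.restrict_essSurj_henselian (IsLocalRing.maximalIdeal A) f
  let U := (FEt.restrict (pullback.fst f r)).objPreimage U₀
  let δ : (FEt.restrict (pullback.fst g ξ₁)).obj U₀ ≅ (FEt.restrict e.hom).obj ((FEt.restrict (pullback.fst f _)).obj U) :=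
    (FEt.restrict (pullback.fst g ξ₁)).mapIso ((FEt.restrict (pullback.fst f r)).objObjPreimageIso U₀).symm ≪≫
      ((Groth.Agent.FEtStein.restrictCompIso (pullback.fst g ξ₁) (pullback.fst f r) _ rfl).app U).symm ≪≫
      (Groth.Agent.FEtStein.restrictCompIso e.hom (pullback.fst f _) _ (by simp [e, g])).app U
  haveI := Groth.Agent.S0289.result e.hom
  let ι := (FEt.restrict e.hom).preimage (ι' ≫ δ.hom)
  refine ⟨U, ι, ?_⟩
  have hmap : (FEt.restrict e.hom).map ι = ι' ≫ δ.hom := (FEt.restrict e.hom).map_preimage _
  haveI : IsIso δ.hom.left :=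
    inferInstanceAs (IsIso ((MorphismProperty.Over.forget FEt.prop ⊤ _ ⋙ Over.forget _).map δ.hom))
  have hleft : ι.left = inv (pullback.fst V.hom e.hom) ≫ (ι'.left ≫ δ.hom.left) ≫
      pullback.fst ((FEt.restrict (pullback.fst f _)).obj U).hom e.hom := by
    rw [IsIso.eq_inv_comp, ← Groth.Agent.FEtStein.restrict_map_fst' e.hom ι, hmap]
    rfl
  rw [hleft]
  exact ⟨inferInstance, inferInstance⟩

end Groth.Agent.S5116
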