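import Groth.Statements.S5118
import Groth.Agent.S14457

set_option autoImplicit false
universe u
open SGA1t

namespace Groth.Agent.S5118

open Polynomial in
/-- The etaleness criterion for the Kummer group scheme: Let A be a commutative ring and n ≥ 1. The
group scheme μ_n over Spec A is the spectrum of A[t]/(t^n − 1), a free A-module of rank n; it is
etale over A if and only if n is a unit of A (equivalently, n is prime to the characteristic of the
residue field at every point of Spec A). -/
theorem result (A : Type u) [CommRing A] (n : ℕ) (hn : 1 ≤ n) :
    Algebra.Etale A (AdjoinRoot ((X : A[X]) ^ n - 1)) ↔ IsUnit ((n : ℕ) : A) := by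
  have h := Groth.Agent.S14457.result A 1 n hn
  rw [Polynomial.C_1, mul_one] at h
  rw [h]
  refine ⟨fun h => h.elim (fun h1 => ?_) id, Or.inr⟩
  subst h1
  rw [Nat.cast_one]
  exact isUnit_one

end Groth.Agent.S5118
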