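import Groth.Statements.S5119

set_option autoImplicit false
universe u
open scoped LaurentPolynomial
open SGA1t

namespace Groth.Agent.S5119

/-- The computation behind the exactness of the Kummer sequence 0 → μ_n → G_m → G_m → 0, i.e. faithful
flatness of the n-th power map u_n of G_m: Let A be a commutative ring and n ≥ 1, and let u_n be the
ring endomorphism of A[t, t⁻¹] with u_n(t) = t^n (on monomials, t^k ↦ t^{nk}). Then A[t, t⁻¹] is
free of rank n over itself via u_n, with basis 1, t, …, t^{n−1}: every Laurent polynomial q can be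
written in exactly one way as Σ_{i<n} u_n(c_i) t^i. -/
theorem result (A : Type u) [CommRing A] (n : ℕ) (hn : 1 ≤ n) (q : A[T;T⁻¹]) :
    ∃! c : Fin n → A[T;T⁻¹],
      q = ∑ i : Fin n, (AddMonoidAlgebra.mapDomainRingHom A (AddMonoidHom.mulLeft (n : ℤ)) : A[T;T⁻¹] →+* A[T;T⁻¹]) (c i) *
        LaurentPolynomial.T (i : ℤ) := by
  classical
  have hn0 : (0 : ℤ) < n := by exact_mod_cast hn
  have hterm : ∀ (c : A[T;T⁻¹]) (i : ℕ), i < n → ∀ (j : ℕ), j < n → ∀ m : ℤ,
      ((AddMonoidAlgebra.mapDomainRingHom A (AddMonoidHom.mulLeft (n : ℤ)) : A[T;T⁻¹] →+* A[T;T⁻¹]) c *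
        LaurentPolynomial.T (i : ℤ)).coeff ((n : ℤ) * m + j) = if i = j then c.coeff m else 0 := by
    intro c i hi j hj m
    induction c using LaurentPolynomial.induction_on' with
    | add f g hf hg =>
      rw [RingHom.map_add, add_mul, AddMonoidAlgebra.coeff_add, Finsupp.add_apply, hf, hg, AddMonoidAlgebra.coeff_add,
        Finsupp.add_apply]
      split_ifs <;> simp
    | C_mul_T l a =>
      rw [← LaurentPolynomial.single_eq_C_mul_T, AddMonoidAlgebra.mapDomainRingHom_apply,
        AddMonoidAlgebra.mapDomain_single, LaurentPolynomial.T, AddMonoidAlgebra.single_mul_single, mul_one,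
        AddMonoidAlgebra.coeff_single, AddMonoidAlgebra.coeff_single, Finsupp.single_apply, Finsupp.single_apply]
      change (if (n : ℤ) * l + i = (n : ℤ) * m + j then a else 0) = _
      by_cases hij : i = j
      · subst hij
        by_cases hlm : l = m
        · subst hlm; simp
        · rw [if_neg, if_pos rfl, if_neg hlm]
          intro h
          exact hlm (mul_left_cancel₀ hn0.ne' (add_right_cancel h))
      · rw [if_neg, if_neg hij]
        intro h
        apply hij
        have := congrArg (fun z : ℤ => z % (n : ℤ)) h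
        simp only [Int.add_emod, Int.mul_emod_right, zero_add, Int.emod_emod] at this
        rw [Int.emod_eq_of_lt (by positivity) (by exact_mod_cast hi),
          Int.emod_eq_of_lt (by positivity) (by exact_mod_cast hj)] at this
        exact_mod_cast this
  have hsum : ∀ (c : Fin n → A[T;T⁻¹]) (j : Fin n) (m : ℤ),
      (∑ i : Fin n, (AddMonoidAlgebra.mapDomainRingHom A (AddMonoidHom.mulLeft (n : ℤ)) : A[T;T⁻¹] →+* A[T;T⁻¹]) (c i) *
        LaurentPolynomial.T (i : ℤ)).coeff ((n : ℤ) * m + (j : ℕ)) = (c j).coeff m := by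
    intro c j m
    rw [AddMonoidAlgebra.coeff_sum, Finset.sum_apply', Finset.sum_eq_single j]
    · rw [hterm _ _ j.2 _ j.2, if_pos rfl]
    · intro i _ hij
      rw [hterm _ _ i.2 _ j.2, if_neg (fun h => hij (Fin.ext h))]
    · exact fun h => absurd (Finset.mem_univ j) h
  have hinj : ∀ j : Fin n, Function.Injective fun m : ℤ => (n : ℤ) * m + (j : ℕ) := fun j a b h =>
    mul_left_cancel₀ hn0.ne' (add_right_cancel h)
  let c₀ : Fin n → A[T;T⁻¹] := fun j => AddMonoidAlgebra.ofCoeff
    (q.coeff.comapDomain (fun m : ℤ => (n : ℤ) * m + (j : ℕ)) (hinj j).injOn)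
  refine ⟨c₀, ?_, fun c hc => ?_⟩
  · refine LaurentPolynomial.ext fun k => ?_
    have hk : k = (n : ℤ) * (k / n) + ((k % n).toNat : ℕ) := by
      rw [Int.toNat_of_nonneg (Int.emod_nonneg _ hn0.ne'), Int.mul_ediv_add_emod]
    have hlt : (k % n).toNat < n := by
      have := Int.emod_lt_of_pos k hn0
      have := Int.emod_nonneg k hn0.ne'
      omega
    rw [hk, hsum c₀ ⟨_, hlt⟩]
    simp [c₀]
  · funext j
    refine LaurentPolynomial.ext fun m => ?_
    rw [← hsum c j m, ← hc]
    simp [c₀]

end Groth.Agent.S5119
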