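import Groth.Statements.S5120

set_option autoImplicit false
universe u
open SGA1t

namespace Groth.Agent.S5120

open Polynomial in
/-- The computation behind the exactness of the Artin-Schreier sequence 0 → Z/p → G_a → G_a → 0 in
characteristic p, i.e. faithful flatness of ℘ = id − F: Let p be a prime and A a ring of
characteristic p. Then A[t] is free of rank p over itself via the endomorphism t ↦ t − t^p, with
basis 1, t, …, t^{p−1}: every polynomial q can be written in exactly one way as Σ_{i<p} c_i(t − t^p)
t^i. -/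
theorem result (p : ℕ) [Fact p.Prime] (A : Type u) [CommRing A] [CharP A p]
    (q : A[X]) :
    ∃! c : Fin p → A[X], q = ∑ i : Fin p, aeval (X - X ^ p : A[X]) (c i) * X ^ (i : ℕ) := by
  classical
  have hp2 : 2 ≤ p := (Fact.out : p.Prime).two_le
  nontriviality A
  let g : A[X][X] := X ^ p - X + C X
  have hg : g.Monic := by
    have : g = X ^ p + (C X - X) := by simp only [g]; ring
    rw [this]
    refine monic_X_pow_add ?_
    refine (degree_sub_le _ _).trans_lt (max_lt ?_ ?_)
    · exact degree_C_le.trans_lt (by exact_mod_cast (by omega : 0 < p))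
    · exact degree_X_le.trans_lt (by exact_mod_cast (by omega : 1 < p))
  have hdeg : g.natDegree = p := by
    have : g = X ^ p + (C X - X) := by simp only [g]; ring
    rw [this, natDegree_add_eq_left_of_natDegree_lt]
    · exact natDegree_X_pow p
    · rw [natDegree_X_pow]
      exact ((natDegree_sub_le _ _).trans (max_le (by simp) natDegree_X_le)).trans_lt (by omega : 1 < p)
  have hroot : (AdjoinRoot.root g) ^ p - AdjoinRoot.root g + AdjoinRoot.of g X = 0 := by
    have := AdjoinRoot.eval₂_root g
    simpa [g, eval₂_sub, eval₂_add] using this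
  let φ : AdjoinRoot g →+* A[X] := AdjoinRoot.lift (aeval (X - X ^ p : A[X])).toRingHom X (by
    simp [g, eval₂_sub, eval₂_add])
  let ψ : A[X] →+* AdjoinRoot g := eval₂RingHom ((AdjoinRoot.of g).comp C) (AdjoinRoot.root g)
  have h1 : φ.comp ψ = RingHom.id _ := Polynomial.ringHom_ext (fun a => by simp [φ, ψ]) (by simp [φ, ψ])
  have h2 : ψ.comp φ = RingHom.id _ := by
    refine Ideal.Quotient.ringHom_ext (Polynomial.ringHom_ext' (Polynomial.ringHom_ext (fun a => ?_) ?_) ?_)
    · show ψ (φ (AdjoinRoot.of g (C a))) = AdjoinRoot.of g (C a)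
      simp [φ, ψ]
    · show ψ (φ (AdjoinRoot.of g X)) = AdjoinRoot.of g X
      simp [φ, ψ]
      linear_combination hroot.symm
    · show ψ (φ (AdjoinRoot.root g)) = AdjoinRoot.root g
      simp [φ, ψ]
  let e : AdjoinRoot g ≃+* A[X] := RingEquiv.ofRingHom φ ψ h1 h2
  let b := (AdjoinRoot.powerBasis' hg).basis.reindex (finCongr hdeg)
  have hb : ∀ i : Fin p, b i = AdjoinRoot.root g ^ (i : ℕ) := fun i => by simp [b]
  have key : ∀ c : Fin p → A[X],
      e (∑ i : Fin p, c i • b i) = ∑ i : Fin p, aeval (X - X ^ p : A[X]) (c i) * X ^ (i : ℕ) := fun c => by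
    rw [map_sum]
    refine Finset.sum_congr rfl fun i _ => ?_
    rw [Algebra.smul_def, map_mul, hb, map_pow]
    simp [e, φ]
  refine ⟨b.equivFun (e.symm q), ?_, fun c hc => ?_⟩
  · beta_reduce
    rw [← key, b.sum_equivFun, e.apply_symm_apply]
  · beta_reduce at hc
    rw [← key] at hc
    rw [hc, e.symm_apply_apply, ← b.equivFun_symm_apply, LinearEquiv.apply_symm_apply]

end Groth.Agent.S5120
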