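import Groth.Statements.S5128
import Groth.Agent.FEtLib.EqLocus

set_option autoImplicit false
set_option backward.isDefEq.respectTransparency.types false
universe u
open SGA1

namespace Groth.Agent.S5128

open AlgebraicGeometry CategoryTheory CategoryTheory.Limits in
/-- Let X and Y be S-schemes with Y etale over S. The map f ↦ Γ_f sending an S-morphism f : X ⟶ Y to the
subset of X ×_S Y underlying its graph is a bijection from Hom_S(X, Y) onto the set of open subsets
Γ of X ×_S Y for which the restriction Γ → X of the first projection is radicial (universally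
injective) and surjective. Stated as: the graph of every S-morphism is an open immersion, and every
such open Γ is the image of the graph of exactly one S-morphism. -/
theorem result {S X Y : Scheme.{u}} (p : X ⟶ S)
    (q : Y ⟶ S) [Etale q] :
    (∀ f : {f : X ⟶ Y // f ≫ q = p},
      IsOpenImmersion (pullback.lift (𝟙 X) f.1 ((Category.id_comp p).trans f.2.symm) : X ⟶ pullback p q)) ∧
    ∀ Γ : (pullback p q).Opens, UniversallyInjective (Γ.ι ≫ pullback.fst p q) → Surjective (Γ.ι ≫ pullback.fst p q) →
      ∃! f : {f : X ⟶ Y // f ≫ q = p},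
        Set.range (pullback.lift (𝟙 X) f.1 ((Category.id_comp p).trans f.2.symm) : X ⟶ pullback p q).base =
          (Γ : Set ↥(pullback p q)) := by
  have hgraph : ∀ f : {f : X ⟶ Y // f ≫ q = p},
      IsOpenImmersion (pullback.lift (𝟙 X) f.1 ((Category.id_comp p).trans f.2.symm) : X ⟶ pullback p q) := fun f => by
    let m : X ⟶ pullback p q := pullback.lift (𝟙 X) f.1 ((Category.id_comp p).trans f.2.symm)
    have hm : m ≫ pullback.fst p q = 𝟙 X := pullback.lift_fst _ _ _
    haveI : Etale (m ≫ pullback.fst p q) := hm ▸ inferInstance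
    haveI : Etale m := Etale.of_comp m (pullback.fst p q)
    haveI : Mono m := mono_of_mono_fac hm
    exact Groth.Agent.FEtLib.isOpenImmersion_of_etale_universallyInjective m
  refine ⟨hgraph, fun Γ hΓ hΓs => ?_⟩
  haveI := Groth.Agent.FEtLib.isOpenImmersion_of_etale_universallyInjective (Γ.ι ≫ pullback.fst p q)
  haveI : IsIso (Γ.ι ≫ pullback.fst p q) :=
    (isIso_iff_isOpenImmersion_and_epi_base _).2 ⟨‹_›, (TopCat.epi_iff_surjective _).2 hΓs.surj⟩
  let g := inv (Γ.ι ≫ pullback.fst p q) ≫ Γ.ι
  have hg : g ≫ pullback.fst p q = 𝟙 X := (Category.assoc _ _ _).trans (IsIso.inv_hom_id (Γ.ι ≫ pullback.fst p q))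
  have hf : (g ≫ pullback.snd p q) ≫ q = p := by
    rw [Category.assoc, ← pullback.condition, ← Category.assoc, hg, Category.id_comp]
  have hlift : pullback.lift (𝟙 X) (g ≫ pullback.snd p q) ((Category.id_comp p).trans hf.symm) = g := by
    apply pullback.hom_ext
    · rw [pullback.lift_fst, hg]
    · rw [pullback.lift_snd]
  refine ⟨⟨g ≫ pullback.snd p q, hf⟩, ?_, fun f' hf' => ?_⟩
  · show Set.range (pullback.lift (𝟙 X) (g ≫ pullback.snd p q) _ : X ⟶ pullback p q).base = _
    rw [hlift]
    simp only [g, Scheme.Hom.comp_base, TopCat.coe_comp, Set.range_comp]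
    rw [Set.range_eq_univ.2 (inv (Γ.ι ≫ pullback.fst p q)).surjective, Set.image_univ, Scheme.Opens.range_ι]
  · let m : X ⟶ pullback p q := pullback.lift (𝟙 X) f'.1 ((Category.id_comp p).trans f'.2.symm)
    let l := IsOpenImmersion.lift Γ.ι m (by
      rw [Scheme.Opens.range_ι]
      exact le_of_eq hf')
    have hl : l ≫ Γ.ι = m := IsOpenImmersion.lift_fac _ _ _
    have hl' : l = inv (Γ.ι ≫ pullback.fst p q) := by
      apply IsIso.eq_inv_of_inv_hom_id
      rw [← Category.assoc, hl]
      exact pullback.lift_fst _ _ _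
    apply Subtype.ext
    show f'.1 = g ≫ pullback.snd p q
    rw [show g = m by simp only [g]; rw [← hl', hl]]
    exact (pullback.lift_snd _ _ _).symm

end Groth.Agent.S5128
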