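import Groth.Statements.S5131
import Groth.Agent.Purity10.SteinEtale
import Groth.Agent.Purity10.SteinForward
import Groth.Agent.Coherent.Stein
import Groth.Agent.Coherent.GeomConnected

set_option linter.style.haveILetI false
-- import your own Groth.Agent.* helpers here

set_option autoImplicit false
set_option linter.style.haveILetI false
set_option backward.isDefEq.respectTransparency.types false
set_option backward.isDefEq.respectTransparency false
universe u
open SGA1

namespace Groth.Agent.S5131

open AlgebraicGeometry CategoryTheory CategoryTheory.Limits in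
/-- Let f : X ⟶ S be a proper morphism of locally Noetherian schemes with f_* O_X = O_S (the maps O_S(U)
→ O_X(f⁻¹U) are bijective), X' a scheme proper over X via g, and X' → S' → S the Stein factorisation
of g ≫ f (S' the normalisation of S in X'), with c : X' ⟶ X ×_S S' the canonical morphism. Let s be
a point of S, s' a point of S' over s, and F'₁ the open and closed part of the fibre X'_s consisting
of the points sent to s' (a connected component of X'_s). Then c is an isomorphism over some open
neighbourhood U' of s' with U' etale over S if and only if X' is etale over X at every point of F'₁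
and F'₁ is a finite etale cover of the fibre X_s which splits completely after base change to an
algebraic closure of k(s). -/
theorem result {X X' S : Scheme.{u}} [IsLocallyNoetherian S]
    [IsLocallyNoetherian X] (f : X ⟶ S) [IsProper f] (hO : ∀ U : S.Opens, Function.Bijective (f.app U).hom)
    (g : X' ⟶ X) [IsProper g]
    (c : X' ⟶ pullback f (g ≫ f).fromNormalization)
    (hc1 : c ≫ pullback.fst f (g ≫ f).fromNormalization = g)
    (hc2 : c ≫ pullback.snd f (g ≫ f).fromNormalization = (g ≫ f).toNormalization)
    (s : S) (s' : ↥((g ≫ f).normalization)) (hs' : (g ≫ f).fromNormalization.base s' = s)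
    (C : (pullback (g ≫ f) (S.fromSpecResidueField s)).Opens)
    (hC : ∀ x : ↥(pullback (g ≫ f) (S.fromSpecResidueField s)),
      x ∈ C ↔ (g ≫ f).toNormalization.base ((pullback.fst (g ≫ f) (S.fromSpecResidueField s)).base x) = s') :
    (∃ U' : ((g ≫ f).normalization).Opens, s' ∈ U' ∧ Etale (U'.ι ≫ (g ≫ f).fromNormalization) ∧
        IsIso (c ∣_ ((pullback.snd f (g ≫ f).fromNormalization) ⁻¹ᵁ U'))) ↔
      ((∀ x : C, (pullback.fst (g ≫ f) (S.fromSpecResidueField s)).base x.1 ∈ Pi1X.etaleLocus g) ∧
        ∃ (hF : IsFinite (C.ι ≫ pullback.map (g ≫ f) (S.fromSpecResidueField s) f (S.fromSpecResidueField s) g (𝟙 _) (𝟙 S)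
        (Category.comp_id _) ((Category.comp_id _).trans (Category.id_comp _).symm)))
          (hE : Etale (C.ι ≫ pullback.map (g ≫ f) (S.fromSpecResidueField s) f (S.fromSpecResidueField s) g (𝟙 _) (𝟙 S)
        (Category.comp_id _) ((Category.comp_id _).trans (Category.id_comp _).symm))),
          Pi1.IsSplit ((FEt.restrict (pullback.fst (pullback.snd f (S.fromSpecResidueField s))
            (Spec.map (CommRingCat.ofHom (algebraMap (S.residueField s) (AlgebraicClosure (S.residueField s))))))).obj
            (MorphismProperty.Over.mk ⊤ (C.ι ≫ pullback.map (g ≫ f) (S.fromSpecResidueField s) f (S.fromSpecResidueField s) g (𝟙 _) (𝟙 S)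
        (Category.comp_id _) ((Category.comp_id _).trans (Category.id_comp _).symm)) ⟨hF, hE⟩))) := by
  classical
  have hfiso : ∀ V, IsIso (f.app V) := fun V => (ConcreteCategory.isIso_iff_bijective _).mpr (hO V)
  haveI : GeometricallyConnected f := Coherent.geometricallyConnected_of_isIso_app f hfiso
  haveI := Coherent.isFinite_fromNormalization_of_isProper (g ≫ f)
  haveI := Coherent.isLocallyNoetherian_normalization (g ≫ f)
  haveI := Coherent.isProper_toNormalization (g ≫ f)
  have htiso := Coherent.isIso_toNormalization_app (g ≫ f)
  haveI : GeometricallyConnected (g ≫ f).toNormalization :=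
    Coherent.geometricallyConnected_of_isIso_app _ htiso
  have ht : ∀ V, Function.Bijective ((g ≫ f).toNormalization.app V).hom := fun V =>
    (ConcreteCategory.isIso_iff_bijective _).mp (htiso V)
  let res := S.fromSpecResidueField s
  let mp := C.ι ≫ pullback.map (g ≫ f) res f res g (𝟙 _) (𝟙 S)
    (Category.comp_id _) ((Category.comp_id _).trans (Category.id_comp _).symm)
  have hmp₁ : mp ≫ pullback.fst f res = C.ι ≫ pullback.fst (g ≫ f) res ≫ g := by
    simp [mp, pullback.map]
  have hmp₂ : mp ≫ pullback.snd f res = C.ι ≫ pullback.snd (g ≫ f) res := by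
    simp [mp, pullback.map]
  constructor
  · rintro ⟨U', hsU, hU', hiso⟩
    obtain ⟨hF, hE, hsp⟩ := Purity10.SteinForward.exists_cover f g _ _ (g ≫ f).toNormalization_fromNormalization
      c hc1 hc2 s s' hs' U' hsU hU' hiso C hC mp hmp₁ hmp₂
    refine ⟨fun x => Purity10.SteinForward.mem_etaleLocus f g _ _ c hc1 hc2 U' hU' hiso _ ?_,
      hF, hE, Purity10.SplitData.HasSplitting.isSplit hsp⟩
    rw [show (g ≫ f).toNormalization _ = s' from (hC x.1).1 x.2]
    exact hsU
  · rintro ⟨het, hF, hE, hsp⟩
    refine Purity10.SteinEtale.exists_nhd f hO g _ _ ht (g ≫ f).toNormalization_fromNormalization c hc1 hc2 s s'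
      hs' C (fun z hz => (hC z).2 hz) (fun x' hx' => ?_) mp hmp₁ hmp₂ hF hE
      (Purity10.SplitData.hasSplitting_of_isSplit hsp)
    obtain ⟨z, hz, -⟩ := Scheme.Pullback.exists_preimage_pullback (f := g ≫ f) (g := res) x'
      (IsLocalRing.closedPoint _) (by
        rw [Scheme.fromSpecResidueField_apply, ← hs', ← hx', ← Scheme.Hom.comp_apply,
          Scheme.Hom.toNormalization_fromNormalization])
    have := het ⟨z, (hC z).2 (by rw [hz]; exact hx')⟩
    rw [hz] at this
    exact this

end Groth.Agent.S5131
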