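import Groth.Statements.S5132
import Groth.Agent.Et18.Descent

set_option autoImplicit false
open CategoryTheory AlgebraicGeometry
universe u
open SGA1

namespace Groth.Agent.S5132
open CategoryTheory CategoryTheory.Limits AlgebraicGeometry

/-- Quasi-compactness of a morphism descends along a surjective and quasi-compact base change; flatness
of the base change is not needed for this property. -/
theorem result :
    MorphismProperty.DescendsAlong @QuasiCompact (@Surjective ⊓ @QuasiCompact : MorphismProperty Scheme.{u}) := by
  refine IsZariskiLocalAtTarget.descendsAlong_inf_quasiCompact _ _ inf_le_right ?_
  intro R S Y φ g _ h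
  rw [HasAffineProperty.iff_of_isAffine (P := @QuasiCompact)] at h ⊢
  exact (pullback.snd (Spec.map φ) g).surjective.compactSpace (pullback.snd (Spec.map φ) g).continuous

end Groth.Agent.S5132
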