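import Groth.Statements.S5133
import Groth.Agent.H8Top.SchemeBasic
import Mathlib.AlgebraicGeometry.Morphisms.UniversallyOpen
import Mathlib.AlgebraicGeometry.IdealSheaf.Subscheme
import Mathlib.AlgebraicGeometry.Morphisms.ClosedImmersion

set_option autoImplicit false
open CategoryTheory CategoryTheory.Limits AlgebraicGeometry
universe u
open SGA1

namespace Groth.Agent.S5133
open CategoryTheory CategoryTheory.Limits AlgebraicGeometry

/-- For a quasi-compact morphism f : X ⟶ Y and a flat surjective base change g : Y' ⟶ Y, with no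
quasi-compactness asked of g, if the base change of f along g is a homeomorphism onto its image then
f is a homeomorphism onto its image. -/
theorem result {X Y Y' : Scheme.{u}} (f : X ⟶ Y)
    (g : Y' ⟶ Y) [QuasiCompact f] [Flat g] [Surjective g]
    (h : Topology.IsEmbedding (pullback.snd f g).base) : Topology.IsEmbedding f.base := by
  have hinj : Function.Injective f.base := by
    intro x₁ x₂ e
    obtain ⟨y', hy⟩ := g.surjective (f x₁)
    obtain ⟨p₁, h1, h1'⟩ := Scheme.Pullback.exists_preimage_pullback (f := f) (g := g) x₁ y' hy.symm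
    obtain ⟨p₂, h2, h2'⟩ := Scheme.Pullback.exists_preimage_pullback (f := f) (g := g) x₂ y' (e.symm.trans hy.symm)
    rw [← h1, ← h2, h.injective (h1'.trans h2'.symm)]
  refine ⟨⟨?_⟩, hinj⟩
  rw [TopologicalSpace.ext_iff_isClosed]
  intro F
  rw [isClosed_induced_iff]
  refine ⟨fun hF => ⟨closure (f.base '' F), isClosed_closure, ?_⟩, ?_⟩
  · refine subset_antisymm ?_ (fun x hx => Set.mem_preimage.mpr (subset_closure (Set.mem_image_of_mem _ hx)))
    intro x (hx : f x ∈ closure (f '' F))
    let I := Scheme.IdealSheafData.vanishingIdeal (⟨F, hF⟩ : TopologicalSpace.Closeds X)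
    have hI : Set.range I.subschemeι = F := by
      rw [Scheme.IdealSheafData.range_subschemeι]; simp [I]
    have hx' : f x ∈ closure (Set.range (I.subschemeι ≫ f)) := by
      rw [Scheme.Hom.comp_base, TopCat.coe_comp, Set.range_comp, hI]; exact hx
    obtain ⟨s, hs⟩ := Groth.Agent.H8Top.exists_specializes_of_mem_closure_range (I.subschemeι ≫ f) hx'
    obtain ⟨y', hy⟩ := g.surjective (f x)
    obtain ⟨y₁, h1, h2⟩ := Flat.generalizingMap g (show f (I.subschemeι s) ⤳ g y' from hy ▸ hs)
    obtain ⟨p, hp, hp'⟩ := Scheme.Pullback.exists_preimage_pullback (f := f) (g := g) x y' hy.symm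
    obtain ⟨q, hq, hq'⟩ := Scheme.Pullback.exists_preimage_pullback (f := f) (g := g) (I.subschemeι s) y₁ h2.symm
    have hqp : q ⤳ p := h.isInducing.specializes_iff.mp (by rw [hp', hq']; exact h1)
    rw [← hp]
    exact (hqp.map (pullback.fst f g).continuous).mem_closed hF (by
      show (pullback.fst f g) q ∈ F
      rw [hq, ← hI]; exact ⟨s, rfl⟩)
  · rintro ⟨C, hC, rfl⟩; exact hC.preimage f.continuous

end Groth.Agent.S5133
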