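import Groth.Statements.S5134
import Groth.Agent.Desc19b.FPFpqc

set_option autoImplicit false
open CategoryTheory AlgebraicGeometry
universe u
open SGA1

set_option backward.isDefEq.respectTransparency.types false
set_option backward.isDefEq.respectTransparency false

namespace Groth.Agent.S5134


/-- For g : S' ⟶ S flat, surjective and quasi-compact and F a quasi-coherent module on S, if the
pullback of F to S' is of finite presentation then F is of finite presentation. -/
theorem result {S S' : Scheme.{u}} (g : S' ⟶ S) [Flat g] [Surjective g] [QuasiCompact g]
    (F : S.Modules) (hF : Coh.IsQCoh F)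
    (h : CohB1.IsFP ((Scheme.Modules.pullback g).obj F)) : CohB1.IsFP F := by
  have := hF
  exact Groth.Agent.Desc19b.isFP_of_fpqc g F h

end Groth.Agent.S5134
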