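import Groth.Statements.S5135

set_option autoImplicit false
universe u
open scoped TensorProduct
open SGA1

namespace Groth.Agent.S5135

/-- The affine case, in submodule form (descent of submodules, equivalently of quotient modules): for A
⟶ A' faithfully flat, M an A-module and N' an A'-submodule of A' ⊗ M whose two extensions to (A' ⊗
A') ⊗ M, along a ↦ a ⊗ 1 and a ↦ 1 ⊗ a, generate the same submodule, N' is the base change of the
submodule of M formed by the elements m with 1 ⊗ m in N'. -/
theorem result (A A' : Type u) [CommRing A] [CommRing A'] [Algebra A A']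
    [Module.FaithfullyFlat A A'] (M : Type u) [AddCommGroup M] [Module A M] (N' : Submodule A' (A' ⊗[A] M))
    (h : Submodule.span (A' ⊗[A] A')
          ((N'.restrictScalars A).map
            ((Algebra.TensorProduct.includeLeft : A' →ₐ[A] A' ⊗[A] A').toLinearMap.rTensor M) : Set ((A' ⊗[A] A') ⊗[A] M)) =
        Submodule.span (A' ⊗[A] A')
          ((N'.restrictScalars A).map
            ((Algebra.TensorProduct.includeRight : A' →ₐ[A] A' ⊗[A] A').toLinearMap.rTensor M) : Set ((A' ⊗[A] A') ⊗[A] M))) :
    ((N'.restrictScalars A).comap (TensorProduct.mk A A' M 1)).baseChange A' = N' := by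
  classical
  open TensorProduct in
  refine le_antisymm ?_ fun x hx => ?_
  · rw [Submodule.baseChange_eq_span, Submodule.span_le]
    rintro _ ⟨m, hm, rfl⟩
    exact hm
  let π : A' ⊗[A] M →ₗ[A] (A' ⊗[A] M) ⧸ N' := N'.mkQ.restrictScalars A
  let φ : M →ₗ[A] (A' ⊗[A] M) ⧸ N' := π ∘ₗ TensorProduct.mk A A' M 1
  let asc := TensorProduct.assoc A A' A' M
  have hmul : ∀ (a b : A') (w : (A' ⊗[A] A') ⊗[A] M),
      (π.lTensor A') (asc ((a ⊗ₜ[A] b) • w)) =
        TensorProduct.map (LinearMap.mulLeft A a) ((LinearMap.lsmul A' ((A' ⊗[A] M) ⧸ N') b).restrictScalars A)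
          ((π.lTensor A') (asc w)) := by
    intro a b w
    induction w with
    | zero => simp
    | add u v hu hv => simp [smul_add, hu, hv]
    | tmul c m =>
      induction c with
      | zero => simp
      | add u v hu hv => simp only [TensorProduct.add_tmul, smul_add, map_add, hu, hv]
      | tmul c d =>
        rw [TensorProduct.smul_tmul', smul_eq_mul, Algebra.TensorProduct.tmul_mul_tmul, TensorProduct.assoc_tmul,
          TensorProduct.assoc_tmul, LinearMap.lTensor_tmul, LinearMap.lTensor_tmul, TensorProduct.map_tmul]
        congr 1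
  have hright : ∀ y : A' ⊗[A] M, asc ((Algebra.TensorProduct.includeRight : A' →ₐ[A] A' ⊗[A] A').toLinearMap.rTensor M y) =
      (1 : A') ⊗ₜ[A] y := by
    intro y
    induction y with
    | zero => simp
    | tmul c m => rfl
    | add u v hu hv => rw [map_add, map_add, hu, hv, TensorProduct.tmul_add]
  have hleft : ∀ y : A' ⊗[A] M, asc ((Algebra.TensorProduct.includeLeft : A' →ₐ[A] A' ⊗[A] A').toLinearMap.rTensor M y) =
      (TensorProduct.mk A A' M 1).lTensor A' y := by
    intro y
    induction y with
    | zero => simp
    | tmul c m => rfl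
    | add u v hu hv => rw [map_add, map_add, hu, hv, map_add]
  have key : ∀ w ∈ Submodule.span (A' ⊗[A] A')
      ((N'.restrictScalars A).map
        ((Algebra.TensorProduct.includeRight : A' →ₐ[A] A' ⊗[A] A').toLinearMap.rTensor M) : Set ((A' ⊗[A] A') ⊗[A] M)),
      (π.lTensor A') (asc w) = 0 := by
    intro w hw
    induction hw using Submodule.span_induction with
    | mem w hw =>
      obtain ⟨y, hy, rfl⟩ := hw
      rw [hright, LinearMap.lTensor_tmul, show π y = 0 from (Submodule.Quotient.mk_eq_zero N').mpr hy,
        TensorProduct.tmul_zero]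
    | zero => simp
    | add u v _ _ hu hv => simp [hu, hv]
    | smul r u _ hu =>
      induction r with
      | zero => simp
      | tmul a b => rw [hmul, hu, map_zero]
      | add r s hr hs => simp [add_smul, hr, hs]
  have h0 : φ.lTensor A' x = 0 := by
    have := key ((Algebra.TensorProduct.includeLeft : A' →ₐ[A] A' ⊗[A] A').toLinearMap.rTensor M x)
      (h ▸ Submodule.subset_span ⟨x, hx, rfl⟩)
    rw [hleft] at this
    rw [LinearMap.lTensor_comp]
    exact this
  obtain ⟨z, hz⟩ := (Module.Flat.lTensor_exact A' (LinearMap.exact_subtype_ker_map φ) x).mp h0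
  rw [← hz]
  clear hz h0
  induction z with
  | zero => simp
  | add u v hu hv => rw [map_add]; exact add_mem hu hv
  | tmul a m =>
    refine Submodule.tmul_mem_baseChange_of_mem a ?_
    have hm : φ m.1 = 0 := m.2
    exact (Submodule.Quotient.mk_eq_zero N').mp hm

end Groth.Agent.S5135
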