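import Groth.Statements.S5138
import Groth.Agent.AlgSpLib.SmoothSource

set_option autoImplicit false
set_option backward.isDefEq.respectTransparency.types false
open CategoryTheory AlgebraicGeometry
universe u
open SGA1

namespace Groth.Agent.S5138

/-- For X ⟶ X' ⟶ Y locally of finite type over a locally Noetherian Y and a point x of X, if X ⟶ X' and
the composite X ⟶ Y are both etale near x then X' ⟶ Y is etale near the image of x; 'etale near a
point' is membership in the etale locus, the union of the opens on which the morphism is etale. (The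
published statement takes the morphisms of finite type; quasi-compactness plays no role in this
assertion about single points, so only local finiteness is assumed.) -/
theorem result {X X' Y : Scheme.{u}} (f : X ⟶ X') (g : X' ⟶ Y)
    [IsLocallyNoetherian Y] [LocallyOfFiniteType f] [LocallyOfFiniteType g] (x : X)
    (hf : x ∈ Pi1X.etaleLocus f) (hfg : x ∈ Pi1X.etaleLocus (f ≫ g)) : f.base x ∈ Pi1X.etaleLocus g := by
  obtain ⟨U₁, hU₁, hx₁⟩ := TopologicalSpace.Opens.mem_sSup.mp hf
  obtain ⟨U₂, hU₂, hx₂⟩ := TopologicalSpace.Opens.mem_sSup.mp hfg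
  change Etale (Scheme.Opens.ι U₁ ≫ f) at hU₁
  change Etale (Scheme.Opens.ι U₂ ≫ f ≫ g) at hU₂
  let U : X.Opens := U₁ ⊓ U₂
  haveI : Etale (U.ι ≫ f) := by
    rw [← Scheme.homOfLE_ι X (inf_le_left : U ≤ (U₁ : X.Opens)), Category.assoc]
    infer_instance
  have h2 : Etale (U.ι ≫ f ≫ g) := by
    rw [← Scheme.homOfLE_ι X (inf_le_right : U ≤ (U₂ : X.Opens)), Category.assoc]
    infer_instance
  let V : X'.Opens := ⟨Set.range (U.ι ≫ f).base, (U.ι ≫ f).isOpenMap.isOpen_range⟩
  let h := IsOpenImmersion.lift V.ι (U.ι ≫ f) (by rw [Scheme.Opens.range_ι]; exact subset_rfl)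
  have hh : h ≫ V.ι = U.ι ≫ f := IsOpenImmersion.lift_fac _ _ _
  haveI : Etale h := by
    haveI : Etale (h ≫ V.ι) := hh ▸ inferInstance
    exact Etale.of_comp h V.ι
  haveI : Surjective h := ⟨fun v => by
    obtain ⟨u, hu⟩ := v.2
    refine ⟨u, V.ι.isOpenEmbedding.injective ?_⟩
    rw [← Scheme.Hom.comp_apply, hh]
    exact hu⟩
  refine TopologicalSpace.Opens.mem_sSup.mpr ⟨V, ?_, ⟨⟨x, hx₁, hx₂⟩, rfl⟩⟩
  show Etale (V.ι ≫ g)
  refine Groth.Agent.AlgSpLib.etale_of_comp_fppf h (V.ι ≫ g) ?_
  rw [← Category.assoc, hh, Category.assoc]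
  exact h2

end Groth.Agent.S5138
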