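import Groth.Statements.S5144
import Groth.Agent.Desc19.Cartesian

set_option autoImplicit false
open CategoryTheory
universe u v u₂ v₂
open FibCat
open Groth.Agent.Desc19

namespace Groth.Agent.S5144

/-- If p : 𝒳 ⥤ C is both prefibred and co-prefibred (its opposite functor is prefibred), then p is
fibred if and only if it is co-fibred (its opposite functor is fibred). Prefibred and fibred are
Mathlib's notions, which are the source's. -/
theorem result {C : Type u} [Category.{v} C] {𝒳 : Type u₂} [Category.{v₂} 𝒳]
    (p : 𝒳 ⥤ C) [p.IsPreFibered] [p.op.IsPreFibered] : p.IsFibered ↔ p.op.IsFibered := by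
  constructor
  · intro h
    have := opop_fibered p
    refine Functor.IsFibered.of_exists_isStronglyCartesian fun a R f => ?_
    obtain ⟨b, φ, hφ⟩ := Functor.IsPreFibered.exists_isCartesian' (p := p.op) f
    exact ⟨b, φ, sc_of_cart_of_cofibered p.op f φ⟩
  · intro h
    refine Functor.IsFibered.of_exists_isStronglyCartesian fun a R f => ?_
    obtain ⟨b, φ, hφ⟩ := Functor.IsPreFibered.exists_isCartesian' (p := p) f
    exact ⟨b, φ, sc_of_cart_of_cofibered p f φ⟩

end Groth.Agent.S5144
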