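import Groth.Statements.S5150
import Groth.Agent.LocCoh.Depth

set_option autoImplicit false
universe u
open CategoryTheory
open LocCoh

namespace Groth.Agent.S5150

/-- Let A be a commutative ring, I an ideal, M and N A-modules, and f_1, …, f_r a weakly M-regular
sequence of elements of I. If N is killed by a power of I then Ext^i_A(N, M) vanishes for all i < r.
(No Noetherian or finiteness hypothesis on A, M or N.) -/
theorem result (A : Type u) [CommRing A] (I : Ideal A) (M N : Type u) [AddCommGroup M] [Module A M] [AddCommGroup N] [Module A N] (rs : List A) (hreg : RingTheory.Sequence.IsWeaklyRegular M rs) (hI : ∀ r ∈ rs, r ∈ I) (k : ℕ) (hN : (I ^ k) • (⊤ : Submodule A N) = ⊥) (i : ℕ) (hi : i < rs.length) : Subsingleton (Abelian.Ext (ModuleCat.of A N) (ModuleCat.of A M) i) := by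
  induction rs generalizing M i with
  | nil => simp at hi
  | cons r rs ih =>
    obtain ⟨hr, hrs⟩ := (RingTheory.Sequence.isWeaklyRegular_cons_iff M r rs).1 hreg
    have hrk : ∀ x : N, r ^ k • x = 0 := fun x => (Submodule.mem_bot A).1
      (hN ▸ Submodule.smul_mem_smul (Ideal.pow_mem_pow (hI r (List.mem_cons_self ..)) k) trivial)
    refine subsingleton_of_forall_eq 0 fun e => ?_
    have h0 : r ^ k • e = 0 := Groth.Agent.LocCoh.ext_smul_eq_zero_left hrk e
    have hinj : ∀ e : Abelian.Ext (ModuleCat.of A N) (ModuleCat.of A M) i, r • e = 0 → e = 0 := by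
      intro e he
      cases i with
      | zero =>
        obtain ⟨φ, rfl⟩ : ∃ φ, Abelian.Ext.mk₀ φ = e := ⟨_, Abelian.Ext.mk₀_addEquiv₀_apply e⟩
        rw [← Abelian.Ext.mk₀_smul, Abelian.Ext.mk₀_eq_zero_iff] at he
        rw [show φ = 0 from ModuleCat.hom_ext (LinearMap.ext fun x => hr
          ((ConcreteCategory.congr_hom he x).trans (smul_zero r).symm)), Abelian.Ext.mk₀_zero]
      | succ j =>
        exact Groth.Agent.LocCoh.ext_smul_injective hr j (ih (QuotSMulTop r M) hrs
          (fun x hx => hI x (List.mem_cons_of_mem _ hx)) j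
          (by simp only [List.length_cons] at hi; omega)) e he
    clear hN hrk
    induction k generalizing e with
    | zero => simpa using h0
    | succ k ihk =>
      rw [pow_succ, mul_smul] at h0
      exact hinj e (ihk _ h0)

end Groth.Agent.S5150
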