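import Groth.Statements.S5155
import Groth.Agent.Matlis6.Transfer

set_option autoImplicit false
universe u
open Matlis

namespace Groth.Agent.S5155

/-- Let A be a Noetherian local ring with residue field k. An A-module E is an injective hull of k if
and only if E is injective, E is m-power torsion, and Hom_A(k, E) is simple (one-dimensional over
k). (The torsion condition is needed: for a prime p ≠ m the module E(k) ⊕ E(A/p) is injective with
Hom_A(k, −) simple, represents the same functor on modules of finite length, and is not an injective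
hull of k; the published definition of a dualizing module leaves this condition implicit and the
published proof uses it.) -/
theorem result (A : Type u) [CommRing A] [IsLocalRing A] [IsNoetherianRing A] (E : Type u) [AddCommGroup E] [Module A E] : (∃ f : IsLocalRing.ResidueField A →ₗ[A] E, InjHull.IsInjectiveHull f) ↔ (Module.Injective A E ∧ LocCoh.IsPowerTorsion (IsLocalRing.maximalIdeal A) E ∧ IsSimpleModule A (IsLocalRing.ResidueField A →ₗ[A] E)) := by
  set m := IsLocalRing.maximalIdeal A
  haveI : IsSimpleModule A (IsLocalRing.ResidueField A) :=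
    isSimpleModule_iff_quot_maximal.2 ⟨m, inferInstance, ⟨LinearEquiv.refl A _⟩⟩
  constructor
  · rintro ⟨f, hf⟩
    have hE : Matlis6.IsHullAt m E := Matlis6.of_isInjectiveHull_residueField hf
    refine ⟨hE.inj, hE.isPowerTorsion, hE.isSimpleModule_dual fun a ha q => ?_⟩
    obtain ⟨x, rfl⟩ := Submodule.Quotient.mk_surjective _ q
    exact (Submodule.Quotient.mk_eq_zero _).2 (Ideal.mul_mem_right _ _ ha)
  · rintro ⟨hinj, ht, hs⟩
    haveI := IsSimpleModule.nontrivial A (IsLocalRing.ResidueField A →ₗ[A] E)
    obtain ⟨φ, hφ⟩ := exists_ne (0 : IsLocalRing.ResidueField A →ₗ[A] E)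
    let one : A ⧸ m := Submodule.Quotient.mk 1
    let φ' : (A ⧸ m) →ₗ[A] E := φ
    have hgen : ∀ (ψ : (A ⧸ m) →ₗ[A] E) (x : A), ψ (Submodule.Quotient.mk x) = x • ψ one := by
      intro ψ x
      rw [← map_smul, ← Submodule.Quotient.mk_smul, smul_eq_mul, mul_one]
    have hE : Matlis6.IsHullAt m E := by
      refine Matlis6.IsHullAt.of_torsion hinj ht (e := φ' one) (fun h => hφ ?_) (fun a ha => ?_) (fun x hx => ?_)
      · refine LinearMap.ext fun q => ?_
        obtain ⟨y, rfl⟩ := Submodule.Quotient.mk_surjective _ q
        exact (hgen φ' y).trans (by rw [h, smul_zero]; rfl)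
      · rw [← hgen φ' a, (Submodule.Quotient.mk_eq_zero _).2 ha, map_zero]
      · let ψ : (A ⧸ m) →ₗ[A] E := Submodule.liftQ m (LinearMap.toSpanSingleton A E x)
          (fun a ha => by simpa using hx a ha)
        obtain ⟨c, hc⟩ := IsSimpleModule.toSpanSingleton_surjective A hφ ψ
        refine ⟨c, ?_⟩
        have : (c • φ') one = ψ one := LinearMap.congr_fun hc one
        calc x = ψ one := (one_smul A x).symm
          _ = c • φ' one := this.symm
    exact hE.exists_isInjectiveHull

end Groth.Agent.S5155
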