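import Groth.Statements.S5156
import Groth.Agent.Matlis6.Finite

set_option autoImplicit false
universe u
open Matlis

namespace Groth.Agent.S5156

/-- Let A and B be Noetherian local rings with B a finite A-algebra, and E an injective hull of the
residue field of A (a dualizing module for A). Then Hom_A(B, E), as a B-module through the action on
the source, is an injective hull of the residue field of B (a dualizing module for B). -/
theorem result (A B : Type u) [CommRing A] [IsLocalRing A] [IsNoetherianRing A] [CommRing B] [IsLocalRing B] [IsNoetherianRing B] [Algebra A B] [Module.Finite A B] (E : Type u) [AddCommGroup E] [Module A E] (f : IsLocalRing.ResidueField A →ₗ[A] E) (hf : InjHull.IsInjectiveHull f) : ∃ g : IsLocalRing.ResidueField B →ₗ[B] (ModuleCat.coextendScalars (algebraMap A B)).obj (ModuleCat.of A E), InjHull.IsInjectiveHull g := by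
  have hE := Matlis6.of_isInjectiveHull_residueField hf
  obtain ⟨h1, -, h3⟩ := Matlis6.coextend_decomposition (B := B) hE
  have htop : Matlis6.tors (IsLocalRing.maximalIdeal B)
      ((ModuleCat.coextendScalars (algebraMap A B)).obj (ModuleCat.of A E)) = ⊤ := by
    rw [eq_top_iff, ← h3]
    refine iSup_le fun n => ?_
    rw [IsLocalRing.eq_maximalIdeal n.isMaximal]
  exact ((h1 ⟨IsLocalRing.maximalIdeal B, inferInstance⟩).congr
    (LinearEquiv.ofTop _ htop)).exists_isInjectiveHull_residueField

end Groth.Agent.S5156
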