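import Groth.Statements.S5157
import Groth.Agent.Matlis6.Transfer

set_option autoImplicit false
universe u
open Matlis

namespace Groth.Agent.S5157

/-- Let A be a Noetherian local ring, a an ideal with A/a local (i.e. a ≠ A) and E an injective hull of
the residue field of A. Then the annihilator of a in E, E[a] = {e | a e = 0}, is an injective hull
of the residue field of A/a over A/a. -/
theorem result (A : Type u) [CommRing A] [IsLocalRing A] [IsNoetherianRing A] (a : Ideal A) [IsLocalRing (A ⧸ a)] (E : Type u) [AddCommGroup E] [Module A E] (f : IsLocalRing.ResidueField A →ₗ[A] E) (hf : InjHull.IsInjectiveHull f) : ∃ g : IsLocalRing.ResidueField (A ⧸ a) →ₗ[A ⧸ a] (LocCoh.torsionBy a E), InjHull.IsInjectiveHull g := by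
  have hE := Matlis6.of_isInjectiveHull_residueField hf
  haveI : Nontrivial (A ⧸ a) := inferInstance
  have ha : a ≤ IsLocalRing.maximalIdeal A := IsLocalRing.le_maximalIdeal fun h => by
    subst h
    exact not_subsingleton (A ⧸ (⊤ : Ideal A)) (Ideal.Quotient.subsingleton_iff.2 rfl)
  have h := hE.torsionBy a ha
  have hmax : (IsLocalRing.maximalIdeal A).map (Ideal.Quotient.mk a) = IsLocalRing.maximalIdeal (A ⧸ a) :=
    IsLocalRing.eq_maximalIdeal (Ideal.IsMaximal.map_of_surjective_of_ker_le Ideal.Quotient.mk_surjective
      (by rwa [Ideal.mk_ker]))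
  rw [hmax] at h
  exact h.exists_isInjectiveHull

end Groth.Agent.S5157
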