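import Groth.Statements.S5158
import Groth.Agent.Matlis6.Completion

set_option autoImplicit false
universe u
open scoped TensorProduct
open Matlis

namespace Groth.Agent.S5158

/-- Let A be a Noetherian local ring, Â its m-adic completion and I an m-power torsion A-module (a union
of submodules of finite length). Then x ↦ 1 ⊗ x is a bijection I → Â ⊗_A I. -/
theorem result (A : Type u) [CommRing A] [IsLocalRing A] [IsNoetherianRing A] (I : Type u) [AddCommGroup I] [Module A I] (hI : LocCoh.IsPowerTorsion (IsLocalRing.maximalIdeal A) I) : Function.Bijective (TensorProduct.mk A (AdicCompletion (IsLocalRing.maximalIdeal A) A) I 1) := by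
  set m := IsLocalRing.maximalIdeal A
  constructor
  · intro x y h
    have := congrArg (TensorProduct.lift (Matlis6.act hI).toLinearMap) h
    simpa [TensorProduct.lift.tmul] using this
  · intro z
    induction z using TensorProduct.induction_on with
    | zero => exact ⟨0, map_zero _⟩
    | add p q hp hq =>
      obtain ⟨a, rfl⟩ := hp; obtain ⟨b, rfl⟩ := hq
      exact ⟨a + b, map_add _ _ _⟩
    | tmul α x =>
      obtain ⟨j, hj⟩ := hI x
      obtain ⟨r, hr⟩ := Submodule.Quotient.mk_surjective _ (AdicCompletion.eval m A j α)
      refine ⟨r • x, ?_⟩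
      have hmem : r • (1 : AdicCompletion m A) - α ∈ (m ^ j • ⊤ : Submodule A (AdicCompletion m A)) := by
        rw [AdicCompletion.pow_smul_top_eq_ker_eval (IsNoetherian.noetherian m), LinearMap.mem_ker,
          _root_.map_sub, sub_eq_zero, map_smul, ← hr]
        change r • (Submodule.Quotient.mk 1 : A ⧸ (m ^ j • ⊤ : Submodule A A)) = Submodule.Quotient.mk r
        rw [← Submodule.Quotient.mk_smul]; simp
      rw [map_smul, TensorProduct.mk_apply, TensorProduct.smul_tmul', ← sub_eq_zero,
        ← TensorProduct.sub_tmul]
      refine Submodule.smul_induction_on hmem (fun a ha β _ => ?_)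
        (fun p q hp hq => by rw [TensorProduct.add_tmul, hp, hq, add_zero])
      rw [TensorProduct.smul_tmul, hj a ha, TensorProduct.tmul_zero]

end Groth.Agent.S5158
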