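import Groth.Statements.S5159
import Groth.Agent.LocCoh.Duality2
import Groth.Agent.LocCoh.ExtBridge
import Groth.Agent.Matlis6.Local
import Groth.Agent.CAlgH3.ProjDim

set_option autoImplicit false
universe u
open CategoryTheory Opposite
open Dual

namespace Groth.Agent.S5159

/-- Let A be a regular local ring of dimension n and M an A-module of finite length. Then Ext^i_A(M, A)
= 0 for i ≠ n and length Ext^n_A(M, A) = length M (the functor Ext^n_A(−, A) is dualizing). -/
theorem result (A : Type u) [CommRing A] [IsRegularLocalRing A] (n : ℕ) (hn : ringKrullDim A = n) (M : Type u) [AddCommGroup M] [Module A M] (hM : IsFiniteLength A M) : (∀ i : ℕ, i ≠ n → Subsingleton (((Ext A (ModuleCat.{u} A) i).obj (op (ModuleCat.of A M))).obj (ModuleCat.of A A))) ∧ Module.length A (((Ext A (ModuleCat.{u} A) n).obj (op (ModuleCat.of A M))).obj (ModuleCat.of A A)) = Module.length A M := by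
  obtain ⟨E, _, _, hE⟩ := Groth.Agent.Matlis6.exists_isHullAt (IsLocalRing.maximalIdeal A)
  haveI : Module.Finite A M :=
    haveI := (isFiniteLength_iff_isNoetherian_isArtinian.1 hM).1
    inferInstance
  obtain ⟨k, hk⟩ := Groth.Agent.Matlis6.exists_pow_killed_of_isFiniteLength hM
  have hdimM : Module.supportDim A M ≤ 0 := by
    rw [Module.supportDim_eq_ringKrullDim_quotient_annihilator]
    haveI : IsArtinian A M := (isFiniteLength_iff_isNoetherian_isArtinian.1 hM).2
    refine Order.krullDim_nonpos_iff_forall_isMax.2 fun P Q hPQ => ?_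
    show Q.asIdeal ≤ P.asIdeal
    intro z hz
    obtain ⟨r, rfl⟩ := Ideal.Quotient.mk_surjective z
    have hr : r ∈ IsLocalRing.maximalIdeal A := IsLocalRing.le_maximalIdeal
      (Ideal.IsPrime.ne_top (Ideal.comap_isPrime (Ideal.Quotient.mk _) Q.asIdeal)) hz
    refine P.2.mem_of_pow_mem k ?_
    rw [← map_pow, Ideal.Quotient.eq_zero_iff_mem.2 (Module.mem_annihilator.2
      (hk _ (Ideal.pow_mem_pow hr k)))]
    exact zero_mem _
  have hvan : ∀ i : ℕ, i < n → Subsingleton (Abelian.Ext (ModuleCat.of A M) (ModuleCat.of A A) i) :=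
    fun i hi => Groth.Agent.LocCoh.subsingleton_ext_regular hn i hi.le M (Groth.Agent.LocCoh.subsingleton_H_of_supportDim_lt
      (lt_of_le_of_lt hdimM (by exact_mod_cast (Nat.sub_pos_of_lt hi))))
  refine ⟨fun i hi => ?_, ?_⟩
  · rcases Nat.lt_or_gt_of_ne hi with h | h
    · haveI := hvan i h
      exact (Groth.Agent.LocCoh.extEquiv (ModuleCat.of A M) i (ModuleCat.of A A)).toEquiv.subsingleton
    · have hs : (IsLocalRing.maximalIdeal A).spanFinrank = n := by
        have h1 := IsRegularLocalRing.spanFinrank_maximalIdeal (R := A)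
        rw [hn] at h1
        exact_mod_cast h1
      have hpd : HasProjectiveDimensionLT (ModuleCat.of A M)
          ((IsLocalRing.maximalIdeal A).spanFinrank + 1) := Groth.Agent.CAlgH3.pd_all (R := A) M
      haveI := HasProjectiveDimensionLT.subsingleton (ModuleCat.of A M)
        ((IsLocalRing.maximalIdeal A).spanFinrank + 1) i (by omega) (ModuleCat.of A A)
      exact (Groth.Agent.LocCoh.extEquiv (ModuleCat.of A M) i (ModuleCat.of A A)).toEquiv.subsingleton
  · obtain ⟨e⟩ := Groth.Agent.LocCoh.regular_duality hn hE n 0 (Nat.zero_add n) M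
    let X := ((Ext A (ModuleCat.{u} A) n).obj (op (ModuleCat.of A M))).obj (ModuleCat.of A A)
    have hP : Groth.Agent.LocCoh.powTorsion (IsLocalRing.maximalIdeal A) M = ⊤ :=
      Groth.Agent.LocCoh.powTorsion_eq_top fun m => ⟨k, fun a ha => hk a ha m⟩
    let e' : M ≃ₗ[A] (X →ₗ[A] E) := ((Submodule.topEquiv.symm.trans (LinearEquiv.ofEq _ _ hP.symm)).trans
      (Groth.Agent.LocCoh.H0Equiv _ M).symm).trans
        (e.trans ((Groth.Agent.LocCoh.extEquiv (ModuleCat.of A M) n (ModuleCat.of A A)).congrLeft E A).symm)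
    have hflD : IsFiniteLength A (X →ₗ[A] E) := Module.length_ne_top_iff.1
      (by rw [← e'.length_eq]; exact Module.length_ne_top_iff.2 hM)
    have hflX : IsFiniteLength A X := by
      refine Module.length_ne_top_iff.1 (ne_top_of_le_ne_top ?_
        (Module.length_le_of_injective _ (Groth.Agent.Matlis6.IsHullAt.applyl_injective_local hE X)))
      rw [hE.dual_length hflD]
      exact Module.length_ne_top_iff.2 hflD
    rw [e'.length_eq, hE.dual_length hflX]

end Groth.Agent.S5159
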