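import Groth.Statements.S5161
import Groth.Agent.CAlgH3.PuncturedCoh
import Groth.Agent.LocCoh.NonVanishing
import Mathlib

set_option autoImplicit false
universe u
open AlgebraicGeometry
open LocCoh

namespace Groth.Agent.S5161

/-- Let A be a Noetherian ring, X = Spec A and Y ⊆ X a closed subset whose complement U is an affine
open. Then every irreducible component of Y has codimension ≤ 1 in X, i.e. the generic point of each
irreducible component of Y is a prime of height at most 1. -/
theorem result (A : Type u) [CommRing A] [IsNoetherianRing A] (U : (Spec (CommRingCat.of A)).Opens) (hU : IsAffineOpen U) (p : PrimeSpectrum A) (hpU : (p : (Spec (CommRingCat.of A) : Type u)) ∉ (U : Set (Spec (CommRingCat.of A) : Type u))) (hmin : ∀ q : PrimeSpectrum A, q.asIdeal ≤ p.asIdeal → (q : (Spec (CommRingCat.of A) : Type u)) ∉ (U : Set (Spec (CommRingCat.of A) : Type u)) → q = p) : p.asIdeal.height ≤ 1 := by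
  set I := PrimeSpectrum.vanishingIdeal ((U : Set (Spec (CommRingCat.of A) : Type u))ᶜ) with hI
  have hz : PrimeSpectrum.zeroLocus (I : Set A) = ((U : Set (Spec (CommRingCat.of A) : Type u))ᶜ) := by
    rw [hI, PrimeSpectrum.zeroLocus_vanishingIdeal_eq_closure]
    exact U.2.isClosed_compl.closure_eq
  have hUI : LocCoh.puncturedOpen A I = U := by
    ext x
    show x ∈ (PrimeSpectrum.zeroLocus (I : Set A))ᶜ ↔ _
    rw [hz]
    exact not_not
  haveI : IsNoetherianRing (CommRingCat.of A) := ‹IsNoetherianRing A›
  have hcd := Groth.Agent.CAlgH3.PuncturedCoh.cdLE_one_of_affine (R := CommRingCat.of A) I (hUI.symm ▸ hU)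
  by_contra hlt
  obtain ⟨d, hd⟩ := ENat.ne_top_iff_exists.1 (Ideal.height_ne_top (I := p.asIdeal) Ideal.IsPrime.ne_top')
  have hd2 : 1 < d := by
    rw [← hd, not_le] at hlt
    exact_mod_cast hlt
  let B := Localization.AtPrime p.asIdeal
  have hdim : ringKrullDim B = d := by
    rw [IsLocalization.AtPrime.ringKrullDim_eq_height p.asIdeal B, ← hd]
    rfl
  have hrad : (I.map (algebraMap A B)).radical = (IsLocalRing.maximalIdeal B).radical := by
    refine le_antisymm (Ideal.radical_mono ?_) (Ideal.radical_le_radical_iff.2 ?_)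
    · rw [← Localization.AtPrime.map_eq_maximalIdeal]
      exact Ideal.map_mono (show (I : Set A) ⊆ p.asIdeal from (hz.symm ▸ hpU : p ∈ PrimeSpectrum.zeroLocus (I : Set A)))
    · rw [Ideal.radical_eq_sInf]
      refine le_sInf ?_
      rintro Q ⟨hIQ, hQ⟩
      haveI := hQ
      let q : PrimeSpectrum A := ⟨Q.comap (algebraMap A B), inferInstance⟩
      have hqp : q.asIdeal ≤ p.asIdeal := by
        refine (Ideal.comap_mono (IsLocalRing.le_maximalIdeal hQ.ne_top)).trans (le_of_eq ?_)
        exact IsLocalization.AtPrime.under_maximalIdeal B p.asIdeal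
      have hqU : (q : (Spec (CommRingCat.of A) : Type u)) ∉ (U : Set (Spec (CommRingCat.of A) : Type u)) :=
        show q ∈ ((U : Set (Spec (CommRingCat.of A) : Type u))ᶜ) from hz ▸
          (show (I : Set A) ⊆ q.asIdeal from Ideal.map_le_iff_le_comap.1 hIQ)
      have hqe : Q.comap (algebraMap A B) = p.asIdeal := congrArg PrimeSpectrum.asIdeal (hmin q hqp hqU)
      rw [← Localization.AtPrime.map_eq_maximalIdeal]
      exact (Ideal.map_mono hqe.ge).trans Ideal.map_comap_le
  obtain ⟨φ, -⟩ := Groth.Agent.LocCoh.exists_H_independence A B I d B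
  obtain ⟨e⟩ := Groth.Agent.LocCoh.nonempty_H_equiv_of_radical hrad d B
  haveI : Subsingleton (LocCoh.H I d B) := hcd B d hd2
  haveI := φ.toEquiv.subsingleton
  haveI := e.symm.toEquiv.subsingleton
  exact not_nontrivial _ (Groth.Agent.LocCoh.nontrivial_H_ring B d hdim)

end Groth.Agent.S5161
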