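import Groth.Statements.S5167
import Groth.Agent.LocCoh.FinitenessRegular

set_option autoImplicit false
universe u
open LocCoh

namespace Groth.Agent.S5167

/-- Let A be a Noetherian local ring which is a quotient of a regular local ring, m its maximal ideal, M
a finite A-module and n ≥ 0. Then H^i_m(M) is of finite length for all i ≤ n if and only if
depth(M_p) > n − dim(A/p) for every prime p ≠ m. -/
theorem result (R : Type u) [CommRing R] [IsRegularLocalRing R] (A : Type u) [CommRing A] [IsLocalRing A] [IsNoetherianRing A] (π : R →+* A) (hπ : Function.Surjective π) (M : Type u) [AddCommGroup M] [Module A M] [Module.Finite A M] (n : ℕ) : (∀ i : ℕ, i ≤ n → IsFiniteLength A (LocCoh.H (IsLocalRing.maximalIdeal A) i M)) ↔ ∀ p : PrimeSpectrum A, p.asIdeal ≠ IsLocalRing.maximalIdeal A → ∀ e : ℕ, ringKrullDim (A ⧸ p.asIdeal) = e → (n : ℕ∞) < LocCoh.depth (Localization.AtPrime p.asIdeal) (LocalizedModule p.asIdeal.primeCompl M) + e := by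
  haveI := Groth.Agent.CAlgH3.isRegularRing_of_isRegularLocalRing (R := R)
  have key : ∀ p : PrimeSpectrum A, SGA2.relCodim (IsLocalRing.maximalIdeal A) p =
      Groth.Agent.LocCoh.hq p.asIdeal (IsLocalRing.maximalIdeal A) := fun p => by
    rw [Groth.Agent.LocCoh.relCodim_eq, sup_eq_left.2 (IsLocalRing.le_maximalIdeal p.2.ne_top)]
  have hiff : (∀ i : ℕ, i ≤ n → IsFiniteLength A (LocCoh.H (IsLocalRing.maximalIdeal A) i M)) ↔
      (∀ i : ℕ, i ≤ n → Module.Finite A (LocCoh.H (IsLocalRing.maximalIdeal A) i M)) := by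
    refine forall₂_congr fun i _ => ⟨fun h => ?_, fun h => ?_⟩
    · haveI := (isFiniteLength_iff_isNoetherian_isArtinian.1 h).1
      infer_instance
    · haveI := h
      exact isFiniteLength_iff_isNoetherian_isArtinian.2
        ⟨inferInstance, Groth.Agent.LocCoh.isArtinian_H_maximalIdeal i M⟩
  rw [hiff, Groth.Agent.LocCoh.finite_H_iff_forall_lt π hπ _ M n]
  constructor
  · intro h p hp e he
    have h1 := h p fun hle => hp (le_antisymm (IsLocalRing.le_maximalIdeal p.2.ne_top) hle)
    rw [Groth.Agent.LocCoh.ringKrullDim_quotient_eq_hq] at he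
    rw [key] at h1
    have he' : Groth.Agent.LocCoh.hq p.asIdeal (IsLocalRing.maximalIdeal A) = (e : ℕ∞) := WithBot.coe_inj.1 he
    rwa [he'] at h1
  · intro h p hp
    obtain ⟨e, he⟩ := ENat.ne_top_iff_exists.1
      (Groth.Agent.LocCoh.hq_ne_top (IsLocalRing.le_maximalIdeal p.2.ne_top))
    rw [key, ← he]
    refine h p (fun hh => hp hh.ge) e ?_
    rw [Groth.Agent.LocCoh.ringKrullDim_quotient_eq_hq, ← he]
    rfl

end Groth.Agent.S5167
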