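import Groth.Statements.S5168
import Groth.Agent.InjHullLib.Basic

set_option autoImplicit false
universe u
open InjHull

namespace Groth.Agent.S5168

/-- Let A be a Noetherian ring, J an ideal and H a J-power torsion A-module. Then H is injective if and
only if Hom_A(−, H) is exact on finite A-modules killed by a power of J, i.e. every linear map to H
from a submodule of such a module M extends to M. -/
theorem result (A : Type u) [CommRing A] [IsNoetherianRing A] (J : Ideal A) (H : Type u) [AddCommGroup H] [Module A H] (hH : LocCoh.IsPowerTorsion J H) : Module.Injective A H ↔ ∀ (M : Type u) [AddCommGroup M] [Module A M], Module.Finite A M → (∃ k : ℕ, (J ^ k) • (⊤ : Submodule A M) = ⊥) → ∀ (N : Submodule A M) (g : N →ₗ[A] H), ∃ g' : M →ₗ[A] H, g'.comp N.subtype = g := by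
  refine ⟨fun hinj M _ _ _ _ N g => ?_, fun h => ?_⟩
  · obtain ⟨g', hg'⟩ := hinj.out N.subtype Subtype.val_injective g
    exact ⟨g', LinearMap.ext hg'⟩
  refine Module.Baer.injective fun 𝔞 g => ?_
  obtain ⟨k, hk⟩ := Groth.Agent.InjHullLib.exists_pow_inf_le_ker J 𝔞 hH g
  obtain ⟨g', hg'⟩ := Groth.Agent.InjHullLib.exists_factor_quotient J 𝔞 g hk
  obtain ⟨h', hh⟩ := h (A ⧸ J ^ k) inferInstance ⟨k, by
    rw [← Submodule.range_mkQ (J ^ k), ← Submodule.map_top, ← Submodule.map_smul'', eq_bot_iff,
      Submodule.map_le_iff_le_comap, Submodule.comap_bot, Submodule.ker_mkQ, smul_eq_mul, Ideal.mul_top]⟩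
    (Submodule.map (Submodule.mkQ (J ^ k)) 𝔞) g'
  refine ⟨LinearMap.toSpanSingleton A H (h' (Submodule.Quotient.mk 1)), fun a ha => ?_⟩
  rw [LinearMap.toSpanSingleton_apply, ← map_smul, ← Submodule.Quotient.mk_smul, smul_eq_mul, mul_one,
    ← hg' a ha]
  exact LinearMap.congr_fun hh ⟨_, Submodule.mem_map_of_mem ha⟩

end Groth.Agent.S5168
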