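import Groth.Statements.S5175
import Groth.Agent.Matlis6.Recognition

set_option autoImplicit false
universe u
open Matlis

namespace Groth.Agent.S5175

/-- Let k₀ be a field and A a Noetherian local k₀-algebra with [k : k₀] finite, k the residue field.
Then the topological dual A' = colim_n Hom_{k₀}(A/m^n, k₀), i.e. the submodule of Hom_{k₀}(A, k₀) of
forms killing some power of m (A acting through the source), is an injective hull of k (it is the
dualizing module of A). -/
theorem result (k₀ : Type u) [Field k₀] (A : Type u) [CommRing A] [IsLocalRing A] [IsNoetherianRing A] [Algebra k₀ A] [Module.Finite k₀ (A ⧸ IsLocalRing.maximalIdeal A)] : ∃ f : IsLocalRing.ResidueField A →ₗ[A] ↥(⨆ n : ℕ, Submodule.torsionBySet A ((ModuleCat.coextendScalars (algebraMap k₀ A)).obj (ModuleCat.of k₀ k₀)) ((IsLocalRing.maximalIdeal A ^ n : Ideal A) : Set A)), InjHull.IsInjectiveHull f := by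
  haveI : (⊥ : Ideal k₀).IsMaximal := Ideal.bot_isMaximal
  have hK : Matlis6.IsHullAt (⊥ : Ideal k₀) k₀ := by
    refine ⟨?_, (1 : k₀), one_ne_zero, fun a ha => by simp [Ideal.mem_bot.1 ha], fun x hx =>
      ⟨1, x, by simpa using hx, by simp⟩⟩
    constructor
    intro X Y _ _ _ _ f hf g
    obtain ⟨l, hl⟩ := f.exists_leftInverse_of_injective (LinearMap.ker_eq_bot.2 hf)
    exact ⟨g.comp l, fun x => by rw [LinearMap.comp_apply, ← LinearMap.comp_apply l f, hl]; rfl⟩
  have hfl : IsFiniteLength k₀ (A ⧸ IsLocalRing.maximalIdeal A) :=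
    Matlis6.isFiniteLength_of_artinian_finite
  exact (Matlis6.isSocleAt_coextend hK (IsLocalRing.maximalIdeal A) (by simp) hfl).isHullAt_tors.exists_isInjectiveHull_residueField

end Groth.Agent.S5175
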