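import Groth.Statements.S5176
import Groth.Agent.Et18.LocCoh.Mono
import Groth.Prelude.Def_RDer
-- import your own Groth.Agent.* helpers here

set_option autoImplicit false
universe u
open CategoryTheory CategoryTheory.Limits AlgebraicGeometry Opposite
open EtDepth

namespace Groth.Agent.S5176

/-- For an abelian sheaf. Let X be a scheme, j : U → X and k : V → X open immersions with U ⊆ V, so that
the closed complement Z of V is contained in the closed complement Y of U, F an abelian sheaf on the
small étale site of X and n ≥ 0. If the Y-étale depth of F is ≥ n (the local cohomology sheaves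
H^p_Y(F) vanish for p < n), then the Z-étale depth of F is ≥ n. -/
theorem result {X U V : Scheme.{u}} (j : U ⟶ X) [IsOpenImmersion j] [EtCoh.BCCont j] (k : V ⟶ X) [IsOpenImmersion k] [EtCoh.BCCont k] (hUV : Set.range j.base ⊆ Set.range k.base) (F : EtCoh.Ab X) (n : ℕ) (h : EtDepth.DepthGE j F n) : EtDepth.DepthGE k F n := by
  have : EtShriek.JCont j := Et18.jCont j
  have hle : Set.range j ⊆ Set.range k := hUV
  let j' := IsOpenImmersion.lift k j hle
  have hfac : j' ≫ k = j := IsOpenImmersion.lift_fac k j hle
  have : IsOpenImmersion (j' ≫ k) := hfac ▸ inferInstance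
  have : IsOpenImmersion j' := IsOpenImmersion.of_comp j' k
  let G : EtCoh.Ab X ⥤ EtCoh.Ab X := EtDual.secSupp k
  have : PreservesFiniteLimits G := Et18.LocCoh.preservesFiniteLimits_secSupp k
  intro p hp
  obtain ⟨e⟩ := Et18.LocCoh.nonempty_derived_comp_iso j G F n h p hp.le
  exact (Functor.map_isZero G (h p hp)).of_iso
    (((RDer.rightDerivedIso (Et18.LocCoh.secSuppCompIso j k j' hfac) p).app F).symm ≪≫ e)

end Groth.Agent.S5176
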