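import Groth.Statements.S5178
import Groth.Agent.CAlgH.AvramovCI
import Groth.Agent.CommAlg6.CompletionEquidim


set_option autoImplicit false
universe u
open CInt

namespace Groth.Agent.S5178

/-- Let A be a Noetherian local ring of dimension d, and let the completion of A be presented as B/I
with B a regular local ring of dimension e and I an ideal whose minimal number of generators is q,
so that e − q is the geometric depth of A (this number does not depend on the presentation). Then e
− q ≤ d, and equality holds if and only if A is a complete intersection, i.e. its completion is a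
regular local ring modulo an ideal generated by a regular sequence. -/
theorem result (A : Type u) [CommRing A] [IsLocalRing A] [IsNoetherianRing A] (B : Type u) [CommRing B] [IsRegularLocalRing B] (I : Ideal B) (hpres : Nonempty (AdicCompletion (IsLocalRing.maximalIdeal A) A ≃+* B ⧸ I)) (d e : ℕ) (hd : ringKrullDim A = (d : WithBot ℕ∞)) (he : ringKrullDim B = (e : WithBot ℕ∞)) : (e : ℤ) - (I.spanFinrank : ℤ) ≤ (d : ℤ) ∧ ((e : ℤ) - (I.spanFinrank : ℤ) = (d : ℤ) ↔ Pi1.IsCompleteIntersection A) := by
  obtain ⟨ee⟩ := hpres
  let π : B →+* EGA4.Cpl A := ee.symm.toRingHom.comp (Ideal.Quotient.mk I)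
  have hπ : Function.Surjective π := ee.symm.surjective.comp Ideal.Quotient.mk_surjective
  have hk : RingHom.ker π = I := by
    ext x
    show ee.symm (Ideal.Quotient.mk _ x) = 0 ↔ _
    rw [map_eq_zero_iff _ ee.symm.injective, Ideal.Quotient.eq_zero_iff_mem]
  have : IsNoetherianRing (EGA4.Cpl A) := Matlis6.isNoetherianRing_adicCompletion (IsLocalRing.maximalIdeal A)
  have hI : I ≤ IsLocalRing.maximalIdeal B := hk ▸ IsLocalRing.le_maximalIdeal (RingHom.ker_ne_top π)
  have hdim : ringKrullDim (B ⧸ I) = (d : WithBot ℕ∞) := by
    rw [← ringKrullDim_eq_of_ringEquiv ee, CommAlg6.ringKrullDim_completion, hd]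
  have h1 := ringKrullDim_le_ringKrullDim_quotient_add_spanFinrank I (by
    rw [← IsLocalRing.ringJacobson_eq_maximalIdeal] at hI; exact hI)
  rw [he, hdim] at h1
  norm_cast at h1
  refine ⟨by omega, ?_⟩
  rw [← CAlgH.AvramovCI.isCompleteIntersection_cpl_iff, CAlgH.CIPresentation.isCompleteIntersection_iff π hπ, hk]
  constructor
  · intro heq
    obtain ⟨s, hcard, hs⟩ := (IsNoetherian.noetherian I).exists_span_finset_card_eq_spanFinrank
    have hl : Ideal.ofList s.toList = I := by
      rw [Ideal.ofList, ← hs]
      congr 1
      ext; simp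
    refine ⟨s.toList, CAlgH.Avramov.isRegular_of_dim (fun x hx => hI (hl ▸ Ideal.subset_span hx)) ?_, hl⟩
    rw [hl, hdim, he, Finset.length_toList, hcard]
    norm_cast
    omega
  · rintro ⟨rs, hrs, hl⟩
    have h2 := ringKrullDim_add_length_eq_ringKrullDim_of_isRegular rs hrs
    rw [hl, hdim, he] at h2
    norm_cast at h2
    have h3 : I.spanFinrank ≤ rs.length := CAlgH3.spanFinrank_le_length rs hl
    omega

end Groth.Agent.S5178
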