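import Groth.Statements.S5183
import Groth.Agent.Lef23.PurePair
import Groth.Agent.Lef23.PuncturedLef
import Groth.Agent.CAlgH3.RegularHom

set_option autoImplicit false
universe u
open CategoryTheory CategoryTheory.Limits AlgebraicGeometry
open Pi1

namespace Groth.Agent.S5183

/-- Let A be a Noetherian local ring which is a quotient of a regular local ring, t an A-regular element
of the maximal ideal such that A is separated and complete for the (t)-adic topology, and assume
depth A_p ≥ 2 for every prime ideal p with dim A/p = 1. If B = A/tA is pure, i.e. the pair (Spec B,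
closed point) is pure: for every open V of Spec B restriction of finite étale covers from V to V
minus the closed point is an equivalence of categories, then A is pure. -/
theorem result (A : Type u) [CommRing A] [IsLocalRing A] [IsNoetherianRing A] (hq : ∃ (B : Type u) (_ : CommRing B) (_ : IsRegularLocalRing B) (φ : B →+* A), Function.Surjective φ) (t : A) (ht : t ∈ IsLocalRing.maximalIdeal A) (hreg : IsSMulRegular A t) [IsAdicComplete (Ideal.span {t}) A] (hdepth : ∀ p : Ideal A, ∀ _ : p.IsPrime, ringKrullDim (A ⧸ p) = 1 → (2 : ℕ∞) ≤ LocCoh.depth (Localization.AtPrime p) (Localization.AtPrime p)) [IsLocalRing (A ⧸ Ideal.span {t})] (hB : SGA2.IsPurePair (Spec (CommRingCat.of (A ⧸ Ideal.span {t}))) (FEt.puncturedSpec (A ⧸ Ideal.span {t}))) : SGA2.IsPurePair (Spec (CommRingCat.of A)) (FEt.puncturedSpec A) := by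
  obtain ⟨R, _, _, φ, hφ⟩ := hq
  haveI : IsRegularRing R := Groth.Agent.CAlgH3.isRegularRing_of_isRegularLocalRing
  refine Lef23.isPurePair_punctured A ?_
  let I : Ideal A := Ideal.span {t}
  let J := (Spec.map (CommRingCat.ofHom (Ideal.Quotient.mk I))).ker.comap (FEt.puncturedSpec A).ι
  obtain ⟨hfull, hfaith⟩ := Lef23.restrict_full_faithful_of_lefCond J
    (Lef23.lefCond_punctured A R φ hφ t ht hreg (fun p => hdepth p.asIdeal inferInstance))
  obtain ⟨w, hw, hwe⟩ := Lef23.exists_punctured_quotient_iso A I
  haveI := hw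
  haveI := Lef23.restrict_isEquivalence_of_isPurePair hB
  haveI : (FEt.restrict (Spec.map (CommRingCat.ofHom (Ideal.Quotient.mk I)))).IsEquivalence :=
    FEtFF.HenselPair.restrict_isEquivalence (I := I)
  haveI h0 := Lef23.restrict_isEquivalence_comp (FEt.puncturedSpec (A ⧸ I)).ι
    (Spec.map (CommRingCat.ofHom (Ideal.Quotient.mk I))) _ hwe
  haveI := FEtFF.BiratPurity.restrict_isEquivalence_of_isIso (inv w)
  haveI hc : (FEt.restrict (J.subschemeι ≫ (FEt.puncturedSpec A).ι)).IsEquivalence :=
    Lef23.restrict_isEquivalence_comp (inv w) (w ≫ J.subschemeι ≫ (FEt.puncturedSpec A).ι) _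
      (by rw [IsIso.inv_hom_id_assoc])
  let e := Lef23.restrictCompIso J.subschemeι (FEt.puncturedSpec A).ι _ rfl
  haveI : (FEt.restrict (FEt.puncturedSpec A).ι ⋙ FEt.restrict J.subschemeι).IsEquivalence :=
    Functor.isEquivalence_of_iso e
  haveI : (FEt.restrict (FEt.puncturedSpec A).ι).Faithful :=
    Functor.Faithful.of_comp _ (FEt.restrict J.subschemeι)
  haveI : (FEt.restrict (FEt.puncturedSpec A).ι).Full :=
    Functor.Full.of_comp_faithful _ (FEt.restrict J.subschemeι)
  haveI : (FEt.restrict (FEt.puncturedSpec A).ι).EssSurj := ⟨fun E =>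
    ⟨(FEt.restrict (FEt.puncturedSpec A).ι ⋙ FEt.restrict J.subschemeι).objPreimage ((FEt.restrict J.subschemeι).obj E),
      ⟨(FEt.restrict J.subschemeι).preimageIso
        ((FEt.restrict (FEt.puncturedSpec A).ι ⋙ FEt.restrict J.subschemeι).objObjPreimageIso _)⟩⟩⟩
  exact { }

end Groth.Agent.S5183
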