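import Groth.Statements.S5192
import Groth.Agent.Lef23.GrAlgz.Flat

set_option autoImplicit false
universe u
open CategoryTheory CategoryTheory.Limits AlgebraicGeometry
open LefX

namespace Groth.Agent.S5192

open Groth.Agent.Formal2Lib in
theorem iSup_eq_puncturedOpen {R : CommRingCat.{u}} (I : Ideal R) :
    (⨆ f : ↥I, (Spec R).basicOpen ((Scheme.ΓSpecIso R).inv f.1)) = LocCoh.puncturedOpen R I := by
  simp only [basicOpen_eq_of_affine]
  refine le_antisymm (iSup_le fun f => Punct.D_le I f.2) fun x hx => ?_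
  obtain ⟨a, ha, hax⟩ := Set.not_subset.1 (show ¬ (I : Set R) ⊆ x.asIdeal from hx)
  exact TopologicalSpace.Opens.mem_iSup.2 ⟨⟨a, ha⟩, hax⟩

open Groth.Agent.Formal2Lib in
set_option maxHeartbeats 800000 in
theorem algebraization {R : CommRingCat.{u}} [IsNoetherianRing R] (𝔞 J : Ideal R) (V : (Spec R).Opens)
    (hV : V = LocCoh.puncturedOpen R 𝔞) (I : (↑V : Scheme.{u}).IdealSheafData)
    (hI : I = (Spec.map (CommRingCat.ofHom (Ideal.Quotient.mk J))).ker.comap V.ι)
    (𝔐 : FSch.ModSys (FSch.completionAlong (↑V : Scheme.{u}) I)) (hlf : LefX.LevelwiseFinLocFree 𝔐)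
    [IsAdicComplete J R] (hb : Groth.Agent.Lef23.GrAlgz.HasBasis J)
    (h3 : ∀ i ≤ 2, Subsingleton (_root_.LocCoh.H 𝔞 i (R ⧸ J))) :
    ∃ F : (↑V : Scheme.{u}).Modules, Coh.IsCoh F ∧ Nonempty (FSch.completionMod I F ≅ 𝔐) := by
  subst hV
  exact Groth.Agent.Lef23.GrAlgz.exists_algebraization 𝔞 J I (by rw [hI]; rfl) 𝔐 hlf hb h3

open TopologicalSpace Groth.Agent.Formal2Lib Groth.Agent.Lef23 in
theorem formalBijective {R : CommRingCat.{u}} [IsNoetherianRing R] (𝔞 J : Ideal R) (V : (Spec R).Opens)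
    (hV : V = LocCoh.puncturedOpen R 𝔞) [IsAdicComplete J R] (h : (2 : ℕ∞) ≤ _root_.LocCoh.idealDepth 𝔞 R)
    (hn : ∀ n : ℕ, (2 : ℕ∞) ≤ _root_.LocCoh.idealDepth 𝔞 (R ⧸ J ^ (n + 1)))
    (D : (↑V : Scheme.{u}).Modules) (hD : FlatMod.IsFinLocFree D) :
    Lef.HomToFormalBijective ((Spec.map (CommRingCat.ofHom (Ideal.Quotient.mk J))).ker.comap V.ι) D := by
  haveI : IsNoetherian (Spec R) := inferInstance
  haveI : IsLocallyNoetherian (↑V : Scheme.{u}) := LocallyOfFiniteType.isLocallyNoetherian V.ι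
  haveI : CompactSpace ((↑V : Scheme.{u})) :=
    isCompact_iff_compactSpace.mp (NoetherianSpace.isCompact _)
  haveI : AlgebraicGeometry.IsNoetherian (↑V : Scheme.{u}) := ⟨⟩
  haveI : (↑V : Scheme.{u}).IsQuasiAffine := Scheme.IsQuasiAffine.of_isImmersion V.ι
  refine formal_of_quasiAffine _ (formalBijective_of_toHHlim J _ rfl ?_) D hD
  exact GrFree.toHHlim_of_open (R := R) 𝔞 J V hV h hn

/-- Normal flatness assumed along all of X_0. Let A be a Noetherian ring which is a quotient of a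
regular ring, J an ideal such that A is separated and complete for the J-adic topology, X = Spec A,
X_0 = V(J), I an ideal with Y = V(I), U = X − Y (the union of the D(f), f ∈ I) and U_0 = U ∩ X_0.
Assume: (a) every J^n/J^(n+1) is flat over A/J (X normally flat along X_0); (b) for every prime p ⊇
I + J the local ring (A/J)_p has depth ≥ 3; (c) for every prime p ⊇ I not containing J, A_p has
depth ≥ 3. Then (1) for every finite locally free O_U-module D the map Hom(D, O_U) → lim_n Hom(D,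
O_U/J^(n+1)O_U) is bijective (completion along U_0 is fully faithful on finite locally free
modules), and (2) every levelwise finite locally free system of coherent modules on the completion
of U along U_0 is isomorphic to the completion of a coherent O_U-module. (The published statement
asks normal flatness only at the points of Y ∩ X_0; this row assumes it along all of X_0.) -/
theorem result (R : Type u) [CommRing R] [IsRegularRing R] (A : Type u) [CommRing A] [IsNoetherianRing A] (π : R →+* A) (hπ : Function.Surjective π) (J : Ideal A) [IsAdicComplete J A] (I : Ideal A) (ha : ∀ n : ℕ, Module.Flat (A ⧸ J) (↥(J ^ n) ⧸ (J • (⊤ : Submodule A ↥(J ^ n))))) (hb : ∀ p : Ideal A, ∀ _ : p.IsPrime, I ≤ p → J ≤ p → (3 : ℕ∞) ≤ LocCoh.depth (Localization.AtPrime p) (Localization.AtPrime p ⧸ J.map (algebraMap A (Localization.AtPrime p)))) (hc : ∀ p : Ideal A, ∀ _ : p.IsPrime, I ≤ p → ¬ J ≤ p → (3 : ℕ∞) ≤ LocCoh.depth (Localization.AtPrime p) (Localization.AtPrime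 p)) : (∀ D : (↑(⨆ f : ↥I, (Spec (CommRingCat.of A)).basicOpen ((Scheme.ΓSpecIso (CommRingCat.of A)).inv f.1)) : Scheme.{u}).Modules, FlatMod.IsFinLocFree D → Lef.HomToFormalBijective ((Spec.map (CommRingCat.ofHom (Ideal.Quotient.mk J))).ker.comap (⨆ f : ↥I, (Spec (CommRingCat.of A)).basicOpen ((Scheme.ΓSpecIso (CommRingCat.of A)).inv f.1)).ι) D) ∧ (∀ 𝔐 : FSch.ModSys (FSch.completionAlong (↑(⨆ f : ↥I, (Spec (CommRingCat.of A)).basicOpen ((Scheme.ΓSpecIso (CommRingCat.of A)).inv f.1)) : Scheme.{u}) ((Spec.map (CommRingCat.ofHom (Ideal.Quotient.mk J))).ker.comap (⨆ f : ↥I, (Spec (CommRingCat.of A)).basicOpen ((Scheme.ΓSpecIso (CommRingCat.of A)).inv f.1)).ι)), LefX.LevelwiseFinLocFree 𝔐 → ∃ F : (↑(⨆ f : ↥I, (Spec (CommRingCat.of A)).basicOpen ((Scheme.ΓSpecIso (CommRingCat.of A)).inv f.1)) : Scheme.{u}).Modules, Coh.IsCoh F ∧ Nonempty (FSch.completionMod ((Spec.map (CommRingCat.ofHom (Ideal.Quotient.mk J))).ker.comap (⨆ f : ↥I, (Spec (CommRingCat.of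 A)).basicOpen ((Scheme.ΓSpecIso (CommRingCat.of A)).inv f.1)).ι) F ≅ 𝔐)) := by
  have hd : ((3 : ℕ) : ℕ∞) ≤ _root_.LocCoh.idealDepth I (A ⧸ J) :=
    Groth.Agent.Lef23.GrAlgz.natCast_le_idealDepth_quotient J I 3 hb
  have h3 : ∀ i ≤ 2, Subsingleton (_root_.LocCoh.H I i (A ⧸ J)) := fun i hi =>
    (Groth.Agent.LocCoh.natCast_le_idealDepth_iff_H I (A ⧸ J) 3).1 hd i (by omega)
  have hn : ∀ n : ℕ, ((2 : ℕ) : ℕ∞) ≤ _root_.LocCoh.idealDepth I (A ⧸ J ^ (n + 1)) := fun n =>
    (Groth.Agent.LocCoh.natCast_le_idealDepth_iff_H I _ 2).2 fun i hi => by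
      have := h3 i (by omega)
      exact Groth.Agent.Lef23.GrAlgz.subsingleton_H_quotient_pow J I ha i (n + 1)
  have hA : ((2 : ℕ) : ℕ∞) ≤ _root_.LocCoh.idealDepth I A :=
    (Groth.Agent.LocCoh.natCast_le_idealDepth_iff_H I A 2).2 fun i hi => by
      have hs : Groth.Agent.Formal2Lib.Sat.IsSat I A := Groth.Agent.Lef23.GrAlgz.isSat_of_complete J I fun n => by
        have := (Groth.Agent.LocCoh.natCast_le_idealDepth_iff_H I _ 2).1 (hn n) 0 (by omega)
        have := (Groth.Agent.LocCoh.natCast_le_idealDepth_iff_H I _ 2).1 (hn n) 1 (by omega)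
        exact Groth.Agent.Lef23.GrAlgz.isSat_of_subsingleton
      interval_cases i
      · exact Groth.Agent.Lef23.GrAlgz.subsingleton_H0 hs
      · exact Groth.Agent.Lef23.GrAlgz.subsingleton_H1 hs
  exact ⟨fun D hD => formalBijective (R := CommRingCat.of A) I J _ (iSup_eq_puncturedOpen (R := CommRingCat.of A) I) hA hn D hD,
    fun 𝔐 h𝔐 => algebraization (R := CommRingCat.of A) I J _ (iSup_eq_puncturedOpen (R := CommRingCat.of A) I) _ rfl 𝔐 h𝔐
      (Groth.Agent.Lef23.GrAlgz.hasBasis_of_flat J ha) h3⟩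

end Groth.Agent.S5192
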