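import Groth.Statements.S5194
import Groth.Agent.Lef23.PureExtend
import Groth.Agent.Lef24.PicFamily
import Groth.Agent.S2950

set_option autoImplicit false
set_option linter.style.haveILetI false
universe u
open CategoryTheory CategoryTheory.Limits AlgebraicGeometry
open LefX

namespace Groth.Agent.S5194

open IsLocalRing in
/-- A pure pair gives purity of the local ring. -/
theorem purityHolds_of_isPurePair (R : Type u) [CommRing R] [IsLocalRing R]
    (h : SGA2.IsPurePair (Spec (CommRingCat.of R)) (FEt.puncturedSpec R)) : FEt.PurityHolds R := by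
  let P := Spec (CommRingCat.of R)
  let U := FEt.puncturedSpec R
  let j : ((⊤ ⊓ U : P.Opens) : Scheme.{u}) ⟶ ((⊤ : P.Opens) : Scheme.{u}) :=
    P.homOfLE (inf_le_left : (⊤ : P.Opens) ⊓ U ≤ ⊤)
  let a : (U : Scheme.{u}) ⟶ ((⊤ ⊓ U : P.Opens) : Scheme.{u}) := P.homOfLE (le_inf le_top le_rfl)
  haveI : IsIso a := ⟨P.homOfLE inf_le_right, by simp [a], by simp [a]⟩
  haveI : IsIso (⊤ : P.Opens).ι := P.topIso.isIso_hom
  haveI := h ⊤
  haveI := FEtFF.BiratPurity.restrict_isEquivalence_of_isIso a
  haveI := FEtFF.BiratPurity.restrict_isEquivalence_of_isIso (⊤ : P.Opens).ι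
  haveI : (FEt.restrict (j ≫ (⊤ : P.Opens).ι)).IsEquivalence :=
    Functor.isEquivalence_of_iso (Lef23.restrictCompIso j (⊤ : P.Opens).ι _ rfl).symm
  haveI : (FEt.restrict U.ι).IsEquivalence :=
    Functor.isEquivalence_of_iso (Lef23.restrictCompIso a (j ≫ (⊤ : P.Opens).ι) U.ι (by simp [a, j])).symm
  exact (inferInstance : (FEt.restrict U.ι).EssSurj)

/-- Over an affine base. Let A be a Noetherian ring, X a proper flat A-scheme, 𝓘 a quasi-coherent ideal
whose ideal module is invertible with ample inverse L, such that X_0 = V(𝓘) is also flat over A (X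
projective over A, 𝓘 cut out by a section of L regular on every fibre). Assume that every fibre X_s
has depth ≥ 3 at each of its closed points, and that at every point x outside X_0 which is closed in
its fibre the local ring of the fibre X_s at x is pure: for every open V of its spectrum,
restriction of finite étale covers from V to V minus the closed point is an equivalence (for
instance a complete intersection, of dimension ≥ 3 here). Then restriction of finite étale covers
from X to X_0 is an equivalence of categories; in particular π_1(X_0) → π_1(X) is an isomorphism for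
a geometric base point on X_0. -/
theorem result (A : Type u) [CommRing A] [IsNoetherianRing A] (X : Scheme.{u}) [X.Over (Spec (CommRingCat.of A))] [IsProper (X ↘ Spec (CommRingCat.of A))] [Flat (X ↘ Spec (CommRingCat.of A))] (𝓘 : X.IdealSheafData) (L : X.Modules) (hL : ClSub.IsInverseOf L (ClSub.idealMod 𝓘)) (hamp : CohB1.IsAmple L) [Flat (𝓘.subschemeι ≫ (X ↘ Spec (CommRingCat.of A)))] (hdepth : ∀ x : X, IsClosed ({((X ↘ Spec (CommRingCat.of A))).asFiber x} : Set ↥(((X ↘ Spec (CommRingCat.of A))).fiber (((X ↘ Spec (CommRingCat.of A))).base x))) → (3 : ℕ∞) ≤ LocCoh.depth ↑(CInt.fiberStalk (X ↘ Spec (CommRingCat.of A)) x) ↑(CInt.fiberStalk (X ↘ Spec (CommRingCat.of A)) x)) (hpure : ∀ x : X, IsClosed ({((X ↘ Spec (CommRingCat.of A))).asFiber x} : Set ↥(((X ↘ Spec (CommRingCat.of A))).fiber (((X ↘ Spec (CommRingCat.of A))).base x))) → x ∉ (𝓘.support : Set X) → SGA2.IsPurePair (Spec (CommRingCat.of ↑(CInt.fiberStalk (X ↘ Spec (CommRingCat.of A)) x))) (FEt.puncturedSpec ↑(CInt.fiberStalk (X ↘ Spec (CommRingCat.of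 A)) x))) : (FEt.restrict 𝓘.subschemeι).IsEquivalence := by
  let f := X ↘ Spec (CommRingCat.of A)
  haveI : IsLocallyNoetherian X := LocallyOfFiniteType.isLocallyNoetherian f
  have hI : BlowUp.IsEffCartierIdeal 𝓘 :=
    (Groth.Agent.S8914.result 𝓘).1 (Lef23.isInvertible_inverse hamp.1 hL)
  have h23 : (2 : ℕ∞) ≤ 3 := by norm_num
  have hleff : LefX.LeffCond X 𝓘 := Groth.Agent.S3361.result A X 𝓘 L hL hamp (fun y hy => by
    have h3 := hdepth _ (Lef24.isClosed_asFiber_image 𝓘.subschemeι f y hy)
    rw [← Lef24.depth_fiberStalk_divisor hI f y, show (3 : ℕ∞) = 2 + 1 by norm_num] at h3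
    exact (WithTop.add_le_add_iff_right ENat.one_ne_top).1 h3) fun x hx => h23.trans (hdepth x hx)
  refine Lef23.restrict_isEquivalence_of_leff_good 𝓘 hleff fun U hU x hx => ?_
  have hc := Lef23.isClosed_fibre_of_disjoint (A := A) 𝓘 hL hamp (Z := (U : Set X)ᶜ) U.2.isClosed_compl
    (Set.disjoint_left.2 fun z hz hz' => hz (hU hz')) hx
  refine ⟨(h23.trans (hdepth x hc)).trans (Lef23.depth_fiberStalk_le x), ?_⟩
  have hp0 := purityHolds_of_isPurePair _ (hpure x hc fun h => hx (hU h))
  let B := (Spec (CommRingCat.of A)).presheaf.stalk (f.base x)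
  let O := X.presheaf.stalk x
  letI : Algebra B O := (f.stalkMap x).hom.toAlgebra
  haveI : IsLocalHom (algebraMap B O) := inferInstanceAs (IsLocalHom (f.stalkMap x).hom)
  haveI : Module.Flat B O := Flat.stalkMap f x
  let J := (IsLocalRing.maximalIdeal B).map (algebraMap B O)
  haveI : Nontrivial (O ⧸ J) := Ideal.Quotient.nontrivial_iff.2 fun h =>
    (IsLocalRing.maximalIdeal.isMaximal O).ne_top (top_le_iff.1 (h ▸ IsLocalRing.map_maximalIdeal_le _))
  haveI : IsLocalRing (O ⧸ J) := .of_surjective' _ Ideal.Quotient.mk_surjective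
  obtain ⟨e⟩ := CAlgH.CIScheme.fiberStalk_equiv f x
  haveI := CAlgH.CIScheme.isNoetherianRing_fiberStalk f x
  exact Groth.Agent.S2950.result B O ((hdepth x hc).trans_eq (CAlgH3.depth_ringEquiv e).symm)
    (FEtFF.PurityTransfer.purityHolds_of_ringEquiv e.symm hp0)

end Groth.Agent.S5194
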