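import Groth.Statements.S5199
import Groth.Agent.Lef23.PuncturedLeff
import Groth.Agent.CAlgH3.RegularHom

set_option autoImplicit false
universe u
open CategoryTheory CategoryTheory.Limits AlgebraicGeometry
open LefX

namespace Groth.Agent.S5199

/-- Let A be a Noetherian local ring which is a quotient of a regular local ring, t an A-regular element
of the maximal ideal such that A is separated and complete for the (t)-adic topology, X the
punctured spectrum of A and Y = V(t) ∩ X, the closed subscheme of X defined by t. Assume that depth
A_p ≥ 2 for every prime ideal p with dim A/p = 1 (the closed points of X), and that depth A_p ≥ 3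
for every such p containing t (the closed points of Y). Then the effective Lefschetz condition
Leff(X, Y) holds: for every open U ⊇ Y of X and every finite locally free O_U-module D, Hom(D, O_U)
→ lim_n Hom(D, O_U/t^(n+1)O_U) is bijective, and every levelwise finite locally free system of
modules on the completion of X along Y is the completion of a finite locally free module on some
open neighbourhood of Y. -/
theorem result (A : Type u) [CommRing A] [IsLocalRing A] [IsNoetherianRing A] (hq : ∃ (B : Type u) (_ : CommRing B) (_ : IsRegularLocalRing B) (φ : B →+* A), Function.Surjective φ) (t : A) (ht : t ∈ IsLocalRing.maximalIdeal A) (hreg : IsSMulRegular A t) [IsAdicComplete (Ideal.span {t}) A] (h2 : ∀ p : Ideal A, ∀ _ : p.IsPrime, ringKrullDim (A ⧸ p) = 1 → (2 : ℕ∞) ≤ LocCoh.depth (Localization.AtPrime p) (Localization.AtPrime p)) (h3 : ∀ p : Ideal A, ∀ _ : p.IsPrime, t ∈ p → ringKrullDim (A ⧸ p) = 1 → (3 : ℕ∞) ≤ LocCoh.depth (Localization.AtPrime p) (Localization.AtPrime p)) : LefX.LeffCond (↑(FEt.puncturedSpec A) : Scheme.{u}) ((Spec.map (CommRingCat.ofHom (Ideal.Quotient.mk (Ideal.span {t})))).ker.comap (FEt.puncturedSpec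 A).ι) := by
  obtain ⟨B, _, _, φ, hφ⟩ := hq
  haveI : IsRegularRing B := Groth.Agent.CAlgH3.isRegularRing_of_isRegularLocalRing
  exact Lef23.leffCond_punctured A t B φ hφ ht hreg (fun p => h2 p.asIdeal inferInstance) h3

end Groth.Agent.S5199
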