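import Groth.Statements.S5212
import Mathlib.RingTheory.Ideal.Maps
import Mathlib.LinearAlgebra.Matrix.ToLin
import Mathlib.RingTheory.Localization.AtPrime.Basic
import Mathlib.RingTheory.Spectrum.Prime.Topology

set_option autoImplicit false
universe u
open GrpQ

namespace Groth.Agent.S5212

/-- For `A'` finite and free as an `A`-module, a prime `p` of `A` and `a ∈ A'`, the element `a` belongs
to some prime of `A'` lying over `p` if and only if its norm belongs to `p`. (The published
statement allows `A'` projective of constant rank over `A`; this row takes `A'` free, where the norm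
is the determinant of multiplication.) -/
theorem result {A A' : Type u} [CommRing A] [CommRing A'] [Algebra A A']
    [Module.Free A A'] [Module.Finite A A'] (p : Ideal A) [p.IsPrime] (a : A') :
    (∃ q : Ideal A', q.IsPrime ∧ q.LiesOver p ∧ a ∈ q) ↔ Algebra.norm A a ∈ p := by
  classical
  let b := Module.Free.chooseBasis A A'
  set M := Algebra.leftMulMatrix b
  have hp : ∀ c ∈ p.map (algebraMap A A'), ∀ i j, M c i j ∈ p := by
    intro c hc
    induction hc using Submodule.span_induction with
    | mem z hz =>
      obtain ⟨t, ht, rfl⟩ := hz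
      intro i j
      rw [AlgHom.commutes, Matrix.algebraMap_matrix_apply]
      split_ifs
      exacts [ht, zero_mem p]
    | zero => simp
    | add u v _ _ hu hv => intro i j; rw [map_add, Matrix.add_apply]; exact add_mem (hu i j) (hv i j)
    | smul t u _ hu =>
      intro i j
      rw [smul_eq_mul, map_mul, Matrix.mul_apply]
      exact p.sum_mem fun l _ => p.mul_mem_left _ (hu l j)
  constructor
  · rintro ⟨q, hq, hqp, ha⟩
    by_contra hn
    -- the norm is a multiple of `a`
    obtain ⟨c, hc⟩ : a ∣ algebraMap A A' (Algebra.norm A a) := by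
      have h := Matrix.mul_adjugate (M a)
      have hd : (M a).det = Algebra.norm A a := (Algebra.norm_eq_matrix_det b a).symm
      have hcoef := congrArg (fun X : Matrix _ _ A => b.equivFun.symm (Matrix.mulVec X (b.equivFun 1))) h
      refine ⟨b.equivFun.symm (Matrix.mulVec (M a).adjugate (b.equivFun 1)), ?_⟩
      apply b.equivFun.injective
      have hmul : ∀ u, b.equivFun (a * u) = Matrix.mulVec (M a) (b.equivFun u) := fun u => by
        rw [Module.Basis.equivFun_apply, Module.Basis.equivFun_apply]
        exact (Algebra.leftMulMatrix_mulVec_repr b a u).symm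
      rw [hmul, LinearEquiv.apply_symm_apply, Matrix.mulVec_mulVec, h, hd, Matrix.smul_mulVec, Matrix.one_mulVec,
        ← mul_one (algebraMap A A' (Algebra.norm A a)), ← Algebra.smul_def, map_smul]
    refine hn ?_
    rw [Ideal.LiesOver.over (p := p) (P := q), Ideal.mem_comap, hc]
    exact q.mul_mem_right _ ha
  · intro hn
    by_contra hno
    push Not at hno
    set K : Ideal A' := p.map (algebraMap A A') ⊔ Ideal.span {a}
    have hK : ¬ ∀ s ∈ Ideal.comap (algebraMap A A') K, s ∈ p := by
      intro hle
      have hdisj : Disjoint ((Algebra.algebraMapSubmonoid A' p.primeCompl : Set A')) (K : Set A') := by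
        rw [Set.disjoint_left]
        rintro _ ⟨s, hs, rfl⟩ hsK
        exact hs (hle s hsK)
      obtain ⟨q, hqprime, hKq, hq⟩ := Ideal.exists_le_prime_disjoint K _ hdisj.symm
      refine hno q hqprime ⟨le_antisymm (fun t ht => ?_) fun t ht => ?_⟩ (hKq (Ideal.mem_sup_right (Ideal.mem_span_singleton_self a)))
      · exact hKq (Ideal.mem_sup_left (Ideal.mem_map_of_mem _ ht))
      · by_contra htp
        exact Set.disjoint_left.1 hq ht ⟨t, htp, rfl⟩
    push Not at hK
    obtain ⟨s, hsK, hs⟩ := hK
    obtain ⟨u, hu, v, hv, huv⟩ := Submodule.mem_sup.1 (Ideal.mem_comap.1 hsK)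
    obtain ⟨c, rfl⟩ := Ideal.mem_span_singleton.1 hv
    refine hs (Ideal.IsPrime.mem_of_pow_mem ‹_› (Fintype.card (Module.Free.ChooseBasisIndex A A')) ?_)
    have hmap : (M (a * c)).map (Ideal.Quotient.mk p) = (algebraMap A (Matrix _ _ A) s).map (Ideal.Quotient.mk p) := by
      ext i j
      rw [Matrix.map_apply, Matrix.map_apply, Ideal.Quotient.eq]
      rw [← AlgHom.commutes M s, ← huv, map_add M, Matrix.add_apply, sub_add_cancel_right]
      exact p.neg_mem (hp u hu i j)
    have hd := congrArg Matrix.det hmap
    rw [← RingHom.mapMatrix_apply, ← RingHom.mapMatrix_apply, ← RingHom.map_det, ← RingHom.map_det, ← Algebra.norm_eq_matrix_det b, map_mul] at hd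
    rw [Algebra.algebraMap_eq_smul_one, Matrix.det_smul, Matrix.det_one, mul_one] at hd
    rw [← Ideal.Quotient.eq_zero_iff_mem, ← hd, map_mul, Ideal.Quotient.eq_zero_iff_mem.2 hn, zero_mul]

end Groth.Agent.S5212
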