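import Groth.Statements.S5213
import Mathlib.LinearAlgebra.FreeModule.Finite.Basic
import Mathlib.LinearAlgebra.Dimension.Free
import Mathlib.LinearAlgebra.Determinant
import Mathlib.LinearAlgebra.Matrix.NonsingularInverse

set_option autoImplicit false
universe u
open GrpQ

namespace Groth.Agent.S5213

theorem exists_not_mem {B P ι : Type*} [CommRing B] [IsLocalRing B] [Infinite (IsLocalRing.ResidueField B)]
    [AddCommGroup P] [Module B P] (W : ι → Submodule B P) (hW : ∀ i, W i ≠ ⊤) (s : Finset ι) :
    ∃ x : P, ∀ i ∈ s, x ∉ W i := by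
  classical
  induction s using Finset.induction_on with
  | empty => exact ⟨0, by simp⟩
  | @insert j s hj ih =>
    obtain ⟨x, hx⟩ := ih
    by_cases hxj : x ∈ W j
    swap
    · exact ⟨x, Finset.forall_mem_insert _ _ _ |>.2 ⟨hxj, hx⟩⟩
    obtain ⟨y, hy⟩ : ∃ y, y ∉ W j := by
      by_contra! h
      exact hW j (eq_top_iff.2 fun z _ => h z)
    let bad : ι → Set (IsLocalRing.ResidueField B) := fun i =>
      {c | ∃ t, IsLocalRing.residue B t = c ∧ x + t • y ∈ W i}
    have hbad : ∀ i ∈ s, (bad i).Subsingleton := by
      rintro i hi _ ⟨t, rfl, ht⟩ _ ⟨t', rfl, ht'⟩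
      by_contra hne
      have hu : IsUnit (t - t') := by
        rw [← IsLocalRing.residue_ne_zero_iff_isUnit, map_sub, sub_ne_zero]
        exact hne
      have hsub : (t - t') • y ∈ W i := by
        have := (W i).sub_mem ht ht'
        rwa [add_sub_add_left_eq_sub, ← sub_smul] at this
      have hyi : y ∈ W i := (Submodule.smul_mem_iff_of_isUnit _ hu).1 hsub
      exact hx i hi (by simpa using (W i).sub_mem ht ((W i).smul_mem t hyi))
    have hfin : (insert 0 (⋃ i ∈ s, bad i)).Finite :=
      (s.finite_toSet.biUnion fun i hi => (hbad i hi).finite).insert 0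
    obtain ⟨c, hc⟩ := hfin.exists_notMem
    obtain ⟨t, rfl⟩ := IsLocalRing.residue_surjective c
    simp only [Set.mem_insert_iff, Set.mem_iUnion, not_or, not_exists] at hc
    refine ⟨x + t • y, (Finset.forall_mem_insert _ _ _).2 ⟨fun h => hy ?_, fun i hi h => hc.2 i hi ⟨t, rfl, h⟩⟩⟩
    exact (Submodule.smul_mem_iff_of_isUnit _ (IsLocalRing.residue_ne_zero_iff_isUnit t |>.1 hc.1)).1
      (by simpa using (W j).sub_mem h hxj)

/-- Let `B` be a local ring with infinite residue field, `A` a semi-local ring, `B → A` a ring map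
carrying the maximal ideal of `B` into the Jacobson radical of `A`, `M` a finite free `A`-module and
`N` a `B`-submodule of `M` generating `M` as an `A`-module. Then `N` contains a basis of `M` over
`A`. -/
theorem result {B A M : Type u} [CommRing B] [CommRing A]
    [IsLocalRing B] [Infinite (IsLocalRing.ResidueField B)] [Algebra B A]
    [Finite (MaximalSpectrum A)]
    (hBA : (IsLocalRing.maximalIdeal B).map (algebraMap B A) ≤ (⊥ : Ideal A).jacobson)
    [AddCommGroup M] [Module A M] [Module B M] [IsScalarTower B A M]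
    [Module.Free A M] [Module.Finite A M]
    (N : Submodule B M) (hN : Submodule.span A (N : Set M) = ⊤) :
    ∃ b : Module.Basis (Fin (Module.finrank A M)) A M, ∀ i, b i ∈ N := by
  classical
  rcases subsingleton_or_nontrivial A with hA | hA
  · haveI := Module.subsingleton A M
    exact ⟨Module.Basis.ofRepr (LinearEquiv.ofSubsingleton M _),
      fun i => by rw [Subsingleton.elim (DFunLike.coe (Module.Basis.ofRepr (LinearEquiv.ofSubsingleton M (Fin (Module.finrank A M) →₀ A))) i) 0]; exact N.zero_mem⟩
  haveI : Fintype (MaximalSpectrum A) := Fintype.ofFinite _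
  set n := Module.finrank A M
  let b0 : Module.Basis (Fin n) A M := Module.finBasis A M
  let φ : ∀ m : MaximalSpectrum A, M →ₗ[A] Fin n → A ⧸ m.asIdeal := fun m =>
    ((Submodule.mkQ m.asIdeal).compLeft (Fin n)).comp b0.equivFun.toLinearMap
  have hφ : ∀ m, Function.Surjective (φ m) := fun m =>
    (Function.Surjective.comp_left (Submodule.mkQ_surjective _)).comp b0.equivFun.surjective
  have main : ∀ r, r ≤ n → ∃ x : Fin r → N, ∀ m : MaximalSpectrum A,
      LinearIndependent (A ⧸ m.asIdeal) fun j => φ m (x j) := by
    intro r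
    induction r with
    | zero => exact fun _ => ⟨Fin.elim0, fun m => linearIndependent_empty_type⟩
    | succ r ih =>
      intro hr
      obtain ⟨x, hx⟩ := ih (by omega)
      let T : ∀ m : MaximalSpectrum A, Submodule A M := fun m =>
        ((Submodule.span (A ⧸ m.asIdeal) (Set.range fun j => φ m (x j))).restrictScalars A).comap (φ m)
      let W : MaximalSpectrum A → Submodule B N := fun m => ((T m).restrictScalars B).comap N.subtype
      have hW : ∀ m, W m ≠ ⊤ := by
        intro m h
        have hle : Submodule.span A (N : Set M) ≤ T m :=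
          Submodule.span_le.2 fun y hy => by
            have : (⟨y, hy⟩ : N) ∈ W m := h ▸ Submodule.mem_top
            exact this
        haveI := m.isMaximal
        letI := Ideal.Quotient.field m.asIdeal
        have htop : Submodule.span (A ⧸ m.asIdeal) (Set.range fun j => φ m (x j)) = ⊤ := eq_top_iff.2 fun v _ => by
          obtain ⟨y, rfl⟩ := hφ m v
          exact hle (hN ▸ Submodule.mem_top)
        have := finrank_span_eq_card (hx m)
        rw [htop, finrank_top, Module.finrank_fin_fun, Fintype.card_fin] at this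
        omega
      obtain ⟨y, hy⟩ := exists_not_mem W hW Finset.univ
      refine ⟨Fin.snoc x y, fun m => ?_⟩
      haveI := m.isMaximal
      letI := Ideal.Quotient.field m.asIdeal
      rw [show (fun j => φ m ((Fin.snoc x y : Fin (r + 1) → N) j)) = Fin.snoc (fun j => φ m (x j)) (φ m y) from
        (Fin.comp_snoc (fun z : N => φ m z) x y)]
      exact linearIndependent_finSnoc.2 ⟨hx m, fun h => hy m (Finset.mem_univ m) h⟩
  obtain ⟨x, hx⟩ := main n le_rfl
  have hdet : IsUnit (b0.det fun j => (x j : M)) := by
    by_contra hu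
    obtain ⟨I, hI, hmem⟩ := exists_max_ideal_of_mem_nonunits (show b0.det (fun j => (x j : M)) ∈ nonunits A from hu)
    haveI := hI
    letI := Ideal.Quotient.field I
    have hrow := (Matrix.linearIndependent_rows_iff_isUnit (A := Matrix.of fun j i => φ ⟨I, hI⟩ (x j) i)).1 (hx ⟨I, hI⟩)
    rw [Matrix.isUnit_iff_isUnit_det] at hrow
    refine hrow.ne_zero ?_
    rw [← Matrix.det_transpose, show (Matrix.of fun j i => φ ⟨I, hI⟩ (x j) i).transpose =
        (b0.toMatrix fun j => (x j : M)).map (Ideal.Quotient.mk I) from rfl, ← RingHom.mapMatrix_apply,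
      ← RingHom.map_det, ← Module.Basis.det_apply]
    exact Ideal.Quotient.eq_zero_iff_mem.2 hmem
  obtain ⟨h1, h2⟩ := (Module.Basis.is_basis_iff_det b0).2 hdet
  exact ⟨Module.Basis.mk h1 h2.ge, fun i => by rw [Module.Basis.mk_apply]; exact (x i).2⟩

end Groth.Agent.S5213
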