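import Mathlib.CategoryTheory.EquivalenceRelation
import Mathlib.CategoryTheory.Limits.FunctorCategory.Basic
import Mathlib.CategoryTheory.Types.Basic
import Mathlib.CategoryTheory.EquivalenceRelation
import Mathlib.CategoryTheory.Sites.RegularEpi
import Mathlib.CategoryTheory.Sites.EpiMono
import Mathlib.CategoryTheory.Limits.Shapes.Pullback.IsPullback.Basic
import Mathlib.CategoryTheory.Sites.LeftExact

set_option autoImplicit false
namespace CategoryTheory
end CategoryTheory
namespace CategoryTheory.Limits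
end CategoryTheory.Limits
open CategoryTheory CategoryTheory.Limits
universe w v₁ u₁
namespace ShfCat
end ShfCat
open ShfCat

namespace Groth.Agent.S5216

variable {C : Type u₁} [Category.{v₁} C] {R X : Cᵒᵖ ⥤ Type w} (p₁ p₂ : R ⟶ X)

/-- sections form an equivalence relation -/
lemma equiv_sections (e : EquivalenceRelation p₁ p₂) (U : Cᵒᵖ) :
    (∀ r r' : R.obj U, p₁.app U r = p₁.app U r' → p₂.app U r = p₂.app U r' →
      r = r') ∧ Equivalence (TypeCat.Rel.ofPair (p₁.app U) (p₂.app U)) := by
  let F : (Cᵒᵖ ⥤ Type w) ⥤ Type w := (evaluation Cᵒᵖ (Type w)).obj U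
  haveI : JointlyMono₂ p₁ p₂ := e.toReflexiveRelation.toJointlyMono₂
  have hm : Mono (prod.lift p₁ p₂) := ⟨fun a b h => JointlyMono₂.right_cancellation (p₁ := p₁) (p₂ := p₂) a b
    (by have := congrArg (· ≫ prod.fst) h; simpa only [Category.assoc, prod.lift_fst] using this) (by have := congrArg (· ≫ prod.snd) h; simpa only [Category.assoc, prod.lift_snd] using this)⟩
  have hinj : Function.Injective (F.map (prod.lift p₁ p₂)) := (mono_iff_injective _).1 inferInstance
  have inj : ∀ r r' : R.obj U, p₁.app U r = p₁.app U r' →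
      p₂.app U r = p₂.app U r' → r = r' := by
    intro r r' h₁ h₂
    apply hinj
    apply (asIso (prodComparison F X X)).toEquiv.injective
    refine Limits.Types.limit_ext _ _ _ ?_
    rintro ⟨_ | _⟩
    · show ((F.map (prod.lift p₁ p₂)) ≫ prodComparison F X X ≫ prod.fst) r
        = ((F.map (prod.lift p₁ p₂)) ≫ prodComparison F X X ≫ prod.fst) r'
      rw [prodComparison_fst, ← F.map_comp, prod.lift_fst]
      exact h₁
    · show ((F.map (prod.lift p₁ p₂)) ≫ prodComparison F X X ≫ prod.snd) r
        = ((F.map (prod.lift p₁ p₂)) ≫ prodComparison F X X ≫ prod.snd) r'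
      rw [prodComparison_snd, ← F.map_comp, prod.lift_snd]
      exact h₂
  haveI : JointlyMono₂ (F.map p₁) (F.map p₂) :=
    ⟨fun _ a b h₁ h₂ => by ext y; exact inj _ _ (congr($h₁ y)) (congr($h₂ y))⟩
  exact ⟨inj, TypeCat.equivalence_of_equivalenceRelation
    { __ := e.toReflexiveRelation.map F
      __ := e.toSymmetricRelation.map F
      __ := e.toTransitiveRelation.map F }⟩

/-- the quotient presheaf -/
def Qpre : Cᵒᵖ ⥤ Type w where
  obj U := Quot (TypeCat.Rel.ofPair (p₁.app U) (p₂.app U))
  map {U V} f := ↾(Quot.map (X.map f) (by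
    rintro a b ⟨r, rfl, rfl⟩
    exact ⟨R.map f r, congr($(p₁.naturality f) r), congr($(p₂.naturality f) r)⟩))
  map_id U := by ext ⟨x⟩; exact congrArg (Quot.mk _) (by simp)
  map_comp f g := by ext ⟨x⟩; exact congrArg (Quot.mk _) (by simp)

/-- the quotient map -/
def qmap : X ⟶ Qpre p₁ p₂ where
  app U := ↾(Quot.mk _)

lemma qmap_isPullback (e : EquivalenceRelation p₁ p₂) :
    IsPullback p₁ p₂ (qmap p₁ p₂) (qmap p₁ p₂) := by
  refine IsPullback.of_forall_isPullback_app fun U => ?_
  rw [Types.isPullback_iff]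
  obtain ⟨inj, heq⟩ := equiv_sections p₁ p₂ e U
  refine ⟨by ext r; exact Quot.sound ⟨r, rfl, rfl⟩, fun r r' h => inj r r' h.1 h.2, fun a b h => ?_⟩
  exact heq.eqvGen_iff.1 (Quot.eqvGen_exact h)

lemma qmap_isPushout (e : EquivalenceRelation p₁ p₂) :
    IsPushout p₁ p₂ (qmap p₁ p₂) (qmap p₁ p₂) := by
  have w₀ : p₁ ≫ qmap p₁ p₂ = p₂ ≫ qmap p₁ p₂ := by
    ext U r; exact Quot.sound ⟨r, rfl, rfl⟩
  have hr : ∀ {T : Cᵒᵖ ⥤ Type w} (c : PushoutCocone p₁ p₂), c.inl = c.inr := fun c => by
    have := congrArg (e.r ≫ ·) c.condition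
    simp only [← Category.assoc, e.reflexivity₁,
      e.reflexivity₂] at this
    simpa using this
  refine ⟨⟨w₀⟩, ⟨PushoutCocone.IsColimit.mk _ (fun c => ?_) ?_ ?_ ?_⟩⟩
  · exact
      { app := fun U => ↾(Quot.lift (c.inl.app U) (by
          rintro a b ⟨r, rfl, rfl⟩
          have := congr(($c.condition).app U r)
          rw [hr (T := c.pt) c] at this ⊢
          exact this))
        naturality := fun U V f => by
          ext ⟨x⟩
          exact congr($(c.inl.naturality f) x) }
  · intro c; ext U x; rfl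
  · intro c; exact Eq.trans (by ext U x; rfl) (hr (T := c.pt) c)
  · intro c m hm _
    ext U ⟨x⟩
    exact congr(($hm).app U x)


/-- The case of the chaotic topology, i.e. for presheaves of sets on an arbitrary category: every
equivalence relation is universally effective (its quotient exists, the relation is the kernel pair
of the quotient map, and that map is a universal effective epimorphism). -/
theorem result (C : Type u₁) [Category.{v₁} C]
    {R X : Cᵒᵖ ⥤ Type w} (p₁ p₂ : R ⟶ X) [IsEquivalenceRelation p₁ p₂] :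
    IsUniversallyEffectiveEquivalenceRelation p₁ p₂ := by
  obtain ⟨e⟩ := IsEquivalenceRelation.nonempty_equivalenceRelation (p₁ := p₁) (p₂ := p₂)
  haveI : Epi (qmap p₁ p₂) := by
    haveI : ∀ V, Epi ((qmap p₁ p₂).app V) := fun V => (epi_iff_surjective _).2 Quot.mk_surjective
    exact NatTrans.epi_of_epi_app _
  refine ⟨⟨{ toEffectiveEquivalenceRelation :=
              { toEquivalenceRelation := e, B := _, π := qmap p₁ p₂,
                isKernelPair := qmap_isPullback p₁ p₂ e, isPushout := qmap_isPushout p₁ p₂ e }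
             universally_effectiveEpi_π := fun A' B' i j f' sq => ?_ }⟩⟩
  haveI : ∀ V, Epi (f'.app V) := fun V => (epi_iff_surjective _).2 fun t => by
    obtain ⟨x, hx⟩ := Quot.mk_surjective (j.app V t)
    obtain ⟨y, -, hy⟩ := Types.exists_of_isPullback (sq.flip.app V) x t hx
    exact ⟨y, hy⟩
  haveI := NatTrans.epi_of_epi_app f'
  exact (isRegularEpi_iff_effectiveEpi f').1 (IsRegularEpiCategory.regularEpiOfEpi f')

end Groth.Agent.S5216
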