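import Mathlib.Algebra.Category.ModuleCat.Presheaf.Abelian
import Mathlib.CategoryTheory.Abelian.Injective.Basic
import Groth.Agent.DCat.ModulesGrothendieck
import Mathlib.CategoryTheory.Abelian.GrothendieckCategory.EnoughInjectives

set_option autoImplicit false
namespace CategoryTheory
end CategoryTheory
open CategoryTheory
universe u
namespace ShfCat
end ShfCat
open ShfCat

namespace Groth.Agent.S5219

/-- For a small category `C` and a presheaf of rings `O` on it, the category of presheaves of
`O`-modules has enough injectives. (The published statement also asserts that `O` itself is a
generator; in general only the family of modules `O_S` induced on the objects `S` of `C` generates —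
for the category with one non-identity arrow a → b and a module vanishing at b, no direct sum of
copies of `O` maps onto it — and the row keeps the conclusion the argument establishes.) -/
theorem result (C : Type u) [SmallCategory C] (O : Cᵒᵖ ⥤ RingCat.{u}) :
    EnoughInjectives (PresheafOfModules.{u} O) := by
  haveI : IsGrothendieckAbelian.{u} (PresheafOfModules.{u} O) :=
    { hasFilteredColimitsOfSize := ⟨fun K _ _ => inferInstance⟩
      ab5OfSize := ⟨fun K _ _ => Groth.Agent.DCat.presheafOfModules_exactColimits O K⟩
      hasSeparator := ⟨_, (PresheafOfModules.freeYoneda.isSeparating O).isSeparator_coproduct⟩ }
  infer_instance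

end Groth.Agent.S5219
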