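import Groth.Statements.S5220
import Mathlib.CategoryTheory.EffectiveEpi.Basic

set_option autoImplicit false
open CategoryTheory CategoryTheory.Limits
universe w v₁ u₁
open GrpQ

namespace Groth.Agent.S5220

/-- In a category with pullbacks: let `d₀ d₁ : X₁ ⇉ X₀` admit a common section and let `f₀ : Y₀ ⟶ X₀` be
an effective epimorphism which is also a universal epimorphism. For the inverse-image pair `Y₁ :=
(Y₀ ×_{X₀,d₁} X₁) ×_{d₀,X₀} Y₀ ⇉ Y₀`, every morphism out of `Y₀` equalized by the two projections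
descends uniquely to a morphism out of `X₀` equalized by `d₀, d₁`. (Only the common section of the
groupoid structure is used.) -/
theorem result {C : Type u₁} [Category.{v₁} C] [HasPullbacks C]
    {X₁ X₀ Y₀ : C} (d₀ d₁ : X₁ ⟶ X₀) (s : X₀ ⟶ X₁) (hs₀ : s ≫ d₀ = 𝟙 X₀) (hs₁ : s ≫ d₁ = 𝟙 X₀)
    (f₀ : Y₀ ⟶ X₀) [EffectiveEpi f₀]
    (hf : MorphismProperty.universally (MorphismProperty.epimorphisms C) f₀)
    {T : C} (g : Y₀ ⟶ T)
    (hg : (pullback.fst (pullback.snd f₀ d₁ ≫ d₀) f₀ ≫ pullback.fst f₀ d₁) ≫ g =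
      pullback.snd (pullback.snd f₀ d₁ ≫ d₀) f₀ ≫ g) :
    ∃! h : X₀ ⟶ T, d₁ ≫ h = d₀ ≫ h ∧ f₀ ≫ h = g := by
  have hdesc : ∀ {W : C} (a b : W ⟶ Y₀), a ≫ f₀ = b ≫ f₀ → a ≫ g = b ≫ g := fun a b hab => by
    let y := pullback.lift (f := pullback.snd f₀ d₁ ≫ d₀) (g := f₀)
      (pullback.lift a (a ≫ f₀ ≫ s) (by rw [Category.assoc, Category.assoc, hs₁, Category.comp_id])) b
      (by rw [pullback.lift_snd_assoc, Category.assoc, Category.assoc, hs₀, Category.comp_id, hab])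
    have h := congrArg (y ≫ ·) hg
    simpa only [y, ← Category.assoc, pullback.lift_fst, pullback.lift_snd] using h
  let h := EffectiveEpi.desc f₀ g hdesc
  have hh : f₀ ≫ h = g := EffectiveEpi.fac f₀ g hdesc
  refine ⟨h, ⟨?_, hh⟩, fun h' h'' => (cancel_epi f₀).1 (h''.2.trans hh.symm)⟩
  have : Epi (pullback.snd f₀ d₁) := hf _ _ _ (IsPullback.of_hasPullback f₀ d₁).flip
  have : Epi (pullback.fst (pullback.snd f₀ d₁ ≫ d₀) f₀) := hf _ _ _ (IsPullback.of_hasPullback _ f₀)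
  rw [← cancel_epi (pullback.snd f₀ d₁), ← cancel_epi (pullback.fst (pullback.snd f₀ d₁ ≫ d₀) f₀),
    ← pullback.condition_assoc, hh, ← Category.assoc, hg, ← hh, ← Category.assoc (pullback.snd f₀ d₁),
    pullback.condition_assoc]

end Groth.Agent.S5220
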