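import Groth.Statements.S5221
import Groth.Agent.S5220

set_option autoImplicit false
open CategoryTheory CategoryTheory.Limits
universe w v₁ u₁
open GrpQ

namespace Groth.Agent.S5221

/-- Existence part: in a category with pullbacks: with `d₀ d₁ : X₁ ⇉ X₀` admitting a common section and
`f₀ : Y₀ ⟶ X₀` an effective and universal epimorphism, the pair `(d₀, d₁)` has a coequalizer if and
only if its inverse-image pair on `Y₀` has one. -/
theorem result {C : Type u₁} [Category.{v₁} C] [HasPullbacks C]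
    {X₁ X₀ Y₀ : C} (d₀ d₁ : X₁ ⟶ X₀) (s : X₀ ⟶ X₁) (hs₀ : s ≫ d₀ = 𝟙 X₀) (hs₁ : s ≫ d₁ = 𝟙 X₀)
    (f₀ : Y₀ ⟶ X₀) [EffectiveEpi f₀]
    (hf : MorphismProperty.universally (MorphismProperty.epimorphisms C) f₀) :
    HasCoequalizer d₁ d₀ ↔
      HasCoequalizer (pullback.fst (pullback.snd f₀ d₁ ≫ d₀) f₀ ≫ pullback.fst f₀ d₁)
        (pullback.snd (pullback.snd f₀ d₁ ≫ d₀) f₀) := by
  let p₁ := pullback.fst (pullback.snd f₀ d₁ ≫ d₀) f₀ ≫ pullback.fst f₀ d₁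
  let p₂ := pullback.snd (pullback.snd f₀ d₁ ≫ d₀) f₀
  have hcomm : ∀ {T : C} (h : X₀ ⟶ T), d₁ ≫ h = d₀ ≫ h → p₁ ≫ f₀ ≫ h = p₂ ≫ f₀ ≫ h := fun h hh => by
    simp only [p₁, p₂, Category.assoc]
    rw [pullback.condition_assoc, hh, ← Category.assoc (pullback.snd f₀ d₁), ← Category.assoc,
      pullback.condition, Category.assoc]
  have desc : ∀ {T : C} (g : Y₀ ⟶ T), p₁ ≫ g = p₂ ≫ g → ∃! h : X₀ ⟶ T, d₁ ≫ h = d₀ ≫ h ∧ f₀ ≫ h = g :=
    fun g hg => S5220.result d₀ d₁ s hs₀ hs₁ f₀ hf g hg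
  constructor <;> intro H
  · refine ⟨⟨⟨Cofork.ofπ (f₀ ≫ coequalizer.π d₁ d₀) (hcomm _ (coequalizer.condition _ _)),
      Cofork.IsColimit.mk' _ fun t => ?_⟩⟩⟩
    let h := (desc t.π t.condition).exists
    refine ⟨coequalizer.desc h.choose h.choose_spec.1, ?_, fun {m} hm => ?_⟩
    · show (f₀ ≫ coequalizer.π d₁ d₀) ≫ _ = _
      rw [Category.assoc, coequalizer.π_desc]
      exact h.choose_spec.2
    · refine coequalizer.hom_ext (f := d₁) (g := d₀) ?_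
      rw [coequalizer.π_desc, ← cancel_epi f₀, h.choose_spec.2, ← Category.assoc]
      exact hm
  · obtain ⟨h, hh₁, hh₂⟩ := (desc (coequalizer.π p₁ p₂) (coequalizer.condition _ _)).exists
    refine ⟨⟨⟨Cofork.ofπ h hh₁, Cofork.IsColimit.mk' _ fun t => ?_⟩⟩⟩
    refine ⟨coequalizer.desc (f₀ ≫ t.π) (hcomm _ t.condition), ?_, fun {m} hm => ?_⟩
    · show h ≫ _ = _
      rw [← cancel_epi f₀, ← Category.assoc, hh₂, coequalizer.π_desc]
    · refine coequalizer.hom_ext (f := p₁) (g := p₂) ?_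
      rw [coequalizer.π_desc, ← hh₂, Category.assoc]
      exact congrArg (f₀ ≫ ·) hm

end Groth.Agent.S5221
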