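import Groth.Statements.S5222
import Mathlib.CategoryTheory.Monoidal.Cartesian.Grp

set_option autoImplicit false
open CategoryTheory CategoryTheory.Limits MonoidalCategory
universe v₁ u₁
open DescCat

namespace Groth.Agent.S5222

open MonObj CartesianMonoidalCategory SemiCartesianMonoidalCategory in
/-- In a cartesian monoidal category with pullbacks: for a homomorphism `f : G ⟶ G'` of group objects
with kernel `K = G ×_{G'} e`, the pair `G × K ⇉ G` given by the projection and by multiplication is
the kernel pair of `f`. -/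
theorem result {C : Type u₁} [Category.{v₁} C]
    [CartesianMonoidalCategory C] [HasPullbacks C]
    {G G' : C} [GrpObj G] [GrpObj G'] (f : G ⟶ G') [IsMonHom f] :
    IsKernelPair f (fst G (pullback f η[G']))
      ((G ◁ pullback.fst f η[G']) ≫ μ[G]) := by
  have hf : ∀ {W : C} (a b : W ⟶ G), (a * b) ≫ f = (a ≫ f) * (b ≫ f) := fun a b => MonObj.mul_comp a b f
  have hk : pullback.fst f η[G'] ≫ f = 1 := by
    rw [pullback.condition, Hom.one_def]
    congr 1
    exact toUnit_unique _ _
  have hmu : (G ◁ pullback.fst f η[G']) ≫ μ[G] = fst G (pullback f η[G']) * (snd G (pullback f η[G']) ≫ pullback.fst f η[G']) := by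
    rw [Hom.mul_def]; congr 1; apply CartesianMonoidalCategory.hom_ext <;> simp
  rw [hmu]
  have hw : fst G (pullback f η[G']) ≫ f = (fst G (pullback f η[G']) * (snd G (pullback f η[G']) ≫ pullback.fst f η[G'])) ≫ f := by
    rw [hf, Category.assoc, hk, MonObj.comp_one, _root_.mul_one]
  have hr : ∀ s : PullbackCone f f, ((s.fst⁻¹ * s.snd : s.pt ⟶ G)) ≫ f = toUnit _ ≫ η[G'] := fun s => by
    rw [← Hom.one_def, hf, ← s.condition, ← hf, inv_mul_cancel, MonObj.one_comp]
  refine IsPullback.of_isLimit' ⟨hw⟩ (PullbackCone.IsLimit.mk _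
    (fun s => CartesianMonoidalCategory.lift s.fst (pullback.lift (s.fst⁻¹ * s.snd) (toUnit _) (hr s)))
    (fun s => lift_fst _ _) (fun s => ?_) fun s m h1 h2 => ?_)
  · rw [MonObj.comp_mul, lift_fst, lift_snd_assoc, pullback.lift_fst, mul_inv_cancel_left]
  · apply CartesianMonoidalCategory.hom_ext
    · rw [lift_fst, h1]
    · rw [lift_snd]
      apply pullback.hom_ext
      · rw [pullback.lift_fst, ← h1, ← h2, MonObj.comp_mul, inv_mul_cancel_left, Category.assoc]
      · exact toUnit_unique _ _

end Groth.Agent.S5222
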