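import Groth.Statements.S5223
import Groth.Agent.FlatLocal.FlatBaseChangeAt

set_option autoImplicit false
open CategoryTheory CategoryTheory.Limits AlgebraicGeometry
universe u
open GrpQ

namespace Groth.Agent.S5223

/-- In a cartesian square of schemes `F₂ = F₁ ×_{X₀} X₁` whose bottom map `u : X₁ ⟶ X₀` is flat, the
base-changed map `d' : F₂ ⟶ X₁` is flat at a point `x` if and only if `d : F₁ ⟶ X₀` is flat at the
image of `x` in `F₁`. -/
theorem result {F₂ F₁ X₁ X₀ : Scheme.{u}}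
    {v : F₂ ⟶ F₁} {d' : F₂ ⟶ X₁} {d : F₁ ⟶ X₀} {u : X₁ ⟶ X₀}
    (h : IsPullback v d' d u) [Flat u] (x : F₂) :
    (d'.stalkMap x).hom.Flat ↔ (d.stalkMap (v.base x)).hom.Flat := by
  have hu : ∀ z, (u.stalkMap z).hom.Flat := (Flat.iff_flat_stalkMap u).1 inferInstance
  have hiso : ∀ {A B : Scheme.{u}} (e : A ⟶ B) [IsIso e] (a : A), (e.stalkMap a).hom.Flat := fun e _ a =>
    RingHom.Flat.of_bijective (ConcreteCategory.bijective_of_isIso (e.stalkMap a))
  have key : ∀ {A B Z : Scheme.{u}} (e : A ⟶ B) [IsIso e] (g : B ⟶ Z) (k : A ⟶ Z), k = e ≫ g → ∀ a,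
      (k.stalkMap a).hom.Flat ↔ (g.stalkMap (e a)).hom.Flat := by
    rintro A B Z e _ g k rfl a
    exact Desc19b.flat_stalkMap_comp_iff e g a (hiso e a)
  let e := h.isoPullback.hom
  have hv : v = e ≫ pullback.fst d u := h.isoPullback_hom_fst.symm
  have hd' : d' = e ≫ pullback.snd d u := h.isoPullback_hom_snd.symm
  have hvx : v.base x = pullback.fst d u (e x) := by rw [hv]; rfl
  rw [key e _ d' hd' x, hvx]
  refine ⟨FlatLocal.flat_stalkMap_of_baseChange d u (e x) (hu _), fun hd => ?_⟩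
  have hσ : pullback.snd d u = (pullbackSymmetry d u).hom ≫ pullback.fst u d :=
    (pullbackSymmetry_hom_comp_fst d u).symm
  rw [key _ _ _ hσ (e x)]
  refine FlatLocal.flat_stalkMap_fst u d _ ?_
  rw [show pullback.snd u d ((pullbackSymmetry d u).hom (e x)) = pullback.fst d u (e x) by
    rw [← Scheme.Hom.comp_apply, pullbackSymmetry_hom_comp_snd]]
  exact hd

end Groth.Agent.S5223
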