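import Groth.Statements.S5224
import Groth.Agent.GrpdLib.FppfQuot
import Groth.Agent.AlgSpLib.FppfLocal

set_option autoImplicit false
open CategoryTheory CategoryTheory.Limits AlgebraicGeometry
universe u
open GrpQ

namespace Groth.Agent.S5224

set_option backward.isDefEq.respectTransparency.types false
set_option maxHeartbeats 800000

/-- For the fppf topology: let `s, t : R ⇉ U` be an equivalence relation of schemes over `S` with `s`
faithfully flat and locally of finite presentation. A morphism `q : U ⟶ Y` over `S` is a faithfully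
flat, locally finitely presented quotient with kernel pair `R` if and only if `q` identifies `h_Y`
with the fppf quotient sheaf `U/R`. -/
theorem result {S : Scheme.{u}} {R U Y : Over S} (s t : R ⟶ U)
    [IsEquivalenceRelation s t]
    [Flat s.left] [Surjective s.left] [LocallyOfFinitePresentation s.left]
    (q : U ⟶ Y) :
    (IsKernelPair q s t ∧ Flat q.left ∧ Surjective q.left ∧ LocallyOfFinitePresentation q.left) ↔
      QuotSh.IsQuotient Scheme.fppfPrecoverage s t q := by
  open Groth.Agent.AlgSpLib AlgSp in
  constructor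
  · rintro ⟨hk, h1, h2, h3⟩
    exact Groth.Agent.GrpdLib.isQuotient_of_isPullback s t q hk.flip
  · rintro ⟨w, hiso⟩
    obtain ⟨E⟩ := IsEquivalenceRelation.nonempty_equivalenceRelation (p₁ := s) (p₂ := t)
    have hσσ : E.s ≫ E.s = 𝟙 R := E.right_cancellation _ _
      (by rw [Category.assoc, E.symmetry₁, E.symmetry₂, Category.id_comp])
      (by rw [Category.assoc, E.symmetry₂, E.symmetry₁, Category.id_comp])
    have : IsIso E.s := ⟨E.s, hσσ, hσσ⟩
    have : LocallyOfFiniteType t.left := by
      have : IsIso E.s.left := inferInstanceAs (IsIso ((Over.forget S).map E.s))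
      rw [← E.symmetry₁, Over.comp_left]; infer_instance
    have h : IsEqvRel s t := by
      refine ⟨fun T r r' e1 e2 => E.right_cancellation r r' e2 e1, fun T => ⟨fun a => ?_, ?_, ?_⟩⟩
      · exact ⟨a ≫ E.r, by rw [Category.assoc, E.reflexivity₂, Category.comp_id],
          by rw [Category.assoc, E.reflexivity₁, Category.comp_id]⟩
      · rintro a b ⟨r, rfl, rfl⟩
        exact ⟨r ≫ E.s, by rw [Category.assoc, E.symmetry₂], by rw [Category.assoc, E.symmetry₁]⟩
      · rintro a b d ⟨r₁, rfl, h₁⟩ ⟨r₂, h₂, rfl⟩
        refine ⟨PullbackCone.IsLimit.lift E.isLimit r₂ r₁ (h₂.trans h₁.symm) ≫ E.t, ?_, ?_⟩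
        · rw [Category.assoc, E.transitivity₂, ← Category.assoc, PullbackCone.IsLimit.lift_snd]
        · rw [Category.assoc, E.transitivity₁, ← Category.assoc, PullbackCone.IsLimit.lift_fst]
    let π := quotSpπ ((yon S).map s) ((yon S).map t)
    obtain ⟨e, he⟩ := exists_iso_quot s t
    let eM := QuotSh.repIsoUliftYoneda Scheme.fppfPrecoverage Y
    let eU := QuotSh.repIsoUliftYoneda Scheme.fppfPrecoverage U
    let ε := e.hom ≫ QuotSh.quotDesc Scheme.fppfPrecoverage q w ≫ eM.hom
    have hε : π ≫ ε = (yon S).map q := by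
      rw [← Category.assoc, he, Category.assoc, ← Category.assoc (QuotSh.quotπ _ s t)]
      rw [show QuotSh.quotπ Scheme.fppfPrecoverage s t ≫ QuotSh.quotDesc Scheme.fppfPrecoverage q w =
        QuotSh.repMap Scheme.fppfPrecoverage q from coequalizer.π_desc _ _, repMap_comp_repIso,
        Iso.inv_hom_id_assoc]
    have sqK := isPullback_quotSpπ (isEqvRelSp_yon h)
    have hP : ∀ (P : MorphismProperty Scheme.{u}) [P.IsStableUnderBaseChange], RepWith P π → P q.left := by
      intro P _ hP
      refine (repWith_yon_map_iff P q).1 (MorphismProperty.RespectsIso.postcomp _ ε π hP |> fun x => ?_)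
      rwa [hε] at x
    refine ⟨?_, ?_, hP _ (repWith_surjective_quotSpπ h), ?_⟩
    · refine IsPullback.of_map_of_faithful (yon S) ?_
      rw [← hε]
      exact sqK.flip.of_iso (Iso.refl _) (Iso.refl _) (Iso.refl _) (asIso ε) (by simp) (by simp) (by simp [π]) (by simp [π])
    · have := etLocal_flat.{u}.localTarget
      exact hP _ (repWith_quotSpπ h @Flat ‹_›)
    · have := etLocal_lfp.{u}.localTarget
      exact hP _ (repWith_quotSpπ h @LocallyOfFinitePresentation ‹_›)

end Groth.Agent.S5224
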