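import Groth.Statements.S5225
import Groth.Agent.GrpdLib.EpiQuot
import Groth.Agent.GrpdLib.EpiQuotMono
import Groth.Agent.S5224
import Mathlib.AlgebraicGeometry.Morphisms.LocalFlatDescent

set_option autoImplicit false
open CategoryTheory CategoryTheory.Limits AlgebraicGeometry
universe u
open GrpQ

namespace Groth.Agent.S5225

set_option backward.isDefEq.respectTransparency.types false

/-- For the étale topology: let `s, t : R ⇉ U` be an equivalence relation of schemes over `S` with `s`
étale and surjective. A morphism `q : U ⟶ Y` over `S` is an étale surjective quotient with kernel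
pair `R` if and only if `q` identifies `h_Y` with the étale quotient sheaf `U/R`. -/
theorem result {S : Scheme.{u}} {R U Y : Over S} (s t : R ⟶ U)
    [IsEquivalenceRelation s t] [Etale s.left] [Surjective s.left]
    (q : U ⟶ Y) :
    (IsKernelPair q s t ∧ Etale q.left ∧ Surjective q.left) ↔
      QuotSh.IsQuotient Scheme.etalePrecoverage s t q := by
  constructor
  · rintro ⟨hk, _, _⟩
    haveI : Scheme.etalePrecoverage.{u}.IsStableUnderBaseChange :=
      inferInstanceAs (Scheme.precoverage @Etale).IsStableUnderBaseChange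
    haveI : Epi (QuotSh.repMap Scheme.etalePrecoverage q) := Groth.Agent.GrpdLib.EpiQuot.epi_repMap_of_cover q (by
      rw [← Presieve.ofArrows_pUnit.{0}]
      exact (q.left.cover (P := @Etale) ‹_›).mem₀)
    exact Groth.Agent.GrpdLib.EpiQuot.isQuotient_of_epi s t q hk.w hk.flip (𝟙 R) (Category.id_comp _) (Category.id_comp _)
      ‹_› (inferInstanceAs (Epi ((Groth.Agent.GrpdLib.EpiQuot.repFunctor _ S).map (𝟙 R))))
  · intro h
    have hle : Scheme.etalePrecoverage.{u}.toGrothendieck ≤ Scheme.fppfTopology.{u} :=
      Precoverage.toGrothendieck_mono (Scheme.precoverage_mono fun X Y f (hf : Etale f) => ⟨inferInstance, inferInstance⟩)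
    have h' := Groth.Agent.GrpdLib.EpiQuotMono.isQuotient_of_le hle s t q h
    obtain ⟨hk, hflat, hsurj, hlfp⟩ := (Groth.Agent.S5224.result s t q).2 h'
    refine ⟨hk, ?_, hsurj⟩
    exact MorphismProperty.of_isPullback_of_descendsAlong (P := @Etale)
      (Q := @Surjective ⊓ @Flat ⊓ @LocallyOfFinitePresentation)
      (hk.map (Over.forget S)) ⟨⟨hsurj, hflat⟩, hlfp⟩ ‹Etale s.left›

end Groth.Agent.S5225
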