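import Mathlib.CategoryTheory.EquivalenceRelation
import Mathlib.CategoryTheory.Sites.Sheafification
import Mathlib.CategoryTheory.Sites.Limits
import Mathlib.CategoryTheory.Limits.Shapes.Equalizers
import Groth.Agent.ShfCat16.Basic

set_option autoImplicit false
namespace CategoryTheory
end CategoryTheory
namespace CategoryTheory.Limits
end CategoryTheory.Limits
open CategoryTheory CategoryTheory.Limits
universe w v₁ u₁
namespace ShfCat
end ShfCat
open ShfCat

namespace Groth.Agent.S5226

/-- For sheaves of sets on a site with sheafification: if `R ⇉ X` is an equivalence relation with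
(universally effective) quotient `X/R` and `Y ⊆ X` is a subsheaf with induced relation `R_Y`, then
the canonical map `Y/R_Y ⟶ X/R` is a monomorphism. Here `R_Y` is built as the iterated pullback of
`R` along `Y ⟶ X` on both sides. -/
theorem result {C : Type u₁} [Category.{v₁} C]
    (J : GrothendieckTopology C) [HasSheafify J (Type w)]
    {R X Y : Sheaf J (Type w)} {p₁ p₂ : R ⟶ X} (e : UniversallyEffectiveEquivalenceRelation p₁ p₂)
    (ι : Y ⟶ X) [Mono ι]
    [HasCoequalizer (pullback.fst (pullback.fst p₁ ι ≫ p₂) ι ≫ pullback.snd p₁ ι)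
      (pullback.snd (pullback.fst p₁ ι ≫ p₂) ι)]
    (g : coequalizer (pullback.fst (pullback.fst p₁ ι ≫ p₂) ι ≫ pullback.snd p₁ ι)
      (pullback.snd (pullback.fst p₁ ι ≫ p₂) ι) ⟶ e.B)
    (hg : coequalizer.π _ _ ≫ g = ι ≫ e.π) :
    Mono g := by
  refine Groth.Agent.ShfCat16.mono_of_cover (coequalizer.π _ _) g fun W a b hab => ?_
  rw [hg, ← Category.assoc, ← Category.assoc] at hab
  let r := e.isKernelPair.lift (a ≫ ι) (b ≫ ι) hab
  let r₁ : W ⟶ pullback p₁ ι := pullback.lift r a (e.isKernelPair.lift_fst _ _ hab)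
  have h2 : (r₁ ≫ pullback.fst p₁ ι ≫ p₂) = b ≫ ι := by
    rw [← Category.assoc, pullback.lift_fst]; exact e.isKernelPair.lift_snd _ _ hab
  let r₂ : W ⟶ pullback (pullback.fst p₁ ι ≫ p₂) ι := pullback.lift r₁ b h2
  have hc := r₂ ≫= coequalizer.condition (pullback.fst (pullback.fst p₁ ι ≫ p₂) ι ≫ pullback.snd p₁ ι)
      (pullback.snd (pullback.fst p₁ ι ≫ p₂) ι)
  rw [← Category.assoc, ← Category.assoc, ← Category.assoc r₂, pullback.lift_fst, pullback.lift_snd,
    pullback.lift_snd] at hc
  exact hc

end Groth.Agent.S5226
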