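import Mathlib.CategoryTheory.EquivalenceRelation
import Mathlib.CategoryTheory.Sites.Sheafification
import Mathlib.CategoryTheory.Sites.Limits
import Mathlib.CategoryTheory.Subobject.Basic
import Groth.Agent.ShfCat16.Basic

set_option autoImplicit false
namespace CategoryTheory
end CategoryTheory
namespace CategoryTheory.Limits
end CategoryTheory.Limits
open CategoryTheory CategoryTheory.Limits
universe w v₁ u₁
namespace ShfCat
end ShfCat
open ShfCat

namespace Groth.Agent.S5227

/-- For sheaves of sets on a site with sheafification: for an equivalence relation `R ⇉ X` with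
(universally effective) quotient `π : X ⟶ X/R`, inverse image along `π` is a bijection from the
subsheaves of `X/R` onto the subsheaves of `X` stable under `R` (those whose two inverse images in
`R` agree). -/
theorem result {C : Type u₁} [Category.{v₁} C]
    (J : GrothendieckTopology C) [HasSheafify J (Type w)]
    {R X : Sheaf J (Type w)} {p₁ p₂ : R ⟶ X} (e : UniversallyEffectiveEquivalenceRelation p₁ p₂) :
    Function.Injective (Subobject.pullback e.π).obj ∧
      Set.range (Subobject.pullback e.π).obj =
        {Y : Subobject X | (Subobject.pullback p₁).obj Y = (Subobject.pullback p₂).obj Y} := by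
  haveI := Groth.Agent.ShfCat16.uee_epi e
  refine ⟨Groth.Agent.ShfCat16.pullback_injective e.π, ?_⟩
  ext Y
  constructor
  · rintro ⟨K, rfl⟩
    show (Subobject.pullback p₁).obj _ = (Subobject.pullback p₂).obj _
    rw [← Subobject.pullback_comp, ← Subobject.pullback_comp]
    exact congrArg (fun f => (Subobject.pullback f).obj K) e.isKernelPair.w
  · intro hY
    obtain ⟨K, hK⟩ := Groth.Agent.ShfCat16.exists_eq_pullback e.π Y (fun W y x hyx hy => by
      have h1 := (Groth.Agent.ShfCat16.mem_pullback_iff p₁ Y (e.isKernelPair.lift y x hyx)).2
        (by rw [e.isKernelPair.lift_fst]; exact hy)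
      rw [show (Subobject.pullback p₁).obj Y = (Subobject.pullback p₂).obj Y from hY,
        Groth.Agent.ShfCat16.mem_pullback_iff, e.isKernelPair.lift_snd] at h1
      exact h1)
    exact ⟨K, hK⟩

end Groth.Agent.S5227
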