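import Groth.Statements.S5228
import Groth.Agent.HopfLib.ReductiveExtra
import Mathlib.RingTheory.HopfAlgebra.MonoidAlgebra

set_option autoImplicit false
universe w u
open HopfRep

namespace Groth.Agent.S5228

/-- Over an affine base, in comodule form: for a representation `V` of a diagonalizable group `D(M)`
over a commutative ring `k` (a `k[M]`-comodule), every sub-representation which is a direct summand
as a `k`-module is a direct summand as a representation. (The published statement: a short exact
sequence of quasi-coherent `D(M)`-modules that splits as a sequence of modules splits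
equivariantly.) -/
theorem result {k : Type u} [CommRing k] {M : Type u} [CommGroup M]
    (V : Type w) [AddCommGroup V] [Module k V] [HopfRep.Comod k (MonoidAlgebra k M) V]
    (W : Submodule k V) (hW : HopfRep.IsSubcomod (k := k) (A := MonoidAlgebra k M) W)
    (hsplit : ∃ W' : Submodule k V, IsCompl W W') :
    ∃ W'' : Submodule k V, HopfRep.IsSubcomod (k := k) (A := MonoidAlgebra k M) W'' ∧ IsCompl W W'' := by
  classical
  let α : MonoidAlgebra k M →ₗ[k] k :=
    (Finsupp.lapply (1 : M)).comp (MonoidAlgebra.coeffLinearEquiv k).toLinearMap
  refine Groth.Agent.HopfLib.exists_isCompl_subcomod (α := α) (fun a => ?_) ?_ hW hsplit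
  · induction a using MonoidAlgebra.induction_linear with
    | zero => simp
    | add f g hf hg => simp only [map_add, add_smul, hf, hg]
    | single m r =>
      rw [MonoidAlgebra.comul_single, CommSemiring.comul_apply, TensorProduct.map_tmul,
        Groth.Agent.HopfLib.sliceL_tmul]
      by_cases h : m = 1
      · subst h
        simp [α, MonoidAlgebra.one_def, MonoidAlgebra.smul_single]
      · simp [α, h]
  · simp [α, MonoidAlgebra.one_def]

end Groth.Agent.S5228
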