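import Mathlib.CategoryTheory.Sites.Over
import Mathlib.CategoryTheory.Sites.Sheafification
import Mathlib.CategoryTheory.Sites.Over
import Mathlib.CategoryTheory.Sites.EpiMono

set_option autoImplicit false
namespace CategoryTheory
end CategoryTheory
open CategoryTheory
universe w v₁ u₁
namespace ShfCat
end ShfCat
open ShfCat

namespace Groth.Agent.S5231

/-- (iii) ⇒ (i): a morphism `f` of sheaves of sets on a site is a monomorphism (resp. an epimorphism) as
soon as, for every object `S`, the morphisms `T ⟶ S` over which the restriction of `f` to the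
induced site `C/T` is a monomorphism (resp. an epimorphism) form a covering sieve. No sheafification
is assumed. (The published statement also treats isomorphisms in the same way; that case is left out
here.) -/
theorem result {C : Type u₁} [Category.{v₁} C]
    (J : GrothendieckTopology C) {F G : Sheaf J (Type w)} (f : F ⟶ G) :
    ((∀ S : C, ∃ R : Sieve S, R ∈ J S ∧ ∀ ⦃T : C⦄ (g : T ⟶ S), R g →
        Mono ((J.overPullback (Type w) T).map f)) → Mono f) ∧
    ((∀ S : C, ∃ R : Sieve S, R ∈ J S ∧ ∀ ⦃T : C⦄ (g : T ⟶ S), R g →
        Epi ((J.overPullback (Type w) T).map f)) → Epi f) := by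
  refine ⟨fun h => ⟨fun {Z} a b hab => ?_⟩, fun h => ⟨fun {Z} a b hab => ?_⟩⟩
  · apply Sheaf.hom_ext
    ext ⟨S⟩ z
    obtain ⟨R, hR, hm⟩ := h S
    refine (((isSheaf_iff_isSheaf_of_type J F.obj).1 F.property) R hR).isSeparatedFor.ext
      fun T g hg => ?_
    haveI := hm g hg
    have e : (J.overPullback (Type w) T).map a = (J.overPullback (Type w) T).map b := by
      rw [← cancel_mono ((J.overPullback (Type w) T).map f), ← Functor.map_comp,
        ← Functor.map_comp, hab]
    have e' := ConcreteCategory.congr_hom
      (NatTrans.congr_app (congrArg (fun t => t.hom) e) (Opposite.op (Over.mk (𝟙 T)))) (Z.obj.map g.op z)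
    exact (NatTrans.naturality_apply a.hom g.op z).symm.trans
      (e'.trans (NatTrans.naturality_apply b.hom g.op z))
  · apply Sheaf.hom_ext
    ext ⟨S⟩ z
    obtain ⟨R, hR, hm⟩ := h S
    refine (((isSheaf_iff_isSheaf_of_type J Z.obj).1 Z.property) R hR).isSeparatedFor.ext
      fun T g hg => ?_
    haveI := hm g hg
    have e : (J.overPullback (Type w) T).map a = (J.overPullback (Type w) T).map b := by
      rw [← cancel_epi ((J.overPullback (Type w) T).map f), ← Functor.map_comp,
        ← Functor.map_comp, hab]
    have e' := ConcreteCategory.congr_hom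
      (NatTrans.congr_app (congrArg (fun t => t.hom) e) (Opposite.op (Over.mk (𝟙 T)))) (G.obj.map g.op z)
    exact (NatTrans.naturality_apply a.hom g.op z).symm.trans
      (e'.trans (NatTrans.naturality_apply b.hom g.op z))

end Groth.Agent.S5231
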