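import Groth.Statements.S5232
import Groth.Agent.GrpdLib.RepHom
import Groth.Agent.Desc19b.EffAffine
import Groth.Agent.Et18.Descent
import Mathlib.AlgebraicGeometry.Morphisms.LocalFlatDescent

set_option autoImplicit false
open CategoryTheory CategoryTheory.Limits AlgebraicGeometry
universe u
open GrpQ

namespace Groth.Agent.S5232

set_option backward.isDefEq.respectTransparency.types false

open Groth.Agent.GrpdLib

section

variable {S : Scheme.{u}} {S' : Scheme.{u}} (f : S' ⟶ S)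
    {Z : QuotSh.Sh Scheme.fppfPrecoverage S} {T' : Over S} (a : T' ⟶ Over.mk f)
    (φ : QuotSh.rep Scheme.fppfPrecoverage T' ≅ Z ⨯ QuotSh.rep Scheme.fppfPrecoverage (Over.mk f))

/-- The section of `Z` attached to a point of `T'`. -/
noncomputable def toZ {V : Over S} (v : V ⟶ T') : QuotSh.rep Scheme.fppfPrecoverage V ⟶ Z :=
  QuotSh.repMap Scheme.fppfPrecoverage v ≫ φ.hom ≫ prod.fst

theorem toZ_comp {V V' : Over S} (g : V' ⟶ V) (v : V ⟶ T') :
    toZ f φ (g ≫ v) = QuotSh.repMap Scheme.fppfPrecoverage g ≫ toZ f φ v := by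
  have e : QuotSh.repMap Scheme.fppfPrecoverage (g ≫ v) =
      QuotSh.repMap Scheme.fppfPrecoverage g ≫ QuotSh.repMap Scheme.fppfPrecoverage v :=
    (RepHom.rp S).map_comp g v
  rw [toZ, e, Category.assoc]
  rfl

variable (hφ : φ.hom ≫ prod.snd = QuotSh.repMap Scheme.fppfPrecoverage a)

include hφ in
theorem toZ_inj {V : Over S} (v w : V ⟶ T') (h1 : v ≫ a = w ≫ a) (h2 : toZ f φ v = toZ f φ w) : v = w := by
  apply RepHom.repMap_injective
  rw [← cancel_mono φ.hom]
  apply prod.hom_ext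
  · simpa [toZ] using h2
  · rw [Category.assoc, Category.assoc, hφ]
    exact ((RepHom.rp S).map_comp v a).symm.trans ((congrArg (RepHom.rp S).map h1).trans ((RepHom.rp S).map_comp w a))

include hφ in
theorem exists_toZ {V : Over S} (x : V ⟶ Over.mk f) (z : QuotSh.rep Scheme.fppfPrecoverage V ⟶ Z) :
    ∃ v : V ⟶ T', v ≫ a = x ∧ toZ f φ v = z := by
  obtain ⟨v, hv⟩ := RepHom.exists_repMap_eq (prod.lift z (QuotSh.repMap Scheme.fppfPrecoverage x) ≫ φ.inv)
  refine ⟨v, RepHom.repMap_injective ?_, ?_⟩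
  · refine ((RepHom.rp S).map_comp v a).trans ?_
    show QuotSh.repMap Scheme.fppfPrecoverage v ≫ QuotSh.repMap Scheme.fppfPrecoverage a = _
    rw [← hφ, hv, Category.assoc, Iso.inv_hom_id_assoc, prod.lift_snd]
  · rw [toZ, hv, Category.assoc, Iso.inv_hom_id_assoc, prod.lift_fst]

/-- Two points of `T'` over the same point of `S` have the same section of `Z`. -/
def Rel {W : Scheme.{u}} (v w : W ⟶ T'.left) : Prop :=
  v ≫ T'.hom = w ≫ T'.hom ∧ ∀ (p : W ⟶ S) (hv : v ≫ T'.hom = p) (hw : w ≫ T'.hom = p),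
    toZ f φ (Over.homMk v hv : Over.mk p ⟶ T') = toZ f φ (Over.homMk w hw : Over.mk p ⟶ T')

theorem Rel.symm {W : Scheme.{u}} {v w : W ⟶ T'.left} (h : Rel f φ v w) : Rel f φ w v :=
  ⟨h.1.symm, fun p hw hv => (h.2 p hv hw).symm⟩

theorem Rel.trans {W : Scheme.{u}} {v w x : W ⟶ T'.left} (h : Rel f φ v w) (h' : Rel f φ w x) : Rel f φ v x :=
  ⟨h.1.trans h'.1, fun p hv hx => (h.2 p hv (h.1.symm.trans hv)).trans (h'.2 p (h.1.symm.trans hv) hx)⟩

theorem Rel.comp {W W' : Scheme.{u}} (g : W' ⟶ W) {v w : W ⟶ T'.left} (h : Rel f φ v w) :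
    Rel f φ (g ≫ v) (g ≫ w) := by
  refine ⟨by rw [Category.assoc, Category.assoc, h.1], fun p hv hw => ?_⟩
  have hg : g ≫ (Over.mk (v ≫ T'.hom)).hom = (Over.mk p).hom := (Category.assoc _ _ _).symm.trans hv
  let g' : Over.mk p ⟶ Over.mk (v ≫ T'.hom) := Over.homMk g hg
  have e1 : (Over.homMk (g ≫ v) hv : Over.mk p ⟶ T') = g' ≫ Over.homMk v rfl := Over.OverMorphism.ext rfl
  have e2 : (Over.homMk (g ≫ w) hw : Over.mk p ⟶ T') = g' ≫ Over.homMk w h.1.symm := Over.OverMorphism.ext rfl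
  rw [e1, e2, toZ_comp, toZ_comp, h.2 (v ≫ T'.hom) rfl h.1.symm]

theorem rel_of_toZ {V : Over S} {v w : V ⟶ T'} (h : toZ f φ v = toZ f φ w) : Rel f φ v.left w.left := by
  refine ⟨(Over.w v).trans (Over.w w).symm, fun p hv hw => ?_⟩
  have hp : V.hom = p := (Over.w v).symm.trans hv
  subst hp
  exact h

theorem toZ_of_rel {V : Over S} {v w : V ⟶ T'} (h : Rel f φ v.left w.left) : toZ f φ v = toZ f φ w :=
  h.2 V.hom (Over.w v) (Over.w w)

include hφ in
theorem existsUnique_rel {W : Scheme.{u}} (x₀ x₁ : W ⟶ S') (h : x₀ ≫ f = x₁ ≫ f)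
    (v : Desc.Lifts (Over.mk a.left) x₀) :
    ∃! w : Desc.Lifts (Over.mk a.left) x₁, Rel f φ v.1 w.1 := by
  have hv : v.1 ≫ a.left = x₀ := v.2
  let V : Over S := Over.mk (x₁ ≫ f)
  have hvT : v.1 ≫ T'.hom = x₁ ≫ f := by
    rw [← Over.w a, ← Category.assoc]
    exact (congrArg (· ≫ f) hv).trans h
  let v' : V ⟶ T' := Over.homMk v.1 hvT
  obtain ⟨w, hw1, hw2⟩ := exists_toZ f a φ hφ (V := V) (Over.homMk x₁ rfl) (toZ f φ v')
  refine ⟨⟨w.left, congrArg CommaMorphism.left hw1⟩, rel_of_toZ f φ (v := v') (w := w) hw2.symm, fun w' hw' => ?_⟩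
  have hw'a : w'.1 ≫ a.left = x₁ := w'.2
  have hw'T : w'.1 ≫ T'.hom = V.hom := hw'.1.symm.trans hvT
  let w'' : V ⟶ T' := Over.homMk w'.1 hw'T
  have : w'' = w := by
    refine toZ_inj f a φ hφ _ _ (Over.OverMorphism.ext ?_) ?_
    · exact hw'a.trans (congrArg CommaMorphism.left hw1).symm
    · rw [hw2]; exact (toZ_of_rel f φ (v := v') (w := w'') hw').symm
  exact Subtype.ext (congrArg CommaMorphism.left this)

/-- The gluing map. -/
noncomputable def glue {W : Scheme.{u}} (x₀ x₁ : W ⟶ S') (h : x₀ ≫ f = x₁ ≫ f)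
    (v : Desc.Lifts (Over.mk a.left) x₀) : Desc.Lifts (Over.mk a.left) x₁ :=
  (existsUnique_rel f a φ hφ x₀ x₁ h v).choose

theorem rel_glue {W : Scheme.{u}} (x₀ x₁ : W ⟶ S') (h : x₀ ≫ f = x₁ ≫ f)
    (v : Desc.Lifts (Over.mk a.left) x₀) : Rel f φ v.1 (glue f a φ hφ x₀ x₁ h v).1 :=
  (existsUnique_rel f a φ hφ x₀ x₁ h v).choose_spec.1

theorem eq_glue {W : Scheme.{u}} {x₀ x₁ : W ⟶ S'} (h : x₀ ≫ f = x₁ ≫ f)
    {v : Desc.Lifts (Over.mk a.left) x₀} {w : Desc.Lifts (Over.mk a.left) x₁} (hw : Rel f φ v.1 w.1) :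
    glue f a φ hφ x₀ x₁ h v = w :=
  ((existsUnique_rel f a φ hφ x₀ x₁ h v).choose_spec.2 w hw).symm

/-- The descent datum on `T'`. -/
noncomputable def datum : Desc.SchDDFam (fun _ : PUnit.{u + 1} => f) where
  obj _ := Over.mk a.left
  φ W i j x₀ x₁ h :=
    { toFun := glue f a φ hφ x₀ x₁ h
      invFun := glue f a φ hφ x₁ x₀ h.symm
      left_inv := fun v => eq_glue f a φ hφ _ (rel_glue f a φ hφ x₀ x₁ h v).symm
      right_inv := fun v => eq_glue f a φ hφ _ (rel_glue f a φ hφ x₁ x₀ h.symm v).symm }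
  φ_natural W W' g i j x₀ x₁ h y₀ y₁ hy₀ hy₁ h' v v' hv' := by
    subst hy₀ hy₁
    have hv1 : (glue f a φ hφ x₀ x₁ h v).1 ≫ a.left = x₁ := (glue f a φ hφ x₀ x₁ h v).2
    have := eq_glue f a φ hφ h' (v := v')
      (w := ⟨g ≫ (glue f a φ hφ x₀ x₁ h v).1, by
        show (g ≫ (glue f a φ hφ x₀ x₁ h v).1) ≫ a.left = g ≫ x₁
        rw [Category.assoc, hv1]⟩)
      (by rw [hv']; exact (rel_glue f a φ hφ x₀ x₁ h v).comp f φ g)
    exact congrArg Subtype.val this
  φ_self W i x v := eq_glue f a φ hφ (x₀ := x) (x₁ := x) rfl ⟨rfl, fun _ _ _ => rfl⟩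
  φ_comp W i j k x₀ x₁ x₂ h₀₁ h₁₂ v :=
    (eq_glue f a φ hφ (h₀₁.trans h₁₂)
      ((rel_glue f a φ hφ x₀ x₁ h₀₁ v).trans f φ (rel_glue f a φ hφ x₁ x₂ h₁₂ _))).symm

end

/-- On the big fppf site of a scheme `S`, in the case where the local representing objects are affine
over the cover (so that the canonical descent datum is effective): if `Z` is an fppf sheaf over `S`
and, for an fppf cover `S' ⟶ S`, the sheaf `Z ×_S S'` is represented over `S'` by a scheme affine
over `S'`, then `Z` is represented by a scheme affine over `S`. -/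
theorem result {S S' : Scheme.{u}} (f : S' ⟶ S)
    [Flat f] [Surjective f] [LocallyOfFinitePresentation f]
    (Z : QuotSh.Sh Scheme.fppfPrecoverage S)
    (T' : Over S) (a : T' ⟶ Over.mk f) [IsAffineHom a.left]
    (φ : QuotSh.rep Scheme.fppfPrecoverage T' ≅ Z ⨯ QuotSh.rep Scheme.fppfPrecoverage (Over.mk f))
    (hφ : φ.hom ≫ prod.snd = QuotSh.repMap Scheme.fppfPrecoverage a) :
    ∃ T : Over S, IsAffineHom T.hom ∧ Nonempty (QuotSh.rep Scheme.fppfPrecoverage T ≅ Z) := by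
  have hf : Presieve.ofArrows (fun _ : PUnit.{u + 1} => S') (fun _ => f) ∈ Scheme.fpqcPrecoverage S :=
    Scheme.fppfPrecoverage_le_fpqcPrecoverage S
      (f.cover (P := @Flat ⊓ @LocallyOfFinitePresentation) ⟨‹_›, ‹_›⟩).mem₀
  obtain ⟨U, ⟨e⟩⟩ := Groth.Agent.Desc19b.isEffective_of_isAffineHom hf (datum f a φ hφ) (fun _ => ‹IsAffineHom a.left›)
  let e₁ : T'.left ⟶ pullback f U.hom := (e.inv.hom PUnit.unit).left
  let e₂ : pullback f U.hom ⟶ T'.left := (e.hom.hom PUnit.unit).left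
  have he12 : e₁ ≫ e₂ = 𝟙 _ :=
    congrArg (fun (m : datum f a φ hφ ⟶ datum f a φ hφ) => (m.hom PUnit.unit).left) e.inv_hom_id
  have he21 : e₂ ≫ e₁ = 𝟙 _ :=
    congrArg (fun (m : (Desc.toDDFam (fun _ : PUnit.{u + 1} => f)).obj U ⟶ (Desc.toDDFam (fun _ : PUnit.{u + 1} => f)).obj U) =>
      (m.hom PUnit.unit).left) e.hom_inv_id
  haveI : IsIso e₁ := ⟨e₂, he12, he21⟩
  have hea : e₁ ≫ pullback.fst f U.hom = a.left := Over.w (e.inv.hom PUnit.unit)
  have hqw : (e₁ ≫ pullback.snd f U.hom) ≫ U.hom = T'.hom := by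
    rw [Category.assoc, ← pullback.condition, ← Category.assoc, hea]
    exact Over.w a
  let q : T' ⟶ U := Over.homMk (e₁ ≫ pullback.snd f U.hom) hqw
  -- kernel pair of `q`
  have hcomm : ∀ {W : Scheme.{u}} (v w : W ⟶ T'.left), v ≫ e₁ ≫ pullback.snd f U.hom = w ≫ e₁ ≫ pullback.snd f U.hom →
      Rel f φ v w := by
    intro W v w hvw
    have h : (v ≫ a.left) ≫ f = (w ≫ a.left) ≫ f := by
      have hT : a.left ≫ f = T'.hom := Over.w a
      simp only [Category.assoc]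
      rw [hT, ← hqw, ← Category.assoc, hvw, Category.assoc]
    have hc := e.inv.comm (i := PUnit.unit) (j := PUnit.unit) (v ≫ a.left) (w ≫ a.left) h ⟨v, rfl⟩
      ⟨v ≫ e₁, (Category.assoc _ _ _).trans (congrArg (v ≫ ·) hea)⟩ rfl
    have hr := rel_glue f a φ hφ (v ≫ a.left) (w ≫ a.left) h ⟨v, rfl⟩
    have hc' : pullback.lift (w ≫ a.left) ((v ≫ e₁) ≫ pullback.snd f U.hom) (by
        simp only [Category.assoc]
        rw [← pullback.condition, reassoc_of% hea]
        simpa only [Category.assoc] using h.symm) =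
        (glue f a φ hφ (v ≫ a.left) (w ≫ a.left) h ⟨v, rfl⟩).1 ≫ e₁ := hc
    have hw' : w ≫ e₁ = (glue f a φ hφ (v ≫ a.left) (w ≫ a.left) h ⟨v, rfl⟩).1 ≫ e₁ := by
      rw [← hc']
      apply pullback.hom_ext
      · rw [pullback.lift_fst, Category.assoc, hea]
      · rw [pullback.lift_snd, Category.assoc, Category.assoc, hvw]
    rw [cancel_mono] at hw'
    rwa [← hw'] at hr
  have hcomm' : ∀ {W : Scheme.{u}} (v w : W ⟶ T'.left), Rel f φ v w →
      v ≫ e₁ ≫ pullback.snd f U.hom = w ≫ e₁ ≫ pullback.snd f U.hom := by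
    intro W v w hr
    have h : (v ≫ a.left) ≫ f = (w ≫ a.left) ≫ f := by
      have := hr.1
      rw [← Over.w a] at this
      exact (Category.assoc _ _ _).trans (this.trans (Category.assoc _ _ _).symm)
    have hw' : glue f a φ hφ (v ≫ a.left) (w ≫ a.left) h ⟨v, rfl⟩ = ⟨w, rfl⟩ := eq_glue f a φ hφ h hr
    have hc := e.inv.comm (i := PUnit.unit) (j := PUnit.unit) (v ≫ a.left) (w ≫ a.left) h ⟨v, rfl⟩
      ⟨v ≫ e₁, (Category.assoc _ _ _).trans (congrArg (v ≫ ·) hea)⟩ rfl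
    have hc' : pullback.lift (w ≫ a.left) ((v ≫ e₁) ≫ pullback.snd f U.hom) (by
        simp only [Category.assoc]
        rw [← pullback.condition, reassoc_of% hea]
        simpa only [Category.assoc] using h.symm) =
        (glue f a φ hφ (v ≫ a.left) (w ≫ a.left) h ⟨v, rfl⟩).1 ≫ e₁ := hc
    rw [hw'] at hc'
    have := ((congrArg (· ≫ pullback.snd f U.hom) hc').symm.trans (pullback.lift_snd _ _ _)).symm
    simpa [Category.assoc] using this
  haveI : Flat q.left := by show Flat (e₁ ≫ pullback.snd f U.hom); infer_instance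
  haveI : Surjective q.left := by show Surjective (e₁ ≫ pullback.snd f U.hom); infer_instance
  haveI : LocallyOfFinitePresentation q.left := by
    show LocallyOfFinitePresentation (e₁ ≫ pullback.snd f U.hom); infer_instance
  obtain ⟨hqepi, hqdesc⟩ := RepHom.exists_desc q
  obtain ⟨ψ, hψ⟩ := hqdesc Z (toZ f φ (𝟙 T')) (fun W v w hvw => by
    rw [← toZ_comp, ← toZ_comp, Category.comp_id, Category.comp_id]
    exact toZ_of_rel f φ (hcomm v.left w.left (congrArg CommaMorphism.left hvw)))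
  have hψ' : ∀ {V : Over S} (v : V ⟶ T'), QuotSh.repMap Scheme.fppfPrecoverage (v ≫ q) ≫ ψ = toZ f φ v := by
    intro V v
    have e : QuotSh.repMap Scheme.fppfPrecoverage (v ≫ q) =
        QuotSh.repMap Scheme.fppfPrecoverage v ≫ QuotSh.repMap Scheme.fppfPrecoverage q := (RepHom.rp S).map_comp v q
    rw [e, Category.assoc, hψ, ← toZ_comp, Category.comp_id]
  haveI : MorphismProperty.DescendsAlong @IsAffineHom (@Surjective ⊓ @Flat ⊓ @QuasiCompact : MorphismProperty Scheme.{u}) :=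
    Groth.Agent.Et18.descends_isAffineHom
  refine ⟨U, ?_, ⟨@asIso _ _ _ _ ψ (RepHom.isIso_of_bijective ψ fun V => ?_)⟩⟩
  · refine MorphismProperty.of_isPullback_of_descendsAlong (P := @IsAffineHom)
      (Q := @Surjective ⊓ @Flat ⊓ @LocallyOfFinitePresentation) (IsPullback.of_hasPullback f U.hom)
      ⟨⟨‹_›, ‹_›⟩, ‹_›⟩ ?_
    rw [show pullback.fst f U.hom = inv e₁ ≫ a.left by rw [← hea, IsIso.inv_hom_id_assoc]]
    infer_instance
  let V' : Over S := Over.mk (pullback.fst V.hom f ≫ V.hom)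
  let c : V' ⟶ V := Over.homMk (pullback.fst V.hom f) rfl
  let x : V' ⟶ Over.mk f := Over.homMk (pullback.snd V.hom f) pullback.condition.symm
  haveI : Flat c.left := (inferInstance : Flat (pullback.fst V.hom f))
  haveI : Surjective c.left := (inferInstance : Surjective (pullback.fst V.hom f))
  haveI : LocallyOfFinitePresentation c.left := (inferInstance : LocallyOfFinitePresentation (pullback.fst V.hom f))
  obtain ⟨hcepi, hcdesc⟩ := RepHom.exists_desc c
  have hcomp : ∀ {A B C : Over S} (g : A ⟶ B) (h : B ⟶ C), QuotSh.repMap Scheme.fppfPrecoverage (g ≫ h) =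
      QuotSh.repMap Scheme.fppfPrecoverage g ≫ QuotSh.repMap Scheme.fppfPrecoverage h :=
    fun g h => (RepHom.rp S).map_comp g h
  constructor
  · intro u₁ u₂ hu
    obtain ⟨g₁, rfl⟩ := RepHom.exists_repMap_eq u₁
    obtain ⟨g₂, rfl⟩ := RepHom.exists_repMap_eq u₂
    have key : ∀ g : V ⟶ U, ∃ v : V' ⟶ T', v ≫ a = x ∧ v ≫ q = c ≫ g := fun g => by
      have hg : pullback.snd V.hom f ≫ f = (pullback.fst V.hom f ≫ g.left) ≫ U.hom := by
        rw [Category.assoc, Over.w g, pullback.condition]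
      refine ⟨Over.homMk (pullback.lift (pullback.snd V.hom f) (pullback.fst V.hom f ≫ g.left) hg ≫ e₂) ?_, ?_, ?_⟩
      · show _ = pullback.fst V.hom f ≫ V.hom
        rw [← hqw, Category.assoc, ← Category.assoc e₂, ← Category.assoc e₂, he21, Category.id_comp,
          ← Category.assoc, pullback.lift_snd, Category.assoc, Over.w g]
      · apply Over.OverMorphism.ext
        show (_ ≫ e₂) ≫ a.left = pullback.snd V.hom f
        rw [← hea, Category.assoc, ← Category.assoc e₂, he21, Category.id_comp, pullback.lift_fst]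
      · apply Over.OverMorphism.ext
        show (_ ≫ e₂) ≫ e₁ ≫ pullback.snd f U.hom = pullback.fst V.hom f ≫ g.left
        rw [Category.assoc, ← Category.assoc e₂, he21, Category.id_comp, pullback.lift_snd]
    obtain ⟨v₁, hv₁, hv₁'⟩ := key g₁
    obtain ⟨v₂, hv₂, hv₂'⟩ := key g₂
    have : v₁ = v₂ := toZ_inj f a φ hφ v₁ v₂ (hv₁.trans hv₂.symm) (by
      rw [← hψ' v₁, ← hψ' v₂, hv₁', hv₂', hcomp, hcomp, Category.assoc, Category.assoc]
      exact congrArg _ hu)
    rw [← cancel_epi (QuotSh.repMap Scheme.fppfPrecoverage c), ← hcomp, ← hcomp, ← hv₁', ← hv₂', this]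
  · intro z
    obtain ⟨v, -, hvz⟩ := exists_toZ f a φ hφ x (QuotSh.repMap Scheme.fppfPrecoverage c ≫ z)
    obtain ⟨u, hu⟩ := hcdesc _ (QuotSh.repMap Scheme.fppfPrecoverage (v ≫ q)) (fun W g₁ g₂ hg => by
      rw [← hcomp, ← hcomp]
      congr 1
      apply Over.OverMorphism.ext
      show g₁.left ≫ v.left ≫ e₁ ≫ pullback.snd f U.hom = g₂.left ≫ v.left ≫ e₁ ≫ pullback.snd f U.hom
      have := hcomm' (g₁ ≫ v).left (g₂ ≫ v).left (rel_of_toZ f φ (by
        rw [toZ_comp, toZ_comp, hvz, ← Category.assoc, ← Category.assoc, ← hcomp, ← hcomp, hg]))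
      simpa [Category.assoc] using this)
    refine ⟨u, ?_⟩
    show u ≫ ψ = z
    rw [← cancel_epi (QuotSh.repMap Scheme.fppfPrecoverage c), ← Category.assoc, hu, hψ', hvz]

end Groth.Agent.S5232
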