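import Groth.Statements.S5233
import Groth.Agent.S4666
import Groth.Agent.ModPairLib.MProd
import Mathlib.AlgebraicGeometry.Morphisms.SchemeTheoreticallyDominant
import Mathlib.CategoryTheory.Subobject.Basic

set_option autoImplicit false
open CategoryTheory CategoryTheory.Limits AlgebraicGeometry
universe u
open GrpQ

namespace Groth.Agent.S5233
open Limits

/-- For schemes, with (M) the faithfully flat quasi-compact morphisms and (N) the closed immersions: if
`π : X ⟶ X'` is flat, surjective and quasi-compact (so `X' = X/R` for its kernel pair `R ⇉ X`), then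
`Y' ↦ π⁻¹(Y')` is a bijection from closed subschemes of `X'` onto the closed subschemes of `X`
stable under `R`. -/
theorem result {X X' : Scheme.{u}} (π : X ⟶ X')
    [Flat π] [Surjective π] [QuasiCompact π] :
    Set.BijOn (Subobject.pullback π).obj
      {Y' : Subobject X' | IsClosedImmersion Y'.arrow}
      {Y : Subobject X | IsClosedImmersion Y.arrow ∧
        (Subobject.pullback (pullback.fst π π)).obj Y = (Subobject.pullback (pullback.snd π π)).obj Y} := by
  have hmk : ∀ {Z A B : Scheme.{u}} (a : A ⟶ Z) (b : B ⟶ Z) [IsClosedImmersion a] [IsClosedImmersion b],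
      a.ker = b.ker → Subobject.mk a = Subobject.mk b := fun a b _ _ h => by
    haveI := IsClosedImmersion.isIso_lift b a h.symm
    exact Subobject.mk_eq_mk_of_comm a b (asIso (IsClosedImmersion.lift b a h.symm.le)) (IsClosedImmersion.lift_fac b a h.symm.le)
  have hff : ∀ {Q Y : Scheme.{u}} (q : Q ⟶ Y) [Flat q] [Surjective q] [QuasiCompact q], q.ker = ⊥ := fun q _ _ _ => by
    refine Groth.Agent.S4666.result q (?_ : q.ker.comap q = (⊥ : Scheme.IdealSheafData _).comap q)
    rw [Scheme.IdealSheafData.comap_bot, Scheme.IdealSheafData.comap]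
    haveI : IsIso (pullback.fst q q.ker.subschemeι) :=
      ⟨pullback.lift (𝟙 _) q.toImage (by rw [Category.id_comp]; exact q.toImage_imageι.symm),
        by rw [← cancel_mono (pullback.fst q q.ker.subschemeι), Category.assoc, pullback.lift_fst,
          Category.comp_id, Category.id_comp], pullback.lift_fst _ _ _⟩
    exact Scheme.Hom.ker_eq_bot_of_isIso _
  have hpb : ∀ {A : Scheme.{u}} (a : A ⟶ X') [Mono a],
      (Subobject.pullback π).obj (Subobject.mk a) = Subobject.mk (pullback.snd a π) := fun a _ =>
    Subobject.pullback_obj_mk (IsPullback.of_hasPullback a π)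
  have harrow : ∀ {Z A : Scheme.{u}} (a : A ⟶ Z) [Mono a] [IsClosedImmersion a],
      IsClosedImmersion (Subobject.mk a).arrow := fun a _ _ => by
    rw [← Subobject.underlyingIso_hom_comp_eq_mk a]; infer_instance
  refine ⟨fun Y' hY' => ?_, fun Y₁ h₁ Y₂ h₂ he => ?_, fun Y hY => ?_⟩
  · haveI : IsClosedImmersion Y'.arrow := hY'
    refine ⟨?_, ?_⟩
    · rw [Subobject.pullback_obj]
      exact harrow _
    · rw [← Subobject.pullback_comp, ← Subobject.pullback_comp]
      simp only [pullback.condition]
  · haveI : IsClosedImmersion Y₁.arrow := h₁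
    haveI : IsClosedImmersion Y₂.arrow := h₂
    rw [Subobject.pullback_obj, Subobject.pullback_obj] at he
    have hk : (pullback.snd Y₁.arrow π).ker = (pullback.snd Y₂.arrow π).ker := by
      rw [← Subobject.ofMkLEMk_comp he.le]
      haveI : IsIso (Subobject.ofMkLEMk _ _ he.le) := (Subobject.isoOfMkEqMk _ _ he).isIso_hom
      exact Scheme.Hom.ker_comp_of_isIso _ _
    have hc : ∀ {A : Scheme.{u}} (a : A ⟶ X') [IsClosedImmersion a], a.ker.comap π = (pullback.snd a π).ker := by
      intro A a _
      rw [Scheme.IdealSheafData.comap]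
      let e : pullback a π ≅ pullback π a.ker.subschemeι :=
        pullbackSymmetry a π ≪≫ asIso (pullback.map π a π a.ker.subschemeι (𝟙 _) a.toImage (𝟙 _) (by simp) (by rw [Category.comp_id]; exact a.toImage_imageι.symm))
      rw [show pullback.snd a π = e.hom ≫ pullback.fst π a.ker.subschemeι by
        rw [Iso.trans_hom, asIso_hom, Category.assoc, pullback.lift_fst, Category.comp_id, pullbackSymmetry_hom_comp_fst], Scheme.Hom.ker_comp_of_isIso]
    have := Groth.Agent.S4666.result π ((hc Y₁.arrow).trans (hk.trans (hc Y₂.arrow).symm))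
    rw [← Subobject.mk_arrow Y₁, ← Subobject.mk_arrow Y₂]
    exact hmk _ _ this
  · obtain ⟨hcl, hst⟩ := hY
    haveI : IsClosedImmersion Y.arrow := hcl
    let c := Y.arrow
    let g := c ≫ π
    haveI : IsSchemeTheoreticallyDominant g.toImage := ⟨Groth.Agent.ModPairLib.ker_toImage g⟩
    refine ⟨Subobject.mk g.imageι, harrow _, ?_⟩
    rw [hpb]
    refine (hmk (pullback.snd g.imageι π) c ?_).trans (Subobject.mk_arrow Y)
    let q := pullback.snd g π
    -- the kernel of `q`
    have hc : q.ker = c.ker := by
      rw [Subobject.pullback_obj, Subobject.pullback_obj] at hst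
      let r : pullback g π ⟶ pullback π π := pullback.lift (pullback.fst g π ≫ c) q (by
        rw [Category.assoc]; exact pullback.condition)
      have hr : IsPullback (pullback.fst g π) r c (pullback.fst π π) := by
        refine IsPullback.of_bot ?_ (pullback.lift_fst _ _ _).symm (IsPullback.of_hasPullback π π)
        rw [pullback.lift_snd]
        exact IsPullback.of_hasPullback g π
      let e : pullback g π ≅ pullback c (pullback.snd π π) :=
        hr.isoPullback ≪≫ Subobject.isoOfMkEqMk _ _ hst
      have he : q = (e.hom ≫ pullback.fst c (pullback.snd π π)) ≫ c := by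
        rw [Category.assoc, pullback.condition, Iso.trans_hom, Category.assoc]
        rw [show (Subobject.isoOfMkEqMk _ _ hst).hom ≫ pullback.snd c (pullback.snd π π) ≫ pullback.snd π π =
          pullback.snd c (pullback.fst π π) ≫ pullback.snd π π from by
            rw [← Category.assoc]; congr 1; exact Subobject.ofMkLEMk_comp hst.le]
        rw [← Category.assoc, hr.isoPullback_hom_snd, pullback.lift_snd]
      haveI : IsIso e.hom := e.isIso_hom
      rw [he, Scheme.Hom.ker_comp, hff, Scheme.IdealSheafData.map_bot]
    let b : pullback g π ⟶ pullback g.imageι π := pullback.map g π g.imageι π g.toImage (𝟙 _) (𝟙 _)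
      (by rw [Category.comp_id]; exact g.toImage_imageι.symm) (by simp)
    have hb : IsPullback (pullback.fst g π) b g.toImage (pullback.fst g.imageι π) := by
      refine IsPullback.of_bot ?_ (pullback.lift_fst _ _ _).symm (IsPullback.of_hasPullback g.imageι π)
      rw [pullback.lift_snd, Category.comp_id, g.toImage_imageι]
      exact IsPullback.of_hasPullback g π
    haveI : IsSchemeTheoreticallyDominant b := IsSchemeTheoreticallyDominant.of_isPullback hb
    rw [← hc, show q = b ≫ pullback.snd g.imageι π from by rw [pullback.lift_snd, Category.comp_id],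
      Scheme.Hom.ker_comp, b.ker_eq_bot, Scheme.IdealSheafData.map_bot]

end Groth.Agent.S5233
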