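import Groth.Statements.S5234
import Mathlib.AlgebraicGeometry.Sites.Fpqc
import Groth.Agent.FlatLocal.Descent
import Groth.Agent.AlgSpLib.FppfSource

set_option autoImplicit false
open CategoryTheory CategoryTheory.Limits AlgebraicGeometry MonoidalCategory
universe u
open RedSub

namespace Groth.Agent.S5234

open CartesianMonoidalCategory SemiCartesianMonoidalCategory in
/-- (ii) ⇔ (iii), for schemes with the fppf topology: let `G` be an `S`-group scheme which is faithfully
flat and locally of finite presentation over `S`, acting on `X` so that `X` is formally principal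
homogeneous. Then `X` is a torsor (its structure map is faithfully flat and locally of finite
presentation) if and only if `X` has a point over some faithfully flat, locally finitely presented
`S' ⟶ S`. -/
theorem result {S : Scheme.{u}} {G X : Over S} [GrpObj G]
    (a : AlgGrp.Action G X)
    [Flat G.hom] [Surjective G.hom] [LocallyOfFinitePresentation G.hom]
    (hX : IsIso (lift a.act (snd G X))) :
    RedSub.IsTorsor a ↔
      ∃ S' : Over S, Surjective S'.hom ∧ Flat S'.hom ∧ LocallyOfFinitePresentation S'.hom ∧
        Nonempty (S' ⟶ X) := by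
  constructor
  · rintro ⟨h1, h2, h3, -⟩
    exact ⟨X, h1, h2, h3, ⟨𝟙 X⟩⟩
  rintro ⟨S', hsu, hfl, hfp, ⟨g⟩⟩
  haveI := hsu
  haveI := hfl
  haveI := hfp
  haveI := hX
  haveI hXs : Surjective X.hom := by
    haveI : Surjective (g.left ≫ X.hom) := by rw [Over.w g]; exact hsu
    exact Surjective.of_comp g.left X.hom
  let Φ := lift a.act (snd G X)
  have hΦ : inv Φ ≫ snd G X = snd X X := by
    rw [IsIso.inv_comp_eq]; exact (lift_snd _ _).symm
  let θ : G ⊗ S' ≅ X ⊗ S' :=
    { hom := lift (lift (fst _ _) (snd _ _ ≫ g) ≫ a.act) (snd _ _)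
      inv := lift (lift (fst _ _) (snd _ _ ≫ g) ≫ inv Φ ≫ fst G X) (snd _ _)
      hom_inv_id := by
        apply CartesianMonoidalCategory.hom_ext
        · rw [comp_lift, lift_fst, Category.id_comp, ← Category.assoc, comp_lift, lift_fst, lift_snd_assoc]
          have : lift (lift (fst G S') (snd G S' ≫ g) ≫ a.act) (snd G S' ≫ g) =
              lift (fst G S') (snd G S' ≫ g) ≫ Φ := by simp [Φ]
          rw [this, Category.assoc, IsIso.hom_inv_id_assoc, lift_fst]
        · simp
      inv_hom_id := by
        apply CartesianMonoidalCategory.hom_ext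
        · rw [comp_lift, lift_fst, Category.id_comp, ← Category.assoc, comp_lift, lift_fst, lift_snd_assoc]
          have : lift (lift (fst X S') (snd X S' ≫ g) ≫ inv Φ ≫ fst G X) (snd X S' ≫ g) =
              lift (fst X S') (snd X S' ≫ g) ≫ inv Φ := by
            apply CartesianMonoidalCategory.hom_ext
            · simp
            · simp [hΦ]
          rw [this, Category.assoc, show a.act = Φ ≫ fst X X from (lift_fst _ _).symm, IsIso.inv_hom_id_assoc,
            lift_fst]
        · simp }
  let q : (G ⊗ S').left ⟶ X.left := θ.hom.left ≫ pullback.fst X.hom S'.hom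
  haveI : IsIso θ.hom.left := (((Over.forget S).mapIso θ).isIso_hom :)
  haveI : Flat q := inferInstance
  haveI : Surjective q := inferInstance
  haveI : LocallyOfFinitePresentation q := inferInstance
  have hq : q ≫ X.hom = pullback.fst G.hom S'.hom ≫ G.hom := by
    refine Eq.trans ?_ (Over.w θ.hom).symm.symm
    rw [Category.assoc]; rfl
  haveI : Flat (q ≫ X.hom) := by rw [hq]; infer_instance
  haveI : LocallyOfFinitePresentation (q ≫ X.hom) := by rw [hq]; infer_instance
  exact ⟨hXs, FlatLocal.flat_of_comp q X.hom, AlgSpLib.lfp_of_comp_fppf q X.hom inferInstance, hX⟩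

end Groth.Agent.S5234
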