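import Groth.Statements.S5235
import Mathlib.AlgebraicGeometry.Morphisms.Flat
import Mathlib.CategoryTheory.Subobject.Basic
import Mathlib.AlgebraicGeometry.OpenImmersion

set_option autoImplicit false
open CategoryTheory CategoryTheory.Limits AlgebraicGeometry
universe u
open GrpQ

namespace Groth.Agent.S5235
open Limits

/-- For schemes, with (M) the faithfully flat quasi-compact morphisms and (N) the open immersions: if `π
: X ⟶ X'` is flat, surjective and quasi-compact, then `Y' ↦ π⁻¹(Y')` is a bijection from open
subschemes of `X'` onto the open subschemes of `X` stable under the kernel pair of `π`. -/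
theorem result {X X' : Scheme.{u}} (π : X ⟶ X')
    [Flat π] [Surjective π] [QuasiCompact π] :
    Set.BijOn (Subobject.pullback π).obj
      {Y' : Subobject X' | IsOpenImmersion Y'.arrow}
      {Y : Subobject X | IsOpenImmersion Y.arrow ∧
        (Subobject.pullback (pullback.fst π π)).obj Y = (Subobject.pullback (pullback.snd π π)).obj Y} := by
  have hmk : ∀ {Z A B : Scheme.{u}} (a : A ⟶ Z) (b : B ⟶ Z) [IsOpenImmersion a] [IsOpenImmersion b],
      Set.range a.base = Set.range b.base → Subobject.mk a = Subobject.mk b := fun a b _ _ h =>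
    Subobject.mk_eq_mk_of_comm a b (IsOpenImmersion.isoOfRangeEq a b h) (IsOpenImmersion.isoOfRangeEq_hom_fac a b h)
  have harrow : ∀ {Z A : Scheme.{u}} (a : A ⟶ Z) [Mono a] [IsOpenImmersion a],
      IsOpenImmersion (Subobject.mk a).arrow := fun a _ _ => by
    rw [← Subobject.underlyingIso_hom_comp_eq_mk a]; infer_instance
  refine ⟨fun Y' hY' => ?_, fun Y₁ h₁ Y₂ h₂ he => ?_, fun Y hY => ?_⟩
  · haveI : IsOpenImmersion Y'.arrow := hY'
    refine ⟨?_, ?_⟩
    · rw [Subobject.pullback_obj]
      exact harrow _
    · rw [← Subobject.pullback_comp, ← Subobject.pullback_comp]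
      simp only [pullback.condition]
  · haveI : IsOpenImmersion Y₁.arrow := h₁
    haveI : IsOpenImmersion Y₂.arrow := h₂
    rw [Subobject.pullback_obj, Subobject.pullback_obj] at he
    rw [← Subobject.mk_arrow Y₁, ← Subobject.mk_arrow Y₂]
    refine hmk _ _ (π.surjective.preimage_injective ?_)
    rw [← Scheme.Pullback.range_snd (f := Y₁.arrow) (g := π), ← Scheme.Pullback.range_snd (f := Y₂.arrow) (g := π),
      ← Subobject.ofMkLEMk_comp he.le]
    haveI : IsIso (Subobject.ofMkLEMk _ _ he.le) := (Subobject.isoOfMkEqMk _ _ he).isIso_hom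
    exact Function.Surjective.range_comp (asIso (Subobject.ofMkLEMk _ _ he.le)).hom.homeomorph.surjective _
  · obtain ⟨hcl, hst⟩ := hY
    haveI : IsOpenImmersion Y.arrow := hcl
    let E := Set.range Y.arrow.base
    have hst' : (pullback.fst π π).base ⁻¹' E = (pullback.snd π π).base ⁻¹' E := by
      rw [Subobject.pullback_obj, Subobject.pullback_obj] at hst
      haveI : IsIso (Subobject.ofMkLEMk _ _ hst.le) := (Subobject.isoOfMkEqMk _ _ hst).isIso_hom
      rw [← Scheme.Pullback.range_snd (f := Y.arrow) (g := pullback.fst π π),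
        ← Scheme.Pullback.range_snd (f := Y.arrow) (g := pullback.snd π π), ← Subobject.ofMkLEMk_comp hst.le]
      exact Function.Surjective.range_comp (asIso (Subobject.ofMkLEMk _ _ hst.le)).hom.homeomorph.surjective _
    have hsat : π.base ⁻¹' (π.base '' E) = E := by
      refine Set.Subset.antisymm ?_ (Set.subset_preimage_image _ _)
      rintro x ⟨x', hx', hxx'⟩
      obtain ⟨p, hp1, hp2⟩ := Scheme.Pullback.exists_preimage_pullback (f := π) (g := π) x' x hxx'
      have hp : p ∈ (pullback.fst π π).base ⁻¹' E := by rw [Set.mem_preimage, hp1]; exact hx'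
      rw [hst'] at hp
      exact hp2 ▸ hp
    let U : X'.Opens := ⟨π.base '' E, by
      rw [← (Flat.isQuotientMap_of_surjective π).isOpen_preimage, hsat]
      exact Y.arrow.isOpenEmbedding.isOpen_range⟩
    refine ⟨Subobject.mk U.ι, harrow _, ?_⟩
    rw [Subobject.pullback_obj_mk (IsPullback.of_hasPullback U.ι π)]
    refine (hmk (pullback.snd U.ι π) Y.arrow ?_).trans (Subobject.mk_arrow Y)
    rw [Scheme.Pullback.range_snd, U.range_ι]
    exact hsat

end Groth.Agent.S5235
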