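import Groth.Statements.S5237
import Mathlib.AlgebraicGeometry.Sites.Fpqc

set_option autoImplicit false
open CategoryTheory CategoryTheory.Limits AlgebraicGeometry MonoidalCategory
universe u
open RedSub

namespace Groth.Agent.S5237

open MonObj GrpObj CartesianMonoidalCategory in
/-- For group schemes and the fppf topology: if `q : G ⟶ Q = G/H` is the fppf quotient of `G` by a
normal subgroup `H`, with its group structure, then a homomorphism `G ⟶ K` that kills `H` factors
uniquely through `q`, and the factorisation is a homomorphism. -/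
theorem result {S : Scheme.{u}} {H G Q K : Over S}
    [GrpObj H] [GrpObj G] [GrpObj Q] [GrpObj K]
    (i : H ⟶ G) [IsMonHom i] [Mono i] (hn : AlgGrp.IsNormalHom i)
    (q : G ⟶ Q) [IsMonHom q] (hq : RedSub.IsQuotient i q)
    (f : G ⟶ K) [IsMonHom f] (hf : i ≫ f = 1) :
    ∃! g : Q ⟶ K, q ≫ g = f ∧ IsMonHom g := by
  obtain ⟨hs, hfl, hfp, hP⟩ := hq
  haveI := hs
  haveI := hfl
  haveI := hfp
  haveI : Epi q.left := inferInstance
  have hinv : ∀ {Z : Over S} (a b : Z ⟶ G), a ≫ q = b ≫ q → a ≫ f = b ≫ f := by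
    intro Z a b h
    obtain ⟨t, ht1, ht2⟩ := hP.exists_lift a b h
    have hb : b = (t ≫ fst G H) * ((t ≫ snd G H) ≫ i) := by
      rw [← ht2, Hom.mul_def, ← Category.assoc]
      congr 1
      ext <;> simp
    rw [hb, ht1, MonObj.mul_comp, Category.assoc, hf, MonObj.comp_one, _root_.mul_one]
  haveI : EffectiveEpi q.left := inferInstance
  let g₀ : Q.left ⟶ K.left := EffectiveEpi.desc q.left f.left (fun {Z} a b h => by
    let Z' : Over S := Over.mk (a ≫ G.hom)
    let a' : Z' ⟶ G := Over.homMk a rfl
    let b' : Z' ⟶ G := Over.homMk b (by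
      show b ≫ G.hom = a ≫ G.hom
      rw [← Over.w q, ← Category.assoc, ← h, Category.assoc])
    exact congrArg CommaMorphism.left (hinv a' b' (Over.OverMorphism.ext h)))
  have hg₀ : q.left ≫ g₀ = f.left := EffectiveEpi.fac _ _ _
  let g : Q ⟶ K := Over.homMk g₀ (by rw [← cancel_epi q.left, ← Category.assoc, hg₀, Over.w f, Over.w q])
  have hg : q ≫ g = f := Over.OverMorphism.ext hg₀
  haveI : Epi q := (Over.forget S).epi_of_epi_map (f := q) ‹_›
  refine ⟨g, ⟨hg, ?_⟩, fun g' ⟨h', _⟩ => (cancel_epi q).mp (h'.trans hg.symm)⟩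
  have lift1 : ∀ {X : Over S} (x : X ⟶ Q), ∃ (X' : Over S) (π : X' ⟶ X) (y : X' ⟶ G), Epi π ∧ y ≫ q = π ≫ x := by
    intro X x
    let P := Limits.pullback x.left q.left
    haveI : Epi (Limits.pullback.fst x.left q.left) := inferInstance
    refine ⟨Over.mk (Limits.pullback.fst x.left q.left ≫ X.hom), Over.homMk (Limits.pullback.fst x.left q.left) rfl,
      Over.homMk (Limits.pullback.snd x.left q.left) (by
        show Limits.pullback.snd x.left q.left ≫ G.hom = Limits.pullback.fst x.left q.left ≫ X.hom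
        rw [← Over.w q, ← Limits.pullback.condition_assoc, Over.w x]), ?_, Over.OverMorphism.ext Limits.pullback.condition.symm⟩
    exact (Over.forget S).epi_of_epi_map (f := Over.homMk (U := Over.mk (Limits.pullback.fst x.left q.left ≫ X.hom)) (V := X) (Limits.pullback.fst x.left q.left) rfl) ‹_›
  have key : ∀ {X : Over S} (x x' : X ⟶ Q), (x * x') ≫ g = (x ≫ g) * (x' ≫ g) := by
    intro X x x'
    obtain ⟨X₁, π, y, hπ, hy⟩ := lift1 x
    obtain ⟨X₂, π', y', hπ', hy'⟩ := lift1 (π ≫ x')
    haveI := hπ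
    haveI := hπ'
    refine (cancel_epi π).mp ((cancel_epi π').mp ?_)
    have e1 : π' ≫ π ≫ x = (π' ≫ y) ≫ q := by rw [Category.assoc, hy]
    simp only [MonObj.comp_mul, ← Category.assoc]
    rw [Category.assoc π' π x, e1, Category.assoc π' π x', ← hy', ← MonObj.mul_comp (π' ≫ y) y' q]
    simp only [Category.assoc, hg]
    rw [MonObj.mul_comp, Category.assoc]
  exact
    { one_hom := by
        have h1 : (1 : 𝟙_ (Over S) ⟶ Q) ≫ g = 1 := by
          have h := key (1 : 𝟙_ (Over S) ⟶ Q) 1
          rw [_root_.one_mul] at h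
          exact left_eq_mul.mp h
        simp only [Hom.one_def, toUnit_unique (toUnit (𝟙_ (Over S))) (𝟙 _), Category.id_comp] at h1
        exact h1
      mul_hom := by
        have h := key (fst Q Q) (snd Q Q)
        rw [Hom.mul_def, Hom.mul_def, lift_fst_snd, Category.id_comp] at h
        rw [h]
        congr 1
        all_goals (apply CartesianMonoidalCategory.hom_ext <;> simp) }

end Groth.Agent.S5237
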