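import Groth.Statements.S5238
import Groth.Agent.S7198
import Mathlib.AlgebraicGeometry.Sites.Fpqc
import Mathlib.AlgebraicGeometry.Morphisms.QuasiFinite

set_option autoImplicit false
open CategoryTheory AlgebraicGeometry
universe w u
open GrpQ

namespace Groth.Agent.S5238

set_option backward.isDefEq.respectTransparency.types false

/-- flat, locally of finite presentation and locally quasi-finite -/
abbrev QF : MorphismProperty Scheme.{u} :=
  @Flat ⊓ @LocallyOfFinitePresentation ⊓ @LocallyQuasiFinite

instance : QF.{u}.IsMultiplicative where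
  id_mem _ := ⟨⟨inferInstance, inferInstance⟩, inferInstance⟩
  comp_mem f g hf hg := by
    obtain ⟨⟨_, _⟩, _⟩ := hf
    obtain ⟨⟨_, _⟩, _⟩ := hg
    exact ⟨⟨inferInstance, inferInstance⟩, inferInstance⟩

instance : QF.{u}.IsStableUnderBaseChange := inferInstance

instance : IsZariskiLocalAtSource QF :=
  @MorphismProperty.IsLocalAtSource.inf _ _ _ _ _
    (@MorphismProperty.IsLocalAtSource.inf _ _ _ _ _ inferInstance inferInstance) inferInstance

theorem fppfTopology_eq : Scheme.fppfTopology.{u} = Scheme.propQCTopology QF := by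
  apply le_antisymm
  · rw [Scheme.fppfTopology, Precoverage.toGrothendieck_le_iff_le_toPrecoverage]
    intro S R hR
    obtain ⟨E', rfl⟩ := Precoverage.mem_iff_exists_zeroHypercover.1 hR
    let E : Scheme.Cover (Scheme.precoverage (@Flat ⊓ @LocallyOfFinitePresentation)) S := E'
    show Sieve.generate _ ∈ (Scheme.propQCTopology QF) S
    have hsurj : ∀ s : S, ∃ (i : E.I₀) (x : E.X i), E.f i x = s := fun s =>
      Scheme.Cover.exists_eq E s
    have key := fun s => S7198.result E.toPreZeroHypercover
      (fun i => (Scheme.Cover.map_prop E i).1) (fun i => (Scheme.Cover.map_prop E i).2) hsurj s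
    choose U W π hsU hπ hπs hW using key
    choose W' T ρ i r hwW hρ hρs hr using hW
    let 𝒱 : Scheme.Cover (Scheme.precoverage QF) S :=
      Scheme.Cover.mkOfCovers (Σ s : S, W s) (fun p => T p.1 p.2)
        (fun p => ρ p.1 p.2 ≫ (W' p.1 p.2).ι ≫ π p.1 ≫ (U p.1).ι)
        (fun s => by
          obtain ⟨w, hw⟩ := (hπs s).surj ⟨s, hsU s⟩
          obtain ⟨t, ht⟩ := (hρs s w).surj ⟨w, hwW s w⟩
          refine ⟨⟨s, w⟩, t, ?_⟩
          simp only [Scheme.Hom.comp_apply]
          rw [ht]
          show (U s).ι (π s w) = s
          rw [hw]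
          rfl)
        (fun p => by
          obtain ⟨_, _, _⟩ := hπ p.1
          obtain ⟨_, _, _⟩ := hρ p.1 p.2
          exact ⟨⟨inferInstance, inferInstance⟩, inferInstance⟩)
    have h𝒱 : Sieve.generate 𝒱.presieve₀ ∈ (Scheme.propQCTopology QF) S :=
      Precoverage.generate_mem_toGrothendieck
        ⟨Scheme.precoverage_le_qcPrecoverage_of_isOpenMap
          (fun X Y f ⟨⟨_, _⟩, _⟩ => f.isOpenMap) S 𝒱.mem₀, 𝒱.mem₀⟩
    refine GrothendieckTopology.superset_covering _ ?_ h𝒱
    rw [Sieve.generate_le_iff]
    rintro Y g ⟨p⟩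
    exact ⟨_, r p.1 p.2, E.f (i p.1 p.2), ⟨_⟩, hr p.1 p.2⟩
  · exact Precoverage.toGrothendieck_mono
      (inf_le_right.trans (Scheme.precoverage_mono fun _ _ _ h => h.1))

/-- A presheaf of sets on schemes is a sheaf for the fppf topology (the topology generated by jointly
surjective families of flat morphisms locally of finite presentation) if and only if it is a Zariski
sheaf and satisfies the sheaf condition for every single morphism of affine schemes `T ⟶ S` which is
flat, surjective, locally of finite presentation and locally quasi-finite. (Between affine schemes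
such a morphism is faithfully flat, of finite presentation and quasi-finite; that these quasi-finite
covers suffice rests on the existence of quasi-finite flat quasi-sections of flat surjective
morphisms locally of finite presentation.) -/
theorem result (F : Scheme.{u}ᵒᵖ ⥤ Type w) :
    Presheaf.IsSheaf Scheme.fppfTopology F ↔
      Presheaf.IsSheaf Scheme.zariskiTopology F ∧
        ∀ (T S : Scheme.{u}) [IsAffine T] [IsAffine S] (f : T ⟶ S)
          [Flat f] [Surjective f] [LocallyOfFinitePresentation f] [LocallyQuasiFinite f],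
          Presieve.IsSheafFor F (Presieve.singleton f) := by
  rw [fppfTopology_eq, isSheaf_iff_isSheaf_of_type, isSheaf_iff_isSheaf_of_type,
    isSheaf_type_propQCTopology_iff]
  refine ⟨fun h => ⟨h.1, fun T S _ _ f _ _ _ _ => ?_⟩, fun h => ⟨h.1, fun {R S} f hf hs => ?_⟩⟩
  · have hF := (isSheaf_type_propQCTopology_iff (P := QF) F).2 h
    exact hF.isSheafFor _ (Precoverage.generate_mem_toGrothendieck
      (Scheme.Hom.singleton_mem_propQCPrecoverage (P := QF) (f := f) ⟨⟨inferInstance, inferInstance⟩, inferInstance⟩))
  · obtain ⟨⟨_, _⟩, _⟩ := hf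
    exact h.2 _ _ (Spec.map f)

end Groth.Agent.S5238
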