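import Groth.Statements.S5244
import Groth.Agent.SGA3bLib.DiagQuot
import Mathlib.RingTheory.Localization.Away.Basic

set_option autoImplicit false
universe u
open TensorProduct SGA3b
open SGA3b

namespace Groth.Agent.S5244

/-- Case of a group of multiplicative type, assertion on the subgroup; G is taken of finite type, the
case the printed proof treats in full before a limit argument: Let k be a field, G = Spec A a
k-group of multiplicative type and of finite type, and H = Spec (A/J) a closed subgroup scheme of G
(J a Hopf ideal). Then H is of multiplicative type. (Affine group schemes over an affine base are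
taken in Hopf-algebra form; base change is the tensor product; a homomorphism of groups Spec A ⟶
Spec C is a bialgebra map C → A.) -/
theorem result (k : Type u) [Field k] (A : Type u) [CommRing A] [HopfAlgebra k A]
    (hft : Algebra.FiniteType k A) (h : IsMultType k A) (J : Ideal A) [J.IsHopfIdeal k] :
    IsMultType k (A ⧸ J) := by
  obtain ⟨s, hs, hloc⟩ := h
  obtain ⟨f, hfs, hf0⟩ : ∃ f ∈ s, f ≠ 0 := by
    by_contra! hall
    exact top_ne_bot (α := Ideal k) (hs.symm.trans (Ideal.span_eq_bot.mpr hall))
  refine ⟨{f}, Ideal.span_singleton_eq_top.mpr (isUnit_iff_ne_zero.mpr hf0), fun f' hf' => ?_⟩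
  rw [Set.mem_singleton_iff] at hf'
  subst hf'
  obtain ⟨R', _, _, hff, hd⟩ := hloc f' hfs
  let K := Localization.Away f'
  let e : k ≃ₐ[k] K := IsLocalization.atUnits k (Submonoid.powers f') (by
    rintro _ ⟨n, rfl⟩
    exact (isUnit_iff_ne_zero.mpr hf0).pow n)
  have hK : IsField K := MulEquiv.isField (Field.toIsField k) e.symm.toMulEquiv
  let : Field K := hK.toField
  have : Nontrivial R' := by
    have := hff
    exact (FaithfulSMul.algebraMap_injective K R').nontrivial
  obtain ⟨m, hm⟩ := Ideal.exists_maximal R'
  let : Field (R' ⧸ m) := Ideal.Quotient.field m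
  let L := R' ⧸ m
  have h1 := SGA3bLib.span_groupLike_bc L (SGA3bLib.span_groupLike_of_diag hd)
  have h2 := SGA3bLib.span_groupLike_map (SGA3bLib.cancelBC (R := K) R' L (Localization.Away f' ⊗[k] A)).toBialgHom
    (SGA3bLib.cancelBC (R := K) R' L (Localization.Away f' ⊗[k] A)).surjective h1
  let π : A →ₐc[k] A ⧸ J := Bialgebra.Quotient.mkBialgHom J
  have h3 := SGA3bLib.span_groupLike_map (SGA3bLib.bcHom L (SGA3bLib.bcHom K π))
    (SGA3bLib.bcHom_surjective L _ (SGA3bLib.bcHom_surjective K π Ideal.Quotient.mk_surjective)) h2
  exact ⟨L, inferInstance, inferInstance, inferInstance, SGA3bLib.isDiag_of_span_groupLike h3⟩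

end Groth.Agent.S5244
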