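import Groth.Statements.S5261
import Groth.Agent.SGA3cLib.TrivLocus
import Groth.Agent.S3042

set_option autoImplicit false
open CategoryTheory MonoidalCategory CartesianMonoidalCategory MonObj GrpObj AlgebraicGeometry
universe u
open SGA3x

namespace Groth.Agent.S5261

/-- Let u : H ⟶ G be a homomorphism of S-groups, with H of multiplicative type and of finite type, and
suppose S locally Noetherian or G locally of finite presentation over S. If for every s ∈ S the
homomorphism u_s : H_s ⟶ G_s induced on the fibres at s is a monomorphism, then u is a monomorphism. -/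
theorem result {S : Scheme.{u}} (H G : Over S) [GrpObj H] [GrpObj G]
    (hH : SGA3x.IsMultTypeFT H) (hG : IsLocallyNoetherian S ∨ LocallyOfFinitePresentation G.hom)
    (u : H ⟶ G) [IsMonHom u]
    (hfib : ∀ s : S, Mono ((Over.pullback (S.fromSpecResidueField s)).map u).left) :
    Mono u.left := by
  haveI := Agent.SGA3cLib.TrivLocus.locallyOfFinitePresentation_of_multTypeFT H hH
  haveI : LocallyOfFiniteType (u.left ≫ G.hom) := by rw [Over.w u]; infer_instance
  haveI : LocallyOfFiniteType u.left := locallyOfFiniteType_of_comp u.left G.hom
  rw [Agent.S3042.result]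
  intro y
  let σ := S.fromSpecResidueField (G.hom.base y)
  haveI := hfib (G.hom.base y)
  let l : Spec (G.left.residueField y) ⟶ Limits.pullback G.hom σ :=
    Limits.pullback.lift (G.left.fromSpecResidueField y) (Spec.map (G.hom.residueFieldMap y))
      (G.hom.SpecMap_residueFieldMap_fromSpecResidueField y).symm
  let m := ((Over.pullback σ).map u).left
  have h1 : IsPullback m (Limits.pullback.fst H.hom σ) (Limits.pullback.fst G.hom σ) u.left := by
    refine IsPullback.of_right ?_ ?_ (IsPullback.of_hasPullback G.hom σ).flip
    · rw [show m ≫ Limits.pullback.snd G.hom σ = Limits.pullback.snd H.hom σ from Over.w ((Over.pullback σ).map u), Over.w u]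
      exact (IsPullback.of_hasPullback H.hom σ).flip
    · exact Limits.pullback.lift_fst _ _ _
  have h2 : MorphismProperty.monomorphisms Scheme (Limits.pullback.snd m l) :=
    MorphismProperty.pullback_snd m l inferInstance
  have h3 := (IsPullback.of_hasPullback m l).paste_horiz h1.flip
  have h4 : IsPullback (Limits.pullback.fst m l ≫ Limits.pullback.fst H.hom σ) (Limits.pullback.snd m l) u.left
      (G.left.fromSpecResidueField y) := by
    rw [show l ≫ Limits.pullback.fst G.hom σ = G.left.fromSpecResidueField y from Limits.pullback.lift_fst _ _ _] at h3
    exact h3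
  show Mono (Limits.pullback.snd u.left (G.left.fromSpecResidueField y))
  rw [← h4.isoPullback_inv_snd]
  haveI : Mono (Limits.pullback.snd m l) := h2
  infer_instance

end Groth.Agent.S5261
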