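import Groth.Statements.S5262
import Groth.Agent.IsoTriv.IdemLiftHom
import Groth.Agent.IsoTriv.HenselianIso
import Groth.Agent.IsoTriv.MultBasic
import Groth.Agent.IsoTriv.SmoothLift

set_option autoImplicit false
universe u
open TensorProduct SGA3b
open SGA3b

namespace Groth.Agent.S5262

open SGA3bLib IsoTriv in
theorem exists_split {A : Type u} [CommRing A] [HenselianLocalRing A]
    {B : Type u} [CommRing B] [HopfAlgebra A B] [Module.Finite A B] (hG : IsMultType A B)
    {C : Type u} [CommRing C] [HopfAlgebra A C] [Module.Finite A C] (hH : IsMultType A C) :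
    ∃ (T : Type u) (_ : CommRing T) (_ : Algebra A T) (N : Type u) (_ : CommGroup N) (M : Type u) (_ : CommGroup M)
      (_ : T ⊗[A] C ≃ₐc[T] MonoidAlgebra T N) (_ : T ⊗[A] B ≃ₐc[T] MonoidAlgebra T M),
      Module.Finite A T ∧ Module.FaithfullyFlat A T := by
  obtain ⟨T₁, _, _, -, hfin₁, hff₁, M, _, ⟨e₁⟩⟩ := isIsotrivial_henselian (inferInstance : Algebra.FiniteType A B) hG
  obtain ⟨T₂, _, _, -, hfin₂, hff₂, N, _, ⟨e₂⟩⟩ := isIsotrivial_henselian (inferInstance : Algebra.FiniteType A C) hH
  let : Algebra T₂ (T₁ ⊗[A] T₂) := Algebra.TensorProduct.rightAlgebra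
  have : IsScalarTower A T₂ (T₁ ⊗[A] T₂) := .of_algebraMap_eq fun r =>
    (((Algebra.TensorProduct.includeRight : T₂ →ₐ[A] T₁ ⊗[A] T₂).commutes r)).symm
  have := hfin₁; have := hfin₂; have := hff₁; have := hff₂
  exact ⟨T₁ ⊗[A] T₂, inferInstance, inferInstance, N, inferInstance, M, inferInstance, bcTriv e₂, bcTriv e₁,
    Module.Finite.tensorProduct A T₁ T₂, Module.FaithfullyFlat.trans A T₁ (T₁ ⊗[A] T₂)⟩

/-- Full faithfulness of the reduction functor. Let A be a henselian local ring with residue field k,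
and G = Spec B, H = Spec C two A-groups of multiplicative type with B and C finite over A. Then
reduction to the closed fibre is a bijection from homomorphisms of A-groups G ⟶ H (bialgebra maps C
→ B) to homomorphisms of k-groups G₀ ⟶ H₀: two bialgebra maps C → B with the same reduction are
equal, and every bialgebra map k ⊗ C → k ⊗ B over k is a reduction. (The published statement is an
equivalence of categories between groups of multiplicative type finite over A and over k; this row
states only full faithfulness, i.e. that reduction is bijective on homomorphisms.) (Affine group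
schemes over an affine base are taken in Hopf-algebra form; base change is the tensor product; a
homomorphism of groups Spec A ⟶ Spec C is a bialgebra map C → A.) -/
theorem result (A : Type u) [CommRing A] [HenselianLocalRing A]
    (B : Type u) [CommRing B] [HopfAlgebra A B] [Module.Finite A B] (hG : IsMultType A B)
    (C : Type u) [CommRing C] [HopfAlgebra A C] [Module.Finite A C] (hH : IsMultType A C) :
    (∀ φ ψ : C →ₐc[A] B, (∀ c : C, (1 : IsLocalRing.ResidueField A) ⊗ₜ[A] (φ c) =
        (1 : IsLocalRing.ResidueField A) ⊗ₜ[A] (ψ c)) → φ = ψ) ∧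
    (∀ φ₀ : (IsLocalRing.ResidueField A ⊗[A] C) →ₐc[IsLocalRing.ResidueField A] (IsLocalRing.ResidueField A ⊗[A] B),
      ∃ φ : C →ₐc[A] B, ∀ c : C, φ₀ ((1 : IsLocalRing.ResidueField A) ⊗ₜ[A] c) =
        (1 : IsLocalRing.ResidueField A) ⊗ₜ[A] (φ c)) := by
  obtain ⟨T, _, _, N, _, M, _, eC, eB, hfin, hff⟩ := exists_split hG hH
  set m := IsLocalRing.maximalIdeal A
  let T₀ := T ⧸ m.map (algebraMap A T)
  have hπ : IsoTriv.IdemBij (algebraMap T T₀) := IsoTriv.IdemBij.of_finite m T
  constructor
  · intro φ ψ h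
    refine SGA3bLib.eq_of_bcHom_eq T (hπ.eq_of_split eC eB _ _ fun c => ?_)
    rw [SGA3bLib.bcHom_tmul, SGA3bLib.bcHom_tmul, IsoTriv.push_tmul, IsoTriv.push_tmul, map_one]
    let f : IsLocalRing.ResidueField A →ₐ[A] T₀ :=
      Ideal.Quotient.liftₐ m (Algebra.ofId A T₀) fun r hr => by
        rw [Algebra.ofId_apply, IsScalarTower.algebraMap_apply A T T₀]
        exact Ideal.Quotient.eq_zero_iff_mem.mpr (Ideal.mem_map_of_mem _ hr)
    have h1 := congrArg (IsoTriv.push B f) (h c)
    rwa [IsoTriv.push_tmul, IsoTriv.push_tmul, map_one] at h1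
  · intro φ₀
    let f : IsLocalRing.ResidueField A →ₐ[A] T₀ :=
      Ideal.Quotient.liftₐ m (Algebra.ofId A T₀) fun r hr => by
        rw [Algebra.ofId_apply, IsScalarTower.algebraMap_apply A T T₀]
        exact Ideal.Quotient.eq_zero_iff_mem.mpr (Ideal.mem_map_of_mem _ hr)
    obtain ⟨θ₀, hθ₀⟩ := IsoTriv.exists_push_bialg (T' := T₀) f φ₀
    obtain ⟨φT, hφT⟩ := hπ.exists_split_lift eC eB θ₀
    choose b hb using fun c => IsoTriv.exists_one_tmul m (φ₀ ((1 : IsLocalRing.ResidueField A) ⊗ₜ[A] c))
    have hp : ∀ c, IsoTriv.push B (IsScalarTower.toAlgHom A T T₀) (φT ((1 : T) ⊗ₜ[A] c)) = (1 : T₀) ⊗ₜ[A] b c :=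
      fun c => by
        rw [hφT, hθ₀]
        refine (congrArg (IsoTriv.push B f) (hb c)).trans ?_
        exact (IsoTriv.push_tmul ..).trans (by rw [show f (1 : A ⧸ m) = (1 : T₀) from map_one f])
    let U := T ⊗[A] T
    obtain ⟨φ, hφ⟩ := IsoTriv.exists_hom_of_cover (ι := PUnit.{u + 1}) (fun _ => T) (fun _ => inferInstance)
      (fun p => ⟨PUnit.unit, PrimeSpectrum.comap_surjective_of_faithfullyFlat p⟩) (fun _ => φT) fun _ _ c => by
      obtain ⟨θ₁, h₁⟩ := IsoTriv.exists_push_bialg (Algebra.TensorProduct.includeLeft : T →ₐ[A] U) φT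
      obtain ⟨θ₂, h₂⟩ := IsoTriv.exists_push_bialg (Algebra.TensorProduct.includeRight : T →ₐ[A] U) φT
      have : Module.Finite A U := Module.Finite.tensorProduct A T T
      let U₀ := U ⧸ m.map (algebraMap A U)
      have hπU : IsoTriv.IdemBij (algebraMap U U₀) := IsoTriv.IdemBij.of_finite m U
      have heq : θ₁ = θ₂ := hπU.eq_of_split (IsoTriv.bcTriv eC) (IsoTriv.bcTriv eB) θ₁ θ₂ fun c => by
        rw [h₁, h₂, IsoTriv.push_push, IsoTriv.push_push]
        have key : ∀ g : T →ₐ[A] U₀, IsoTriv.push B g (φT ((1 : T) ⊗ₜ[A] c)) = (1 : U₀) ⊗ₜ[A] b c := fun g => by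
          have hk : m.map (algebraMap A T) ≤ RingHom.ker g := Ideal.map_le_iff_le_comap.mpr fun r hr => by
            rw [Ideal.mem_comap, RingHom.mem_ker, g.commutes, IsScalarTower.algebraMap_apply A U U₀]
            exact Ideal.Quotient.eq_zero_iff_mem.mpr (Ideal.mem_map_of_mem _ hr)
          rw [show g = (Ideal.Quotient.liftₐ _ g hk).comp (IsScalarTower.toAlgHom A T T₀) from rfl,
            ← IsoTriv.push_push, hp, IsoTriv.push_tmul, map_one]
        rw [key, key]
      show IsoTriv.push B (Algebra.TensorProduct.includeLeft : T →ₐ[A] U) _ =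
        IsoTriv.push B (Algebra.TensorProduct.includeRight : T →ₐ[A] U) _
      rw [← h₁, ← h₂, heq]
    refine ⟨φ, fun c => ?_⟩
    have h1 := hp c
    rw [hφ PUnit.unit c, IsoTriv.push_tmul, map_one] at h1
    have := IsoTriv.flat_of_isMultType hG
    have hT0 : Nontrivial T₀ := Ideal.Quotient.nontrivial_iff.mpr fun htop => by
      obtain ⟨q, hq⟩ := PrimeSpectrum.comap_surjective_of_faithfullyFlat (B := T)
        (IsLocalRing.closedPoint A)
      have hle : m.map (algebraMap A T) ≤ q.asIdeal := Ideal.map_le_iff_le_comap.mpr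
        (congrArg PrimeSpectrum.asIdeal hq).ge
      exact q.2.ne_top (top_le_iff.mp (htop ▸ hle))
    have hinj : Function.Injective (f.toLinearMap.rTensor B) :=
      Module.Flat.rTensor_preserves_injective_linearMap _ (f.toRingHom.injective)
    rw [hb]
    refine hinj ?_
    show f (1 : A ⧸ m) ⊗ₜ[A] b c = f (1 : IsLocalRing.ResidueField A) ⊗ₜ[A] φ c
    exact ((congrArg (· ⊗ₜ[A] b c) (map_one f)).trans h1.symm).trans (congrArg (· ⊗ₜ[A] φ c) (map_one f)).symm

end Groth.Agent.S5262
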