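import Groth.Statements.S5263
import Groth.Agent.SGA3cLib.HomDSBC
import Groth.Agent.SGA3cLib.HomGroup
import Groth.Agent.SGA3cLib.FpqcCov
import Groth.Agent.Et18.Descent

set_option autoImplicit false
open CategoryTheory MonoidalCategory CartesianMonoidalCategory MonObj GrpObj AlgebraicGeometry
universe u
open SGA3x

namespace Groth.Agent.S5263


open CategoryTheory.Limits

open Groth.Agent.SGA3cLib in
theorem local_case {S U : Scheme.{u}} (g : U ⟶ S) {G H A : Over S} [GrpObj G] [GrpObj H]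
    [IsFinite G.hom] [IsFinite H.hom] {υ : G ⊗ A ⟶ H} (h : AutFam.RepresentsHom G H A υ)
    {M N : Type} [AddCommGroup M] [AddCommGroup N] [AddGroup.FG N]
    (eG : Red.bc g G ≅ Red.DS U M) [IsMonHom eG.hom] (eH : Red.bc g H ≅ Red.DS U N) [IsMonHom eH.hom] :
    IsFinite (pullback.snd A.hom g) ∧ Etale (pullback.snd A.hom g) := by
  rcases isEmpty_or_nonempty U with hU | hU
  · exact ⟨inferInstance, inferInstance⟩
  obtain ⟨υ₁, h₁⟩ := HomDSBC.exists_bc g h
  haveI : IsMonHom eG.symm.hom := inferInstanceAs (IsMonHom eG.inv)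
  obtain ⟨υ₂, h₂⟩ := HomDSBC.exists_congr eG.symm eH h₁
  obtain ⟨υ₃, h₃⟩ := HomDS.exists_universal (U := U) (M := M) (N := N)
  obtain ⟨e⟩ := HomDSBC.unique h₂ h₃
  have hfinM : Finite M := by
    refine HomDSBC.finite_of_isFinite_DS (U := U) M ?_
    rw [← Over.w eG.inv]
    haveI : IsFinite (Red.bc g G).hom := MorphismProperty.pullback_snd (P := @IsFinite) _ _ inferInstance
    infer_instance
  have hfinN : Finite N := by
    refine HomDSBC.finite_of_isFinite_DS (U := U) N ?_
    rw [← Over.w eH.inv]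
    haveI : IsFinite (Red.bc g H).hom := MorphismProperty.pullback_snd (P := @IsFinite) _ _ inferInstance
    infer_instance
  haveI : Finite (N →+ M) := Finite.of_injective _ DFunLike.coe_injective
  haveI := HomDS.isFinite_const U (N →+ M)
  haveI := HomDS.etale_const U (N →+ M)
  show IsFinite (Red.bc g A).hom ∧ Etale (Red.bc g A).hom
  rw [← Over.w e.hom]
  exact ⟨inferInstance, inferInstance⟩

/-- Let G and H be S-groups of multiplicative type which are finite over S. Then the functor of group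
homomorphisms from G to H is representable by an S-scheme which is finite and etale over S (with its
universal family of homomorphisms). -/
theorem result {S : Scheme.{u}} (G H : Over S) [GrpObj G] [GrpObj H]
    (hG : SGA3x.IsMultTypeFT G) [IsFinite G.hom] (hH : SGA3x.IsMultTypeFT H) [IsFinite H.hom] :
    ∃ (A : Over S) (υ : G ⊗ A ⟶ H), AutFam.RepresentsHom G H A υ ∧ IsFinite A.hom ∧ Etale A.hom := by
  haveI := SGA3cLib.HomGroup.flat_of_multTypeFT G hG
  haveI := SGA3cLib.TrivLocus.locallyOfFinitePresentation_of_multTypeFT G hG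
  obtain ⟨A, υ, hA, -, -, -⟩ := SGA3cLib.HomGroup.exists_homGroup G H
  refine ⟨A, υ, hA, ?_⟩
  obtain ⟨S₁, f₁, hf₁, -, hq₁, hU₁⟩ := hG
  obtain ⟨S₂, f₂, hf₂, -, hq₂, hU₂⟩ := hH
  haveI := hf₁
  haveI := hf₂
  haveI := Groth.Agent.Et18.descends_isFinite.{u}
  have key : ∀ (P : MorphismProperty Scheme.{u}) [IsZariskiLocalAtTarget P] [P.IsStableUnderBaseChange]
      [P.DescendsAlong (@Surjective ⊓ @Flat ⊓ @QuasiCompact)],
      (∀ (W : Scheme.{u}) (g : W ⟶ S), IsFinite (pullback.snd A.hom g) ∧ Etale (pullback.snd A.hom g) →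
        P (pullback.snd A.hom g)) → P A.hom := by
    intro P _ _ _ hP
    refine (SGA3cLib.IsFpqcCov.of_forall f₁ hq₁).descend P A.hom ?_
    choose U₁ hm₁ M i₁ hM e₁ using hU₁
    rw [IsZariskiLocalAtTarget.iff_of_openCover (P := P) (S₁.openCoverOfIsOpenCover U₁
      (TopologicalSpace.IsOpenCover.mk (top_le_iff.1 fun y _ => TopologicalSpace.Opens.mem_iSup.2 ⟨y, hm₁ y⟩)))]
    intro (x : S₁)
    change P (pullback.snd (pullback.snd A.hom f₁) (U₁ x).ι)
    rw [← pullbackLeftPullbackSndIso_hom_snd, MorphismProperty.cancel_left_of_respectsIso P]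
    let g₁ := (U₁ x).ι ≫ f₁
    refine ((SGA3cLib.IsFpqcCov.of_forall f₂ hq₂).pullback_snd g₁).descend P (pullback.snd A.hom g₁) ?_
    choose U₂ hm₂ N i₂ hN e₂ using hU₂
    let O : S₂ → (pullback f₂ g₁).Opens := fun y => pullback.fst f₂ g₁ ⁻¹ᵁ U₂ y
    rw [IsZariskiLocalAtTarget.iff_of_openCover (P := P) ((pullback f₂ g₁).openCoverOfIsOpenCover O
      (TopologicalSpace.IsOpenCover.mk (top_le_iff.1 fun y _ =>
        TopologicalSpace.Opens.mem_iSup.2 ⟨pullback.fst f₂ g₁ y, hm₂ _⟩)))]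
    intro (y : S₂)
    change P (pullback.snd (pullback.snd (pullback.snd A.hom g₁) (pullback.snd f₂ g₁)) (O y).ι)
    rw [← pullbackLeftPullbackSndIso_hom_snd (pullback.snd A.hom g₁) (pullback.snd f₂ g₁) (O y).ι,
      MorphismProperty.cancel_left_of_respectsIso P,
      ← pullbackLeftPullbackSndIso_hom_snd A.hom g₁ ((O y).ι ≫ pullback.snd f₂ g₁),
      MorphismProperty.cancel_left_of_respectsIso P]
    set g := ((O y).ι ≫ pullback.snd f₂ g₁) ≫ g₁
    obtain ⟨eG, heG, -⟩ := SGA3cLib.GrpBC.nonempty_iso_restrict g₁ ((O y).ι ≫ pullback.snd f₂ g₁) g rfl G (e₁ x).some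
    obtain ⟨eH, heH, -⟩ := SGA3cLib.GrpBC.nonempty_iso_restrict ((U₂ y).ι ≫ f₂)
      ((pullback.fst f₂ g₁).resLE (U₂ y) (O y) le_rfl) g (by
        rw [Scheme.Hom.resLE_comp_ι_assoc]
        simp only [g, Category.assoc, pullback.condition]) H (e₂ y).some
    haveI := heG
    haveI := heH
    haveI := hN y
    exact hP _ _ (local_case g hA eG eH)
  exact ⟨key @IsFinite fun _ _ h => h.1, key @Etale fun _ _ h => h.2⟩

end Groth.Agent.S5263
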