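import Groth.Statements.S5270
import Groth.Agent.SGA3bLib.Stages

set_option autoImplicit false
universe u
open TensorProduct SGA3b
open SGA3b

namespace Groth.Agent.S5270

/-- Injectivity of the map to formal homomorphisms. Let A be a Noetherian ring, separated and complete
for the I-adic topology, H = Spec B an isotrivial A-group of multiplicative type and G = Spec C an
affine A-group. If two homomorphisms H ⟶ G, given by bialgebra maps φ, ψ : C → B, have the same
reduction modulo I^(n+1) for every n ≥ 0, then φ = ψ. (Affine group schemes over an affine base are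
taken in Hopf-algebra form; base change is the tensor product; a homomorphism of groups Spec A ⟶
Spec C is a bialgebra map C → A.) -/
theorem result (A : Type u) [CommRing A] [IsNoetherianRing A] (I : Ideal A) [IsAdicComplete I A]
    (B : Type u) [CommRing B] [HopfAlgebra A B] (hH : IsIsotrivial A B)
    (C : Type u) [CommRing C] [HopfAlgebra A C] (φ ψ : C →ₐc[A] B)
    (h : ∀ (n : ℕ) (c : C), (1 : A ⧸ I ^ (n + 1)) ⊗ₜ[A] (φ c) = (1 : A ⧸ I ^ (n + 1)) ⊗ₜ[A] (ψ c)) :
    φ = ψ := by
  classical
  obtain ⟨R', _, _, _, _, _, M, _, ⟨e⟩⟩ := hH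
  refine Groth.Agent.SGA3bLib.eq_of_bcHom_eq R' ?_
  ext x
  apply EquivLike.injective e
  refine Groth.Agent.SGA3bLib.ext_coef fun m => sub_eq_zero.mp ?_
  have hI : I.map (algebraMap A R') ≤ Ideal.jacobson ⊥ := by
    refine Ideal.map_le_iff_le_comap.mpr fun i hi => ?_
    rw [Ideal.mem_comap, Ideal.jacobson, Ideal.mem_sInf]
    rintro J ⟨-, hJ⟩
    have : (J.comap (algebraMap A R')).IsMaximal :=
      Ideal.isMaximal_comap_of_isIntegral_of_isMaximal (R := A) J
    have h1 := IsAdicComplete.le_jacobson_bot I hi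
    rw [Ideal.jacobson, Ideal.mem_sInf] at h1
    exact h1 ⟨bot_le, this⟩
  have : IsNoetherianRing R' := IsNoetherianRing.of_finite A R'
  have hmem : ∀ n : ℕ, Groth.Agent.SGA3bLib.coef m (e (Groth.Agent.SGA3bLib.bcHom R' φ x)) -
      Groth.Agent.SGA3bLib.coef m (e (Groth.Agent.SGA3bLib.bcHom R' ψ x)) ∈ (I.map (algebraMap A R')) ^ n := by
    intro n
    have h1 := Groth.Agent.SGA3bLib.hyp_bc R' (I := I ^ (n + 1))
      (fun c => Groth.Agent.SGA3bLib.mem_map_of_one_tmul (h n c)) x
    have h2 := Groth.Agent.SGA3bLib.sub_mem_of_equiv e (φ := Groth.Agent.SGA3bLib.bcHom R' φ)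
      (ψ := Groth.Agent.SGA3bLib.bcHom R' ψ) (I := (I ^ (n + 1)).map (algebraMap A R'))
      (fun y => Groth.Agent.SGA3bLib.hyp_bc R' (fun c => Groth.Agent.SGA3bLib.mem_map_of_one_tmul (h n c)) y) m x
    refine Ideal.pow_le_pow_right n.le_succ ?_
    rw [← Ideal.map_pow]
    exact h2
  have hbot : (⨅ n : ℕ, (I.map (algebraMap A R')) ^ n • (⊤ : Submodule R' R')) = ⊥ :=
    Ideal.iInf_pow_smul_eq_bot_of_le_jacobson (I.map (algebraMap A R')) hI
  rw [← Submodule.mem_bot R', ← hbot, Submodule.mem_iInf]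
  intro n
  rw [smul_eq_mul, Ideal.mul_top]
  exact hmem n

end Groth.Agent.S5270
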