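import Groth.Statements.S5275
import Groth.Agent.SGA3cLib.MultHomLocus

set_option autoImplicit false
open CategoryTheory MonoidalCategory CartesianMonoidalCategory MonObj GrpObj AlgebraicGeometry
universe u
open SGA3x

namespace Groth.Agent.S5275

/-- Let u : G ⟶ H be a homomorphism of S-groups of multiplicative type and of finite type. Then the set
U of points s ∈ S such that u_s : G_s ⟶ H_s is an isomorphism is open and closed in S, and the
homomorphism G|_U ⟶ H|_U induced above U is an isomorphism. -/
theorem result {S : Scheme.{u}} (G H : Over S) [GrpObj G] [GrpObj H]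
    (hG : SGA3x.IsMultTypeFT G) (hH : SGA3x.IsMultTypeFT H) (u : G ⟶ H) [IsMonHom u] :
    ∃ U : S.Opens, IsClosed (U : Set S) ∧
      (∀ s : S, s ∈ U ↔ IsIso ((Over.pullback (S.fromSpecResidueField s)).map u).left) ∧
      IsIso ((Over.pullback U.ι).map u).left := by
  have hG' : TwC.Locally S TwC.Topology.fpqc (fun S' g => ∃ (M : Type) (_ : AddCommGroup M),
      Nonempty (Grp.mk (Red.bc g G) ≅ Grp.mk (Red.DS S' M))) := by
    obtain ⟨S', f, h1, h2, h3, h4⟩ := hG
    exact ⟨S', f, h1, h2, h3, fun s => by obtain ⟨U, hU, M, hM, -, he⟩ := h4 s; exact ⟨U, hU, M, hM, he⟩⟩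
  exact Agent.SGA3cLib.MultHomLocus.exists_clopen (MorphismProperty.isomorphisms Scheme.{u})
    (fun M N _ _ φ => Function.Bijective φ) (fun M N _ _ φ h U => Agent.SGA3cLib.MultHomLocus.isIso_of_bijective φ h U)
    (fun M N _ _ φ U K _ k h => Agent.SGA3cLib.MultHomLocus.bijective_of_isIso φ k h) G H hG' hH u

end Groth.Agent.S5275
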