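import Groth.Statements.S5278
import Mathlib

set_option autoImplicit false
open CategoryTheory AlgebraicGeometry
universe u
open SGA3x

namespace Groth.Agent.S5278

/-- Let X be a connected scheme, f : X' ⟶ X a finite etale morphism and x a point of X. Then every
connected component of X' meets the fibre of f over x; equivalently the map from the connected
components of the fibre (or of the geometric fibre) to those of X' is surjective. -/
theorem result {X X' : Scheme.{u}} [ConnectedSpace X] (f : X' ⟶ X)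
    [IsFinite f] [Etale f] (x : X) (c : X') :
    ∃ x' : X', f.base x' = x ∧ x' ∈ connectedComponent c := by
  classical
  have hfin : (f.base ⁻¹' {x}).Finite := IsFinite.finite_preimage_singleton f x
  have : Finite (f.base ⁻¹' {x}) := hfin.to_subtype
  have himg : ∀ U : Set X', IsClopen U → U.Nonempty → ∃ y ∈ U, f.base y = x := by
    intro U hU hne
    have h1 : IsClopen (f.base '' U) := ⟨f.isClosedMap _ hU.1, f.isOpenMap _ hU.2⟩
    have := h1.eq_univ (hne.image _)
    exact (this ▸ Set.mem_univ x : x ∈ f.base '' U)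
  let T : Set (Set X') := {U | IsClopen U ∧ c ∈ U}
  obtain ⟨U, ⟨hU, hcU⟩, hmin⟩ : ∃ U ∈ T, ∀ V ∈ T, (U ∩ f.base ⁻¹' {x}).ncard ≤ (V ∩ f.base ⁻¹' {x}).ncard :=
    ⟨Function.argminOn (fun U => (U ∩ f.base ⁻¹' {x}).ncard) T ⟨Set.univ, isClopen_univ, trivial⟩,
      Function.argminOn_mem _ T _, fun V hV => Function.argminOn_le (fun U => (U ∩ f.base ⁻¹' {x}).ncard) T hV⟩
  obtain ⟨y, hyU, hyx⟩ := himg U hU ⟨c, hcU⟩
  refine ⟨y, hyx, ?_⟩
  have hpre : _root_.IsPreconnected U := by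
    rw [isPreconnected_iff_subset_of_disjoint_closed]
    intro u v hu hv hsub hdis
    by_contra hcon
    push Not at hcon
    obtain ⟨hnu, hnv⟩ := hcon
    have e : U ∩ v = U \ u := by
      ext z
      simp only [Set.mem_inter_iff, Set.mem_sdiff]
      refine ⟨fun h => ⟨h.1, fun hz => ?_⟩, fun h => ⟨h.1, (hsub h.1).resolve_left h.2⟩⟩
      exact Set.notMem_empty z (hdis ▸ ⟨h.1, hz, h.2⟩)
    have e' : U ∩ u = U \ v := by
      ext z
      simp only [Set.mem_inter_iff, Set.mem_sdiff]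
      refine ⟨fun h => ⟨h.1, fun hz => ?_⟩, fun h => ⟨h.1, (hsub h.1).resolve_right h.2⟩⟩
      exact Set.notMem_empty z (hdis ▸ ⟨h.1, h.2, hz⟩)
    have hcl_u : IsClopen (U ∩ u) := ⟨hU.1.inter hu, e' ▸ hU.2.sdiff hv⟩
    have hcl_v : IsClopen (U ∩ v) := ⟨hU.1.inter hv, e ▸ hU.2.sdiff hu⟩
    have hneu : (U ∩ u).Nonempty := by
      obtain ⟨z, hz, hz'⟩ := Set.not_subset.mp hnv
      exact ⟨z, hz, (hsub hz).resolve_right hz'⟩
    have hnev : (U ∩ v).Nonempty := by
      obtain ⟨z, hz, hz'⟩ := Set.not_subset.mp hnu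
      exact ⟨z, hz, (hsub hz).resolve_left hz'⟩
    have key : ∀ V V' : Set X', IsClopen (U ∩ V) → IsClopen (U ∩ V') → c ∈ U ∩ V →
        (U ∩ V').Nonempty → (∀ z, z ∈ U → z ∈ V → z ∈ V' → False) → False := by
      intro V V' hV hV' hc hne hd
      obtain ⟨z, ⟨hzU, hzV'⟩, hzx⟩ := himg _ hV' hne
      refine (hmin _ ⟨hV, hc⟩).not_gt (Set.ncard_lt_ncard ?_ (hfin.inter_of_right _))
      exact ⟨fun w hw => ⟨hw.1.1, hw.2⟩, fun h => hd z hzU (h ⟨hzU, hzx⟩).1.2 hzV'⟩
    have hd' : ∀ z, z ∈ U → z ∈ u → z ∈ v → False := fun z a b d =>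
      Set.notMem_empty z (hdis ▸ ⟨a, b, d⟩)
    rcases hsub hcU with hc | hc
    · exact key u v hcl_u hcl_v ⟨hcU, hc⟩ hnev hd'
    · exact key v u hcl_v hcl_u ⟨hcU, hc⟩ hneu fun z a b d => hd' z a d b
  exact hpre.subset_connectedComponent hcU hyU

end Groth.Agent.S5278
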