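import Groth.Statements.S5280
import Groth.Agent.S5279

set_option autoImplicit false
open CategoryTheory MonoidalCategory CartesianMonoidalCategory MonObj GrpObj AlgebraicGeometry
universe u
open SGA3x

namespace Groth.Agent.S5280

/-- The action by conjugation through a homomorphism. -/
noncomputable def conjAct {S : Scheme.{u}} {G H : Over S} [GrpObj G] [GrpObj H] (u : G ⟶ H) [IsMonHom u] :
    AlgGrp.Action G H where
  act := (fst G H ≫ u) * snd G H * (fst G H ≫ u)⁻¹
  one_act := by
    rw [MonObj.comp_mul, MonObj.comp_mul, GrpObj.comp_inv, ← Category.assoc, whiskerRight_fst, Category.assoc,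
      IsMonHom.one_hom, whiskerRight_snd]
    have h1 : fst (𝟙_ (Over S)) H ≫ η[H] = 1 := by
      rw [Hom.one_def]
      congr 1
    rw [h1, inv_one, _root_.mul_one, _root_.one_mul, leftUnitor_hom]
  mul_act := by
    have key : ∀ {Y : Over S} (x : Y ⟶ (G ⊗ G) ⊗ H),
        x ≫ (μ[G] ▷ H) ≫ ((fst G H ≫ u) * snd G H * (fst G H ≫ u)⁻¹) =
        x ≫ (α_ G G H).hom ≫ (G ◁ ((fst G H ≫ u) * snd G H * (fst G H ≫ u)⁻¹)) ≫
          ((fst G H ≫ u) * snd G H * (fst G H ≫ u)⁻¹) := fun x => by
      simp only [MonObj.comp_mul, GrpObj.comp_inv, whiskerRight_fst_assoc, whiskerLeft_fst_assoc, whiskerRight_snd,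
        whiskerLeft_snd, associator_hom_fst_assoc]
      have hμ : x ≫ fst (G ⊗ G) H ≫ μ[G] ≫ u =
          (x ≫ fst (G ⊗ G) H ≫ fst G G ≫ u) * (x ≫ fst (G ⊗ G) H ≫ snd G G ≫ u) := by
        rw [← MonObj.comp_mul, ← MonObj.comp_mul, ← MonObj.mul_comp, Hom.mul_def, lift_fst_snd]
        simp
      simp only [Category.assoc, MonObj.comp_mul, GrpObj.comp_inv, hμ, associator_hom_snd_fst_assoc,
        associator_hom_snd_snd, whiskerLeft_snd_assoc]
      group
    simpa using key (𝟙 _)


/-- Let i₀ : S₀ ⟶ S be a closed immersion whose ideal is locally nilpotent (nilpotent on each member of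
an affine open cover of S; in particular S₀ and S have the same underlying space), u : G ⟶ H a
homomorphism of S-groups with G of multiplicative type (fpqc-locally on S isomorphic, as a group, to
diagonalisable groups D(M), M allowed to vary and taken in Type 0) and H locally of finite
presentation over S. If the restriction u₀ of u to S₀ is central (u(g) commutes with h for all
points g of G and h of H defined over an S₀-scheme), then u is central. -/
theorem result {S S₀ : Scheme.{u}} (i₀ : S₀ ⟶ S) [IsClosedImmersion i₀]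
    (hnil : ∀ x : S, ∃ U : S.affineOpens, x ∈ (U : S.Opens) ∧ IsNilpotent (i₀.ker.ideal U))
    (G H : Over S) [GrpObj G] [GrpObj H] (hG : TwC.Locally S TwC.Topology.fpqc (fun S' f => ∃ (M : Type) (_ : AddCommGroup M), Nonempty (Grp.mk (Red.bc f G) ≅ Grp.mk (Red.DS S' M))))
    [LocallyOfFinitePresentation H.hom] (u : G ⟶ H) [IsMonHom u]
    (h0 : ∀ (Y : Over S) (p : Y ⟶ Over.mk i₀) (g : Y ⟶ G) (h : Y ⟶ H), (g ≫ u) * h = h * (g ≫ u)) :
    ∀ (Y : Over S) (g : Y ⟶ G) (h : Y ⟶ H), (g ≫ u) * h = h * (g ≫ u) := by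
  intro Y g h
  have ht := S5279.result i₀ hnil G H hG (conjAct u) ?_ Y g h
  · have : (g ≫ u) * h * (g ≫ u)⁻¹ = h := by
      simpa [conjAct, MonObj.comp_mul, GrpObj.comp_inv] using ht
    exact mul_inv_eq_iff_eq_mul.mp this
  · intro Y' p g' h'
    have : lift g' h' ≫ (conjAct u).act = (g' ≫ u) * h' * (g' ≫ u)⁻¹ := by
      simp [conjAct, MonObj.comp_mul, GrpObj.comp_inv]
    rw [this, h0 Y' p g' h', mul_inv_cancel_right]

end Groth.Agent.S5280
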