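import Groth.Statements.S5281
import Groth.Agent.SGA3Power26.NilFT
import Groth.Agent.S2973
import Groth.Agent.S2979
import Groth.Agent.SGA3cLib.HomGroup
import Groth.Agent.IsoTriv.QuasiBC
import Groth.Agent.AlgSpLib.ThickGlobal

set_option autoImplicit false
set_option linter.style.haveILetI false
set_option backward.isDefEq.respectTransparency.types false
open CategoryTheory MonoidalCategory CartesianMonoidalCategory MonObj GrpObj AlgebraicGeometry
universe u
open SGA3x CategoryTheory.Limits Groth.Agent CoactBr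
open scoped TensorProduct

namespace Groth.Agent.S5281

/-- Let S = Spec R be affine, J a nilpotent ideal of R, S₀ = Spec (R/J), G an S-group which is smooth
over S, and j₀ : H₀ ⟶ G₀ = G ×_S S₀ a sub-group-scheme (a homomorphism which is an immersion) of
multiplicative type (H₀ fpqc-locally on S₀ isomorphic, as a group, to diagonalisable groups D(M), M
allowed to vary and taken in Type 0). Then there is a subgroup scheme j : H ⟶ G (a homomorphism
which is an immersion), with H flat over S, whose base change to S₀ coincides with H₀ as a subgroup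
of G₀: there is an isomorphism H ×_S S₀ ≅ H₀ over S₀ compatible with the two maps to G₀. -/
theorem result {R : Type u} [CommRing R] (J : Ideal R) (hJ : IsNilpotent J)
    (G : Over (Spec (CommRingCat.of R))) [GrpObj G] (hG : Smooth G.hom)
    (H₀ : Over (Spec (CommRingCat.of (R ⧸ J)))) [GrpObj H₀]
    (hH₀ : TwC.Locally (Spec (CommRingCat.of (R ⧸ J))) TwC.Topology.fpqc (fun S' f => ∃ (M : Type) (_ : AddCommGroup M), Nonempty (Grp.mk (Red.bc f H₀) ≅ Grp.mk (Red.DS S' M))))
    (j₀ : H₀ ⟶ Red.bc (Spec.map (CommRingCat.ofHom (Ideal.Quotient.mk J))) G) [IsMonHom j₀] [IsImmersion j₀.left] :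
    ∃ (H : Over (Spec (CommRingCat.of R))) (_ : GrpObj H) (j : H ⟶ G), IsMonHom j ∧ IsImmersion j.left ∧ Flat H.hom ∧
      ∃ φ : Red.bc (Spec.map (CommRingCat.ofHom (Ideal.Quotient.mk J))) H ≅ H₀, φ.hom ≫ j₀ = (Over.pullback (Spec.map (CommRingCat.ofHom (Ideal.Quotient.mk J)))).map j := by
  let q := SGA3Power26.HomLiftMult.thick J
  haveI : Smooth (Red.bc q G).hom := inferInstanceAs (Smooth (pullback.snd G.hom q))
  haveI := SGA3Power26.HomLiftMult.isAffineHom_of_isMT H₀ hH₀
  haveI : IsAffine H₀.left := isAffine_of_isAffineHom H₀.hom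
  haveI : LocallyOfFiniteType H₀.hom := by rw [← Over.w j₀]; infer_instance
  obtain ⟨A₀, _, _, ⟨e₀⟩⟩ := IsoTriv.SchemeSpec.exists_spec H₀
  let i₀ : H₀ ≅ sp (R ⧸ J) A₀ := (Grp.forget _).mapIso e₀
  have hft : Algebra.FiniteType (R ⧸ J) A₀ := by
    have h1 : LocallyOfFiniteType (sp (R ⧸ J) A₀).hom := by rw [← Over.w i₀.inv]; infer_instance
    have h2 : LocallyOfFiniteType (Spec.map (CommRingCat.ofHom (algebraMap (R ⧸ J) A₀))) := h1
    rw [HasRingHomProperty.Spec_iff (P := @LocallyOfFiniteType), CommRingCat.hom_ofHom,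
      RingHom.finiteType_algebraMap] at h2
    exact h2
  have hJ' : ∀ x ∈ J, IsNilpotent x := fun x hx => by
    obtain ⟨n, hn⟩ := hJ
    exact ⟨n, by simpa [hn] using Ideal.pow_mem_pow hx n⟩
  have hmt := SGA3Power26.HomLiftMult.isMultType_of_isMT (SGA3Power26.HomLiftMult.isMT_of_iso e₀ hH₀)
  obtain ⟨A, _, _, hq, ⟨ε⟩⟩ := S2979.result R J hJ' A₀ (S2973.result _ A₀ hft hmt)
  haveI hftA : Algebra.FiniteType R A := SGA3Power26.NilFT.finiteType_of_quotient J hJ
    (hft.equiv ε.symm.toAlgEquiv)
  have hH := IsoTriv.SchemeBridge.multTypeFT_of_isMultType hftA (IsoTriv.isMultType_of_isQuasiIsotrivial hq)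
  obtain ⟨b⟩ := IsoTriv.SchemeSpec.nonempty_bc_spec (R := R) (R ⧸ J) A
  obtain ⟨i⟩ := IsoTriv.SchemeSpec.nonempty_grpIso ε
  let E := b ≪≫ i ≪≫ e₀.symm
  let φ : Red.bc q (sp R A) ≅ H₀ := (Grp.forget _).mapIso E
  haveI : IsMonHom φ.hom := inferInstanceAs (IsMonHom E.hom.hom.hom)
  obtain ⟨j, hj, hj'⟩ := SGA3Power26.HomLiftMult.exists_lift (φ.hom ≫ j₀) hJ (SGA3Power26.HomLiftMult.isMT_of_multTypeFT hH)
  refine ⟨sp R A, inferInstance, j, hj, ?_, SGA3cLib.HomGroup.flat_of_multTypeFT _ hH, φ, hj'.symm⟩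
  haveI : IsClosedImmersion q := IsClosedImmersion.spec_of_surjective _ Ideal.Quotient.mk_surjective
  haveI : Surjective q := ⟨fun p => ⟨⟨(p : PrimeSpectrum R).asIdeal.map (Ideal.Quotient.mk J),
    Ideal.map_isPrime_of_surjective Ideal.Quotient.mk_surjective (by
      rw [Ideal.mk_ker]; exact fun x hx => nilradical_le_prime _ (hJ' x hx))⟩,
    PrimeSpectrum.ext (by
      show (Ideal.map _ _).comap (Ideal.Quotient.mk J) = _
      rw [Ideal.comap_map_of_surjective _ Ideal.Quotient.mk_surjective, sup_eq_left,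
        ← RingHom.ker_eq_comap_bot, Ideal.mk_ker]
      exact fun x hx => nilradical_le_prime _ (hJ' x hx))⟩⟩
  haveI : IsClosedImmersion (pullback.fst G.hom q) := MorphismProperty.pullback_fst G.hom q inferInstance
  haveI : Surjective (pullback.fst G.hom q) := MorphismProperty.pullback_fst G.hom q inferInstance
  haveI : IsImmersion ((Over.pullback q).map j).left := by
    rw [hj', Over.comp_left]; infer_instance
  haveI : LocallyOfFiniteType (sp R A).hom := by
    show LocallyOfFiniteType (Spec.map (CommRingCat.ofHom (algebraMap R A)))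
    rw [HasRingHomProperty.Spec_iff (P := @LocallyOfFiniteType), CommRingCat.hom_ofHom,
      RingHom.finiteType_algebraMap]
    exact hftA
  haveI : LocallyOfFiniteType j.left := by
    have : LocallyOfFiniteType (j.left ≫ G.hom) := by rw [Over.w j]; infer_instance
    exact locallyOfFiniteType_of_comp j.left G.hom
  refine AlgSpLib.isImmersion_of_thick (jU := pullback.fst (sp R A).hom q)
    (h₀ := ((Over.pullback q).map j).left) (jV := pullback.fst G.hom q)
    (IsPullback.of_bot (v₂₁ := pullback.snd G.hom q) (v₂₂ := G.hom) (h₃₁ := q) ?_ ?_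
      (IsPullback.of_hasPullback G.hom q))
  · have e1 : ((Over.pullback q).map j).left ≫ pullback.snd G.hom q = pullback.snd (sp R A).hom q :=
      pullback.lift_snd _ _ _
    rw [e1, Over.w j]
    exact IsPullback.of_hasPullback (sp R A).hom q
  · exact (pullback.lift_fst _ _ _).symm

end Groth.Agent.S5281
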