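import Groth.Statements.S5282
import Groth.Agent.MultExt26.Scheme

set_option autoImplicit false
set_option linter.style.haveILetI false
set_option backward.isDefEq.respectTransparency.types false
open CategoryTheory MonoidalCategory CartesianMonoidalCategory MonObj GrpObj AlgebraicGeometry
universe u
open SGA3x

namespace Groth.Agent.S5282

/-- Let S be a locally Noetherian, integral and normal scheme (all local rings integrally closed
domains) with generic point η, H an S-group smooth over S with connected fibres, T an S-group of
multiplicative type and of finite type, and u_η : H_η ⟶ T_η a homomorphism between the generic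
fibres. Then u_η extends to a homomorphism of S-groups u : H ⟶ T (whose base change to η is u_η). -/
theorem result {S : Scheme.{u}} [IsIntegral S] [IsLocallyNoetherian S]
    (hnorm : ∀ x : S, IsIntegrallyClosed (S.presheaf.stalk x))
    (H T : Over S) [GrpObj H] [GrpObj T] (hH : Smooth H.hom)
    (hconn : ∀ s : S, ConnectedSpace ↥(Limits.pullback H.hom (S.fromSpecResidueField s)))
    (hT : SGA3x.IsMultTypeFT T)
    (uη : Red.bc (S.fromSpecResidueField (genericPoint S)) H ⟶ Red.bc (S.fromSpecResidueField (genericPoint S)) T) [IsMonHom uη] :
    ∃ u : H ⟶ T, IsMonHom u ∧ (Over.pullback (S.fromSpecResidueField (genericPoint S))).map u = uη := by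
  haveI := hH
  haveI := MultExt26.isIso_residue_genericPoint (S := S)
  exact MultExt26.exists_extension hnorm H T hconn hT (S.fromSpecResidueField (genericPoint S))
    (Spec.map (inv (S.residue (genericPoint S)))) (Spec.map (S.residue (genericPoint S)))
    (by rw [Scheme.fromSpecResidueField, ← Category.assoc, ← Spec.map_comp, IsIso.hom_inv_id, Spec.map_id]; exact Category.id_comp _)
    rfl (by rw [← Spec.map_comp, IsIso.inv_hom_id, Spec.map_id]) uη

end Groth.Agent.S5282
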