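import Groth.Statements.S5285
import Groth.Agent.IsoTriv.CompleteClopen

set_option autoImplicit false
universe u
open TensorProduct SGA3b
open SGA3b

namespace Groth.Agent.S5285

/-- Let A be a Noetherian ring, separated and complete for the I-adic topology, and H = Spec C an affine
A-group with C of finite type over A, flat over A at the points of H₀ (C localised at any prime
containing IC is flat over A), such that H₀ = Spec ((A/I) ⊗ C) is an isotrivial (A/I)-group of
multiplicative type. Then H has an open and closed subgroup G which is an isotrivial A-group of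
multiplicative type with G₀ = H₀: there is an idempotent e of C lying in IC such that the ideal (e)
is a Hopf ideal and Spec (C/(e)) is isotrivial of multiplicative type. (Affine group schemes over an
affine base are taken in Hopf-algebra form; base change is the tensor product; a homomorphism of
groups Spec A ⟶ Spec C is a bialgebra map C → A.) -/
theorem result (A : Type u) [CommRing A] [IsNoetherianRing A] (I : Ideal A) [IsAdicComplete I A]
    (C : Type u) [CommRing C] [HopfAlgebra A C] (hft : Algebra.FiniteType A C)
    (hfl : ∀ (q : Ideal C) [q.IsPrime], Ideal.map (algebraMap A C) I ≤ q → Module.Flat A (Localization.AtPrime q))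
    (h0 : IsIsotrivial (A ⧸ I) ((A ⧸ I) ⊗[A] C)) :
    ∃ e : C, IsIdempotentElem e ∧ e ∈ Ideal.map (algebraMap A C) I ∧
      ∃ _ : (Ideal.span {e}).IsHopfIdeal A, IsIsotrivial A (C ⧸ Ideal.span {e}) := by
  obtain ⟨e, A', _, _, N, _, he, hspan, het, hfin, hff, -, Φ, hΦ, hK⟩ :=
    Groth.Agent.IsoTriv.exists_clopen_isotrivial I hft (Groth.Agent.IsoTriv.flat_levels I C hfl) h0
  have := het
  have := hfin
  have := hff
  obtain ⟨hop, hiso, -⟩ := Groth.Agent.IsoTriv.exists_isHopfIdeal I e hspan A' Φ hΦ hK
  refine ⟨e, he, ?_, hop, hiso⟩
  have h1 : e ∈ Groth.Agent.IsoTriv.formalIdeal I C := hspan ▸ Ideal.mem_span_singleton_self e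
  have h2 := (Groth.Agent.IsoTriv.mem_formalIdeal I).mp h1 1
  rwa [pow_one] at h2

end Groth.Agent.S5285
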