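import Groth.Statements.S5290
import Groth.Agent.SGA3cLib.SubgroupConj

set_option autoImplicit false
open CategoryTheory MonoidalCategory CartesianMonoidalCategory MonObj GrpObj AlgebraicGeometry
universe u
open SGA3x

namespace Groth.Agent.S5290

/-- Let S = Spec R be affine, J a nilpotent ideal of R and S₀ = Spec (R/J); let G be an arbitrary
S-group and i : H ⟶ G, i' : H' ⟶ G two sub-group-schemes (homomorphisms which are immersions) of
multiplicative type (fpqc-locally on S isomorphic, as groups, to diagonalisable groups D(M), M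
allowed to vary and taken in Type 0), with H central in G (every point of G commutes with every
point of H). If H ×_S S₀ and H' ×_S S₀ coincide as subgroups of G ×_S S₀, then H = H' as subgroups
of G: there is an isomorphism H ≅ H' compatible with i and i'. -/
theorem result {R : Type u} [CommRing R] (J : Ideal R) (hJ : IsNilpotent J)
    (G H H' : Over (Spec (CommRingCat.of R))) [GrpObj G] [GrpObj H] [GrpObj H']
    (hH : TwC.Locally (Spec (CommRingCat.of R)) TwC.Topology.fpqc (fun S' f => ∃ (M : Type) (_ : AddCommGroup M), Nonempty (Grp.mk (Red.bc f H) ≅ Grp.mk (Red.DS S' M))))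
    (hH' : TwC.Locally (Spec (CommRingCat.of R)) TwC.Topology.fpqc (fun S' f => ∃ (M : Type) (_ : AddCommGroup M), Nonempty (Grp.mk (Red.bc f H') ≅ Grp.mk (Red.DS S' M))))
    (i : H ⟶ G) [IsMonHom i] [IsImmersion i.left] (i' : H' ⟶ G) [IsMonHom i'] [IsImmersion i'.left]
    (hc : ∀ (X : Over (Spec (CommRingCat.of R))) (g : X ⟶ G) (h : X ⟶ H), g * (h ≫ i) = (h ≫ i) * g)
    (h0 : ∃ ψ : Red.bc (Spec.map (CommRingCat.ofHom (Ideal.Quotient.mk J))) H ≅ Red.bc (Spec.map (CommRingCat.ofHom (Ideal.Quotient.mk J))) H',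
      ψ.hom ≫ (Over.pullback (Spec.map (CommRingCat.ofHom (Ideal.Quotient.mk J)))).map i' = (Over.pullback (Spec.map (CommRingCat.ofHom (Ideal.Quotient.mk J)))).map i) :
    ∃ φ : H ≅ H', φ.hom ≫ i' = i := by
  obtain ⟨ψ, hψ⟩ := h0
  obtain ⟨φ, hφ, h⟩ := Agent.SGA3cLib.SubgroupConj.exists_iso_of_bc J hJ G H H' hH hH' i i' ψ hψ
  haveI := hφ
  haveI : IsMonHom (φ.hom ≫ i') := inferInstance
  let w : H ⟶ G := (φ.hom ≫ i') * i⁻¹
  have hw : ∀ (X : Over (Spec (CommRingCat.of R))) (x : X ⟶ H), x ≫ w = (x ≫ φ.hom ≫ i') * (x ≫ i)⁻¹ := fun X x => by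
    show x ≫ ((φ.hom ≫ i') * i⁻¹) = _
    rw [MonObj.comp_mul, GrpObj.comp_inv]
  haveI : IsMonHom w := Agent.SGA3cLib.BCPoints.isMonHom_of_mul w fun X x y => by
    rw [hw, hw, hw, MonObj.mul_comp, MonObj.mul_comp, _root_.mul_inv_rev]
    have hcomm : Commute ((y ≫ φ.hom ≫ i') * (y ≫ i)⁻¹) (x ≫ i)⁻¹ :=
      (show Commute ((y ≫ φ.hom ≫ i') * (y ≫ i)⁻¹) (x ≫ i) from hc X _ x).inv_right
    calc (x ≫ φ.hom ≫ i') * (y ≫ φ.hom ≫ i') * ((y ≫ i)⁻¹ * (x ≫ i)⁻¹)
        = (x ≫ φ.hom ≫ i') * (((y ≫ φ.hom ≫ i') * (y ≫ i)⁻¹) * (x ≫ i)⁻¹) := by group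
      _ = (x ≫ φ.hom ≫ i') * ((x ≫ i)⁻¹ * ((y ≫ φ.hom ≫ i') * (y ≫ i)⁻¹)) := by rw [hcomm.eq]
      _ = _ := by group
  have ht := Agent.SGA3cLib.SubgroupConj.trivial_of_nilpotent J hJ H G hH w
    (fun X p x => by rw [hw, h X p x, mul_inv_cancel]) H (𝟙 H)
  rw [hw, Category.id_comp, Category.id_comp, mul_inv_eq_one] at ht
  exact ⟨φ, ht⟩

end Groth.Agent.S5290
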