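import Groth.Statements.S5291
import Groth.Agent.IsoTriv.SmoothNil

set_option autoImplicit false
universe u
open TensorProduct SGA3b
open SGA3b

namespace Groth.Agent.S5291

attribute [local instance 2000] Groth.Agent.IsoTriv.pointsGroup

/-- Let R be a ring, I a nilpotent ideal of R, u : H₁ ⟶ H₂ a homomorphism of R-groups of multiplicative
type (H₁ = Spec A₁, H₂ = Spec A₂, u given by the bialgebra map α : A₂ → A₁), G = Spec C an affine
R-group with C smooth over R, v : H₁ ⟶ G a homomorphism (bialgebra map β : C → A₁) and w₀ : H₂,₀ ⟶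
G₀ a homomorphism over R/I (bialgebra map γ₀ : C₀ → A₂,₀) with w₀ ∘ u₀ = v₀ (the reduction of α
composed with γ₀ is the reduction of β). Then there is a homomorphism w : H₂ ⟶ G (bialgebra map γ :
C → A₂) lifting w₀ with w ∘ u = v, i.e. α ∘ γ = β. (The published statement says that the map of
homomorphism functors w ↦ w ∘ u is formally smooth, for any smooth S-group G; this row states the
lifting property this means over an affine base, for G affine.) (Affine group schemes over an affine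
base are taken in Hopf-algebra form; base change is the tensor product; a homomorphism of groups
Spec A ⟶ Spec C is a bialgebra map C → A.) -/
theorem result (R : Type u) [CommRing R] (I : Ideal R) (hI : IsNilpotent I)
    (A₁ : Type u) [CommRing A₁] [HopfAlgebra R A₁] (h₁ : IsMultType R A₁)
    (A₂ : Type u) [CommRing A₂] [HopfAlgebra R A₂] (h₂ : IsMultType R A₂) (α : A₂ →ₐc[R] A₁)
    (C : Type u) [CommRing C] [HopfAlgebra R C] [Algebra.Smooth R C] (β : C →ₐc[R] A₁)
    (γ₀ : ((R ⧸ I) ⊗[R] C) →ₐc[R ⧸ I] ((R ⧸ I) ⊗[R] A₂))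
    (h0 : ∀ c : C, Algebra.TensorProduct.map (AlgHom.id (R ⧸ I) (R ⧸ I)) (α : A₂ →ₐ[R] A₁) (γ₀ ((1 : R ⧸ I) ⊗ₜ[R] c)) =
      (1 : R ⧸ I) ⊗ₜ[R] (β c)) :
    ∃ γ : C →ₐc[R] A₂, (∀ c : C, γ₀ ((1 : R ⧸ I) ⊗ₜ[R] c) = (1 : R ⧸ I) ⊗ₜ[R] (γ c)) ∧ ∀ c : C, α (γ c) = β c := by
  have := IsoTriv.isCocomm_of_isMultType h₁
  have := IsoTriv.isCocomm_of_isMultType h₂
  obtain ⟨P₁, hP11, hP1⟩ := IsoTriv.exists_integral_of_cover (IsoTriv.hasCover_of_isMultType h₁)
  obtain ⟨P₂, hP21, hP2⟩ := IsoTriv.exists_integral_of_cover (IsoTriv.hasCover_of_isMultType h₂)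
  obtain ⟨φ, hφ⟩ := IsoTriv.exists_smooth_lift_nil I hI P₂ hP21 hP2 γ₀
  obtain ⟨g, hgI, hg⟩ := IsoTriv.exists_conj_of_nil P₁ hP11 hP1 I hI β (α.comp φ) fun c => by
    have h := h0 c
    rw [hφ c, Algebra.TensorProduct.map_tmul, map_one] at h
    have h2 := neg_mem ((IsoTriv.one_tmul_eq_iff _).mp h)
    rw [neg_sub] at h2
    exact h2
  obtain ⟨γ, hγ⟩ := IsoTriv.exists_conj g φ
  refine ⟨γ, fun c => ?_, fun c => ?_⟩
  · rw [hφ c, IsoTriv.one_tmul_eq_iff, ← Ideal.Quotient.eq]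
    let q := IsoTriv.pointsMap (C := C) (Ideal.Quotient.mkₐ R (I.map (algebraMap R A₂)))
    have hg1 : q (IsoTriv.pointsMap (Algebra.ofId R A₂) g) = 1 := (IsoTriv.inKer_iff I _).mp (hgI.map I _)
    have e : q (WithConv.toConv (γ : C →ₐ[R] A₂)) = q (WithConv.toConv (φ : C →ₐ[R] A₂)) := by
      rw [hγ, map_mul, map_mul, hg1, one_mul, map_inv, hg1, inv_one, mul_one]
    exact (AlgHom.congr_fun (congrArg WithConv.ofConv e) c).symm
  · have e : IsoTriv.pointsMap (α : A₂ →ₐ[R] A₁) (WithConv.toConv (γ : C →ₐ[R] A₂)) =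
        WithConv.toConv (β : C →ₐ[R] A₁) := by
      rw [hγ, map_mul, map_mul, map_inv, IsoTriv.pointsMap_comp,
        Subsingleton.elim ((α : A₂ →ₐ[R] A₁).comp (Algebra.ofId R A₂)) (Algebra.ofId R A₁)]
      exact hg
    exact AlgHom.congr_fun (congrArg WithConv.ofConv e) c

end Groth.Agent.S5291
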