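import Groth.Statements.S5297
import Groth.Agent.SGA3cLib.AveragingLiftDescent
import Groth.Agent.SGA3cLib.MultHomLift
import Groth.Agent.S5273
import Groth.Agent.IsoTriv.SchemeBridge

set_option autoImplicit false
set_option backward.isDefEq.respectTransparency.types false
set_option linter.style.haveILetI false
set_option linter.style.haveILetI false
set_option backward.isDefEq.respectTransparency.types false
open CategoryTheory MonoidalCategory CartesianMonoidalCategory MonObj GrpObj AlgebraicGeometry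
universe u
open SGA3x

namespace Groth.Agent.S5297

open Groth.Agent.SGA3cLib CategoryTheory.Limits in
/-- Groups of multiplicative type of any type are affine. -/
theorem isAffineHom_of_multType {S : Scheme.{u}} (H : Over S) [GrpObj H] (hH : TwC.Locally S TwC.Topology.fpqc (fun S' f => ∃ (M : Type) (_ : AddCommGroup M), Nonempty (Grp.mk (Red.bc f H) ≅ Grp.mk (Red.DS S' M)))) :
    IsAffineHom H.hom := by
  obtain ⟨S', f, hfl, -, hq, hU⟩ := hH
  choose U hmem M hMag e using hU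
  haveI := hfl
  have hcov : TopologicalSpace.IsOpenCover U :=
    TopologicalSpace.IsOpenCover.mk (eq_top_iff.2 fun s _ => TopologicalSpace.Opens.mem_iSup.2 ⟨s, hmem s⟩)
  haveI := Et18.descends_isAffineHom.{u}
  refine (IsFpqcCov.of_forall f hq).descend @IsAffineHom H.hom ?_
  refine IsZariskiLocalAtTarget.of_openCover (P := @IsAffineHom) (S'.openCoverOfIsOpenCover U hcov) fun s => ?_
  have h1 : IsAffineHom (Red.DS (U s : Scheme.{u}) (M s)).hom := by
    refine MorphismProperty.pullback_snd (P := @IsAffineHom) _ _ ?_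
    exact isAffineHom_of_isAffine (X := Spec (CommRingCat.of (MonoidAlgebra (ULift.{u} ℤ) (Multiplicative (M s))))) _
  let i : Red.bc ((U s).ι ≫ f) H ≅ Red.DS (U s : Scheme.{u}) (M s) := (Grp.forget _).mapIso (e s).some
  change IsAffineHom (pullback.snd (pullback.snd H.hom f) (U s).ι)
  rw [← pullbackLeftPullbackSndIso_hom_snd,
    MorphismProperty.cancel_left_of_respectsIso @IsAffineHom]
  show IsAffineHom (Red.bc ((U s).ι ≫ f) H).hom
  rw [← Over.w i.hom]
  infer_instance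


abbrev IsMT {R : Type u} [CommRing R] (H : Over (Spec (CommRingCat.of R))) [GrpObj H] : Prop :=
  TwC.Locally (Spec (CommRingCat.of R)) TwC.Topology.fpqc (fun S' f => ∃ (M : Type) (_ : AddCommGroup M), Nonempty (Grp.mk (Red.bc f H) ≅ Grp.mk (Red.DS S' M)))

noncomputable abbrev PQ {R : Type u} [CommRing R] (J : Ideal R) : Over (Spec (CommRingCat.of R)) :=
  Over.mk (Spec.map (CommRingCat.ofHom (Ideal.Quotient.mk J)))

open Groth.Agent.SGA3cLib Groth.Agent.SGA3cLib.Averaging in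
theorem step {R : Type u} [CommRing R] (J : Ideal R) (hJ : J ^ 2 = ⊥)
    (H G K : Over (Spec (CommRingCat.of R))) [GrpObj H] [GrpObj G] [GrpObj K] (hH : IsMT H) (hG : Smooth G.hom)
    (hK : Smooth K.hom) (u : H ⟶ G) [IsMonHom u] (k : K ⟶ G) [IsMonHom k] [Mono k.left] (g₀ : PQ J ⟶ G)
    (h0 : ∀ (X : Over (Spec (CommRingCat.of R))) (p : X ⟶ PQ J) (h : X ⟶ H),
      ∃ x : X ⟶ K, (p ≫ g₀) * (h ≫ u) * (p ≫ g₀)⁻¹ = x ≫ k) :
    ∃ g : 𝟙_ (Over (Spec (CommRingCat.of R))) ⟶ G, toUnit (PQ J) ≫ g = g₀ ∧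
      ∃ x : H ⟶ K, x ≫ k = (toUnit H ≫ g) * u * (toUnit H ≫ g)⁻¹ := by
  obtain ⟨l, hl₁, hl₂⟩ := ((S1488.result G.hom).1 hG).2 R J hJ g₀.left (𝟙 _)
    ((Category.comp_id _).trans (Over.w g₀).symm)
  let g' : 𝟙_ (Over (Spec (CommRingCat.of R))) ⟶ G := Over.homMk l hl₂
  have hg' : toUnit (PQ J) ≫ g' = g₀ := Over.OverMorphism.ext hl₁
  let u' : H ⟶ G := (toUnit H ≫ g') * u * (toUnit H ≫ g')⁻¹
  have hu' : ∀ {X : Over (Spec (CommRingCat.of R))} (h : X ⟶ H), h ≫ u' = (toUnit X ≫ g') * (h ≫ u) * (toUnit X ≫ g')⁻¹ := by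
    intro X h
    simp [u', MonObj.comp_mul, GrpObj.comp_inv]
  haveI : IsMonHom u' := BCPoints.isMonHom_of_mul u' fun X x y => by
    rw [hu', hu', hu', MonObj.mul_comp]
    group
  -- the factorisation lifts as a morphism
  haveI : IsAffineHom H.hom := isAffineHom_of_multType H hH
  haveI : IsAffine H.left := isAffine_of_isAffineHom H.hom
  letI : Algebra R Γ(H.left, ⊤) := (Spec.preimage (H.left.isoSpec.inv ≫ H.hom)).hom.toAlgebra
  have hiw : H.left.isoSpec.inv ≫ H.hom = Spec.map (CommRingCat.ofHom (algebraMap R Γ(H.left, ⊤))) :=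
    (Spec.map_preimage _).symm
  let i : P R Γ(H.left, ⊤) ⟶ H := Over.homMk H.left.isoSpec.inv hiw
  let J' : Ideal Γ(H.left, ⊤) := J.map (algebraMap R Γ(H.left, ⊤))
  let q : P R (Γ(H.left, ⊤) ⧸ J') ⟶ PQ J := Over.homMk (Spec.map (CommRingCat.ofHom
      (Ideal.Quotient.lift J (algebraMap R _) fun r hr => by
        rw [IsScalarTower.algebraMap_apply R Γ(H.left, ⊤), Ideal.Quotient.algebraMap_eq,
          Ideal.Quotient.eq_zero_iff_mem]
        exact Ideal.mem_map_of_mem _ hr))) (by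
    show Spec.map _ ≫ Spec.map _ = Spec.map (CommRingCat.ofHom (algebraMap R _))
    rw [← Spec.map_comp, ← CommRingCat.ofHom_comp, Ideal.Quotient.lift_comp_mk])
  let r : P R (Γ(H.left, ⊤) ⧸ J') ⟶ H := sp (Ideal.Quotient.mkₐ R J') ≫ i
  obtain ⟨x₀, hx₀⟩ := h0 _ q r
  obtain ⟨l', hl₁', hl₂'⟩ := ((S1488.result K.hom).1 hK).2 Γ(H.left, ⊤) J'
    (by rw [← Ideal.map_pow, hJ, Ideal.map_bot]) x₀.left (Spec.map (CommRingCat.ofHom (algebraMap R Γ(H.left, ⊤))))
    (by
      refine Eq.trans ?_ (Over.w x₀).symm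
      rw [← Spec.map_comp]
      rfl)
  let wB : P R Γ(H.left, ⊤) ⟶ K := Over.homMk l' hl₂'
  have hwB : sp (Ideal.Quotient.mkₐ R J') ≫ wB = x₀ := Over.OverMorphism.ext hl₁'
  let w : H ⟶ K := Over.homMk (H.left.isoSpec.hom ≫ l') (by
    rw [Category.assoc, hl₂', ← hiw, Iso.hom_inv_id_assoc])
  have hiw' : i ≫ w = wB := Over.OverMorphism.ext (Iso.inv_hom_id_assoc _ _)
  have h0' : ∀ (A : Type u) [CommRing A] [Algebra R A], J ≤ RingHom.ker (algebraMap R A) →
      ∀ h : P R A ⟶ H, h ≫ w ≫ k = h ≫ u' := by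
    intro A _ _ hA h
    obtain ⟨φ₀, hφ₀⟩ := Spec.map_surjective (R := Γ(H.left, ⊤)) (S := CommRingCat.of A) (h.left ≫ H.left.isoSpec.hom)
    have hc : φ₀.hom.comp (algebraMap R Γ(H.left, ⊤)) = algebraMap R A := by
      have e : Spec.map (CommRingCat.ofHom (algebraMap R Γ(H.left, ⊤)) ≫ φ₀) =
          Spec.map (CommRingCat.ofHom (algebraMap R A)) := by
        rw [Spec.map_comp, hφ₀, ← hiw, Category.assoc, Iso.hom_inv_id_assoc]
        exact Over.w h
      exact congrArg CommRingCat.Hom.hom (Spec.map_injective e)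
    let φ : Γ(H.left, ⊤) →ₐ[R] A := ⟨φ₀.hom, fun x => RingHom.congr_fun hc x⟩
    have hφ : sp φ ≫ i = h := Over.OverMorphism.ext (by
      show Spec.map φ₀ ≫ H.left.isoSpec.inv = h.left
      rw [hφ₀, Category.assoc, Iso.hom_inv_id, Category.comp_id])
    have hJ' : J' ≤ RingHom.ker φ.toRingHom := Ideal.map_le_iff_le_comap.2 fun x hx => by
      show φ (algebraMap R _ x) = 0
      rw [φ.commutes]
      exact hA hx
    let β : (Γ(H.left, ⊤) ⧸ J') →ₐ[R] A := Ideal.Quotient.liftₐ J' φ fun x hx => hJ' hx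
    have hh : h = sp β ≫ r := by
      rw [← hφ, ← Category.assoc, sp_comp]
      rfl
    have hw : r ≫ w = x₀ := by rw [Category.assoc, hiw', hwB]
    rw [hh, Category.assoc, ← Category.assoc r w k, hw, ← hx₀, hu',
      show q ≫ g₀ = toUnit _ ≫ g' by rw [← hg', comp_toUnit_assoc],
      MonObj.comp_mul, MonObj.comp_mul, GrpObj.comp_inv, comp_toUnit_assoc]
    simp only [r, Category.assoc]
  obtain ⟨g₂, hg₂, x, hx⟩ := exists_conj_factor J (by rw [← pow_two]; exact hJ) H G K hH u' k w h0'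
  refine ⟨g₂ * g', ?_, x, ?_⟩
  · rw [MonObj.comp_mul, show toUnit (PQ J) ≫ g₂ = 1 from hg₂, hg', _root_.one_mul]
  · rw [hx, MonObj.comp_mul]
    simp only [u']
    group

open Groth.Agent.SGA3cLib in
theorem general (n : ℕ) : ∀ {R : Type u} [CommRing R] (J : Ideal R) (_ : J ^ 2 ^ n = ⊥)
    (H G K : Over (Spec (CommRingCat.of R))) [GrpObj H] [GrpObj G] [GrpObj K] (_ : IsMT H) (_ : Smooth G.hom)
    (_ : Smooth K.hom) (u : H ⟶ G) [IsMonHom u] (k : K ⟶ G) [IsMonHom k] [Mono k.left] (g₀ : PQ J ⟶ G)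
    (_ : ∀ (X : Over (Spec (CommRingCat.of R))) (p : X ⟶ PQ J) (h : X ⟶ H),
      ∃ x : X ⟶ K, (p ≫ g₀) * (h ≫ u) * (p ≫ g₀)⁻¹ = x ≫ k),
    ∃ g : 𝟙_ (Over (Spec (CommRingCat.of R))) ⟶ G, toUnit (PQ J) ≫ g = g₀ ∧
      ∃ x : H ⟶ K, x ≫ k = (toUnit H ≫ g) * u * (toUnit H ≫ g)⁻¹ := by
  induction n with
  | zero =>
    intro R _ J hJ H G K _ _ _ hH hG hK u _ k _ _ g₀ h0
    exact step J (by rw [pow_zero, pow_one] at hJ; rw [hJ, ← Ideal.zero_eq_bot, zero_pow two_ne_zero]) H G K hH hG hK u k g₀ h0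
  | succ n ih =>
    intro R _ J hJ H G K _ _ _ hH hG hKs u _ k _ _ g₀ h0
    let L : Ideal R := J ^ 2
    have hLJ : L ≤ J := Ideal.pow_le_self two_ne_zero
    have hL : L ^ 2 ^ n = ⊥ := by rw [← pow_mul, ← pow_succ']; exact hJ
    let mkL : R →+* R ⧸ L := Ideal.Quotient.mk L
    let f : Spec (CommRingCat.of (R ⧸ L)) ⟶ Spec (CommRingCat.of R) := Spec.map (CommRingCat.ofHom mkL)
    let J' : Ideal (R ⧸ L) := J.map mkL
    have hJ' : J' ^ 2 = ⊥ := by rw [← Ideal.map_pow]; exact Ideal.map_quotient_self _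
    let α : R ⧸ J →+* (R ⧸ L) ⧸ J' := Ideal.Quotient.lift J ((Ideal.Quotient.mk J').comp mkL) fun r hr => by
      rw [RingHom.comp_apply, Ideal.Quotient.eq_zero_iff_mem]; exact Ideal.mem_map_of_mem _ hr
    let β : (R ⧸ L) ⧸ J' →+* R ⧸ J := Ideal.Quotient.lift J' (Ideal.Quotient.factor hLJ) fun x hx => by
      have h1 : J'.map (Ideal.Quotient.factor hLJ) ≤ ⊥ := by
        rw [Ideal.map_map, show (Ideal.Quotient.factor hLJ).comp mkL = Ideal.Quotient.mk J from Ideal.Quotient.factor_comp_mk hLJ,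
          Ideal.map_quotient_self]
      exact h1 (Ideal.mem_map_of_mem _ hx)
    have hα : CommRingCat.ofHom (Ideal.Quotient.mk J) ≫ CommRingCat.ofHom α = CommRingCat.ofHom mkL ≫ CommRingCat.ofHom (Ideal.Quotient.mk J') :=
      CommRingCat.hom_ext (Ideal.Quotient.lift_comp_mk _ _ _)
    have hβ : CommRingCat.ofHom (Ideal.Quotient.mk J') ≫ CommRingCat.ofHom β = CommRingCat.ofHom (Ideal.Quotient.factor hLJ) :=
      CommRingCat.hom_ext (Ideal.Quotient.lift_comp_mk _ _ _)
    have hLfac : CommRingCat.ofHom mkL ≫ CommRingCat.ofHom (Ideal.Quotient.factor hLJ) = CommRingCat.ofHom (Ideal.Quotient.mk J) :=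
      CommRingCat.hom_ext (Ideal.Quotient.factor_comp_mk hLJ)
    have hαβ : CommRingCat.ofHom α ≫ CommRingCat.ofHom β = 𝟙 _ := by
      refine CommRingCat.hom_ext (Ideal.Quotient.ringHom_ext ?_)
      exact RingHom.ext fun r => rfl
    let PJ : Over (Spec (CommRingCat.of R)) := Over.mk (Spec.map (CommRingCat.ofHom (Ideal.Quotient.mk J)))
    let PL : Over (Spec (CommRingCat.of R)) := Over.mk f
    let PJ' : Over (Spec (CommRingCat.of (R ⧸ L))) := Over.mk (Spec.map (CommRingCat.ofHom (Ideal.Quotient.mk J')))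
    let a : (Over.map f).obj PJ' ⟶ PJ := Over.homMk (Spec.map (CommRingCat.ofHom α)) (by
      show Spec.map _ ≫ Spec.map _ = Spec.map _ ≫ Spec.map _
      rw [← Spec.map_comp, ← Spec.map_comp, hα])
    let b : PJ ⟶ (Over.map f).obj PJ' := Over.homMk (Spec.map (CommRingCat.ofHom β)) (by
      show Spec.map _ ≫ Spec.map _ ≫ Spec.map _ = Spec.map _
      rw [← Category.assoc, ← Spec.map_comp, hβ, ← Spec.map_comp, hLfac])
    let q : PJ ⟶ PL := Over.homMk (Spec.map (CommRingCat.ofHom (Ideal.Quotient.factor hLJ))) (by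
      show Spec.map _ ≫ Spec.map _ = Spec.map _
      rw [← Spec.map_comp, hLfac])
    let c : PL ⟶ (Over.map f).obj (𝟙_ (Over (Spec (CommRingCat.of (R ⧸ L))))) := Over.homMk (𝟙 _) (by
      show 𝟙 _ ≫ 𝟙 _ ≫ f = f
      rw [Category.id_comp, Category.id_comp])
    haveI : Smooth G.hom := hG
    haveI : Smooth K.hom := hKs
    have hG' : Smooth (Red.bc f G).hom := inferInstanceAs (Smooth (Limits.pullback.snd G.hom f))
    have hK' : Smooth (Red.bc f K).hom := inferInstanceAs (Smooth (Limits.pullback.snd K.hom f))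
    let u' : Red.bc f H ⟶ Red.bc f G := (Over.pullback f).map u
    let k' : Red.bc f K ⟶ Red.bc f G := (Over.pullback f).map k
    haveI : IsMonHom u' := inferInstanceAs (IsMonHom ((Over.pullback f).map u))
    haveI : IsMonHom k' := inferInstanceAs (IsMonHom ((Over.pullback f).map k))
    haveI : Mono k := Over.mono_of_mono_left _
    haveI : Mono k'.left := by
      haveI : Mono k' := Functor.map_mono (Over.pullback f) k
      infer_instance
    obtain ⟨g', hg', x', hconj'⟩ := step J' hJ' (Red.bc f H) (Red.bc f G) (Red.bc f K) (BCPoints.locally_bc f H hH)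
      hG' hK' u' k' (BCPoints.pt f G PJ' (a ≫ g₀)) fun X' p' h' => by
        obtain ⟨h, rfl⟩ := (BCPoints.pt f H X').surjective h'
        obtain ⟨x, hx⟩ := h0 _ ((Over.map f).map p' ≫ a) h
        refine ⟨BCPoints.pt f K X' x, ?_⟩
        rw [← BCPoints.pt_comp, ← BCPoints.pt_comp, ← BCPoints.pt_map_comp, ← BCPoints.pt_inv, ← BCPoints.pt_mul,
          ← BCPoints.pt_mul, ← hx, Category.assoc]
    obtain ⟨g₁, rfl⟩ := (BCPoints.pt f G _).surjective g'
    rw [← BCPoints.pt_map_comp] at hg'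
    replace hg' := (BCPoints.pt f G PJ').injective hg'
    have key : ∀ (X' : Over (Spec (CommRingCat.of (R ⧸ L)))) (h : (Over.map f).obj X' ⟶ H),
        ∃ x : (Over.map f).obj X' ⟶ K, x ≫ k =
          ((Over.map f).map (toUnit X') ≫ g₁) * (h ≫ u) * ((Over.map f).map (toUnit X') ≫ g₁)⁻¹ := fun X' h => by
      obtain ⟨x, hx⟩ := (BCPoints.pt f K X').surjective (BCPoints.pt f H X' h ≫ x')
      refine ⟨x, (BCPoints.pt f G X').injective ?_⟩
      rw [BCPoints.pt_comp, hx, Category.assoc, BCPoints.pt_mul, BCPoints.pt_mul, BCPoints.pt_inv,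
        BCPoints.pt_map_comp, BCPoints.pt_comp]
      exact (congrArg (BCPoints.pt f H X' h ≫ ·) hconj').trans (by
        simp [MonObj.comp_mul, GrpObj.comp_inv, u'])
    obtain ⟨g, hg, hconj⟩ := ih L hL H G K hH hG hKs u k (c ≫ g₁) fun X p h => by
      let κ : X ⟶ (Over.map f).obj (Over.mk p.left) := Over.homMk (𝟙 _) ((Category.id_comp _).trans (Over.w p))
      let κ' : (Over.map f).obj (Over.mk p.left) ⟶ X := Over.homMk (𝟙 _) ((Category.id_comp _).trans (Over.w p).symm)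
      have hκ : κ ≫ κ' = 𝟙 X := Over.OverMorphism.ext (Category.id_comp _)
      have hp : κ ≫ (Over.map f).map (toUnit (Over.mk p.left)) = p ≫ c := by
        apply Over.OverMorphism.ext
        show 𝟙 _ ≫ p.left = p.left ≫ 𝟙 _
        rw [Category.id_comp, Category.comp_id]
      obtain ⟨x, hx⟩ := key _ (κ' ≫ h)
      refine ⟨κ ≫ x, ?_⟩
      rw [Category.assoc, hx]
      simp only [MonObj.comp_mul, GrpObj.comp_inv, ← Category.assoc, hκ, hp, Category.id_comp]
    refine ⟨g, ?_, hconj⟩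
    have hq : b ≫ (Over.map f).map (toUnit PJ') = q ≫ c := by
      apply Over.OverMorphism.ext
      show Spec.map _ ≫ Spec.map _ = Spec.map _ ≫ 𝟙 _
      rw [Category.comp_id, ← Spec.map_comp, hβ]
    have hab : b ≫ a = 𝟙 PJ := by
      apply Over.OverMorphism.ext
      show Spec.map _ ≫ Spec.map _ = 𝟙 _
      rw [← Spec.map_comp, hαβ, Spec.map_id]
    show toUnit PJ ≫ g = g₀
    rw [← comp_toUnit q, Category.assoc, hg, ← Category.assoc, ← hq, Category.assoc, hg', reassoc_of% hab]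



/-- In the lifting form that formal smoothness of the transporter means. Let S = Spec R be affine, J a
nilpotent ideal of R and S₀ = Spec (R/J); let G be an S-group smooth over S, k : K ⟶ G a
sub-group-scheme (a homomorphism which is an immersion) with K smooth over S or of multiplicative
type, H an S-group of multiplicative type (fpqc-locally on S isomorphic, as a group, to
diagonalisable groups D(M), M allowed to vary and taken in Type 0), u : H ⟶ G a homomorphism, and g₀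
an S₀-valued point of G such that int(g₀) ∘ u takes the points of H defined over S₀-schemes into K.
Then g₀ lifts to an S-point g of G such that int(g) ∘ u factors through K on all points. -/
theorem result {R : Type u} [CommRing R] (J : Ideal R) (hJ : IsNilpotent J)
    (G K H : Over (Spec (CommRingCat.of R))) [GrpObj G] [GrpObj K] [GrpObj H] (hG : Smooth G.hom)
    (k : K ⟶ G) [IsMonHom k] [IsImmersion k.left]
    (hK : Smooth K.hom ∨ TwC.Locally (Spec (CommRingCat.of R)) TwC.Topology.fpqc (fun S' f => ∃ (M : Type) (_ : AddCommGroup M), Nonempty (Grp.mk (Red.bc f K) ≅ Grp.mk (Red.DS S' M))))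
    (hH : TwC.Locally (Spec (CommRingCat.of R)) TwC.Topology.fpqc (fun S' f => ∃ (M : Type) (_ : AddCommGroup M), Nonempty (Grp.mk (Red.bc f H) ≅ Grp.mk (Red.DS S' M))))
    (u : H ⟶ G) [IsMonHom u] (g₀ : (Over.mk (Spec.map (CommRingCat.ofHom (Ideal.Quotient.mk J))) : Over (Spec (CommRingCat.of R))) ⟶ G)
    (h0 : ∀ (X : Over (Spec (CommRingCat.of R))) (p : X ⟶ (Over.mk (Spec.map (CommRingCat.ofHom (Ideal.Quotient.mk J))) : Over (Spec (CommRingCat.of R)))) (h : X ⟶ H),
      ∃ x : X ⟶ K, (p ≫ g₀) * (h ≫ u) * (p ≫ g₀)⁻¹ = x ≫ k) :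
    ∃ g : 𝟙_ (Over (Spec (CommRingCat.of R))) ⟶ G, toUnit (Over.mk (Spec.map (CommRingCat.ofHom (Ideal.Quotient.mk J))) : Over (Spec (CommRingCat.of R))) ≫ g = g₀ ∧
      ∀ (X : Over (Spec (CommRingCat.of R))) (h : X ⟶ H), ∃ x : X ⟶ K, (toUnit X ≫ g) * (h ≫ u) * (toUnit X ≫ g)⁻¹ = x ≫ k := by
  haveI : Mono k.left := inferInstance
  obtain ⟨g, hg, x₀, hx⟩ : ∃ g : 𝟙_ (Over (Spec (CommRingCat.of R))) ⟶ G, toUnit (PQ J) ≫ g = g₀ ∧
      ∃ x : H ⟶ K, x ≫ k = (toUnit H ≫ g) * u * (toUnit H ≫ g)⁻¹ := by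
    rcases hK with hKs | hKm
    · obtain ⟨n, hn⟩ := hJ
      exact general n J (bot_unique ((Ideal.pow_le_pow_right Nat.lt_two_pow_self.le).trans hn.le)) H G K hH hG hKs u k g₀ h0
    · haveI : Mono k := Over.mono_of_mono_left _
      obtain ⟨x₀, hx₀⟩ := h0 (PQ J ⊗ H) (fst _ _) (snd _ _)
      have e : ∀ (X : Over (Spec (CommRingCat.of R))) (p : X ⟶ PQ J) (h : X ⟶ H),
          lift p h ≫ x₀ ≫ k = (p ≫ g₀) * (h ≫ u) * (p ≫ g₀)⁻¹ := fun X p h => by
        rw [← hx₀, MonObj.comp_mul, MonObj.comp_mul, GrpObj.comp_inv, lift_fst_assoc, lift_snd_assoc]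
      obtain ⟨φ, hφ, hφ'⟩ := Agent.SGA3cLib.MultHomLift.exists_hom J hJ hH hKm x₀ fun X p x y => by
        rw [← cancel_mono k, MonObj.mul_comp, Category.assoc, Category.assoc, Category.assoc]
        erw [e, e, e, MonObj.mul_comp]
        group
      haveI := hφ
      obtain ⟨g, hg, hconj⟩ := S5273.result J hJ H G hH hG u (φ ≫ k) g₀ fun X p h => by
        rw [← Category.assoc, hφ' X p h, Category.assoc]
        exact e X p h
      exact ⟨g, hg, φ, by simpa using hconj H (𝟙 H)⟩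
  refine ⟨g, hg, fun X h => ⟨h ≫ x₀, ?_⟩⟩
  rw [Category.assoc, hx, MonObj.comp_mul, MonObj.comp_mul, GrpObj.comp_inv, comp_toUnit_assoc]

end Groth.Agent.S5297
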