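import Groth.Statements.S5300
import Groth.Agent.IsoTriv.TorsionOpen
import Groth.Agent.SGA3bLib.DiagQuot

set_option autoImplicit false
universe u
open TensorProduct SGA3b
open SGA3b

namespace Groth.Agent.S5300

open Groth.Agent.SGA3bLib Groth.Agent.IsoTriv

/-- The affine form of schematic density. Let k be a field and H = Spec C a commutative k-group of
finite type (C cocommutative, of finite type over k) which has an open subgroup G of multiplicative
type: an idempotent e of C such that the ideal (e) is a Hopf ideal and G = Spec (C/(e)) is of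
multiplicative type. Then the family of kernels ₙH, n > 0, of the n-th power maps is schematically
dense in H: for every a ∈ C, the intersection over n > 0 of the extensions to C[1/a] of the ideals
Jₙ of the ₙH is zero. (Affine group schemes over an affine base are taken in Hopf-algebra form; base
change is the tensor product; a homomorphism of groups Spec A ⟶ Spec C is a bialgebra map C → A.) -/
theorem result (k : Type u) [Field k] (C : Type u) [CommRing C] [HopfAlgebra k C]
    [Coalgebra.IsCocomm k C] (hft : Algebra.FiniteType k C)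
    (e : C) (he : IsIdempotentElem e) [(Ideal.span {e}).IsHopfIdeal k] (hG : IsMultType k (C ⧸ Ideal.span {e})) :
    ∀ a : C, ⨅ n : {n : ℕ // 0 < n}, Ideal.map (algebraMap C (Localization.Away a)) (torsionIdeal k C n.1) = ⊥ := by
  intro a
  classical
  refine eq_bot_iff.mpr fun y hy => ?_
  rw [Submodule.mem_iInf] at hy
  obtain ⟨x, ⟨_, i, rfl⟩, rfl⟩ := IsLocalization.exists_mk'_eq (Submonoid.powers a) y
  have hx : ∀ n : ℕ, 0 < n → ∃ j : ℕ, a ^ j * x ∈ SGA3b.torsionIdeal k C n := fun n hn => by
    have h1 := IsLocalization.mk'_mem_iff.mp (hy ⟨n, hn⟩)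
    obtain ⟨_, ⟨j, rfl⟩, hm⟩ := (IsLocalization.algebraMap_mem_map_algebraMap_iff (Submonoid.powers a) _ _ _).mp h1
    exact ⟨j, hm⟩
  let K := AlgebraicClosure k
  let q : C →ₐc[k] C ⧸ Ideal.span {e} := Bialgebra.Quotient.mkBialgHom (R := k) _
  have hq : Function.Surjective q := Ideal.Quotient.mk_surjective
  have hftG : Algebra.FiniteType k (C ⧸ Ideal.span {e}) :=
    Algebra.FiniteType.of_surjective (Ideal.Quotient.mkₐ k _) Ideal.Quotient.mk_surjective
  obtain ⟨N, _, -, ⟨E⟩⟩ := exists_iso_sepClosed hftG (isMultTypeConst_of_isLocalRing hG) K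
  let Φ : K ⊗[k] C →ₐc[K] MonoidAlgebra K N :=
    (E : K ⊗[k] (C ⧸ Ideal.span {e}) →ₐc[K] MonoidAlgebra K N).comp (bcHom K q)
  have hΦ : Function.Surjective Φ := E.surjective.comp (bcHom_surjective K q hq)
  let ι : C →ₐ[k] K ⊗[k] C := Algebra.TensorProduct.includeRight
  have hker : RingHom.ker (Φ : K ⊗[k] C →ₐ[K] MonoidAlgebra K N) = Ideal.span {ι e} := by
    have h1 : RingHom.ker (Φ : K ⊗[k] C →ₐ[K] MonoidAlgebra K N) =
        RingHom.ker (bcHom K q : K ⊗[k] C →ₐ[K] K ⊗[k] (C ⧸ Ideal.span {e})) := by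
      ext z
      exact ⟨fun h => E.injective (h.trans (map_zero E).symm), fun h => (congrArg E h).trans (map_zero E)⟩
    rw [h1, ker_bcHom K q hq, show RingHom.ker (q : C →ₐ[k] C ⧸ Ideal.span {e}) = Ideal.span {e} from
      Ideal.ext fun z => Ideal.Quotient.eq_zero_iff_mem, Ideal.map_span, Set.image_singleton]
  obtain ⟨j, hj⟩ := exists_pow_mul_eq_zero_open Φ hΦ (he.map ι) hker (ι a) (ι x) fun n hn => by
    obtain ⟨j, hj⟩ := hx n hn
    refine ⟨j, ?_⟩
    rw [torsionIdeal_baseChange, ← map_pow, ← map_mul]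
    exact Ideal.mem_map_of_mem ι hj
  have hinj : Function.Injective ι := Algebra.TensorProduct.includeRight_injective (algebraMap k K).injective
  rw [← map_pow, ← map_mul, ← map_zero ι] at hj
  rw [Ideal.mem_bot, IsLocalization.mk'_eq_zero_iff]
  exact ⟨⟨a ^ j, j, rfl⟩, hinj hj⟩

end Groth.Agent.S5300
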