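import Groth.Statements.S5301
import Groth.Agent.IsoTriv.ClopenScheme

set_option autoImplicit false
set_option backward.isDefEq.respectTransparency.types false
set_option linter.style.haveILetI false
set_option linter.style.haveILetI false
set_option backward.isDefEq.respectTransparency.types false
open CategoryTheory MonoidalCategory CartesianMonoidalCategory MonObj GrpObj AlgebraicGeometry
universe u
open SGA3x

namespace Groth.Agent.S5301

open Groth.Agent Groth.Agent.IsoTriv.ClopenScheme Groth.Agent.IsoTriv.SchemeSpec CoactBr Groth.Agent.HopfLib.SpPoints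
open scoped TensorProduct

/-- Let H be an S-group which is affine and of finite presentation over S, and s ∈ S a point such that
(α) H is flat over S at every point of the fibre H_s and (β) H_s is a κ(s)-group of multiplicative
type (of finite type). Then there are an etale morphism S' ⟶ S, a point s' of S' over s whose
residue field extension κ(s) → κ(s') is an isomorphism, and an open and closed subgroup G' of H' = H
×_S S' which is of multiplicative type and of finite type, isotrivial (split, with finitely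
generated types, over the open and closed pieces of one finite etale surjective cover of S'), and
whose fibre at s' is all of H'_{s'}. -/
theorem result {S : Scheme.{u}} (H : Over S) [GrpObj H]
    [IsAffineHom H.hom] [LocallyOfFinitePresentation H.hom] (s : S)
    (hfl : ∀ x : ↥H.left, H.hom.base x = s → (H.hom.stalkMap x).hom.Flat)
    (hs : SGA3x.IsMultTypeFT (Red.bc (S.fromSpecResidueField s) H)) :
    ∃ (S' : Scheme.{u}) (f : S' ⟶ S) (s' : S'), Etale f ∧ f.base s' = s ∧ IsIso (f.residueFieldMap s') ∧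
      ∃ (G' : Over S') (_ : GrpObj G') (j : G' ⟶ Red.bc f H), IsMonHom j ∧ IsOpenImmersion j.left ∧ IsClosedImmersion j.left ∧
        SGA3x.IsMultTypeFT G' ∧ TwC.Locally S' TwC.Topology.finiteEtale (fun S'' g => ∃ (M : Type) (_ : AddCommGroup M), AddGroup.FG M ∧ Nonempty (Grp.mk (Red.bc g G') ≅ Grp.mk (Red.DS S'' M))) ∧
        IsIso ((Over.pullback (S'.fromSpecResidueField s')).map j).left := by
  classical
  obtain ⟨V, hV, hsV, -⟩ := exists_isAffineOpen_mem_and_subset (U := (⊤ : S.Opens)) (x := s) trivial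
  let R : Type u := Γ(S, V)
  let g : Spec (CommRingCat.of R) ⟶ S := hV.fromSpec
  haveI : IsOpenImmersion g := hV.isOpenImmersion_fromSpec
  obtain ⟨pt₀, hpt₀⟩ : s ∈ Set.range g := by rw [hV.range_fromSpec]; exact hsV
  subst hpt₀
  let p : Ideal R := (pt₀ : PrimeSpectrum R).asIdeal
  haveI : p.IsPrime := (pt₀ : PrimeSpectrum R).isPrime
  haveI : IsAffineHom (Red.bc g H).hom := MorphismProperty.pullback_snd (P := @IsAffineHom) _ _ ‹_›
  haveI : IsAffine (Red.bc g H).left := isAffine_of_isAffineHom (Red.bc g H).hom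
  obtain ⟨C, _, _, ⟨e⟩⟩ := exists_spec (Red.bc g H)
  let i₀ : Red.bc g H ≅ sp R C := (Grp.forget _).mapIso e
  haveI : LocallyOfFinitePresentation (Red.bc g H).hom :=
    MorphismProperty.pullback_snd (P := @LocallyOfFinitePresentation) _ _ ‹_›
  have hfp : Algebra.FinitePresentation R C := by
    have h1 : LocallyOfFinitePresentation (sp R C).hom := by rw [← Over.w i₀.inv]; infer_instance
    have h2 : LocallyOfFinitePresentation (Spec.map (CommRingCat.ofHom (algebraMap R C))) := h1
    rw [HasRingHomProperty.Spec_iff (P := @LocallyOfFinitePresentation), CommRingCat.hom_ofHom,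
      RingHom.finitePresentation_algebraMap] at h2
    exact h2
  let k : Spec (CommRingCat.of C) ⟶ H.left := i₀.inv.left ≫ Limits.pullback.fst H.hom g
  haveI : IsIso i₀.inv.left := inferInstanceAs (IsIso ((Over.forget _).map i₀.inv))
  haveI : IsOpenImmersion k := inferInstanceAs (IsOpenImmersion (i₀.inv.left ≫ Limits.pullback.fst H.hom g))
  have hk : k ≫ H.hom = Spec.map (CommRingCat.ofHom (algebraMap R C)) ≫ g := by
    rw [Category.assoc, Limits.pullback.condition, ← Category.assoc]
    exact congrArg (· ≫ g) (Over.w i₀.inv)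
  have hflat : ∀ (q : Ideal C) [q.IsPrime], q.comap (algebraMap R C) = p → Module.Flat R (Localization.AtPrime q) := by
    intro q hq' hq
    let Q : Spec (CommRingCat.of C) := (⟨q, hq'⟩ : PrimeSpectrum C)
    refine flat_localization H.hom g k hk Q (hfl _ ?_)
    have h1 : H.hom (k Q) = g (Spec.map (CommRingCat.ofHom (algebraMap R C)) Q) := by
      rw [← Scheme.Hom.comp_apply, hk, Scheme.Hom.comp_apply]
    exact h1.trans (congrArg _ (PrimeSpectrum.ext hq))
  -- the fibre
  let K := p.ResidueField
  let hK : Spec (CommRingCat.of K) ⟶ S := str R K ≫ g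
  haveI : IsPreimmersion (str R K) := isPreimmersion_residueField p
  haveI : IsPreimmersion hK := inferInstanceAs (IsPreimmersion (str R K ≫ g))
  have hpt : ∀ z : Spec (CommRingCat.of K), hK z = g pt₀ := fun z => by
    show g (str R K z) = g pt₀
    refine congrArg _ (PrimeSpectrum.ext ?_)
    show (z : PrimeSpectrum K).asIdeal.comap (algebraMap R K) = p
    rw [(Ideal.eq_bot_or_top (z : PrimeSpectrum K).asIdeal).resolve_right (z : PrimeSpectrum K).isPrime.ne_top]
    exact p.ker_algebraMap_residueField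
  obtain ⟨c, hc⟩ : ∃ c : Spec (CommRingCat.of K) ⟶ Spec (S.residueField (g pt₀)),
      c ≫ S.fromSpecResidueField (g pt₀) = hK := by
    obtain ⟨x, φ, hφ⟩ : ∃ (x : S) (φ : S.residueField x ⟶ CommRingCat.of K),
        Spec.map φ ≫ S.fromSpecResidueField x = hK :=
      ⟨_, _, (Scheme.SpecToEquivOfField K S).symm_apply_apply hK⟩
    have hx : x = g pt₀ := by
      have h1 : hK (IsLocalRing.closedPoint K) = x := by
        rw [← hφ, Scheme.Hom.comp_apply, Scheme.fromSpecResidueField_apply]
      rw [← h1, hpt]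
    subst hx
    exact ⟨Spec.map φ, hφ⟩
  have hsK : SGA3b.IsMultType K (K ⊗[R] C) := by
    obtain ⟨a⟩ := nonempty_bc_chart H g e K hK rfl
    obtain ⟨b⟩ := IsoTriv.SchemeLocal.nonempty_bc_comp (S.fromSpecResidueField (g pt₀)) c hK hc H
    exact (IsoTriv.SchemeLocal.isMultType_of_bc _ hs c (b ≪≫ a)).2
  obtain ⟨R', _, _, σ, A, _, _, π, x, het, hπ, hxi, hker, hσ, hftA, hiso⟩ :=
    IsoTriv.exists_clopen_nbhd p hfp hflat hsK
  let f : Spec (CommRingCat.of R') ⟶ S := str R R' ≫ g
  let cσ : Spec (CommRingCat.of K) ⟶ Spec (CommRingCat.of R') := Spec.map (CommRingCat.ofHom σ.toRingHom)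
  have hcσ : cσ ≫ f = hK := by
    show cσ ≫ str R R' ≫ g = str R K ≫ g
    rw [← Category.assoc]
    refine congrArg (· ≫ g) ?_
    show Spec.map _ ≫ Spec.map _ = Spec.map _
    rw [← Spec.map_comp, ← CommRingCat.ofHom_comp]
    exact congrArg (fun t => Spec.map (CommRingCat.ofHom t)) σ.comp_algebraMap
  let z₀ : Spec (CommRingCat.of K) := IsLocalRing.closedPoint K
  let s' := cσ z₀
  have hfe : Etale f := by
    haveI : Etale (str R R') := by
      show Etale (Spec.map _)
      rw [HasRingHomProperty.Spec_iff (P := @Etale), CommRingCat.hom_ofHom, RingHom.etale_algebraMap]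
      exact het
    exact MorphismProperty.comp_mem @Etale (str R R') g inferInstance inferInstance
  have hfs : f s' = g pt₀ := by
    show f (cσ z₀) = g pt₀
    rw [← Scheme.Hom.comp_apply, hcσ]
    exact hpt z₀
  haveI : IsPreimmersion (cσ ≫ f) := hcσ ▸ inferInstance
  obtain ⟨E⟩ := nonempty_bc_chart H g e R' f rfl
  let i : sp R' (R' ⊗[R] C) ≅ Red.bc f H := (Grp.forget _).mapIso E.symm
  haveI : IsMonHom i.hom := inferInstanceAs (IsMonHom E.symm.hom.hom.hom)
  let q : sp R' A ⟶ sp R' (R' ⊗[R] C) := CoactBr.pt (π : R' ⊗[R] C →ₐ[R'] A)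
  haveI : IsMonHom q := Groth.Agent.HopfLib.SpPoints.isMonHom_pt _
    (AlgHom.ext fun z => CoalgHomClass.counit_comp_apply π z)
    (AlgHom.ext fun z => (CoalgHomClass.map_comp_comul_apply π z).symm)
  haveI : IsOpenImmersion q.left :=
    isOpenImmersion_of_idem (π : R' ⊗[R] C →ₐ[R'] A).toRingHom hπ hxi hker
  haveI : IsClosedImmersion q.left := IsClosedImmersion.spec_of_surjective _ hπ
  haveI : IsIso i.hom.left := inferInstanceAs (IsIso ((Over.forget _).map i.hom))
  let j : sp R' A ⟶ Red.bc f H := q ≫ i.hom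
  haveI : IsOpenImmersion j.left := inferInstanceAs (IsOpenImmersion (q.left ≫ i.hom.left))
  refine ⟨_, f, s', hfe, hfs, isIso_residueFieldMap_of_comp cσ f z₀, sp R' A, inferInstance, j, inferInstance,
    inferInstance, inferInstanceAs (IsClosedImmersion (q.left ≫ i.hom.left)),
    IsoTriv.SchemeBridge.multTypeFT_of_isMultType hftA (IsoTriv.isMultType_of_isIsotrivial hiso), ?_, ?_⟩
  · obtain ⟨B, _, _, hetB, hfinB, hffB, N, _, ⟨ε⟩⟩ := hiso
    haveI := hffB
    haveI := hfinB
    haveI : Nontrivial R' := σ.toRingHom.domain_nontrivial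
    haveI : Nontrivial B := (FaithfulSMul.algebraMap_injective R' B).nontrivial
    obtain ⟨M, _, hM, ⟨eN⟩⟩ := exists_small ε.toAlgEquiv
    refine ⟨_, str R' B, ?_, ?_, ?_, fun y => ⟨⊤, trivial, isClosed_univ, M, inferInstance, hM, ?_⟩⟩
    · show IsFinite (Spec.map _)
      rw [IsFinite.SpecMap_iff, CommRingCat.hom_ofHom, RingHom.finite_algebraMap]
      exact hfinB
    · show Etale (Spec.map _)
      rw [HasRingHomProperty.Spec_iff (P := @Etale), CommRingCat.hom_ofHom, RingHom.etale_algebraMap]
      exact hetB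
    · exact ⟨PrimeSpectrum.comap_surjective_of_faithfullyFlat (A := R') (B := B)⟩
    · obtain ⟨d⟩ := nonempty_DS_of_triv A B (M := M)
        (ε.trans (MonoidAlgebra.domCongrBialgEquiv (R := B) (A := B) eN))
      obtain ⟨m, hm, -⟩ := SGA3cLib.GrpBC.nonempty_iso_restrict (str R' B) (Scheme.Opens.ι ⊤)
        (Scheme.Opens.ι (⊤ : (Spec (CommRingCat.of B)).Opens) ≫ str R' B) rfl (sp R' A) d
      haveI := hm
      exact ⟨Grp.mkIso' m⟩
  · refine isIso_fibre j s' fun y hy => ?_
    let Q : Spec (CommRingCat.of (R' ⊗[R] C)) := i.inv.left y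
    have hQ : (Q : PrimeSpectrum (R' ⊗[R] C)).asIdeal.comap (algebraMap R' (R' ⊗[R] C)) = RingHom.ker σ := by
      have h1 : Spec.map (CommRingCat.ofHom (algebraMap R' (R' ⊗[R] C))) Q = s' := by
        rw [← hy, ← Over.w i.inv, Scheme.Hom.comp_apply]
        rfl
      refine (congrArg PrimeSpectrum.asIdeal h1).trans ?_
      show (z₀ : PrimeSpectrum K).asIdeal.comap σ.toRingHom = _
      rw [(Ideal.eq_bot_or_top (z₀ : PrimeSpectrum K).asIdeal).resolve_right (z₀ : PrimeSpectrum K).isPrime.ne_top]
      rfl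
    haveI := (Q : PrimeSpectrum (R' ⊗[R] C)).isPrime
    have hxQ := mem_of_point p σ _ hQ hσ
    obtain ⟨a, ha⟩ : (Q : PrimeSpectrum (R' ⊗[R] C)) ∈
        Set.range (PrimeSpectrum.comap (π : R' ⊗[R] C →ₐ[R'] A).toRingHom) := by
      rw [range_comap_of_surjective _ _ hπ,
        show RingHom.ker (π : R' ⊗[R] C →ₐ[R'] A).toRingHom = Ideal.span {x} from hker]
      exact fun w hw => (Ideal.span_singleton_le_iff_mem _).mpr hxQ hw
    refine ⟨a, ?_⟩
    have ha' : q.left a = Q := ha
    show (q.left ≫ i.hom.left) a = y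
    rw [Scheme.Hom.comp_apply, ha']
    show (i.inv ≫ i.hom).left y = y
    rw [Iso.inv_hom_id]
    rfl

end Groth.Agent.S5301
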