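import Groth.Statements.S5308
import Groth.Agent.SGA3cLib.TwConstFinite
import Groth.Agent.FlatMorThick.Topological

set_option autoImplicit false
open CategoryTheory MonoidalCategory CartesianMonoidalCategory MonObj GrpObj AlgebraicGeometry
universe u
open SGA3x

namespace Groth.Agent.S5308


open CategoryTheory.Limits

/-- (i) ⇒ (ii). Let R be a commutative twisted constant S-group which is isotrivial (it becomes a
constant group over the open and closed pieces of one finite etale surjective S' ⟶ S). Then R is a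
union of open and closed subschemes which are quasi-compact, indeed finite, over S: every point of R
has an open and closed neighbourhood U in R with U ⟶ S finite. -/
theorem result {S : Scheme.{u}} (R : Over S) [GrpObj R]
    (hcomm : ∀ (X : Over S) (a b : X ⟶ R), a * b = b * a) (hR : TwC.IsTwConstGrp TwC.Topology.finiteEtale R) (x : R.left) :
    ∃ U : R.left.Opens, x ∈ U ∧ IsClosed (U : Set R.left) ∧ IsFinite (U.ι ≫ R.hom) := by
  obtain ⟨S', f, hf, hfe, hfs, hloc⟩ := hR
  haveI := hf
  haveI := hfe
  haveI := hfs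
  have hR' : TwC.IsTwConst TwC.Topology.fpqc R := by
    refine ⟨S', f, inferInstance, inferInstance, fun V hV => ⟨f ⁻¹ᵁ V, f.isCompact_preimage hV.isCompact,
      Set.image_preimage_eq _ f.surjective⟩, fun s => ?_⟩
    obtain ⟨U, hsU, -, M, _, e, -⟩ := hloc s
    exact ⟨U, hsU, M, ⟨e⟩⟩
  obtain ⟨x', hx'⟩ := (pullback.fst R.hom f).surjective x
  obtain ⟨U, hxU, hUc, M, _, e, -⟩ := hloc (pullback.snd R.hom f x')
  let g := U.ι ≫ f
  obtain ⟨a, ha1, -⟩ := Scheme.Pullback.exists_preimage_pullback (f := R.hom) (g := g) x ⟨_, hxU⟩ (by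
    show R.hom x = f (pullback.snd R.hom f x')
    rw [← hx', ← Scheme.Hom.comp_apply, pullback.condition, Scheme.Hom.comp_apply])
  obtain ⟨m, w, hw⟩ := (sigmaOpenCover (fun _ : M => (U : Scheme.{u}))).exists_eq (e.hom.left a)
  let c : (U : Scheme.{u}) ⟶ (TwC.const (U : Scheme.{u}) M).left := Sigma.ι (fun _ : M => (U : Scheme.{u})) m
  let π := c ≫ e.inv.left ≫ pullback.fst R.hom g
  haveI : IsIso e.inv.left := inferInstanceAs (IsIso ((Over.forget _).map e.inv))
  haveI : IsClosedImmersion U.ι := IsClosedImmersion.of_isPreimmersion _ (by rw [U.range_ι]; exact hUc)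
  have hπ : π ≫ R.hom = g := by
    simp only [π, Category.assoc, pullback.condition]
    rw [show e.inv.left ≫ pullback.snd R.hom g ≫ g = (e.inv.left ≫ (Red.bc g R).hom) ≫ g from rfl, Over.w,
      ← Category.assoc]
    exact (congrArg (· ≫ g) (Sigma.ι_desc _ _)).trans (Category.id_comp _)
  have hc1 : IsClosed (Set.range c) := by
    have : Set.range c = ⋂ n : {n : M // n ≠ m}, (Set.range (Sigma.ι (fun _ : M => (U : Scheme.{u})) n.1))ᶜ := by
      ext y
      obtain ⟨n, v, hv⟩ := (sigmaOpenCover (fun _ : M => (U : Scheme.{u}))).exists_eq y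
      simp only [Set.mem_iInter, Set.mem_compl_iff]
      constructor
      · rintro ⟨q, rfl⟩ ⟨k, hk⟩ ⟨r, hr⟩
        exact hk (congrArg Sigma.fst ((sigmaι_eq_iff (fun _ : M => (U : Scheme.{u})) k m r q).1 hr))
      · intro h
        by_cases hn : n = m
        · subst hn; exact ⟨v, hv⟩
        · exact absurd ⟨v, hv⟩ (h ⟨n, hn⟩)
    rw [this]
    exact isClosed_iInter fun n => (Scheme.Hom.isOpenEmbedding _).isOpen_range.isClosed_compl
  haveI : IsClosedImmersion c := IsClosedImmersion.of_isPreimmersion _ hc1
  haveI : Etale (pullback.fst R.hom g) := MorphismProperty.pullback_fst _ _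
    (MorphismProperty.comp_mem @Etale U.ι f inferInstance inferInstance)
  haveI : IsFinite (pullback.fst R.hom g) := MorphismProperty.pullback_fst _ _
    (MorphismProperty.comp_mem @IsFinite U.ι f (IsFinite.iff_isProper_and_isAffineHom.2 ⟨inferInstance, inferInstance⟩) inferInstance)
  have hπo : IsOpen (Set.range π) := by
    rw [show Set.range π = pullback.fst R.hom g '' (e.inv.left '' Set.range c) from by
      rw [← Set.image_univ, ← Set.image_univ, Set.image_image, Set.image_image]
      exact Set.image_congr' fun _ => rfl]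
    exact (pullback.fst R.hom g).isOpenMap _ (e.inv.left.homeomorph.isOpenMap _ c.isOpenEmbedding.isOpen_range)
  have hπc : IsClosed (Set.range π) := by
    rw [show Set.range π = pullback.fst R.hom g '' (e.inv.left '' Set.range c) from by
      rw [← Set.image_univ, ← Set.image_univ, Set.image_image, Set.image_image]
      exact Set.image_congr' fun _ => rfl]
    exact (pullback.fst R.hom g).isClosedMap _ (e.inv.left.homeomorph.isClosedMap _ hc1)
  let W : R.left.Opens := ⟨Set.range π, hπo⟩
  refine ⟨W, ⟨w, ?_⟩, hπc, ?_⟩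
  · show pullback.fst R.hom g (e.inv.left (c w)) = x
    rw [show c w = e.hom.left a from hw, ← Scheme.Hom.comp_apply e.hom.left, ← Over.comp_left, Iso.hom_inv_id]
    simpa using ha1
  haveI : IsClosedImmersion W.ι := IsClosedImmersion.of_isPreimmersion _ (by rw [W.range_ι]; exact hπc)
  let π' := IsOpenImmersion.lift W.ι π (by rw [W.range_ι]; exact subset_rfl)
  have hπ' : π' ≫ W.ι = π := IsOpenImmersion.lift_fac _ _ _
  haveI : Surjective π' := ⟨fun y => by
    obtain ⟨u', hu'⟩ := (y.2 : y.1 ∈ Set.range π)
    refine ⟨u', W.ι.isOpenEmbedding.injective ?_⟩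
    rw [← Scheme.Hom.comp_apply, hπ']
    exact hu'⟩
  haveI : QuasiCompact (π' ≫ W.ι ≫ R.hom) := by
    rw [← Category.assoc, hπ', hπ]
    infer_instance
  haveI := Groth.Agent.FlatMorThick.quasiCompact_of_comp_surjective π' (W.ι ≫ R.hom)
  exact SGA3cLib.TwConstFinite.isFinite_closed R hR' W.ι

end Groth.Agent.S5308
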