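import Groth.Statements.S5309
import Mathlib.AlgebraicGeometry.Morphisms.Immersion
import Mathlib.AlgebraicGeometry.Noetherian
import Mathlib.RingTheory.Filtration

set_option backward.isDefEq.respectTransparency.types false
set_option linter.style.haveILetI false

set_option autoImplicit false
open CategoryTheory MonoidalCategory CartesianMonoidalCategory MonObj GrpObj AlgebraicGeometry
universe u
open CategoryTheory.Limits
open SGA3x

namespace Groth.Agent.S5309

open CategoryTheory AlgebraicGeometry TopologicalSpace IsLocalRing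

variable {X : Scheme.{u}}

/-- The subscheme `x : Z ⟶ X` contains an open neighbourhood of `y`. -/
def Good {Z : Scheme.{u}} (x : Z ⟶ X) (y : X) : Prop :=
  ∃ W : X.Opens, y ∈ W ∧ ∃ r : (W : Scheme.{u}) ⟶ Z, r ≫ x = W.ι

theorem isOpen_good {Z : Scheme.{u}} (x : Z ⟶ X) : IsOpen {y : X | Good x y} :=
  isOpen_iff_forall_mem_open.mpr fun _ ⟨W, hy, hr⟩ => ⟨W, fun _ hz => ⟨W, hz, hr⟩, W.2, hy⟩

theorem Good.of_comp {Z Z' : Scheme.{u}} {x : Z ⟶ X} {x' : Z' ⟶ X} {y : X} (h : Good x y)
    (t : Z ⟶ Z') (ht : t ≫ x' = x) : Good x' y := by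
  obtain ⟨W, hy, r, hr⟩ := h
  exact ⟨W, hy, r ≫ t, by rw [Category.assoc, ht, hr]⟩

/-- Factorisation of the spectrum of an algebra over the local ring at `y` through the subscheme. -/
def Factors {Z : Scheme.{u}} (x : Z ⟶ X) (y : X) {C : CommRingCat.{u}} (ψ : X.presheaf.stalk y ⟶ C) : Prop :=
  ∃ r : Spec C ⟶ Z, r ≫ x = Spec.map ψ ≫ X.fromSpecStalk y

theorem exists_localIdeal [IsLocallyNoetherian X] {Z : Scheme.{u}} (x : Z ⟶ X) [IsImmersion x] (y : X)
    (hy : y ∈ Set.range x) :
    ∃ K : Ideal (X.presheaf.stalk y), (∀ (C : CommRingCat.{u}) (ψ : X.presheaf.stalk y ⟶ C),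
      Factors x y ψ ↔ K ≤ RingHom.ker ψ.hom) ∧ (K = ⊥ → Good x y) := by
  classical
  obtain ⟨V, hV, hyV, hVW⟩ := exists_isAffineOpen_mem_and_subset (X := X) (x := y) (U := x.coborderRange)
    (subset_coborder hy)
  haveI : IsClosedImmersion (pullback.snd x hV.fromSpec) := by
    refine IsClosedImmersion.of_isPreimmersion _ ?_
    rw [Scheme.Pullback.range_snd]
    have hc : Continuous fun p => (⟨hV.fromSpec p, hVW (show hV.fromSpec p ∈ (V : Set X) by rw [← hV.range_fromSpec]; exact Set.mem_range_self p)⟩ :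
        ↥(coborder (Set.range x))) := hV.fromSpec.continuous.subtype_mk _
    exact (isClosed_preimage_val_coborder (s := Set.range x)).preimage hc
  obtain ⟨I, e, he⟩ := IsClosedImmersion.Spec_iff.mp
    (inferInstance : IsClosedImmersion (pullback.snd x hV.fromSpec))
  have key : ∀ (C : CommRingCat.{u}) (φ : Γ(X, V) ⟶ C),
      (∃ r : Spec C ⟶ Z, r ≫ x = Spec.map φ ≫ hV.fromSpec) ↔ I ≤ RingHom.ker φ.hom := by
    intro C φ
    constructor
    · rintro ⟨r, hr⟩
      let l := pullback.lift r (Spec.map φ) hr ≫ e.hom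
      have hl : Spec.map (Spec.preimage l) ≫ Spec.map (CommRingCat.ofHom (Ideal.Quotient.mk I)) = Spec.map φ := by
        rw [Spec.map_preimage, Category.assoc, ← he, pullback.lift_snd]
      rw [← Spec.map_comp] at hl
      intro a ha
      rw [RingHom.mem_ker, ← Spec.map_injective hl]
      show (Spec.preimage l).hom (Ideal.Quotient.mk I a) = 0
      rw [Ideal.Quotient.eq_zero_iff_mem.mpr ha, map_zero]
    · intro h
      refine ⟨Spec.map (CommRingCat.ofHom (Ideal.Quotient.lift I φ.hom h)) ≫ e.inv ≫ pullback.fst _ _, ?_⟩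
      have he' : e.inv ≫ pullback.snd x hV.fromSpec = Spec.map (CommRingCat.ofHom (Ideal.Quotient.mk I)) := by
        rw [he, Iso.inv_hom_id_assoc]
      rw [Category.assoc, Category.assoc, pullback.condition, ← Category.assoc e.inv, he', ← Spec.map_comp_assoc]
      rfl
  let γ := X.presheaf.germ V y hyV
  have hγ : Spec.map γ ≫ hV.fromSpec = X.fromSpecStalk y := hV.fromSpecStalk_eq_fromSpecStalk hyV
  refine ⟨I.map γ.hom, fun C ψ => ?_, fun h0 => ?_⟩
  · have h := key C (γ ≫ ψ)
    rw [Spec.map_comp, Category.assoc, hγ] at h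
    rw [Factors, h, Ideal.map_le_iff_le_comap, RingHom.comap_ker]
    rfl
  · haveI : IsNoetherianRing Γ(X, V) := IsLocallyNoetherian.component_noetherian ⟨V, hV⟩
    letI := X.presheaf.algebra_section_stalk ⟨y, hyV⟩
    haveI := hV.isLocalization_stalk ⟨y, hyV⟩
    obtain ⟨T, hT⟩ := IsNoetherian.noetherian I
    have hm : ∀ a ∈ T, ∃ g : (hV.primeIdealOf ⟨y, hyV⟩).asIdeal.primeCompl, (g : Γ(X, V)) * a = 0 := fun a ha => by
      refine (IsLocalization.map_eq_zero_iff _ (X.presheaf.stalk y) a).mp ?_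
      exact (Ideal.map_eq_bot_iff_le_ker _).mp h0 (hT ▸ Submodule.subset_span ha)
    choose g hg using hm
    let G : Γ(X, V) := ∏ a : T, (g a.1 a.2 : Γ(X, V))
    have hG : G ∈ (hV.primeIdealOf ⟨y, hyV⟩).asIdeal.primeCompl :=
      Submonoid.prod_mem _ fun a _ => (g a.1 a.2).2
    have hyG : y ∈ X.basicOpen G := by
      rw [Scheme.mem_basicOpen _ _ _ hyV]
      exact (IsLocalization.map_units (X.presheaf.stalk y) ⟨G, hG⟩ :)
    let res : Γ(X, V) ⟶ Γ(X, X.basicOpen G) := X.presheaf.map (homOfLE (X.basicOpen_le G)).op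
    have hGu : IsUnit (res G) := X.toRingedSpace.isUnit_res_basicOpen G
    obtain ⟨r, hr⟩ := (key _ res).mpr (by
      rw [← hT, Submodule.span_le]
      intro a ha
      have h1 : G * a = 0 := by
        show (∏ b : T, (g b.1 b.2 : Γ(X, V))) * a = 0
        rw [← Finset.mul_prod_erase _ _ (Finset.mem_univ ⟨a, ha⟩), mul_comm, ← _root_.mul_assoc, mul_comm a, hg a ha,
          zero_mul]
      refine hGu.mul_right_eq_zero.mp ?_
      show res.hom G * res.hom a = 0
      rw [← map_mul, h1, map_zero])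
    have hW : IsAffineOpen (X.basicOpen G) := hV.basicOpen G
    refine ⟨X.basicOpen G, hyG, hW.isoSpec.hom ≫ r, ?_⟩
    rw [Category.assoc, hr, hV.map_fromSpec hW, IsAffineOpen.isoSpec_hom_fromSpec]

/-- Let S be a Noetherian scheme, f : X ⟶ S quasi-finite (locally quasi-finite, of finite type), and
(X_i) an increasing filtered family of subschemes of X (immersions x_i : X_i ⟶ X indexed by a
directed preorder, x_i factoring through x_j for i ≤ j) such that for every s ∈ S and every n ≥ 0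
there is an index i for which the base change of x_i to Spec (O_{S,s}/𝔪_s^(n+1)) is an isomorphism
onto X ×_S Spec (O_{S,s}/𝔪_s^(n+1)). Then x_i is an isomorphism for some i. -/
theorem result {S X : Scheme.{u}} [IsNoetherian S] (f : X ⟶ S)
    [LocallyQuasiFinite f] [LocallyOfFiniteType f] [QuasiCompact f]
    {D : Type u} [Preorder D] [IsDirected D (fun a b => a ≤ b)] [Nonempty D]
    (Xi : D → Scheme.{u}) (x : ∀ i, Xi i ⟶ X) (hx : ∀ i, IsImmersion (x i))
    (hmono : ∀ i j, i ≤ j → ∃ t : Xi i ⟶ Xi j, t ≫ x j = x i)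
    (h : ∀ (s : S) (n : ℕ), ∃ i : D,
      IsIso (pullback.snd (x i) (pullback.fst f
        (Spec.map (CommRingCat.ofHom (Ideal.Quotient.mk (IsLocalRing.maximalIdeal (S.presheaf.stalk s) ^ (n + 1)))) ≫ S.fromSpecStalk s)))) :
    ∃ i : D, IsIso (x i) := by
  classical
  haveI := LocallyOfFiniteType.isLocallyNoetherian f
  haveI : CompactSpace X := QuasiCompact.compactSpace_of_compactSpace f
  haveI : IsNoetherian X := ⟨⟩
  haveI := fun i => hx i
  let U : D → Set X := fun i => {y | Good (x i) y}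
  have hUmono : ∀ i j, i ≤ j → U i ⊆ U j := fun i j hij y hy => by
    obtain ⟨t, ht⟩ := hmono i j hij
    exact hy.of_comp t ht
  have hcompact : ∀ P : Set X, P ⊆ (⋃ i, U i) → ∃ i, P ⊆ U i := fun P hP =>
    (NoetherianSpace.isCompact P).elim_directed_cover U (fun i => isOpen_good (x i)) hP
      (fun i j => by
        obtain ⟨k, hik, hjk⟩ := directed_of (fun a b => a ≤ b) i j
        exact ⟨k, hUmono i k hik, hUmono j k hjk⟩)
  have step : ∀ y : X, (∀ y' : X, y' ⤳ y → y' ≠ y → y' ∈ ⋃ i, U i) → y ∈ ⋃ i, U i := by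
    intro y hy
    obtain ⟨i₁, hi₁⟩ := hcompact {y' | y' ⤳ y ∧ y' ≠ y} (fun y' h' => hy y' h'.1 h'.2)
    let B := X.presheaf.stalk y
    have hlift : ∀ n : ℕ, ∃ i : D, ∀ j, i ≤ j → Factors (x j) y (CommRingCat.ofHom (Ideal.Quotient.mk
        ((maximalIdeal (S.presheaf.stalk (f y))).map (f.stalkMap y).hom ^ (n + 1)))) := by
      intro n
      obtain ⟨i, hi⟩ := h (f y) n
      refine ⟨i, fun j hij => ?_⟩
      obtain ⟨t, ht⟩ := hmono i j hij
      let J := (maximalIdeal (S.presheaf.stalk (f y))).map (f.stalkMap y).hom ^ (n + 1)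
      let q := Ideal.Quotient.lift (maximalIdeal (S.presheaf.stalk (f y)) ^ (n + 1))
        ((Ideal.Quotient.mk J).comp (f.stalkMap y).hom) (fun a ha => Ideal.Quotient.eq_zero_iff_mem.mpr (by
          show _ ∈ Ideal.map _ _ ^ _
          rw [← Ideal.map_pow]; exact Ideal.mem_map_of_mem _ ha))
      have hw : (Spec.map (CommRingCat.ofHom (Ideal.Quotient.mk J)) ≫ X.fromSpecStalk y) ≫ f =
          Spec.map (CommRingCat.ofHom q) ≫ Spec.map (CommRingCat.ofHom (Ideal.Quotient.mk _)) ≫
            S.fromSpecStalk (f y) := by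
        rw [Category.assoc, ← Scheme.SpecMap_stalkMap_fromSpecStalk, ← Spec.map_comp_assoc, ← Spec.map_comp_assoc]
        rfl
      let e := @asIso _ _ _ _ _ hi
      let l := pullback.lift (f := f) (g := Spec.map (CommRingCat.ofHom (Ideal.Quotient.mk
        (maximalIdeal (S.presheaf.stalk (f y)) ^ (n + 1)))) ≫ S.fromSpecStalk (f y)) (Spec.map (CommRingCat.ofHom (Ideal.Quotient.mk J)) ≫ X.fromSpecStalk y)
        (Spec.map (CommRingCat.ofHom q)) hw
      refine ⟨l ≫ e.inv ≫ pullback.fst _ _ ≫ t, ?_⟩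
      rw [Category.assoc, Category.assoc, Category.assoc, ht, pullback.condition, ← Category.assoc e.inv,
        show e.inv ≫ pullback.snd (x i) _ = 𝟙 _ from e.inv_hom_id, Category.id_comp, pullback.lift_fst]
      rfl
    have hJm : (maximalIdeal (S.presheaf.stalk (f y))).map (f.stalkMap y).hom ≤ maximalIdeal B := by
      rw [Ideal.map_le_iff_le_comap]
      exact (maximalIdeal_comap (f.stalkMap y).hom).ge
    have hclosed : ∀ {Z : Scheme.{u}} (z : Z ⟶ X),
        Factors z y (CommRingCat.ofHom (residue B)) → y ∈ Set.range z := by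
      rintro Z z ⟨r, hr⟩
      refine ⟨r (closedPoint (ResidueField B)), ?_⟩
      haveI : IsLocalHom (CommRingCat.ofHom (residue B)).hom := inferInstanceAs (IsLocalHom (residue B))
      rw [← Scheme.Hom.comp_apply, hr, Scheme.Hom.comp_apply, Spec_closedPoint, Scheme.fromSpecStalk_closedPoint]
    have hrange : ∃ i, ∀ j, i ≤ j → y ∈ Set.range (x j) := by
      obtain ⟨i, hi⟩ := hlift 0
      refine ⟨i, fun j hij => hclosed (x j) ?_⟩
      obtain ⟨r, hr⟩ := hi j hij
      refine ⟨Spec.map (CommRingCat.ofHom (Ideal.Quotient.factor ((pow_one _).trans_le hJm))) ≫ r, ?_⟩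
      rw [Category.assoc, hr, ← Spec.map_comp_assoc]
      rfl
    obtain ⟨i₂, hi₂⟩ := hrange
    obtain ⟨j₀, hj₁, hj₂⟩ := directed_of (fun a b => a ≤ b) i₁ i₂
    obtain ⟨K₀, hK₀, -⟩ := exists_localIdeal (x j₀) y (hi₂ j₀ hj₂)
    have hann : maximalIdeal B ≤ (Submodule.annihilator K₀).radical := by
      rw [Ideal.radical_eq_sInf]
      refine le_sInf fun p hp => ?_
      haveI := hp.2
      by_contra hne
      let C := CommRingCat.of (Localization.AtPrime p)
      let ψ : B ⟶ C := CommRingCat.ofHom (algebraMap B (Localization.AtPrime p))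
      let y' := (Spec.map ψ ≫ X.fromSpecStalk y) (closedPoint C)
      have hy' : y' ⤳ y := by
        have : y' ∈ Set.range (X.fromSpecStalk y) := ⟨_, rfl⟩
        rwa [Scheme.range_fromSpecStalk] at this
      have hne' : y' ≠ y := fun he => by
        have h2 : Spec.map ψ (closedPoint C) = closedPoint B :=
          (X.fromSpecStalk y).isEmbedding.injective (by
            rw [← Scheme.Hom.comp_apply, Scheme.fromSpecStalk_closedPoint]; exact he)
        refine hne (le_of_eq ?_)
        have h3 := congrArg PrimeSpectrum.asIdeal h2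
        rw [← IsLocalization.AtPrime.comap_maximalIdeal (Localization.AtPrime p) p]
        exact h3.symm
      obtain ⟨W, hW, r, hr⟩ := hUmono i₁ j₀ hj₁ (hi₁ ⟨hy', hne'⟩)
      have htop : (Spec.map ψ ≫ X.fromSpecStalk y) ⁻¹ᵁ W = ⊤ :=
        (closedPoint_mem_iff (R := C) _).mp hW
      have hsub : Set.range (Spec.map ψ ≫ X.fromSpecStalk y) ⊆ Set.range W.ι := by
        rw [Scheme.Opens.range_ι]
        rintro _ ⟨c, rfl⟩
        have : c ∈ (Spec.map ψ ≫ X.fromSpecStalk y) ⁻¹ᵁ W := htop ▸ trivial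
        exact this
      have hker := (hK₀ C ψ).mp ⟨IsOpenImmersion.lift W.ι _ hsub ≫ r, by
        rw [Category.assoc, hr, IsOpenImmersion.lift_fac]⟩
      obtain ⟨T, hT⟩ := IsNoetherian.noetherian K₀
      have hg : ∀ a ∈ T, ∃ g : p.primeCompl, (g : B) * a = 0 := fun a ha =>
        (IsLocalization.map_eq_zero_iff _ (Localization.AtPrime p) a).mp
          (hker (hT ▸ Submodule.subset_span ha))
      choose g hg using hg
      have hG : (∏ a : T, (g a.1 a.2 : B)) ∈ p.primeCompl := Submonoid.prod_mem _ fun a _ => (g a.1 a.2).2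
      refine hG (hp.1 ?_)
      rw [← hT, Submodule.mem_annihilator_span]
      rintro ⟨a, ha⟩
      show (∏ b : T, (g b.1 b.2 : B)) * a = 0
      rw [← Finset.mul_prod_erase _ _ (Finset.mem_univ ⟨a, ha⟩), mul_comm, ← _root_.mul_assoc, mul_comm a, hg a ha,
        zero_mul]
    obtain ⟨N, hN⟩ := Ideal.exists_pow_le_of_le_radical_of_fg hann (IsNoetherian.noetherian _)
    obtain ⟨k, hk⟩ := Ideal.exists_pow_inf_eq_pow_smul (maximalIdeal B) (M := B) K₀
    have hzero : maximalIdeal B ^ (k + N) ⊓ K₀ = ⊥ := by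
      have := hk (k + N) (by omega)
      simp only [smul_eq_mul, Ideal.mul_top, add_tsub_cancel_left] at this
      rw [this, eq_bot_iff, ← Submodule.annihilator_mul K₀]
      exact Ideal.mul_mono hN inf_le_right
    obtain ⟨i₃, hi₃⟩ := hlift (k + N)
    obtain ⟨j, hj₀, hj₃⟩ := directed_of (fun a b => a ≤ b) j₀ i₃
    obtain ⟨K, hK, hgood⟩ := exists_localIdeal (x j) y (hi₂ j (hj₂.trans hj₀))
    refine Set.mem_iUnion.mpr ⟨j, hgood (eq_bot_iff.mpr (hzero ▸ le_inf ?_ ?_))⟩
    · refine ((hK _ _).mp (hi₃ j hj₃)).trans ?_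
      show RingHom.ker (Ideal.Quotient.mk _) ≤ _
      rw [Ideal.mk_ker]
      exact (Ideal.pow_right_mono hJm _).trans (Ideal.pow_le_pow_right (by omega))
    · obtain ⟨r, hr⟩ := (hK₀ (CommRingCat.of (B ⧸ K₀)) (CommRingCat.ofHom (Ideal.Quotient.mk K₀))).mpr
        (le_of_eq Ideal.mk_ker.symm)
      obtain ⟨t, ht⟩ := hmono j₀ j hj₀
      refine ((hK _ _).mp ⟨r ≫ t, (Category.assoc _ _ _).trans ((congrArg (r ≫ ·) ht).trans hr)⟩).trans (le_of_eq Ideal.mk_ker)
  have hall : ∀ y : X, y ∈ ⋃ i, U i := by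
    by_contra hne
    push Not at hne
    obtain ⟨y₀, hy₀⟩ := hne
    have hCclosed : IsClosed (⋃ i, U i)ᶜ := (isOpen_iUnion fun i => isOpen_good (x i)).isClosed_compl
    let C := {y : X // y ∈ (⋃ i, U i)ᶜ}
    let Z : Set C := irreducibleComponent ⟨y₀, hy₀⟩
    have hZ : IsIrreducible Z := isIrreducible_irreducibleComponent
    have hirr : IsIrreducible (Subtype.val '' Z) := hZ.image _ continuous_subtype_val.continuousOn
    have hcl : IsClosed (Subtype.val '' Z) :=
      (IsClosed.isClosedEmbedding_subtypeVal hCclosed).isClosedMap _ isClosed_irreducibleComponent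
    have hη : IsGenericPoint hirr.genericPoint (Subtype.val '' Z) := by
      simpa [hcl.closure_eq] using hirr.isGenericPoint_genericPoint_closure
    obtain ⟨⟨η₁, hη₁⟩, hηZ, he⟩ := hη.mem
    dsimp at he
    subst he
    refine hη₁ (step _ fun y' hs hne' => by_contra fun hy' => hne' ?_)
    let c : C := ⟨y', hy'⟩
    have hsub : Z ⊆ closure {c} := by
      intro z hz
      rw [← specializes_iff_mem_closure]
      exact (subtype_specializes_iff c z).mpr (hs.trans (hη.specializes ⟨z, hz, rfl⟩))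
    have heq : closure {c} ⊆ Z := (irreducibleComponent_mem_irreducibleComponents _).2
      isIrreducible_singleton.closure hsub
    exact (hs.antisymm (hη.specializes ⟨c, heq (subset_closure rfl), rfl⟩)).eq
  obtain ⟨i, hi⟩ := hcompact Set.univ (fun y _ => hall y)
  refine ⟨i, ?_⟩
  choose W hW r hr using fun y => hi (Set.mem_univ y)
  let 𝒰 := X.openCoverOfIsOpenCover W (by
    refine eq_top_iff.mpr fun y _ => ?_
    exact TopologicalSpace.Opens.mem_iSup.mpr ⟨y, hW y⟩)
  let σ : X ⟶ Xi i := 𝒰.glueMorphisms r (fun a b => by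
    refine (cancel_mono (x i)).mp ?_
    simp only [Category.assoc]
    erw [hr, hr]
    exact pullback.condition)
  have hσ : σ ≫ x i = 𝟙 X := 𝒰.hom_ext _ _ fun a => by
    rw [Scheme.Cover.ι_glueMorphisms_assoc, Category.comp_id]
    exact hr a
  exact ⟨σ, by rw [← cancel_mono (x i), Category.assoc, hσ, Category.comp_id, Category.id_comp], hσ⟩

end Groth.Agent.S5309
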