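import Groth.Statements.S5310
import Groth.Agent.SGA3UnitSec.OpenSubgroup

set_option autoImplicit false
set_option backward.isDefEq.respectTransparency.types false
set_option linter.style.haveILetI false
universe u
open CategoryTheory CategoryTheory.Limits MonoidalCategory CartesianMonoidalCategory MonObj GrpObj AlgebraicGeometry
open SGA3

namespace Groth.Agent.S5310

/-- Let u : G → H be a homomorphism of S-group schemes, with G or H flat over S and G or H locally of
finite presentation over S. Let P be one of the properties 'flat and locally of finite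
presentation', 'smooth', 'etale', and let V be the largest open subscheme of G on which the
restriction of u has P. Then the image U of V in S is open and V is an open subgroup scheme of G
over U: V contains the unit point of every fibre of G that it meets, V is stable under the inversion
of G, and the product of a point of G ×_S G whose two projections lie in V lies in V. -/
theorem result (S : Scheme.{u}) (G H : Over S) [GrpObj G] [GrpObj H]
    (u : G ⟶ H) [IsMonHom u]
    (hfl : Flat G.hom ∨ Flat H.hom) (hfp : LocallyOfFinitePresentation G.hom ∨ LocallyOfFinitePresentation H.hom)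
    (P : MorphismProperty Scheme.{u})
    (hP : (∀ (X Y : Scheme.{u}) (f : X ⟶ Y), P f ↔ (Flat f ∧ LocallyOfFinitePresentation f)) ∨
      (∀ (X Y : Scheme.{u}) (f : X ⟶ Y), P f ↔ Smooth f) ∨ (∀ (X Y : Scheme.{u}) (f : X ⟶ Y), P f ↔ Etale f))
    (V : G.left.Opens) (hV : P (V.ι ≫ u.left)) (hmax : ∀ W : G.left.Opens, P (W.ι ≫ u.left) → W ≤ V) :
    IsOpen (G.hom.base '' (V : Set G.left)) ∧
    (∀ g ∈ V, ∀ p : ↥(𝟙_ (Over S)).left, (𝟙_ (Over S)).hom.base p = G.hom.base g → η[G].left.base p ∈ V) ∧
    (∀ g ∈ V, ι[G].left.base g ∈ V) ∧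
    (∀ z : ↥(G ⊗ G).left, (fst G G).left.base z ∈ V → (snd G G).left.base z ∈ V → μ[G].left.base z ∈ V) := by
  have hVfl : Flat (V.ι ≫ u.left) ∧ LocallyOfFinitePresentation (V.ι ≫ u.left) := by
    rcases hP with h | h | h
    · exact (h _ _ _).1 hV
    · haveI := (h _ _ _).1 hV
      exact ⟨inferInstance, inferInstance⟩
    · haveI := (h _ _ _).1 hV
      exact ⟨inferInstance, inferInstance⟩
  have hQ1 : Flat (V.ι ≫ G.hom) := by
    rcases hfl with h | h
    · exact MorphismProperty.comp_mem _ _ _ inferInstance h
    · rw [← Over.w u, ← Category.assoc]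
      exact MorphismProperty.comp_mem _ _ _ hVfl.1 h
  have hQ2 : LocallyOfFinitePresentation (V.ι ≫ G.hom) := by
    rcases hfp with h | h
    · exact MorphismProperty.comp_mem _ _ _ inferInstance h
    · rw [← Over.w u, ← Category.assoc]
      exact MorphismProperty.comp_mem _ _ _ hVfl.2 h
  refine ⟨?_, Groth.Agent.SGA3UnitSec.subgroup_of_translate (@Flat ⊓ @LocallyOfFinitePresentation) V ⟨hQ1, hQ2⟩
    fun hT c σ t ht => ?_⟩
  · haveI := hQ1
    haveI := hQ2
    have h := (V.ι ≫ G.hom).isOpenMap _ isOpen_univ
    rwa [Set.image_univ, Scheme.Hom.comp_base, TopCat.coe_comp, Set.range_comp, Scheme.Opens.range_ι] at h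
  · haveI := hT.1
    haveI := hT.2
    rcases hP with h | h | h
    · obtain ⟨W, _, hW, h1, h2, -⟩ := Groth.Agent.SGA3UnitSec.exists_flatFP_translate u
        (@Flat ⊓ @LocallyOfFinitePresentation) (fun _ _ _ h => h) V hVfl c σ t ht
      exact hmax W ((h _ _ _).2 ⟨h1, h2⟩) hW
    · obtain ⟨W, hW, h1⟩ := Groth.Agent.SGA3UnitSec.exists_smooth_translate u V ((h _ _ _).1 hV) c σ t ht
      exact hmax W ((h _ _ _).2 h1) hW
    · obtain ⟨W, hW, h1⟩ := Groth.Agent.SGA3UnitSec.exists_etale_translate u V ((h _ _ _).1 hV) c σ t ht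
      exact hmax W ((h _ _ _).2 h1) hW

end Groth.Agent.S5310
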