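import Groth.Statements.S5315
import Groth.Agent.SGA3UnitSec.LqfLocus

set_option autoImplicit false
set_option backward.isDefEq.respectTransparency.types false
set_option linter.style.haveILetI false
universe u
open CategoryTheory CategoryTheory.Limits MonoidalCategory CartesianMonoidalCategory MonObj GrpObj AlgebraicGeometry
open SGA3
open scoped CategoryTheory.Obj

namespace Groth.Agent.S5315

/-- Let u : G → H be a homomorphism of S-group schemes which is locally of finite type, and suppose
every fibre G_s is locally of finite type over κ(s). Then the set U of points s of S such that u_s :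
G_s → H_s is locally quasi-finite is open in S, and the set of points of G at which u is
quasi-finite (u is locally quasi-finite on some open neighbourhood) is the inverse image of U in G.
(The published statement assumes u locally of finite type only near the unit section for the
openness of U; this row assumes it on all of G, the case in which the second assertion is stated.) -/
theorem result (S : Scheme.{u}) (G H : Over S) [GrpObj G] [GrpObj H] (u : G ⟶ H)
    [IsMonHom u] [LocallyOfFiniteType u.left] (hG : ∀ s : S, LocallyOfFiniteType (G.hom.fiberToSpecResidueField s)) :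
    IsOpen {s : S | LocallyQuasiFinite ((Over.pullback (S.fromSpecResidueField s)).map u).left} ∧
    {x : G.left | ∃ W : G.left.Opens, x ∈ W ∧ LocallyQuasiFinite (W.ι ≫ u.left)} =
      G.hom.base ⁻¹' {s : S | LocallyQuasiFinite ((Over.pullback (S.fromSpecResidueField s)).map u).left} := by
  obtain ⟨K, _, i, _, hK⟩ := Groth.Agent.SGA3UnitSec.exists_kernel u
  have hsq := Groth.Agent.SGA3UnitSec.isPullback_kernel u hK
  haveI : LocallyOfFiniteType K.hom := MorphismProperty.of_isPullback hsq inferInstance
  let ε : S ⟶ K.left := η[K].left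
  have hε : ε ≫ K.hom = 𝟙 S := Over.w η[K]
  have hεs : ∀ s, K.hom (ε s) = s := fun s => congrArg (fun q : S ⟶ S => q s) hε
  let U : S.Opens := ε ⁻¹ᵁ K.hom.quasiFiniteLocus
  have hA : LocallyQuasiFinite ((G.hom ⁻¹ᵁ U).ι ≫ u.left) :=
    Groth.Agent.SGA3UnitSec.locallyQuasiFinite_restrict u hK U fun s hs =>
      Groth.Agent.SGA3UnitSec.discreteTopology_fiber_of_unit K s hs
  have hiff : ∀ s, s ∈ U ↔ LocallyQuasiFinite ((Over.pullback (S.fromSpecResidueField s)).map u).left := by
    refine fun s => ⟨fun hs => Groth.Agent.SGA3UnitSec.fibre_hom_of_restrict @LocallyQuasiFinite u U hA s hs, fun h => ?_⟩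
    haveI := Groth.Agent.SGA3UnitSec.fibre_kernel_of_fibre_hom @LocallyQuasiFinite hK s h
    haveI : DiscreteTopology (K.hom.fiber s) := by
      rw [← isDiscrete_univ_iff]
      have := (K.hom.fiberToSpecResidueField s).isDiscrete_preimage
        (isDiscrete_univ_iff.2 (inferInstance : DiscreteTopology (Spec (S.residueField s))))
      rwa [Set.preimage_univ] at this
    show K.hom.QuasiFiniteAt (ε s)
    rw [Scheme.Hom.quasiFiniteAt_iff_isOpen_singleton_asFiber]
    have : DiscreteTopology (K.hom.fiber (K.hom (ε s))) := by rw [hεs]; infer_instance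
    exact isOpen_discrete _
  have hU : {s : S | LocallyQuasiFinite ((Over.pullback (S.fromSpecResidueField s)).map u).left} = (U : Set S) :=
    Set.ext fun s => (hiff s).symm
  rw [hU]
  refine ⟨U.isOpen, Set.ext fun g => ⟨fun ⟨W, hg, hW⟩ => ?_, fun hg => ⟨_, hg, hA⟩⟩⟩
  show K.hom.QuasiFiniteAt (ε (G.hom g))
  rw [Scheme.Hom.quasiFiniteAt_iff_isOpen_singleton_asFiber]
  let a := G.left.fromSpecResidueField g
  let b := a ≫ G.hom
  obtain ⟨θ, sqθ, hθ⟩ := Groth.Agent.SGA3UnitSec.exists_slice u hK a
  let σ : Spec (G.left.residueField g) ⟶ pullback K.hom b :=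
    pullback.lift (b ≫ ε) (𝟙 _) (by rw [Category.assoc, hε]; simp)
  let t : Spec (G.left.residueField g) := IsLocalRing.closedPoint _
  have hσW : θ (σ t) ∈ W := by
    have e : θ (σ t) = a t := congrArg (fun f : Spec (G.left.residueField g) ⟶ G.left => f t) hθ
    rw [e]
    show (G.left.fromSpecResidueField g) t ∈ W
    rw [Scheme.fromSpecResidueField_apply]
    exact hg
  let O := θ ⁻¹ᵁ W
  haveI : LocallyQuasiFinite (O.ι ≫ pullback.snd K.hom b) :=
    MorphismProperty.of_isPullback ((isPullback_morphismRestrict θ W).paste_vert sqθ) hW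
  haveI : DiscreteTopology O := by
    rw [← isDiscrete_univ_iff]
    have := (O.ι ≫ pullback.snd K.hom b).isDiscrete_preimage
      (isDiscrete_univ_iff.2 (inferInstance : DiscreteTopology (Spec (G.left.residueField g))))
    rwa [Set.preimage_univ] at this
  have hopen : IsOpen ({σ t} : Set ↥(pullback K.hom b)) := by
    have := O.ι.isOpenEmbedding.isOpenMap _ (isOpen_discrete ({⟨σ t, hσW⟩} : Set O))
    rwa [Set.image_singleton] at this
  let q := Spec.map (G.hom.residueFieldMap g)
  have hb : b = q ≫ S.fromSpecResidueField (G.hom g) := by simp [b, q, a]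
  let m : pullback K.hom b ⟶ K.hom.fiber (G.hom g) :=
    pullback.lift (pullback.fst K.hom b) (pullback.snd K.hom b ≫ q) (by rw [Category.assoc, ← hb]; exact pullback.condition)
  have sqm : IsPullback m (pullback.snd K.hom b) (K.hom.fiberToSpecResidueField (G.hom g)) q := by
    refine IsPullback.of_right (h₁₂ := pullback.fst K.hom (S.fromSpecResidueField (G.hom g))) (v₁₃ := K.hom)
      (h₂₂ := S.fromSpecResidueField (G.hom g)) ?_ (pullback.lift_snd _ _ _)
      (IsPullback.of_hasPullback K.hom (S.fromSpecResidueField (G.hom g)))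
    rw [pullback.lift_fst, ← hb]
    exact IsPullback.of_hasPullback _ _
  haveI : UniversallyOpen q := Groth.Agent.Desc19.universallyOpen_of_subsingleton q
  haveI : UniversallyOpen m := MorphismProperty.of_isPullback sqm.flip inferInstance
  have hpt : K.hom.fiberι (G.hom g) (m (σ t)) = ε (G.hom g) := by
    have e : σ ≫ m ≫ K.hom.fiberι (G.hom g) = b ≫ ε := by
      simp only [σ, m, Scheme.Hom.fiberι]
      refine (congrArg (pullback.lift (b ≫ ε) (𝟙 _) _ ≫ ·) (pullback.lift_fst _ _ _)).trans ?_
      exact pullback.lift_fst _ _ _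
    refine (congrArg (fun f : Spec (G.left.residueField g) ⟶ K.left => f t) e).trans ?_
    show ε (G.hom ((G.left.fromSpecResidueField g) t)) = _
    rw [Scheme.fromSpecResidueField_apply]
  have key : ∀ y, y = G.hom g → ∀ w : K.hom.fiber y, K.hom.fiberι y w = ε (G.hom g) →
      IsOpen ({w} : Set (K.hom.fiber y)) := by
    rintro y rfl w hw
    have : w = m (σ t) := (K.hom.fiberι _).isEmbedding.injective (hw.trans hpt.symm)
    rw [this, ← Set.image_singleton]
    exact m.isOpenMap _ hopen
  exact key _ (hεs _) _ (K.hom.fiberι_asFiber _)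

end Groth.Agent.S5315
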