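import Groth.Statements.S5316
import Groth.Agent.SGA3UnitSec.BaseChange

set_option autoImplicit false
set_option backward.isDefEq.respectTransparency.types false
set_option linter.style.haveILetI false
universe u
open CategoryTheory CategoryTheory.Limits MonoidalCategory CartesianMonoidalCategory MonObj GrpObj AlgebraicGeometry
open SGA3
open scoped CategoryTheory.Obj

namespace Groth.Agent.S5316

/-- Let u : G → H be a homomorphism of S-group schemes which is locally of finite presentation, and
suppose every fibre G_s is locally of finite type over κ(s). Then the set U of points s of S such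
that u_s : G_s → H_s is unramified (formally unramified; it is locally of finite presentation) is
open in S, and the set of points of G at which u is unramified (formally unramified on some open
neighbourhood) is the inverse image of U in G. (The published statement assumes u locally of finite
presentation only near the unit section for the openness of U; this row assumes it on all of G, the
case in which the second assertion is stated.) -/
theorem result (S : Scheme.{u}) (G H : Over S) [GrpObj G] [GrpObj H] (u : G ⟶ H)
    [IsMonHom u] [LocallyOfFinitePresentation u.left] (hG : ∀ s : S, LocallyOfFiniteType (G.hom.fiberToSpecResidueField s)) :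
    IsOpen {s : S | FormallyUnramified ((Over.pullback (S.fromSpecResidueField s)).map u).left} ∧
    {x : G.left | ∃ W : G.left.Opens, x ∈ W ∧ FormallyUnramified (W.ι ≫ u.left)} =
      G.hom.base ⁻¹' {s : S | FormallyUnramified ((Over.pullback (S.fromSpecResidueField s)).map u).left} := by
  obtain ⟨K, _, i, _, hK⟩ := Groth.Agent.SGA3UnitSec.exists_kernel u
  have hsq := Groth.Agent.SGA3UnitSec.isPullback_kernel u hK
  haveI : LocallyOfFinitePresentation K.hom := MorphismProperty.of_isPullback hsq inferInstance
  let ε : S ⟶ K.left := η[K].left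
  have hε : ε ≫ K.hom = 𝟙 S := Over.w η[K]
  have hεs : ∀ s, K.hom (ε s) = s := fun s => congrArg (fun q : S ⟶ S => q s) hε
  let U : Set S := {s | ∃ V : K.left.Opens, ε s ∈ V ∧ FormallyUnramified (V.ι ≫ K.hom)}
  have hUopen : IsOpen U := isOpen_iff_forall_mem_open.2 fun s ⟨V, hs, hV⟩ =>
    ⟨ε ⁻¹ᵁ V, fun t ht => ⟨V, ht, hV⟩, (ε ⁻¹ᵁ V).isOpen, hs⟩
  have hA : ∀ s ∈ U, ∃ U₀ : S.Opens, s ∈ U₀ ∧ FormallyUnramified ((G.hom ⁻¹ᵁ U₀).ι ≫ u.left) := by
    rintro s ⟨V, hs, hV⟩
    haveI := hV
    exact ⟨ε ⁻¹ᵁ V, hs, Groth.Agent.SGA3UnitSec.formallyUnramified_restrict_of_unit u hK _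
      (Groth.Agent.FlatLocal.isOpenImmersion_ι_section K.hom ε hε V)⟩
  have hK_s : ∀ s, FormallyUnramified (K.hom.fiberToSpecResidueField s) → s ∈ U := fun s h => by
    refine (Groth.Agent.FlatLocal.formallyUnramified_nhd_iff K.hom (ε s)).2 ?_
    refine Groth.Agent.SGA3UnitSec.formallyUnramified_stalkMap_of_fibre K.hom (ε s) ?_
    rw [hεs]; exact h
  have hiff : ∀ s, s ∈ U ↔ FormallyUnramified ((Over.pullback (S.fromSpecResidueField s)).map u).left := by
    refine fun s => ⟨fun hs => ?_, fun h => hK_s s
      (Groth.Agent.SGA3UnitSec.fibre_kernel_of_fibre_hom @FormallyUnramified hK s h)⟩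
    obtain ⟨U₀, h0, hu⟩ := hA s hs
    exact Groth.Agent.SGA3UnitSec.fibre_hom_of_restrict @FormallyUnramified u U₀ hu s h0
  have hU : {s : S | FormallyUnramified ((Over.pullback (S.fromSpecResidueField s)).map u).left} = U :=
    Set.ext fun s => (hiff s).symm
  rw [hU]
  refine ⟨hUopen, Set.ext fun g => ⟨fun ⟨W, hg, hW⟩ => hK_s _ ?_, fun hg => ?_⟩⟩
  · let a' : Spec (G.left.residueField g) ⟶ W := IsOpenImmersion.lift W.ι (G.left.fromSpecResidueField g) (by
      rw [Scheme.range_fromSpecResidueField, Scheme.Opens.range_ι]; simpa using hg)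
    have ha : a' ≫ W.ι = G.left.fromSpecResidueField g := IsOpenImmersion.lift_fac _ _ _
    have h1 := Groth.Agent.SGA3UnitSec.formallyUnramified_hom_of_unit _
      (Groth.Agent.SGA3UnitSec.isOpenImmersion_unit_pullback u hK W
        ((Groth.Agent.FlatLocal.isOpenImmersion_ι_diagonal_iff u.left W).2 hW) a')
    let s := G.hom g
    let q := Spec.map (G.hom.residueFieldMap g)
    have hb : (a' ≫ W.ι) ≫ G.hom = q ≫ S.fromSpecResidueField s := by rw [ha]; simp [q, s]
    rw [hb] at h1
    have sq : IsPullback (pullback.lift (pullback.fst K.hom (q ≫ S.fromSpecResidueField s))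
        (pullback.snd K.hom (q ≫ S.fromSpecResidueField s) ≫ q) (by rw [Category.assoc]; exact pullback.condition))
        (pullback.snd K.hom (q ≫ S.fromSpecResidueField s)) (K.hom.fiberToSpecResidueField s) q := by
      refine IsPullback.of_right (h₁₂ := pullback.fst K.hom (S.fromSpecResidueField s)) (v₁₃ := K.hom)
        (h₂₂ := S.fromSpecResidueField s) ?_ (pullback.lift_snd _ _ _) (IsPullback.of_hasPullback K.hom (S.fromSpecResidueField s))
      rw [pullback.lift_fst]
      exact IsPullback.of_hasPullback _ _
    haveI : Surjective q := ⟨fun z => ⟨IsLocalRing.closedPoint _, Subsingleton.elim _ _⟩⟩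
    haveI : Flat q := by
      rw [HasRingHomProperty.Spec_iff (P := @Flat)]
      letI := (G.hom.residueFieldMap g).hom.toAlgebra
      exact RingHom.flat_algebraMap_iff.2 inferInstance
    exact MorphismProperty.of_isPullback_of_descendsAlong (P := @FormallyUnramified)
      (Q := @Surjective ⊓ @Flat ⊓ @QuasiCompact) sq.flip ⟨⟨inferInstance, inferInstance⟩, inferInstance⟩ h1
  · obtain ⟨U₀, h0, hu⟩ := hA _ hg
    exact ⟨_, h0, hu⟩

end Groth.Agent.S5316
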