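import Groth.Statements.S5317
import Groth.Agent.SGA3UnitSec.BaseChange
import Groth.Agent.S5316
import Groth.Agent.FlatMor12.IsoLocus
import Groth.Agent.FlatMorDeform.FibreFlatLft
import Groth.Agent.AlgGrpLib.FlatAtUnit

set_option autoImplicit false
set_option backward.isDefEq.respectTransparency.types false
set_option linter.style.haveILetI false
universe u
open CategoryTheory CategoryTheory.Limits MonoidalCategory CartesianMonoidalCategory MonObj GrpObj AlgebraicGeometry
open SGA3
open scoped CategoryTheory.Obj

namespace Groth.Agent.S5317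

/-- Let u : G → H be a homomorphism of S-group schemes which is universally injective (for instance a
monomorphism), with G flat and locally of finite presentation over S and H locally of finite type
over S. Then the set U of points s of S such that u_s : G_s → H_s is an open immersion is open in S,
and the restriction of u over every open of S contained in U is an open immersion. -/
theorem result (S : Scheme.{u}) (G H : Over S) [GrpObj G] [GrpObj H]
    (u : G ⟶ H) [IsMonHom u] [UniversallyInjective u.left]
    [Flat G.hom] [LocallyOfFinitePresentation G.hom] [LocallyOfFiniteType H.hom] :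
    IsOpen {s : S | IsOpenImmersion ((Over.pullback (S.fromSpecResidueField s)).map u).left} ∧
    ∀ W : S.Opens, (W : Set S) ⊆ {s : S | IsOpenImmersion ((Over.pullback (S.fromSpecResidueField s)).map u).left} → IsOpenImmersion ((G.hom ⁻¹ᵁ W).ι ≫ u.left) := by
  haveI : LocallyOfFinitePresentation (u.left ≫ H.hom) := by rw [Over.w u]; infer_instance
  haveI : Flat (u.left ≫ H.hom) := by rw [Over.w u]; infer_instance
  haveI : LocallyOfFinitePresentation u.left := Groth.Agent.FlatMor12.lfp_of_comp u.left H.hom
  obtain ⟨-, hG16⟩ := Groth.Agent.S5316.result S G H u (fun s => MorphismProperty.pullback_snd _ _ inferInstance)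
  let V : G.left.Opens := ⟨{x | (u.left.stalkMap x).hom.Flat ∧ (u.left.stalkMap x).hom.FormallyUnramified},
    Groth.Agent.FlatMor12.isOpen_etaleLocus u.left⟩
  let ε : S ⟶ G.left := η[G].left
  have hεs : ∀ s, G.hom (ε s) = s := fun s => congrArg (fun q : S ⟶ S => q s) (show ε ≫ G.hom = 𝟙 S from Over.w η[G])
  have hfu : ∀ s, FormallyUnramified ((Over.pullback (S.fromSpecResidueField s)).map u).left →
      ∀ g, G.hom g = s → (u.left.stalkMap g).hom.FormallyUnramified := fun s h g hg => by
    have : g ∈ {x : G.left | ∃ W : G.left.Opens, x ∈ W ∧ FormallyUnramified (W.ι ≫ u.left)} := by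
      rw [hG16]; show FormallyUnramified _; rw [hg]; exact h
    exact (Groth.Agent.FlatLocal.formallyUnramified_nhd_iff u.left g).1 this
  have hflat : ∀ s, Flat ((Over.pullback (S.fromSpecResidueField s)).map u).left →
      ∀ g, G.hom g = s → (u.left.stalkMap g).hom.Flat := fun s h g hg => by
    refine Groth.Agent.FlatMorDeform.flat_stalkMap_of_fibre u.left H.hom g (Flat.stalkMap (u.left ≫ H.hom) g) ?_
    have hs : H.hom (u.left g) = s := by rw [← Scheme.Hom.comp_apply, Over.w u]; exact hg
    have sq := Groth.Agent.SGA3UnitSec.isPullback_map_left (S.fromSpecResidueField (H.hom (u.left g))) u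
    rw [← hs] at h
    change Flat (pullback.snd u.left (pullback.fst H.hom (S.fromSpecResidueField (H.hom (u.left g)))))
    rw [← sq.isoPullback_inv_snd]
    exact (MorphismProperty.cancel_left_of_respectsIso @Flat _ _).2 h
  have hV : ∀ s, IsOpenImmersion ((Over.pullback (S.fromSpecResidueField s)).map u).left →
      ∀ g, G.hom g = s → g ∈ V := fun s h g hg => ⟨hflat s inferInstance g hg, hfu s inferInstance g hg⟩
  have hunit : ∀ s, ε s ∈ V → ∀ g, G.hom g = s → g ∈ V := by
    intro s hs
    obtain ⟨W, hW, hWet⟩ := (Groth.Agent.FlatLocal.etale_nhd_iff u.left (ε s)).2 hs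
    have hFU : FormallyUnramified ((Over.pullback (S.fromSpecResidueField s)).map u).left := by
      have : ε s ∈ {x : G.left | ∃ W : G.left.Opens, x ∈ W ∧ FormallyUnramified (W.ι ≫ u.left)} :=
        ⟨W, hW, inferInstance⟩
      rw [hG16] at this
      have h2 : FormallyUnramified ((Over.pullback (S.fromSpecResidueField (G.hom (ε s)))).map u).left := this
      rwa [hεs] at h2
    haveI : LocallyOfFiniteType ((Over.pullback (S.fromSpecResidueField s)).obj G).hom :=
      MorphismProperty.pullback_snd (P := @LocallyOfFiniteType) G.hom _ inferInstance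
    haveI : LocallyOfFiniteType ((Over.pullback (S.fromSpecResidueField s)).obj H).hom :=
      MorphismProperty.pullback_snd (P := @LocallyOfFiniteType) H.hom _ inferInstance
    let t : Spec (S.residueField s) := IsLocalRing.closedPoint _
    have hFl : Flat ((Over.pullback (S.fromSpecResidueField s)).map u).left := by
      refine @Groth.Agent.AlgGrpLib.FlatAtUnit.flat_of_flat_stalkMap_unit (S.residueField s) _
        ((Over.pullback (S.fromSpecResidueField s)).obj G) ((Over.pullback (S.fromSpecResidueField s)).obj H)
        (inferInstanceAs (GrpObj ((Over.pullback (S.fromSpecResidueField s)).obj G)))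
        (inferInstanceAs (GrpObj ((Over.pullback (S.fromSpecResidueField s)).obj H))) ‹_› ‹_›
        ((Over.pullback (S.fromSpecResidueField s)).map u)
        (inferInstanceAs (IsMonHom ((Over.pullback (S.fromSpecResidueField s)).map u)))
        ((η[(Over.pullback (S.fromSpecResidueField s)).obj G].left : Spec (S.residueField s) ⟶ _) t) ⟨t, rfl⟩ ?_
      let q : ((Over.pullback (S.fromSpecResidueField s)).obj G).left ⟶ G.left := pullback.fst G.hom (S.fromSpecResidueField s)
      haveI : Flat ((q ⁻¹ᵁ W).ι ≫ ((Over.pullback (S.fromSpecResidueField s)).map u).left) :=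
        MorphismProperty.of_isPullback ((isPullback_morphismRestrict q W).paste_vert
          (Groth.Agent.SGA3UnitSec.isPullback_map_left (S.fromSpecResidueField s) u)) (inferInstanceAs (Flat (W.ι ≫ u.left)))
      refine Groth.Agent.AlgGrpLib.FlatAtUnit.flat_stalkMap_of_flat_open _ (q ⁻¹ᵁ W) _ ?_
      show q ((η[(Over.pullback (S.fromSpecResidueField s)).obj G].left : Spec (S.residueField s) ⟶ _) t) ∈ W
      have e : (η[(Over.pullback (S.fromSpecResidueField s)).obj G].left : Spec (S.residueField s) ⟶ _) ≫ q = S.fromSpecResidueField s ≫ ε := by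
        simp only [q, Functor.obj.η_def, Over.comp_left, Over.ε_pullback_left, Category.assoc, IsIso.inv_comp_eq]
        rw [show ((Over.pullback (S.fromSpecResidueField s)).map η[G]).left ≫ pullback.fst G.hom (S.fromSpecResidueField s) =
            pullback.fst _ (S.fromSpecResidueField s) ≫ η[G].left from
          (Groth.Agent.SGA3UnitSec.isPullback_map_left (S.fromSpecResidueField s) η[G]).w.symm, ← Category.assoc]
        congr 1
        refine (Category.comp_id _).symm.trans ?_
        exact pullback.condition
      have e' := congrArg (fun f : Spec (S.residueField s) ⟶ G.left => f t) e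
      refine Set.mem_of_eq_of_mem (e'.trans ?_) hW
      show ε (S.fromSpecResidueField s t) = ε s
      rw [Scheme.fromSpecResidueField_apply]
    exact fun g hg => ⟨hflat s hFl g hg, hfu s hFU g hg⟩
  have hopenimm : ∀ W : S.Opens, (∀ s ∈ W, ∀ g, G.hom g = s → g ∈ V) → IsOpenImmersion ((G.hom ⁻¹ᵁ W).ι ≫ u.left) := by
    intro W h
    haveI : Etale ((G.hom ⁻¹ᵁ W).ι ≫ u.left) := by
      choose U hxU hU using fun x : (G.hom ⁻¹ᵁ W : G.left.Opens) =>
        (Groth.Agent.FlatLocal.etale_nhd_iff u.left x.1).2 (h _ x.2 x.1 rfl)
      refine IsZariskiLocalAtSource.of_iSup_eq_top (P := @Etale) (fun x => (G.hom ⁻¹ᵁ W).ι ⁻¹ᵁ U x) ?_ fun x => ?_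
      · exact TopologicalSpace.Opens.ext (Set.eq_univ_of_forall fun y => by
          simp only [TopologicalSpace.Opens.coe_iSup, Set.mem_iUnion]
          exact ⟨y, hxU y⟩)
      · haveI := hU x
        rw [← morphismRestrict_ι_assoc]
        infer_instance
    haveI : UniversallyInjective (G.hom ⁻¹ᵁ W).ι := inferInstance
    haveI : UniversallyInjective ((G.hom ⁻¹ᵁ W).ι ≫ u.left) := MorphismProperty.comp_mem _ _ _ ‹UniversallyInjective (G.hom ⁻¹ᵁ W).ι› ‹UniversallyInjective u.left›
    exact Groth.Agent.FEtLib.isOpenImmersion_of_etale_universallyInjective _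
  let U : S.Opens := ε ⁻¹ᵁ V
  have hiff : ∀ s, s ∈ U ↔ IsOpenImmersion ((Over.pullback (S.fromSpecResidueField s)).map u).left :=
    fun s => ⟨fun hs => Groth.Agent.SGA3UnitSec.fibre_hom_of_restrict @IsOpenImmersion u U
      (hopenimm U fun t ht => hunit t ht) s hs, fun h => hV s h _ (hεs s)⟩
  refine ⟨?_, fun W hW => hopenimm W fun s hs => hunit s ((hiff s).2 (hW hs))⟩
  rw [show {s : S | IsOpenImmersion ((Over.pullback (S.fromSpecResidueField s)).map u).left} = (U : Set S) from
    Set.ext fun s => (hiff s).symm]
  exact U.isOpen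

end Groth.Agent.S5317
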