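import Groth.Statements.S5318
import Groth.Agent.SGA3UnitSec.KernelPair
import Groth.Agent.SGA3UnitSec.FieldDiag

set_option autoImplicit false
set_option backward.isDefEq.respectTransparency.types false
set_option linter.style.haveILetI false
universe u
open CategoryTheory CategoryTheory.Limits MonoidalCategory CartesianMonoidalCategory MonObj GrpObj AlgebraicGeometry
open SGA3

namespace Groth.Agent.S5318

/-- (ii) ⟺ (iii) and, for G locally of finite presentation over S, (ii) ⟺ (iv): let G be an S-group
scheme. The unit section of G is an open immersion if and only if G is locally of finite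
presentation over S on some open containing the unit section and every fibre G_s is unramified
(formally unramified and locally of finite presentation) over κ(s). If G is locally of finite
presentation over S, the unit section is an open immersion if and only if G is unramified over S. -/
theorem result (S : Scheme.{u}) (G : Over S) [GrpObj G] :
    (IsOpenImmersion η[G].left ↔
      ((∃ W : G.left.Opens, (∀ p : ↥(𝟙_ (Over S)).left, η[G].left.base p ∈ W) ∧ LocallyOfFinitePresentation (W.ι ≫ G.hom)) ∧
        ∀ s : S, FormallyUnramified (G.hom.fiberToSpecResidueField s) ∧ LocallyOfFinitePresentation (G.hom.fiberToSpecResidueField s))) ∧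
    (LocallyOfFinitePresentation G.hom → (IsOpenImmersion η[G].left ↔ FormallyUnramified G.hom)) := by
  have hε : η[G].left ≫ G.hom = 𝟙 S := Over.w η[G]
  have back : ∀ W : G.left.Opens, (∀ p, η[G].left.base p ∈ W) → LocallyOfFiniteType (W.ι ≫ G.hom) →
      (∀ s : S, FormallyUnramified (G.hom.fiberToSpecResidueField s)) → IsOpenImmersion η[G].left := by
    intro W hW hft hfib
    obtain ⟨V, -, hV, hu, hVft⟩ := Groth.Agent.SGA3UnitSec.exists_unramified_open G.hom W Set.univ fun s _ => hfib s
    haveI := hu
    haveI := hVft
    let ε : S ⟶ G.left := η[G].left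
    have h : IsOpenImmersion ((ε ⁻¹ᵁ V).ι ≫ ε) :=
      Groth.Agent.FlatLocal.isOpenImmersion_ι_section G.hom ε hε V
    have e : ε ⁻¹ᵁ V = ⊤ := top_unique fun p _ => hV _ (hW p) trivial
    rw [e, ← Scheme.topIso_hom, MorphismProperty.cancel_left_of_respectsIso @IsOpenImmersion] at h
    exact h
  refine ⟨⟨fun h => ?_, fun ⟨⟨W, hW, hfp⟩, hfib⟩ => back W hW inferInstance fun s => (hfib s).1⟩, fun hfp => ⟨fun h => ?_, fun h => ?_⟩⟩
  · haveI := h
    have hu := Groth.Agent.SGA3UnitSec.formallyUnramified_hom_of_unit G h
    have sq : IsPullback (pullback.diagonal (toUnit G)).left G.hom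
        (Groth.Agent.SGA3UnitSec.δ (toUnit G) Groth.Agent.SGA3UnitSec.isKernel_toUnit).left η[G].left :=
      (Groth.Agent.SGA3UnitSec.isPullback_diag (toUnit G) Groth.Agent.SGA3UnitSec.isKernel_toUnit).map (Over.forget S)
    haveI : IsOpenImmersion (pullback.diagonal G.hom) := by
      haveI : IsOpenImmersion (pullback.diagonal (toUnit G)).left := MorphismProperty.of_isPullback sq.flip h
      show IsOpenImmersion (pullback.diagonal (toUnit G).left)
      rw [Groth.Agent.SGA3UnitSec.diagonal_eq]
      infer_instance
    refine ⟨⟨η[G].left.opensRange, fun p => ⟨p, rfl⟩, ?_⟩, fun s => ⟨MorphismProperty.pullback_snd _ _ hu, ?_⟩⟩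
    · rw [← Scheme.Hom.isoOpensRange_inv_comp η[G].left, Category.assoc, hε]
      exact MorphismProperty.comp_mem _ _ _ (inferInstanceAs (LocallyOfFinitePresentation η[G].left.isoOpensRange.inv))
        (inferInstanceAs (LocallyOfFinitePresentation (𝟙 S)))
    · haveI : IsOpenImmersion (pullback.diagonal (G.hom.fiberToSpecResidueField s)) :=
        MorphismProperty.pullback_snd (P := .diagonal @IsOpenImmersion) _ _ ‹_›
      haveI := Groth.Agent.SGA3UnitSec.locallyOfFiniteType_of_isOpenImmersion_diagonal (S.residueField s)
        (G.hom.fiberToSpecResidueField s)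
      exact LocallyOfFinitePresentation.iff_locallyOfFiniteType.2 inferInstance
  · exact Groth.Agent.SGA3UnitSec.formallyUnramified_hom_of_unit G h
  · haveI := h
    haveI := hfp
    exact Groth.Agent.SGA3UnitSec.isOpenImmersion_unit G

end Groth.Agent.S5318
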