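import Groth.Statements.S5319
import Groth.Agent.SGA3UnitSec.Lqf

set_option autoImplicit false
set_option backward.isDefEq.respectTransparency.types false
set_option linter.style.haveILetI false
universe u
open CategoryTheory CategoryTheory.Limits MonoidalCategory CartesianMonoidalCategory MonObj GrpObj AlgebraicGeometry
open SGA3

namespace Groth.Agent.S5319

/-- Let u : G → H be a homomorphism of S-group schemes which is locally of finite type, with every fibre
G_s locally of finite type over κ(s), and let i : K → G be the kernel of u (the square i, u, unit of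
H is cartesian). The following are equivalent: u is locally quasi-finite; every fibre u_s : G_s →
H_s is locally quasi-finite; K is locally quasi-finite over S; every fibre of K over S is a discrete
space. -/
theorem result (S : Scheme.{u}) (G H : Over S) [GrpObj G] [GrpObj H] (u : G ⟶ H) [IsMonHom u]
    [LocallyOfFiniteType u.left] (hG : ∀ s : S, LocallyOfFiniteType (G.hom.fiberToSpecResidueField s)) (K : Over S) [GrpObj K] (i : K ⟶ G) [IsMonHom i] (hK : AlgGrp.IsKernel i u) :
    (LocallyQuasiFinite u.left ↔ ∀ s : S, LocallyQuasiFinite ((Over.pullback (S.fromSpecResidueField s)).map u).left) ∧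
    (LocallyQuasiFinite u.left ↔ LocallyQuasiFinite K.hom) ∧
    (LocallyQuasiFinite u.left ↔ ∀ s : S, DiscreteTopology ↥(K.hom.base ⁻¹' {s})) := by
  have hsq := Groth.Agent.SGA3UnitSec.isPullback_kernel u hK
  haveI : LocallyOfFiniteType K.hom := MorphismProperty.of_isPullback hsq inferInstance
  have a1 : LocallyQuasiFinite u.left → LocallyQuasiFinite K.hom := fun h =>
    MorphismProperty.of_isPullback hsq h
  have a2 : LocallyQuasiFinite K.hom → LocallyQuasiFinite u.left :=
    Groth.Agent.SGA3UnitSec.locallyQuasiFinite_of_kernel u hK
  have a3 : (∀ s : S, DiscreteTopology ↥(K.hom.base ⁻¹' {s})) → LocallyQuasiFinite K.hom := fun h =>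
    locallyQuasiFinite_iff_isDiscrete_preimage_singleton.2 fun s => isDiscrete_iff_discreteTopology.2 (h s)
  refine ⟨⟨fun h s => ?_, fun h => a2 (a3 fun s => ?_)⟩, ⟨a1, a2⟩, ⟨fun h s => ?_, fun h => a2 (a3 h)⟩⟩
  · exact MorphismProperty.of_isPullback (Groth.Agent.SGA3UnitSec.isPullback_map_left (S.fromSpecResidueField s) u) h
  · have sq := (IsPullback.map (Over.pullback (S.fromSpecResidueField s)) hK).map (Over.forget _)
    have h1 : LocallyQuasiFinite ((Over.pullback (S.fromSpecResidueField s)).map (toUnit K)).left :=
      MorphismProperty.of_isPullback sq (h s)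
    haveI : IsIso (pullback.snd (𝟙_ (Over S)).hom (S.fromSpecResidueField s)) := by
      change IsIso (pullback.snd (𝟙 S) (S.fromSpecResidueField s)); infer_instance
    haveI : LocallyQuasiFinite (K.hom.fiberToSpecResidueField s) := by
      have e : K.hom.fiberToSpecResidueField s = ((Over.pullback (S.fromSpecResidueField s)).map (toUnit K)).left ≫
          pullback.snd (𝟙_ (Over S)).hom (S.fromSpecResidueField s) :=
        (Over.w ((Over.pullback (S.fromSpecResidueField s)).map (toUnit K))).symm
      rw [e]
      exact MorphismProperty.comp_mem _ _ _ h1 inferInstance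
    haveI : DiscreteTopology (K.hom.fiber s) := by
      rw [← isDiscrete_univ_iff]
      have := (K.hom.fiberToSpecResidueField s).isDiscrete_preimage
        (isDiscrete_univ_iff.2 (inferInstance : DiscreteTopology (Spec (S.residueField s))))
      rwa [Set.preimage_univ] at this
    exact (K.hom.fiberHomeo s).symm.isEmbedding.discreteTopology
  · haveI := a1 h
    exact isDiscrete_iff_discreteTopology.1 (K.hom.isDiscrete_preimage_singleton s)

end Groth.Agent.S5319
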