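import Groth.Statements.S5320
import Groth.Agent.SGA3UnitSec.KernelPair

set_option autoImplicit false
set_option backward.isDefEq.respectTransparency.types false
set_option linter.style.haveILetI false
universe u
open CategoryTheory CategoryTheory.Limits MonoidalCategory CartesianMonoidalCategory MonObj GrpObj AlgebraicGeometry
open SGA3

namespace Groth.Agent.S5320

/-- Let u : G → H be a homomorphism of S-group schemes which is locally of finite presentation, with
every fibre G_s locally of finite type over κ(s), and let i : K → G be the kernel of u (the square
i, u, unit of H is cartesian, K with the group structure making i a homomorphism). The following are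
equivalent: u is unramified (formally unramified); every fibre u_s : G_s → H_s is unramified; K is
unramified over S; the unit section of K is an open immersion. -/
theorem result (S : Scheme.{u}) (G H : Over S) [GrpObj G] [GrpObj H] (u : G ⟶ H) [IsMonHom u]
    [LocallyOfFinitePresentation u.left] (hG : ∀ s : S, LocallyOfFiniteType (G.hom.fiberToSpecResidueField s)) (K : Over S) [GrpObj K] (i : K ⟶ G) [IsMonHom i] (hK : AlgGrp.IsKernel i u) :
    (FormallyUnramified u.left ↔ ∀ s : S, FormallyUnramified ((Over.pullback (S.fromSpecResidueField s)).map u).left) ∧
    (FormallyUnramified u.left ↔ FormallyUnramified K.hom) ∧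
    (FormallyUnramified u.left ↔ IsOpenImmersion η[K].left) := by
  have hsq := Groth.Agent.SGA3UnitSec.isPullback_kernel u hK
  haveI : LocallyOfFinitePresentation K.hom := MorphismProperty.of_isPullback hsq inferInstance
  have a1 : FormallyUnramified u.left → FormallyUnramified K.hom := fun h =>
    MorphismProperty.of_isPullback hsq h
  have a2 : IsOpenImmersion η[K].left → FormallyUnramified u.left :=
    Groth.Agent.SGA3UnitSec.formallyUnramified_of_unit u hK
  have a3 : FormallyUnramified K.hom → IsOpenImmersion η[K].left := fun h =>
    haveI := h; Groth.Agent.SGA3UnitSec.isOpenImmersion_unit K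
  refine ⟨⟨fun h s => ?_, fun h => a2 (a3 ?_)⟩, ⟨a1, fun h => a2 (a3 h)⟩, ⟨fun h => a3 (a1 h), a2⟩⟩
  · exact MorphismProperty.of_isPullback (Groth.Agent.SGA3UnitSec.isPullback_map_left (S.fromSpecResidueField s) u) h
  · refine Groth.Agent.SGA3UnitSec.formallyUnramified_of_fibres K.hom fun s => ?_
    have sq := (IsPullback.map (Over.pullback (S.fromSpecResidueField s)) hK).map (Over.forget _)
    have h1 : FormallyUnramified ((Over.pullback (S.fromSpecResidueField s)).map (toUnit K)).left :=
      MorphismProperty.of_isPullback sq (h s)
    have e : K.hom.fiberToSpecResidueField s = ((Over.pullback (S.fromSpecResidueField s)).map (toUnit K)).left ≫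
        pullback.snd (𝟙_ (Over S)).hom (S.fromSpecResidueField s) :=
      (Over.w ((Over.pullback (S.fromSpecResidueField s)).map (toUnit K))).symm
    rw [e]
    haveI : IsIso (pullback.snd (𝟙_ (Over S)).hom (S.fromSpecResidueField s)) := by
      change IsIso (pullback.snd (𝟙 S) (S.fromSpecResidueField s)); infer_instance
    exact MorphismProperty.comp_mem _ _ _ h1 (inferInstanceAs (FormallyUnramified (pullback.snd (𝟙_ (Over S)).hom (S.fromSpecResidueField s))))

end Groth.Agent.S5320
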