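import Groth.Statements.S5324
import Groth.Agent.SGA3cLib.NeutralIndCons
import Groth.Agent.AlgGrpLib.DenseMul
import Groth.Agent.AlgGrpLib.ConnComp

set_option autoImplicit false
set_option backward.isDefEq.respectTransparency.types false
set_option linter.style.haveILetI false
set_option maxHeartbeats 1600000
universe u
open CategoryTheory CategoryTheory.Limits MonoidalCategory CartesianMonoidalCategory MonObj GrpObj AlgebraicGeometry
open SGA3

namespace Groth.Agent.S5324

/-- Let G be an S-group scheme whose fibres G_s are locally of finite type over κ(s) and connected. Then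
G is quasi-compact over S. -/
theorem result (S : Scheme.{u}) (G : Over S) [GrpObj G]
    (hG : ∀ s : S, LocallyOfFiniteType (G.hom.fiberToSpecResidueField s))
    (hconn : ∀ s : S, _root_.IsConnected (G.hom.base ⁻¹' {s})) : QuasiCompact G.hom := by
  refine quasiCompact_iff_forall_isAffineOpen.2 fun V hV => ?_
  have hcov : ∀ t : S, t ∈ V → ∃ W : G.left.Opens, IsCompact (W : Set G.left) ∧ η[G].left.base t ∈ W ∧ W ≤ G.hom ⁻¹ᵁ V := by
    intro t ht
    have hmem : η[G].left.base t ∈ G.hom ⁻¹ᵁ V := by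
      show (η[G].left ≫ G.hom).base t ∈ V
      rw [Over.w η[G]]
      exact ht
    obtain ⟨W, hW, h1, h2⟩ := exists_isAffineOpen_mem_and_subset hmem
    exact ⟨W, hW.isCompact, h1, h2⟩
  choose W hWc hWm hWle using hcov
  obtain ⟨T, hT⟩ := hV.isCompact.elim_finite_subcover (fun t : V => η[G].left.base ⁻¹' (W t.1 t.2 : Set G.left))
    (fun t => (W t.1 t.2).2.preimage η[G].left.continuous)
    (fun t ht => Set.mem_iUnion.2 ⟨⟨t, ht⟩, hWm t ht⟩)
  let U : G.left.Opens := ⨆ t ∈ T, W t.1 t.2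
  have hUc : IsCompact (U : Set G.left) := by
    simp only [U, TopologicalSpace.Opens.coe_iSup]
    exact T.finite_toSet.isCompact_biUnion fun t _ => hWc t.1 t.2
  have hUV : U ≤ G.hom ⁻¹ᵁ V := iSup₂_le fun t _ => hWle t.1 t.2
  have hηU : ∀ t ∈ V, η[G].left.base t ∈ U := fun t ht => by
    obtain ⟨i, hi, h⟩ := Set.mem_iUnion₂.1 (hT ht)
    simp only [U, TopologicalSpace.Opens.mem_iSup]
    exact ⟨i, hi, h⟩
  haveI : CompactSpace U.toScheme := isCompact_iff_compactSpace.1 hUc
  haveI : IsAffine V.toScheme := hV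
  let p : U.toScheme ⟶ V.toScheme := G.hom.resLE V U hUV
  haveI : CompactSpace ↥(pullback p p) := QuasiCompact.compactSpace_of_compactSpace (pullback.fst p p)
  let m : pullback p p ⟶ (G ⊗ G).left := pullback.lift (pullback.fst p p ≫ U.ι) (pullback.snd p p ≫ U.ι) (by
    simp only [Category.assoc, ← Scheme.Hom.resLE_comp_ι G.hom hUV]
    rw [← Category.assoc, pullback.condition, Category.assoc])
  have hc := isCompact_range (m ≫ μ[G].left).continuous
  suffices h : (G.hom ⁻¹ᵁ V : Set G.left) = Set.range ⇑(m ≫ μ[G].left) by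
    show IsCompact (G.hom ⁻¹ᵁ V : Set G.left)
    rw [h]; exact hc
  refine Set.Subset.antisymm (fun x hx => ?_) ?_
  swap
  · rintro _ ⟨r, rfl⟩
    show G.hom.base ((m ≫ μ[G].left).base r) ∈ V
    have e : (m ≫ μ[G].left) ≫ G.hom = pullback.fst p p ≫ p ≫ V.ι := by
      rw [Category.assoc, Over.w μ[G]]
      show m ≫ pullback.fst G.hom G.hom ≫ G.hom = _
      simp only [p, Scheme.Hom.resLE_comp_ι]
      exact (pullback.lift_fst_assoc _ _ _ _).trans (Category.assoc _ _ _)
    rw [← Scheme.Hom.comp_apply, e]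
    exact ((pullback.fst p p ≫ p).base r).2
  let s : S := G.hom.base x
  let g : Spec (CommRingCat.of (S.residueField s)) ⟶ S := S.fromSpecResidueField s
  let Gs : Over (Spec (CommRingCat.of (S.residueField s))) := Red.bc g G
  let π : Gs.left ⟶ G.left := pullback.fst G.hom g
  haveI : LocallyOfFiniteType Gs.hom := hG s
  obtain ⟨y, hy⟩ : ∃ y, π.base y = x := (G.hom.range_fiberι s).ge rfl
  haveI : PreconnectedSpace Gs.left := by
    have : _root_.IsPreconnected (Set.univ : Set (G.hom.fiber s)) := by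
      rw [← (G.hom.fiberHomeo s).symm.surjective.range_eq, ← Set.image_univ]
      haveI := Subtype.preconnectedSpace (hconn s).isPreconnected
      exact isPreconnected_univ.image _ (G.hom.fiberHomeo s).symm.continuous.continuousOn
    exact ⟨this⟩
  have hπe : π.base (Groth.Agent.AlgGrpLib.ConnComp.e₀ Gs) = η[G].left.base s := by
    have h1 : η[Gs].left ≫ π = (1 : (Over.map g).obj (𝟙_ _) ⟶ G).left := by
      have : η[Gs] = Groth.Agent.SGA3cLib.BCPoints.pt g G (𝟙_ _) 1 := by
        have : Groth.Agent.SGA3cLib.BCPoints.pt g G (𝟙_ (Over (Spec (CommRingCat.of (S.residueField s))))) 1 = 1 :=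
          map_one (MonoidHom.mk' _ (Groth.Agent.SGA3cLib.BCPoints.pt_mul g))
        rw [this, Hom.one_def, toUnit_unique (toUnit (𝟙_ _)) (𝟙 _), Category.id_comp]
      rw [this, ← Groth.Agent.SGA3cLib.NeutralSmooth.pt_symm_left, Equiv.symm_apply_apply]
    show π.base (η[Gs].left.base _) = _
    rw [← Scheme.Hom.comp_apply, h1, Hom.one_def, Over.comp_left, Scheme.Hom.comp_apply]
    have hg : g.base (IsLocalRing.closedPoint (S.residueField s)) = s := Scheme.fromSpecResidueField_apply _ _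
    exact congrArg η[G].left.base hg
  obtain ⟨q, hq1, hq2, hqμ⟩ : ∃ q : ↥(Gs ⊗ Gs).left, π.base ((fst Gs Gs).left.base q) ∈ U ∧
      π.base ((snd Gs Gs).left.base q) ∈ U ∧ μ[Gs].left.base q = y := by
    haveI : IrreducibleSpace Gs.left := by
      haveI : Nonempty Gs.left := ⟨Groth.Agent.AlgGrpLib.ConnComp.e₀ Gs⟩
      have h := Groth.Agent.AlgGrpLib.ConnComp.connectedComponent_eq Gs
      rw [PreconnectedSpace.connectedComponent_eq_univ] at h
      refine (irreducibleSpace_def _).2 ?_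
      rw [show (⊤ : Set Gs.left) = Set.univ from rfl, h]
      exact isIrreducible_irreducibleComponent
    have hd : Dense (π ⁻¹ᵁ U : Set Gs.left) :=
      (π ⁻¹ᵁ U).2.dense ⟨Groth.Agent.AlgGrpLib.ConnComp.e₀ Gs, show π.base _ ∈ U by rw [hπe]; exact hηU s hx⟩
    obtain ⟨q, ⟨h1, h2⟩, h3⟩ := Groth.Agent.AlgGrpLib.DenseMul.mem_mul_of_dense y (π ⁻¹ᵁ U).2 hd hd
    exact ⟨q, h1, h2, h3⟩
  let T : Over S := (Over.map g).obj (Gs ⊗ Gs)
  let a : T ⟶ G := (Groth.Agent.SGA3cLib.BCPoints.pt g G (Gs ⊗ Gs)).symm (fst Gs Gs)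
  let b : T ⟶ G := (Groth.Agent.SGA3cLib.BCPoints.pt g G (Gs ⊗ Gs)).symm (snd Gs Gs)
  have ha : a.left.base q ∈ U := by
    rw [show a.left = _ from Groth.Agent.SGA3cLib.NeutralSmooth.pt_symm_left g _]; exact hq1
  have hb : b.left.base q ∈ U := by
    rw [show b.left = _ from Groth.Agent.SGA3cLib.NeutralSmooth.pt_symm_left g _]; exact hq2
  obtain ⟨r, hr⟩ : (lift a b).left.base q ∈ Set.range ⇑m := by
    have hm : m = pullback.map p p G.hom G.hom U.ι U.ι V.ι (Scheme.Hom.resLE_comp_ι G.hom hUV)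
        (Scheme.Hom.resLE_comp_ι G.hom hUV) := rfl
    rw [hm, Scheme.Pullback.range_map, Scheme.Opens.range_ι]
    refine ⟨?_, ?_⟩
    · show (lift a b ≫ fst G G).left.base q ∈ U
      rw [lift_fst]; exact ha
    · show (lift a b ≫ snd G G).left.base q ∈ U
      rw [lift_snd]; exact hb
  refine ⟨r, ?_⟩
  show μ[G].left.base (m.base r) = x
  rw [hr]
  show (lift a b ≫ μ[G]).left.base q = x
  have h2 : lift a b ≫ μ[G] = (Groth.Agent.SGA3cLib.BCPoints.pt g G (Gs ⊗ Gs)).symm μ[Gs] := by
    rw [← Hom.mul_def, Equiv.eq_symm_apply, Groth.Agent.SGA3cLib.BCPoints.pt_mul]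
    simp only [a, b, Equiv.apply_symm_apply]
    rw [Hom.mul_def, lift_fst_snd, Category.id_comp]
  rw [h2, Groth.Agent.SGA3cLib.NeutralSmooth.pt_symm_left, Scheme.Hom.comp_apply, hqμ]
  exact hy

end Groth.Agent.S5324
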