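import Groth.Statements.S5328
import Groth.Agent.SGA3Homog26.FlatImage

set_option autoImplicit false
set_option linter.style.haveILetI false
set_option backward.isDefEq.respectTransparency.types false
universe u
open CategoryTheory CategoryTheory.Limits MonoidalCategory CartesianMonoidalCategory MonObj GrpObj AlgebraicGeometry
open SGA3

namespace Groth.Agent.S5328

/-- Let u : G → H be a homomorphism between S-group schemes locally of finite presentation over S, and
let G⁰, H⁰ be the unions of the neutral components of the fibres. If u is flat then u(G⁰) = H⁰.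
Conversely, if G is flat over S, the fibres H_s are reduced and u(G⁰) = H⁰, then u is flat. -/
theorem result (S : Scheme.{u}) (G H : Over S) [GrpObj G] [GrpObj H]
    [LocallyOfFinitePresentation G.hom] [LocallyOfFinitePresentation H.hom] (u : G ⟶ H) [IsMonHom u] :
    (Flat u.left → u.left.base '' SGA3x.neutralSet G = SGA3x.neutralSet H) ∧
    (Flat G.hom → (∀ s : S, IsReduced (H.hom.fiber s)) → u.left.base '' SGA3x.neutralSet G = SGA3x.neutralSet H →
      Flat u.left) := by
  refine ⟨fun hu => ?_, fun hG hred him => Flat.of_stalkMap _ fun x => ?_⟩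
  · apply Set.Subset.antisymm
    · rintro _ ⟨x, hx, rfl⟩
      obtain ⟨x', hx'⟩ : ∃ x', G.hom.fiberι (G.hom x) x' = x := ⟨G.hom.asFiber x, G.hom.fiberι_asFiber x⟩
      let s := G.hom x
      letI : GrpObj ((Over.pullback (S.fromSpecResidueField s)).obj G) := Functor.grpObjObj
      haveI : Flat ((Over.pullback (S.fromSpecResidueField s)).map u).left :=
        MorphismProperty.of_isPullback (SGA3Homog26.isPullback_onFibre u s) hu
      haveI : LocallyOfFiniteType (Red.bc (S.fromSpecResidueField s) G).hom :=
        MorphismProperty.pullback_snd (P := @LocallyOfFiniteType) G.hom _ inferInstance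
      haveI : LocallyOfFiniteType (Red.bc (S.fromSpecResidueField s) H).hom :=
        MorphismProperty.pullback_snd (P := @LocallyOfFiniteType) H.hom _ inferInstance
      have h1 : x' ∈ SGA3x.neutralSet (Red.bc (S.fromSpecResidueField s) G) :=
        (SGA3Homog26.mem_neutralSet_fibre G x').2 (show G.hom.fiberι _ x' ∈ _ from hx'.symm ▸ hx)
      have h2 := (SGA3Homog26.image_neutralSet_field (k := S.residueField s)
        ((Over.pullback (S.fromSpecResidueField s)).map u)).le ⟨x', h1, rfl⟩
      have h3 := (SGA3Homog26.mem_neutralSet_fibre H _).1 h2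
      have h4 := SGA3Homog26.fst_onFibre u s x'
      have e : pullback.fst G.hom (S.fromSpecResidueField s) x' = x := hx'
      rw [e] at h4
      exact h4 ▸ h3
    · intro y hy
      obtain ⟨y', hy'⟩ : ∃ y', H.hom.fiberι (H.hom y) y' = y := ⟨H.hom.asFiber y, H.hom.fiberι_asFiber y⟩
      let s := H.hom y
      haveI : Flat ((Over.pullback (S.fromSpecResidueField s)).map u).left :=
        MorphismProperty.of_isPullback (SGA3Homog26.isPullback_onFibre u s) hu
      haveI : LocallyOfFiniteType (Red.bc (S.fromSpecResidueField s) G).hom :=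
        MorphismProperty.pullback_snd (P := @LocallyOfFiniteType) G.hom _ inferInstance
      haveI : LocallyOfFiniteType (Red.bc (S.fromSpecResidueField s) H).hom :=
        MorphismProperty.pullback_snd (P := @LocallyOfFiniteType) H.hom _ inferInstance
      have h1 : y' ∈ SGA3x.neutralSet (Red.bc (S.fromSpecResidueField s) H) :=
        (SGA3Homog26.mem_neutralSet_fibre H y').2 (show H.hom.fiberι _ y' ∈ _ from hy'.symm ▸ hy)
      obtain ⟨x', hx', rfl⟩ := (SGA3Homog26.image_neutralSet_field (k := S.residueField s)
        ((Over.pullback (S.fromSpecResidueField s)).map u)).ge h1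
      exact ⟨_, (SGA3Homog26.mem_neutralSet_fibre G x').1 hx', (SGA3Homog26.fst_onFibre u s x').symm.trans hy'⟩
  · let s := G.hom x
    haveI : LocallyOfFiniteType (Red.bc (S.fromSpecResidueField s) G).hom :=
      MorphismProperty.pullback_snd (P := @LocallyOfFiniteType) G.hom _ inferInstance
    haveI : Flat (Red.bc (S.fromSpecResidueField s) G).hom :=
      MorphismProperty.pullback_snd (P := @Flat) G.hom _ hG
    haveI : IsReduced (Red.bc (S.fromSpecResidueField s) H).left := hred s
    refine SGA3Homog26.flat_stalkMap_of_onFibre u x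
      (SGA3Homog26.flat_of_image_neutralSet (k := S.residueField s) ((Over.pullback (S.fromSpecResidueField s)).map u) ?_)
    ext z
    constructor
    · rintro ⟨x', hx', rfl⟩
      refine (SGA3Homog26.mem_neutralSet_fibre H _).2 ?_
      erw [SGA3Homog26.fst_onFibre u s x']
      exact him.le ⟨_, (SGA3Homog26.mem_neutralSet_fibre G x').1 hx', rfl⟩
    · intro hz
      obtain ⟨x₁, hx₁, hux⟩ := him.ge ((SGA3Homog26.mem_neutralSet_fibre H z).1 hz)
      obtain ⟨x', hx'1, hx'2⟩ := Scheme.exists_preimage_of_isPullback (SGA3Homog26.isPullback_onFibre u s) x₁ z hux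
      exact ⟨x', (SGA3Homog26.mem_neutralSet_fibre G x').2 (by erw [hx'1]; exact hx₁), hx'2⟩

end Groth.Agent.S5328
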