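import Groth.Statements.S5332
import Groth.Agent.SGA3cLib.TransitiveSep
import Groth.Agent.SGA3cLib.LocNoetherian
import Mathlib.AlgebraicGeometry.Morphisms.FiniteType

set_option autoImplicit false
universe u
open CategoryTheory CategoryTheory.Limits MonoidalCategory CartesianMonoidalCategory MonObj GrpObj AlgebraicGeometry
open SGA3

namespace Groth.Agent.S5332

theorem maximal_mem {S X : Scheme.{u}} (f : X ⟶ S) (s : S) (hft : LocallyOfFiniteType (f.fiberToSpecResidueField s))
    (U : X.Opens) (hd : f.base ⁻¹' {s} ⊆ closure ((U : Set X) ∩ f.base ⁻¹' {s}))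
    (ξ : X) (hξ : ∀ y, f.base y = f.base ξ → y ⤳ ξ → y = ξ) (hs : f.base ξ = s) : ξ ∈ U := by
  haveI : IsLocallyNoetherian (f.fiber s) :=
    LocallyOfFiniteType.isLocallyNoetherian (f.fiberToSpecResidueField s)
  obtain ⟨ξ', rfl⟩ : ξ ∈ Set.range (f.fiberι s).base := by rw [f.range_fiberι]; exact hs
  have hfib : ∀ y : ↥(f.fiber s), f.base ((f.fiberι s).base y) = s := fun y =>
    (f.range_fiberι s).le ⟨y, rfl⟩
  refine SGA3cLib.mem_of_mem_closure_of_isOpen (f.fiber s)
    (U := (f.fiberι s).base ⁻¹' U) (U.isOpen.preimage (f.fiberι s).continuous) ?_ ?_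
  · rw [VarietyLib.mem_genericPoints_iff]
    intro y hy
    exact (f.fiberι s).isEmbedding.injective
      (hξ _ ((hfib y).trans hs.symm) (hy.map (f.fiberι s).continuous))
  · rw [(f.fiberι s).isEmbedding.isInducing.closure_eq_preimage_closure_image]
    refine closure_mono ?_ (hd hs)
    rintro x ⟨hxU, hxs⟩
    obtain ⟨y, rfl⟩ : x ∈ Set.range (f.fiberι s).base := by rw [f.range_fiberι]; exact hxs
    exact ⟨y, hxU, rfl⟩

/-- Let G be an S-group scheme locally of finite presentation over S and universally open over S on some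
open containing the unit section, acting on an S-scheme X so that the morphism G ×_S X → X ×_S X,
(g, x) ↦ (gx, x), is surjective. Suppose that for every point s of S the fibre X_s is locally of
finite type over κ(s) and there is an open subscheme U of X, separated over S, whose fibre U_s is
dense in X_s. Then X is separated over S. -/
theorem result (S : Scheme.{u}) (G X : Over S) [GrpObj G] [LocallyOfFinitePresentation G.hom]
    (hGo : ∃ W : G.left.Opens, (∀ p : ↥(𝟙_ (Over S)).left, η[G].left.base p ∈ W) ∧ UniversallyOpen (W.ι ≫ G.hom))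
    (a : AlgGrp.Action G X) (hΦ : Surjective (lift a.act (snd G X)).left)
    (hft : ∀ s : S, LocallyOfFiniteType (X.hom.fiberToSpecResidueField s))
    (hU : ∀ s : S, ∃ U : X.left.Opens, IsSeparated (U.ι ≫ X.hom) ∧
      X.hom.base ⁻¹' {s} ⊆ closure ((U : Set X.left) ∩ X.hom.base ⁻¹' {s})) :
    IsSeparated X.hom := by
  refine SGA3cLib.isSeparated_of_transitive a inferInstance hGo hΦ fun s => ?_
  obtain ⟨U, hUs, hd⟩ := hU s
  exact ⟨U, hUs, maximal_mem X.hom s (hft s) U hd⟩

end Groth.Agent.S5332
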