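import Groth.Statements.S5333
import Groth.Agent.RedSepLib.Immersion
import Groth.Agent.Props12.KerReduced
import Mathlib.Topology.LocallyClosed

set_option autoImplicit false
universe u
open CategoryTheory CategoryTheory.Limits MonoidalCategory CartesianMonoidalCategory MonObj GrpObj AlgebraicGeometry
open SGA3

namespace Groth.Agent.S5333

open Groth.Agent CategoryTheory.Limits in
theorem isSeparated_of_closed_range {X S : Scheme.{u}} (f : X ⟶ S)
    (h : IsClosed (Set.range (Limits.pullback.diagonal f).base)) : IsSeparated f :=
  ⟨IsClosedImmersion.of_isPreimmersion _ h⟩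

/-- (i) ⟺ (iii) ⟺ (iv'): let f : X → S be a morphism of schemes. Then X is separated over S if and only
if for every reduced scheme T and every two morphisms T → X with the same composite to S which agree
on a dense open subscheme of T are equal; and X is separated over S if and only if every two points
of X in the same fibre over S lie in a common open subscheme of X which is separated over S. -/
theorem result (X S : Scheme.{u}) (f : X ⟶ S) :
    (IsSeparated f ↔ ∀ (T : Scheme.{u}) [IsReduced T] (g₁ g₂ : T ⟶ X) (U : T.Opens), g₁ ≫ f = g₂ ≫ f →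
      Dense (U : Set T) → U.ι ≫ g₁ = U.ι ≫ g₂ → g₁ = g₂) ∧
    (IsSeparated f ↔ ∀ x₁ x₂ : X, f.base x₁ = f.base x₂ →
      ∃ V : X.Opens, x₁ ∈ V ∧ x₂ ∈ V ∧ IsSeparated (V.ι ≫ f)) := by
  classical
  let Δ := Limits.pullback.diagonal f
  constructor
  · constructor
    · intro _ T _ g₁ g₂ U he hU hres
      haveI : IsDominant U.ι := ⟨by rw [DenseRange, Scheme.Opens.range_ι]; exact hU⟩
      exact ext_of_isDominant_of_isSeparated f he U.ι hres
    · intro h
      refine isSeparated_of_closed_range f ?_
      let Z : TopologicalSpace.Closeds (Limits.pullback.diagonalObj f : Scheme) := ⟨closure (Set.range Δ.base), isClosed_closure⟩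
      let I := Scheme.IdealSheafData.vanishingIdeal Z
      haveI : IsReduced I.subscheme := Groth.Agent.Props12.isReduced_subscheme_vanishingIdeal _
      have hr : Set.range I.subschemeι.base = closure (Set.range Δ.base) := by
        rw [Scheme.IdealSheafData.range_subschemeι]; rfl
      let U : I.subscheme.Opens := I.subschemeι ⁻¹ᵁ Δ.coborderRange
      have hUr : ∀ u ∈ U, I.subschemeι.base u ∈ Set.range Δ.base := by
        intro u hu
        have h1 : I.subschemeι.base u ∈ closure (Set.range Δ.base) := hr ▸ ⟨u, rfl⟩
        rw [← coborder_inter_closure (s := Set.range Δ.base)]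
        exact ⟨hu, h1⟩
      obtain ⟨a, ha⟩ := Groth.Agent.RedSepLib.exists_lift_of_range_subset (U.ι ≫ I.subschemeι) Δ (by
        rintro _ ⟨u, rfl⟩
        exact hUr _ u.2)
      have hdense : Dense (U : Set I.subscheme) := by
        intro t
        rw [I.subschemeι.isClosedEmbedding.toIsInducing.closure_eq_preimage_closure_image]
        refine closure_mono ?_ (hr ▸ ⟨t, rfl⟩ : I.subschemeι.base t ∈ closure (Set.range Δ.base))
        rintro z hz
        obtain ⟨u, rfl⟩ : z ∈ Set.range I.subschemeι.base := hr ▸ subset_closure hz
        exact ⟨u, subset_coborder hz, rfl⟩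
      have heq := h I.subscheme (I.subschemeι ≫ Limits.pullback.fst f f) (I.subschemeι ≫ Limits.pullback.snd f f) U
        (by rw [Category.assoc, Category.assoc, Limits.pullback.condition]) hdense
        (by rw [← Category.assoc, ← Category.assoc, ← ha]; simp [Δ])
      have hfac : I.subschemeι = (I.subschemeι ≫ Limits.pullback.fst f f) ≫ Δ := by
        apply Limits.pullback.hom_ext <;> simp [Δ, heq]
      refine isClosed_of_closure_subset ?_
      rw [← hr, hfac]
      rintro _ ⟨t, rfl⟩
      exact ⟨_, rfl⟩
  · constructor
    · intro _ x₁ x₂ _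
      exact ⟨⊤, trivial, trivial, inferInstance⟩
    · intro h
      refine isSeparated_of_closed_range f (isClosed_of_closure_subset fun z hz => ?_)
      obtain ⟨V, h1, h2, hV⟩ := h ((Limits.pullback.fst f f).base z) ((Limits.pullback.snd f f).base z)
        (by rw [← Scheme.Hom.comp_apply, ← Scheme.Hom.comp_apply, Limits.pullback.condition])
      let j := Limits.pullback.map (V.ι ≫ f) (V.ι ≫ f) f f V.ι V.ι (𝟙 S) (by simp) (by simp)
      obtain ⟨w, rfl⟩ : z ∈ Set.range j.base := by
        rw [Scheme.Pullback.range_map, Scheme.Opens.range_ι]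
        exact ⟨h1, h2⟩
      let ΔV := Limits.pullback.diagonal (V.ι ≫ f)
      have e2 : ΔV ≫ j = V.ι ≫ Δ := by
        apply Limits.pullback.hom_ext
        · simp only [Category.assoc, j, Δ, ΔV, Limits.pullback.map]
          erw [Limits.pullback.lift_fst, Limits.pullback.diagonal_fst_assoc, Limits.pullback.diagonal_fst]
          simp
        · simp only [Category.assoc, j, Δ, ΔV, Limits.pullback.map]
          erw [Limits.pullback.lift_snd, Limits.pullback.diagonal_snd_assoc, Limits.pullback.diagonal_snd]
          simp
      have hw : w ∈ closure (j.base ⁻¹' Set.range Δ.base) := by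
        rw [← j.isOpenEmbedding.isOpenMap.preimage_closure_eq_closure_preimage j.continuous]
        exact hz
      have hsub : j.base ⁻¹' Set.range Δ.base ⊆ Set.range ΔV.base := by
        rintro w' ⟨x, hx⟩
        have hxV : x ∈ V := by
          have e : (Limits.pullback.fst (V.ι ≫ f) (V.ι ≫ f) ≫ V.ι).base w' = x := by
            rw [← Limits.pullback.lift_fst (f := f) (g := f) (Limits.pullback.fst (V.ι ≫ f) (V.ι ≫ f) ≫ V.ι)
              (Limits.pullback.snd (V.ι ≫ f) (V.ι ≫ f) ≫ V.ι) (by simp [Limits.pullback.condition])]
            show (Limits.pullback.fst f f).base (j.base w') = x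
            rw [← hx, ← Scheme.Hom.comp_apply, Limits.pullback.diagonal_fst]
            rfl
          rw [← e, Scheme.Hom.comp_apply]
          exact (Limits.pullback.fst (V.ι ≫ f) (V.ι ≫ f) w').2
        refine ⟨⟨x, hxV⟩, j.isOpenEmbedding.injective ?_⟩
        rw [← Scheme.Hom.comp_apply, e2, Scheme.Hom.comp_apply, ← hx]
        rfl
      obtain ⟨v, rfl⟩ := ((closure_mono hsub).trans
        (IsClosedImmersion.base_closed (f := ΔV)).isClosed_range.closure_eq.le) hw
      refine ⟨V.ι.base v, ?_⟩
      rw [← Scheme.Hom.comp_apply, ← e2, Scheme.Hom.comp_apply]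

end Groth.Agent.S5333
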