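import Groth.Statements.S5335
import Groth.Agent.Desc19.Topology

set_option autoImplicit false
universe u
open CategoryTheory CategoryTheory.Limits MonoidalCategory CartesianMonoidalCategory MonObj GrpObj AlgebraicGeometry
open SGA3

namespace Groth.Agent.S5335

open Groth.Agent in
theorem whisker_aux {S : Scheme.{u}} [DiscreteTopology S] {X' X : Over S} (f : X' ⟶ X) [QuasiCompact f.left]
    (hf : DenseRange f.left.base) (A : Over S) :
    (DenseRange (f ▷ A).left.base ∧ QuasiCompact (f ▷ A).left) ∧
      (DenseRange (A ◁ f).left.base ∧ QuasiCompact (A ◁ f).left) := by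
  haveI := Desc19.universallyOpen_of_discrete A.hom
  have hA : (fst X A).left = Limits.pullback.fst X.hom A.hom := rfl
  have hA' : (snd A X).left = Limits.pullback.snd A.hom X.hom := rfl
  have key : ∀ {P Q : Scheme.{u}} (p : P ⟶ X'.left) (g : P ⟶ Q) (q : Q ⟶ X.left) [UniversallyOpen q],
      IsPullback p g f.left q → DenseRange g.base ∧ QuasiCompact g := by
    intro P Q p g q _ h
    refine ⟨?_, MorphismProperty.of_isPullback (P := @QuasiCompact) h inferInstance⟩
    refine Dense.mono ?_ (hf.preimage q.isOpenMap)
    rintro z ⟨a, ha⟩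
    obtain ⟨w, -, hw⟩ := Scheme.exists_preimage_of_isPullback h a z ha
    exact ⟨w, hw⟩
  constructor
  · haveI : UniversallyOpen (fst X A).left := by rw [hA]; infer_instance
    refine key (fst X' A).left _ (fst X A).left ?_
    refine (IsPullback.of_right (h₁₂ := (snd X A).left) (v₁₃ := A.hom) (h₂₂ := X.hom) ?_
      (congrArg CommaMorphism.left (whiskerRight_fst f A)) (IsPullback.of_hasPullback X.hom A.hom).flip).flip
    rw [show (f ▷ A).left ≫ (snd X A).left = (snd X' A).left from congrArg CommaMorphism.left (whiskerRight_snd f A), Over.w f]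
    exact (IsPullback.of_hasPullback X'.hom A.hom).flip
  · haveI : UniversallyOpen (snd A X).left := by rw [hA']; infer_instance
    refine key (snd A X').left _ (snd A X).left ?_
    refine (IsPullback.of_right (h₁₂ := (fst A X).left) (v₁₃ := A.hom) (h₂₂ := X.hom) ?_
      (congrArg CommaMorphism.left (whiskerLeft_snd A f)) (IsPullback.of_hasPullback A.hom X.hom)).flip
    rw [show (A ◁ f).left ≫ (fst A X).left = (fst A X').left from congrArg CommaMorphism.left (whiskerLeft_fst A f), Over.w f]
    exact IsPullback.of_hasPullback A.hom X'.hom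

/-- Let A be a local artinian ring and f : X' → X, g : Y' → Y two quasi-compact dominant morphisms of
schemes over A. Then the product morphism f ×_A g : X' ×_A Y' → X ×_A Y is dominant (and
quasi-compact). -/
theorem result (A : Type u) [CommRing A] [IsArtinianRing A] [IsLocalRing A] (X X' Y Y' : Over (Spec (CommRingCat.of A)))
    (f : X' ⟶ X) (g : Y' ⟶ Y) [QuasiCompact f.left] [QuasiCompact g.left]
    (hf : DenseRange f.left.base) (hg : DenseRange g.left.base) :
    DenseRange (f ⊗ₘ g).left.base ∧ QuasiCompact (f ⊗ₘ g).left := by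
  haveI : DiscreteTopology (Spec (CommRingCat.of A)) :=
    inferInstanceAs (DiscreteTopology (PrimeSpectrum A))
  obtain ⟨⟨h1, h2⟩, -⟩ := whisker_aux f hf Y'
  obtain ⟨-, h3, h4⟩ := whisker_aux g hg X
  have e : (f ⊗ₘ g).left = (f ▷ Y').left ≫ (X ◁ g).left := by
    rw [MonoidalCategory.tensorHom_def]; rfl
  rw [e]
  exact ⟨h3.comp h1 (X ◁ g).left.continuous, inferInstance⟩

end Groth.Agent.S5335
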