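import Groth.Statements.S5341
import Groth.Agent.AlgGrpLib.Equidim
import Groth.Agent.DimLib.Sub
-- import your own Groth.Agent.* helpers here

set_option autoImplicit false
set_option linter.style.haveILetI false
universe u
open CategoryTheory CategoryTheory.Limits MonoidalCategory CartesianMonoidalCategory MonObj GrpObj AlgebraicGeometry
open SGA3

namespace Groth.Agent.S5341

set_option backward.isDefEq.respectTransparency.types false

/-- Let G be a group scheme locally of finite type over a field k. Then (i) every irreducible component
of G has the same dimension as G; (ii) for every point g of G the local dimension of G at g (the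
infimum of the dimensions of the open neighbourhoods of g) equals dim G. -/
theorem result (k : Type u) [Field k] (G : Over (Spec (CommRingCat.of k))) [GrpObj G]
    [LocallyOfFiniteType G.hom] :
    (∀ Z ∈ irreducibleComponents ↥G.left, topologicalKrullDim ↥Z = topologicalKrullDim ↥G.left) ∧
    (∀ g : G.left, FlatMor.localDim ↥G.left g = topologicalKrullDim ↥G.left) := by
  refine ⟨fun Z hZ => ?_, fun g => Groth.Agent.AlgGrpLib.localDim_eq_topologicalKrullDim G g⟩
  have hcl : IsClosed Z := isClosed_of_mem_irreducibleComponents Z hZ
  obtain ⟨ζ, hζ⟩ := QuasiSober.sober (irreducibleComponents_eq_maximals_closed G.left ▸ hZ).1.2 hcl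
  have hmax : ∀ z : G.left, z ⤳ ζ → ζ = z := fun z hz => by
    have h1 : Z ⊆ closure {z} := by
      rw [← hζ.def]
      exact closure_minimal (Set.singleton_subset_iff.2 hz.mem_closure) isClosed_closure
    have h2 : IsGenericPoint z Z :=
      le_antisymm (hZ.2 isIrreducible_singleton.closure h1) h1
    exact hζ.eq h2
  rw [← Groth.Agent.AlgGrpLib.ptDim_eq_topologicalKrullDim_of_maximal G hmax,
    Groth.Agent.DimLib.topologicalKrullDim_locallyClosed_eq_iSup G.hom hcl.isLocallyClosed]
  refine le_antisymm (iSup_le fun x => ?_) (le_iSup_of_le ⟨ζ, hζ.mem⟩ le_rfl)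
  have hx : ζ ⤳ x.1 := hζ.specializes x.2
  rcases eq_or_ne ζ x.1 with h | h
  · rw [h]
  · exact_mod_cast (Groth.Agent.DimLib.ptDim_lt_of_specializes G.hom hx h).le

end Groth.Agent.S5341
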