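import Groth.Statements.S5343
import Mathlib.RingTheory.Ideal.IdempotentFG
import Mathlib.Algebra.Module.Projective
import Mathlib.RingTheory.Spectrum.Prime.Topology

set_option autoImplicit false
universe u
open CategoryTheory CategoryTheory.Limits MonoidalCategory CartesianMonoidalCategory MonObj GrpObj AlgebraicGeometry
open SGA3

namespace Groth.Agent.S5343

/-- Let R be a commutative ring and B a commutative R-algebra which is projective as an R-module. Then
the image of Spec B → Spec R is an open and closed subset of Spec R. (The published statement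
concerns a quasi-coherent algebra on any scheme which is a direct summand of a free module; this row
is the affine case.) -/
theorem result (R B : Type u) [CommRing R] [CommRing B] [Algebra R B] [Module.Projective R B] :
    IsClopen (Set.range (PrimeSpectrum.comap (algebraMap R B))) := by
  classical
  obtain ⟨s, hs⟩ := Module.projective_def'.mp (inferInstance : Module.Projective R B)
  set t : B →₀ R := s 1 with ht
  set I : Ideal R := Ideal.span (t.support.image t : Set R) with hI
  have h1 : (1 : B) = ∑ b ∈ t.support, t b • b := by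
    conv_lhs => rw [← LinearMap.id_apply (R := R) (1 : B), ← hs]
    simp [Finsupp.linearCombination_apply, Finsupp.sum, ← ht]
  have htI : ∀ b ∈ t.support, t b ∈ I := fun b hb => Ideal.subset_span (by simp only [Finset.coe_image]; exact ⟨b, hb, rfl⟩)
  have hexp : ∀ (f : B →ₗ[R] R) (x : B), f x = ∑ b ∈ t.support, t b * f (b * x) := fun f x => by
    conv_lhs => rw [← one_mul x, h1, Finset.sum_mul, map_sum]
    simp
  have hfI : ∀ (f : B →ₗ[R] R) (x : B), f x ∈ I := fun f x => by
    rw [hexp f x]
    exact Ideal.sum_mem _ fun b hb => Ideal.mul_mem_right _ _ (htI b hb)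
  have hidem : IsIdempotentElem I := by
    refine le_antisymm Ideal.mul_le_left (Ideal.span_le.mpr ?_)
    intro r hr
    obtain ⟨c, -, rfl⟩ := Finset.mem_image.mp hr
    let f : B →ₗ[R] R := (Finsupp.lapply c).comp s
    change f 1 ∈ I * I
    rw [hexp f 1]
    exact Ideal.sum_mem _ fun b hb => Ideal.mul_mem_mul (htI b hb) (hfI f _)
  obtain ⟨e, he, hIe⟩ := (Ideal.isIdempotentElem_iff_of_fg I ⟨_, rfl⟩).mp hidem
  suffices Set.range (PrimeSpectrum.comap (algebraMap R B)) = PrimeSpectrum.basicOpen e by
    rw [this]; exact PrimeSpectrum.isClopen_basicOpen_of_mul_add e (1 - e) (by rw [mul_sub, _root_.mul_one, he.eq, sub_self]) (add_sub_cancel _ _)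
  ext p
  rw [PrimeSpectrum.mem_range_comap_iff]
  constructor
  · intro hp hep
    have hle : I ≤ p.asIdeal := by
      rw [hIe]; exact (Submodule.span_singleton_le_iff_mem e p.asIdeal).mpr hep
    have : (1 : R) ∈ p.asIdeal := by
      rw [← hp, Ideal.mem_comap, map_one, h1]
      exact Ideal.sum_mem _ fun b hb => by
        rw [Algebra.smul_def]; exact Ideal.mul_mem_right _ _ (Ideal.mem_map_of_mem _ (hle (htI b hb)))
    exact p.2.ne_top ((Ideal.eq_top_iff_one _).mpr this)
  · intro hep
    have : ∃ b ∈ t.support, t b ∉ p.asIdeal := by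
      by_contra! hall
      refine hep ((?_ : I ≤ p.asIdeal) (hIe ▸ Submodule.mem_span_singleton_self e))
      refine Ideal.span_le.mpr fun r hr => ?_
      obtain ⟨c, hc, rfl⟩ := Finset.mem_image.mp hr
      exact hall c hc
    obtain ⟨b, -, hb⟩ := this
    refine le_antisymm (fun r hr => ?_) Ideal.le_comap_map
    let g : B →ₗ[R] R := (Finsupp.lapply b).comp s
    have hg : ∀ y ∈ p.asIdeal • (⊤ : Submodule R B), g y ∈ p.asIdeal := fun y hy => by
      refine Submodule.smul_induction_on hy (fun r hr x _ => ?_) (fun x y hx hy => ?_)
      · rw [map_smul]; exact Ideal.mul_mem_right _ _ hr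
      · rw [map_add]; exact add_mem hx hy
    have hr' : algebraMap R B r ∈ p.asIdeal • (⊤ : Submodule R B) := by
      rw [Ideal.smul_top_eq_map]; exact hr
    have := hg _ hr'
    rw [Algebra.algebraMap_eq_smul_one, map_smul] at this
    exact (p.2.mem_or_mem this).resolve_right hb

end Groth.Agent.S5343
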