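import Groth.Statements.S5344
import Groth.Agent.SGA3cLib.ArtinComponent

set_option autoImplicit false
universe u
open CategoryTheory CategoryTheory.Limits MonoidalCategory CartesianMonoidalCategory MonObj GrpObj AlgebraicGeometry
open SGA3

namespace Groth.Agent.S5344

set_option backward.isDefEq.respectTransparency.types false

/-- Let A be a local artinian ring and G an A-group scheme locally of finite type, and let G⁰ be the
connected component of the unit point. Then G⁰ is open in G; it is stable under the group law: for
every A-scheme T and all points g, h : T → G whose images lie in G⁰, the image of g h⁻¹ lies in G⁰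
(so G⁰ carries an open subgroup scheme, the neutral component); and it is normal: for every A-scheme
T, every point g : T → G and every point n : T → G whose image lies in G⁰, the image of g n g⁻¹ lies
in G⁰. -/
theorem result (A : Type u) [CommRing A] [IsArtinianRing A] [IsLocalRing A] (G : Over (Spec (CommRingCat.of A))) [GrpObj G] [LocallyOfFiniteType G.hom]
    (pt : ↥(𝟙_ (Over (Spec (CommRingCat.of A)))).left) :
    IsOpen (connectedComponent (η[G].left.base pt)) ∧
    (∀ (T : Over (Spec (CommRingCat.of A))) (g h : T ⟶ G), Set.range g.left.base ⊆ connectedComponent (η[G].left.base pt) →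
      Set.range h.left.base ⊆ connectedComponent (η[G].left.base pt) →
      Set.range (g * h⁻¹).left.base ⊆ connectedComponent (η[G].left.base pt)) ∧
    ∀ (T : Over (Spec (CommRingCat.of A))) (g n : T ⟶ G), Set.range n.left.base ⊆ connectedComponent (η[G].left.base pt) →
      Set.range (g * n * g⁻¹).left.base ⊆ connectedComponent (η[G].left.base pt) := by
  haveI : IsNoetherianRing A := inferInstance
  haveI : IsLocallyNoetherian G.left := LocallyOfFiniteType.isLocallyNoetherian G.hom
  set C := connectedComponent (η[G].left.base pt) with hC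
  obtain ⟨hA, hB⟩ := SGA3cLib.isPreconnected_component_prod_artinian A G.hom η[G].left (Over.w η[G]) pt
  have hsub : ∀ q : ↥(𝟙_ (Over (Spec (CommRingCat.of A)))).left, q = pt :=
    fun q => Subsingleton.elim (α := PrimeSpectrum A) q pt
  have hone : ∀ (T : Over (Spec (CommRingCat.of A))) (t : T.left), (1 : T ⟶ G).left.base t = η[G].left.base pt := by
    intro T t
    rw [Hom.one_def]
    change η[G].left.base ((toUnit T).left.base t) = _
    rw [hsub ((toUnit T).left.base t)]
  refine ⟨SGA3cLib.isOpen_connectedComponent _, ?_, ?_⟩
  · intro T g h hg hh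
    rintro _ ⟨t, rfl⟩
    let F : G ⊗ G ⟶ G := fst G G * (snd G G)⁻¹
    have himg := hA.image F.left.base F.left.continuous.continuousOn
    have hmem : η[G].left.base pt ∈ F.left.base '' ((fst G G).left.base ⁻¹' C ∩ (snd G G).left.base ⁻¹' C) := by
      let u : 𝟙_ (Over (Spec (CommRingCat.of A))) ⟶ G := 1
      refine ⟨(lift u u).left.base pt, ⟨?_, ?_⟩, ?_⟩
      · change (lift u u ≫ fst G G).left.base pt ∈ C
        rw [lift_fst, hone]; exact mem_connectedComponent
      · change (lift u u ≫ snd G G).left.base pt ∈ C
        rw [lift_snd, hone]; exact mem_connectedComponent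
      · change (lift u u ≫ F).left.base pt = _
        simp only [F, MonObj.comp_mul, GrpObj.comp_inv, lift_fst, lift_snd, mul_inv_cancel]
        exact hone _ _
    refine himg.subset_connectedComponent hmem ⟨(lift g h).left.base t, ⟨?_, ?_⟩, ?_⟩
    · change (lift g h ≫ fst G G).left.base t ∈ C
      rw [lift_fst]; exact hg ⟨t, rfl⟩
    · change (lift g h ≫ snd G G).left.base t ∈ C
      rw [lift_snd]; exact hh ⟨t, rfl⟩
    · change (lift g h ≫ F).left.base t = _
      simp only [F, MonObj.comp_mul, GrpObj.comp_inv, lift_fst, lift_snd]
  · intro T g n hn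
    rintro _ ⟨t, rfl⟩
    let F : G ⊗ G ⟶ G := snd G G * fst G G * (snd G G)⁻¹
    set y := g.left.base t with hy
    have himg := (hB y).image F.left.base F.left.continuous.continuousOn
    have hmem : η[G].left.base pt ∈ F.left.base '' ((fst G G).left.base ⁻¹' C ∩ (snd G G).left.base ⁻¹' {y}) := by
      let u : G ⟶ G ⊗ G := lift (1 : G ⟶ G) (𝟙 G)
      refine ⟨u.left.base y, ⟨?_, ?_⟩, ?_⟩
      · change (u ≫ fst G G).left.base y ∈ C
        rw [lift_fst, hone]; exact mem_connectedComponent
      · change (u ≫ snd G G).left.base y = y
        rw [lift_snd]; rfl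
      · change (u ≫ F).left.base y = _
        simp only [F, u, MonObj.comp_mul, GrpObj.comp_inv, lift_fst, lift_snd, _root_.mul_one, mul_inv_cancel]
        exact hone _ _
    refine himg.subset_connectedComponent hmem ⟨(lift n g).left.base t, ⟨?_, ?_⟩, ?_⟩
    · change (lift n g ≫ fst G G).left.base t ∈ C
      rw [lift_fst]; exact hn ⟨t, rfl⟩
    · change (lift n g ≫ snd G G).left.base t = y
      rw [lift_snd]
    · change (lift n g ≫ F).left.base t = _
      simp only [F, MonObj.comp_mul, GrpObj.comp_inv, lift_fst, lift_snd]

end Groth.Agent.S5344
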