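import Groth.Statements.S5345
import Groth.Agent.SGA3cLib.Components
import Groth.Agent.S5397

set_option autoImplicit false
universe u
open CategoryTheory CategoryTheory.Limits MonoidalCategory CartesianMonoidalCategory MonObj GrpObj AlgebraicGeometry
open SGA3

namespace Groth.Agent.S5345

set_option backward.isDefEq.respectTransparency.types false

/-- Let A be a local artinian ring and G an A-group scheme locally of finite type. Then every connected
component of G, in particular the connected component of the unit, is quasi-compact (so the open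
subscheme it carries is of finite type over A). (The published statement also asserts that the
components are irreducible and of equal dimension; this row states only their quasi-compactness.) -/
theorem result (A : Type u) [CommRing A] [IsArtinianRing A] [IsLocalRing A] (G : Over (Spec (CommRingCat.of A))) [GrpObj G] [LocallyOfFiniteType G.hom]
    (g : G.left) : IsCompact (connectedComponent g) := by
  let R := Spec (CommRingCat.of A)
  let s : R := IsLocalRing.closedPoint A
  have hS : ∀ t : R, t = s := fun t => Subsingleton.elim (α := PrimeSpectrum A) t s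
  haveI : LocallyOfFiniteType (Red.bc (R.fromSpecResidueField s) G).hom :=
    MorphismProperty.pullback_snd (P := @LocallyOfFiniteType) _ _ inferInstance
  let jj : ↥(G.hom.fiber s) → G.left := (G.hom.fiberι s).base
  have hι : Topology.IsEmbedding jj := (G.hom.fiberι s).isEmbedding
  have hsurj : Function.Surjective jj := fun z => by
    have : z ∈ Set.range jj := by
      change z ∈ Set.range (G.hom.fiberι s).base
      rw [G.hom.range_fiberι]; exact hS _
    exact this
  let e : ↥(G.hom.fiber s) ≃ₜ G.left := hι.toHomeomorphOfSurjective hsurj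
  let a := SGA3cLib.regAction G
  have hΦ := SGA3cLib.surjective_regAction G
  have hcc : ∀ (z' ξ : ↥(G.hom.fiber s)), ξ ∈ genericPoints ↥(G.hom.fiber s) → ξ ⤳ z' →
      connectedComponent z' = closure {ξ} := fun z' ξ hξ hξz => by
    haveI : IsLocallyNoetherian (Red.bc (R.fromSpecResidueField s) G).left :=
      LocallyOfFiniteType.isLocallyNoetherian (Red.bc (R.fromSpecResidueField s) G).hom
    exact S3039.connectedComponent_eq (R.residueField s) _ _ (a.bc (R.fromSpecResidueField s))
      (S5397.surjective_bc_fibre a hΦ s) z' ξ hξ hξz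
  obtain ⟨g', rfl⟩ := hsurj g
  obtain ⟨ξ, hξ, hξg⟩ := VarietyLib.exists_genericPoints_specializes g'
  obtain ⟨W, hW, heW, -⟩ := exists_isAffineOpen_mem_and_subset (U := ⊤) (x := η[G].left.base s) trivial
  obtain ⟨V, hV, hξV, -⟩ := exists_isAffineOpen_mem_and_subset (U := ⊤) (x := jj ξ) trivial
  haveI : IsAffine (W : Scheme.{u}) := hW
  haveI : IsAffine (V : Scheme.{u}) := hV
  let m := pullback.map (W.ι ≫ G.hom) (V.ι ≫ G.hom) G.hom G.hom W.ι V.ι (𝟙 _) (by simp) (by simp)
  let Ω := (fst G G).left.base ⁻¹' (W : Set G.left) ∩ (snd G G).left.base ⁻¹' (V : Set G.left)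
  have hΩ : IsCompact Ω := by
    have : Ω = Set.range m.base := by
      rw [Scheme.Pullback.range_map]
      simp only [Scheme.Opens.range_ι]
      rfl
    rw [this]; exact isCompact_range m.continuous
  let m' : G ⊗ G ⟶ G := SGA3cLib.smulPt a (fst G G)⁻¹ (snd G G)
  refine (hΩ.image m'.left.continuous).of_isClosed_subset isClosed_connectedComponent ?_
  intro z hz
  obtain ⟨z', rfl⟩ := hsurj z
  have hz' : z' ∈ connectedComponent g' := by
    have h1 := e.symm.continuous.image_connectedComponent_subset (jj g') ⟨jj z', hz, rfl⟩
    change e.symm (e z') ∈ connectedComponent (e.symm (e g')) at h1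
    rwa [e.symm_apply_apply, e.symm_apply_apply] at h1
  rw [hcc g' ξ hξ hξg, ← specializes_iff_mem_closure] at hz'
  obtain ⟨p, hp1, hp2, hp3⟩ := S5397.exists_point a hΦ s z' ξ hξ hz'
  let ψ : G ⊗ G ⟶ G ⊗ G := lift (fst G G) a.act
  have h : a.act = SGA3cLib.smulPt a (fst G G) (snd G G) := by
    rw [SGA3cLib.smulPt, lift_fst_snd, Category.id_comp]
  refine ⟨ψ.left.base p, ⟨?_, ?_⟩, ?_⟩
  · change (ψ ≫ fst G G).left.base p ∈ W
    rw [lift_fst]
    exact hp1.mem_open W.isOpen heW
  · change (ψ ≫ snd G G).left.base p ∈ V
    rw [lift_snd]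
    rw [hp3]; exact hξV
  · change (ψ ≫ m').left.base p = jj z'
    have : ψ ≫ m' = snd G G := by
      simp only [m', SGA3cLib.comp_smulPt, GrpObj.comp_inv, ψ, lift_fst, lift_snd]
      rw [h, SGA3cLib.inv_smulPt]
    rw [this, hp2]

end Groth.Agent.S5345
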