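import Groth.Statements.S5349
import Groth.Agent.SGA3cLib.NeutralOrbit

set_option autoImplicit false
universe u
open CategoryTheory CategoryTheory.Limits MonoidalCategory CartesianMonoidalCategory MonObj GrpObj AlgebraicGeometry
open SGA3

namespace Groth.Agent.S5349

/-- Let G be a group scheme over a field k (not assumed of finite type) acting on an irreducible
k-scheme X so that the morphism G ×_k X → X ×_k X, (g, x) ↦ (gx, x), is surjective. Then X is
quasi-compact. -/
theorem result (k : Type u) [Field k] (G X : Over (Spec (CommRingCat.of k))) [GrpObj G] (a : AlgGrp.Action G X) (hΦ : Surjective (lift a.act (snd G X)).left)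
    [IrreducibleSpace X.left] : CompactSpace X.left := by
  obtain ⟨θ, hθ, hθe⟩ := VarietyLib.exists_genericPoints_specializes (η[G].left.base (IsLocalRing.closedPoint k))
  let η₀ := genericPoint X.left
  obtain ⟨U, hU, hηU, -⟩ := exists_isAffineOpen_mem_and_subset (U := (⊤ : X.left.Opens)) (x := η₀) trivial
  obtain ⟨V, hV, heV, -⟩ := exists_isAffineOpen_mem_and_subset (U := (⊤ : G.left.Opens))
    (x := η[G].left.base (IsLocalRing.closedPoint k)) trivial
  have hθV : θ ∈ V := hθe.mem_open V.isOpen heV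
  let Ω : Set ↥(G ⊗ X).left := (fst G X).left.base ⁻¹' V ∩ (snd G X).left.base ⁻¹' U
  have hΩ : IsCompact Ω := by
    haveI : IsAffine (V : Scheme.{u}) := hV
    haveI : IsAffine (U : Scheme.{u}) := hU
    let m := pullback.map (V.ι ≫ G.hom) (U.ι ≫ X.hom) G.hom X.hom V.ι U.ι (𝟙 _) (by simp) (by simp)
    have : Ω = Set.range m.base := by
      rw [Scheme.Pullback.range_map]
      simp only [Scheme.Opens.range_ι]
      rfl
    rw [this]
    exact isCompact_range m.continuous
  let m' : G ⊗ X ⟶ X := SGA3cLib.smulPt a (fst G X)⁻¹ (snd G X)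
  refine ⟨?_⟩
  convert hΩ.image m'.left.continuous
  symm
  rw [Set.eq_univ_iff_forall]
  intro v
  obtain ⟨ξ, hξ, hξv⟩ := VarietyLib.exists_genericPoints_specializes v
  obtain ⟨w, hw1, hw2, hw3⟩ := SGA3cLib.exists_orbit_point a hΦ hθ hθe hξ hξv
  let ψ : G ⊗ X ⟶ G ⊗ X := lift (fst G X) a.act
  have h : a.act = SGA3cLib.smulPt a (fst G X) (snd G X) := by
    rw [SGA3cLib.smulPt, lift_fst_snd, Category.id_comp]
  refine ⟨ψ.left.base w, ⟨?_, ?_⟩, ?_⟩
  · change (ψ ≫ fst G X).left.base w ∈ V
    rw [lift_fst]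
    change (fst G X).left.base w ∈ V
    rw [hw1]; exact hθV
  · change (ψ ≫ snd G X).left.base w ∈ U
    rw [lift_snd]
    change a.act.left.base w ∈ U
    rw [hw3, VarietyLib.eq_genericPoint_of_mem_genericPoints hξ]; exact hηU
  · change (ψ ≫ m').left.base w = v
    have : ψ ≫ m' = snd G X := by
      simp only [m', SGA3cLib.comp_smulPt, GrpObj.comp_inv, ψ, lift_fst, lift_snd]
      rw [h, SGA3cLib.inv_smulPt]
    rw [this]; exact hw2

end Groth.Agent.S5349
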