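import Groth.Statements.S5350
import Groth.Agent.SGA3cLib.NeutralOrbit

set_option autoImplicit false
universe u
open CategoryTheory CategoryTheory.Limits MonoidalCategory CartesianMonoidalCategory MonObj GrpObj AlgebraicGeometry
open SGA3

namespace Groth.Agent.S5350

/-- Let G be a group scheme over a field k (not assumed of finite type) acting on a k-scheme X so that G
×_k X → X ×_k X, (g, x) ↦ (gx, x), is surjective; let C⁰ be an irreducible component of G containing
the unit point and U an open subset of X. Let C⁰·U be the image under the action of the set of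
points of G ×_k X whose projections lie in C⁰ and in U. Then (i) C⁰·U is open in X and equals the
union of the irreducible components of X whose generic point lies in U; (ii) if U is retrocompact in
X then C⁰·U is the closure of U (so is open and closed). -/
theorem result (k : Type u) [Field k] (G X : Over (Spec (CommRingCat.of k))) [GrpObj G] (a : AlgGrp.Action G X) (hΦ : Surjective (lift a.act (snd G X)).left)
    (pt : ↥(𝟙_ (Over (Spec (CommRingCat.of k)))).left) (C0 : Set G.left) (hC0 : C0 ∈ irreducibleComponents ↥G.left)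
    (he : η[G].left.base pt ∈ C0) (U : X.left.Opens) :
    letI V : Set X.left := a.act.left.base '' {z : ↥(G ⊗ X).left | (fst G X).left.base z ∈ C0 ∧ (snd G X).left.base z ∈ U}
    IsOpen V ∧ V = ⋃₀ {Z : Set X.left | Z ∈ irreducibleComponents ↥X.left ∧ ∃ ξ ∈ U, closure {ξ} = Z} ∧
    (IsRetrocompact (U : Set X.left) → V = closure (U : Set X.left)) := by
  obtain ⟨θ, hθ, rfl⟩ := VarietyLib.exists_genericPoint_of_component hC0
  rw [Subsingleton.elim (α := ↥(Spec (CommRingCat.of k))) pt (IsLocalRing.closedPoint k)] at he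
  have hθe := specializes_iff_mem_closure.2 he
  have hV := SGA3cLib.image_act_eq a hΦ hθ hθe U
  refine ⟨?_, ?_, fun hU => ?_⟩
  · exact hV.symm ▸ SGA3cLib.isOpen_setOf_max_mem a hΦ hθ hθe U
  · rw [hV]
    ext v
    constructor
    · rintro ⟨ξ, hξ, hξv, hξU⟩
      exact ⟨closure {ξ}, ⟨hξ, ξ, hξU, rfl⟩, specializes_iff_mem_closure.1 hξv⟩
    · rintro ⟨Z, ⟨hZ, ξ, hξU, rfl⟩, hv⟩
      exact ⟨ξ, hZ, specializes_iff_mem_closure.2 hv, hξU⟩
  · rw [hV]
    refine Set.Subset.antisymm ?_ (fun v hv => ?_)
    · rintro v ⟨ξ, -, hξv, hξU⟩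
      exact closure_mono (Set.singleton_subset_iff.2 hξU) (specializes_iff_mem_closure.1 hξv)
    · obtain ⟨y, hyU, hyv⟩ := SGA3cLib.exists_specializes_of_mem_closure U hU hv
      obtain ⟨ξ, hξ, hξy⟩ := VarietyLib.exists_genericPoints_specializes y
      exact ⟨ξ, hξ, hξy.trans hyv, hξy.mem_open U.isOpen hyU⟩

end Groth.Agent.S5350
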