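import Groth.Statements.S5354
import Groth.Agent.SGA3cLib.NeutralOrbit

set_option autoImplicit false
universe u
open CategoryTheory CategoryTheory.Limits MonoidalCategory CartesianMonoidalCategory MonObj GrpObj AlgebraicGeometry
open SGA3

namespace Groth.Agent.S5354

/-- Let G be a group scheme over a field k (not assumed of finite type). For every point x of G there is
a point z of G ×_k G with product x whose two projections are maximal points of G (generic points of
irreducible components). -/
theorem result (k : Type u) [Field k] (G : Over (Spec (CommRingCat.of k))) [GrpObj G] (x : G.left) :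
    ∃ z : ↥(G ⊗ G).left, μ[G].left.base z = x ∧
      closure {(fst G G).left.base z} ∈ irreducibleComponents ↥G.left ∧
      closure {(snd G G).left.base z} ∈ irreducibleComponents ↥G.left := by
  obtain ⟨θ, hθ, hθe⟩ := VarietyLib.exists_genericPoints_specializes (η[G].left.base (IsLocalRing.closedPoint k))
  obtain ⟨ξ, hξ, hξx⟩ := VarietyLib.exists_genericPoints_specializes x
  obtain ⟨w, hw1, hw2, hw3⟩ := SGA3cLib.exists_orbit_point (SGA3cLib.regAction G)
    (SGA3cLib.surjective_regAction G) hθ hθe hξ hξx
  let F := SGA3cLib.flipPair (SGA3cLib.regAction G)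
  refine ⟨F.left.base w, ?_, ?_, ?_⟩
  · change (F ≫ (SGA3cLib.regAction G).act).left.base w = x
    rw [SGA3cLib.flipPair_act]
    exact hw2
  · have e : F ≫ fst G G = fst G G ≫ ι[G] := (lift_fst _ _).trans rfl
    change closure {(F ≫ fst G G).left.base w} ∈ _
    rw [e]
    change closure {(ι[G]).left.base ((fst G G).left.base w)} ∈ _
    rw [hw1, SGA3cLib.inv_fixes hθ hθe]
    exact hθ
  · change closure {(F ≫ snd G G).left.base w} ∈ _
    rw [show F ≫ snd G G = (SGA3cLib.regAction G).act from lift_snd _ _]
    change closure {(SGA3cLib.regAction G).act.left.base w} ∈ _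
    rw [hw3]
    exact hξ

end Groth.Agent.S5354
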