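import Groth.Statements.S5359
import Groth.Agent.MonoEndo26.Descent

set_option autoImplicit false
set_option linter.style.haveILetI false
universe u
open CategoryTheory CategoryTheory.Limits MonoidalCategory CartesianMonoidalCategory MonObj GrpObj AlgebraicGeometry
open SGA3

namespace Groth.Agent.S5359

/-- Let G be an S-group scheme and u : X → G a monomorphism of S-schemes with X of finite presentation
over S. If a point g : T → G is such that, for every T' → T and every point x of X with values in
T', the conjugate g x g⁻¹ is again a point of X, then the same holds for g⁻¹: the transporter of X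
into X coincides with the strict transporter (the normalizer of X). -/
theorem result (S : Scheme.{u}) (G X : Over S) [GrpObj G] (u : X ⟶ G) [Mono u]
    [LocallyOfFinitePresentation X.hom] [QuasiCompact X.hom] [QuasiSeparated X.hom]
    (T : Over S) (g : T ⟶ G)
    (hg : ∀ (T' : Over S) (t : T' ⟶ T) (x : T' ⟶ X), ∃ x' : T' ⟶ X, (t ≫ g) * (x ≫ u) * (t ≫ g)⁻¹ = x' ≫ u) :
    ∀ (T' : Over S) (t : T' ⟶ T) (x : T' ⟶ X), ∃ x' : T' ⟶ X, (t ≫ g)⁻¹ * (x ≫ u) * (t ≫ g) = x' ≫ u := by
  obtain ⟨c, hc⟩ := hg (X ⊗ T) (snd X T) (fst X T)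
  let φ : X ⊗ T ⟶ X ⊗ T := lift c (snd X T)
  haveI : Mono φ := ⟨fun {Z} a b h => by
    have h2 : a ≫ snd X T = b ≫ snd X T := by simpa [φ] using congrArg (· ≫ snd X T) h
    have h1 : a ≫ c = b ≫ c := by simpa [φ] using congrArg (· ≫ fst X T) h
    refine CartesianMonoidalCategory.hom_ext _ _ ?_ h2
    rw [← cancel_mono u]
    have h3 := congrArg (a ≫ ·) hc
    have h4 := congrArg (b ≫ ·) hc
    simp only [MonObj.comp_mul, GrpObj.comp_inv, ← Category.assoc] at h3 h4
    rw [h1, ← h4, h2] at h3
    simpa using h3⟩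
  haveI : LocallyOfFinitePresentation (snd X T).left := inferInstanceAs (LocallyOfFinitePresentation (pullback.snd X.hom T.hom))
  haveI : QuasiCompact (snd X T).left := inferInstanceAs (QuasiCompact (pullback.snd X.hom T.hom))
  haveI : QuasiSeparated (snd X T).left := inferInstanceAs (QuasiSeparated (pullback.snd X.hom T.hom))
  haveI : IsIso φ.left := Groth.Agent.MonoEndo26.isIso_of_mono_endo (snd X T).left φ.left (by
    rw [← Over.comp_left, lift_snd])
  haveI : IsIso ((Over.forget S).map φ) := ‹IsIso φ.left›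
  haveI : IsIso φ := isIso_of_reflects_iso φ (Over.forget S)
  intro T' t x
  refine ⟨(lift x t ≫ inv φ) ≫ fst X T, ?_⟩
  have hsnd : (lift x t ≫ inv φ) ≫ snd X T = t := by
    have h : lift x t ≫ inv φ ≫ φ ≫ snd X T = t := by rw [IsIso.inv_hom_id_assoc, lift_snd]
    simpa [φ] using h
  have hfst : (lift x t ≫ inv φ) ≫ c = x := by
    have h : lift x t ≫ inv φ ≫ φ ≫ fst X T = x := by rw [IsIso.inv_hom_id_assoc, lift_fst]
    simpa [φ] using h
  have h3 := congrArg ((lift x t ≫ inv φ) ≫ ·) hc
  simp only [MonObj.comp_mul, GrpObj.comp_inv] at h3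
  rw [← Category.assoc, ← Category.assoc, ← Category.assoc, hsnd, hfst] at h3
  rw [← h3]
  group

end Groth.Agent.S5359
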