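import Groth.Statements.S5360
import Groth.Agent.MonoEndo26.Descent

set_option autoImplicit false
set_option linter.style.haveILetI false
universe u
open CategoryTheory CategoryTheory.Limits MonoidalCategory CartesianMonoidalCategory MonObj GrpObj AlgebraicGeometry
open SGA3

namespace Groth.Agent.S5360

/-- Let G be an S-scheme of finite presentation over S with an associative composition law m : G ×_S G →
G such that for every S-scheme S' and every point g of G with values in S' the left and right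
translations by g are injective on G(S'), and such that G has an S-point. Then G is an S-group
scheme: there is a group object structure on G over S whose multiplication is m. -/
theorem result (S : Scheme.{u}) (G : Over S)
    [LocallyOfFinitePresentation G.hom] [QuasiCompact G.hom] [QuasiSeparated G.hom]
    (m : G ⊗ G ⟶ G) (hassoc : (m ▷ G) ≫ m = (α_ G G G).hom ≫ (G ◁ m) ≫ m)
    (hl : ∀ (T : Over S) (g : T ⟶ G), Function.Injective (fun x : T ⟶ G => lift g x ≫ m))
    (hr : ∀ (T : Over S) (g : T ⟶ G), Function.Injective (fun x : T ⟶ G => lift x g ≫ m))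
    (e : 𝟙_ (Over S) ⟶ G) :
    ∃ inst : GrpObj G, inst.mul = m := by
  let ℓ : G ⊗ G ⟶ G ⊗ G := lift (fst G G) m
  let r : G ⊗ G ⟶ G ⊗ G := lift m (snd G G)
  let op : ∀ {T : Over S}, (T ⟶ G) → (T ⟶ G) → (T ⟶ G) := fun a b => lift a b ≫ m
  have hℓ : ∀ {T : Over S} (a : T ⟶ G ⊗ G), a ≫ ℓ = lift (a ≫ fst G G) (op (a ≫ fst G G) (a ≫ snd G G)) := fun a => by
    simp only [ℓ, op, comp_lift, lift_comp_fst_snd]
  have hr' : ∀ {T : Over S} (a : T ⟶ G ⊗ G), a ≫ r = lift (op (a ≫ fst G G) (a ≫ snd G G)) (a ≫ snd G G) := fun a => by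
    simp only [r, op, comp_lift, lift_comp_fst_snd]
  haveI : Mono ℓ := ⟨fun {T} a b h => by
    rw [hℓ, hℓ] at h
    have h1 : a ≫ fst G G = b ≫ fst G G := by simpa using congrArg (· ≫ fst G G) h
    refine CartesianMonoidalCategory.hom_ext _ _ h1 (hl T (a ≫ fst G G) ?_)
    simpa [op, h1] using congrArg (· ≫ snd G G) h⟩
  haveI : Mono r := ⟨fun {T} a b h => by
    rw [hr', hr'] at h
    have h1 : a ≫ snd G G = b ≫ snd G G := by simpa using congrArg (· ≫ snd G G) h
    refine CartesianMonoidalCategory.hom_ext _ _ (hr T (a ≫ snd G G) ?_) h1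
    simpa [op, h1] using congrArg (· ≫ fst G G) h⟩
  haveI : LocallyOfFinitePresentation (G ⊗ G).hom := inferInstanceAs (LocallyOfFinitePresentation (pullback.fst G.hom G.hom ≫ G.hom))
  haveI : QuasiCompact (G ⊗ G).hom := inferInstanceAs (QuasiCompact (pullback.fst G.hom G.hom ≫ G.hom))
  haveI : QuasiSeparated (G ⊗ G).hom := inferInstanceAs (QuasiSeparated (pullback.fst G.hom G.hom ≫ G.hom))
  haveI : IsIso ℓ.left := Groth.Agent.MonoEndo26.isIso_of_mono_endo (G ⊗ G).hom ℓ.left (Over.w ℓ)
  haveI : IsIso r.left := Groth.Agent.MonoEndo26.isIso_of_mono_endo (G ⊗ G).hom r.left (Over.w r)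
  haveI : IsIso ((Over.forget S).map ℓ) := ‹IsIso ℓ.left›
  haveI : IsIso ((Over.forget S).map r) := ‹IsIso r.left›
  haveI : IsIso ℓ := isIso_of_reflects_iso ℓ (Over.forget S)
  haveI : IsIso r := isIso_of_reflects_iso r (Over.forget S)
  have div : ∀ {T : Over S} (a b : T ⟶ G), op a (lift a b ≫ inv ℓ ≫ snd G G) = b := fun a b => by
    have h := hℓ (lift a b ≫ inv ℓ)
    rw [Category.assoc, IsIso.inv_hom_id, Category.comp_id] at h
    have h1 : a = (lift a b ≫ inv ℓ) ≫ fst G G := by simpa using congrArg (· ≫ fst G G) h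
    have h2 : b = op ((lift a b ≫ inv ℓ) ≫ fst G G) ((lift a b ≫ inv ℓ) ≫ snd G G) := by
      simpa [op] using congrArg (· ≫ snd G G) h
    rw [← h1, Category.assoc] at h2
    exact h2.symm
  have assoc : ∀ {T : Over S} (a b c : T ⟶ G), op (op a b) c = op a (op b c) := fun a b c => by
    have h := congrArg (fun q => lift (lift a b) c ≫ q) hassoc
    simpa [op] using h
  have nat : ∀ {T T' : Over S} (t : T' ⟶ T) (a b : T ⟶ G), t ≫ op a b = op (t ≫ a) (t ≫ b) := fun t a b => by
    simp only [op, comp_lift_assoc]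
  let one : 𝟙_ (Over S) ⟶ G := lift e e ≫ inv ℓ ≫ snd G G
  let o : ∀ T : Over S, T ⟶ G := fun T => toUnit T ≫ one
  have ho : ∀ T, op (toUnit T ≫ e) (o T) = toUnit T ≫ e := fun T => by rw [← nat, div]
  have hone : ∀ {T : Over S} (x : T ⟶ G), op (o T) x = x := fun {T} x => by
    apply hl T (toUnit T ≫ e)
    show op _ _ = op _ x
    rw [← assoc, ho]
  have hone' : ∀ {T : Over S} (x : T ⟶ G), op x (o T) = x := fun {T} x => by
    apply hr T (o T)
    show op _ _ = op x _
    rw [assoc, hone]
  let i : G ⟶ G := lift (𝟙 G) (o G) ≫ inv ℓ ≫ snd G G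
  have hi : op (𝟙 G) i = o G := div _ _
  have hi' : op i (𝟙 G) = o G := by
    apply hl G i
    show op i _ = op i _
    rw [hone', ← assoc]
    apply hr G i
    show op _ i = op i i
    rw [assoc, hi, hone']
  have e1 : one ▷ G ≫ m = (λ_ G).hom := by
    have h := hone (snd (𝟙_ (Over S)) G)
    rw [show one ▷ G = lift (fst (𝟙_ (Over S)) G ≫ one) (snd _ G) by ext1 <;> simp, leftUnitor_hom]
    simpa [op, o, toUnit_unique (fst (𝟙_ (Over S)) G) (toUnit _)] using h
  have e2 : G ◁ one ≫ m = (ρ_ G).hom := by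
    have h := hone' (fst G (𝟙_ (Over S)))
    rw [show G ◁ one = lift (fst G (𝟙_ (Over S))) (snd G _ ≫ one) by ext1 <;> simp, rightUnitor_hom]
    simpa [op, o, toUnit_unique (snd G (𝟙_ (Over S))) (toUnit _)] using h
  exact ⟨{ one := one, mul := m, one_mul := e1, mul_one := e2, mul_assoc := hassoc,
           inv := i, left_inv := hi', right_inv := hi }, rfl⟩

end Groth.Agent.S5360
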