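import Groth.Statements.S5362
import Groth.Agent.SGA3xLib.SchemImage26
import Groth.Agent.SGA3xLib.SepFibre
import Groth.Agent.AbSchLib.SmoothReduced
import Groth.Agent.FBaseLib.Geom

set_option autoImplicit false
set_option linter.style.haveILetI false
set_option backward.isDefEq.respectTransparency.types false
universe u
open CategoryTheory CategoryTheory.Limits MonoidalCategory CartesianMonoidalCategory MonObj GrpObj AlgebraicGeometry
open SGA3

namespace Groth.Agent.S5362

/-- Let G be a group scheme locally of finite type over a field k, and a : A → G, b : B → G two closed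
subgroup schemes which are smooth and of finite type over k, such that B normalizes A (conjugating a
point of A by a point of B gives a point of A). Let i : Γ → G be the smallest closed subgroup scheme
of G through which both a and b factor. Then Γ is reduced and its underlying set is A·B, the image
of A ×_k B under (x, y) ↦ a(x) b(y). -/
theorem result (k : Type u) [Field k] (G A B : Over (Spec (CommRingCat.of k))) [GrpObj G] [GrpObj A] [GrpObj B]
    [LocallyOfFiniteType G.hom] (a : A ⟶ G) [IsMonHom a] [IsClosedImmersion a.left] (b : B ⟶ G) [IsMonHom b]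
    [IsClosedImmersion b.left] [Smooth A.hom] [QuasiCompact A.hom] [Smooth B.hom] [QuasiCompact B.hom]
    (hN : ∀ (T : Over (Spec (CommRingCat.of k))) (y : T ⟶ B) (x : T ⟶ A), ∃ x' : T ⟶ A, (y ≫ b) * (x ≫ a) * (y ≫ b)⁻¹ = x' ≫ a)
    (Γ : Over (Spec (CommRingCat.of k))) [GrpObj Γ] (i : Γ ⟶ G) [IsMonHom i] [IsClosedImmersion i.left]
    (ha : ∃ a' : A ⟶ Γ, a' ≫ i = a) (hb : ∃ b' : B ⟶ Γ, b' ≫ i = b)
    (hmin : ∀ (Γ' : Over (Spec (CommRingCat.of k))) (_ : GrpObj Γ') (i' : Γ' ⟶ G), IsMonHom i' → IsClosedImmersion i'.left →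
        (∃ a'' : A ⟶ Γ', a'' ≫ i' = a) → (∃ b'' : B ⟶ Γ', b'' ≫ i' = b) → ∃ j : Γ ⟶ Γ', j ≫ i' = i) :
    IsReduced Γ.left ∧ Set.range i.left.base = Set.range ((a ⊗ₘ b) ≫ μ[G]).left.base := by
  haveI : Mono a := Over.mono_of_mono_left a
  haveI : Mono b := Over.mono_of_mono_left b
  haveI : IsSeparated G.hom := SGA3xLib.isSeparated_of_grpObj G
  let m : A ⊗ B ⟶ G := (fst A B ≫ a) * (snd A B ≫ b)
  let j : A ⊗ B ⟶ G ⊗ B := lift m (snd A B)
  haveI : Mono j := ⟨fun {X} p q h => by
    have h2 : p ≫ snd A B = q ≫ snd A B := by simpa [j] using congrArg (· ≫ snd G B) h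
    have h1 : p ≫ fst A B = q ≫ fst A B := by
      have := congrArg (· ≫ fst G B) h
      simp only [j, m, Category.assoc, lift_fst, MonObj.comp_mul] at this
      rw [← Category.assoc p (snd A B) b, h2, Category.assoc] at this
      rw [← cancel_mono a, Category.assoc, Category.assoc]
      exact mul_right_cancel this
    exact CartesianMonoidalCategory.hom_ext _ _ h1 h2⟩
  have hext : ∀ {T : Over (Spec (CommRingCat.of k))} {p q : T ⟶ G ⊗ B}, p ≫ fst G B = q ≫ fst G B →
      p ≫ snd G B = q ≫ snd G B → p = q := fun h1 h2 => CartesianMonoidalCategory.hom_ext _ _ h1 h2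
  let W : Over (Spec (CommRingCat.of k)) := Over.mk (A ⊗ B).hom
  let eW : W ≅ A ⊗ B := Over.isoMk (Iso.refl _) (by simp [W])
  let jW : W ⟶ G ⊗ B := eW.hom ≫ j
  haveI : Mono jW := mono_comp _ _
  obtain ⟨hAB, hj⟩ := SGA3cLib.exists_grpObj_of_subgroup jW
    (fun T => ⟨lift 1 1 ≫ eW.inv, hext (by simp [jW, j, m, MonObj.one_comp, MonObj.comp_mul]) (by simp [jW, j, MonObj.one_comp])⟩)
    (fun T p₀ q₀ => by
      obtain ⟨p, rfl⟩ : ∃ p, p₀ = p ≫ eW.inv := ⟨p₀ ≫ eW.hom, by simp⟩
      obtain ⟨q, rfl⟩ : ∃ q, q₀ = q ≫ eW.inv := ⟨q₀ ≫ eW.hom, by simp⟩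
      obtain ⟨x', hx'⟩ := hN T (p ≫ snd A B) (q ≫ fst A B)
      refine ⟨lift (p ≫ fst A B * x') (p ≫ snd A B * q ≫ snd A B) ≫ eW.inv, hext ?_ ?_⟩
      · simp only [jW, j, m, Iso.inv_hom_id_assoc, Category.assoc, lift_fst, MonObj.comp_mul, MonObj.mul_comp, lift_fst_assoc, lift_snd_assoc]
        rw [← hx']
        simp only [Category.assoc]
        group
      · simp [jW, j, MonObj.mul_comp, MonObj.comp_mul])
    (fun T p₀ => by
      obtain ⟨p, rfl⟩ : ∃ p, p₀ = p ≫ eW.inv := ⟨p₀ ≫ eW.hom, by simp⟩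
      obtain ⟨x', hx'⟩ := hN T ((p ≫ snd A B)⁻¹) ((p ≫ fst A B)⁻¹)
      refine ⟨lift x' ((p ≫ snd A B)⁻¹) ≫ eW.inv, hext ?_ ?_⟩
      · simp only [jW, j, m, Iso.inv_hom_id_assoc, Category.assoc, lift_fst, MonObj.comp_mul, GrpObj.inv_comp, lift_fst_assoc, lift_snd_assoc]
        rw [← hx']
        simp only [GrpObj.inv_comp, Category.assoc]
        group
      · simp [jW, j, GrpObj.inv_comp])


  haveI := hj
  let mW : W ⟶ G := jW ≫ fst G B
  haveI : IsMonHom mW := inferInstanceAs (IsMonHom (jW ≫ fst G B))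
  have hmW : eW.hom ≫ m = mW := by simp [mW, jW, j]
  haveI : QuasiCompact m.left := by
    haveI : QuasiCompact (m.left ≫ G.hom) := by
      rw [Over.w m]
      exact inferInstanceAs (QuasiCompact (pullback.fst A.hom B.hom ≫ A.hom))
    exact QuasiCompact.of_comp m.left G.hom
  haveI : IsIso eW.hom.left := inferInstanceAs (IsIso (𝟙 (A ⊗ B).left))
  haveI : QuasiCompact mW.left := by rw [← hmW, Over.comp_left]; infer_instance
  obtain ⟨H, gH, iH, f', hiH, -, hf', hiHc, hk, hqc, hsurj⟩ := SGA3xLib.SchemImage26.exists_image mW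
  haveI := hiH
  haveI := hiHc
  obtain ⟨a', ha'⟩ := ha
  obtain ⟨b', hb'⟩ := hb
  obtain ⟨jΓ, hjΓ⟩ := hmin H gH iH hiH hiHc ⟨lift (𝟙 A) 1 ≫ eW.inv ≫ f', by
      rw [Category.assoc, Category.assoc, hf', ← hmW, Iso.inv_hom_id_assoc, MonObj.comp_mul, lift_fst_assoc, lift_snd_assoc, Category.id_comp, MonObj.one_comp,
        _root_.mul_one]⟩
    ⟨lift 1 (𝟙 B) ≫ eW.inv ≫ f', by
      rw [Category.assoc, Category.assoc, hf', ← hmW, Iso.inv_hom_id_assoc, MonObj.comp_mul, lift_fst_assoc, lift_snd_assoc, Category.id_comp, MonObj.one_comp,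
        _root_.one_mul]⟩
  obtain ⟨z, hz⟩ := SGA3xLib.SchemImage26.exists_factor f' hk iH i (eW.hom ≫ ((fst A B ≫ a') * (snd A B ≫ b'))) (by
    rw [Category.assoc, MonObj.mul_comp, Category.assoc, Category.assoc, ha', hb', hf', ← hmW])
  haveI : Mono i := Over.mono_of_mono_left i
  haveI : Mono iH := Over.mono_of_mono_left iH
  let e : Γ ≅ H := ⟨jΓ, z, by rw [← cancel_mono i, Category.assoc, hz, hjΓ, Category.id_comp],
    by rw [← cancel_mono iH, Category.assoc, hjΓ, hz, Category.id_comp]⟩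
  haveI := AbSchLib.geometricallyReduced_of_smooth A.hom
  haveI : IsReduced H.left := by
    haveI : GeometricallyReduced A.hom := inferInstance
    haveI : Flat A.hom := inferInstance
    haveI : IsReduced B.left := by
      haveI : GeometricallyReduced B.hom := AbSchLib.geometricallyReduced_of_smooth B.hom
      exact GeometricallyReduced.isReduced_of_flat_of_isLocallyNoetherian B.hom
    haveI : IsReduced (A ⊗ B).left := FBaseLib.isReduced_pullback A.hom B.hom
    haveI : IsReduced W.left := inferInstanceAs (IsReduced (A ⊗ B).left)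
    haveI : IsSchemeTheoreticallyDominant f'.left := (isSchemeTheoreticallyDominant_iff _).mpr hk
    exact IsSchemeTheoreticallyDominant.isReduced f'.left
  refine ⟨?_, ?_⟩
  · haveI : IsIso e.hom.left := ((Over.forget _).mapIso e).isIso_hom
    exact isReduced_of_isOpenImmersion e.hom.left
  · have hr : Set.range i.left.base = Set.range iH.left.base := by
      apply Set.Subset.antisymm
      · rintro _ ⟨y, rfl⟩; exact ⟨jΓ.left y, by rw [← hjΓ]; rfl⟩
      · rintro _ ⟨y, rfl⟩; exact ⟨z.left y, by rw [← hz]; rfl⟩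
    have hm : (a ⊗ₘ b) ≫ μ[G] = m := by
      rw [← lift_fst_comp_snd_comp]
      rfl
    have hrm : Set.range m.left.base = Set.range mW.left.base := by rw [← hmW]; rfl
    rw [hr, hm, hrm, ← hf']
    ext g
    constructor
    · rintro ⟨y, rfl⟩; obtain ⟨w, rfl⟩ := f'.left.surjective y; exact ⟨w, rfl⟩
    · rintro ⟨w, rfl⟩; exact ⟨f'.left w, rfl⟩

end Groth.Agent.S5362
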