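import Groth.Statements.S5373
import Groth.Agent.SGA3cLib.FpqcCov
import Groth.Agent.Et18.Descent

set_option autoImplicit false
universe u
open CategoryTheory CategoryTheory.Limits MonoidalCategory CartesianMonoidalCategory MonObj GrpObj AlgebraicGeometry
open SGA3

namespace Groth.Agent.S5373

set_option backward.isDefEq.respectTransparency.types false

theorem diag_left {S : Scheme.{u}} (Y : Over S) :
    (lift (𝟙 Y) (𝟙 Y)).left = pullback.diagonal Y.hom := by
  apply pullback.hom_ext
  · rw [pullback.diagonal_fst]; exact congrArg (fun t : Y ⟶ Y => t.left) (lift_fst (𝟙 Y) (𝟙 Y))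
  · rw [pullback.diagonal_snd]; exact congrArg (fun t : Y ⟶ Y => t.left) (lift_snd (𝟙 Y) (𝟙 Y))

theorem isPullback_kernelPair {S : Scheme.{u}} {R X Y : Over S} {p : X ⟶ Y} {a b : R ⟶ X}
    (h : IsPullback a b p p) : IsPullback (lift a b) (a ≫ p) (p ⊗ₘ p) (lift (𝟙 Y) (𝟙 Y)) := by
  have hw : lift a b ≫ (p ⊗ₘ p) = (a ≫ p) ≫ lift (𝟙 Y) (𝟙 Y) := by
    apply CartesianMonoidalCategory.hom_ext <;> simp [h.w]
  refine ⟨⟨hw⟩, ⟨PullbackCone.IsLimit.mk hw (fun c => h.lift (c.fst ≫ fst X X) (c.fst ≫ snd X X) ?_) (fun c => ?_) (fun c => ?_)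
    (fun c m h1 h2 => ?_)⟩⟩
  · have e1 := congrArg (· ≫ fst Y Y) c.condition
    have e2 := congrArg (· ≫ snd Y Y) c.condition
    simp at e1 e2
    rw [Category.assoc, Category.assoc, e1, e2]
  · apply CartesianMonoidalCategory.hom_ext <;> simp
  · have e1 := congrArg (· ≫ fst Y Y) c.condition
    simp at e1
    rw [← Category.assoc, h.lift_fst, Category.assoc, e1]
  · apply h.hom_ext
    · rw [h.lift_fst, ← h1]; simp
    · rw [h.lift_snd, ← h1]; simp

theorem isSeparated_of_kernelPair {S : Scheme.{u}} {R X Y : Over S} {p : X ⟶ Y} {a b : R ⟶ X}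
    (h : IsPullback a b p p) {Z : Scheme.{u}} {q : Z ⟶ Y.left} (r : Z ⟶ X.left) (hr : r ≫ p.left = q)
    (hq : SGA3cLib.IsFpqcCov q) (hc : IsClosedImmersion (lift a b).left) : IsSeparated Y.hom := by
  let P : MorphismProperty Scheme.{u} := @IsClosedImmersion
  haveI : P.DescendsAlong (@Surjective ⊓ @Flat ⊓ @QuasiCompact) := Et18.descends_isClosedImmersion
  let Δ := pullback.diagonal Y.hom
  refine ⟨?_⟩
  let q1 := pullback.snd q (fst Y Y).left
  have hq1 : SGA3cLib.IsFpqcCov q1 := hq.pullback_snd _
  let q2 := pullback.snd q (q1 ≫ (snd Y Y).left)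
  have hq2 : SGA3cLib.IsFpqcCov q2 := hq.pullback_snd _
  refine hq1.descend P _ (hq2.descend P _ ?_)
  let w : pullback q (q1 ≫ (snd Y Y).left) ⟶ (X ⊗ X).left :=
    pullback.lift (q2 ≫ pullback.fst q (fst Y Y).left ≫ r) (pullback.fst q (q1 ≫ (snd Y Y).left) ≫ r) (by
      rw [← Over.w p]
      simp only [Category.assoc]
      rw [reassoc_of% hr, pullback.condition_assoc, reassoc_of% (pullback.condition (f := q) (g := q1 ≫ (snd Y Y).left))]
      have e1 := Over.w (fst Y Y)
      have e2 := Over.w (snd Y Y)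
      simp only [Category.assoc, q1, q2, e1, e2])
  have hw : w ≫ (p ⊗ₘ p).left = q2 ≫ q1 := by
    apply pullback.hom_ext
    · have e : (p ⊗ₘ p).left ≫ (fst Y Y).left = (fst X X).left ≫ p.left := congrArg CommaMorphism.left (tensorHom_fst p p)
      change (w ≫ (p ⊗ₘ p).left) ≫ (fst Y Y).left = (q2 ≫ q1) ≫ (fst Y Y).left
      rw [Category.assoc, e, ← Category.assoc]
      have : w ≫ (fst X X).left = q2 ≫ pullback.fst q (fst Y Y).left ≫ r := pullback.lift_fst _ _ _
      rw [this]
      simp only [Category.assoc, hr, q1]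
      rw [pullback.condition]
    · have e : (p ⊗ₘ p).left ≫ (snd Y Y).left = (snd X X).left ≫ p.left := congrArg CommaMorphism.left (tensorHom_snd p p)
      change (w ≫ (p ⊗ₘ p).left) ≫ (snd Y Y).left = (q2 ≫ q1) ≫ (snd Y Y).left
      rw [Category.assoc, e, ← Category.assoc]
      have : w ≫ (snd X X).left = pullback.fst q (q1 ≫ (snd Y Y).left) ≫ r := pullback.lift_snd _ _ _
      rw [this]
      simp only [Category.assoc, hr]
      exact pullback.condition
  let i : pullback (pullback.snd Δ q1) q2 ≅ pullback Δ (q2 ≫ q1) := pullbackLeftPullbackSndIso Δ q1 q2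
  rw [← pullbackLeftPullbackSndIso_hom_snd Δ q1 q2]
  refine (MorphismProperty.cancel_left_of_respectsIso P i.hom _).2 ?_
  have hsq : IsPullback (lift a b).left (a ≫ p).left (p ⊗ₘ p).left Δ := by
    have h' := (isPullback_kernelPair h).map (Over.forget S)
    simp only [Over.forget_map, diag_left] at h'
    exact h'
  have hpb : IsPullback (pullback.snd (lift a b).left w) (pullback.fst (lift a b).left w ≫ (a ≫ p).left)
      (w ≫ (p ⊗ₘ p).left) Δ := ((IsPullback.of_hasPullback (lift a b).left w).paste_horiz hsq.flip).flip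
  rw [hw] at hpb
  rw [← hpb.flip.isoPullback_inv_snd]
  exact (MorphismProperty.cancel_left_of_respectsIso P _ _).2 (MorphismProperty.pullback_snd (P := P) _ _ hc)

/-- Let p : X → Y be a morphism of S-schemes and v : X ×_Y X → X ×_S X the canonical monomorphism (the
graph of the effective equivalence relation defined by p). Then (i) v is an immersion, and a closed
immersion if Y is separated over S; (ii) if p is covering for the fpqc topology (some Z → Y which is
flat, surjective, with every affine open of Y the image of a quasi-compact open of Z, factors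
through p), so that Y represents the quotient sheaf of X by this equivalence relation, and v is a
closed immersion, then Y is separated over S. -/
theorem result (S : Scheme.{u}) (X Y : Over S) (p : X ⟶ Y) :
    letI v : (pullback p p) ⟶ X ⊗ X := lift (pullback.fst p p) (pullback.snd p p)
    IsImmersion v.left ∧ (IsSeparated Y.hom → IsClosedImmersion v.left) ∧
    ((∃ (Z : Scheme.{u}) (q : Z ⟶ Y.left) (r : Z ⟶ X.left), r ≫ p.left = q ∧ Surjective q ∧ Flat q ∧
        ∀ V : Y.left.Opens, IsAffineOpen V → ∃ W : Z.Opens, IsCompact (W : Set Z) ∧ q.base '' (W : Set Z) = (V : Set Y.left)) →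
      IsClosedImmersion v.left → IsSeparated Y.hom) := by
  have hv : ∀ (v : (pullback p p) ⟶ X ⊗ X), v = lift (pullback.fst p p) (pullback.snd p p) →
      IsPullback v.left (pullback.fst p p ≫ p).left (p ⊗ₘ p).left (lift (𝟙 Y) (𝟙 Y)).left := by
    rintro v rfl
    exact (isPullback_kernelPair (IsPullback.of_hasPullback p p)).map (Over.forget S)
  refine ⟨?_, fun hY => ?_, ?_⟩
  · refine MorphismProperty.of_isPullback (P := @IsImmersion) (hv _ rfl).flip ?_
    rw [diag_left]; infer_instance
  · refine MorphismProperty.of_isPullback (P := @IsClosedImmersion) (hv _ rfl).flip ?_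
    rw [diag_left]; exact hY.isClosedImmersion_diagonal
  · rintro ⟨Z, q, r, hr, hs, hf, hW⟩ hc
    exact isSeparated_of_kernelPair (IsPullback.of_hasPullback p p) r hr (SGA3cLib.IsFpqcCov.of_forall q hW) hc

end Groth.Agent.S5373
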