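import Groth.Statements.S5369
import Groth.Agent.SGA3cLib.Components
import Groth.Agent.S5373

set_option autoImplicit false
universe u
open CategoryTheory CategoryTheory.Limits MonoidalCategory CartesianMonoidalCategory MonObj GrpObj AlgebraicGeometry
open SGA3

namespace Groth.Agent.S5369

set_option backward.isDefEq.respectTransparency.types false

theorem isPullback_unit {S : Scheme.{u}} {G G' G'' : Over S} [GrpObj G] [GrpObj G'] (u : G' ⟶ G) [IsMonHom u] [Mono u] (p : G ⟶ G'')
    (hsq : IsPullback ((G ◁ u) ≫ μ[G]) (fst G G') p p) : IsPullback u (toUnit G') p (η[G] ≫ p) := by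
  have hmul : ∀ {T : Over S} (g : T ⟶ G) (x : T ⟶ G'), lift g x ≫ (G ◁ u) ≫ μ[G] = g * (x ≫ u) := fun g x => by
    rw [Hom.mul_def]; simp
  have hw : u ≫ p = toUnit G' ≫ η[G] ≫ p := by
    have := congrArg (lift (1 : G' ⟶ G) (𝟙 G') ≫ ·) hsq.w
    simp only [← Category.assoc, lift_fst] at this
    rw [Category.assoc (lift (1 : G' ⟶ G) (𝟙 G')), hmul, _root_.one_mul, Category.id_comp] at this
    rw [this, Hom.one_def, Category.assoc]
  refine ⟨⟨hw⟩, ⟨PullbackCone.IsLimit.mk hw (fun c => hsq.lift c.fst 1 ?_ ≫ snd G G') (fun c => ?_) (fun c => toUnit_unique _ _)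
    (fun c m h1 _ => ?_)⟩⟩
  · rw [c.condition, toUnit_unique c.snd (toUnit c.pt), Hom.one_def, Category.assoc]
  · set l := hsq.lift c.fst 1 _ with hl
    have h1 : l ≫ (G ◁ u) ≫ μ[G] = c.fst := hsq.lift_fst _ _ _
    have h2 : l ≫ fst G G' = 1 := hsq.lift_snd _ _ _
    have hll : l = lift (l ≫ fst G G') (l ≫ snd G G') := by rw [← comp_lift, lift_fst_snd, Category.comp_id]
    rw [hll, hmul, h2, _root_.one_mul] at h1
    exact h1
  · have hm : lift (1 : c.pt ⟶ G) m = hsq.lift c.fst 1 (by rw [c.condition, toUnit_unique c.snd (toUnit c.pt), Hom.one_def, Category.assoc]) := by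
      apply hsq.hom_ext
      · rw [hsq.lift_fst, hmul, _root_.one_mul, h1]
      · rw [hsq.lift_snd, lift_fst]
    rw [← hm, lift_snd]

theorem isClosedImmersion_pair {S : Scheme.{u}} {G G' : Over S} [GrpObj G] (u : G' ⟶ G)
    (hu : IsClosedImmersion u.left) : IsClosedImmersion (lift ((G ◁ u) ≫ μ[G]) (fst G G')).left := by
  haveI : IsClosedImmersion (G ◁ u).left := by
    have hsq : IsPullback (G ◁ u).left (snd G G').left (snd G G).left u.left := by
      refine IsPullback.of_right (h₁₂ := (fst G G).left) (v₁₃ := G.hom) (h₂₂ := G.hom) ?_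
        (congrArg CommaMorphism.left (whiskerLeft_snd G u)) (IsPullback.of_hasPullback G.hom G.hom)
      rw [show (G ◁ u).left ≫ (fst G G).left = (fst G G').left from congrArg CommaMorphism.left (whiskerLeft_fst G u), Over.w u]
      exact IsPullback.of_hasPullback G.hom G'.hom
    exact MorphismProperty.of_isPullback (P := @IsClosedImmersion) hsq.flip hu
  let Φ : G ⊗ G ⟶ G ⊗ G := lift μ[G] (fst G G)
  let Ψ : G ⊗ G ⟶ G ⊗ G := lift (snd G G) ((snd G G)⁻¹ * fst G G)
  have hμ : μ[G] = fst G G * snd G G := by rw [Hom.mul_def, lift_fst_snd, Category.id_comp]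
  have h1 : Ψ ≫ Φ = 𝟙 _ := by
    apply CartesianMonoidalCategory.hom_ext <;> simp [Φ, Ψ, hμ, MonObj.comp_mul]
  have h2 : Φ ≫ Ψ = 𝟙 _ := by
    apply CartesianMonoidalCategory.hom_ext <;> simp [Φ, Ψ, hμ, MonObj.comp_mul, GrpObj.comp_inv]
  haveI : IsIso Φ := ⟨Ψ, h2, h1⟩
  haveI : IsIso Φ.left := inferInstanceAs (IsIso ((Over.forget _).map Φ))
  have e : lift ((G ◁ u) ≫ μ[G]) (fst G G') = (G ◁ u) ≫ Φ := by
    rw [comp_lift, whiskerLeft_fst]
  rw [e]
  exact inferInstanceAs (IsClosedImmersion ((G ◁ u).left ≫ Φ.left))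

/-- Let u : G' → G be a monomorphism of S-group schemes and p : G → G'' a morphism of S-schemes which is
covering for the fpqc topology (some Z → G'' which is flat, surjective, with every affine open of
G'' the image of a quasi-compact open of Z, factors through p) and such that the square (g, h) ↦
g·u(h), first projection G ×_S G' → G, p, p is cartesian, so that G'' represents the fpqc quotient
sheaf G/G'. Let ε'' be the composite of the unit section of G with p. Then the square formed by u,
the structure morphism G' → S, p and ε'' is cartesian; u is an immersion; and G'' is separated over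
S if and only if u is a closed immersion, if and only if ε'' is a closed immersion. -/
theorem result (S : Scheme.{u}) (G G' G'' : Over S) [GrpObj G] [GrpObj G']
    (u : G' ⟶ G) [IsMonHom u] [Mono u] (p : G ⟶ G'')
    (hcov : (∃ (Z : Scheme.{u}) (q : Z ⟶ G''.left) (r : Z ⟶ G.left), r ≫ p.left = q ∧ Surjective q ∧ Flat q ∧
        ∀ V : G''.left.Opens, IsAffineOpen V → ∃ W : Z.Opens, IsCompact (W : Set Z) ∧ q.base '' (W : Set Z) = (V : Set G''.left)))
    (hsq : IsPullback ((G ◁ u) ≫ μ[G]) (fst G G') p p) :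
    IsPullback u (toUnit G') p (η[G] ≫ p) ∧ IsImmersion u.left ∧
    (IsSeparated G''.hom ↔ IsClosedImmersion u.left) ∧ (IsClosedImmersion u.left ↔ IsClosedImmersion (η[G] ≫ p).left) := by
  obtain ⟨Z, q, r, hr, hs, hf, hW⟩ := hcov
  have hq := SGA3cLib.IsFpqcCov.of_forall q hW
  have hu := isPullback_unit u p hsq
  have hu' : IsPullback u.left (toUnit G').left p.left (η[G] ≫ p).left := hu.map (Over.forget S)
  have hsec : (η[G] ≫ p).left ≫ G''.hom = 𝟙 S := Over.w (η[G] ≫ p)
  haveI : IsImmersion ((η[G] ≫ p).left ≫ G''.hom) := by rw [hsec]; exact inferInstanceAs (IsImmersion (𝟙 S : S ⟶ S))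
  haveI : IsImmersion (η[G] ≫ p).left := IsImmersion.of_comp _ G''.hom
  have hiff : IsClosedImmersion u.left ↔ IsClosedImmersion (η[G] ≫ p).left := by
    refine ⟨fun h => ?_, fun h => MorphismProperty.of_isPullback (P := @IsClosedImmersion) hu'.flip h⟩
    haveI : MorphismProperty.DescendsAlong (P := (@IsClosedImmersion : MorphismProperty Scheme.{u}))
        (@Surjective ⊓ @Flat ⊓ @QuasiCompact) := Et18.descends_isClosedImmersion
    refine hq.descend @IsClosedImmersion _ ?_
    have hpb : IsPullback (pullback.snd u.left r) (pullback.fst u.left r ≫ (toUnit G').left) (r ≫ p.left) (η[G] ≫ p).left :=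
      ((IsPullback.of_hasPullback u.left r).paste_horiz hu'.flip).flip
    rw [hr] at hpb
    rw [← hpb.flip.isoPullback_inv_snd]
    exact (MorphismProperty.cancel_left_of_respectsIso @IsClosedImmersion _ _).2
      (MorphismProperty.pullback_snd (P := @IsClosedImmersion) _ _ h)
  refine ⟨hu, MorphismProperty.of_isPullback (P := @IsImmersion) hu'.flip inferInstance, ⟨fun hG => ?_, fun h => ?_⟩, hiff⟩
  · haveI : IsClosedImmersion ((η[G] ≫ p).left ≫ G''.hom) := by rw [hsec]; exact inferInstanceAs (IsClosedImmersion (𝟙 S : S ⟶ S))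
    exact hiff.2 (IsClosedImmersion.of_comp _ G''.hom)
  · exact S5373.isSeparated_of_kernelPair hsq r hr hq (isClosedImmersion_pair u h)

end Groth.Agent.S5369
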