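import Groth.Statements.S5370
import Groth.Agent.SGA3cLib.FpqcCov
import Groth.Agent.FlatLocal.Descent
import Groth.Agent.S5369

set_option autoImplicit false
universe u
open CategoryTheory CategoryTheory.Limits MonoidalCategory CartesianMonoidalCategory MonObj GrpObj AlgebraicGeometry
open SGA3

namespace Groth.Agent.S5370

set_option backward.isDefEq.respectTransparency.types false

theorem isReduced_of_factor {X Y Z : Scheme.{u}} [IsReduced X] (q : Z ⟶ Y) [Flat q] [Surjective q] (r : Z ⟶ X) (p : X ⟶ Y)
    (h : r ≫ p = q) : IsReduced Y := by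
  subst h
  haveI : ∀ y : Y, _root_.IsReduced (Y.presheaf.stalk y) := fun y => by
    obtain ⟨z, rfl⟩ := (r ≫ p).surjective y
    let f := (Scheme.Hom.stalkMap (r ≫ p) z).hom
    have hfl : f.Flat := Flat.stalkMap (r ≫ p) z
    letI := f.toAlgebra
    haveI : Module.Flat (Y.presheaf.stalk ((r ≫ p).base z)) (Z.presheaf.stalk z) := hfl
    haveI : IsLocalHom (algebraMap (Y.presheaf.stalk ((r ≫ p).base z)) (Z.presheaf.stalk z)) :=
      inferInstanceAs (IsLocalHom f)
    haveI := Module.FaithfullyFlat.of_flat_of_isLocalHom (A := Y.presheaf.stalk ((r ≫ p).base z)) (B := Z.presheaf.stalk z)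
    have hinj : Function.Injective f :=
      FaithfulSMul.algebraMap_injective (Y.presheaf.stalk ((r ≫ p).base z)) (Z.presheaf.stalk z)
    have hinj' : Function.Injective (p.stalkMap (r.base z)).hom := by
      intro a b hab
      apply hinj
      change (Scheme.Hom.stalkMap (r ≫ p) z).hom a = (Scheme.Hom.stalkMap (r ≫ p) z).hom b
      rw [Scheme.Hom.stalkMap_comp]
      exact congrArg (r.stalkMap z).hom hab
    exact isReduced_of_injective _ hinj'
  exact isReduced_of_isReduced_stalk Y

/-- Let u : G' → G be a monomorphism of S-group schemes and p : G → G'' a morphism of S-schemes which is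
covering for the fpqc topology (some Z → G'' which is flat, surjective, with every affine open of
G'' the image of a quasi-compact open of Z, factors through p) and such that the square (g, h) ↦
g·u(h), first projection G ×_S G' → G, p, p is cartesian, so that G'' represents the fpqc quotient
sheaf G/G'. Then: (ix) if G is reduced, G'' is reduced; (xi) G' is flat over S if and only if p is
flat, and in that case G'' is flat over S if and only if G is flat over S. -/
theorem result (S : Scheme.{u}) (G G' G'' : Over S) [GrpObj G] [GrpObj G']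
    (u : G' ⟶ G) [IsMonHom u] [Mono u] (p : G ⟶ G'')
    (hcov : (∃ (Z : Scheme.{u}) (q : Z ⟶ G''.left) (r : Z ⟶ G.left), r ≫ p.left = q ∧ Surjective q ∧ Flat q ∧
        ∀ V : G''.left.Opens, IsAffineOpen V → ∃ W : Z.Opens, IsCompact (W : Set Z) ∧ q.base '' (W : Set Z) = (V : Set G''.left)))
    (hsq : IsPullback ((G ◁ u) ≫ μ[G]) (fst G G') p p) :
    (IsReduced G.left → IsReduced G''.left) ∧
    (Flat G'.hom ↔ Flat p.left) ∧ (Flat p.left → (Flat G''.hom ↔ Flat G.hom)) := by
  obtain ⟨Z, q, r, hr, hs, hf, hW⟩ := hcov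
  have hq := SGA3cLib.IsFpqcCov.of_forall q hW
  refine ⟨fun _ => isReduced_of_factor q r p.left hr, ⟨fun hG' => ?_, fun hp => ?_⟩, fun hp => ⟨fun hG'' => ?_, fun hG => ?_⟩⟩
  · haveI := hG'
    haveI : Flat (fst G G').left := MorphismProperty.pullback_fst (P := @Flat) _ _ hG'
    have hsq' : IsPullback ((G ◁ u) ≫ μ[G]).left (fst G G').left p.left p.left := hsq.map (Over.forget S)
    have hpb : IsPullback (pullback.snd ((G ◁ u) ≫ μ[G]).left r) (pullback.fst ((G ◁ u) ≫ μ[G]).left r ≫ (fst G G').left)
        (r ≫ p.left) p.left := ((IsPullback.of_hasPullback ((G ◁ u) ≫ μ[G]).left r).paste_horiz hsq'.flip).flip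
    rw [hr] at hpb
    haveI : Flat ((G ◁ u) ≫ μ[G]).left := by
      let Φ : G ⊗ G' ⟶ G ⊗ G' := lift ((G ◁ u) ≫ μ[G]) ((snd G G')⁻¹)
      have hΦ : Φ ≫ Φ = 𝟙 _ := by
        have hμ : (G ◁ u) ≫ μ[G] = fst G G' * (snd G G' ≫ u) := by
          rw [Hom.mul_def]; congr 1
        apply CartesianMonoidalCategory.hom_ext <;>
          simp [Φ, hμ, MonObj.comp_mul, GrpObj.comp_inv, GrpObj.inv_comp, _root_.mul_assoc]
      haveI : IsIso Φ := ⟨Φ, hΦ, hΦ⟩
      haveI : IsIso Φ.left := inferInstanceAs (IsIso ((Over.forget _).map Φ))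
      rw [show ((G ◁ u) ≫ μ[G]).left = Φ.left ≫ (fst G G').left from (congrArg CommaMorphism.left (lift_fst ((G ◁ u) ≫ μ[G]) (snd G G')⁻¹)).symm]
      infer_instance
    haveI : Flat (pullback.snd ((G ◁ u) ≫ μ[G]).left r) := MorphismProperty.pullback_snd (P := @Flat) _ _ inferInstance
    let π := pullback.fst ((G ◁ u) ≫ μ[G]).left r ≫ (fst G G').left
    haveI : Flat π := MorphismProperty.of_isPullback (P := @Flat) hpb hf
    haveI : Surjective π := MorphismProperty.of_isPullback (P := @Surjective) hpb hs
    haveI : Flat (π ≫ p.left) := by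
      rw [← hpb.w]; infer_instance
    exact FlatLocal.flat_of_comp π p.left
  · have hu' : IsPullback u.left (toUnit G').left p.left (η[G] ≫ p).left :=
      (S5369.isPullback_unit u p hsq).map (Over.forget S)
    have h := MorphismProperty.of_isPullback (P := @Flat) hu' hp
    have e : (toUnit G').left ≫ (𝟙_ (Over S)).hom = G'.hom := Over.w (toUnit G')
    rw [← e]
    change Flat ((toUnit G').left ≫ 𝟙 S)
    erw [Category.comp_id]
    exact h
  · haveI := hp
    haveI := hG''
    rw [← Over.w p]
    infer_instance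
  · haveI := hp
    haveI := hG
    haveI : Surjective p.left := ⟨fun y => by
      obtain ⟨z, hz⟩ := q.surjective y
      exact ⟨r.base z, by rw [← hz, ← hr]; rfl⟩⟩
    haveI : Flat (p.left ≫ G''.hom) := by rw [Over.w p]; exact hG
    exact FlatLocal.flat_of_comp p.left G''.hom

end Groth.Agent.S5370
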