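import Groth.Statements.S5371
import Groth.Agent.H8Lim.Unramified
import Groth.Agent.SGA3cLib.FpqcCov
import Groth.Agent.Et18.Descent
import Groth.Agent.S5370
import Groth.Agent.AlgSpLib.FppfSource
import Groth.Agent.AlgSpLib.SmoothSource
import Mathlib.AlgebraicGeometry.Morphisms.FlatMono

set_option autoImplicit false
universe u
open CategoryTheory CategoryTheory.Limits MonoidalCategory CartesianMonoidalCategory MonObj GrpObj AlgebraicGeometry
open SGA3

namespace Groth.Agent.S5371

set_option backward.isDefEq.respectTransparency.types false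

theorem quasiCompact_of_comp {X Y W : Scheme.{u}} (p : X ⟶ Y) (f : Y ⟶ W) [Surjective p] [QuasiCompact (p ≫ f)] :
    QuasiCompact f := by
  rw [quasiCompact_iff]
  intro U hU hU'
  have h : p.base '' ((p ≫ f).base ⁻¹' U) = f.base ⁻¹' U := by
    change p.base '' (p.base ⁻¹' (f.base ⁻¹' U)) = _
    exact Set.image_preimage_eq _ p.surjective
  rw [← h]
  exact ((p ≫ f).isCompact_preimage (U := ⟨U, hU⟩) hU').image p.continuous

theorem isPullback_diag {S : Scheme.{u}} {X Y : Over S} (p : X ⟶ Y) :
    (lift (𝟙 X) (𝟙 X)).left ≫ (p ⊗ₘ p).left = p.left ≫ (lift (𝟙 Y) (𝟙 Y)).left := by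
  have h : lift (𝟙 X) (𝟙 X) ≫ (p ⊗ₘ p) = p ≫ lift (𝟙 Y) (𝟙 Y) := by
    apply CartesianMonoidalCategory.hom_ext <;> simp
  exact congrArg CommaMorphism.left h

theorem formallyUnramified_of_comp {S : Scheme.{u}} {X Y : Over S} (p : X ⟶ Y) [Flat p.left] [Surjective p.left]
    [LocallyOfFinitePresentation p.left] [FormallyUnramified X.hom] [LocallyOfFiniteType X.hom] [LocallyOfFiniteType Y.hom] :
    FormallyUnramified Y.hom := by
  let pp := (p ⊗ₘ p).left
  haveI hopen : UniversallyOpen p.left := inferInstance
  haveI : UniversallyOpen pp := by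
    have e : (p ⊗ₘ p) = (p ▷ X) ≫ (Y ◁ p) := tensorHom_def p p
    have h1 : IsPullback (p ▷ X).left (fst X X).left (fst Y X).left p.left := by
      refine IsPullback.of_right (h₁₂ := (snd Y X).left) (v₁₃ := X.hom) (h₂₂ := Y.hom) ?_
        (congrArg CommaMorphism.left (whiskerRight_fst p X)) (IsPullback.of_hasPullback Y.hom X.hom).flip
      rw [show (p ▷ X).left ≫ (snd Y X).left = (snd X X).left from congrArg CommaMorphism.left (whiskerRight_snd p X), Over.w p]
      exact (IsPullback.of_hasPullback X.hom X.hom).flip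
    have h2 : IsPullback (Y ◁ p).left (snd Y X).left (snd Y Y).left p.left := by
      refine IsPullback.of_right (h₁₂ := (fst Y Y).left) (v₁₃ := Y.hom) (h₂₂ := Y.hom) ?_
        (congrArg CommaMorphism.left (whiskerLeft_snd Y p)) (IsPullback.of_hasPullback Y.hom Y.hom)
      rw [show (Y ◁ p).left ≫ (fst Y Y).left = (fst Y X).left from congrArg CommaMorphism.left (whiskerLeft_fst Y p), Over.w p]
      exact IsPullback.of_hasPullback Y.hom X.hom
    haveI : UniversallyOpen (p ▷ X).left := MorphismProperty.of_isPullback (P := @UniversallyOpen) h1.flip hopen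
    haveI : UniversallyOpen (Y ◁ p).left := MorphismProperty.of_isPullback (P := @UniversallyOpen) h2.flip hopen
    rw [show pp = (p ▷ X).left ≫ (Y ◁ p).left from congrArg CommaMorphism.left e]
    infer_instance
  haveI : Flat pp := by
    have e : (p ⊗ₘ p) = (p ▷ X) ≫ (Y ◁ p) := tensorHom_def p p
    have h1 : IsPullback (p ▷ X).left (fst X X).left (fst Y X).left p.left := by
      refine IsPullback.of_right (h₁₂ := (snd Y X).left) (v₁₃ := X.hom) (h₂₂ := Y.hom) ?_
        (congrArg CommaMorphism.left (whiskerRight_fst p X)) (IsPullback.of_hasPullback Y.hom X.hom).flip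
      rw [show (p ▷ X).left ≫ (snd Y X).left = (snd X X).left from congrArg CommaMorphism.left (whiskerRight_snd p X), Over.w p]
      exact (IsPullback.of_hasPullback X.hom X.hom).flip
    have h2 : IsPullback (Y ◁ p).left (snd Y X).left (snd Y Y).left p.left := by
      refine IsPullback.of_right (h₁₂ := (fst Y Y).left) (v₁₃ := Y.hom) (h₂₂ := Y.hom) ?_
        (congrArg CommaMorphism.left (whiskerLeft_snd Y p)) (IsPullback.of_hasPullback Y.hom Y.hom)
      rw [show (Y ◁ p).left ≫ (fst Y Y).left = (fst Y X).left from congrArg CommaMorphism.left (whiskerLeft_fst Y p), Over.w p]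
      exact IsPullback.of_hasPullback Y.hom X.hom
    haveI : Flat (p ▷ X).left := MorphismProperty.of_isPullback (P := @Flat) h1.flip inferInstance
    haveI : Flat (Y ◁ p).left := MorphismProperty.of_isPullback (P := @Flat) h2.flip inferInstance
    rw [show pp = (p ▷ X).left ≫ (Y ◁ p).left from congrArg CommaMorphism.left e]
    infer_instance
  have hX : (lift (𝟙 X) (𝟙 X)).left = pullback.diagonal X.hom := S5373.diag_left X
  have hY : (lift (𝟙 Y) (𝟙 Y)).left = pullback.diagonal Y.hom := S5373.diag_left Y
  have hcomm := isPullback_diag p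
  haveI hoX : IsOpenImmersion (lift (𝟙 X) (𝟙 X)).left := by rw [hX]; infer_instance
  let Δ := (lift (𝟙 Y) (𝟙 Y)).left
  haveI : IsImmersion Δ := by rw [show Δ = _ from hY]; infer_instance
  haveI : Flat Δ := by
    haveI : Flat (p.left ≫ Δ) := by rw [← hcomm]; infer_instance
    exact FlatLocal.flat_of_comp p.left Δ
  haveI : LocallyOfFinitePresentation Δ := by
    rw [show Δ = _ from hY]; exact H8Lim.locallyOfFinitePresentation_diagonal _
  haveI : IsOpenImmersion Δ := IsOpenImmersion.of_flat_of_mono Δ
  haveI : IsOpenImmersion (pullback.diagonal Y.hom) := by rw [← hY]; infer_instance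
  infer_instance

theorem locallyQuasiFinite_iff_discrete {X Y : Scheme.{u}} (f : X ⟶ Y) [LocallyOfFiniteType f] :
    LocallyQuasiFinite f ↔ ∀ y, DiscreteTopology ↥(f.base ⁻¹' {y}) := by
  constructor
  · intro _ y
    exact discreteTopology_iff_isOpen_singleton.2 fun x => by
      obtain ⟨x, hx⟩ := x
      cases hx
      have := (Scheme.Hom.quasiFiniteAt_iff_isOpen_singleton_asFiber (f := f)).1 (f.quasiFiniteAt x)
      rw [← (f.fiberHomeo (f.base x)).isOpen_image, Set.image_singleton] at this
      simp only [Scheme.Hom.asFiber, Homeomorph.apply_symm_apply] at this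
      exact this
  · intro h
    rw [← Scheme.Hom.quasiFiniteLocus_eq_top_iff, eq_top_iff]
    intro x _
    haveI := h (f.base x)
    refine (Scheme.Hom.mem_quasiFiniteLocus (f := f)).2 ?_
    rw [Scheme.Hom.quasiFiniteAt_iff_isOpen_singleton_asFiber, ← (f.fiberHomeo (f.base x)).isOpen_image]
    exact isOpen_discrete _

theorem locallyQuasiFinite_of_comp {X Y W : Scheme.{u}} (p : X ⟶ Y) (f : Y ⟶ W) [Surjective p]
    [LocallyOfFiniteType f] (hp : IsOpenMap p.base) [LocallyQuasiFinite (p ≫ f)] [LocallyOfFiniteType (p ≫ f)] : LocallyQuasiFinite f := by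
  rw [locallyQuasiFinite_iff_discrete]
  intro w
  have hX := (locallyQuasiFinite_iff_discrete (p ≫ f)).1 inferInstance w
  refine discreteTopology_iff_isOpen_singleton.2 fun y => ?_
  obtain ⟨x, hx⟩ := p.surjective y.1
  have hxm : x ∈ (p ≫ f).base ⁻¹' {w} := by
    change f.base (p.base x) = w
    rw [hx]; exact y.2
  let π := (f.base ⁻¹' {w}).restrictPreimage p.base
  have hπ : IsOpenMap π := hp.restrictPreimage _
  have himg : π '' {⟨x, hxm⟩} = {y} := by rw [Set.image_singleton]; congr; exact Subtype.ext hx
  rw [← himg]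
  refine hπ _ ?_
  exact @isOpen_discrete _ _ hX _

/-- Let u : G' → G be a monomorphism of S-group schemes and p : G → G'' a morphism of S-schemes which is
covering for the fpqc topology (some Z → G'' which is flat, surjective, with every affine open of
G'' the image of a quasi-compact open of Z, factors through p) and such that the square (g, h) ↦
g·u(h), first projection G ×_S G' → G, p, p is cartesian, so that G'' represents the fpqc quotient
sheaf G/G'. (xii) G' is flat and locally of finite presentation over S if and only if p is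
surjective, flat and locally of finite presentation; in that case, if G is locally of finite
presentation (resp. locally of finite type, of finite type, smooth, etale, unramified, locally
quasi-finite) over S, so is G''. (xiii) If G' is flat and of finite presentation over S then p is of
finite presentation, and G is of finite presentation over S if and only if G'' is. -/
theorem result (S : Scheme.{u}) (G G' G'' : Over S) [GrpObj G] [GrpObj G']
    (u : G' ⟶ G) [IsMonHom u] [Mono u] (p : G ⟶ G'')
    (hcov : (∃ (Z : Scheme.{u}) (q : Z ⟶ G''.left) (r : Z ⟶ G.left), r ≫ p.left = q ∧ Surjective q ∧ Flat q ∧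
        ∀ V : G''.left.Opens, IsAffineOpen V → ∃ W : Z.Opens, IsCompact (W : Set Z) ∧ q.base '' (W : Set Z) = (V : Set G''.left)))
    (hsq : IsPullback ((G ◁ u) ≫ μ[G]) (fst G G') p p) :
    ((Flat G'.hom ∧ LocallyOfFinitePresentation G'.hom) ↔
      (Surjective p.left ∧ Flat p.left ∧ LocallyOfFinitePresentation p.left)) ∧
    (Flat p.left → LocallyOfFinitePresentation p.left →
      (LocallyOfFinitePresentation G.hom → LocallyOfFinitePresentation G''.hom) ∧
      (LocallyOfFiniteType G.hom → LocallyOfFiniteType G''.hom) ∧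
      (LocallyOfFiniteType G.hom → QuasiCompact G.hom → QuasiCompact G''.hom) ∧
      (Smooth G.hom → Smooth G''.hom) ∧ (Etale G.hom → Etale G''.hom) ∧
      (FormallyUnramified G.hom → LocallyOfFinitePresentation G.hom → FormallyUnramified G''.hom) ∧
      (LocallyQuasiFinite G.hom → LocallyOfFiniteType G.hom → LocallyQuasiFinite G''.hom)) ∧
    (Flat G'.hom → LocallyOfFinitePresentation G'.hom → QuasiCompact G'.hom → QuasiSeparated G'.hom →
      QuasiCompact p.left ∧ QuasiSeparated p.left ∧ LocallyOfFinitePresentation p.left ∧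
      ((LocallyOfFinitePresentation G.hom ∧ QuasiCompact G.hom ∧ QuasiSeparated G.hom) ↔
        (LocallyOfFinitePresentation G''.hom ∧ QuasiCompact G''.hom ∧ QuasiSeparated G''.hom))) := by
  obtain ⟨Z, q, r, hr, hs, hf, hW⟩ := hcov
  have hq := SGA3cLib.IsFpqcCov.of_forall q hW
  haveI : Surjective p.left := ⟨fun y => by
    obtain ⟨z, hz⟩ := q.surjective y
    exact ⟨r.base z, by rw [← hz, ← hr]; rfl⟩⟩
  have hμ : (G ◁ u) ≫ μ[G] = fst G G' * (snd G G' ≫ u) := by
    rw [Hom.mul_def]; congr 1
  let Φ : G ⊗ G' ⟶ G ⊗ G' := lift ((G ◁ u) ≫ μ[G]) ((snd G G')⁻¹)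
  have hΦ : Φ ≫ Φ = 𝟙 _ := by
    apply CartesianMonoidalCategory.hom_ext <;>
      simp [Φ, hμ, MonObj.comp_mul, GrpObj.comp_inv, GrpObj.inv_comp, _root_.mul_assoc]
  haveI : IsIso Φ := ⟨Φ, hΦ, hΦ⟩
  haveI : IsIso Φ.left := inferInstanceAs (IsIso ((Over.forget _).map Φ))
  have hsq' : IsPullback ((G ◁ u) ≫ μ[G]).left (fst G G').left p.left p.left := hsq.map (Over.forget S)
  have hpb : IsPullback (Limits.pullback.snd ((G ◁ u) ≫ μ[G]).left r) (Limits.pullback.fst ((G ◁ u) ≫ μ[G]).left r ≫ (fst G G').left)
      q p.left := by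
    have := ((IsPullback.of_hasPullback ((G ◁ u) ≫ μ[G]).left r).paste_horiz hsq'.flip).flip
    rwa [hr] at this
  have hup : ∀ (P : MorphismProperty Scheme.{u}) [P.IsStableUnderBaseChange] [IsZariskiLocalAtTarget P]
      [P.DescendsAlong (@Surjective ⊓ @Flat ⊓ @QuasiCompact)], P G'.hom → P p.left := by
    intro P _ _ _ h
    have h1 : P ((G ◁ u) ≫ μ[G]).left := by
      rw [show ((G ◁ u) ≫ μ[G]).left = Φ.left ≫ (fst G G').left from
        (congrArg CommaMorphism.left (lift_fst ((G ◁ u) ≫ μ[G]) (snd G G')⁻¹)).symm]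
      exact (MorphismProperty.cancel_left_of_respectsIso P _ _).2 (MorphismProperty.pullback_fst (P := P) _ _ h)
    refine hq.descend P _ ?_
    rw [← hpb.flip.isoPullback_inv_snd]
    exact (MorphismProperty.cancel_left_of_respectsIso P _ _).2 (MorphismProperty.pullback_snd (P := P) _ _ h1)
  have hdown : ∀ (P : MorphismProperty Scheme.{u}) [P.IsStableUnderBaseChange], P p.left → P G'.hom := by
    intro P _ h
    have hu' : IsPullback u.left (toUnit G').left p.left (η[G] ≫ p).left :=
      (S5369.isPullback_unit u p hsq).map (Over.forget S)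
    have h1 := MorphismProperty.of_isPullback (P := P) hu' h
    have e : (toUnit G').left ≫ (𝟙_ (Over S)).hom = G'.hom := Over.w (toUnit G')
    rw [← e]
    change P ((toUnit G').left ≫ 𝟙 S)
    erw [Category.comp_id]
    exact h1
  haveI : MorphismProperty.DescendsAlong (P := (@QuasiCompact : MorphismProperty Scheme.{u}))
      (@Surjective ⊓ @Flat ⊓ @QuasiCompact) := Et18.descends_quasiCompact
  haveI : MorphismProperty.DescendsAlong (P := (@QuasiSeparated : MorphismProperty Scheme.{u}))
      (@Surjective ⊓ @Flat ⊓ @QuasiCompact) := Et18.descends_quasiSeparated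
  have hflat : Flat G'.hom ↔ Flat p.left :=
    (S5370.result S G G' G'' u p ⟨Z, q, r, hr, hs, hf, hW⟩ hsq).2.1
  refine ⟨⟨fun ⟨h1, h2⟩ => ⟨inferInstance, hflat.1 h1, hup @LocallyOfFinitePresentation h2⟩,
    fun ⟨_, h1, h2⟩ => ⟨hflat.2 h1, hdown @LocallyOfFinitePresentation h2⟩⟩, fun hpf hpp => ?_, fun h1 h2 h3 h4 => ?_⟩
  · haveI := hpf
    haveI := hpp
    have hw : p.left ≫ G''.hom = G.hom := Over.w p
    have hlft : LocallyOfFiniteType G.hom → LocallyOfFiniteType G''.hom := fun h =>
      AlgSpLib.lft_of_comp_fppf p.left G''.hom (by rw [hw]; exact h)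
    have hsm : Smooth G.hom → Smooth G''.hom := fun h =>
      AlgSpLib.smooth_of_comp_fppf p.left G''.hom (by rw [hw]; exact h)
    have hlfp : LocallyOfFinitePresentation G.hom → LocallyOfFinitePresentation G''.hom := fun h =>
      AlgSpLib.lfp_of_comp_fppf p.left G''.hom (by rw [hw]; exact h)
    have hfu : FormallyUnramified G.hom → LocallyOfFinitePresentation G.hom → FormallyUnramified G''.hom := fun h h' => by
      haveI := h
      haveI := h'
      haveI := hlfp h'
      exact formallyUnramified_of_comp p
    refine ⟨hlfp, hlft, fun _ hq' => ?_, hsm, fun h => ?_, hfu, fun h h' => ?_⟩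
    · haveI : QuasiCompact (p.left ≫ G''.hom) := by rw [hw]; exact hq'
      exact quasiCompact_of_comp p.left G''.hom
    · haveI := hsm inferInstance
      haveI := hfu inferInstance inferInstance
      exact Etale.of_formallyUnramified_of_flat G''.hom
    · haveI := hlft h'
      haveI : LocallyQuasiFinite (p.left ≫ G''.hom) := by rw [hw]; exact h
      haveI : LocallyOfFiniteType (p.left ≫ G''.hom) := by rw [hw]; exact h'
      exact locallyQuasiFinite_of_comp p.left G''.hom p.left.isOpenMap
  · haveI := hflat.1 h1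
    haveI hpp := hup @LocallyOfFinitePresentation h2
    haveI hpc := hup @QuasiCompact h3
    haveI hps := hup @QuasiSeparated h4
    have hw : p.left ≫ G''.hom = G.hom := Over.w p
    refine ⟨hpc, hps, hpp, ⟨fun ⟨a, b, c⟩ => ?_, fun ⟨a, b, c⟩ => ?_⟩⟩
    · haveI : QuasiCompact (p.left ≫ G''.hom) := by rw [hw]; exact b
      refine ⟨AlgSpLib.lfp_of_comp_fppf p.left G''.hom (by rw [hw]; exact a), quasiCompact_of_comp p.left G''.hom, ⟨?_⟩⟩
      rw [← S5373.diag_left G'']
      haveI : QuasiCompact (p.left ≫ (lift (𝟙 G'') (𝟙 G'')).left) := by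
        rw [← isPullback_diag p]
        haveI : QuasiCompact (lift (𝟙 G) (𝟙 G)).left := by
          rw [S5373.diag_left G]; exact c.quasiCompact_diagonal
        haveI : QuasiCompact (p ⊗ₘ p).left := by
          have e : (p ⊗ₘ p) = (p ▷ G) ≫ (G'' ◁ p) := tensorHom_def p p
          have h1 : IsPullback (p ▷ G).left (fst G G).left (fst G'' G).left p.left := by
            refine IsPullback.of_right (h₁₂ := (snd G'' G).left) (v₁₃ := G.hom) (h₂₂ := G''.hom) ?_
              (congrArg CommaMorphism.left (whiskerRight_fst p G)) (IsPullback.of_hasPullback G''.hom G.hom).flip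
            rw [show (p ▷ G).left ≫ (snd G'' G).left = (snd G G).left from congrArg CommaMorphism.left (whiskerRight_snd p G), Over.w p]
            exact (IsPullback.of_hasPullback G.hom G.hom).flip
          have h2 : IsPullback (G'' ◁ p).left (snd G'' G).left (snd G'' G'').left p.left := by
            refine IsPullback.of_right (h₁₂ := (fst G'' G'').left) (v₁₃ := G''.hom) (h₂₂ := G''.hom) ?_
              (congrArg CommaMorphism.left (whiskerLeft_snd G'' p)) (IsPullback.of_hasPullback G''.hom G''.hom)
            rw [show (G'' ◁ p).left ≫ (fst G'' G'').left = (fst G'' G).left from congrArg CommaMorphism.left (whiskerLeft_fst G'' p), Over.w p]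
            exact IsPullback.of_hasPullback G''.hom G.hom
          haveI : QuasiCompact (p ▷ G).left := MorphismProperty.of_isPullback (P := @QuasiCompact) h1.flip hpc
          haveI : QuasiCompact (G'' ◁ p).left := MorphismProperty.of_isPullback (P := @QuasiCompact) h2.flip hpc
          rw [show (p ⊗ₘ p).left = (p ▷ G).left ≫ (G'' ◁ p).left from congrArg CommaMorphism.left e]
          infer_instance
        infer_instance
      exact quasiCompact_of_comp p.left _
    · haveI := a; haveI := b; haveI := c
      rw [← hw]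
      exact ⟨inferInstance, inferInstance, inferInstance⟩

end Groth.Agent.S5371
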