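import Groth.Statements.S5375
import Groth.Agent.SGA3Union.MatrixCorep

set_option autoImplicit false
universe u
open CategoryTheory CategoryTheory.Limits MonoidalCategory CartesianMonoidalCategory MonObj GrpObj AlgebraicGeometry
open SGA3

namespace Groth.Agent.S5375

/-- Let A be a commutative Hopf algebra over a field k (an affine k-group, not necessarily of finite
type) and x an element of A. Then there is a subalgebra B of A of finite type over k containing x
which is a sub-Hopf-algebra: the comultiplication sends B into B ⊗ B and the antipode preserves B. -/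
theorem result (k : Type u) [Field k] (A : Type u) [CommRing A] [HopfAlgebra k A] (x : A) :
    ∃ B : Subalgebra k A, x ∈ B ∧ B.FG ∧ SGA3.IsHopfSubalgebra k A B := by
  classical
  obtain ⟨M, hfg, hFM, hM⟩ := Groth.Agent.SGA3Union.exists_fg_subcomodule (R := k) ({x} : Finset A)
  obtain ⟨d, E, C, hE, hEC, hCE, hcm, hcu, hspan⟩ := Groth.Agent.SGA3Union.exists_corep M hfg hM
  obtain ⟨a, hΔ, hε, hC⟩ := Groth.Agent.SGA3Union.corep_of_idem E C hE hEC hCE hcm hcu
  obtain ⟨w, hw⟩ := Groth.Agent.SGA3Union.isUnit_det_corep hΔ hε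
  have hu : (↑w⁻¹ : A) * a.det = 1 := by rw [← hw, Units.inv_mul]
  refine ⟨_, ?_, Subalgebra.fg_def.mpr ⟨_, ?_, rfl⟩, Groth.Agent.SGA3Union.isHopfSubalgebra_adjoin hΔ hε hu⟩
  · have hle : Submodule.span k (Set.range fun p : Fin d × Fin d => C p.1 p.2) ≤
        Subalgebra.toSubmodule (Algebra.adjoin k ((Set.range fun p : Fin d × Fin d => a p.1 p.2) ∪ {(↑w⁻¹ : A)})) :=
      Submodule.span_le.mpr (Set.range_subset_iff.mpr fun p =>
        Algebra.adjoin_mono Set.subset_union_left (hC p.1 p.2))
    exact hle (hspan (hFM (by simp)))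
  · exact (Set.finite_range _).union (Set.finite_singleton _)

end Groth.Agent.S5375
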