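import Groth.Statements.S5376
import Groth.Agent.HopfLib.Comod
import Groth.Agent.HopfLib.GITPoints
import Mathlib.LinearAlgebra.Dual.Lemmas

set_option autoImplicit false
universe u
open CategoryTheory CategoryTheory.Limits MonoidalCategory CartesianMonoidalCategory MonObj GrpObj AlgebraicGeometry
open SGA3

namespace Groth.Agent.S5376

/-- Let k be an algebraically closed field, A a finitely generated commutative Hopf algebra over k which
is reduced (a reduced affine algebraic k-group G), V a finite-dimensional A-comodule and v a vector
of V. Let E be the k-subspace of V spanned by the vectors g·v for g running over the k-points of G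
(algebra maps A → k). Then E is a subcomodule of V containing v, and it is the smallest one. -/
theorem result (k : Type u) [Field k] [IsAlgClosed k] (A : Type u) [CommRing A] [HopfAlgebra k A]
    [Algebra.FiniteType k A] [IsReduced A] (V : Type u) [AddCommGroup V] [Module k V] [HopfRep.Comod k A V]
    [Module.Finite k V] (v : V) :
    letI E : Submodule k V := Submodule.span k (Set.range fun g : A →ₐ[k] k => HopfRep.Comod.act k A V g v)
    HopfRep.IsSubcomod (k := k) (A := A) E ∧ v ∈ E ∧
      ∀ W : Submodule k V, HopfRep.IsSubcomod (k := k) (A := A) W → v ∈ W → E ≤ W := by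
  set E : Submodule k V := Submodule.span k (Set.range fun g : A →ₐ[k] k => HopfRep.Comod.act k A V g v) with hE
  suffices h : HopfLib.orbit k A v = E by
    rw [← h]
    exact ⟨HopfLib.isSubcomod_orbit v, HopfLib.mem_orbit_self v, fun W hW hv => HopfLib.orbit_le hW hv⟩
  refine le_antisymm ?_ (Submodule.span_le.mpr ?_)
  · rintro _ ⟨l, rfl⟩
    refine (Subspace.forall_mem_dualAnnihilator_apply_eq_zero_iff E _).mp fun f hf => ?_
    have key : ∀ g : A →ₗ[k] k, f (HopfLib.hit g v) = g (HopfLib.cf f v) := by
      intro g
      rw [HopfLib.hit_apply, HopfLib.cf_apply]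
      generalize HopfRep.Comod.coact (k := k) (A := A) v = t
      induction t using TensorProduct.induction_on with
      | zero => simp
      | add p q hp hq => simp only [map_add, hp, hq]
      | tmul a b => simp [mul_comm]
    have hcf : HopfLib.cf (A := A) f v = 0 := by
      by_contra hne
      obtain ⟨x, hx⟩ := HopfLib.exists_algHom_ne_zero (k := k) (f := HopfLib.cf (A := A) f v) fun h => hne h.eq_zero
      apply hx
      change x.toLinearMap _ = 0
      rw [← key]
      exact (Submodule.mem_dualAnnihilator f).mp hf _ (Submodule.subset_span ⟨x, rfl⟩)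
    change f (HopfLib.hit l v) = 0
    rw [key, hcf, map_zero]
  · rintro _ ⟨g, rfl⟩
    exact ⟨g.toLinearMap, rfl⟩

end Groth.Agent.S5376
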