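import Groth.Statements.S5377
import Mathlib.RingTheory.Flat.EquationalCriterion
import Mathlib.RingTheory.RingHom.FaithfullyFlat
import Mathlib.Algebra.Category.Ring.FilteredColimits
import Mathlib.CategoryTheory.Limits.ConcreteCategory.Filtered

set_option autoImplicit false
universe u
open CategoryTheory CategoryTheory.Limits MonoidalCategory CartesianMonoidalCategory MonObj GrpObj AlgebraicGeometry
open SGA3

namespace Groth.Agent.S5377

theorem exists_lift {J : Type u} [SmallCategory J] [IsFiltered J] (F : J ⥤ CommRingCat.{u}) {σ : Type*} [Finite σ]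
    (x : σ → (colimit F : CommRingCat.{u})) (j₀ : J) :
    ∃ (j : J) (_ : j₀ ⟶ j) (y : σ → F.obj j), ∀ i, colimit.ι F j (y i) = x i := by
  classical
  have := Fintype.ofFinite σ
  choose js ys hys using fun i => Concrete.colimit_exists_rep F (x i)
  obtain ⟨k, hk⟩ := IsFiltered.sup_objs_exists (insert j₀ (Finset.univ.image js))
  let g : ∀ i, js i ⟶ k := fun i => (hk (Finset.mem_insert_of_mem (Finset.mem_image_of_mem _ (Finset.mem_univ i)))).some
  refine ⟨k, (hk (Finset.mem_insert_self _ _)).some, fun i => F.map (g i) (ys i), fun i => ?_⟩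
  rw [← hys i, ← ConcreteCategory.comp_apply, colimit.w]

theorem exists_zero {J : Type u} [SmallCategory J] [IsFiltered J] (F : J ⥤ CommRingCat.{u}) {j : J} (x : F.obj j)
    (h : colimit.ι F j x = 0) : ∃ (k : J) (g : j ⟶ k), F.map g x = 0 := by
  obtain ⟨k, f, g, e⟩ := Concrete.colimit_exists_of_rep_eq F x (0 : F.obj j) (h.trans (map_zero _).symm)
  exact ⟨k, f, by rw [e, map_zero]⟩

/-- Let (C_i → A_i)_i be a filtered direct system of homomorphisms of commutative rings, each of which
is faithfully flat. Then the induced homomorphism colim C_i → colim A_i is faithfully flat. -/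
theorem result (J : Type u) [SmallCategory J] [IsFiltered J]
    (C A : J ⥤ CommRingCat.{u}) (φ : C ⟶ A) (h : ∀ j : J, (φ.app j).hom.FaithfullyFlat) :
    (colimMap φ).hom.FaithfullyFlat := by
  classical
  have j₀ : J := IsFiltered.nonempty.some
  have hcomm : ∀ (j : J) (c : C.obj j), (colimMap φ) (colimit.ι C j c) = colimit.ι A j (φ.app j c) := fun j c => by
    rw [← ConcreteCategory.comp_apply, ← ConcreteCategory.comp_apply, ι_colimMap]
  let C' : CommRingCat.{u} := colimit C
  let A' : CommRingCat.{u} := colimit A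
  algebraize [(colimMap φ).hom]
  have hflat : Module.Flat C' A' := by
    rw [Module.Flat.iff_forall_isTrivialRelation]
    intro l f x hfx
    obtain ⟨j₁, -, f₁, hf₁⟩ := exists_lift C f j₀
    obtain ⟨j₂, g₂, x₂, hx₂⟩ := exists_lift A x j₁
    let f₂ : Fin l → C.obj j₂ := fun i => C.map g₂ (f₁ i)
    have hf₂ : ∀ i, colimit.ι C j₂ (f₂ i) = f i := fun i => by
      rw [← hf₁ i, ← ConcreteCategory.comp_apply, colimit.w]
    have hzero : colimit.ι A j₂ (∑ i, φ.app j₂ (f₂ i) * x₂ i) = 0 := by
      rw [map_sum, ← hfx]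
      refine Finset.sum_congr rfl fun i _ => ?_
      rw [map_mul, ← hcomm, hf₂, hx₂]
      rfl
    obtain ⟨k, g, hk⟩ := exists_zero A _ hzero
    let f₃ : Fin l → C.obj k := fun i => C.map g (f₂ i)
    let x₃ : Fin l → A.obj k := fun i => A.map g (x₂ i)
    algebraize [(φ.app k).hom]
    have hrel : ∑ i, f₃ i • x₃ i = 0 := by
      rw [← hk, map_sum]
      refine Finset.sum_congr rfl fun i _ => ?_
      rw [map_mul]
      exact congrArg (· * A.map g (x₂ i)) (ConcreteCategory.congr_hom (φ.naturality g) (f₂ i))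
    have : Module.Flat (C.obj k) (A.obj k) := ((h k).flat : Module.Flat (C.obj k) (A.obj k))
    obtain ⟨m, a, y, hy, ha⟩ := Module.Flat.isTrivialRelation_of_sum_smul_eq_zero hrel
    have hf₃ : ∀ i, colimit.ι C k (f₃ i) = f i := fun i => by
      rw [← hf₂ i, ← ConcreteCategory.comp_apply, colimit.w]
    refine ⟨m, fun i q => colimit.ι C k (a i q), fun q => colimit.ι A k (y q), fun i => ?_, fun q => ?_⟩
    · change x i = ∑ q, (colimMap φ) (colimit.ι C k (a i q)) * colimit.ι A k (y q)
      rw [← hx₂ i, show colimit.ι A j₂ (x₂ i) = colimit.ι A k (x₃ i) from by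
        rw [← colimit.w A g]; rfl, hy i, map_sum]
      refine Finset.sum_congr rfl fun q _ => ?_
      rw [hcomm, ← map_mul]
      rfl
    · change ∑ i, f i * colimit.ι C k (a i q) = 0
      simp_rw [← hf₃, ← map_mul, ← map_sum, ha q, map_zero]
  refine ⟨fun {m} hm htop => ?_⟩
  have h1 : (1 : A') ∈ Ideal.map (colimMap φ).hom m := by
    have : (1 : A') ∈ (m • ⊤ : Submodule C' A') := by rw [htop]; exact Submodule.mem_top
    rw [Ideal.smul_top_eq_map] at this
    exact this
  rw [Ideal.map, Ideal.span, Submodule.mem_span_set'] at h1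
  obtain ⟨l, r, v, hv⟩ := h1
  choose c hcm hcv using fun i => (v i).2
  obtain ⟨j₁, -, c₁, hc₁⟩ := exists_lift C c j₀
  obtain ⟨j₂, g₂, r₂, hr₂⟩ := exists_lift A r j₁
  have hzero : colimit.ι A j₂ (∑ i, r₂ i * φ.app j₂ (C.map g₂ (c₁ i)) - 1) = 0 := by
    rw [map_sub, map_one, map_sum, ← hv, sub_eq_zero]
    refine Finset.sum_congr rfl fun i _ => ?_
    rw [map_mul, ← hcomm, hr₂, ← ConcreteCategory.comp_apply (C.map g₂), colimit.w, hc₁, ← hcv i]
    rfl
  obtain ⟨k, g, hk⟩ := exists_zero A _ hzero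
  algebraize [(φ.app k).hom]
  have : Module.FaithfullyFlat (C.obj k) (A.obj k) := h k
  let mk : Ideal (C.obj k) := m.comap (colimit.ι C k).hom
  have hne : mk ≠ ⊤ := fun e => hm.ne_top <| (Ideal.eq_top_iff_one _).mpr <| by
    have : (1 : C.obj k) ∈ mk := e ▸ Submodule.mem_top
    have := Ideal.mem_comap.mp this
    rwa [map_one] at this
  obtain ⟨M, hM, hle⟩ := Ideal.exists_le_maximal mk hne
  refine Module.FaithfullyFlat.submodule_ne_top (R := C.obj k) (M := A.obj k) hM (top_le_iff.mp ?_)
  refine le_trans ?_ (Submodule.smul_mono_left hle)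
  rw [Ideal.smul_top_eq_map]
  intro z _
  suffices (1 : A.obj k) ∈ mk.map (φ.app k).hom by
    have h2 := Ideal.mul_mem_left _ z this
    rw [_root_.mul_one] at h2
    exact h2
  rw [map_sub, map_one, sub_eq_zero, map_sum] at hk
  rw [← hk]
  refine Ideal.sum_mem _ fun i _ => ?_
  rw [map_mul]
  refine Ideal.mul_mem_left _ _ ?_
  rw [← ConcreteCategory.comp_apply (φ.app j₂), ← φ.naturality, ConcreteCategory.comp_apply]
  refine Ideal.mem_map_of_mem _ ?_
  change colimit.ι C k (C.map g (C.map g₂ (c₁ i))) ∈ m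
  rw [← ConcreteCategory.comp_apply (C.map g), colimit.w, ← ConcreteCategory.comp_apply, colimit.w, hc₁]
  exact hcm i

end Groth.Agent.S5377
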