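import Groth.Statements.S5380
import Groth.Agent.FlatCrit.Tor

set_option autoImplicit false
universe u
open CategoryTheory CategoryTheory.Limits MonoidalCategory CartesianMonoidalCategory MonObj GrpObj AlgebraicGeometry
open SGA3

namespace Groth.Agent.S5380

/-- Let R be a discrete valuation ring with uniformizer π, A a flat commutative R-algebra and M an
A-module which is flat over R. Suppose that M/πM is a flat module over A/πA and that M ⊗_R K is a
flat module over A ⊗_R K, K the fraction field of R (equivalently, M[1/π] is flat over A[1/π], the
form used here). Then M is a flat A-module. -/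
theorem result (R : Type u) [CommRing R] [IsDomain R] [IsDiscreteValuationRing R]
    (π : R) (hπ : Irreducible π) (A : Type u) [CommRing A] [Algebra R A] [Module.Flat R A]
    (M : Type u) [AddCommGroup M] [Module A M] [Module R M] [IsScalarTower R A M] [Module.Flat R M]
    (h1 : Module.Flat (A ⧸ Ideal.span {algebraMap R A π}) (M ⧸ (Ideal.span {algebraMap R A π} • (⊤ : Submodule A M))))
    (h2 : Module.Flat (Localization.Away (algebraMap R A π)) (LocalizedModule (Submonoid.powers (algebraMap R A π)) M)) :
    Module.Flat A M := by
  have hR : π ∈ nonZeroDivisors R := mem_nonZeroDivisors_of_ne_zero hπ.ne_zero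
  have hreg : IsSMulRegular R π := fun a b h => mul_left_cancel₀ hπ.ne_zero h
  have hA : IsSMulRegular A (algebraMap R A π) := fun a b h => (hreg.of_flat (S := A)) h
  have hA' : algebraMap R A π ∈ nonZeroDivisors A := by
    rw [mem_nonZeroDivisors_iff_right]
    intro x hx
    exact hA (by simpa [smul_eq_mul, mul_comm] using hx)
  have hM : IsSMulRegular M (algebraMap R A π) := by
    have h := Module.Flat.rTensor_preserves_injective_linearMap (M := M) (LinearMap.lsmul R R π) hreg
    intro a b hab
    apply (TensorProduct.lid R M).symm.injective
    apply h
    simp only [TensorProduct.lid_symm_apply, LinearMap.rTensor_tmul, LinearMap.lsmul_apply,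
      TensorProduct.smul_tmul]
    exact congrArg ((1 : R) ⊗ₜ[R] ·) (by simpa [algebraMap_smul] using hab)
  haveI := h2
  haveI : Module.Flat A (LocalizedModule (Submonoid.powers (algebraMap R A π)) M) :=
    Module.Flat.trans A (Localization.Away (algebraMap R A π)) _
  refine _root_.Groth.Agent.FlatCrit.flat_of_away_of_quotient (algebraMap R A π) hA' hM
    (LocalizedModule.mkLinearMap (Submonoid.powers (algebraMap R A π)) M) inferInstance
    (_root_.Groth.Agent.FlatCrit.quotFlat_of_flat _ ?_)
  haveI := h1
  exact Module.Flat.of_linearEquiv
    ((TensorProduct.quotTensorEquivQuotSMul M (Ideal.span {algebraMap R A π})).extendScalarsOfSurjective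
      Ideal.Quotient.mk_surjective)

end Groth.Agent.S5380
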