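import Groth.Statements.S5381

set_option autoImplicit false
universe u
open CategoryTheory CategoryTheory.Limits MonoidalCategory CartesianMonoidalCategory MonObj GrpObj AlgebraicGeometry
open SGA3

namespace Groth.Agent.S5381

/-- For S the spectrum of a Dedekind domain R: let X be a scheme which is flat, quasi-compact and
quasi-separated over R. Then the ring of global sections Γ(X, O_X) is a flat R-module. (The
published remark takes S locally noetherian and regular of dimension 1 and also observes, when S is
local with closed point s and uniformizer π, that Γ(X, O_X)/πΓ(X, O_X) → Γ(X_s, O_{X_s}) is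
injective; this row takes S the spectrum of a Dedekind domain and omits the injectivity.) -/
theorem result (R : Type u) [CommRing R] [IsDedekindDomain R]
    (X : Scheme.{u}) (f : X ⟶ Spec (CommRingCat.of R)) [Flat f] [QuasiCompact f] [QuasiSeparated f] :
    letI := ((Scheme.ΓSpecIso (CommRingCat.of R)).inv ≫ f.appTop).hom.toAlgebra
    Module.Flat R Γ(X, ⊤) := by
  letI := ((Scheme.ΓSpecIso (CommRingCat.of R)).inv ≫ f.appTop).hom.toAlgebra
  suffices Module.IsTorsionFree R Γ(X, ⊤) from inferInstance
  refine ⟨fun r hr => ?_⟩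
  intro s t hst
  apply X.sheaf.eq_of_locally_eq' (fun U : X.affineOpens => U.1) ⊤ (fun U => homOfLE le_top)
    (iSup_affineOpens_eq_top X).ge
  intro U
  let ψ := (Scheme.ΓSpecIso (CommRingCat.of R)).inv ≫ f.appLE ⊤ U.1 (by simp)
  have hflat : ψ.hom.Flat :=
    RingHom.Flat.comp (RingHom.Flat.of_bijective
      (ConcreteCategory.bijective_of_isIso (Scheme.ΓSpecIso (CommRingCat.of R)).inv))
      (f.flat_appLE (isAffineOpen_top _) U.2 (by simp))
  algebraize [ψ.hom]
  have key : ∀ z : Γ(X, ⊤), X.presheaf.map (homOfLE (le_top : U.1 ≤ ⊤)).op (r • z) =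
      r • X.presheaf.map (homOfLE (le_top : U.1 ≤ ⊤)).op z := by
    intro z
    rw [Algebra.smul_def, Algebra.smul_def, map_mul]
    rfl
  have h := congrArg (X.presheaf.map (homOfLE (le_top : U.1 ≤ ⊤)).op) hst
  change X.presheaf.map (homOfLE (le_top : U.1 ≤ ⊤)).op (r • s) =
    X.presheaf.map (homOfLE (le_top : U.1 ≤ ⊤)).op (r • t) at h
  rw [key, key] at h
  have hreg : IsSMulRegular Γ(X, U.1) r := Module.IsTorsionFree.isSMulRegular hr
  exact hreg h

end Groth.Agent.S5381
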