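import Groth.Statements.S5384
import Groth.Agent.SGA3cLib.SubgroupClosed
import Mathlib.RingTheory.Artinian.Ring

set_option autoImplicit false
universe u
open CategoryTheory CategoryTheory.Limits MonoidalCategory CartesianMonoidalCategory MonObj GrpObj AlgebraicGeometry
open SGA3

namespace Groth.Agent.S5384

/-- Let A be a local artinian ring, G an A-group scheme and u : H → G a homomorphism of A-group schemes
which is an immersion (a subgroup scheme; no finiteness is assumed). Then u is a closed immersion. -/
theorem result (A : Type u) [CommRing A] [IsArtinianRing A] [IsLocalRing A] (G H : Over (Spec (CommRingCat.of A))) [GrpObj G] [GrpObj H]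
    (u : H ⟶ G) [IsMonHom u] [IsImmersion u.left] : IsClosedImmersion u.left := by
  refine IsClosedImmersion.of_isPreimmersion u.left ?_
  let κ := IsLocalRing.ResidueField A
  let i : Spec (CommRingCat.of κ) ⟶ Spec (CommRingCat.of A) := Spec.map (CommRingCat.ofHom (IsLocalRing.residue A))
  haveI : IsClosedImmersion i := IsClosedImmersion.spec_of_surjective _ IsLocalRing.residue_surjective
  haveI : Subsingleton ↥(Spec (CommRingCat.of A)) :=
    ⟨fun x y => PrimeSpectrum.ext (((IsLocalRing.eq_maximalIdeal (IsArtinianRing.isMaximal_of_isPrime x.asIdeal))).trans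
      (IsLocalRing.eq_maximalIdeal (IsArtinianRing.isMaximal_of_isPrime y.asIdeal)).symm)⟩
  haveI : Surjective i := ⟨fun t => ⟨IsLocalRing.closedPoint κ, Subsingleton.elim _ _⟩⟩
  let F := Over.pullback i
  have hpb : IsPullback (pullback.fst H.hom i) (F.map u).left u.left (pullback.fst G.hom i) := by
    refine IsPullback.of_bot ?_ ?_ (IsPullback.of_hasPullback G.hom i)
    · rw [show (F.map u).left ≫ pullback.snd G.hom i = pullback.snd H.hom i from pullback.lift_snd _ _ _,
        show u.left ≫ G.hom = H.hom from Over.w u]
      exact IsPullback.of_hasPullback H.hom i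
    · exact (pullback.lift_fst _ _ _).symm
  haveI : IsImmersion (F.map u).left := MorphismProperty.of_isPullback (P := @IsImmersion) hpb inferInstance
  have hcl := SGA3cLib.isClosed_range_of_isImmersion (k := κ) (G := Red.bc i G) (H := Red.bc i H) (F.map u)
  have e : Set.range u.left.base = (pullback.fst G.hom i).base '' Set.range (F.map u).left.base := by
    rw [← Set.range_comp]
    apply Set.Subset.antisymm
    · rintro _ ⟨x, rfl⟩
      obtain ⟨x', rfl⟩ := (pullback.fst H.hom i).surjective x
      refine ⟨x', ?_⟩
      change ((F.map u).left ≫ pullback.fst G.hom i).base x' = (pullback.fst H.hom i ≫ u.left).base x'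
      rw [hpb.w]
    · rintro _ ⟨x', rfl⟩
      refine ⟨(pullback.fst H.hom i).base x', ?_⟩
      change (pullback.fst H.hom i ≫ u.left).base x' = ((F.map u).left ≫ pullback.fst G.hom i).base x'
      rw [hpb.w]
  rw [e]
  exact (pullback.fst G.hom i).isClosedEmbedding.isClosedMap _ hcl

end Groth.Agent.S5384
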