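import Groth.Statements.S5386
import Groth.Agent.SGA3Homog26.SplitBase
import Groth.Agent.FlatMorSlice.Bridge
import Groth.Agent.S3029
import Mathlib.RingTheory.Flat.Stability

set_option autoImplicit false
set_option linter.style.haveILetI false
set_option backward.isDefEq.respectTransparency.types false
universe u
open CategoryTheory CategoryTheory.Limits MonoidalCategory CartesianMonoidalCategory MonObj GrpObj AlgebraicGeometry
open SGA3

namespace Groth.Agent.S5386
open TensorProduct

theorem isPullback_tensor (A B C : Type u) [CommRing A] [CommRing B] [CommRing C] [Algebra A B] [Algebra A C] :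
    IsPullback (Spec.map (CommRingCat.ofHom (Algebra.TensorProduct.includeLeftRingHom : B →+* B ⊗[A] C)))
      (Spec.map (CommRingCat.ofHom (Algebra.TensorProduct.includeRight : C →ₐ[A] B ⊗[A] C).toRingHom))
      (Spec.map (CommRingCat.ofHom (algebraMap A B))) (Spec.map (CommRingCat.ofHom (algebraMap A C))) := by
  refine IsPullback.of_iso_pullback ⟨?_⟩ (pullbackSpecIso A B C).symm
    (pullbackSpecIso_inv_fst A B C) (pullbackSpecIso_inv_snd A B C)
  rw [← Spec.map_comp, ← Spec.map_comp]
  congr 1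
  ext c
  exact ((Algebra.TensorProduct.includeLeft : B →ₐ[A] B ⊗[A] C).commutes c).trans
    ((Algebra.TensorProduct.includeRight : C →ₐ[A] B ⊗[A] C).commutes c).symm

theorem cm_fibre {S : Scheme.{u}} (G : Over S) [GrpObj G] [LocallyOfFiniteType G.hom] (k : Type u) [Field k]
    (sk : Spec (CommRingCat.of k) ⟶ S) (z : ↥(pullback G.hom sk)) :
    LocCoh.IsCohenMacaulayLocalRing ((pullback G.hom sk).presheaf.stalk z) := by
  letI : GrpObj ((Over.pullback sk).obj G) := Functor.grpObjObj
  haveI : LocallyOfFiniteType ((Over.pullback sk).obj G).hom :=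
    inferInstanceAs (LocallyOfFiniteType (pullback.snd G.hom sk))
  exact S3029.result k ((Over.pullback sk).obj G) z

/-- Let A be a local artinian ring, G an A-group scheme which is flat and locally of finite type over A,
and x a closed point of G. Then there is a local A-algebra A', finite and free as an A-module, such
that every point of G ⊗_A A' lying over x is strictly rational over A': it is the image of the
closed point under some section Spec A' → G ⊗_A A' of the projection. -/
theorem result (A : Type u) [CommRing A] [IsArtinianRing A] [IsLocalRing A] (G : Over (Spec (CommRingCat.of A))) [GrpObj G] [Flat G.hom]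
    [LocallyOfFiniteType G.hom] (x : G.left) (hx : IsClosed ({x} : Set G.left)) :
    ∃ (A' : Type u) (_ : CommRing A') (_ : IsLocalRing A') (_ : Algebra A A') (_ : Module.Finite A A') (_ : Module.Free A A'),
      ∀ x' : ↥(pullback G.hom (Spec.map (CommRingCat.ofHom (algebraMap A A')))),
        (pullback.fst G.hom (Spec.map (CommRingCat.ofHom (algebraMap A A')))).base x' = x →
        ∃ s : Spec (CommRingCat.of A') ⟶ pullback G.hom (Spec.map (CommRingCat.ofHom (algebraMap A A'))),
          s ≫ pullback.snd G.hom (Spec.map (CommRingCat.ofHom (algebraMap A A'))) = 𝟙 _ ∧ x' ∈ Set.range s.base := by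
  obtain ⟨U, hU, hxU, -⟩ := exists_isAffineOpen_mem_and_subset (X := G.left) (x := x) (U := ⊤) trivial
  have hV : IsAffineOpen (⊤ : (Spec (CommRingCat.of A)).Opens) := isAffineOpen_top _
  have e : U ≤ G.hom ⁻¹ᵁ ⊤ := le_top
  let σ : A →+* Γ(Spec (CommRingCat.of A), ⊤) := (Scheme.ΓSpecIso (CommRingCat.of A)).inv.hom
  have hσ : Function.Bijective σ := ConcreteCategory.bijective_of_isIso (Scheme.ΓSpecIso (CommRingCat.of A)).inv
  let φ : CommRingCat.of A ⟶ Γ(G.left, U) := (Scheme.ΓSpecIso (CommRingCat.of A)).inv ≫ G.hom.appLE ⊤ U e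
  have hφ : Spec.map φ = hU.fromSpec ≫ G.hom := by
    rw [Spec.map_comp, ← IsAffineOpen.SpecMap_appLE_fromSpec G.hom hV hU e]
    congr 1
    rw [IsAffineOpen.fromSpec_top, Scheme.isoSpec_Spec_inv]
  letI : Algebra Γ(Spec (CommRingCat.of A), ⊤) Γ(G.left, U) := (G.hom.appLE ⊤ U e).hom.toAlgebra
  letI : Algebra A Γ(Spec (CommRingCat.of A), ⊤) := σ.toAlgebra
  letI : Algebra A Γ(G.left, U) := φ.hom.toAlgebra
  haveI : IsScalarTower A Γ(Spec (CommRingCat.of A), ⊤) Γ(G.left, U) := .of_algebraMap_eq' rfl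
  haveI : Module.Finite A Γ(Spec (CommRingCat.of A), ⊤) := RingHom.Finite.of_surjective σ hσ.2
  haveI : Module.Flat A Γ(Spec (CommRingCat.of A), ⊤) := RingHom.Flat.of_bijective hσ
  -- finite presentation of the chart
  haveI : Algebra.FinitePresentation A Γ(G.left, U) := by
    have h1 : (G.hom.appLE ⊤ U e).hom.FiniteType :=
      HasRingHomProperty.appLE @LocallyOfFiniteType G.hom inferInstance ⟨⊤, hV⟩ ⟨U, hU⟩ e
    have h2 : Algebra.FiniteType A Γ(G.left, U) := RingHom.FiniteType.comp h1 (RingHom.FiniteType.of_surjective σ hσ.2)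
    exact Algebra.FinitePresentation.of_finiteType.1 h2
  let q := (hU.primeIdealOf ⟨x, hxU⟩).asIdeal
  haveI : q.IsMaximal := by
    rw [← PrimeSpectrum.isClosed_singleton_iff_isMaximal]
    have h1 : hU.fromSpec ⁻¹' {x} = {hU.primeIdealOf ⟨x, hxU⟩} := by
      ext p
      simp only [Set.mem_preimage, Set.mem_singleton_iff]
      constructor
      · intro hp
        exact hU.fromSpec.isOpenEmbedding.injective (hp.trans (hU.fromSpec_primeIdealOf ⟨x, hxU⟩).symm)
      · rintro rfl
        exact hU.fromSpec_primeIdealOf ⟨x, hxU⟩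
    exact h1 ▸ hx.preimage hU.fromSpec.continuous
  -- the Cohen–Macaulay fibre
  haveI hCM : LocCoh.IsCohenMacaulayLocalRing ((G.hom.fiber (G.hom x)).presheaf.stalk (G.hom.asFiber x)) :=
    cm_fibre G ((Spec (CommRingCat.of A)).residueField (G.hom x)) ((Spec (CommRingCat.of A)).fromSpecResidueField (G.hom x)) _
  obtain ⟨ψ, hψ⟩ := FlatMorSlice.exists_fibPres G.hom hV hU e hxU
  have hq : Module.Flat Γ(Spec (CommRingCat.of A), ⊤) (LocalizedModule q.primeCompl Γ(G.left, U)) :=
    FlatMorSlice.flat_localized_of_stalkMap G.hom hV hU e hxU (Flat.stalkMap G.hom x)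
  have hqA : Module.Flat A (LocalizedModule q.primeCompl Γ(G.left, U)) :=
    Module.Flat.trans A Γ(Spec (CommRingCat.of A), ⊤) _
  have hψA : FlatMorSlice.FibPres A q ψ := by
    have h1 : (q.comap (algebraMap A Γ(G.left, U))).map (algebraMap A Γ(G.left, U)) =
        (q.comap (algebraMap Γ(Spec (CommRingCat.of A), ⊤) Γ(G.left, U))).map
          (algebraMap Γ(Spec (CommRingCat.of A), ⊤) Γ(G.left, U)) := by
      rw [IsScalarTower.algebraMap_eq A Γ(Spec (CommRingCat.of A), ⊤) Γ(G.left, U), ← Ideal.comap_comap,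
        ← Ideal.map_map, Ideal.map_comap_of_surjective (algebraMap A Γ(Spec (CommRingCat.of A), ⊤)) hσ.2]
    exact ⟨hψ.unit, hψ.surj, h1 ▸ hψ.ker, h1 ▸ hψ.le_ker⟩
  obtain ⟨A', _, _, _, _, _, hA'⟩ := SGA3Homog26.exists_split_base q hqA hψA
  refine ⟨A', inferInstance, inferInstance, inferInstance, inferInstance, inferInstance, fun x' hx' => ?_⟩
  let sA : Spec (CommRingCat.of A') ⟶ Spec (CommRingCat.of A) := Spec.map (CommRingCat.ofHom (algebraMap A A'))
  let iL : CommRingCat.of Γ(G.left, U) ⟶ CommRingCat.of (Γ(G.left, U) ⊗[A] A') :=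
    CommRingCat.ofHom (Algebra.TensorProduct.includeLeftRingHom : Γ(G.left, U) →+* Γ(G.left, U) ⊗[A] A')
  let iR : CommRingCat.of A' ⟶ CommRingCat.of (Γ(G.left, U) ⊗[A] A') :=
    CommRingCat.ofHom (Algebra.TensorProduct.includeRight : A' →ₐ[A] Γ(G.left, U) ⊗[A] A').toRingHom
  have sqt : IsPullback (Spec.map iL) (Spec.map iR) (hU.fromSpec ≫ G.hom) sA := by
    rw [← hφ]
    exact isPullback_tensor A Γ(G.left, U) A'
  have w : (Spec.map iL ≫ hU.fromSpec) ≫ G.hom = Spec.map iR ≫ sA := (Category.assoc _ _ _).trans sqt.w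
  let j : Spec (CommRingCat.of (Γ(G.left, U) ⊗[A] A')) ⟶ pullback G.hom sA := pullback.lift _ _ w
  have sqj : IsPullback (Spec.map iL) j hU.fromSpec (pullback.fst G.hom sA) := by
    refine IsPullback.of_bot ?_ (pullback.lift_fst _ _ w).symm (IsPullback.of_hasPullback _ _)
    rwa [pullback.lift_snd]
  obtain ⟨Q, hQ1, hQ2⟩ := Scheme.exists_preimage_of_isPullback sqj (hU.primeIdealOf ⟨x, hxU⟩) x'
    ((hU.fromSpec_primeIdealOf ⟨x, hxU⟩).trans hx'.symm)
  obtain ⟨g, hg⟩ := hA' Q.asIdeal inferInstance (congrArg PrimeSpectrum.asIdeal hQ1)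
  refine ⟨Spec.map (CommRingCat.ofHom (Algebra.TensorProduct.productMap g (AlgHom.id A A')).toRingHom) ≫ j, ?_,
    IsLocalRing.closedPoint A', ?_⟩
  · rw [Category.assoc, pullback.lift_snd, ← Spec.map_comp, ← Spec.map_id]
    congr 1
    ext c
    exact (Algebra.TensorProduct.productMap_right_apply g (AlgHom.id A A') c)
  · rw [← hQ2, Scheme.Hom.comp_apply]
    congr 1
    exact PrimeSpectrum.ext hg

end Groth.Agent.S5386
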