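import Groth.Statements.S5387
import Mathlib.AlgebraicGeometry.AlgClosed.Basic
import Mathlib.AlgebraicGeometry.Group.Smooth

set_option autoImplicit false
universe u
open CategoryTheory CategoryTheory.Limits MonoidalCategory CartesianMonoidalCategory MonObj GrpObj AlgebraicGeometry
open SGA3

namespace Groth.Agent.S5387

/-- Let k be an algebraically closed field, G a group scheme locally of finite type over k and x a
closed point of G. Then the local ring of G at x is isomorphic to the local ring of G at the unit
point (an isomorphism is induced by a translation; this row asserts the existence of an isomorphism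
of rings). -/
theorem result (k : Type u) [Field k] [IsAlgClosed k] (G : Over (Spec (CommRingCat.of k))) [GrpObj G]
    [LocallyOfFiniteType G.hom] (pt : ↥(𝟙_ (Over (Spec (CommRingCat.of k)))).left) (x : G.left) (hx : IsClosed ({x} : Set G.left)) :
    Nonempty (G.left.presheaf.stalk (η[G].left.base pt) ≅ G.left.presheaf.stalk x) := by
  let x' : 𝟙_ (Over (Spec (CommRingCat.of k))) ⟶ G :=
    Over.homMk (pointOfClosedPoint G.hom x hx) (pointOfClosedPoint_comp G.hom x hx)
  let α := GrpObj.mulRight (A := G) x'
  have hα : η[G] ≫ α.hom = x' := by
    simp [α, comp_lift_assoc]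
    rw [show η[G] = (1 : 𝟙_ (Over (Spec (CommRingCat.of k))) ⟶ G) by simp [Hom.one_def]]
    exact one_mul x'
  have hx2 : α.hom.left.base (η[G].left.base pt) = x := by
    change (η[G] ≫ α.hom).left.base pt = x
    rw [hα]
    exact pointOfClosedPoint_apply G.hom x hx pt
  haveI : IsIso α.hom.left := (Over.forget _).map_isIso α.hom
  rw [← hx2]
  exact ⟨(asIso (α.hom.left.stalkMap (η[G].left.base pt))).symm⟩

end Groth.Agent.S5387
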