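import Groth.Statements.S5388
import Groth.Agent.AbVarLib.PerfectReduced
import Mathlib.AlgebraicGeometry.Group.Smooth
import Groth.Agent.SGA3xLib.ReducedSpread
-- import your own Groth.Agent.* helpers here

set_option autoImplicit false
set_option linter.style.haveILetI false
universe u
open CategoryTheory CategoryTheory.Limits MonoidalCategory CartesianMonoidalCategory MonObj GrpObj AlgebraicGeometry
open SGA3

namespace Groth.Agent.S5388

set_option backward.isDefEq.respectTransparency.types false

open scoped TensorProduct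

theorem smooth_of_nonempty {Ω : Type u} [Field Ω] [IsAlgClosed Ω] {X : Scheme.{u}} (f : X ⟶ Spec (CommRingCat.of Ω))
    [LocallyOfFiniteType f] [GrpObj (Over.mk f)] (h : (f.smoothLocus : Set X).Nonempty) : Smooth f := by
  have := LocallyOfFiniteType.jacobsonSpace f
  rw [← Scheme.Hom.smoothLocus_eq_top_iff, ← TopologicalSpace.Opens.coe_eq_univ,
    ← not_ne_iff, ← Set.nonempty_compl]
  intro H
  obtain ⟨x, hx, hxc⟩ :=
    nonempty_inter_closedPoints H f.smoothLocus.2.isClosed_compl.isLocallyClosed
  obtain ⟨y, hy : y ∈ f.smoothLocus, hyc⟩ := nonempty_inter_closedPoints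
    h f.smoothLocus.2.isLocallyClosed
  let x' : 𝟙_ _ ⟶ Over.mk f := Over.homMk _ ((pointEquivClosedPoint f).symm ⟨x, hxc⟩).2
  let y' : 𝟙_ _ ⟶ Over.mk f := Over.homMk _ ((pointEquivClosedPoint f).symm ⟨y, hyc⟩).2
  let α := (GrpObj.mulRight (A := Over.mk f) x').symm ≪≫ (GrpObj.mulRight (A := Over.mk f) y')
  have hα : x' ≫ α.hom = y' := by
    dsimp only [Iso.trans_hom, Iso.symm_hom, α]
    rw [← Category.assoc, ← Iso.eq_comp_inv]
    simp [comp_lift_assoc]
  have hα' : α.hom.left x = y := by
    simpa [x', y', pointEquivClosedPoint] using congr(($hα).left (IsLocalRing.closedPoint Ω))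
  rw! [← hα', ← α.hom.left.mem_preimage, Scheme.Hom.preimage_smoothLocus_eq,
    show α.hom.left ≫ f = f from α.hom.w] at hy
  exact hx hy

theorem main (k : Type u) [Field k] (G : Over (Spec (CommRingCat.of k))) [GrpObj G]
    [LocallyOfFiniteType G.hom] (x : G.left) (K : Type u) [Field K] [Algebra k K] [PerfectField K]
    (φ : Algebra k (G.left.presheaf.stalk x))
    (hφ : φ.algebraMap = ((Scheme.ΓSpecIso (CommRingCat.of k)).inv ≫ G.hom.appTop ≫ G.left.presheaf.germ ⊤ x trivial).hom)
    (hred : _root_.IsReduced (TensorProduct k K (G.left.presheaf.stalk x))) : Smooth G.hom := by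
  letI := φ
  obtain ⟨_, ⟨U, hU, rfl⟩, hxU, -⟩ :=
    G.left.isBasis_affineOpens.exists_subset_of_mem_open (Set.mem_univ x) isOpen_univ
  let a : CommRingCat.of k ⟶ Γ(G.left, U) := (Scheme.ΓSpecIso (CommRingCat.of k)).inv ≫ G.hom.appLE ⊤ U (by simp)
  letI : Algebra k Γ(G.left, U) := a.hom.toAlgebra
  letI := G.left.presheaf.algebra_section_stalk ⟨x, hxU⟩
  haveI : IsScalarTower k Γ(G.left, U) (G.left.presheaf.stalk x) := .of_algebraMap_eq fun r => by
    refine (RingHom.congr_fun hφ r).trans ?_
    show _ = (a ≫ G.left.presheaf.germ U x hxU).hom r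
    congr 2
    simp [a, Scheme.Hom.appLE]
  haveI := hU.isLocalization_stalk ⟨x, hxU⟩
  have hs : Spec.map a = hU.fromSpec ≫ G.hom := by
    rw [← IsAffineOpen.SpecMap_appLE_fromSpec G.hom (isAffineOpen_top _) hU (by simp), Spec.map_comp]
    congr 1
    simp [IsAffineOpen.fromSpec_top, Scheme.isoSpec_Spec_inv]
  haveI : Algebra.FiniteType k Γ(G.left, U) := by
    have h : LocallyOfFiniteType (Spec.map a) := by rw [hs]; infer_instance
    exact (HasRingHomProperty.Spec_iff (P := @LocallyOfFiniteType)).mp h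
  let Ω := AlgebraicClosure k
  let Kb := AlgebraicClosure K
  haveI : IsReduced (Spec (CommRingCat.of K)) := inferInstance
  have hΩ : _root_.IsReduced (Ω ⊗[k] G.left.presheaf.stalk x) := by
    haveI := hred
    haveI := AbVarLib.isReduced_field_tensor_perfect K Kb (K ⊗[k] G.left.presheaf.stalk x)
    haveI : _root_.IsReduced (Kb ⊗[k] G.left.presheaf.stalk x) :=
      isReduced_of_injective (Algebra.TensorProduct.cancelBaseChange k K K Kb (G.left.presheaf.stalk x)).symm.toRingEquiv
        (Algebra.TensorProduct.cancelBaseChange k K K Kb (G.left.presheaf.stalk x)).symm.injective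
    exact isReduced_of_injective
      (Algebra.TensorProduct.map (IsAlgClosed.lift : Ω →ₐ[k] Kb) (AlgHom.id k (G.left.presheaf.stalk x)))
      (Module.Flat.rTensor_preserves_injective_linearMap _ (IsAlgClosed.lift : Ω →ₐ[k] Kb).toRingHom.injective)
  obtain ⟨s, hsp, hA⟩ := SGA3xLib.ReducedSpread.exists_nhd Ω (G.left.presheaf.stalk x) (hU.primeIdealOf ⟨x, hxU⟩).asIdeal hΩ
  let A' := Localization.Away s
  let iV : Spec (CommRingCat.of A') ⟶ G.left :=
    Spec.map (CommRingCat.ofHom (algebraMap Γ(G.left, U) A')) ≫ hU.fromSpec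
  haveI : IsOpenImmersion (Spec.map (CommRingCat.ofHom (algebraMap Γ(G.left, U) A'))) :=
    IsOpenImmersion.of_isLocalization s
  have hiV : iV ≫ G.hom = Spec.map (CommRingCat.ofHom (algebraMap k A')) := by
    rw [Category.assoc, ← hs, ← Spec.map_comp]
    rfl
  let g : Spec (CommRingCat.of Ω) ⟶ Spec (CommRingCat.of k) := Spec.map (CommRingCat.ofHom (algebraMap k Ω))
  let jV := pullback.map (iV ≫ G.hom) g G.hom g iV (𝟙 _) (𝟙 _) (by simp) (by simp)
  haveI : IsOpenImmersion jV := inferInstance
  haveI : IsReduced (pullback (iV ≫ G.hom) g) := by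
    let e : pullback (iV ≫ G.hom) g ≅ Spec (CommRingCat.of (Ω ⊗[k] A')) :=
      pullback.congrHom hiV rfl ≪≫ pullbackSymmetry _ _ ≪≫ pullbackSpecIso k Ω A'
    haveI : _root_.IsReduced (CommRingCat.of (Ω ⊗[k] A')) := hA
    exact isReduced_of_isOpenImmersion e.hom
  let f' := pullback.snd G.hom g
  letI : GrpObj (Over.mk G.hom) := ‹GrpObj G›
  letI : GrpObj (Over.mk f') := Over.grpObjMkPullbackSnd
  have hne : Nonempty ↥(pullback (iV ≫ G.hom) g) := by
    haveI : Nonempty ↥(Spec (CommRingCat.of A')) := by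
      have hd : Disjoint (Submonoid.powers s : Set Γ(G.left, U)) (hU.primeIdealOf ⟨x, hxU⟩).asIdeal := by
        rw [Set.disjoint_left]
        rintro _ ⟨n, rfl⟩ hn
        exact hsp ((hU.primeIdealOf ⟨x, hxU⟩).2.mem_of_pow_mem n hn)
      exact ⟨⟨_, IsLocalization.isPrime_of_isPrime_disjoint (Submonoid.powers s) A' _ (hU.primeIdealOf ⟨x, hxU⟩).2 hd⟩⟩
    obtain ⟨z⟩ := ‹Nonempty ↥(Spec (CommRingCat.of A'))›
    obtain ⟨w, -⟩ := Scheme.Pullback.exists_preimage_pullback (f := iV ≫ G.hom) (g := g) z
      (default : PrimeSpectrum Ω) (Subsingleton.elim (α := PrimeSpectrum k) _ _)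
    exact ⟨w⟩
  have hsm : (f'.smoothLocus : Set ↥(pullback G.hom g)).Nonempty := by
    haveI : LocallyOfFinitePresentation (jV ≫ f') := inferInstance
    obtain ⟨w, hw⟩ := (jV ≫ f').dense_smoothLocus_of_perfectField.nonempty
    exact ⟨jV w, by rw [← Scheme.Hom.preimage_smoothLocus_eq] at hw; exact hw⟩
  haveI : Smooth f' := smooth_of_nonempty f' hsm
  apply MorphismProperty.of_pullback_snd_of_descendsAlong
    (Q := @Surjective ⊓ @Flat ⊓ @QuasiCompact) (g := g)
  · exact ⟨⟨inferInstance, inferInstance⟩, inferInstance⟩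
  · infer_instance

/-- Let G be a group scheme locally of finite type over a field k, e its unit point and K a perfect
extension field of k. If K ⊗_k O_{G,e} is a reduced ring, then G is smooth over k. (The published
statement is for a group flat and locally of finite type over a local artinian ring, with K the
perfect closure of the residue field; this row is the case of a base field, with K any perfect
extension.) -/
theorem result (k : Type u) [Field k] (G : Over (Spec (CommRingCat.of k))) [GrpObj G]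
    [LocallyOfFiniteType G.hom] (pt : ↥(𝟙_ (Over (Spec (CommRingCat.of k)))).left) (K : Type u) [Field K] [Algebra k K] [PerfectField K] :
    letI := ((Scheme.ΓSpecIso (CommRingCat.of k)).inv ≫ G.hom.appTop ≫ G.left.presheaf.germ ⊤ (η[G].left.base pt) trivial).hom.toAlgebra
    IsReduced (TensorProduct k K (G.left.presheaf.stalk (η[G].left.base pt))) → Smooth G.hom := by
  intro h
  letI := ((Scheme.ΓSpecIso (CommRingCat.of k)).inv ≫ G.hom.appTop ≫ G.left.presheaf.germ ⊤ (η[G].left.base pt) trivial).hom.toAlgebra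
  exact main k G (η[G].left.base pt) K _ rfl h

end Groth.Agent.S5388
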