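import Groth.Statements.S5390

set_option autoImplicit false
universe u
open CategoryTheory CategoryTheory.Limits MonoidalCategory CartesianMonoidalCategory MonObj GrpObj AlgebraicGeometry
open SGA3

namespace Groth.Agent.S5390

/-- Let P be a property of morphisms of schemes which is local on the target for the fpqc topology
(stable under base change, Zariski-local on the target, descending along flat surjective
quasi-compact morphisms). Let f : X → Y be a morphism, g : Y' → Y a flat morphism whose underlying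
map is open, and f' : X ×_Y Y' → Y' the base change. If W is the largest open of Y over which f has
P and W₁' the largest open of Y' over which f' has P, then W₁' = g⁻¹(W). -/
theorem result (P : MorphismProperty Scheme.{u}) [P.IsStableUnderBaseChange] [IsZariskiLocalAtTarget P]
    [P.DescendsAlong (@Flat ⊓ @Surjective ⊓ @QuasiCompact)]
    (X Y Y' : Scheme.{u}) (f : X ⟶ Y) (g : Y' ⟶ Y) [Flat g] (hg : IsOpenMap g.base)
    (W : Y.Opens) (hW : P (f ∣_ W)) (hmax : ∀ W₀ : Y.Opens, P (f ∣_ W₀) → W₀ ≤ W)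
    (W₁ : Y'.Opens) (hW₁ : P (pullback.snd f g ∣_ W₁)) (hmax₁ : ∀ W₀ : Y'.Opens, P (pullback.snd f g ∣_ W₀) → W₀ ≤ W₁) :
    W₁ = g ⁻¹ᵁ W := by
  have hbc : P (pullback.snd f g ∣_ (g ⁻¹ᵁ W)) := by
    have h2 := (isPullback_morphismRestrict (pullback.snd f g) (g ⁻¹ᵁ W)).paste_vert
      (IsPullback.of_hasPullback f g).flip
    have h3 := isPullback_morphismRestrict f W
    have e : g ⁻¹ᵁ W ≤ g ⁻¹ᵁ W := le_rfl
    have hle : pullback.snd f g ⁻¹ᵁ (g ⁻¹ᵁ W) ≤ pullback.fst f g ⁻¹ᵁ (f ⁻¹ᵁ W) := by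
      rw [← Scheme.Hom.comp_preimage, ← Scheme.Hom.comp_preimage, pullback.condition]
    refine P.of_isPullback (f := g.resLE W _ e)
      (f' := (pullback.fst f g).resLE (f ⁻¹ᵁ W) _ hle) (g := f ∣_ W) ?_ hW
    refine (IsPullback.of_bot ?_ ?_ h3).flip
    · simpa [Scheme.Hom.resLE_comp_ι] using h2
    · simp [← cancel_mono W.ι, morphismRestrict_ι_assoc, Scheme.Hom.resLE_comp_ι_assoc, pullback.condition]
  refine le_antisymm ?_ (hmax₁ _ hbc)
  intro x hx
  obtain ⟨V, hV, hxV, hVW⟩ := exists_isAffineOpen_mem_and_subset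
    (U := (⟨g.base '' (W₁ : Set Y'), hg _ W₁.isOpen⟩ : Y.Opens)) (x := g x) ⟨x, hx, rfl⟩
  apply hmax V ?_ hxV
  have hA : ∀ a : {a : Y' // a ∈ W₁ ∧ g a ∈ V}, ∃ A : Y'.Opens, IsAffineOpen A ∧ a.1 ∈ A ∧ A ≤ W₁ ⊓ g ⁻¹ᵁ V :=
    fun a => exists_isAffineOpen_mem_and_subset (U := W₁ ⊓ g ⁻¹ᵁ V) a.2
  choose A hA hmem hle using hA
  obtain ⟨t, ht⟩ := hV.isCompact.elim_finite_subcover (fun a => g.base '' (A a : Set Y'))
    (fun a => hg _ (A a).isOpen) (fun y hy => by
      obtain ⟨z, hz, rfl⟩ := hVW hy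
      exact Set.mem_iUnion.2 ⟨⟨z, hz, hy⟩, z, hmem _, rfl⟩)
  let U : Y'.Opens := ⨆ a ∈ t, A a
  have hU₁ : U ≤ W₁ := iSup₂_le fun a _ => (hle a).trans inf_le_left
  have hUV : U ≤ g ⁻¹ᵁ V := iSup₂_le fun a _ => (hle a).trans inf_le_right
  have hUc : IsCompact (U : Set Y') := by
    simp only [U, TopologicalSpace.Opens.coe_iSup]
    exact t.finite_toSet.isCompact_biUnion fun a _ => (hA a).isCompact
  let q := g.resLE V U hUV
  have hq : (@Flat ⊓ @Surjective ⊓ @QuasiCompact : MorphismProperty Scheme.{u}) q := by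
    have hFlat : Flat (g ∣_ V) :=
      MorphismProperty.of_isPullback (P := @Flat) (isPullback_morphismRestrict g V).flip ‹_›
    have : IsAffine V.toScheme := hV
    have : CompactSpace U.toScheme := isCompact_iff_compactSpace.1 hUc
    refine ⟨⟨?_, ⟨?_⟩⟩, HasAffineProperty.iff_of_isAffine.mpr ‹_›⟩
    · exact MorphismProperty.comp_mem @Flat _ _ (inferInstance : Flat (Y'.homOfLE hUV)) hFlat
    · intro y
      obtain ⟨a, ha, hat, z, hz, hzy⟩ := by simpa using ht y.2
      refine ⟨⟨z, ?_⟩, ?_⟩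
      · exact TopologicalSpace.Opens.mem_iSup.2 ⟨⟨a, ha⟩, TopologicalSpace.Opens.mem_iSup.2 ⟨hat, hz⟩⟩
      · apply V.ι.isOpenEmbedding.injective
        rw [← Scheme.Hom.comp_apply, Scheme.Hom.resLE_comp_ι]
        exact hzy
  have hPU : P (pullback.snd f g ∣_ U) := by
    refine P.of_isPullback (f := Y'.homOfLE hU₁)
      (f' := (pullback f g).homOfLE fun a ha => hU₁ ha) (g := pullback.snd f g ∣_ W₁) ?_ hW₁
    refine (IsPullback.of_bot (t := isPullback_morphismRestrict (pullback.snd f g) W₁) ?_ ?_).flip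
    · simpa using isPullback_morphismRestrict (pullback.snd f g) U
    · simp [← cancel_mono W₁.ι]
  have hle' : pullback.snd f g ⁻¹ᵁ U ≤ pullback.fst f g ⁻¹ᵁ (f ⁻¹ᵁ V) := by
    rw [← Scheme.Hom.comp_preimage, pullback.condition, Scheme.Hom.comp_preimage]
    exact fun a ha => hUV ha
  refine P.of_isPullback_of_descendsAlong (fst := pullback.snd f g ∣_ U)
    (snd := (pullback.fst f g).resLE (f ⁻¹ᵁ V) _ hle') (f := q) (g := f ∣_ V) ?_ hq hPU
  refine IsPullback.of_bot (t := isPullback_morphismRestrict f V) ?_ ?_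
  · have h2 := (isPullback_morphismRestrict (pullback.snd f g) U).paste_vert
      (IsPullback.of_hasPullback f g).flip
    simpa [q, Scheme.Hom.resLE_comp_ι] using h2
  · simp [q, ← cancel_mono V.ι, pullback.condition]

end Groth.Agent.S5390
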