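import Groth.Statements.S5389
import Groth.Agent.S5390

set_option autoImplicit false
universe u
open CategoryTheory CategoryTheory.Limits MonoidalCategory CartesianMonoidalCategory MonObj GrpObj AlgebraicGeometry
open SGA3

namespace Groth.Agent.S5389


theorem isPullback_whisker {S : Scheme.{u}} {A B : Over S} (p : A ⟶ B) (C : Over S) :
    IsPullback (snd C A) (C ◁ p) p (snd C B) := by
  refine ⟨⟨by simp⟩, ⟨Limits.PullbackCone.IsLimit.mk (by simp) (fun c => lift (c.snd ≫ fst C B) c.fst)
    (fun c => by simp) (fun c => ?_) (fun c s h1 h2 => ?_)⟩⟩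
  · apply CartesianMonoidalCategory.hom_ext <;> simp [c.condition]
  · apply CartesianMonoidalCategory.hom_ext
    · rw [← h2]; simp
    · rw [← h1]; simp

/-- The largest open of a base change along a flat open map is the preimage. -/
theorem max_eq (P : MorphismProperty Scheme.{u}) [P.IsStableUnderBaseChange] [IsZariskiLocalAtTarget P]
    [P.DescendsAlong (@Flat ⊓ @Surjective ⊓ @QuasiCompact)]
    {X Y X' Y' : Scheme.{u}} {fst : X' ⟶ X} {f' : X' ⟶ Y'} {f : X ⟶ Y} {g : Y' ⟶ Y}
    (h : IsPullback fst f' f g) [Flat g] (hg : IsOpenMap g.base)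
    (W : Y.Opens) (hW : P (f ∣_ W)) (hmax : ∀ W₀ : Y.Opens, P (f ∣_ W₀) → W₀ ≤ W) :
    P (f' ∣_ (g ⁻¹ᵁ W)) ∧ ∀ W₀ : Y'.Opens, P (f' ∣_ W₀) → W₀ ≤ g ⁻¹ᵁ W := by
  have key : ∀ U : Y'.Opens, P (f' ∣_ U) ↔ P (pullback.snd f g ∣_ U) := fun U => by
    have e : f' = h.isoPullback.hom ≫ pullback.snd f g := (h.isoPullback_hom_snd).symm
    rw [e, morphismRestrict_comp]
    have hi : IsIso (h.isoPullback.hom ∣_ pullback.snd f g ⁻¹ᵁ U) :=
      IsZariskiLocalAtTarget.restrict (P := MorphismProperty.isomorphisms Scheme.{u}) (inferInstanceAs (IsIso h.isoPullback.hom)) _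
    exact ⟨fun hh => by
      simpa using MorphismProperty.RespectsIso.precomp P (@CategoryTheory.inv _ _ _ _ _ hi) _ hh,
      fun hh => @MorphismProperty.RespectsIso.precomp _ _ P _ _ _ _ _ hi _ hh⟩
  let W₁ : Y'.Opens := sSup {U | P (pullback.snd f g ∣_ U)}
  have hW₁ : P (pullback.snd f g ∣_ W₁) := by
    refine IsZariskiLocalAtTarget.of_forall_exists_morphismRestrict fun x => ?_
    obtain ⟨U, hU, hxU⟩ := TopologicalSpace.Opens.mem_sSup.1 x.2
    refine ⟨W₁.ι ⁻¹ᵁ U, hxU, ?_⟩
    rw [P.arrow_mk_iso_iff (morphismRestrictRestrict _ _ _),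
      P.arrow_mk_iso_iff (morphismRestrictEq _ (V := U) ?_)]
    · exact hU
    · rw [Scheme.Hom.image_preimage_eq_opensRange_inf, Scheme.Opens.opensRange_ι]
      exact inf_eq_right.2 (le_sSup hU)
  have := S5390.result P X Y Y' f g hg W hW hmax W₁ hW₁ fun U hU => le_sSup hU
  rw [key, ← this]
  exact ⟨hW₁, fun U hU => le_sSup ((key U).1 hU)⟩

/-- Let P be a property of morphisms of schemes which is local on the target for the fpqc topology
(stable under base change, Zariski-local on the target, and descending along flat surjective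
quasi-compact morphisms). Let u : G → H be a homomorphism of S-group schemes with G flat and
universally open over S, W the largest open subscheme of H over which the restriction of u has P,
and V = u⁻¹(W). Then the image U of V in S is open and V is an open subgroup scheme of G over U: V
contains the unit point of every fibre of G that it meets, V is stable under the inversion of G, and
the product of a point of G ×_S G whose two projections lie in V lies in V. -/
theorem result (P : MorphismProperty Scheme.{u}) [P.IsStableUnderBaseChange] [IsZariskiLocalAtTarget P]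
    [P.DescendsAlong (@Flat ⊓ @Surjective ⊓ @QuasiCompact)]
    (S : Scheme.{u}) (G H : Over S) [GrpObj G] [GrpObj H] (u : G ⟶ H) [IsMonHom u] [Flat G.hom] [UniversallyOpen G.hom]
    (W : H.left.Opens) (hW : P (u.left ∣_ W)) (hmax : ∀ W' : H.left.Opens, P (u.left ∣_ W') → W' ≤ W) :
    letI V : G.left.Opens := u.left ⁻¹ᵁ W
    IsOpen (G.hom.base '' (V : Set G.left)) ∧
    (∀ g ∈ V, ∀ p : ↥(𝟙_ (Over S)).left, (𝟙_ (Over S)).hom.base p = G.hom.base g → η[G].left.base p ∈ V) ∧
    (∀ g ∈ V, ι[G].left.base g ∈ V) ∧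
    (∀ z : ↥(G ⊗ G).left, (fst G G).left.base z ∈ V → (snd G G).left.base z ∈ V → μ[G].left.base z ∈ V) := by
  let V : G.left.Opens := u.left ⁻¹ᵁ W
  refine ⟨G.hom.isOpenMap _ V.isOpen, ?_⟩
  let uG := G ◁ u
  have hsnd : IsOpenMap (snd G H).left.base := (pullback.snd G.hom H.hom).isOpenMap
  have : Flat (snd G H).left := inferInstanceAs (Flat (pullback.snd G.hom H.hom))
  have hpb : IsPullback (snd G G).left uG.left u.left (snd G H).left :=
    (isPullback_whisker u G).map (Over.forget S)
  obtain ⟨hM, hMmax⟩ := max_eq P hpb hsnd W hW hmax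
  let θ : G ⊗ H ⟶ G ⊗ H := lift (fst G H) ((fst G H ≫ u) * snd G H)
  let θ' : G ⊗ G ⟶ G ⊗ G := lift (fst G G) (fst G G * snd G G)
  have : IsIso θ := ⟨lift (fst G H) ((fst G H ≫ u)⁻¹ * snd G H), by
    apply CartesianMonoidalCategory.hom_ext <;> simp [θ, MonObj.comp_mul, GrpObj.comp_inv], by
    apply CartesianMonoidalCategory.hom_ext <;> simp [θ, MonObj.comp_mul, GrpObj.comp_inv]⟩
  have : IsIso θ' := ⟨lift (fst G G) ((fst G G)⁻¹ * snd G G), by
    apply CartesianMonoidalCategory.hom_ext <;> simp [θ', MonObj.comp_mul, GrpObj.comp_inv], by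
    apply CartesianMonoidalCategory.hom_ext <;> simp [θ', MonObj.comp_mul, GrpObj.comp_inv]⟩
  have hcomm : θ' ≫ uG = uG ≫ θ := by
    apply CartesianMonoidalCategory.hom_ext <;>
      simp [θ, θ', uG, MonObj.comp_mul, MonObj.mul_comp]
  have : IsIso ((Over.forget S).map θ) := inferInstance
  have : IsIso ((Over.forget S).map θ') := inferInstance
  have hθ : IsPullback θ'.left uG.left uG.left θ.left :=
    (IsPullback.of_horiz_isIso ⟨hcomm⟩).map (Over.forget S)
  have : IsIso θ.left := ‹IsIso ((Over.forget S).map θ)›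
  obtain ⟨hM', hMmax'⟩ := max_eq P hθ θ.left.homeomorph.isOpenMap _ hM hMmax
  have key : ∀ z : ↥(G ⊗ G).left, (snd G G).left z ∈ V ↔ μ[G].left z ∈ V := by
    intro z
    have h1 : uG ≫ snd G H = snd G G ≫ u := by simp [uG]
    have h2 : uG ≫ θ ≫ snd G H = μ ≫ u := by
      rw [IsMonHom.mul_hom, MonoidalCategory.tensorHom_def]
      simp [θ, uG, MonObj.comp_mul]
      simp [Hom.mul_def, CartesianMonoidalCategory.lift_fst_comp_snd_comp, MonoidalCategory.tensorHom_def]
    have heq := le_antisymm (hMmax' _ hM) (hMmax _ hM')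
    have := SetLike.ext_iff.1 heq (uG.left z)
    change u.left _ ∈ W ↔ u.left _ ∈ W
    have a1 := congrArg (fun k => k.left z) h1
    have a2 := congrArg (fun k => k.left z) h2
    simp only [Over.comp_left, Scheme.Hom.comp_apply] at a1 a2
    rw [← a1, ← a2]
    exact this
  have unit : ∀ (k : G ⟶ G) (g : G.left), (lift k (𝟙 G) ≫ μ).left g = μ[G].left ((lift k (𝟙 G)).left g) :=
    fun _ _ => rfl
  refine ⟨fun g hg p hp => ?_, fun g hg => ?_, fun z _ hz => (key z).1 hz⟩
  · have h := (key ((lift ι (𝟙 G)).left g)).1 (by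
      rw [← Scheme.Hom.comp_apply, ← Over.comp_left, lift_snd]; exact hg)
    rw [← unit, GrpObj.left_inv, Over.comp_left, Scheme.Hom.comp_apply] at h
    have e : p = (toUnit G).left g := by
      rw [show (toUnit G).left g = G.hom g from rfl, ← hp]; rfl
    rw [e]; exact h
  · have h := (key ((lift (𝟙 G) ι).left g)).2 (by
      rw [← Scheme.Hom.comp_apply, ← Over.comp_left, GrpObj.right_inv, Over.comp_left,
        Scheme.Hom.comp_apply]
      have h0 := (key ((lift ι (𝟙 G)).left g)).1 (by
        rw [← Scheme.Hom.comp_apply, ← Over.comp_left, lift_snd]; exact hg)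
      rwa [← unit, GrpObj.left_inv, Over.comp_left, Scheme.Hom.comp_apply] at h0)
    rwa [← Scheme.Hom.comp_apply, ← Over.comp_left, lift_snd] at h

end Groth.Agent.S5389
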