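import Groth.Statements.S5391
import Groth.Agent.SGA3Homog26.QuasiSection

set_option autoImplicit false
set_option linter.style.haveILetI false
set_option backward.isDefEq.respectTransparency.types false
universe u
open CategoryTheory CategoryTheory.Limits MonoidalCategory CartesianMonoidalCategory MonObj GrpObj AlgebraicGeometry
open SGA3

namespace Groth.Agent.S5391

/-- Let f : X → S be a morphism locally of finite presentation, s a point of S and x a point of the
fibre X_s = f⁻¹(s) which is closed in it. Suppose f is universally open at the generic point z of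
some irreducible component Z of the fibre X_s containing x, with the local dimension of X_s at x
equal to dim Z. Then there are an affine scheme S', an etale morphism w : S' → S, a finite
surjective morphism of finite presentation π : S'' → S', and a morphism h : S'' → X with h f = π w,
such that exactly one point s'' of S'' lies over s, h(s'') = x, and h induces an isomorphism κ(x) ≅
κ(s''). -/
theorem result (X S : Scheme.{u}) (f : X ⟶ S) [LocallyOfFinitePresentation f]
    (s : S) (x : X) (hxs : f.base x = s) (hx : IsClosed ((Subtype.val : ↥(f.base ⁻¹' {s}) → X) ⁻¹' {x}))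
    (Z : Set ↥(f.base ⁻¹' {s})) (hZ : Z ∈ irreducibleComponents ↥(f.base ⁻¹' {s})) (hxZ : x ∈ (Subtype.val '' Z))
    (z : X) (hz : z ∈ Subtype.val '' Z ∧ Subtype.val '' Z ⊆ closure {z}) (hopen : EGA43.IsUnivOpenAt f z)
    (hdim : FlatMor.localDim ↥(f.base ⁻¹' {s}) ⟨x, hxs⟩ = topologicalKrullDim ↥Z) :
    ∃ (S' S'' : Scheme.{u}) (_ : IsAffine S') (w : S' ⟶ S) (π : S'' ⟶ S') (h : S'' ⟶ X),
      Etale w ∧ IsFinite π ∧ Surjective π ∧ LocallyOfFinitePresentation π ∧ h ≫ f = π ≫ w ∧
      ∃ s'' : S'', (π ≫ w).base ⁻¹' {s} = {s''} ∧ h.base s'' = x ∧ IsIso (h.residueFieldMap s'') := by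
  -- translate the fibre topology into transcendence degrees
  obtain ⟨zf, hzf, rfl⟩ := hz.1
  obtain ⟨xf, hxf, hxf'⟩ := hxZ
  obtain rfl : xf = ⟨x, hxs⟩ := Subtype.ext hxf'
  have hzs : f zf.1 = s := zf.2
  have hxs' : f x = s := hxs
  have hZc : IsClosed Z := isClosed_of_mem_irreducibleComponents Z hZ
  have hzx : zf.1 ⤳ x := specializes_iff_mem_closure.2 (hz.2 ⟨⟨x, hxs⟩, hxf, rfl⟩)
  have hmax : ∀ w, w ⤳ zf.1 → f w = f zf.1 → w = zf.1 := fun w hw hwf => by
    let wf : ↥(f.base ⁻¹' {s}) := ⟨w, hwf.trans hzs⟩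
    have hle : Z ⊆ closure {wf} := fun b hb => by
      rw [closure_subtype, Set.image_singleton, ← specializes_iff_mem_closure]
      exact hw.trans (specializes_iff_mem_closure.2 (hz.2 ⟨b, hb, rfl⟩))
    have hwZ : wf ∈ Z :=
      hZ.2 isIrreducible_singleton.closure hle (subset_closure rfl)
    exact (hw.antisymm (specializes_iff_mem_closure.2 (hz.2 ⟨wf, hwZ, rfl⟩))).eq
  have hZn : topologicalKrullDim ↥Z = (EGA43.DimFormula.trdAt f zf.1 : WithBot ℕ∞) := by
    have himg : Subtype.val '' Z = closure {zf.1} ∩ f.base ⁻¹' {f zf.1} := by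
      rw [hzs]
      refine Set.Subset.antisymm (Set.subset_inter hz.2 (Subtype.coe_image_subset _ _)) ?_
      rintro b ⟨hb, hbs⟩
      refine ⟨⟨b, hbs⟩, ?_, rfl⟩
      rw [← hZc.closure_eq]
      refine closure_mono (Set.singleton_subset_iff.2 hzf) ?_
      rwa [closure_subtype, Set.image_singleton]
    refine (((Topology.IsEmbedding.subtypeVal).homeomorphImage Z).trans
      (Homeomorph.setCongr himg)).isHomeomorph.topologicalKrullDim_eq.trans ?_
    exact EGA43.Chevalley.topologicalKrullDim_closure_inter_fibre f zf.1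
  refine SGA3Homog26.exists_quasiSection f hxs' hzx (hzs.trans hxs'.symm) hmax (fun x' hx' hs => ?_)
    (fun w hw hwf => ?_) hopen
  · have h1 : (⟨x', hx'.trans hxs'⟩ : ↥(f.base ⁻¹' {s})) ∈ (Subtype.val ⁻¹' {x} : Set ↥(f.base ⁻¹' {s})) :=
      hx.closure_subset (by
        refine closure_mono (s := ({⟨x, hxs⟩} : Set ↥(f.base ⁻¹' {s}))) (fun a ha => congrArg Subtype.val ha) ?_
        rw [closure_subtype, Set.image_singleton]
        exact specializes_iff_mem_closure.1 hs)
    exact h1
  · have h2 : (EGA43.DimFormula.trdAt f w : WithBot ℕ∞) ≤ FlatMor.localDim _ (⟨x, hxs⟩ : ↥(f.base ⁻¹' {s})) := by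
      refine le_iInf fun ⟨V, hV⟩ => ?_
      obtain ⟨O, hO, hOV⟩ := isOpen_induced_iff.1 V.isOpen
      have hxO : x ∈ O := hOV.ge hV
      let e : ↥(O ∩ f.base ⁻¹' {f w}) ≃ₜ ↥(V : Set ↥(f.base ⁻¹' {s})) :=
        { toFun := fun a => ⟨⟨a.1, a.2.2.trans (hwf.trans hxs')⟩, hOV.le a.2.1⟩
          invFun := fun b => ⟨b.1.1, hOV.ge b.2, b.1.2.trans (hwf.trans hxs').symm⟩
          left_inv := fun _ => rfl
          right_inv := fun _ => rfl
          continuous_toFun := Continuous.subtype_mk (Continuous.subtype_mk continuous_subtype_val _) _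
          continuous_invFun := Continuous.subtype_mk (continuous_subtype_val.comp continuous_subtype_val) _ }
      rw [← e.isHomeomorph.topologicalKrullDim_eq]
      exact EGA43.Chevalley.le_topologicalKrullDim_inter_fibre f hO.isLocallyClosed (hw.mem_open hO hxO)
    rw [hdim, hZn] at h2
    exact_mod_cast h2

end Groth.Agent.S5391
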