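import Groth.Statements.S5392
import Groth.Agent.S5283

set_option autoImplicit false
universe u
open CategoryTheory CategoryTheory.Limits MonoidalCategory CartesianMonoidalCategory MonObj GrpObj AlgebraicGeometry
open SGA3

namespace Groth.Agent.S5392

/-- Let X be an S-group scheme which is smooth and of finite presentation over S with connected fibres,
Y an S-group scheme of finite presentation over S and i : Y → X a homomorphism which is a
monomorphism. Then there is a closed immersion t : T → S, locally of finite presentation, such that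
a morphism g : S' → S factors through t exactly when the base change of i along g is an isomorphism. -/
theorem result (S : Scheme.{u}) (X Y : Over S) [GrpObj X] [GrpObj Y]
    [Smooth X.hom] [QuasiCompact X.hom] [QuasiSeparated X.hom]
    (hconn : ∀ s : S, _root_.IsConnected (X.hom.base ⁻¹' {s}))
    [LocallyOfFinitePresentation Y.hom] [QuasiCompact Y.hom] [QuasiSeparated Y.hom]
    (i : Y ⟶ X) [IsMonHom i] [Mono i] :
    ∃ (T : Scheme.{u}) (t : T ⟶ S), IsClosedImmersion t ∧ LocallyOfFinitePresentation t ∧
      ∀ (S' : Scheme.{u}) (g : S' ⟶ S),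
        (∃ g' : S' ⟶ T, g' ≫ t = g) ↔ IsIso ((Over.pullback g).map i) := by
  have hc : ∀ s : S, ConnectedSpace ↥(Limits.pullback X.hom (S.fromSpecResidueField s)) := fun s => by
    haveI : ConnectedSpace ↥(X.hom.base ⁻¹' {s}) := Subtype.connectedSpace (hconn s)
    exact (X.hom.fiberHomeo s).connectedSpace_iff.mpr inferInstance
  obtain ⟨T, t, ht, ht', hT⟩ := S5283.result X Y hc i
  refine ⟨T, t, ht, ht', fun S' g => (hT S' g).trans ⟨?_, ?_⟩⟩
  · rintro ⟨l, hl⟩
    let w := Limits.pullback.lift (f := Y.hom) (g := g) l (Limits.pullback.snd X.hom g)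
      (by rw [← Over.w i, reassoc_of% hl]; exact Limits.pullback.condition)
    haveI : IsSplitEpi ((Over.pullback g).map i) := IsSplitEpi.mk' ⟨Over.homMk w (Limits.pullback.lift_snd _ _ _), by
      apply Over.OverMorphism.ext
      apply Limits.pullback.hom_ext
      · show (w ≫ Limits.pullback.lift (Limits.pullback.fst Y.hom g ≫ i.left) (Limits.pullback.snd Y.hom g) _) ≫
          Limits.pullback.fst X.hom g = 𝟙 _ ≫ Limits.pullback.fst X.hom g
        rw [Category.assoc, Limits.pullback.lift_fst, Category.id_comp, Limits.pullback.lift_fst_assoc]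
        exact hl
      · show (w ≫ Limits.pullback.lift (Limits.pullback.fst Y.hom g ≫ i.left) (Limits.pullback.snd Y.hom g) _) ≫
          Limits.pullback.snd X.hom g = 𝟙 _ ≫ Limits.pullback.snd X.hom g
        rw [Category.assoc, Limits.pullback.lift_snd, Category.id_comp]
        exact Limits.pullback.lift_snd _ _ _⟩
    exact isIso_of_mono_of_isSplitEpi _
  · intro h
    haveI : IsIso ((Over.pullback g).map i).left := (Over.forget S').map_isIso ((Over.pullback g).map i)
    refine ⟨inv ((Over.pullback g).map i).left ≫ Limits.pullback.fst Y.hom g, ?_⟩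
    rw [Category.assoc, IsIso.inv_comp_eq]
    exact (Limits.pullback.lift_fst _ _ _).symm

end Groth.Agent.S5392
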