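import Groth.Statements.S5394
import Groth.Agent.SGA3Homog26.Product

set_option autoImplicit false
set_option linter.style.haveILetI false
set_option backward.isDefEq.respectTransparency.types false
universe u
open CategoryTheory CategoryTheory.Limits MonoidalCategory CartesianMonoidalCategory MonObj GrpObj AlgebraicGeometry
open SGA3

namespace Groth.Agent.S5394

/-- Let G be an S-group scheme which is flat and locally of finite presentation over S and f : X → G a
morphism of S-schemes with X locally of finite presentation over S. Suppose that for every point s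
of S and every maximal point g of the fibre G_s (generic point of an irreducible component) there is
a point x of X with f(x) = g at which f is flat. Let V be the open subscheme of X where f is flat.
Then the morphism V ×_S V → G, (x, y) ↦ f(x)·f(y), is flat, locally of finite presentation and
surjective; in particular X ×_S X → G, (x, y) ↦ f(x)·f(y), is covering for the fppf topology. (The
published statement does not assume G flat over S and asserts only the covering property; this row
assumes G flat over S, as the flatness step of the printed proof does, and concludes the flat,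
locally finitely presented, surjective form that proof establishes. Without flatness of G the
flatness conclusion fails, e.g. for the identity of the closed subgroup tx = 0 of the additive group
over k[t].) -/
theorem result (S : Scheme.{u}) (G X : Over S) [GrpObj G] [LocallyOfFinitePresentation G.hom] [Flat G.hom]
    [LocallyOfFinitePresentation X.hom] (f : X ⟶ G)
    (hf : ∀ (s : S) (g : ↥(G.hom.base ⁻¹' {s})), closure {g} ∈ irreducibleComponents ↥(G.hom.base ⁻¹' {s}) →
      ∃ x : X.left, f.left.base x = g.1 ∧ (f.left.stalkMap x).hom.Flat)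
    (V : X.left.Opens) (hV : (V : Set X.left) = {x : X.left | (f.left.stalkMap x).hom.Flat}) :
    letI fV : Over.mk (V.ι ≫ X.hom) ⟶ G := Over.homMk (V.ι ≫ f.left) ((Category.assoc _ _ _).trans (congrArg (V.ι ≫ ·) (Over.w f)))
    Flat ((fV ⊗ₘ fV) ≫ μ[G]).left ∧ LocallyOfFinitePresentation ((fV ⊗ₘ fV) ≫ μ[G]).left ∧
      Surjective ((fV ⊗ₘ fV) ≫ μ[G]).left := by
  let fV : Over.mk (V.ι ≫ X.hom) ⟶ G := Over.homMk (V.ι ≫ f.left) ((Category.assoc _ _ _).trans (congrArg (V.ι ≫ ·) (Over.w f)))
  show Flat ((fV ⊗ₘ fV) ≫ μ[G]).left ∧ LocallyOfFinitePresentation ((fV ⊗ₘ fV) ≫ μ[G]).left ∧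
      Surjective ((fV ⊗ₘ fV) ≫ μ[G]).left
  haveI : LocallyOfFinitePresentation f.left := by
    haveI : LocallyOfFinitePresentation (f.left ≫ G.hom) := by rw [Over.w f]; infer_instance
    exact H8Lim.lfp_cancel_right f.left G.hom
  haveI : LocallyOfFinitePresentation fV.left := inferInstanceAs (LocallyOfFinitePresentation (V.ι ≫ f.left))
  haveI hfl : Flat fV.left := by
    show Flat (V.ι ≫ f.left)
    refine Flat.of_stalkMap _ fun x => (Desc19b.flat_stalkMap_comp_iff V.ι f.left x (Flat.stalkMap _ _)).mpr ?_
    have hx : (x.1 : X.left) ∈ (V : Set X.left) := x.2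
    rw [hV] at hx
    exact hx
  haveI : Flat (fV ⊗ₘ fV).left :=
    MorphismProperty.pullbackMap (P := @Flat) hfl hfl (Over.w fV).symm (Over.w fV).symm
  haveI : LocallyOfFinitePresentation (fV ⊗ₘ fV).left :=
    MorphismProperty.pullbackMap (P := @LocallyOfFinitePresentation) ‹_› ‹_› (Over.w fV).symm (Over.w fV).symm
  let θ : G ⊗ G ⟶ G ⊗ G := lift μ[G] (snd G G)
  haveI : IsIso θ := by
    refine ⟨lift (fst G G * (snd G G)⁻¹) (snd G G), ?_, ?_⟩ <;>
      ext1 <;> simp [θ, MonObj.comp_mul, GrpObj.comp_inv, ← Hom.mul_def, show μ[G] = fst G G * snd G G by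
        rw [Hom.mul_def, lift_fst_snd, Category.id_comp]]
  haveI : IsIso θ.left := inferInstanceAs (IsIso ((Over.forget _).map θ))
  haveI : Flat (fst G G).left := MorphismProperty.pullback_fst (P := @Flat) G.hom G.hom ‹Flat G.hom›
  haveI : LocallyOfFinitePresentation (fst G G).left :=
    MorphismProperty.pullback_fst (P := @LocallyOfFinitePresentation) G.hom G.hom ‹_›
  have hμ : μ[G].left = θ.left ≫ (fst G G).left := by
    rw [← Over.comp_left, show θ ≫ fst G G = μ[G] from lift_fst _ _]
  haveI : Flat μ[G].left := by rw [hμ]; infer_instance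
  haveI : LocallyOfFinitePresentation μ[G].left := by rw [hμ]; infer_instance
  refine ⟨by rw [Over.comp_left]; infer_instance, by rw [Over.comp_left]; infer_instance, ⟨fun g => ?_⟩⟩
  let W : G.left.Opens := ⟨Set.range fV.left, fV.left.isOpenMap.isOpen_range⟩
  obtain ⟨z, hzg, hz1, hz2⟩ := SGA3Homog26.exists_mul_eq_of_dense W (fun s =>
    SGA3Homog26.dense_fibre_of_maximal (W : Set G.left) W.isOpen s fun g hg => by
      obtain ⟨x, hx, hxfl⟩ := hf s g hg
      exact ⟨⟨x, show x ∈ (V : Set X.left) from hV.symm ▸ hxfl⟩, hx⟩) g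
  obtain ⟨w, hw⟩ : z ∈ Set.range (fV ⊗ₘ fV).left := by
    rw [show (fV ⊗ₘ fV).left = pullback.map (Over.mk (V.ι ≫ X.hom)).hom (Over.mk (V.ι ≫ X.hom)).hom G.hom G.hom
        fV.left fV.left (𝟙 S) ((Category.comp_id _).trans (Over.w fV).symm) ((Category.comp_id _).trans (Over.w fV).symm)
      from rfl]
    erw [Scheme.Pullback.range_map]
    exact ⟨hz1, hz2⟩
  exact ⟨w, by rw [Over.comp_left, Scheme.Hom.comp_apply, hw, hzg]⟩

end Groth.Agent.S5394
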