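import Groth.Statements.S5395
import Groth.Agent.H8ProCons.Basic
import Groth.Agent.FlatMorWeight.LevelSets
import Groth.Agent.LangLib.Lang

set_option autoImplicit false
set_option linter.style.haveILetI false
set_option backward.isDefEq.respectTransparency.types false
universe u
open CategoryTheory CategoryTheory.Limits MonoidalCategory CartesianMonoidalCategory MonObj GrpObj AlgebraicGeometry
open SGA3

namespace Groth.Agent.S5395

/-- Let k be an algebraically closed field, G a group scheme locally of finite type over k, and A, B two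
ind-constructible subsets of G. Let A·B be the image under the multiplication of the set of points
of G ×_k G whose two projections lie in A and B. Then every closed point z of G lying in A·B is the
product of a closed point of G ×_k G whose two projections lie in A and B (and are then closed
points): the rational points of A·B are the products of rational points of A and of B. -/
theorem result (k : Type u) [Field k] [IsAlgClosed k] (G : Over (Spec (CommRingCat.of k))) [GrpObj G]
    [LocallyOfFiniteType G.hom] (A B : Set G.left) (hA : ProCons.IsIndConstructible A) (hB : ProCons.IsIndConstructible B)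
    (z : G.left) (hz : IsClosed ({z} : Set G.left))
    (hzAB : z ∈ μ[G].left.base '' {w : ↥(G ⊗ G).left | (fst G G).left.base w ∈ A ∧ (snd G G).left.base w ∈ B}) :
    ∃ w : ↥(G ⊗ G).left, IsClosed ({w} : Set ↥(G ⊗ G).left) ∧ (fst G G).left.base w ∈ A ∧ (snd G G).left.base w ∈ B ∧
      μ[G].left.base w = z := by
  obtain ⟨w, ⟨hwA, hwB⟩, rfl⟩ := hzAB
  haveI : LocallyOfFiniteType (G ⊗ G).hom :=
    show LocallyOfFiniteType (pullback.fst G.hom G.hom ≫ G.hom) from inferInstance
  haveI : IsLocallyNoetherian (G ⊗ G).left := LocallyOfFiniteType.isLocallyNoetherian (G ⊗ G).hom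
  haveI : JacobsonSpace ↥(G ⊗ G).left := LocallyOfFiniteType.jacobsonSpace (G ⊗ G).hom
  obtain ⟨W, hW, hwW, -⟩ := exists_isAffineOpen_mem_and_subset (X := (G ⊗ G).left) (x := w) (U := ⊤) trivial
  obtain ⟨C, hC, hwC, hCE⟩ := Groth.Agent.H8ProCons.exists_constructible_nhd
    (Groth.Agent.FlatMorWeight.isIndConstructible_inter
      (Groth.Agent.H8ProCons.isIndConstructible_preimage (fst G G).left hA)
      (Groth.Agent.H8ProCons.isIndConstructible_preimage (snd G G).left hB)) hW hwW ⟨hwA, hwB⟩
  haveI : IsAffine (W : Scheme.{u}) := hW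
  haveI : IsLocallyNoetherian (W : Scheme.{u}) := isLocallyNoetherian_of_isOpenImmersion W.ι
  haveI : AlgebraicGeometry.IsNoetherian (W : Scheme.{u}) := {}
  haveI : TopologicalSpace.NoetherianSpace ↥(W : Set ↥(G ⊗ G).left) :=
    inferInstanceAs (TopologicalSpace.NoetherianSpace ↥(W : Scheme.{u}))
  haveI : JacobsonSpace ↥(W : Set ↥(G ⊗ G).left) := JacobsonSpace.of_isOpenEmbedding W.2.isOpenEmbedding_subtypeVal
  let D : Set ↥(W : Set ↥(G ⊗ G).left) := Subtype.val ⁻¹' (μ[G].left.base ⁻¹' {μ[G].left.base w})
  have hD : Topology.IsConstructible D := by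
    have hc : IsClosed D := (hz.preimage μ[G].left.continuous).preimage continuous_subtype_val
    exact Topology.isConstructible_compl.1
      (IsRetrocompact.isConstructible hc.isOpen_compl (fun U _ _ => TopologicalSpace.NoetherianSpace.isCompact _))
  obtain ⟨c, ⟨hcC, hcD⟩, hcl⟩ := Groth.Agent.LangLib.exists_closedPoint_of_isConstructible
    (hC.inter hD) ⟨⟨w, hwW⟩, hwC, rfl⟩
  have hcc : c ∈ Subtype.val ⁻¹' closedPoints ↥(G ⊗ G).left := by
    exact (Topology.IsOpenEmbedding.preimage_closedPoints W.2.isOpenEmbedding_subtypeVal).ge hcl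
  exact ⟨c.1, hcc, (hCE hcC).1, (hCE hcC).2, hcD⟩

end Groth.Agent.S5395
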