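import Groth.Statements.S5396
import Groth.Agent.S0585
-- import your own Groth.Agent.* helpers here

set_option autoImplicit false
universe u
open CategoryTheory CategoryTheory.Limits MonoidalCategory CartesianMonoidalCategory MonObj GrpObj AlgebraicGeometry
open SGA3

section helpers
open TensorProduct
namespace Groth.Agent.CommAlg4

variable {A : Type u} [CommRing A] {C : Type u} [AddCommGroup C] [Module A C]
  {V : Type u} [AddCommGroup V] [Module A V]

/-- The coefficient of a tensor along a functional. -/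
noncomputable def tcoef (f : C →ₗ[A] A) : V ⊗[A] C →ₗ[A] V :=
  (TensorProduct.rid A V).toLinearMap ∘ₗ f.lTensor V

@[simp] theorem tcoef_tmul (f : C →ₗ[A] A) (v : V) (c : C) : tcoef f (v ⊗ₜ[A] c) = f c • v := by
  simp [tcoef]

theorem tcoef_rTensor {W : Submodule A V} (f : C →ₗ[A] A) (u : W ⊗[A] C) :
    tcoef f (W.subtype.rTensor C u) ∈ W := by
  induction u with
  | zero => simp
  | tmul w c => simpa using W.smul_mem _ w.2
  | add x y hx hy => simpa using W.add_mem hx hy

/-- Expansion of tensors along a dual basis. -/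
theorem exists_expansion (s : C →ₗ[A] C →₀ A)
    (hs : ∀ c, Finsupp.linearCombination A id (s c) = c) (t : V ⊗[A] C) :
    ∃ S : Finset C, ∀ S', S ⊆ S' → t = ∑ i ∈ S', tcoef (Finsupp.lapply i ∘ₗ s) t ⊗ₜ[A] i := by
  classical
  induction t with
  | zero => exact ⟨∅, fun S' _ => by simp⟩
  | tmul v c =>
    refine ⟨(s c).support, fun S' hS' => ?_⟩
    calc v ⊗ₜ[A] c = v ⊗ₜ[A] (∑ i ∈ S', (s c i) • i) := by
          conv_lhs => rw [← hs c, Finsupp.linearCombination_apply,
            Finsupp.sum_of_support_subset _ hS' _ (fun i _ => by simp)]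
          rfl
      _ = _ := by
          rw [TensorProduct.tmul_sum]
          refine Finset.sum_congr rfl fun i _ => ?_
          simp [TensorProduct.smul_tmul]
  | add x y hx hy =>
    obtain ⟨S, hS⟩ := hx
    obtain ⟨T, hT⟩ := hy
    refine ⟨S ∪ T, fun S' hS' => ?_⟩
    conv_lhs => rw [hS S' (Finset.union_subset_left hS'), hT S' (Finset.union_subset_right hS')]
    rw [← Finset.sum_add_distrib]
    exact Finset.sum_congr rfl fun i _ => by rw [map_add, TensorProduct.add_tmul]

variable [Coalgebra A C] [HopfRep.Comod A C V]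

/-- Coefficients of the coaction compose by convolution. -/
theorem tcoef_coact (h f : C →ₗ[A] A) (m : V) :
    tcoef h (HopfRep.Comod.coact (k := A) (A := C) (tcoef f (HopfRep.Comod.coact (k := A) (A := C) m))) =
      tcoef (LinearMap.mul' A A ∘ₗ TensorProduct.map h f ∘ₗ CoalgebraStruct.comul)
        (HopfRep.Comod.coact (k := A) (A := C) m) := by
  let ρ : V →ₗ[A] V ⊗[A] C := HopfRep.Comod.coact (k := A) (A := C)
  let ψ : C ⊗[A] C →ₗ[A] A := LinearMap.mul' A A ∘ₗ TensorProduct.map h f
  let Φ : V ⊗[A] (C ⊗[A] C) →ₗ[A] V := (TensorProduct.rid A V).toLinearMap ∘ₗ ψ.lTensor V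
  have key : ∀ t : V ⊗[A] C, Φ (TensorProduct.assoc A V C C (ρ.rTensor C t)) = tcoef h (ρ (tcoef f t)) := by
    intro t
    induction t with
    | zero => simp
    | tmul v c =>
      have aux : ∀ u : V ⊗[A] C, Φ (TensorProduct.assoc A V C C (u ⊗ₜ[A] c)) = f c • tcoef h u := by
        intro u
        induction u with
        | zero => simp
        | tmul w a => simp [Φ, ψ, smul_smul, mul_comm]
        | add x y hx hy => simp only [TensorProduct.add_tmul, map_add, hx, hy, smul_add]
      simp [aux]
    | add x y hx hy => simp only [map_add, hx, hy]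
  have h1 := LinearMap.congr_fun (HopfRep.Comod.coassoc (k := A) (A := C) (V := V)) m
  simp only [LinearMap.comp_apply, LinearEquiv.coe_coe] at h1
  rw [← key]
  show Φ (TensorProduct.assoc A V C C (ρ.rTensor C (ρ m))) = _
  rw [h1]
  show ((TensorProduct.rid A V).toLinearMap ∘ₗ ψ.lTensor V)
    ((CoalgebraStruct.comul (R := A) (A := C)).lTensor V (ρ m)) = _
  rw [LinearMap.comp_apply, ← LinearMap.lTensor_comp_apply]
  rfl

end Groth.Agent.CommAlg4

end helpers

namespace Groth.Agent.S5396

/-- Let A be a commutative ring, C an A-coalgebra, V a C-comodule, M an A-submodule of V, and A' a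
faithfully flat commutative A-algebra such that A' ⊗_A C is a projective A'-module. Then there is a
smallest subcomodule of V containing M, and it is finitely generated over A when M is. (The
published statement also asserts that the formation of this subcomodule commutes with base change;
this row omits it.) -/
theorem result (A : Type u) [CommRing A] (C : Type u) [AddCommGroup C] [Module A C]
    [Coalgebra A C] (V : Type u) [AddCommGroup V] [Module A V] [HopfRep.Comod A C V] (M : Submodule A V)
    (A' : Type u) [CommRing A'] [Algebra A A'] [Module.FaithfullyFlat A A'] [Module.Projective A' (TensorProduct A A' C)] :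
    ∃ W : Submodule A V, HopfRep.IsSubcomod (k := A) (A := C) W ∧ M ≤ W ∧
      (∀ W' : Submodule A V, HopfRep.IsSubcomod (k := A) (A := C) W' → M ≤ W' → W ≤ W') ∧
      (M.FG → W.FG) := by
  classical
  haveI hP : Module.Projective A C := Groth.Agent.S0585.result A A' C
  obtain ⟨s, hs⟩ := Module.projective_def'.1 hP
  have hs' : ∀ c, Finsupp.linearCombination A id (s c) = c := fun c => LinearMap.congr_fun hs c
  let ρ : V →ₗ[A] TensorProduct A V C := HopfRep.Comod.coact (k := A) (A := C)
  let W : Submodule A V := ⨆ f : C →ₗ[A] A, M.map (CommAlg4.tcoef f ∘ₗ ρ)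
  have hsub : ∀ f : C →ₗ[A] A, ∀ m ∈ M, CommAlg4.tcoef f (ρ m) ∈ W := fun f m hm =>
    le_iSup (fun f : C →ₗ[A] A => M.map (CommAlg4.tcoef f ∘ₗ ρ)) f ⟨m, hm, rfl⟩
  have hW : HopfRep.IsSubcomod (k := A) (A := C) W := by
    intro w hw
    obtain ⟨S, hS⟩ := CommAlg4.exists_expansion s hs' (ρ w)
    have hmem : ∀ g : C →ₗ[A] A, CommAlg4.tcoef g (ρ w) ∈ W := by
      intro g
      have hle : W ≤ W.comap (CommAlg4.tcoef g ∘ₗ ρ) := by
        refine iSup_le fun f => ?_
        rintro _ ⟨m, hm, rfl⟩
        show CommAlg4.tcoef g (ρ (CommAlg4.tcoef f (ρ m))) ∈ W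
        rw [CommAlg4.tcoef_coact]
        exact hsub _ m hm
      exact hle hw
    show ρ w ∈ _
    rw [hS S subset_rfl]
    exact Submodule.sum_mem _ fun i _ => ⟨(⟨_, hmem (Finsupp.lapply i ∘ₗ s)⟩ : W) ⊗ₜ[A] i, by simp⟩
  refine ⟨W, hW, fun m hm => ?_, fun W' hW' hM => iSup_le fun f => ?_, ?_⟩
  · have h := LinearMap.congr_fun (HopfRep.Comod.counit_comp (k := A) (A := C) (V := V)) m
    have h2 : CommAlg4.tcoef (CoalgebraStruct.counit (R := A) (A := C)) (ρ m) = m := by
      simp only [CommAlg4.tcoef, LinearMap.comp_apply] at h ⊢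
      rw [h]
      simp
    exact h2 ▸ hsub _ m hm
  · rintro _ ⟨m, hm, rfl⟩
    obtain ⟨u, hu⟩ := hW' m (hM hm)
    show CommAlg4.tcoef f (ρ m) ∈ W'
    rw [show ρ m = W'.subtype.rTensor C u from hu.symm]
    exact CommAlg4.tcoef_rTensor f u
  · rintro ⟨T, hT⟩
    choose S hS using fun m => CommAlg4.exists_expansion s hs' (ρ m)
    refine ⟨T.biUnion fun m => (S m).image fun i => CommAlg4.tcoef (Finsupp.lapply i ∘ₗ s) (ρ m),
      le_antisymm (Submodule.span_le.2 fun x hx => ?_) (iSup_le fun f => ?_)⟩
    · obtain ⟨m, hm, hx⟩ := Finset.mem_biUnion.1 hx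
      obtain ⟨i, -, rfl⟩ := Finset.mem_image.1 hx
      exact hsub _ m (hT ▸ Submodule.subset_span hm)
    · rw [← hT, Submodule.map_span, Submodule.span_le]
      rintro _ ⟨m, hm, rfl⟩
      show CommAlg4.tcoef f (ρ m) ∈ Submodule.span A _
      rw [hS m (S m) subset_rfl, map_sum]
      refine Submodule.sum_mem _ fun i hi => ?_
      rw [CommAlg4.tcoef_tmul]
      exact Submodule.smul_mem _ _ (Submodule.subset_span
        (Finset.mem_biUnion.2 ⟨m, hm, Finset.mem_image_of_mem _ hi⟩))

end Groth.Agent.S5396
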