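import Groth.Statements.S5400
import Groth.Agent.SGA3cLib.NeutralRep
import Groth.Agent.H8Lim.FibreDimStage

set_option autoImplicit false
universe u
open CategoryTheory CategoryTheory.Limits MonoidalCategory CartesianMonoidalCategory MonObj GrpObj AlgebraicGeometry
open SGA3

namespace Groth.Agent.S5400

set_option backward.isDefEq.respectTransparency.types false
set_option linter.style.haveILetI false

/-- An open set represents its own functor of points. -/
theorem rep_of_isOpen {S : Scheme.{u}} (G : Over S) (N : Set G.left) (hN : IsOpen N) :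
    ∃ (G0 : Over S) (i0 : G0 ⟶ G), Mono i0 ∧
      ∀ (T : Over S) (g : T ⟶ G), (∃ z : T ⟶ G0, z ≫ i0 = g) ↔ Set.range g.left.base ⊆ N := by
  let W : G.left.Opens := ⟨N, hN⟩
  let i0 : (Over.mk (W.ι ≫ G.hom) : Over S) ⟶ G := Over.homMk W.ι
  refine ⟨_, i0, (Over.forget S).mono_of_mono_map (inferInstanceAs (Mono W.ι)), fun T g => ⟨?_, fun h => ?_⟩⟩
  · rintro ⟨z, rfl⟩ _ ⟨t, rfl⟩
    exact W.range_ι.le ⟨z.left.base t, rfl⟩
  · have hsub : Set.range g.left.base ⊆ Set.range W.ι.base := h.trans W.range_ι.ge
    refine ⟨Over.homMk (IsOpenImmersion.lift W.ι g.left hsub) ?_, Over.OverMorphism.ext (IsOpenImmersion.lift_fac _ _ _)⟩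
    show _ ≫ W.ι ≫ G.hom = _
    rw [IsOpenImmersion.lift_fac_assoc]
    exact Over.w g

/-- A representable neutral functor has open neutral set. -/
theorem isOpen_of_rep {S : Scheme.{u}} (G : Over S) [GrpObj G] [LocallyOfFinitePresentation G.hom]
    (h : ∃ (G0 : Over S) (i0 : G0 ⟶ G), Mono i0 ∧
      ∀ (T : Over S) (g : T ⟶ G), (∃ z : T ⟶ G0, z ≫ i0 = g) ↔ Set.range g.left.base ⊆ SGA3x.neutralSet G) :
    IsOpen (SGA3x.neutralSet G) := by
  obtain ⟨G0, i0, hm, hrep⟩ := h
  haveI := hm
  haveI := (SGA3cLib.NeutralDim.isOpenImmersion_of_rep G G0 i0 hrep).1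
  convert i0.left.isOpenEmbedding.isOpen_range using 1
  refine Set.Subset.antisymm (fun x hx => ?_) ((hrep G0 i0).1 ⟨𝟙 G0, Category.id_comp i0⟩)
  obtain ⟨z, hz⟩ := (hrep (Over.mk (G.left.fromSpecResidueField x ≫ G.hom)) (Over.homMk (G.left.fromSpecResidueField x))).2
    (show Set.range (G.left.fromSpecResidueField x).base ⊆ _ by
      rw [Scheme.range_fromSpecResidueField]; simpa using hx)
  obtain ⟨o⟩ : Nonempty ↥(Spec (G.left.residueField x)) :=
    inferInstanceAs (Nonempty (PrimeSpectrum (G.left.residueField x)))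
  refine ⟨z.left.base o, ?_⟩
  rw [← Scheme.Hom.comp_apply, ← Over.comp_left, hz]
  exact Scheme.fromSpecResidueField_apply x o

/-- Let S be the limit of a cofiltered system (S_i) of quasi-compact quasi-separated schemes with affine
transition morphisms, j an index and G_j an S_j-group scheme of finite presentation; put G = G_j
×_{S_j} S. Then the neutral component subfunctor of G is representable (there is a monomorphism G⁰ →
G through which a point factors exactly when its image lies in the union of the neutral components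
of the fibres) if and only if there is an index i over j such that the neutral component of G_j
×_{S_j} S_i is representable. -/
theorem result {I : Type u} [SmallCategory I] [IsCofiltered I]
    (D : I ⥤ Scheme.{u}) (c : Limits.Cone D) (hc : Limits.IsLimit c)
    [∀ (i i' : I) (f : i ⟶ i'), IsAffineHom (D.map f)] [∀ i, CompactSpace (D.obj i)] [∀ i, QuasiSeparatedSpace (D.obj i)]
    (j : I) (Gj : Over (D.obj j)) [GrpObj Gj]
    [LocallyOfFinitePresentation Gj.hom] [QuasiCompact Gj.hom] [QuasiSeparated Gj.hom] :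
    (∃ (G0 : Over c.pt) (i0 : G0 ⟶ Red.bc (c.π.app j) Gj), Mono i0 ∧
      ∀ (T : Over c.pt) (g : T ⟶ Red.bc (c.π.app j) Gj), (∃ z : T ⟶ G0, z ≫ i0 = g) ↔
        Set.range g.left.base ⊆ SGA3x.neutralSet (Red.bc (c.π.app j) Gj)) ↔
    ∃ (i : I) (f : i ⟶ j) (G0 : Over (D.obj i)) (i0 : G0 ⟶ Red.bc (D.map f) Gj), Mono i0 ∧
      ∀ (T : Over (D.obj i)) (g : T ⟶ Red.bc (D.map f) Gj), (∃ z : T ⟶ G0, z ≫ i0 = g) ↔
        Set.range g.left.base ⊆ SGA3x.neutralSet (Red.bc (D.map f) Gj) := by
  constructor
  · intro h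
    haveI : LocallyOfFinitePresentation (Red.bc (c.π.app j) Gj).hom :=
      MorphismProperty.pullback_snd (P := @LocallyOfFinitePresentation.{u}) Gj.hom (c.π.app j) inferInstance
    have hN := isOpen_of_rep _ h
    rw [S5322.result] at hN
    haveI : ∀ {a b : I} (φ : a ⟶ b), IsAffineHom (D.map φ) := fun φ => inferInstance
    haveI : CompactSpace Gj.left := QuasiCompact.compactSpace_of_compactSpace Gj.hom
    haveI : QuasiSeparatedSpace Gj.left := quasiSeparatedSpace_of_quasiSeparated Gj.hom
    have hc' := H8Lim.isLimitStageCone Gj.hom (pullback.fst Gj.hom (c.π.app j)) (pullback.snd Gj.hom (c.π.app j))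
      (IsPullback.of_hasPullback _ _) hc
    have : ∀ {a b : Over j} (φ : a ⟶ b), IsAffineHom ((H8Lim.stage D Gj.hom).map φ) := fun φ => inferInstance
    have : ∀ o : Over j, CompactSpace ((H8Lim.stage D Gj.hom).obj o) := fun o =>
      QuasiCompact.compactSpace_of_compactSpace (H8Lim.stageFst D Gj.hom o)
    have : ∀ o : Over j, QuasiSeparatedSpace ((H8Lim.stage D Gj.hom).obj o) := fun o =>
      quasiSeparatedSpace_of_quasiSeparated (H8Lim.stageFst D Gj.hom o)
    let top : Over j := Over.mk (𝟙 j)
    obtain ⟨o, g, ho⟩ := H8Lim.exists_isOpen_preimage hc' (i := top)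
      (Z := H8Lim.stageFst D Gj.hom top ⁻¹' SGA3x.neutralSet Gj)
      (H8Lim.isLocallyConstructible_preimage _ (SGA3cLib.NeutralDim.isLocallyConstructible_neutralSet Gj))
      (by
        rw [← Set.preimage_comp, ← TopCat.coe_comp, ← Scheme.Hom.comp_base]
        erw [H8Lim.stageProj_fst _ c _ _ (IsPullback.of_hasPullback Gj.hom (c.π.app j))]
        exact hN)
    rw [← Set.preimage_comp, ← TopCat.coe_comp, ← Scheme.Hom.comp_base, H8Lim.stageMap_fst] at ho
    refine ⟨o.left, o.hom, rep_of_isOpen _ _ ?_⟩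
    rw [S5322.result]
    exact ho
  · rintro ⟨i, f, h⟩
    haveI : LocallyOfFinitePresentation (Red.bc (D.map f) Gj).hom :=
      MorphismProperty.pullback_snd (P := @LocallyOfFinitePresentation.{u}) Gj.hom (D.map f) inferInstance
    have hN := isOpen_of_rep _ h
    rw [S5322.result] at hN
    refine rep_of_isOpen _ _ ?_
    rw [S5322.result]
    let l : pullback Gj.hom (c.π.app j) ⟶ pullback Gj.hom (D.map f) :=
      pullback.lift (pullback.fst _ _) (pullback.snd _ _ ≫ c.π.app i) (by rw [Category.assoc, c.w f, pullback.condition])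
    have hl : pullback.fst Gj.hom (c.π.app j) = l ≫ pullback.fst Gj.hom (D.map f) := (pullback.lift_fst _ _ _).symm
    rw [hl, Scheme.Hom.comp_base, TopCat.coe_comp, Set.preimage_comp]
    exact hN.preimage l.continuous

end Groth.Agent.S5400
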