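import Groth.Statements.S5401
import Groth.Agent.SGA3cLib.NeutralIndCons
import Groth.Agent.H8Lim.Constructible

set_option autoImplicit false
universe u
open CategoryTheory CategoryTheory.Limits MonoidalCategory CartesianMonoidalCategory MonObj GrpObj AlgebraicGeometry
open SGA3

namespace Groth.Agent.S5401

/-- Let S₀ be a scheme, (S_i) a cofiltered system of quasi-compact quasi-separated S₀-schemes with
affine transition morphisms and S its limit, and G an S₀-group scheme locally of finite presentation
over S₀. Write G⁰(T), for an S₀-scheme T, for the set of S₀-morphisms T → G whose image lies in the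
union of the neutral components of the fibres of G. Then the canonical map colim G⁰(S_i) → G⁰(S) is
surjective: every element of G⁰(S) is the restriction of an element of G⁰(S_i) for some i. (The
published statement asserts that this map is bijective; its injectivity holds for S₀-morphisms to
any scheme locally of finite type over S₀ and is not stated here. The published setting takes S₀
quasi-compact and quasi-separated and the S_i affine over S₀; this row allows any cofiltered system
of quasi-compact quasi-separated S₀-schemes with affine transition morphisms.) -/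
theorem result {I : Type u} [SmallCategory I] [IsCofiltered I]
    (D : I ⥤ Scheme.{u}) (c : Limits.Cone D) (hc : Limits.IsLimit c)
    [∀ (i i' : I) (f : i ⟶ i'), IsAffineHom (D.map f)] [∀ i, CompactSpace (D.obj i)] [∀ i, QuasiSeparatedSpace (D.obj i)]
    (S₀ : Scheme.{u}) (q : ∀ i, D.obj i ⟶ S₀) (hq : ∀ (i i' : I) (f : i ⟶ i'), D.map f ≫ q i' = q i)
    (qlim : c.pt ⟶ S₀) (hqlim : ∀ i, c.π.app i ≫ q i = qlim)
    (G : Over S₀) [GrpObj G] [LocallyOfFinitePresentation G.hom] :
    ∀ u : c.pt ⟶ G.left, u ≫ G.hom = qlim → Set.range u.base ⊆ SGA3x.neutralSet G →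
      ∃ (i : I) (ui : D.obj i ⟶ G.left), ui ≫ G.hom = q i ∧ Set.range ui.base ⊆ SGA3x.neutralSet G ∧ c.π.app i ≫ ui = u := by
  classical
  intro u hu hN
  obtain ⟨i, ui, h1, h2⟩ := Scheme.exists_π_app_comp_eq_of_locallyOfFinitePresentation D
    ({ app := q, naturality := fun a b φ => by simpa using hq a b φ } : D ⟶ (Functor.const I).obj S₀)
    G.hom c hc u (by ext a; simp [hqlim a, hu])
  have hind := H8ProCons.isIndConstructible_preimage ui (SGA3cLib.NeutralDim.isIndConstructible_neutralSet G)
  haveI : ∀ (a b : I) (φ : a ⟶ b), QuasiCompact (D.map φ) := fun a b φ => inferInstance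
  obtain ⟨J, hJ⟩ := H8ProCons.exists_finite_iInter_subset hind
    (fun p : Σ a : I, (a ⟶ i) => D.map p.2 '' Set.univ)
    (fun p => H8ProCons.isProConstructible_image _ (by
      rw [H8ProCons.isProConstructible_iff_compl, Set.compl_univ]
      exact H8ProCons.isIndConstructible_of_isOpen isOpen_empty))
    (fun x hx => by
      have hx' : x ∈ Set.range (c.π.app i) := by
        rw [H8Lim.range_π_eq hc i]
        simp only [Set.mem_iInter] at hx ⊢
        intro a φ
        simpa using hx ⟨a, φ⟩
      obtain ⟨y, rfl⟩ := hx'
      show ui (c.π.app i y) ∈ SGA3x.neutralSet G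
      rw [← Scheme.Hom.comp_apply, h1]
      exact hN ⟨y, rfl⟩)
  obtain ⟨b, g, gb, hg⟩ := IsCofiltered.wideCospan (fun p : J => p.1.2)
  refine ⟨b, D.map g ≫ ui, by rw [Category.assoc, h2]; exact hq _ _ g, ?_, by rw [← Category.assoc, c.w g, h1]⟩
  rintro _ ⟨x, rfl⟩
  rw [Scheme.Hom.comp_apply]
  refine hJ ?_
  simp only [Set.mem_iInter]
  intro p hp
  refine ⟨D.map (gb ⟨p, hp⟩) x, trivial, ?_⟩
  show D.map p.2 (D.map (gb ⟨p, hp⟩) x) = D.map g x
  rw [← Scheme.Hom.comp_apply, ← Functor.map_comp, hg ⟨p, hp⟩]

end Groth.Agent.S5401
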