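import Groth.Statements.S5402
import Groth.Agent.SGA3Homog26.Translate
import Groth.Agent.SGA3Homog26.QuasiSection

set_option autoImplicit false
set_option linter.style.haveILetI false
set_option backward.isDefEq.respectTransparency.types false
universe u
open CategoryTheory CategoryTheory.Limits MonoidalCategory CartesianMonoidalCategory MonObj GrpObj AlgebraicGeometry
open SGA3

namespace Groth.Agent.S5402

/-- Let G be an S-group scheme locally of finite presentation over S and universally open over S on some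
open containing the unit section, acting on an S-scheme X so that G ×_S X → X ×_S X, (g, x) ↦ (gx,
x), is surjective. Let U be an open subset of X, s a point of S such that the fibre X_s is locally
of finite type over κ(s) and U ∩ X_s is dense in X_s, and A a finite set of points of X_s. Then
there are morphisms S'' → S' → S, the first finite and surjective and the second etale, with exactly
one point of S'' lying over s, and an S-morphism h : S'' → G, such that for every point z of X ×_S
S'' whose image in X lies in A, the image in X of the translate h·z lies in U. -/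
theorem result (S : Scheme.{u}) (G X : Over S) [GrpObj G]
    [LocallyOfFinitePresentation G.hom]
    (hGo : ∃ W : G.left.Opens, (∀ p : ↥(𝟙_ (Over S)).left, η[G].left.base p ∈ W) ∧ UniversallyOpen (W.ι ≫ G.hom))
    (a : AlgGrp.Action G X) (hΦ : Surjective (lift a.act (snd G X)).left)
    (U : X.left.Opens) (s : S) (hft : LocallyOfFiniteType (X.hom.fiberToSpecResidueField s))
    (hdense : X.hom.base ⁻¹' {s} ⊆ closure ((U : Set X.left) ∩ X.hom.base ⁻¹' {s}))
    (A : Set X.left) (hA : A.Finite) (hAs : A ⊆ X.hom.base ⁻¹' {s}) :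
    ∃ (S' S'' : Scheme.{u}) (w : S' ⟶ S) (π : S'' ⟶ S') (h : Over.mk (π ≫ w) ⟶ G),
      Etale w ∧ IsFinite π ∧ Surjective π ∧ (∃ s₀ : S'', (π ≫ w).base ⁻¹' {s} = {s₀}) ∧
      ∀ z : ↥(X ⊗ Over.mk (π ≫ w)).left, (fst X (Over.mk (π ≫ w))).left.base z ∈ A →
        (lift (snd X (Over.mk (π ≫ w)) ≫ h) (fst X (Over.mk (π ≫ w))) ≫ a.act).left.base z ∈ U := by
  -- the fibre over `s`
  let k := S.residueField s
  let f := S.fromSpecResidueField s
  let F := Over.pullback f
  letI : GrpObj (Red.bc f G) := Red.grpObj_bc f G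
  let a' := a.bc f
  let pG : (Red.bc f G).left ⟶ G.left := pullback.fst G.hom f
  let pX : (Red.bc f X).left ⟶ X.left := pullback.fst X.hom f
  haveI : LocallyOfFiniteType (Red.bc f X).hom := hft
  haveI : LocallyOfFiniteType (Red.bc f G).hom := inferInstanceAs (LocallyOfFiniteType (pullback.snd G.hom f))
  let pt : ↥(Spec k) := IsLocalRing.closedPoint (S.residueField s)
  have hmap : ∀ {Y Z : Over S} (φ : Y ⟶ Z), (F.map φ).left ≫ pullback.fst Z.hom f = pullback.fst Y.hom f ≫ φ.left :=
    fun φ => pullback.lift_fst _ _ _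
  let q : (Red.bc f G ⊗ Red.bc f X).left ⟶ (G ⊗ X).left :=
    (Functor.LaxMonoidal.μ F G X).left ≫ pullback.fst (G ⊗ X).hom f
  have key : ∀ {Z : Over S} (φ : G ⊗ X ⟶ Z), q ≫ φ.left =
      (Functor.LaxMonoidal.μ F G X ≫ F.map φ).left ≫ pullback.fst Z.hom f := fun φ =>
    (Category.assoc _ _ _).trans ((congrArg ((Functor.LaxMonoidal.μ F G X).left ≫ ·) (hmap φ).symm).trans
      (Category.assoc _ _ _).symm)
  have e1 : q ≫ (fst G X).left = (fst (Red.bc f G) (Red.bc f X)).left ≫ pG :=
    (key (fst G X)).trans (congrArg (fun t : Red.bc f G ⊗ Red.bc f X ⟶ Red.bc f G => t.left ≫ pullback.fst G.hom f)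
      (Functor.Monoidal.μ_fst F G X))
  have e2 : q ≫ (snd G X).left = (snd (Red.bc f G) (Red.bc f X)).left ≫ pX :=
    (key (snd G X)).trans (congrArg (fun t : Red.bc f G ⊗ Red.bc f X ⟶ Red.bc f X => t.left ≫ pullback.fst X.hom f)
      (Functor.Monoidal.μ_snd F G X))
  have e3 : q ≫ a.act.left = a'.act.left ≫ pX := key a.act
  obtain ⟨W, hW1, hWo⟩ := hGo
  let A' : Set ↥(Red.bc f X).left := pX ⁻¹' A
  have hX : Topology.IsEmbedding pX := (X.hom.fiberι s).isEmbedding
  have hG : Topology.IsEmbedding pG := (G.hom.fiberι s).isEmbedding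
  have hU' : Dense ((pX ⁻¹ᵁ U : (Red.bc f X).left.Opens) : Set ↥(Red.bc f X).left) := fun y => by
    rw [hX.closure_eq_preimage_closure_image]
    show pX y ∈ closure (pX '' (pX ⁻¹' (U : Set X.left)))
    rw [Set.image_preimage_eq_inter_range, show Set.range pX = X.hom.base ⁻¹' {s} from X.hom.range_fiberι s]
    exact hdense ((X.hom.range_fiberι s).le ⟨y, rfl⟩)
  have hW' : η[Red.bc f G].left pt ∈ pG ⁻¹ᵁ W := by
    show pG (η[Red.bc f G].left pt) ∈ W
    have e' : η[Red.bc f G].left ≫ pG =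
        ((Functor.LaxMonoidal.ε F).left ≫ pullback.fst (𝟙_ (Over S)).hom f) ≫ η[G].left :=
      (Category.assoc _ _ _).trans ((congrArg ((Functor.LaxMonoidal.ε F).left ≫ ·) (hmap η[G])).trans
        (Category.assoc _ _ _).symm)
    rw [← Scheme.Hom.comp_apply, e', Scheme.Hom.comp_apply]
    exact hW1 _
  obtain ⟨g, hgW, hgc, hg⟩ := SGA3Homog26.exists_closed_translate (k := S.residueField s)
    (G := Red.bc f G) (X := Red.bc f X) a' (SGA3cLib.surjective_bc a hΦ f) (pX ⁻¹ᵁ U) hU' (pG ⁻¹ᵁ W) hW'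
    A' (hA.preimage hX.injective.injOn)
  -- a quasi-section through `g₀`
  let g₀ := pG g
  have hg₀s : G.hom g₀ = s := (G.hom.range_fiberι s).le ⟨g, rfl⟩
  have hcl : ∀ x', G.hom x' = G.hom g₀ → g₀ ⤳ x' → x' = g₀ := fun x' hx' hs => by
    obtain ⟨y, rfl⟩ : x' ∈ Set.range pG := (G.hom.range_fiberι s).ge (hx'.trans hg₀s)
    exact congrArg pG (hgc.closure_subset (specializes_iff_mem_closure.1 (hG.isInducing.specializes_iff.1 hs)))
  obtain ⟨z, hz, hze, hzmax, hzd⟩ := EGA43.Chevalley.exists_maximal_fibreDimAt G.hom g₀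
  have hzo : EGA43.IsUnivOpenAt G.hom z := by
    have h1 := EGA43.DvrCrit.isUnivOpenAt_of_universallyOpen (f := W.ι ≫ G.hom) ⟨z, hz.mem_open W.isOpen hgW⟩
    exact EGA43.Chevalley.isUnivOpenAt_of_comp W.ι G.hom _ h1
  obtain ⟨S', S'', _, w, π, h, hw, hπ, hπs, hπf, hcomm, s'', hs'', hhs, -⟩ :=
    SGA3Homog26.exists_quasiSection G.hom hg₀s hz hze hzmax hcl (fun v hv hve => by
      have h1 := (FlatMorDim.fibreDimAt_le_iff G.hom g₀ (EGA43.DimFormula.trdAt G.hom z)).1 hzd.le v hve hv
      exact_mod_cast h1) hzo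
  let hh : Over.mk (π ≫ w) ⟶ G := Over.homMk h hcomm
  refine ⟨S', S'', w, π, hh, hw, hπ, hπs, ⟨s'', hs''⟩, fun z hzA => ?_⟩
  let T := Over.mk (π ≫ w)
  let m : X ⊗ T ⟶ G ⊗ X := lift (snd X T ≫ hh) (fst X T)
  show (m ≫ a.act).left z ∈ U
  have hsnd : (snd G X).left (m.left z) = (fst X T).left z := by
    rw [← Scheme.Hom.comp_apply, ← Over.comp_left, lift_snd]
  have hfst : (fst G X).left (m.left z) = g₀ := by
    rw [← Scheme.Hom.comp_apply, ← Over.comp_left, lift_fst]
    show h ((snd X T).left z) = g₀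
    have hzs : (snd X T).left z ∈ (π ≫ w).base ⁻¹' {s} := by
      show T.hom ((snd X T).left z) = s
      rw [← Scheme.Hom.comp_apply, Over.w (snd X T), ← Over.w (fst X T), Scheme.Hom.comp_apply]
      exact hAs hzA
    rw [hs''] at hzs
    rw [Set.mem_singleton_iff.1 hzs]
    exact hhs
  obtain ⟨p, hp⟩ : m.left z ∈ Set.range q := by
    haveI : IsIso (Functor.LaxMonoidal.μ F G X).left :=
      inferInstanceAs (IsIso ((Over.forget _).map (Functor.LaxMonoidal.μ F G X)))
    obtain ⟨b, hb⟩ : m.left z ∈ Set.range (pullback.fst (G ⊗ X).hom f) := by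
      refine ((G ⊗ X).hom.range_fiberι s).ge ?_
      show (G ⊗ X).hom (m.left z) = s
      rw [← Over.w (snd G X), Scheme.Hom.comp_apply, hsnd]
      exact hAs hzA
    obtain ⟨p, hp⟩ := (Functor.LaxMonoidal.μ F G X).left.surjective b
    exact ⟨p, by rw [← hb, ← hp, Scheme.Hom.comp_apply]⟩
  have h1 : pG ((fst (Red.bc f G) (Red.bc f X)).left p) = g₀ := by
    rw [← Scheme.Hom.comp_apply, ← e1, Scheme.Hom.comp_apply, hp, hfst]
  have h2 : pX ((snd (Red.bc f G) (Red.bc f X)).left p) ∈ A := by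
    rw [← Scheme.Hom.comp_apply, ← e2, Scheme.Hom.comp_apply, hp, hsnd]
    exact hzA
  have h3 := hg p (hG.injective h1) h2
  change pX (a'.act.left p) ∈ U at h3
  rw [← Scheme.Hom.comp_apply, ← e3, Scheme.Hom.comp_apply, hp] at h3
  rw [Over.comp_left, Scheme.Hom.comp_apply]
  exact h3

end Groth.Agent.S5402
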