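import Groth.Statements.S5410
import Groth.Agent.FinNormal26.Basic
import Groth.Agent.S3025
-- import your own Groth.Agent.* helpers here

set_option autoImplicit false
set_option linter.style.haveILetI false
set_option backward.isDefEq.respectTransparency.types false
set_option maxHeartbeats 1000000
set_option synthInstance.maxHeartbeats 200000
universe u
open CategoryTheory MonoidalCategory CartesianMonoidalCategory MonObj GrpObj AlgebraicGeometry CategoryTheory.Limits
open SGA3x

namespace Groth.Agent.S5410

/-- Let G be an S-group scheme, smooth and of finite presentation over S, with affine connected fibres,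
whose centre j : Z → G is of multiplicative type (e.g. G of unipotent rank zero). Let k : K → G be a
closed normal subgroup scheme of G which is of finite presentation and quasi-finite over S. Then K
is finite over S. -/
theorem result (S : Scheme.{u}) (G : Over S) [GrpObj G] [Smooth G.hom] [QuasiCompact G.hom] [QuasiSeparated G.hom]
    (haff : ∀ s : S, IsAffine (pullback G.hom (S.fromSpecResidueField s)))
    (hconn : ∀ s : S, _root_.IsConnected (G.hom.base ⁻¹' {s}))
    (Z : Over S) [GrpObj Z] (j : Z ⟶ G) (hZ : Red.IsCentre j) (hZm : SGA3x.IsMultTypeFT Z)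
    (K : Over S) [GrpObj K] (k : K ⟶ G) [IsMonHom k] [IsClosedImmersion k.left] (hKn : AlgGrp.IsNormalHom k)
    [LocallyOfFinitePresentation K.hom] [QuasiCompact K.hom] [QuasiSeparated K.hom] [LocallyQuasiFinite K.hom] :
    IsFinite K.hom := by
  classical
  haveI : UniversallyOpen G.hom := UniversallyOpen.of_flat G.hom
  haveI : IsSeparated G.hom := (Groth.Agent.S3025.result S G hconn).1
  haveI : IsSeparated K.hom := by rw [← Over.w k]; infer_instance
  haveI : Mono k := Over.mono_of_mono_left k
  haveI hjh := hZ.1
  haveI hjm := hZ.2.1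
  have hconn' : ∀ s : S, ConnectedSpace ↥(pullback G.hom (S.fromSpecResidueField s)) := fun s => by
    haveI : ConnectedSpace ↥(G.hom.base ⁻¹' {s}) := isConnected_iff_connectedSpace.mp (hconn s)
    exact (G.hom.fiberHomeo s).connectedSpace_iff.mpr this
  haveI : UniversallyClosed K.hom := by
    refine UniversallyClosed.of_valuativeCriterion K.hom fun Sq => ?_
    obtain ⟨R, L, i₁, i₂, ⟨w⟩⟩ := Sq
    let π : Spec (CommRingCat.of L) ⟶ Spec (CommRingCat.of R) := Spec.map (CommRingCat.ofHom (algebraMap R L))
    let ω : Spec (CommRingCat.of L) ⟶ S := π ≫ i₂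
    let x : Over.mk ω ⟶ K := Over.homMk i₁ w
    obtain ⟨z, hz⟩ := (hZ.2.2 (Over.mk ω) (x ≫ k)).2 fun X' y h => by
      rw [Category.comp_id]
      exact FinNormal26.central_point k ω hKn hconn' x X' y h
    haveI := FinNormal26.finite_pts (K := K) ω
    let n := orderOf x
    have hn : 0 < n := orderOf_pos x
    have hxn : x ^ n = 1 := pow_orderOf_eq_one x
    have hzn : z ≫ (𝟙 Z) ^ n = 1 := by
      rw [MonObj.comp_pow, Category.comp_id, ← cancel_mono j, MonObj.pow_comp, hz, ← MonObj.pow_comp, hxn,
        MonObj.one_comp, MonObj.one_comp]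
    haveI := FinNormal26.isFinite_pow hZm hn.ne'
    let one' : Spec (CommRingCat.of R) ⟶ Z.left := (1 : Over.mk i₂ ⟶ Z).left
    have hsq : CommSq z.left π ((𝟙 Z) ^ n).left one' := ⟨by
      rw [← Over.comp_left, hzn]
      have h1 : (Over.homMk π rfl : Over.mk ω ⟶ Over.mk i₂) ≫ (1 : Over.mk i₂ ⟶ Z) = 1 := MonObj.comp_one _
      exact (congrArg CommaMorphism.left h1).symm⟩
    have hex : ValuativeCriterion.Existence ((𝟙 Z) ^ n).left := by
      have h : (ValuativeCriterion.Existence ⊓ @QuasiCompact) ((𝟙 Z) ^ n).left := by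
        rw [← UniversallyClosed.eq_valuativeCriterion]
        infer_instance
      exact h.1
    obtain ⟨⟨zR, hzR1, hzR2⟩⟩ := (hex ⟨R, L, z.left, one', hsq⟩).exists_lift
    have hzRhom : zR ≫ Z.hom = i₂ := by
      rw [← Over.w ((𝟙 Z) ^ n), ← Category.assoc, hzR2]
      exact Over.w (1 : Over.mk i₂ ⟶ Z)
    let g : Spec (CommRingCat.of R) ⟶ G.left := zR ≫ j.left
    have hg : π ≫ g = i₁ ≫ k.left := by
      show π ≫ zR ≫ j.left = _
      rw [reassoc_of% hzR1, ← Over.comp_left, hz]
      rfl
    haveI : IsDominant π := by
      constructor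
      exact PrimeSpectrum.denseRange_comap_iff_ker_le_nilRadical (algebraMap R L) |>.2 (by
        rw [(RingHom.injective_iff_ker_eq_bot _).1 (IsFractionRing.injective R L)]; exact bot_le)
    haveI : Surjective (pullback.fst g k.left) := by
      haveI : IsDominant (pullback.lift π i₁ hg ≫ pullback.fst g k.left) := by
        rw [pullback.lift_fst]; infer_instance
      haveI : IsDominant (pullback.fst g k.left) :=
        IsDominant.of_comp (pullback.lift π i₁ hg) (pullback.fst g k.left)
      exact surjective_of_isDominant_of_isClosed_range _ (Scheme.Hom.isClosedEmbedding _).isClosed_range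
    haveI := isIso_of_isClosedImmersion_of_surjective (pullback.fst g k.left)
    let l : Spec (CommRingCat.of R) ⟶ K.left := inv (pullback.fst g k.left) ≫ pullback.snd g k.left
    have hl : l ≫ k.left = g := by
      rw [Category.assoc, ← pullback.condition, IsIso.inv_hom_id_assoc]
    refine ⟨⟨⟨l, ?_, ?_⟩⟩⟩
    · rw [← cancel_mono k.left, Category.assoc, hl, hg]
    · show l ≫ K.hom = i₂
      calc l ≫ K.hom = (l ≫ k.left) ≫ G.hom := ((congrArg (l ≫ ·) (Over.w k)).symm.trans (Category.assoc _ _ _).symm)
        _ = i₂ := by rw [hl, Category.assoc, Over.w j, hzRhom]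
  haveI : LocallyOfFiniteType K.hom := inferInstance
  haveI : IsProper K.hom := ⟨⟩
  exact IsFinite.of_isProper_of_locallyQuasiFinite K.hom

end Groth.Agent.S5410
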