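import Groth.Statements.S5411
import Groth.Agent.S5410
import Groth.Agent.FinNormal26.Nhd
import Groth.Agent.MaxTorus26.Basic
-- import your own Groth.Agent.* helpers here

set_option autoImplicit false
set_option linter.style.haveILetI false
set_option backward.isDefEq.respectTransparency.types false
set_option maxHeartbeats 1000000
set_option synthInstance.maxHeartbeats 200000
universe u
open CategoryTheory MonoidalCategory CartesianMonoidalCategory MonObj GrpObj AlgebraicGeometry CategoryTheory.Limits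
open SGA3x

namespace Groth.Agent.S5411

/-- Near a point with finite fibre a closed normal subgroup as in the statement is finite. -/
theorem finite_nhd (S : Scheme.{u}) (G : Over S) [GrpObj G] [Smooth G.hom] [QuasiCompact G.hom] [QuasiSeparated G.hom]
    (haff : ∀ s : S, IsAffine (pullback G.hom (S.fromSpecResidueField s)))
    (hconn : ∀ s : S, _root_.IsConnected (G.hom.base ⁻¹' {s}))
    (Z : Over S) [GrpObj Z] (j : Z ⟶ G) (hZ : Red.IsCentre j) (hZm : SGA3x.IsMultTypeFT Z)
    (K : Over S) [GrpObj K] (k : K ⟶ G) [IsMonHom k] [IsClosedImmersion k.left] (hKn : AlgGrp.IsNormalHom k)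
    [LocallyOfFinitePresentation K.hom] [QuasiCompact K.hom] [QuasiSeparated K.hom] (s : S)
    (hs : IsFinite (Red.bc (S.fromSpecResidueField s) K).hom) :
    ∃ U : S.Opens, s ∈ U ∧ IsFinite (Red.bc U.ι K).hom := by
  obtain ⟨U, hsU, hlqf⟩ := FinNormal26.exists_lqf_nhd K s hs
  refine ⟨U, hsU, ?_⟩
  haveI := hlqf
  haveI : Smooth (Red.bc U.ι G).hom := inferInstanceAs (Smooth (pullback.snd G.hom U.ι))
  haveI : QuasiCompact (Red.bc U.ι G).hom := inferInstanceAs (QuasiCompact (pullback.snd G.hom U.ι))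
  haveI : QuasiSeparated (Red.bc U.ι G).hom := inferInstanceAs (QuasiSeparated (pullback.snd G.hom U.ι))
  haveI : LocallyOfFinitePresentation (Red.bc U.ι K).hom :=
    inferInstanceAs (LocallyOfFinitePresentation (pullback.snd K.hom U.ι))
  haveI : QuasiCompact (Red.bc U.ι K).hom := inferInstanceAs (QuasiCompact (pullback.snd K.hom U.ι))
  haveI : QuasiSeparated (Red.bc U.ι K).hom := inferInstanceAs (QuasiSeparated (pullback.snd K.hom U.ι))
  haveI : IsClosedImmersion ((Over.pullback U.ι).map k).left :=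
    MorphismProperty.of_isPullback (P := @IsClosedImmersion) (SGA3cLib.MultHomLocus.isPullback_map k U.ι) inferInstance
  have hconn' : ∀ t : S, ConnectedSpace ↥(pullback G.hom (S.fromSpecResidueField t)) := fun t => by
    haveI : ConnectedSpace ↥(G.hom.base ⁻¹' {t}) := isConnected_iff_connectedSpace.mp (hconn t)
    exact (G.hom.fiberHomeo t).connectedSpace_iff.mpr this
  refine S5410.result (U : Scheme.{u}) (Red.bc U.ι G) (fun t => ?_) (fun t => ?_) (Red.bc U.ι Z)
    ((Over.pullback U.ι).map j) ?_ (SGA3cLib.CentralDescent.isMultTypeFT_bc U.ι Z hZm) (Red.bc U.ι K)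
    ((Over.pullback U.ι).map k) ?_
  · obtain ⟨⟨u, θ⟩, hu⟩ := (Scheme.SpecToEquivOfField _ S).symm.surjective
      ((U : Scheme.{u}).fromSpecResidueField t ≫ U.ι)
    have hu' : Spec.map θ ≫ S.fromSpecResidueField u = (U : Scheme.{u}).fromSpecResidueField t ≫ U.ι := hu
    haveI := haff u
    haveI : IsAffine (pullback (pullback.snd G.hom (S.fromSpecResidueField u)) (Spec.map θ)) := inferInstance
    have h0 : IsAffine (pullback G.hom (Spec.map θ ≫ S.fromSpecResidueField u)) :=
      IsAffine.of_isIso (pullbackLeftPullbackSndIso G.hom (S.fromSpecResidueField u) (Spec.map θ)).inv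
    haveI : IsAffine (pullback G.hom ((U : Scheme.{u}).fromSpecResidueField t ≫ U.ι)) := hu' ▸ h0
    exact IsAffine.of_isIso (pullbackLeftPullbackSndIso G.hom U.ι ((U : Scheme.{u}).fromSpecResidueField t)).hom
  · haveI : ConnectedSpace ↥(pullback G.hom ((U : Scheme.{u}).fromSpecResidueField t ≫ U.ι)) :=
      SGA3cLib.NormalMultCentral.connectedSpace_bc G hconn' _
    haveI : ConnectedSpace ↥((Red.bc U.ι G).hom.fiber t) :=
      (pullbackLeftPullbackSndIso G.hom U.ι ((U : Scheme.{u}).fromSpecResidueField t)).hom.homeomorph.connectedSpace_iff.mpr this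
    exact isConnected_iff_connectedSpace.mpr (((Red.bc U.ι G).hom.fiberHomeo t).connectedSpace_iff.mp this)
  · have h := MaxTorus26.isCentralizerOf_bc U.ι hZ
    rwa [CategoryTheory.Functor.map_id] at h
  · intro T g₁ n₁
    obtain ⟨g₂, rfl⟩ := (SGA3cLib.BCPoints.pt U.ι G T).surjective g₁
    obtain ⟨n₂, rfl⟩ := (SGA3cLib.BCPoints.pt U.ι K T).surjective n₁
    obtain ⟨n₃, hn₃⟩ := hKn _ g₂ n₂
    refine ⟨SGA3cLib.BCPoints.pt U.ι K T n₃, ?_⟩
    rw [← SGA3cLib.BCPoints.pt_comp, ← SGA3cLib.BCPoints.pt_comp, ← SGA3cLib.BCPoints.pt_inv,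
      ← SGA3cLib.BCPoints.pt_mul, ← SGA3cLib.BCPoints.pt_mul, hn₃]

/-- Let G be an S-group scheme, smooth and of finite presentation over S, with affine connected fibres,
whose centre j : Z → G is of multiplicative type; let k : K → G be a closed normal subgroup scheme
of G, of finite presentation over S, and s a point of S. If K_s is finite over κ(s), there is an
open neighbourhood U of s over which K is finite; if K_s is the trivial group, there is an open
neighbourhood U of s over which K is the trivial group. -/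
theorem result (S : Scheme.{u}) (G : Over S) [GrpObj G] [Smooth G.hom] [QuasiCompact G.hom] [QuasiSeparated G.hom]
    (haff : ∀ s : S, IsAffine (pullback G.hom (S.fromSpecResidueField s)))
    (hconn : ∀ s : S, _root_.IsConnected (G.hom.base ⁻¹' {s}))
    (Z : Over S) [GrpObj Z] (j : Z ⟶ G) (hZ : Red.IsCentre j) (hZm : SGA3x.IsMultTypeFT Z)
    (K : Over S) [GrpObj K] (k : K ⟶ G) [IsMonHom k] [IsClosedImmersion k.left] (hKn : AlgGrp.IsNormalHom k)
    [LocallyOfFinitePresentation K.hom] [QuasiCompact K.hom] [QuasiSeparated K.hom] (s : S) :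
    (IsFinite (Red.bc (S.fromSpecResidueField s) K).hom →
      ∃ U : S.Opens, s ∈ U ∧ IsFinite (Red.bc U.ι K).hom) ∧
    (Red.IsTrivialGrp (Red.bc (S.fromSpecResidueField s) K) →
      ∃ U : S.Opens, s ∈ U ∧ Red.IsTrivialGrp (Red.bc U.ι K)) := by
  refine ⟨finite_nhd S G haff hconn Z j hZ hZm K k hKn s, fun htriv => ?_⟩
  haveI : IsIso (Red.bc (S.fromSpecResidueField s) K).hom := htriv
  obtain ⟨U, hsU, hfin⟩ := finite_nhd S G haff hconn Z j hZ hZm K k hKn s inferInstance
  haveI : IsFinite (Red.bc U.ι K).hom := hfin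
  have hs' : IsIso ((Red.bc U.ι K).hom.fiberToSpecResidueField ⟨s, hsU⟩) := by
    let t : (U : Scheme.{u}) := ⟨s, hsU⟩
    obtain ⟨⟨u, θ⟩, hu⟩ := (Scheme.SpecToEquivOfField _ S).symm.surjective
      ((U : Scheme.{u}).fromSpecResidueField t ≫ U.ι)
    have hu' : Spec.map θ ≫ S.fromSpecResidueField u = (U : Scheme.{u}).fromSpecResidueField t ≫ U.ι := hu
    obtain rfl : u = s := by
      have := congrArg (fun q : Spec ((U : Scheme.{u}).residueField t) ⟶ S => q (IsLocalRing.closedPoint _)) hu'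
      erw [Scheme.Hom.comp_apply, Scheme.fromSpecResidueField_apply, Scheme.Hom.comp_apply,
        Scheme.fromSpecResidueField_apply] at this
      exact this
    haveI : IsIso (pullback.snd K.hom (S.fromSpecResidueField u)) := htriv
    have h0 : IsIso (pullback.snd K.hom (Spec.map θ ≫ S.fromSpecResidueField u)) := by
      rw [← pullbackLeftPullbackSndIso_inv_snd_snd]
      infer_instance
    haveI : IsIso (pullback.snd K.hom ((U : Scheme.{u}).fromSpecResidueField t ≫ U.ι)) := hu' ▸ h0
    show IsIso (pullback.snd (pullback.snd K.hom U.ι) ((U : Scheme.{u}).fromSpecResidueField t))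
    rw [← pullbackLeftPullbackSndIso_hom_snd]
    infer_instance
  obtain ⟨V, hsV, hV⟩ := FinNormal26.exists_iso_nhd (Red.bc U.ι K).hom η[Red.bc U.ι K].left (Over.w η[Red.bc U.ι K]) ⟨s, hsU⟩ hs'
  refine ⟨U.ι ''ᵁ V, ⟨⟨s, hsU⟩, hsV, rfl⟩, ?_⟩
  haveI : IsIso (pullback.snd (pullback.snd K.hom U.ι) V.ι) := hV
  haveI : IsIso (pullback.snd K.hom (V.ι ≫ U.ι)) := by
    rw [← pullbackLeftPullbackSndIso_inv_snd_snd]
    infer_instance
  let i : (V : Scheme.{u}) ≅ (U.ι ''ᵁ V : Scheme.{u}) := U.ι.isoImage V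
  show IsIso (pullback.snd K.hom (U.ι ''ᵁ V).ι)
  have hi : V.ι ≫ U.ι = i.hom ≫ (U.ι ''ᵁ V).ι := (U.ι.isoImage_hom_ι V).symm
  haveI : IsIso (pullback.snd K.hom (i.hom ≫ (U.ι ''ᵁ V).ι)) := by rw [← hi]; infer_instance
  have h : IsPullback (pullback.fst K.hom (i.hom ≫ (U.ι ''ᵁ V).ι)) (pullback.snd K.hom (i.hom ≫ (U.ι ''ᵁ V).ι) ≫ i.hom)
      K.hom (U.ι ''ᵁ V).ι :=
    (IsPullback.of_hasPullback K.hom (i.hom ≫ (U.ι ''ᵁ V).ι)).of_iso (Iso.refl _) (Iso.refl _) i (Iso.refl _)
      (by simp) (by simp) (by simp) (by simp)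
  rw [← h.isoPullback_inv_snd]
  infer_instance

end Groth.Agent.S5411
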