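import Groth.Statements.S5415
import Groth.Agent.Et18.Descent
import Mathlib.CategoryTheory.Limits.Constructions.Over.Connected

set_option backward.isDefEq.respectTransparency.types false

set_option linter.style.haveILetI false
set_option autoImplicit false
universe u
open CategoryTheory MonoidalCategory CartesianMonoidalCategory MonObj GrpObj AlgebraicGeometry CategoryTheory.Limits
open SGA3x

namespace Groth.Agent.S5415

/-- Let G be an S-group scheme of finite presentation over S, p : G → G'' a homomorphism which is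
surjective, flat and locally of finite presentation onto an S-group scheme G'' proper and of finite
presentation over S, and i : G' → G its kernel, with G' flat and of finite presentation over S. Let
H be an S-group scheme which is of finite presentation over S, or locally of finite presentation
over a locally Noetherian S, and u : G → H a homomorphism. If the restriction u ∘ i of u to G' is
proper, then u is proper. -/
theorem result (S : Scheme.{u}) (G G' G'' : Over S) [GrpObj G] [GrpObj G'] [GrpObj G'']
    [QuasiCompact G.hom] [QuasiSeparated G.hom] [LocallyOfFinitePresentation G.hom]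
    [IsProper G''.hom] [LocallyOfFinitePresentation G''.hom]
    [Flat G'.hom] [QuasiCompact G'.hom] [QuasiSeparated G'.hom] [LocallyOfFinitePresentation G'.hom]
    (p : G ⟶ G'') [IsMonHom p] [Surjective p.left] [Flat p.left] [LocallyOfFinitePresentation p.left]
    (i : G' ⟶ G) [IsMonHom i] (hker : AlgGrp.IsKernel i p)
    (H : Over S) [GrpObj H] [LocallyOfFinitePresentation H.hom]
    (hH : (QuasiCompact H.hom ∧ QuasiSeparated H.hom) ∨ IsLocallyNoetherian S)
    (u : G ⟶ H) [IsMonHom u] (hu : IsProper (i ≫ u).left) : IsProper u.left := by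
  let F : G ⟶ G'' ⊗ H := lift p u
  let sh : G ⊗ H ≅ G ⊗ H :=
    { hom := lift (fst G H) ((fst G H ≫ u) * snd G H)
      inv := lift (fst G H) ((fst G H ≫ u)⁻¹ * snd G H)
      hom_inv_id := by ext <;> simp [MonObj.comp_mul, GrpObj.comp_inv, ← _root_.mul_assoc]
      inv_hom_id := by ext <;> simp [MonObj.comp_mul, GrpObj.comp_inv, ← _root_.mul_assoc] }
  have hpb : IsPullback ((G ◁ (i ≫ u)) ≫ sh.hom) (fst G G' * (snd G G' ≫ i)) (p ▷ H) F := by
    have hsq : ((G ◁ (i ≫ u)) ≫ sh.hom) ≫ (p ▷ H) = (fst G G' * (snd G G' ≫ i)) ≫ F := by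
      apply CartesianMonoidalCategory.hom_ext
      · have hip : i ≫ p = 1 := by rw [hker.w, Hom.one_def]
        simp only [F, sh, Category.assoc, whiskerRight_fst, lift_fst, lift_fst_assoc, whiskerLeft_fst_assoc]
        rw [MonObj.mul_comp, Category.assoc, hip, MonObj.comp_one, _root_.mul_one]
      · simp only [F, sh, Category.assoc, whiskerRight_snd, lift_snd, MonObj.comp_mul, MonObj.mul_comp,
          whiskerLeft_fst_assoc, whiskerLeft_snd]
    have lft : ∀ {X : Over S} (a : X ⟶ G ⊗ H) (b : X ⟶ G), a ≫ (p ▷ H) = b ≫ F →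
        ∃ l : X ⟶ G ⊗ G', l ≫ ((G ◁ (i ≫ u)) ≫ sh.hom) = a ∧ l ≫ (fst G G' * (snd G G' ≫ i)) = b := by
      intro X a b hab
      have h₁ := congrArg (fun z => z ≫ fst G'' H) hab
      have h₂ := congrArg (fun z => z ≫ snd G'' H) hab
      simp only [F, Category.assoc, whiskerRight_fst, whiskerRight_snd, lift_fst, lift_snd] at h₁ h₂
      have hk : ((a ≫ fst G H)⁻¹ * b) ≫ p = toUnit X ≫ η[G''] := by
        rw [MonObj.mul_comp, GrpObj.inv_comp, Category.assoc, h₁, inv_mul_cancel, Hom.one_def]
      obtain ⟨k, hk₁, -⟩ := hker.exists_lift ((a ≫ fst G H)⁻¹ * b) (toUnit X) hk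
      refine ⟨lift (a ≫ fst G H) k, ?_, ?_⟩
      · apply CartesianMonoidalCategory.hom_ext
        · simp [sh]
        · simp only [sh, Category.assoc, lift_snd, MonObj.comp_mul, lift_fst_assoc, whiskerLeft_fst_assoc,
            whiskerLeft_snd, lift_snd_assoc]
          rw [← Category.assoc k i u, hk₁, MonObj.mul_comp, GrpObj.inv_comp, Category.assoc, ← h₂]
          rw [← _root_.mul_assoc, mul_inv_cancel, _root_.one_mul]
      · rw [MonObj.comp_mul, lift_fst, lift_snd_assoc, hk₁, ← _root_.mul_assoc, mul_inv_cancel, _root_.one_mul]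
    have uniq : ∀ {X : Over S} (l l' : X ⟶ G ⊗ G'),
        l ≫ ((G ◁ (i ≫ u)) ≫ sh.hom) = l' ≫ ((G ◁ (i ≫ u)) ≫ sh.hom) →
        l ≫ (fst G G' * (snd G G' ≫ i)) = l' ≫ (fst G G' * (snd G G' ≫ i)) → l = l' := by
      intro X l l' ha hb
      have h₁ : l ≫ fst G G' = l' ≫ fst G G' := by
        simpa [sh] using congrArg (fun z => z ≫ fst G H) ha
      have h₂ : (l ≫ snd G G') ≫ i = (l' ≫ snd G G') ≫ i := by
        simpa only [MonObj.comp_mul, h₁, Category.assoc, mul_right_inj] using hb
      exact CartesianMonoidalCategory.hom_ext _ _ h₁ (hker.hom_ext h₂ (toUnit_unique _ _))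
    refine ⟨⟨hsq⟩, ⟨PullbackCone.IsLimit.mk hsq (fun s => (lft s.fst s.snd s.condition).choose)
      (fun s => (lft s.fst s.snd s.condition).choose_spec.1)
      (fun s => (lft s.fst s.snd s.condition).choose_spec.2)
      (fun s m hm₁ hm₂ => uniq _ _ (hm₁.trans (lft s.fst s.snd s.condition).choose_spec.1.symm)
        (hm₂.trans (lft s.fst s.snd s.condition).choose_spec.2.symm))⟩⟩
  haveI : QuasiSeparated G''.hom := inferInstance
  haveI : QuasiCompact p.left := by
    haveI : QuasiCompact (p.left ≫ G''.hom) := by rw [Over.w p]; infer_instance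
    exact QuasiCompact.of_comp p.left G''.hom
  have hπ : Et18.FPQC (p ▷ H).left := by
    rw [← tensorHom_id, Over.tensorHom_left]
    exact ⟨⟨MorphismProperty.pullbackMap (P := @Surjective) (inferInstance : Surjective p.left)
        (inferInstanceAs (Surjective (𝟙 H.left))) (Over.w p).symm (Category.id_comp H.hom).symm,
      MorphismProperty.pullbackMap (P := @Flat) (inferInstance : Flat p.left)
        (inferInstanceAs (Flat (𝟙 H.left))) (Over.w p).symm (Category.id_comp H.hom).symm⟩,
      MorphismProperty.pullbackMap (P := @QuasiCompact) (inferInstance : QuasiCompact p.left)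
        (inferInstanceAs (QuasiCompact (𝟙 H.left))) (Over.w p).symm (Category.id_comp H.hom).symm⟩
  haveI := Et18.descends_isProper.{u}
  have hF : IsProper F.left := by
    refine MorphismProperty.of_isPullback_of_descendsAlong (P := @IsProper) (Q := Et18.FPQC.{u})
      (hpb.map (Over.forget S)) hπ ?_
    show IsProper ((G ◁ (i ≫ u)) ≫ sh.hom).left
    haveI : IsIso sh.hom.left := ((Over.forget S).mapIso sh).isIso_hom
    haveI : IsProper (G ◁ (i ≫ u)).left := by
      rw [← id_tensorHom, Over.tensorHom_left]
      exact MorphismProperty.pullbackMap (P := @IsProper) (inferInstanceAs (IsProper (𝟙 G.left))) hu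
        (Category.id_comp G.hom).symm (Over.w (i ≫ u)).symm
    rw [Over.comp_left]
    infer_instance
  haveI := hF
  have hu' : u.left = F.left ≫ (snd G'' H).left := by rw [← Over.comp_left, lift_snd]
  haveI : IsProper (snd G'' H).left := inferInstanceAs (IsProper (pullback.snd G''.hom H.hom))
  rw [hu']
  infer_instance

end Groth.Agent.S5415
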