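import Groth.Statements.S5421
import Groth.Agent.SGA3cLib.CharSurj
import Groth.Agent.S5427
import Groth.Agent.FlatLocal.Descent
import Groth.Agent.Misc15.FreeMonoidAlgebra

set_option autoImplicit false
universe u
open CategoryTheory MonoidalCategory CartesianMonoidalCategory MonObj GrpObj AlgebraicGeometry CategoryTheory.Limits
open Red

namespace Groth.Agent.S5421

open Groth.Agent.SGA3cLib

theorem flat_of_local {X Y : Scheme.{u}} (f : X ⟶ Y)
    (h : ∀ x : X, ∃ (T : Scheme.{u}) (q : T ⟶ X), Flat q ∧ Flat (q ≫ f) ∧ x ∈ Set.range q.base) : Flat f := by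
  refine Flat.of_stalkMap f fun x ↦ ?_
  obtain ⟨T, q, hq, hqf, t, rfl⟩ := h x
  have h := Flat.stalkMap (q ≫ f) t
  rw [Scheme.Hom.stalkMap_comp] at h
  algebraize [(f.stalkMap (q t)).hom, (q.stalkMap t).hom,
    ((q.stalkMap t).hom.comp (f.stalkMap (q t)).hom)]
  have : Module.Flat (X.presheaf.stalk (q t)) (T.presheaf.stalk t) := Flat.stalkMap q t
  have : IsLocalHom (algebraMap (X.presheaf.stalk (q t)) (T.presheaf.stalk t)) := q.toLRSHom.prop t
  have : Module.FaithfullyFlat (X.presheaf.stalk (q t)) (T.presheaf.stalk t) :=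
    Module.FaithfullyFlat.of_flat_of_isLocalHom
  haveI : Module.Flat (Y.presheaf.stalk (f (q t))) (T.presheaf.stalk t) := h
  exact Groth.Agent.FlatCrit.flat_of_flat_of_faithfullyFlat (M := T.presheaf.stalk t)

theorem flat_DSmap {V : Scheme.{u}} {n : ℕ} (k : Fin n → ℤ) (hk : k ≠ 0) :
    Flat (Red.DSmap V (zmultiplesHom _ k : ℤ →+ (Fin n → ℤ))).left := by
  classical
  let f : Multiplicative ℤ →* Multiplicative (Fin n → ℤ) := AddMonoidHom.toMultiplicative (zmultiplesHom _ k)
  have hf : Function.Injective f := by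
    intro a b hab
    obtain ⟨i, hi⟩ := Function.ne_iff.mp hk
    have h := congrFun (show a.toAdd • k = b.toAdd • k from congrArg Multiplicative.toAdd hab) i
    exact Multiplicative.toAdd.injective (mul_right_cancel₀ hi h)
  let D := Multiplicative (Fin n → ℤ) ⧸ f.range
  have hbij : Function.Bijective fun dp : D × Multiplicative ℤ => dp.1.out * f dp.2 := by
    refine ⟨fun a b h => ?_, fun q => ?_⟩
    · have h1 := congrArg (QuotientGroup.mk (s := f.range)) h
      simp only [QuotientGroup.mk_mul_of_mem _ (show f a.2 ∈ f.range from ⟨_, rfl⟩),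
        QuotientGroup.mk_mul_of_mem _ (show f b.2 ∈ f.range from ⟨_, rfl⟩), QuotientGroup.out_eq'] at h1
      refine Prod.ext h1 (hf ?_)
      have h' : a.1.out * f a.2 = b.1.out * f b.2 := h
      rw [h1] at h'
      exact mul_left_cancel h'
    · obtain ⟨h, hh⟩ : (QuotientGroup.mk q : D).out⁻¹ * q ∈ f.range :=
        QuotientGroup.eq.mp (QuotientGroup.out_eq' _)
      exact ⟨(QuotientGroup.mk q, h), by simp [hh]⟩
  have hff := Groth.Agent.Misc15.FreeMonoidAlgebra.faithfullyFlat (K := ULift.{u} ℤ) f _ hbij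
  have : Flat (Red.diagMap (ULift.{u} ℤ) (zmultiplesHom _ k : ℤ →+ (Fin n → ℤ))).left := by
    exact (Flat.SpecMap_iff (f := CommRingCat.ofHom (MonoidAlgebra.mapDomainRingHom (ULift.{u} ℤ) f))).mpr hff.flat
  exact MorphismProperty.baseChange_map (P := @Flat) _ _ this

/-- Let T be an S-torus and α : T → G_{m,S} a character. The following are equivalent: (i) for every
point s of S the character induced on the geometric fibre at s is not the trivial character; (ii)
for every morphism S' → S with S' non-empty the base change of α is not the trivial character; (iii)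
α is faithfully flat (flat and surjective). -/
theorem result (S : Scheme.{u}) (T : Over S) [GrpObj T] (hT : Red.IsTorus T) (α : T ⟶ Red.Gm S) [IsMonHom α] :
    ((∀ s : S, (Over.pullback (Red.geomPt s)).map α ≠ 1) ↔
      (∀ (S' : Scheme.{u}) (g : S' ⟶ S), Nonempty ↥S' → (Over.pullback g).map α ≠ 1)) ∧
    ((∀ s : S, (Over.pullback (Red.geomPt s)).map α ≠ 1) ↔ (Flat α.left ∧ Surjective α.left)) := by
  have h12 : ∀ (hχ : ∀ s : S, (Over.pullback (Red.geomPt s)).map α ≠ 1) (S' : Scheme.{u}) (g : S' ⟶ S),
      Nonempty ↥S' → (Over.pullback g).map α ≠ 1 := by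
    intro hχ S' g ⟨x⟩ h
    let k := S'.residueField x
    let ω : Spec (CommRingCat.of (AlgebraicClosure k)) ⟶ S' := Red.geomPt x
    obtain ⟨s, hs⟩ := geomPt_map_eq_one α (ω ≫ g) (by
      rw [pullback_map_eq_one_iff] at h ⊢
      have h' := congrArg (pullback.lift (pullback.fst T.hom (ω ≫ g)) (pullback.snd T.hom (ω ≫ g) ≫ ω)
        (by rw [pullback.condition]; simp only [Category.assoc]) ≫ ·) h
      simpa only [pullback.lift_fst_assoc] using h')
    exact hχ s hs
  refine ⟨⟨h12, fun h s => h _ _ ⟨(default : PrimeSpectrum (AlgebraicClosure (S.residueField s)))⟩⟩, ⟨fun hχ => ⟨?_, ?_⟩, ?_⟩⟩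
  · refine flat_of_local α.left fun x => ?_
    obtain ⟨S', f, hfl, hsu, -, hU⟩ := id hT
    haveI := hfl
    haveI := hsu
    obtain ⟨y, hy⟩ := (pullback.fst T.hom f).surjective x
    obtain ⟨U, hyU, r, ⟨eg⟩⟩ := hU (pullback.snd T.hom f y)
    let g : (U : Scheme.{u}) ⟶ S := U.ι ≫ f
    let e : Red.bc g T ≅ Red.DS (U : Scheme.{u}) (Fin r → ℤ) := (Grp.forget _).mapIso eg
    haveI : IsMonHom e.inv := eg.inv.hom.isMonHom_hom
    obtain ⟨R, v, hv, P', hP⟩ : ∃ (R : CommRingCat.{u}) (v : Spec R ⟶ (U : Scheme.{u})) (_ : IsOpenImmersion v)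
        (P' : PrimeSpectrum R), v.base P' = (⟨_, hyU⟩ : (U : Scheme.{u})) := by
      obtain ⟨j, P, hP⟩ := (U : Scheme.{u}).affineCover.exists_eq ⟨_, hyU⟩
      refine ⟨_, ((U : Scheme.{u}).affineCover.X j).isoSpec.inv ≫ (U : Scheme.{u}).affineCover.f j, inferInstance,
        ((U : Scheme.{u}).affineCover.X j).isoSpec.hom.base P, ?_⟩
      show (((U : Scheme.{u}).affineCover.X j).isoSpec.hom ≫
        ((U : Scheme.{u}).affineCover.X j).isoSpec.inv ≫ (U : Scheme.{u}).affineCover.f j).base P = _
      rw [Iso.hom_inv_id_assoc]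
      exact hP
    haveI := hv
    obtain ⟨s, a, hidem, horth, hsum, formula⟩ := exists_psi_coeff g e α v
    obtain ⟨m, hm, hma⟩ : ∃ m ∈ s, a m ∉ P'.asIdeal := by
      by_contra! hall
      exact P'.2.ne_top ((Ideal.eq_top_iff_one _).mpr (hsum ▸ Ideal.sum_mem _ hall))
    let A : CommRingCat.{u} := CommRingCat.of (Localization.Away (a m))
    let ρ : R ⟶ A := CommRingCat.ofHom (algebraMap R (Localization.Away (a m)))
    haveI : IsOpenImmersion (Spec.map ρ) := IsOpenImmersion.of_isLocalization (a m)
    let v' : Spec A ⟶ (U : Scheme.{u}) := Spec.map ρ ≫ v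
    haveI : IsOpenImmersion v' := inferInstance
    have hrange : (⟨_, hyU⟩ : (U : Scheme.{u})) ∈ Set.range v'.base := by
      obtain ⟨Q, hQ⟩ : P' ∈ Set.range (PrimeSpectrum.comap ρ.hom) := by
        rw [show PrimeSpectrum.comap ρ.hom = PrimeSpectrum.comap (algebraMap R (Localization.Away (a m))) from rfl,
          PrimeSpectrum.localization_away_comap_range _ (a m)]
        exact hma
      refine ⟨Q, ?_⟩
      show (Spec.map ρ ≫ v).base Q = _
      rw [Scheme.Hom.comp_apply, show (Spec.map ρ).base Q = P' from hQ]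
      exact hP
    have hone : ρ (a m) = 1 := by
      have hu : IsUnit (ρ (a m)) := IsLocalization.Away.algebraMap_isUnit (a m)
      exact hu.mul_eq_left.mp (by rw [← map_mul, hidem])
    have hzero : ∀ m', m' ≠ m → ρ (a m') = 0 := fun m' h => by
      rw [← _root_.mul_one (ρ (a m')), ← hone, ← map_mul, horth m' m h, map_zero]
    have collapse : ∀ (W : Over (U : Scheme.{u})) (w : W.left ⟶ Spec A), w ≫ v' = W.hom →
        ∀ p : W ⟶ Red.DS (U : Scheme.{u}) (Fin r → ℤ), psi g e α p = dsFn p m := by
      intro W w hw p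
      have hθ : ∀ m', theta (w ≫ Spec.map ρ) (a m') = theta w (ρ (a m')) := by
        intro m'
        show (w ≫ Spec.map ρ).appTop ((Scheme.ΓSpecIso R).inv (a m')) = w.appTop ((Scheme.ΓSpecIso A).inv (ρ (a m')))
        rw [Scheme.Hom.comp_appTop]
        exact congrArg w.appTop (theta_SpecMap ρ (a m'))
      rw [formula W (w ≫ Spec.map ρ) (by rw [Category.assoc]; exact hw) p, Finset.sum_eq_single m]
      · rw [hθ, hone, map_one, _root_.one_mul]
      · intro m' _ hne; rw [hθ, hzero m' hne, map_zero, zero_mul]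
      · exact fun h => absurd hm h
    -- the component is not trivial
    have hm0 : m.toAdd ≠ 0 := by
      intro h0
      obtain ⟨z, hz⟩ := hrange
      refine h12 hχ _ (v' ≫ g) ⟨z⟩ ?_
      rw [pullback_map_eq_one_iff]
      let W : Over (U : Scheme.{u}) := Over.mk (pullback.snd T.hom (v' ≫ g) ≫ v')
      let t : (Over.map g).obj W ⟶ T := Over.homMk (pullback.fst T.hom (v' ≫ g)) (by
        show pullback.fst T.hom (v' ≫ g) ≫ T.hom = (pullback.snd T.hom (v' ≫ g) ≫ v') ≫ g
        rw [pullback.condition]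
        simp only [v', Category.assoc])
      obtain ⟨p, hp⟩ := toPt_surjective g e t
      have ht : t ≫ α = t ≫ (1 : T ⟶ Red.Gm S) := by
        rw [MonObj.comp_one]
        refine gmFn_injective ?_
        rw [gmFn_one, ← hp]
        exact (collapse W _ rfl p).trans (by rw [show m = 1 from Multiplicative.toAdd.injective h0, map_one])
      exact congrArg CommaMorphism.left ht
    -- the flat chart
    let D := Red.DS (Spec A) (Fin r → ℤ)
    let W : Over (U : Scheme.{u}) := Over.mk (D.hom ≫ v')
    let pl : D.left ⟶ (Red.DS (U : Scheme.{u}) (Fin r → ℤ)).left :=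
      pullback.lift (pullback.fst _ _) (pullback.snd _ _ ≫ v') (specULiftZIsTerminal.hom_ext _ _)
    let p : W ⟶ Red.DS (U : Scheme.{u}) (Fin r → ℤ) := Over.homMk pl (pullback.lift_snd _ _ _)
    have hpb : ∀ (P₀ : Over (Spec (CommRingCat.of (ULift.{u} ℤ)))) {V V' : Scheme.{u}} (j : V' ⟶ V),
        IsPullback (pullback.lift (pullback.fst P₀.hom (IsTerminal.from specULiftZIsTerminal V'))
          (pullback.snd _ _ ≫ j) (specULiftZIsTerminal.hom_ext _ _) :
            pullback P₀.hom (IsTerminal.from specULiftZIsTerminal V') ⟶ pullback P₀.hom (IsTerminal.from specULiftZIsTerminal V))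
          (pullback.snd _ _) (pullback.snd _ _) j := fun P₀ V V' j => by
      refine IsPullback.of_right ?_ (pullback.lift_snd _ _ _) (IsPullback.of_hasPullback P₀.hom _)
      simp only [pullback.lift_fst, specULiftZIsTerminal.hom_ext (j ≫ IsTerminal.from specULiftZIsTerminal V)
        (IsTerminal.from specULiftZIsTerminal V')]
      exact IsPullback.of_hasPullback _ _
    haveI hplflat : Flat pl := MorphismProperty.of_isPullback (hpb _ v').flip inferInstance
    refine ⟨D.left, (toPt g e p).left, ?_, ?_, ?_⟩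
    · have : (toPt g e p).left = pl ≫ e.inv.left ≫ pullback.fst T.hom g := by
        show (p ≫ e.inv).left ≫ pullback.fst T.hom g = _
        rw [Over.comp_left, Category.assoc]; rfl
      rw [this]
      infer_instance
    · let q : (Red.Gm (Spec A)).left ⟶ (Red.Gm S).left :=
        pullback.lift (pullback.fst _ _) (pullback.snd _ _ ≫ v' ≫ g) (specULiftZIsTerminal.hom_ext _ _)
      haveI : Flat q := MorphismProperty.of_isPullback (hpb _ (v' ≫ g)).flip inferInstance
      haveI := flat_DSmap (V := Spec A) m.toAdd hm0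
      let c : ℤ →+ (Fin r → ℤ) := zmultiplesHom _ m.toAdd
      let q' : (Over.map g).obj W ⟶ Red.Gm S := Over.homMk ((Red.DSmap (Spec A) c).left ≫ q) (by
        show ((Red.DSmap (Spec A) c).left ≫ q) ≫ pullback.snd _ _ = (D.hom ≫ v') ≫ g
        rw [Category.assoc, pullback.lift_snd, ← Category.assoc, show (Red.DSmap (Spec A) c).left ≫ pullback.snd _ _ = D.hom from Over.w (Red.DSmap (Spec A) c)]
        simp only [v', Category.assoc])
      have e1 : toPt g e p ≫ α = q' := by
        refine gmFn_injective ((collapse W D.hom rfl p).trans ?_)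
        have h1 : dsFn p m = dsFn (𝟙 D) m := by
          show fn p _ = fn (𝟙 D) _
          rw [fn_apply, fn_apply, show p.left ≫ pullback.fst _ _ = (𝟙 D : D ⟶ D).left ≫ pullback.fst _ _ by
            rw [Over.id_left, Category.id_comp]; exact pullback.lift_fst _ _ _]
        have h2 := Groth.Agent.S5427.dsFn_DSmap c (𝟙 D) (Multiplicative.ofAdd 1)
        rw [Category.id_comp] at h2
        have h3 : Red.gmFn q' = dsFn (Red.DSmap (Spec A) c) (Multiplicative.ofAdd 1) := by
          show fn q' _ = fn (Red.DSmap (Spec A) c) _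
          rw [fn_apply, fn_apply, show q'.left ≫ pullback.fst _ _ = (Red.DSmap (Spec A) c).left ≫ pullback.fst _ _ by
            show ((Red.DSmap (Spec A) c).left ≫ q) ≫ _ = _
            rw [Category.assoc, pullback.lift_fst]]
          rfl
        rw [h3, h2, h1]
        simp [c]
      rw [← Over.comp_left, e1]
      show Flat ((Red.DSmap (Spec A) c).left ≫ q)
      infer_instance
    · obtain ⟨z, hz1, hz2⟩ := Scheme.Pullback.exists_preimage_pullback (f := pullback.snd T.hom f) (g := U.ι) y ⟨_, hyU⟩ rfl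
      let w : (Red.bc g T).left := (pullback.lift (pullback.fst _ _ ≫ pullback.fst T.hom f) (pullback.snd _ _) (by
        simp only [g, Category.assoc]
        rw [← pullback.condition_assoc, pullback.condition]) :
          pullback (pullback.snd T.hom f) U.ι ⟶ pullback T.hom g).base z
      have hw1 : pullback.fst T.hom g w = x := by
        rw [← Scheme.Hom.comp_apply, pullback.lift_fst, Scheme.Hom.comp_apply, hz1, hy]
      have hw2 : pullback.snd T.hom g w = ⟨_, hyU⟩ := by
        rw [← Scheme.Hom.comp_apply, pullback.lift_snd, hz2]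
      obtain ⟨z₀, hz₀⟩ := hrange
      have hd : (Red.DS (U : Scheme.{u}) (Fin r → ℤ)).hom (e.hom.left w) = v' z₀ := by
        rw [← Scheme.Hom.comp_apply, Over.w e.hom, hz₀]
        exact hw2
      obtain ⟨d, hd'⟩ : e.hom.left w ∈ Set.range pl.base := by
        obtain ⟨d, hd1, -⟩ := Scheme.Pullback.exists_preimage_pullback (f := (Red.DS (U : Scheme.{u}) (Fin r → ℤ)).hom) (g := v') _ z₀ hd
        let i := (hpb (Red.diag (ULift.{u} ℤ) (Fin r → ℤ)) v').isoPullback
        refine ⟨i.inv d, ?_⟩
        rw [← Scheme.Hom.comp_apply]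
        erw [IsPullback.isoPullback_inv_fst]
        exact hd1
      refine ⟨d, ?_⟩
      show ((p ≫ e.inv).left ≫ pullback.fst T.hom g) d = x
      rw [Over.comp_left, Category.assoc, Scheme.Hom.comp_apply, show p.left d = e.hom.left w from hd',
        ← Scheme.Hom.comp_apply, ← Category.assoc, ← Over.comp_left, Iso.hom_inv_id, Over.id_left, Category.id_comp, hw1]
  · obtain ⟨X', π, t, hπ, -, ht⟩ := exists_char_lift α hT hχ (X := Red.Gm S) (isUnit_gmFn (𝟙 _))
    haveI := hπ
    have e : t ≫ α = π := gmFn_injective (ht.trans ((gmFn_comp π (𝟙 _)).symm.trans (by rw [Category.comp_id])))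
    haveI : Surjective (t.left ≫ α.left) := by rw [← Over.comp_left, e]; exact hπ
    exact Surjective.of_comp t.left α.left
  · rintro ⟨-, hsurj⟩ s htriv
    classical
    let Ω := AlgebraicClosure (S.residueField s)
    let X : Over S := Over.mk (Red.geomPt s)
    obtain ⟨c, hc⟩ := Infinite.exists_notMem_finset ({0, 1} : Finset Ω)
    simp only [Finset.mem_insert, Finset.mem_singleton, not_or] at hc
    let i : Ω →+* Γ(X.left, ⊤) := (Scheme.ΓSpecIso (CommRingCat.of Ω)).inv.hom
    obtain ⟨z, hz⟩ := exists_gmFn (S := S) (X := X) (r := i c) ((isUnit_iff_ne_zero.mpr hc.1).map i)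
    haveI := hsurj
    haveI : Surjective (pullback.snd α.left z.left) := inferInstance
    obtain ⟨q, -⟩ := (pullback.snd α.left z.left).surjective (default : PrimeSpectrum Ω)
    let X' : Over S := Over.mk (pullback.snd α.left z.left ≫ X.hom)
    let t : X' ⟶ T := Over.homMk (pullback.fst α.left z.left) (by
      show pullback.fst α.left z.left ≫ T.hom = pullback.snd α.left z.left ≫ X.hom
      rw [← Over.w α, pullback.condition_assoc, Over.w z])
    let π : X' ⟶ X := Over.homMk (pullback.snd α.left z.left) rfl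
    have e1 : t ≫ α = π ≫ z := Over.OverMorphism.ext pullback.condition
    have e2 : t ≫ α = 1 := by
      rw [← MonObj.comp_one t]
      refine Over.OverMorphism.ext ?_
      show t.left ≫ α.left = t.left ≫ (1 : T ⟶ Red.Gm S).left
      rw [pullback_map_eq_one_iff] at htriv
      have h' := congrArg ((pullback.lift (f := T.hom) (g := Red.geomPt s) t.left (pullback.snd α.left z.left)
        (Over.w t)) ≫ ·) htriv
      simpa only [pullback.lift_fst_assoc] using h'
    have h : π.left.appTop (i c) = 1 := by rw [← hz, ← gmFn_comp, ← e1, e2, gmFn_one]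
    have hu : IsUnit (π.left.appTop (i c) - 1) := by
      rw [← map_one π.left.appTop.hom, ← map_one i, ← map_sub, ← map_sub]
      exact ((isUnit_iff_ne_zero.mpr (sub_ne_zero.mpr hc.2)).map i).map _
    rw [h, sub_self, isUnit_zero_iff] at hu
    refine zero_ne_one (α := X'.left.presheaf.stalk q) ?_
    rw [← map_zero (X'.left.presheaf.germ ⊤ q trivial).hom, ← map_one (X'.left.presheaf.germ ⊤ q trivial).hom]
    exact congrArg _ hu

end Groth.Agent.S5421
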