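import Groth.Statements.S5423
import Groth.Agent.HopfLib.UnipotentPoints
import Groth.Agent.HopfLib.Kolchin
import Groth.Agent.HopfLib.GITPoints

set_option backward.isDefEq.respectTransparency.types false

set_option autoImplicit false
universe u
open TensorProduct
open SGA3t2b
open scoped TensorProduct

namespace Groth.Agent.S5423

/-- Let k be an algebraically closed field and A a reduced finitely generated commutative Hopf algebra
over k (a smooth affine algebraic k-group G). Then G is unipotent (every non-zero finite-dimensional
representation has a non-zero fixed vector) if and only if every element of G(k) is unipotent, i.e.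
every k-point g : A → k acts on every finite-dimensional comodule V by an endomorphism g_V with g_V
− 1 nilpotent. -/
theorem result (k : Type u) [Field k] [IsAlgClosed k] (A : Type u) [CommRing A] [HopfAlgebra k A] [Algebra.FiniteType k A]
    [IsReduced A] :
    HopfRep.IsUnipotent k A ↔
      ∀ (g : A →ₐ[k] k) (V : Type u) [AddCommGroup V] [Module k V] [HopfRep.Comod k A V],
        Module.Finite k V → IsNilpotent (HopfRep.Comod.act k A V g - LinearMap.id) := by
  open Groth.Agent.HopfLib HopfRep in
  exact ⟨fun hU g V _ _ _ hV => isNilpotent_act_sub_one hU g, fun h V _ _ _ hV hVn => by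
    obtain ⟨v, hv0, hv⟩ := exists_fixed_of_unipotent
      (actHom k A V) (fun g => h g.ofConv V hV)
    refine (Submodule.ne_bot_iff _).2 ⟨v, eq_of_forall_sliceL_eq fun f => sub_eq_zero.1 ?_, hv0⟩
    by_contra hne
    obtain ⟨x, hx⟩ := exists_algHom_ne_zero (k := k) (fun hn => hne hn.eq_zero)
    refine hx ?_
    have key : ∀ t : V ⊗[k] A, x (sliceL f t) = f (sliceR x.toLinearMap t) := by
      intro t
      induction t using TensorProduct.induction_on with
      | zero => simp
      | add p q hp hq => simp only [map_add, hp, hq]
      | tmul p q => simp [mul_comm]
    rw [map_sub, key, sliceL_tmul, map_smul, map_one, ← hit_apply, smul_eq_mul, mul_one, sub_eq_zero]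
    exact congrArg f (hv (WithConv.toConv x))⟩

end Groth.Agent.S5423
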