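import Groth.Statements.S5425
import Groth.Agent.CohDer1.NoMu.Locus
import Groth.Agent.CohDer1.NoMu.LieBridge
import Groth.Agent.HopfUnip26.UnitsConst
-- import your own Groth.Agent.* helpers here

set_option autoImplicit false
universe u
open TensorProduct
open SGA3t2b

namespace Groth.Agent.S5425

/-- (i) ⟺ (iv) ⟺ (v): let k be a field of characteristic p > 0 with algebraic closure k̄, and A a
finitely generated commutative Hopf algebra over k with no idempotents other than 0 and 1 (a
connected affine algebraic group G). Then the following are equivalent: (i) G is unipotent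
(fixed-vector form); (iv) G_{k̄} contains no closed subgroup isomorphic to μ_p; (v) the Lie algebra
of G is a unipotent p-Lie algebra: for every ε-derivation D : A → k some p^n-fold convolution power
of D (n > 0) vanishes. -/
theorem result (k : Type u) [Field k] (p : ℕ) [Fact p.Prime] [CharP k p] (A : Type u) [CommRing A] [HopfAlgebra k A]
    [Algebra.FiniteType k A] (hconn : ∀ e : A, IsIdempotentElem e → e = 0 ∨ e = 1) :
    (HopfRep.IsUnipotent k A ↔
      ¬ ∃ φ : (AlgebraicClosure k ⊗[k] A) →ₐc[AlgebraicClosure k]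
        MonoidAlgebra (AlgebraicClosure k) (Multiplicative (ZMod p)), Function.Surjective φ) ∧
    (HopfRep.IsUnipotent k A ↔
      ∀ D : LieHopf.Lie k A, ∃ n : ℕ, 0 < n ∧
        LieHopf.convPow (D.toLinearMap.restrictScalars k ∘ₗ LinearMap.id) (p ^ n) = 0) := by
  have hc : ∀ e : AlgebraicClosure k ⊗[k] A, IsIdempotentElem e → e = 0 ∨ e = 1 := fun e he =>
    HopfUnip26.idempotent_trivial_baseChange k A hconn (AlgebraicClosure k) he
  haveI : Algebra.FiniteType (AlgebraicClosure k) (AlgebraicClosure k ⊗[k] A) :=
    Algebra.FiniteType.baseChange (A := A) (AlgebraicClosure k)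
  haveI : CharP (AlgebraicClosure k) p :=
    charP_of_injective_algebraMap (algebraMap k (AlgebraicClosure k)).injective p
  have hbc := HopfQuot.isUnipotent_iff_baseChange (k := k) (A := A) (K := AlgebraicClosure k)
  have hp : p.Prime := Fact.out
  refine ⟨⟨fun hU => fun ⟨φ, hφ⟩ => CohDer1.NoMu.not_surjective_of_isUnipotent (hbc.1 hU) hp φ hφ, fun h => hbc.2 ?_⟩,
    ⟨fun hU => (CohDer1.NoMu.forall_lie_iff_nilDer p).2 (CohDer1.NoMu.nilDer_of_isUnipotent hU), fun h => hbc.2 ?_⟩⟩
  · exact CohDer1.NoMu.isUnipotent_of_nilDer_of_connected p (CohDer1.NoMu.nilDer_of_no_mu p h) hc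
  · exact CohDer1.NoMu.isUnipotent_of_nilDer_of_connected p
      ((CohDer1.NoMu.forall_lie_iff_nilDer p).1 h).baseChange hc
end Groth.Agent.S5425
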