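import Groth.Statements.S5426
import Groth.Agent.CohDer1.NoMu.Locus
import Groth.Agent.CohDer1.NoMu.DerQuot
import Groth.Agent.HopfLib.Cartier
import Groth.Agent.S5423
-- import your own Groth.Agent.* helpers here

set_option autoImplicit false
universe u
open TensorProduct
open SGA3t2b

namespace Groth.Agent.S5426

/-- Let k be an algebraically closed field and A a finitely generated commutative Hopf algebra over k.
Then G = Spec A is unipotent (fixed-vector form) if and only if for every prime n there is no closed
subgroup of G isomorphic to μ_n (no surjective bialgebra map from A onto the group algebra k[ℤ/n]).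
(The published statement is for an arbitrary algebraic group; this row treats affine groups only,
and a unipotent group is affine.) -/
theorem result (k : Type u) [Field k] [IsAlgClosed k] (A : Type u) [CommRing A] [HopfAlgebra k A] [Algebra.FiniteType k A] :
    HopfRep.IsUnipotent k A ↔
      ∀ n : ℕ, n.Prime → (¬ ∃ φ : A →ₐc[k] MonoidAlgebra k (Multiplicative (ZMod n)), Function.Surjective φ) := by
  refine ⟨fun hU n hn => fun ⟨φ, hφ⟩ => CohDer1.NoMu.not_surjective_of_isUnipotent hU hn φ hφ, fun h => ?_⟩
  rcases CharP.exists k with ⟨p, hp⟩
  rcases CharP.char_is_prime_or_zero k p with hpr | rfl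
  · haveI := Fact.mk hpr
    exact CohDer1.NoMu.isUnipotent_of_nilDer_of_points p
      (CohDer1.NoMu.nilDer_of_no_mu p (h p hpr))
      (fun V _ _ _ _ g => CohDer1.NoMu.isNilpotent_act_of_no_mu h g)
  · haveI : CharZero k := CharP.charP_to_charZero k
    haveI : IsReduced A := HopfLib.isReduced_of_charZero (k := k)
    exact (Groth.Agent.S5423.result k A).2 fun g V _ _ _ _ => CohDer1.NoMu.isNilpotent_act_of_no_mu h g
end Groth.Agent.S5426
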