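import Groth.Statements.S5433
import Groth.Agent.MultSeq25.Perfect

set_option autoImplicit false
set_option linter.style.haveILetI false
set_option linter.unusedSectionVars false
set_option maxHeartbeats 1000000
set_option backward.isDefEq.respectTransparency.types false
universe u
open TensorProduct
open SGA3

namespace Groth.Agent.S5433

open HopfRep Groth.Agent.HopfLib Groth.Agent.HopfQuot Groth.Agent.HopfQuot.CommMultPart Groth.Agent.SGA3bLib Groth.Agent.MultSeq25 WithConv TensorProduct

variable {k : Type u} [Field k] [PerfectField k] {A : Type u} [CommRing A] [HopfAlgebra k A] [Algebra.FiniteType k A]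
  [Coalgebra.IsCocomm k A]

theorem main :
    ∃! I : Ideal A, ∃ (_ : I.IsHopfIdeal k), HopfRep.IsUnipotent k (A ⧸ I) ∧
      Function.Bijective ((Algebra.TensorProduct.map (Ideal.Quotient.mkₐ k (mIdeal k A)) (Ideal.Quotient.mkₐ k I)).comp
        (Bialgebra.comulAlgHom k A)) := by
  classical
  obtain ⟨S⟩ := exists_msection k (A := A)
  let I := RingHom.ker (S.uHom : A →+* A)
  haveI hI : I.IsHopfIdeal k := HopfLib.isHopfIdeal_ker S.uHom
  let v : (A ⧸ I) →ₐc[k] A := bialgHomOfComp (Bialgebra.Quotient.mkBialgHom (R := k) I) S.uHom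
    Ideal.Quotient.mk_surjective (Ideal.Quotient.liftₐ I (S.uHom : A →ₐ[k] A) fun _ ha => ha) fun _ => rfl
  have hv : ∀ a, v (Ideal.Quotient.mk I a) = S.uHom a := fun _ => rfl
  have hvi : Function.Injective v := by
    refine (injective_iff_map_eq_zero _).2 fun x hx => ?_
    obtain ⟨a, rfl⟩ := Ideal.Quotient.mk_surjective x
    rw [hv] at hx
    exact Ideal.Quotient.eq_zero_iff_mem.2 hx
  have hU : HopfRep.IsUnipotent k (A ⧸ I) := by
    refine isUnipotent_iff_forall_mem_socFil.2 fun x => ?_
    obtain ⟨a, rfl⟩ := Ideal.Quotient.mk_surjective x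
    obtain ⟨r, hr⟩ := mem_unipAlg.1 (S.uHom_mem a)
    exact ⟨r, mem_socFil_of_injective v hvi _ _ (by rw [hv]; exact hr)⟩
  -- the universal point of the product, and its projections
  have hP : ∀ (I' : Ideal A) (a : A),
      ((Algebra.TensorProduct.map (Ideal.Quotient.mkₐ k (mIdeal k A)) (Ideal.Quotient.mkₐ k I')).comp
        (Bialgebra.comulAlgHom k A)) a =
      (push Algebra.TensorProduct.includeLeft (mkPt (k := k) (mIdeal k A)) *
        push Algebra.TensorProduct.includeRight (mkPt (k := k) I') : Pt k A _).ofConv a := fun I' a => by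
    rw [HopfQuot.mul_apply]
    show Algebra.TensorProduct.map _ _ (CoalgebraStruct.comul (R := k) a) = _
    generalize CoalgebraStruct.comul (R := k) a = t
    induction t using TensorProduct.induction_on with
    | zero => simp
    | add p q hp hq => simp only [map_add, hp, hq]
    | tmul p q => simp [mkPt]
  have hJ : S.theta (mkPt (k := k) (mIdeal k A)) = mkPt (k := k) (mIdeal k A) :=
    WithConv.ext (AlgHom.ext fun a => S.proj _)
  have htriv : ∀ (I' : Ideal A) [I'.IsHopfIdeal k], HopfRep.IsUnipotent k (A ⧸ I') →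
      S.theta (mkPt (k := k) I') = 1 := fun I' _ h' => by
    refine WithConv.ext (AlgHom.ext fun a => ?_)
    rw [HopfQuot.one_apply]
    refine (S.unip I' h' (Ideal.Quotient.mk _ a)).trans ?_
    rfl
  have hproj : ∀ (I' : Ideal A) [I'.IsHopfIdeal k], HopfRep.IsUnipotent k (A ⧸ I') → ∀ a : A,
      ((Algebra.TensorProduct.map (Ideal.Quotient.mkₐ k (mIdeal k A)) (Ideal.Quotient.mkₐ k I')).comp
        (Bialgebra.comulAlgHom k A)) (S.uHom a) = (1 : A ⧸ mIdeal k A) ⊗ₜ[k] Ideal.Quotient.mk I' a := fun I' _ h' a => by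
    rw [hP]
    let P : Pt k A ((A ⧸ mIdeal k A) ⊗[k] (A ⧸ I')) := push Algebra.TensorProduct.includeLeft (mkPt (k := k) (mIdeal k A)) *
      push Algebra.TensorProduct.includeRight (mkPt (k := k) I')
    refine (congrArg (fun x => x.ofConv a) (S.push_uPt P)).trans ?_
    rw [map_mul S.theta, ← MSection.push_theta, ← MSection.push_theta, hJ, htriv I' h', map_one, mul_one]
    simp only [P]
    have hc : ∀ l r : Pt k A ((A ⧸ mIdeal k A) ⊗[k] (A ⧸ I')), l * r * l⁻¹ = r := fun l r => by
      rw [mul_comm l r, mul_inv_cancel_right]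
    refine (congrArg (fun x => x.ofConv a) (hc _ _)).trans ?_
    rfl
  refine ⟨I, ⟨hI, hU, ?_⟩, ?_⟩
  · let Φ := (Algebra.TensorProduct.map (Ideal.Quotient.mkₐ k (mIdeal k A)) (Ideal.Quotient.mkₐ k I)).comp
      (Bialgebra.comulAlgHom k A)
    let Ψ : (A ⧸ mIdeal k A) ⊗[k] (A ⧸ I) →ₐ[k] A :=
      Algebra.TensorProduct.lift S.s (v : (A ⧸ I) →ₐ[k] A) fun _ _ => Commute.all _ _
    have h1 : ∀ a, Ψ (Φ a) = a := fun a => by
      rw [hP I a]
      have e : push Ψ (push Algebra.TensorProduct.includeLeft (mkPt (k := k) (mIdeal k A)) *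
          push Algebra.TensorProduct.includeRight (mkPt (k := k) I)) = idPt k A := by
        rw [map_mul]
        have e1 : push Ψ (push Algebra.TensorProduct.includeLeft (mkPt (k := k) (mIdeal k A))) = S.theta (idPt k A) :=
          WithConv.ext (AlgHom.ext fun b => by simp [Ψ, mkPt, MSection.theta_apply, idPt])
        have e2 : push Ψ (push Algebra.TensorProduct.includeRight (mkPt (k := k) I)) = S.uPt :=
          WithConv.ext (AlgHom.ext fun b => by
            simp only [push_apply, Ψ, Algebra.TensorProduct.includeRight_apply, Algebra.TensorProduct.lift_tmul,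
              map_one, one_mul]
            rfl)
        rw [e1, e2, MSection.uPt, mul_comm (idPt k A), mul_inv_cancel_left]
      exact congrArg (fun x => x.ofConv a) e
    have h2 : Φ.comp Ψ = AlgHom.id k _ := by
      refine Algebra.TensorProduct.ext (AlgHom.ext fun x => ?_) (AlgHom.ext fun y => ?_)
      · show Φ (Ψ (x ⊗ₜ[k] (1 : A ⧸ I))) = x ⊗ₜ[k] (1 : A ⧸ I)
        rw [show Ψ (x ⊗ₜ[k] (1 : A ⧸ I)) = S.s x by simp [Ψ], hP]
        obtain ⟨b, rfl⟩ := Ideal.Quotient.mk_surjective x
        rw [← MSection.theta_apply, map_mul S.theta, ← MSection.push_theta, ← MSection.push_theta, hJ, htriv I hU,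
          map_one, mul_one, push_apply]
        simp [mkPt]
      · obtain ⟨a, rfl⟩ := Ideal.Quotient.mk_surjective y
        show Φ (Ψ ((1 : A ⧸ mIdeal k A) ⊗ₜ[k] Ideal.Quotient.mk I a)) = (1 : A ⧸ mIdeal k A) ⊗ₜ[k] Ideal.Quotient.mk I a
        rw [show Ψ ((1 : A ⧸ mIdeal k A) ⊗ₜ[k] Ideal.Quotient.mk I a) = S.uHom a by simp [Ψ, hv]]
        exact hproj I hU a
    exact ⟨fun a b h => by rw [← h1 a, ← h1 b]; exact congrArg Ψ h, fun t => ⟨Ψ t, AlgHom.congr_fun h2 t⟩⟩
  · rintro I' ⟨hI', hU', hbij⟩
    ext a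
    constructor
    · intro ha
      show S.uHom a = 0
      refine hbij.1 ?_
      rw [hproj I' hU', map_zero, show Ideal.Quotient.mk I' a = 0 from Ideal.Quotient.eq_zero_iff_mem.2 ha,
        TensorProduct.tmul_zero]
    · intro ha
      rw [← Ideal.Quotient.eq_zero_iff_mem]
      have h := congrArg (fun x => x.ofConv a) (S.push_uPt (mkPt (k := k) I'))
      rw [htriv I' hU', inv_one, mul_one] at h
      refine h.symm.trans ?_
      show (mkPt (k := k) I').ofConv (S.uHom a) = 0
      rw [show S.uHom a = 0 from ha, map_zero]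

/-- Let k be a perfect field and A a finitely generated commutative and cocommutative Hopf algebra over
k (a commutative affine algebraic group G). Let J be the Hopf ideal of the largest subgroup of
multiplicative type M (A/J is of multiplicative type and J lies in every Hopf ideal whose quotient
is of multiplicative type). Then there is exactly one Hopf ideal I of A (a unipotent subgroup U)
such that A/I is unipotent in the fixed-vector sense and the map A → (A/J) ⊗ (A/I), a ↦ Σ ā₁ ⊗ ā₂
(the comorphism of the multiplication M × U → G), is bijective. -/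
theorem result (k : Type u) [Field k] [PerfectField k] (A : Type u) [CommRing A] [HopfAlgebra k A] [Algebra.FiniteType k A]
    [Coalgebra.IsCocomm k A] (J : Ideal A) [J.IsHopfIdeal k] (hJ : SGA3b.IsMultTypeConst k (A ⧸ J))
    (hJmax : ∀ (I : Ideal A) [I.IsHopfIdeal k], SGA3b.IsMultTypeConst k (A ⧸ I) → J ≤ I) :
    ∃! I : Ideal A, ∃ (_ : I.IsHopfIdeal k), HopfRep.IsUnipotent k (A ⧸ I) ∧
      Function.Bijective ((Algebra.TensorProduct.map (Ideal.Quotient.mkₐ k J) (Ideal.Quotient.mkₐ k I)).comp
        (Bialgebra.comulAlgHom k A)) := by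
  obtain rfl : J = MultSeq25.mIdeal k A := by
    refine le_antisymm (hJmax _ (MultSeq25.isMultTypeConst_of_le k le_rfl)) ?_
    exact (MultSeq25.mIdeal_le k (Bialgebra.Quotient.mkBialgHom (R := k) J) (IsoTriv.isMultType_of_const hJ)).trans
      fun a ha => Ideal.Quotient.eq_zero_iff_mem.1 ha
  exact main

end Groth.Agent.S5433
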