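import Groth.Statements.S5442
import Groth.Agent.IsoTriv.FixedScheme
import Groth.Agent.SGA3cLib.Transporter

set_option autoImplicit false
universe u
open CategoryTheory MonoidalCategory CartesianMonoidalCategory MonObj GrpObj AlgebraicGeometry
open SGA3x

namespace Groth.Agent.S5442

open Groth.Agent.IsoTriv Groth.Agent.SGA3cLib

/-- Let S be a scheme, G an S-group scheme separated and smooth over S, and H an S-group of
multiplicative type and of finite type acting on G by group automorphisms (on points, h · (g g′) =
(h · g)(h · g′)). Then the functor Z = G^H of invariants (points of G fixed by all points of H after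
any base change) is representable by a closed subgroup scheme of G which is smooth over S: there are
an S-group Z and a homomorphism Z → G which is a closed immersion, with Z smooth over S, whose
points are exactly the invariant points. (The published statement allows any S-group of
multiplicative type; this row assumes it moreover of finite type.) -/
theorem result (S : Scheme.{u}) (H G : Over S) [GrpObj H] [GrpObj G] (hH : SGA3x.IsMultTypeFT H)
    [IsSeparated G.hom] [Smooth G.hom] (a : AlgGrp.Action H G)
    (hmul : ∀ (X : Over S) (h : X ⟶ H) (g g' : X ⟶ G),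
      lift h (g * g') ≫ a.act = (lift h g ≫ a.act) * (lift h g' ≫ a.act)) :
    ∃ (Z : Over S) (_ : GrpObj Z) (z : Z ⟶ G) (_ : IsMonHom z), IsClosedImmersion z.left ∧ Smooth Z.hom ∧
      ∀ (X : Over S) (g : X ⟶ G), (∃ x : X ⟶ Z, x ≫ z = g) ↔
        ∀ (X' : Over S) (f : X' ⟶ X) (h : X' ⟶ H), lift h (f ≫ g) ≫ a.act = f ≫ g := by
  obtain ⟨F, f, hf, hfp, hF⟩ := FixedScheme.exists_fixed (CentralFib.locally_of_multTypeFT hH) a
  haveI := hf
  haveI := hfp inferInstance
  let Z : Over S := Over.mk (f ≫ G.hom)
  let z : Z ⟶ G := Over.homMk f rfl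
  haveI : Mono z := by
    haveI : Mono z.left := show Mono f from inferInstance
    exact Over.mono_of_mono_left z
  have key : ∀ (X : Over S) (g : X ⟶ G), (∃ x : X ⟶ Z, x ≫ z = g) ↔
      ∀ (X' : Over S) (t : X' ⟶ X) (h : X' ⟶ H), lift h (t ≫ g) ≫ a.act = t ≫ g := by
    intro X g
    rw [← hF X g]
    constructor
    · rintro ⟨x, hx⟩
      exact ⟨x.left, congrArg CommaMorphism.left hx⟩
    · rintro ⟨y, hy⟩
      refine ⟨Over.homMk y ?_, Over.OverMorphism.ext hy⟩
      show y ≫ f ≫ G.hom = X.hom
      rw [reassoc_of% hy]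
      exact Over.w g
  have hsub : ∀ (T : Over S) (x : T ⟶ Z), ∀ (X' : Over S) (t : X' ⟶ T) (h : X' ⟶ H),
      lift h (t ≫ x ≫ z) ≫ a.act = t ≫ x ≫ z := fun T x => (key T (x ≫ z)).1 ⟨x, rfl⟩
  obtain ⟨inst, hz⟩ := exists_grpObj_of_subgroup z
    (fun T => (key T 1).2 fun X' t h => by
      rw [MonObj.comp_one]
      have := hmul X' h 1 1
      rw [_root_.one_mul] at this
      exact mul_eq_left.1 this.symm)
    (fun T x y => (key T _).2 fun X' t h => by rw [MonObj.comp_mul, hmul, hsub T x X' t h, hsub T y X' t h])
    (fun T x => (key T _).2 fun X' t h => by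
      rw [GrpObj.comp_inv]
      have := hmul X' h (t ≫ x ≫ z) (t ≫ x ≫ z)⁻¹
      rw [mul_inv_cancel, hsub T x X' t h] at this
      have h1 := hmul X' h 1 1
      rw [_root_.one_mul] at h1
      rw [mul_eq_left.1 h1.symm] at this
      exact eq_inv_of_mul_eq_one_right this.symm)
  exact ⟨Z, inst, z, hz, hf, FixedScheme.smooth_fixed hH a f hF, key⟩

end Groth.Agent.S5442
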