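import Groth.Statements.S5444
import Groth.Agent.EGA43.ImageDim.Basic

set_option autoImplicit false
set_option linter.style.haveILetI false
set_option backward.isDefEq.respectTransparency.types false
universe u
open CategoryTheory AlgebraicGeometry Topology
open SGA3x

namespace Groth.Agent.S5444

/-- Let f : Y → S be a morphism of finite presentation, (a_i)_{i ∈ I} a family of sections of f, and s₀,
s₁ two points of S with s₀ a specialization of s₁. For j = 0, 1 let C_j be the closure in the fibre
Y_{s_j} (with its subspace topology) of the set of points a_i(s_j). Then dim C₁ ≥ dim C₀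
(topological Krull dimensions). -/
theorem result (S Y : Scheme.{u}) (f : Y ⟶ S) [QuasiCompact f] [QuasiSeparated f] [LocallyOfFinitePresentation f]
    (ι : Type u) (a : ι → (S ⟶ Y)) (ha : ∀ i, a i ≫ f = 𝟙 S) (s₀ s₁ : S) (h : s₁ ⤳ s₀) :
    topologicalKrullDim ↥(f.base ⁻¹' {s₀} ∩ closure (Set.range fun i => (a i).base s₀)) ≤
      topologicalKrullDim ↥(f.base ⁻¹' {s₁} ∩ closure (Set.range fun i => (a i).base s₁)) := by
  have key : ∀ s : S, (⋃ i, Set.range (a i).base) ∩ f.base ⁻¹' {s} = Set.range fun i => (a i).base s := by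
    intro s
    ext y
    constructor
    · rintro ⟨hy, hys⟩
      obtain ⟨i, t, rfl⟩ := Set.mem_iUnion.1 hy
      have ht : f.base ((a i).base t) = t := congrArg (fun φ : S ⟶ S => φ.base t) (ha i)
      exact ⟨i, by rw [show s = t from (hys : f.base _ = s).symm.trans ht]⟩
    · rintro ⟨i, rfl⟩
      exact ⟨Set.mem_iUnion.2 ⟨i, s, rfl⟩, congrArg (fun φ : S ⟶ S => φ.base s) (ha i)⟩
  have := Groth.Agent.EGA43.ImageDim.dim_le_of_specializes f (fun _ : ι => S) (fun _ => 𝟙 S) a ha s₀ s₁ h
  rw [key s₀, key s₁] at this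
  exact this

end Groth.Agent.S5444
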