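import Groth.Statements.S5446
import Groth.Agent.RootDat.Comb

set_option autoImplicit false
open RootD Groth.Agent.RootDat

namespace Groth.Agent.S5446

/-- If the roots indexed by Δ are indivisible and linearly independent and every root is, up to sign, a
non-negative rational combination of them (some positive multiple is a non-negative integer
combination), then Δ is a system of simple roots: every root is, up to sign, a non-negative integer
combination of Δ. -/
theorem result {ι M N : Type*} [AddCommGroup M] [AddCommGroup N]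
    (P : RootPairing ι ℤ M N) [Finite ι] (Δ : Set ι)
    (hind : ∀ i ∈ Δ, RootD.IsIndiv P i) (hli : LinearIndepOn ℤ P.root Δ)
    (hcone : ∀ k : ι, ∃ n : ℕ, 0 < n ∧
      (n • P.root k ∈ RootD.natSpan P Δ ∨ n • (-P.root k) ∈ RootD.natSpan P Δ)) :
    RootD.IsSimpleSys P Δ := by
  classical

  have := isTorsionFree_left P

  let PS : Set ι := {k | ∃ n : ℕ, 0 < n ∧ n • P.root k ∈ RootD.natSpan P Δ}

  have hdis : ∀ k ∈ PS, neg P k ∉ PS := by
    rintro k ⟨n, hn, h⟩ ⟨m, hm, h'⟩
    rw [root_neg] at h'
    have h₁ : (n * m) • P.root k ∈ RootD.natSpan P Δ := by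
      rw [mul_comm, mul_nsmul']; exact AddSubmonoid.nsmul_mem _ h m
    have h₂ : -((n * m) • P.root k) ∈ RootD.natSpan P Δ := by
      rw [← smul_neg, mul_nsmul']; exact AddSubmonoid.nsmul_mem _ h' n
    exact P.ne_zero k ((nsmul_eq_zero_iff.mp (eq_zero_of_natSpan_neg P hli h₁ h₂)).resolve_right
      (Nat.mul_pos hn hm).ne')

  have hcov : ∀ k, k ∈ PS ∨ neg P k ∈ PS := fun k => by
    obtain ⟨n, hn, h | h⟩ := hcone k
    · exact Or.inl ⟨n, hn, h⟩
    · exact Or.inr ⟨n, hn, by rwa [root_neg]⟩

  have hcl : RootD.IsClosedSub P PS := by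
    rintro a b k ⟨n, hn, h⟩ ⟨m, hm, h'⟩ hk
    refine ⟨n * m, Nat.mul_pos hn hm, ?_⟩
    rw [hk, smul_add]
    refine add_mem ?_ ?_
    · rw [mul_comm, mul_nsmul']; exact AddSubmonoid.nsmul_mem _ h m
    · rw [mul_nsmul']; exact AddSubmonoid.nsmul_mem _ h' n

  obtain ⟨f, hne, hf⟩ := exists_fun_of_closed P hdis hcov hcl
  set E := IsAddIndecomposable.baseOf P.root f

  have hE : RootD.IsSimpleSys P E := isSimpleSys_baseOf hne

  have hΔE : ∀ i ∈ Δ, 0 < f (P.root i) := fun i hi =>
    (hf i).mp ⟨1, one_pos, by rw [one_smul]; exact AddSubmonoid.subset_closure ⟨i, hi, rfl⟩⟩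

  have hsub : E ⊆ Δ := by
    intro a ha
    obtain ⟨n, hn, hna⟩ := (hf a).mpr (mem_baseOf.mp ha).1
    obtain ⟨c, ⟨hc, hc'⟩, hcx⟩ := (natSpan_iff P).mp hna
    have hpos : ∀ k, 0 < f (P.root k) → k ∈ RootD.posOf P E := fun k hk =>
      (Simple.pos_iff hE (fun i hi => (mem_baseOf.mp hi).1) k).mpr hk
    -- coordinates of the members of `Δ` in `E`
    choose d hd hdx using fun i (hi : i ∈ Δ) => (natSpan_iff P).mp (hpos i (hΔE i hi))
    have hsum : ∑ i ∈ c.support.attach, c i • d i (hc i.2) = Finsupp.single a (n : ℤ) := by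
      refine coeff_unique P hE.linInd ?_ (support_single_le ha _) ?_
      · intro j hj
        obtain ⟨i, -, hi⟩ := Finset.mem_biUnion.mp (Finsupp.support_finsetSum hj)
        exact (hd i (hc i.2)).1 (Finsupp.support_smul hi)
      · rw [map_sum, Finsupp.linearCombination_single, natCast_zsmul, ← hcx,
          Finsupp.linearCombination_apply, Finsupp.sum, ← Finset.sum_attach c.support]
        exact Finset.sum_congr rfl fun i _ => by rw [map_smul, hdx]
    obtain ⟨⟨i, hic⟩, -, hi⟩ : ∃ i ∈ c.support.attach, (c i • d i (hc i.2)) a ≠ 0 :=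
      Finset.exists_ne_zero_of_sum_ne_zero (by
        rw [← Finsupp.finsetSum_apply, hsum, Finsupp.single_eq_same]
        exact_mod_cast hn.ne')
    have hzero : ∀ l, l ≠ a → d i (hc hic) l = 0 := fun l hl => by
      have h := DFunLike.congr_fun hsum l
      rw [Finsupp.single_eq_of_ne hl, Finsupp.finsetSum_apply] at h
      have := (Finset.sum_eq_zero_iff_of_nonneg (fun j _ => by
        rw [Finsupp.smul_apply, smul_eq_mul]
        exact mul_nonneg (hc' _) ((hd j (hc j.2)).2 l))).mp h ⟨i, hic⟩ (Finset.mem_attach _ _)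
      rw [Finsupp.smul_apply, smul_eq_mul] at this
      exact (mul_eq_zero.mp this).resolve_left (Finsupp.mem_support_iff.mp hic)
    have hia : P.root i = d i (hc hic) a • P.root a := by
      have hsingle : d i (hc hic) = Finsupp.single a (d i (hc hic) a) := Finsupp.ext fun l => by
        by_cases hl : l = a
        · simp [hl]
        · rw [Finsupp.single_eq_of_ne hl, hzero l hl]
      rw [← hdx i (hc hic), hsingle, Finsupp.linearCombination_single, Finsupp.single_eq_same]
    have hnn := (hd i (hc hic)).2 a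
    rcases nsmul_root_eq P hia with e | e | e | e
    · rw [e, one_smul] at hia
      exact P.root.injective hia ▸ hc hic
    · omega
    · exact absurd (e ▸ hia).symm (hind i (hc hic) a)
    · omega
  have hΔeq : Δ = E := by
    refine Set.Subset.antisymm (fun a ha => ?_) hsub
    by_contra haE

    obtain ⟨c, hc, hcx⟩ := exists_coeff hE (root_mem_span P a)

    have := coeff_unique P hli (c := c) (d := Finsupp.single a 1)
      (fun j hj => hsub (hc hj)) (support_single_le ha 1) (by simp [hcx])
    have hca : c a = 1 := by rw [this]; simp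
    exact haE (hc (Finsupp.mem_support_iff.mpr (by omega)))
  rw [hΔeq]; exact hE

end Groth.Agent.S5446
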