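import Groth.Statements.S5447
import Groth.Agent.RootDat.Comb

set_option autoImplicit false
open RootD Groth.Agent.RootDat

namespace Groth.Agent.S5447

/-- If every root can be written in exactly one way as an integer combination of the roots indexed by Δ
with coefficients all of the same sign, then these roots are linearly independent (so Δ is a system
of simple roots) and indivisible. -/
theorem result {ι M N : Type*} [AddCommGroup M] [AddCommGroup N]
    (P : RootPairing ι ℤ M N) [Finite ι] (Δ : Set ι)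
    (h : ∀ k : ι, ∃! c : ι →₀ ℤ, (↑c.support ⊆ Δ ∧ ((∀ j, 0 ≤ c j) ∨ (∀ j, c j ≤ 0)) ∧
      Finsupp.linearCombination ℤ P.root c = P.root k)) :
    RootD.IsSimpleSys P Δ ∧ ∀ i ∈ Δ, RootD.IsIndiv P i := by
  classical
  have huniq : ∀ k (c d : ι →₀ ℤ), (↑c.support ⊆ Δ ∧ ((∀ j, 0 ≤ c j) ∨ ∀ j, c j ≤ 0)) →
      Finsupp.linearCombination ℤ P.root c = P.root k →
      (↑d.support ⊆ Δ ∧ ((∀ j, 0 ≤ d j) ∨ ∀ j, d j ≤ 0)) →
      Finsupp.linearCombination ℤ P.root d = P.root k → c = d := fun k c d hc hc' hd hd' =>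
    (h k).unique ⟨hc.1, hc.2, hc'⟩ ⟨hd.1, hd.2, hd'⟩
  let S : Set ι := {k | P.root k ∈ RootD.natSpan P Δ}
  have hcov : ∀ k, k ∈ S ∨ Groth.Agent.RootDat.neg P k ∈ S := fun k => by
    obtain ⟨c, ⟨hc, hsign, hcx⟩, -⟩ := h k
    rcases hsign with hs | hs
    · exact Or.inl ((natSpan_iff P).mpr ⟨c, ⟨hc, hs⟩, hcx⟩)
    · refine Or.inr ((natSpan_iff P).mpr ⟨-c, ⟨by rw [Finsupp.support_neg]; exact hc,
        fun j => neg_nonneg.mpr (hs j)⟩, ?_⟩)
      rw [map_neg, hcx, root_neg]
  have hdis : ∀ k ∈ S, Groth.Agent.RootDat.neg P k ∉ S := fun k hk hk' => by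
    obtain ⟨c, ⟨hc, hc'⟩, hcx⟩ := (natSpan_iff P).mp hk
    obtain ⟨d, ⟨hd, hd'⟩, hdx⟩ := (natSpan_iff P).mp hk'
    have e := huniq k c (-d) ⟨hc, Or.inl hc'⟩ hcx
      ⟨by rw [Finsupp.support_neg]; exact hd, Or.inr fun j => neg_nonpos.mpr (hd' j)⟩
      (by rw [map_neg, hdx, root_neg, _root_.neg_neg])
    refine P.ne_zero k ?_
    rw [← hcx, show c = 0 from Finsupp.ext fun j => ?_, map_zero]
    have := DFunLike.congr_fun e j
    simp only [Finsupp.neg_apply] at this
    have := hc' j; have := hd' j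
    simp only [Finsupp.coe_zero, Pi.zero_apply]
    omega
  obtain ⟨f, hne, hf⟩ := exists_fun_of_closed P hdis hcov fun a b k ha hb hk => by
    show P.root k ∈ RootD.natSpan P Δ
    rw [hk]; exact add_mem ha hb
  have hsub : Δ ⊆ IsAddIndecomposable.baseOf P.root f := fun i hi => by
    refine mem_baseOf.mpr ⟨(hf i).mp (AddSubmonoid.subset_closure ⟨i, hi, rfl⟩),
      fun ⟨a, b, ha, hb, he⟩ => ?_⟩
    obtain ⟨c, ⟨hc, hc'⟩, hcx⟩ := (natSpan_iff P).mp ((hf a).mpr ha)
    obtain ⟨d, ⟨hd, hd'⟩, hdx⟩ := (natSpan_iff P).mp ((hf b).mpr hb)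
    have e := huniq i (c + d) (Finsupp.single i 1)
      ⟨support_add_le hc hd, Or.inl fun j => add_nonneg (hc' j) (hd' j)⟩
      (by rw [map_add, hcx, hdx, he])
      ⟨support_single_le hi 1, Or.inl fun j => by by_cases hj : i = j <;> simp [hj]⟩
      (by simp)
    rcases (show c i = 0 ∨ d i = 0 by
      have := DFunLike.congr_fun e i
      simp only [Finsupp.add_apply, Finsupp.single_eq_same] at this
      have := hc' i; have := hd' i
      omega) with h0 | h0
    · refine P.ne_zero a ?_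
      rw [← hcx, show c = 0 from Finsupp.ext fun j => ?_, map_zero]
      by_cases hj : j = i
      · simp [hj, h0]
      · have := DFunLike.congr_fun e j
        simp only [Finsupp.add_apply, Finsupp.single_eq_of_ne hj] at this
        have := hc' j; have := hd' j
        simp only [Finsupp.coe_zero, Pi.zero_apply]; omega
    · refine P.ne_zero b ?_
      rw [← hdx, show d = 0 from Finsupp.ext fun j => ?_, map_zero]
      by_cases hj : j = i
      · simp [hj, h0]
      · have := DFunLike.congr_fun e j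
        simp only [Finsupp.add_apply, Finsupp.single_eq_of_ne hj] at this
        have := hc' j; have := hd' j
        simp only [Finsupp.coe_zero, Pi.zero_apply]; omega
  have hD : RootD.IsSimpleSys P Δ :=
    ⟨(isSimpleSys_baseOf hne).linInd.mono hsub, fun k => (hcov k).imp id fun hk => by
      rw [← root_neg]; exact hk⟩
  exact ⟨hD, fun i hi => Simple.indiv hD hi⟩

end Groth.Agent.S5447
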