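import Groth.Statements.S5451
import Groth.Agent.RootDat.Comb

set_option autoImplicit false
open RootD

namespace Groth.Agent.S5451

/-- If a root is a positive integer combination of roots α_i, then it can be reached from 0 by
successively adding roots taken among the α_i in such a way that every partial sum is a root. -/
theorem result {ι M N : Type*} [AddCommGroup M] [AddCommGroup N]
    (P : RootPairing ι ℤ M N) [Finite ι] {n : ℕ} (a : Fin n → ι) (m : Fin n → ℕ)
    (hm : ∀ i, 0 < m i) (k : ι) (hk : P.root k = ∑ i, m i • P.root (a i)) :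
    ∃ (l : ℕ) (b : Fin l → Fin n), 0 < l ∧
      (∀ p : Fin l, ∃ j : ι, P.root j = ∑ q ∈ Finset.univ.filter (fun q : Fin l => q.val ≤ p.val), P.root (a (b q))) ∧
      P.root k = ∑ q, P.root (a (b q)) := by
  classical
  clear hm
  induction hN : ∑ i, m i using Nat.strong_induction_on generalizing m k with
  | _ N ih =>
    obtain ⟨q, -, hq, hp⟩ := Groth.Agent.RootDat.exists_pairing_pos_sum (P := P) Finset.univ a m k 1
      one_pos (by rw [one_smul]; exact hk)
    by_cases hqk : a q = k
    · refine ⟨1, fun _ => q, one_pos, fun p => ⟨k, ?_⟩, by simp [hqk]⟩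
      have : Finset.univ.filter (fun r : Fin 1 => r.val ≤ p.val) = Finset.univ :=
        Finset.filter_true_of_mem fun r _ => by omega
      rw [this]; simp [hqk]
    obtain ⟨z, hz⟩ := Groth.Agent.RootDat.sub_mem_range_root P hp hqk
    set k' := Groth.Agent.RootDat.neg P z with hk'def
    have hk' : P.root k' = P.root k - P.root (a q) := by
      rw [hk'def, Groth.Agent.RootDat.root_neg, hz, neg_sub]
    let m' := Function.update m q (m q - 1)
    have hm' : ∀ i, m i = m' i + if i = q then 1 else 0 := fun i => by
      by_cases h : i = q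
      · subst h; simp only [m', Function.update_self, if_true]; omega
      · simp [m', Function.update_of_ne h, h]
    have hN' : ∑ i, m' i < N := by
      rw [← hN, Finset.sum_congr rfl fun i _ => hm' i, Finset.sum_add_distrib]
      simp
    obtain ⟨l, b, -, hb, hsum⟩ := ih _ hN' m' k' (by
      rw [hk', hk, Finset.sum_congr rfl fun i (_ : i ∈ Finset.univ) => show m i • P.root (a i) =
          m' i • P.root (a i) + if i = q then P.root (a i) else 0 by
        rw [hm' i, add_smul]; split <;> simp]
      rw [Finset.sum_add_distrib]; simp) rfl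
    refine ⟨l + 1, Fin.snoc b q, by omega, fun p => ?_, ?_⟩
    · rw [Finset.sum_filter, Fin.sum_univ_castSucc]
      simp only [Fin.snoc_castSucc, Fin.snoc_last, Fin.val_castSucc, Fin.val_last]
      by_cases hpl : p.val < l
      · obtain ⟨j, hj⟩ := hb ⟨p.val, hpl⟩
        refine ⟨j, ?_⟩
        rw [hj, Finset.sum_filter, if_neg (by omega), add_zero]
      · refine ⟨k, ?_⟩
        rw [if_pos (by omega), Finset.sum_congr rfl fun i (_ : i ∈ Finset.univ) =>
          if_pos (show i.val ≤ p.val by omega), ← hsum, hk']
        abel
    · rw [Fin.sum_univ_castSucc]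
      simp only [Fin.snoc_castSucc, Fin.snoc_last]
      rw [← hsum, hk']; abel

end Groth.Agent.S5451
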