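import Groth.Statements.S5459
import Groth.Agent.RootDat.Weyl

set_option autoImplicit false
open RootD

namespace Groth.Agent.S5459

/-- A closed set of roots containing each root or its opposite is, for a suitable system of simple roots
Δ and a subset Δ' ⊆ Δ, the set of roots lying in ℕΔ ∪ (-ℕΔ'). -/
theorem result {ι M N : Type*} [AddCommGroup M] [AddCommGroup N]
    (P : RootPairing ι ℤ M N) [Finite ι] (P' : Set ι)
    (hP2 : ∀ i : ι, i ∈ P' ∨ P.reflectionPerm i i ∈ P') (hcl : RootD.IsClosedSub P P') :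
    ∃ Δ Δ' : Set ι, RootD.IsSimpleSys P Δ ∧ Δ' ⊆ Δ ∧
      P' = RootD.posOf P Δ ∪ {k : ι | -P.root k ∈ RootD.natSpan P Δ'} := by
  obtain ⟨D₀, hD₀⟩ := Groth.Agent.RootDat.exists_simple_sys P
  obtain ⟨g, -, hsub⟩ := Groth.Agent.RootDat.exists_smul_subset
    (Groth.Agent.RootDat.Simple.posOf_isPosSys hD₀) P' hP2 hcl
  rw [← Groth.Agent.RootDat.posOf_smul] at hsub
  have hD := Groth.Agent.RootDat.simple_smul g hD₀
  refine ⟨_, {i | i ∈ (fun i => g • i) '' D₀ ∧ P.reflectionPerm i i ∈ P'}, hD, fun i hi => hi.1, ?_⟩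
  exact Groth.Agent.RootDat.parabolic_eq (Groth.Agent.RootDat.Simple.posOf_isPosSys hD) hD
    (fun i hi => Groth.Agent.RootDat.Simple.pos_of_mem hi) P' hcl hsub

end Groth.Agent.S5459
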