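import Groth.Statements.S5460
import Groth.Agent.RootDat.Comb

set_option autoImplicit false
open RootD

namespace Groth.Agent.S5460

/-- A set of roots R' is the trace on R of a vector subspace (every root with a positive multiple in the
span of R' lies in R') if and only if R' is the set of roots in the span of a subset Δ' of some
system of simple roots Δ. -/
theorem result {ι M N : Type*} [AddCommGroup M] [AddCommGroup N]
    (P : RootPairing ι ℤ M N) [Finite ι] (R' : Set ι) :
    (∀ k : ι, (∃ n : ℕ, 0 < n ∧ n • P.root k ∈ Submodule.span ℤ (P.root '' R')) → k ∈ R') ↔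
      ∃ Δ Δ' : Set ι, RootD.IsSimpleSys P Δ ∧ Δ' ⊆ Δ ∧ R' = RootD.inSpan P Δ' := by
  constructor
  · intro hsat
    obtain ⟨f, hf⟩ := Groth.Agent.RootDat.exists_regular P
    obtain ⟨E, hE, hspan, -, -⟩ := Groth.Agent.RootDat.exists_simple_extend R' hsat f hf
    exact ⟨E, E ∩ R', hE, Set.inter_subset_left, hspan⟩
  · rintro ⟨D, D', hD, hsub, rfl⟩ k ⟨n, hn, hk⟩
    have hle : Submodule.span ℤ (P.root '' RootD.inSpan P D') ≤ Submodule.span ℤ (P.root '' D') :=
      Submodule.span_le.mpr (by rintro _ ⟨a, ha, rfl⟩; exact ha)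
    obtain ⟨c, hc, hcx⟩ := Groth.Agent.RootDat.exists_coeff hD
      (Groth.Agent.RootDat.root_mem_span P k)
    have := Groth.Agent.RootDat.coeff_support hD.linInd hsub hc (n := (n : ℤ)) (by omega)
      (by rw [natCast_zsmul, hcx]; exact hle hk)
    show P.root k ∈ Submodule.span ℤ (P.root '' D')
    rw [← hcx]
    exact (Finsupp.mem_span_image_iff_linearCombination ℤ).mpr
      ⟨c, (Finsupp.mem_supported ℤ c).mpr this, rfl⟩

end Groth.Agent.S5460
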