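import Groth.Statements.S5461
import Groth.Agent.RootDat.Comb

set_option autoImplicit false
open RootD

namespace Groth.Agent.S5461

/-- If R' is the trace of a vector subspace on the roots, every system of simple roots Δ' of the root
datum with roots R' is contained in a system of simple roots Δ of the whole datum, and R' is the set
of roots in the span of Δ'. -/
theorem result {ι M N : Type*} [AddCommGroup M] [AddCommGroup N]
    (P : RootPairing ι ℤ M N) [Finite ι] (R' : Set ι)
    (hsat : ∀ k : ι, (∃ n : ℕ, 0 < n ∧ n • P.root k ∈ Submodule.span ℤ (P.root '' R')) → k ∈ R')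
    (Δ' : Set ι) (hΔ'R : Δ' ⊆ R') (hli : LinearIndepOn ℤ P.root Δ')
    (hgen : ∀ k ∈ R', P.root k ∈ RootD.natSpan P Δ' ∨ -P.root k ∈ RootD.natSpan P Δ') :
    ∃ Δ : Set ι, RootD.IsSimpleSys P Δ ∧ Δ' ⊆ Δ ∧ R' = RootD.inSpan P Δ' := by
  have hle : Submodule.span ℤ (P.root '' Δ') ≤ Submodule.span ℤ (P.root '' R') :=
    Submodule.span_mono (Set.image_mono hΔ'R)
  have hmemR : ∀ k, P.root k ∈ RootD.natSpan P Δ' → k ∈ R' := fun k hk =>
    hsat k ⟨1, one_pos, by rw [one_smul]; exact hle (Groth.Agent.RootDat.natSpan_le_span P _ hk)⟩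
  obtain ⟨f₀, hf₀⟩ := Groth.Agent.RootDat.exists_pos_fun P {k | P.root k ∈ RootD.natSpan P Δ'}
    (fun k hk hk' => by
      rw [Set.mem_ofPred_eq, Groth.Agent.RootDat.root_neg] at hk'
      exact P.ne_zero k (Groth.Agent.RootDat.eq_zero_of_natSpan_neg P hli hk hk'))
    (fun a b k ha hb hk => by rw [Set.mem_ofPred_eq, hk]; exact add_mem ha hb)
  obtain ⟨f, hf, hfpos⟩ := Groth.Agent.RootDat.exists_regular_pos P (f := f₀)
  obtain ⟨E, hE, -, -, hiff⟩ := Groth.Agent.RootDat.exists_simple_extend R' hsat f hf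
  have hback : ∀ k ∈ R', 0 < f (P.root k) → P.root k ∈ RootD.natSpan P Δ' := fun k hk hfk =>
    (hgen k hk).resolve_right fun h => by
      rw [← Groth.Agent.RootDat.root_neg] at h
      have := hfpos _ (hf₀ _ h)
      rw [Groth.Agent.RootDat.root_neg, map_neg] at this
      omega
  refine ⟨E, hE, fun i hi => (hiff i (hΔ'R hi)).mpr ⟨?_, ?_⟩, Set.ext fun k => ?_⟩
  · exact hfpos i (hf₀ i (AddSubmonoid.subset_closure ⟨i, hi, rfl⟩))
  · rintro ⟨a, b, ha, hb, hfa, hfb, he⟩
    exact Groth.Agent.RootDat.root_ne_add hli hi (hback a ha hfa) (hback b hb hfb) he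
  · refine ⟨fun hk => ?_, fun hk => hsat k ⟨1, one_pos, by rw [one_smul]; exact hle hk⟩⟩
    rcases hgen k hk with h | h
    · exact Groth.Agent.RootDat.natSpan_le_span P _ h
    · exact neg_mem_iff.mp (Groth.Agent.RootDat.natSpan_le_span P _ h)

end Groth.Agent.S5461
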