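import Groth.Statements.S5462
import Groth.Agent.RootDat.Comb

set_option autoImplicit false
open RootPairing
open scoped Pointwise
open RootD

namespace Groth.Agent.S5462

/-- For Δ' contained in a system of simple roots Δ, the subgroup of the Weyl group generated by the
reflections in Δ' preserves the set of positive roots not lying in the span of Δ'. -/
theorem result {ι M N : Type*} [AddCommGroup M] [AddCommGroup N]
    (P : RootPairing ι ℤ M N) [Finite ι] (Δ Δ' : Set ι) (hΔ : RootD.IsSimpleSys P Δ) (hsub : Δ' ⊆ Δ)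
    (g : P.Aut) (hg : g ∈ Subgroup.closure ((fun i : ι => Equiv.reflection P i) '' Δ'))
    (k : ι) (hk : k ∈ RootD.posOf P Δ) (hk' : k ∉ RootD.inSpan P Δ') :
    g • k ∈ RootD.posOf P Δ ∧ g • k ∉ RootD.inSpan P Δ' := by
  obtain ⟨l, hl, rfl⟩ := Groth.Agent.RootDat.exists_word P (D := Δ') hg
  clear hg
  induction l with
  | nil => simpa using ⟨hk, hk'⟩
  | cons a l ih =>
    obtain ⟨h₁, h₂⟩ := ih fun b hb => hl b (by simp [hb])
    have ha : a ∈ Δ' := hl a (by simp)
    have haspan : P.root a ∈ Submodule.span ℤ (P.root '' Δ') :=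
      Submodule.subset_span (Set.mem_image_of_mem _ ha)
    rw [Groth.Agent.RootDat.wprod_cons, mul_smul, Groth.Agent.RootDat.refl_smul_idx]
    refine ⟨by_contra fun hno => ?_, fun hin => h₂ ?_⟩
    · rcases Groth.Agent.RootDat.Simple.step hΔ (hsub ha) h₁ hno with e | e
      · exact h₂ (show P.root _ ∈ Submodule.span ℤ (P.root '' Δ') by rw [e]; exact haspan)
      · exact h₂ (show P.root _ ∈ Submodule.span ℤ (P.root '' Δ') by
          rw [e]; exact Submodule.smul_mem _ _ haspan)
    · show P.root _ ∈ Submodule.span ℤ (P.root '' Δ')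
      have := add_mem hin (Submodule.smul_mem _
        (P.pairing (Groth.Agent.RootDat.wprod P l • k) a) haspan)
      rwa [Groth.Agent.RootDat.root_reflectionPerm', sub_add_cancel] at this

end Groth.Agent.S5462
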