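import Groth.Statements.S5463
import Groth.Agent.RootDat.Comb

set_option autoImplicit false
open RootPairing
open scoped Pointwise
open RootD

namespace Groth.Agent.S5463

/-- An element w of the Weyl group belongs to the subgroup generated by the reflections in Δ' ⊆ Δ (Δ a
system of simple roots) if and only if w(α) - α lies in the rational span of Δ' for every root α. -/
theorem result {ι M N : Type*} [AddCommGroup M] [AddCommGroup N]
    (P : RootPairing ι ℤ M N) [Finite ι] (Δ Δ' : Set ι) (hΔ : RootD.IsSimpleSys P Δ)
    (hsub : Δ' ⊆ Δ) (g : P.Aut) (hg : g ∈ P.weylGroup) :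
    g ∈ Subgroup.closure ((fun i : ι => Equiv.reflection P i) '' Δ') ↔
      ∀ k : ι, ∃ n : ℕ, 0 < n ∧ n • (P.root (g • k) - P.root k) ∈ Submodule.span ℤ (P.root '' Δ') := by

  constructor
  · intro hgA k
    refine ⟨1, one_pos, ?_⟩
    rw [one_smul, Groth.Agent.RootDat.smul_root]
    generalize P.root k = m
    obtain ⟨l, hl, rfl⟩ := Groth.Agent.RootDat.exists_word P (D := Δ') hgA
    clear hgA hg
    induction l with
    | nil => simp
    | cons a l ih =>
      rw [Groth.Agent.RootDat.wprod_cons, mul_smul, Groth.Agent.RootDat.reflection_apply',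
        sub_right_comm]
      exact sub_mem (ih fun b hb => hl b (by simp [hb]))
        (Submodule.smul_mem _ _ (Submodule.subset_span (Set.mem_image_of_mem _ (hl a (by simp)))))
  · intro hcond
    obtain ⟨l, hl, hlg, hmin⟩ := Groth.Agent.RootDat.exists_min_word P
      (Groth.Agent.RootDat.Simple.mem_closure hΔ hg)
    subst hlg
    clear hg
    induction l using List.reverseRecOn with
    | nil => exact one_mem _
    | append_singleton t i ih =>
      have hi : i ∈ Δ := hl i (by simp)
      have ht : ∀ a ∈ t, a ∈ Δ := fun a ha => hl a (by simp [ha])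
      have hneg := ((Groth.Agent.RootDat.Simple.walls hΔ).last_neg t ht i hi hmin).2
      set w := Groth.Agent.RootDat.wprod P (t ++ [i]) with hw
      have hiΔ' : i ∈ Δ' := by
        obtain ⟨n, hn, hmem⟩ := hcond i
        have hnp := (Groth.Agent.RootDat.Simple.neg_iff hΔ _).mpr hneg
        obtain ⟨c, ⟨hc, hc'⟩, hcx⟩ := (Groth.Agent.RootDat.natSpan_iff P).mp hnp
        rw [Groth.Agent.RootDat.root_neg] at hcx
        have := Groth.Agent.RootDat.coeff_support (c := c + Finsupp.single i 1) hΔ.linInd hsub
          (Groth.Agent.RootDat.support_add_le hc (Groth.Agent.RootDat.support_single_le hi 1))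
          (n := -(n : ℤ)) (by omega) (by
            rw [map_add, hcx, Finsupp.linearCombination_single, one_smul, neg_smul,
              natCast_zsmul, ← smul_neg, neg_add, neg_neg, ← sub_eq_add_neg]
            exact hmem)
        refine this (Finsupp.mem_support_iff.mpr ?_)
        have := hc' i
        rw [Finsupp.add_apply, Finsupp.single_eq_same]
        omega
      have hwt : w = Groth.Agent.RootDat.wprod P t * RootPairing.Equiv.reflection P i := by
        rw [hw, Groth.Agent.RootDat.wprod_append]; simp
      have hspan : P.root i ∈ Submodule.span ℤ (P.root '' Δ') :=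
        Submodule.subset_span (Set.mem_image_of_mem _ hiΔ')
      rw [hwt]
      refine mul_mem (ih ht (fun k => ?_) fun l' h₁ h₂ => ?_)
        (Groth.Agent.RootDat.mem_reflClosure P hiΔ')
      swap
      · have := hmin (l' ++ [i]) (by simpa [or_imp, forall_and] using ⟨h₁, hi⟩)
          (by rw [Groth.Agent.RootDat.wprod_append, h₂, hwt]; simp)
        simpa using this
      · obtain ⟨n, hn, hmem⟩ := hcond (RootPairing.Equiv.reflection P i • k)
        refine ⟨n, hn, ?_⟩
        rw [hwt, mul_smul, ← mul_smul (RootPairing.Equiv.reflection P i),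
          Groth.Agent.RootDat.reflection_mul_self, one_smul] at hmem
        have := sub_mem hmem (Submodule.smul_mem _ ((n : ℤ) * P.pairing k i) hspan)
        convert this using 1
        rw [Groth.Agent.RootDat.refl_smul_idx, Groth.Agent.RootDat.root_reflectionPerm', mul_smul,
          natCast_zsmul, smul_sub, smul_sub, smul_sub]
        abel

end Groth.Agent.S5463
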