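import Groth.Statements.S5464
import Groth.Agent.RootDat.Comb

set_option autoImplicit false
open RootD Groth.Agent.RootDat

namespace Groth.Agent.S5464

/-- Given an indivisible root α and a root γ not proportional to it, there is a system of simple roots
containing α and a simple root β of it with γ = aα + bβ, a, b ∈ ℕ. -/
theorem result {ι M N : Type*} [AddCommGroup M] [AddCommGroup N]
    (P : RootPairing ι ℤ M N) [Finite ι] (i k : ι) (hα : RootD.IsIndiv P i)
    (hli : LinearIndependent ℤ ![P.root i, P.root k]) :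
    ∃ Δ : Set ι, RootD.IsSimpleSys P Δ ∧ i ∈ Δ ∧
      ∃ j ∈ Δ, ∃ a b : ℕ, P.root k = a • P.root i + b • P.root j := by
  classical
  let := Fintype.ofFinite ι
  have := isTorsionFree_left P
  have hli' := LinearIndependent.pair_iff.mp hli
  -- saturations of the spans of `i`, and of `i, k`
  let R1 : Set ι := {l | ∃ n : ℕ, 0 < n ∧ n • P.root l ∈ Submodule.span ℤ {P.root i}}
  let R2 : Set ι := {l | ∃ n : ℕ, 0 < n ∧ n • P.root l ∈ Submodule.span ℤ {P.root i, P.root k}}
  have hsat : ∀ T : Set M, ∀ l : ι, (∃ n : ℕ, 0 < n ∧ n • P.root l ∈ Submodule.span ℤ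
      (P.root '' {l | ∃ n : ℕ, 0 < n ∧ n • P.root l ∈ Submodule.span ℤ T})) →
      ∃ n : ℕ, 0 < n ∧ n • P.root l ∈ Submodule.span ℤ T := by
    rintro T l ⟨n, hn, hl⟩
    suffices ∀ x ∈ Submodule.span ℤ
        (P.root '' {l | ∃ n : ℕ, 0 < n ∧ n • P.root l ∈ Submodule.span ℤ T}),
        ∃ m : ℕ, 0 < m ∧ m • x ∈ Submodule.span ℤ T by
      obtain ⟨m, hm, hmem⟩ := this _ hl
      exact ⟨m * n, Nat.mul_pos hm hn, by rwa [mul_nsmul']⟩
    intro x hx
    induction hx using Submodule.span_induction with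
    | mem x hx => obtain ⟨a, ha, rfl⟩ := hx; exact ha
    | zero => exact ⟨1, one_pos, by simp⟩
    | add x y _ _ hx hy =>
      obtain ⟨a, ha, hx⟩ := hx
      obtain ⟨b, hb, hy⟩ := hy
      refine ⟨a * b, Nat.mul_pos ha hb, ?_⟩
      rw [smul_add]
      refine add_mem ?_ ?_
      · rw [mul_comm, mul_nsmul']; exact nsmul_mem hx b
      · rw [mul_nsmul']; exact nsmul_mem hy a
    | smul z x _ hx =>
      obtain ⟨a, ha, hx⟩ := hx
      exact ⟨a, ha, by rw [smul_comm]; exact Submodule.smul_mem _ z hx⟩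
  have hiR2 : i ∈ R2 := ⟨1, one_pos, by rw [one_smul]; exact Submodule.subset_span (by simp)⟩
  have hkR2 : k ∈ R2 := ⟨1, one_pos, by rw [one_smul]; exact Submodule.subset_span (by simp)⟩
  have hiR1 : i ∈ R1 := ⟨1, one_pos, by rw [one_smul]; exact Submodule.subset_span (by simp)⟩
  obtain ⟨g₀, hg₀⟩ := exists_fun_zero_iff P R1 (hsat {P.root i})
  have hk0 : g₀ (P.root k) ≠ 0 := fun e => by
    obtain ⟨n, hn, hmem⟩ := (hg₀ k).mp e
    obtain ⟨z, hz⟩ := Submodule.mem_span_singleton.mp hmem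
    have := (hli' (-z) n (by rw [neg_smul, hz, natCast_zsmul, neg_add_cancel])).2
    omega
  obtain ⟨g, hg, hgk⟩ : ∃ g : M →+ ℤ, (∀ l, g (P.root l) = 0 ↔ l ∈ R1) ∧ 0 < g (P.root k) := by
    rcases lt_or_gt_of_ne hk0 with hneg | hpos
    · exact ⟨-g₀, fun l => by simp [hg₀ l], by simpa using hneg⟩
    · exact ⟨g₀, hg₀, hpos⟩
  obtain ⟨h, hne, hhi⟩ := exists_regular_pos P (f := (P.RootForm (P.root i)).toAddMonoidHom)
  have hhi' : 0 < h (P.root i) := hhi i (form_root_pos P i)
  obtain ⟨f, hf⟩ := exists_lex P g h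
  have hfne : ∀ l, f (P.root l) ≠ 0 := fun l e => hne l ((hf l).2.mp e).2
  obtain ⟨E, hE, -, hR, hiff⟩ := exists_simple_extend R2 (hsat {P.root i, P.root k}) f hfne
  have hiE : i ∈ E := by
    refine (hiff i hiR2).mpr ⟨(hf i).1.mpr (Or.inr ⟨(hg i).mpr hiR1, hhi'⟩), ?_⟩
    rintro ⟨a, b, -, -, ha, hb, he⟩
    have hga : g (P.root a) + g (P.root b) = 0 := by rw [← map_add, ← he, (hg i).mpr hiR1]
    rw [(hf a).1] at ha
    rw [(hf b).1] at hb
    have ha0 : g (P.root a) = 0 := by omega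
    have hb0 : g (P.root b) = 0 := by omega
    have mult : ∀ l, g (P.root l) = 0 → 0 < h (P.root l) →
        ∃ e : ℤ, 1 ≤ e ∧ P.root l = e • P.root i := by
      intro l hl hhl
      obtain ⟨n, hn, hmem⟩ := (hg l).mp hl
      obtain ⟨z, hz⟩ := Submodule.mem_span_singleton.mp hmem
      obtain ⟨e, -, hle, -⟩ := prop_indiv hα (a := z) (b := (n : ℤ)) (by omega)
        (by rw [natCast_zsmul, hz])
      refine ⟨e, ?_, hle⟩
      rw [hle, map_zsmul, smul_eq_mul] at hhl
      exact Int.add_one_le_iff.mpr (pos_of_mul_pos_left hhl hhi'.le)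
    obtain ⟨e, he1, hea⟩ := mult a ha0 (by omega)
    obtain ⟨e', he1', heb⟩ := mult b hb0 (by omega)
    have hh := congr_arg h he
    rw [hea, heb, map_add, map_zsmul, map_zsmul, smul_eq_mul, smul_eq_mul] at hh
    nlinarith
  have hkspan := hR k hkR2 ((hf k).1.mpr (Or.inl hgk))
  obtain ⟨c, ⟨hc, hc'⟩, hcx⟩ := (natSpan_iff P).mp hkspan
  obtain ⟨δ, hδ, hδi⟩ : ∃ δ ∈ c.support, δ ≠ i := by
    by_contra! hcon
    have : c = Finsupp.single i (c i) := Finsupp.ext fun l => by
      by_cases hl : l = i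
      · simp [hl]
      · rw [Finsupp.single_eq_of_ne hl]
        exact Finsupp.notMem_support_iff.mp fun hm => hl (hcon l hm)
    rw [this, Finsupp.linearCombination_single] at hcx
    have := (hli' (-(c i)) 1 (by rw [neg_smul, hcx, one_smul, neg_add_cancel])).2
    omega
  obtain ⟨n, hn, hmem⟩ := (hc hδ).2
  obtain ⟨a, b, hab⟩ := Submodule.mem_span_pair.mp hmem
  have hcoef : a • Finsupp.single i 1 + b • c = (n : ℤ) • Finsupp.single δ 1 := by
    refine coeff_unique P hE.linInd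
      (support_add_le (fun l hl => support_single_le hiE 1 (Finsupp.support_smul hl))
        fun l hl => (hc (Finsupp.support_smul hl)).1)
      (fun l hl => support_single_le (hc hδ).1 1 (Finsupp.support_smul hl)) ?_
    rw [map_add, map_smul, map_smul, map_smul, hcx, Finsupp.linearCombination_single,
      Finsupp.linearCombination_single, one_smul, one_smul, hab, natCast_zsmul]
  have hb0 : b ≠ 0 := by
    have := DFunLike.congr_fun hcoef δ
    simp [hδi, Finsupp.single_eq_of_ne hδi] at this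
    rintro rfl; omega
  have hvanish : ∀ l, l ≠ i → l ≠ δ → c l = 0 := fun l h₁ h₂ => by
    have := DFunLike.congr_fun hcoef l
    simpa [Finsupp.single_eq_of_ne h₁, Finsupp.single_eq_of_ne h₂, hb0] using this
  refine ⟨E, hE, hiE, δ, (hc hδ).1, (c i).toNat, (c δ).toNat, ?_⟩
  have hc2 : c = Finsupp.single i (c i) + Finsupp.single δ (c δ) := Finsupp.ext fun l => by
    by_cases h₁ : l = i
    · subst h₁; simp [Finsupp.single_eq_of_ne (Ne.symm hδi)]
    · by_cases h₂ : l = δ
      · subst h₂; simp [Finsupp.single_eq_of_ne h₁]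
      · simp [Finsupp.single_eq_of_ne h₁, Finsupp.single_eq_of_ne h₂, hvanish l h₁ h₂]
  rw [← natCast_zsmul, ← natCast_zsmul, Int.toNat_of_nonneg (hc' i), Int.toNat_of_nonneg (hc' δ),
    ← hcx]
  conv_lhs => rw [hc2]
  simp

end Groth.Agent.S5464
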