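import Groth.Statements.S5468
import Groth.Agent.RootDat.Comb

set_option autoImplicit false
open RootD

namespace Groth.Agent.S5468

/-- Two roots whose reflections are distinct and commute are orthogonal. -/
theorem result {ι M N : Type*} [AddCommGroup M] [AddCommGroup N]
    (P : RootPairing ι ℤ M N) [Finite ι] (i j : ι)
    (hne : P.reflection i ≠ P.reflection j) (hc : Commute (P.reflection i) (P.reflection j)) :
    P.IsOrthogonal i j := by
  refine (Groth.Agent.RootDat.isOrthogonal_iff P i j).mpr ?_
  by_contra hp
  have hq : P.pairing j i ≠ 0 := fun e =>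
    hp ((Groth.Agent.RootDat.pairing_zero_comm P i j).mpr e)
  by_cases hli : LinearIndependent ℤ ![P.root i, P.root j]
  · have h := LinearMap.congr_fun (congr_arg LinearEquiv.toLinearMap hc.eq) (P.root j)
    have h' := LinearIndependent.pair_iff.mp hli
    simp only [LinearEquiv.coe_coe, LinearEquiv.mul_apply, RootPairing.reflection_apply_self,
      map_neg, RootPairing.reflection_apply_root, map_sub, map_zsmul] at h
    have h2 := h' (2 * P.pairing j i) (-(P.pairing j i * P.pairing i j)) (by
      rw [← sub_eq_zero] at h
      refine Eq.trans ?_ h
      module)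
    exact hq (by omega)
  · rw [LinearIndependent.pair_iff] at hli
    push Not at hli
    obtain ⟨s, t, hst, hne₂⟩ := hli
    have hs : s ≠ 0 := fun hs => by
      subst hs
      rw [zero_smul, zero_add] at hst
      have := Groth.Agent.RootDat.isTorsionFree_left P
      exact hne₂ rfl ((smul_eq_zero.mp hst).resolve_right (P.ne_zero j))
    have h : s • P.root i = (-t) • P.root j := by rw [neg_smul, ← eq_neg_iff_add_eq_zero.mpr hst]
    refine hne ?_
    ext m
    have := congr_arg (fun g : P.Aut => g • m) (Groth.Agent.RootDat.refl_eq_of_smul P hs h)
    simpa using this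

end Groth.Agent.S5468
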