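import Groth.Statements.S5471
import Groth.Agent.RootDat.Length

set_option autoImplicit false
open RootPairing
open scoped Pointwise
open RootD Groth.Agent.RootDat

namespace Groth.Agent.S5471

/-- In a reduced irreducible root datum the ratios of squared root lengths to the minimal one form one
of the sets {1}, {1, 2}, {1, 3}. -/
theorem result {ι M N : Type*} [AddCommGroup M] [AddCommGroup N]
    (P : RootPairing ι ℤ M N) [Finite ι] [Fintype ι] [Nonempty ι] [P.IsReduced]
    (hirr : ∀ R' : Set ι, RootD.IsClosedSub P R' → RootD.IsSymmSub P R' → RootD.IsClosedSub P R'ᶜ →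
      RootD.IsSymmSub P R'ᶜ → R' = ∅ ∨ R' = Set.univ)
    (i₀ : ι) (hmin : ∀ i : ι, P.RootForm (P.root i₀) (P.root i₀) ≤ P.RootForm (P.root i) (P.root i)) :
    (∀ i : ι, P.RootForm (P.root i) (P.root i) = P.RootForm (P.root i₀) (P.root i₀) ∨
        P.RootForm (P.root i) (P.root i) = 2 * P.RootForm (P.root i₀) (P.root i₀) ∨
        P.RootForm (P.root i) (P.root i) = 3 * P.RootForm (P.root i₀) (P.root i₀)) ∧
      ¬ ((∃ i : ι, P.RootForm (P.root i) (P.root i) = 2 * P.RootForm (P.root i₀) (P.root i₀)) ∧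
          ∃ j : ι, P.RootForm (P.root j) (P.root j) = 3 * P.RootForm (P.root i₀) (P.root i₀)) := by
  have key : ∀ a b : ι, P.RootForm (P.root a) (P.root a) ≤ P.RootForm (P.root b) (P.root b) →
      ∃ c : ℤ, (c = 1 ∨ c = 2 ∨ c = 3) ∧
        P.RootForm (P.root b) (P.root b) = c * P.RootForm (P.root a) (P.root a) := by
    intro a b hab
    obtain ⟨g, -, hno⟩ := exists_conj_not_orth (irred_linked hirr a b)
    have := length_ratio_reduced hno (by rw [form_root_smul]; exact hab)
    rwa [form_root_smul] at this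
  refine ⟨fun i => ?_, ?_⟩
  · obtain ⟨c, hc, he⟩ := key i₀ i (hmin i)
    rcases hc with rfl | rfl | rfl
    · exact Or.inl (by rw [he, one_mul])
    · exact Or.inr (Or.inl he)
    · exact Or.inr (Or.inr he)
  · rintro ⟨⟨i, hi⟩, j, hj⟩
    have hp := form_root_pos P i₀
    obtain ⟨c, hc, he⟩ := key i j (by rw [hi, hj]; linarith)
    rw [hi, hj] at he
    rcases hc with rfl | rfl | rfl <;> linarith

end Groth.Agent.S5471
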