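import Groth.Statements.S5472
import Groth.Agent.RootDat.Dominant

set_option autoImplicit false
open RootPairing
open scoped Pointwise
open RootD Groth.Agent.RootDat

namespace Groth.Agent.S5472

/-- Let Δ be a system of simple roots (root-only sense), γ a positive root and α, β simple roots with
(γ, α^v) > 0 and (γ, β^v) ≥ 0 (equivalently: the order of s_α(γ) along Δ is smaller than that of γ,
and the order of s_β(γ) is at most that of γ). Then for every w in the group generated by s_α and
s_β the order of w(γ) along Δ is at most that of γ, and strictly smaller unless w ∈ {1, s_β}. The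
order is the sum of the coefficients along Δ; the conclusion is stated for the coefficient vector c
of γ - w(γ) along Δ: its coefficient sum is ≥ 0, and > 0 unless w = 1 or w = s_β. -/
theorem result {ι M N : Type*} [AddCommGroup M] [AddCommGroup N]
    (P : RootPairing ι ℤ M N) [Finite ι] (Δ : Set ι) (hΔ : RootD.IsSimpleSys P Δ)
    (k i j : ι) (hk : k ∈ RootD.posOf P Δ) (hi : i ∈ Δ) (hj : j ∈ Δ)
    (hα : 0 < P.pairing k i) (hβ : 0 ≤ P.pairing k j)
    (g : P.Aut) (hg : g ∈ Subgroup.closure {Equiv.reflection P i, Equiv.reflection P j})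
    (c : ι →₀ ℤ) (hc : ↑c.support ⊆ Δ)
    (hck : Finsupp.linearCombination ℤ P.root c = P.root k - P.root (g • k)) :
    0 ≤ c.sum (fun _ a => a) ∧ (g ≠ 1 → g ≠ Equiv.reflection P j → 0 < c.sum (fun _ a => a)) := by
  classical
  obtain ⟨f, -, hf⟩ := Simple.exists_fun hΔ
  have hW : Walls P ({i, j} : Set ι) (RootD.posOf P Δ) {a | RootD.IsIndiv P a} :=
    have hsub : ({i, j} : Set ι) ⊆ Δ := Set.insert_subset hi (Set.singleton_subset_iff.mpr hj)
    { pos := fun a ha => (Simple.walls hΔ).pos (hsub ha)
      good := fun a ha => (Simple.walls hΔ).good (hsub ha)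
      neg_iff := (Simple.walls hΔ).neg_iff
      stable := fun a ha => (Simple.walls hΔ).stable a (hsub ha)
      step := fun a ha => (Simple.walls hΔ).step a (hsub ha) }
  have hg' : g ∈ reflClosure P ({i, j} : Set ι) := by
    unfold reflClosure
    rwa [Set.image_pair]
  obtain ⟨l, hl, rfl, hmin⟩ := exists_min_word P hg'
  obtain ⟨L, hL₁, hL₂, hL₃⟩ := word_expansion hW l hl hmin
  have hlab : ∀ p ∈ L, 0 ≤ P.pairing k p.1 ∧ (p.1 = i → 0 < P.pairing k p.1) := fun p hp => by
    rcases hl p.1 (hL₁ ▸ List.mem_map_of_mem hp) with e | e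
    · rw [e]; exact ⟨hα.le, fun _ => hα⟩
    · rw [Set.mem_singleton_iff] at e
      rw [e]; exact ⟨hβ, fun e' => by rw [e']; exact hα⟩
  have hx : Finsupp.linearCombination ℤ P.root c =
      (L.map fun p => P.coroot' p.1 (P.root k) • P.root p.2).sum := by
    rw [hck, smul_root]; exact hL₃ _
  have hmem : Finsupp.linearCombination ℤ P.root c ∈ RootD.natSpan P Δ := by
    rw [hx]
    refine list_sum_mem ?_
    simp only [List.mem_map]
    rintro x ⟨p, hp, rfl⟩
    obtain ⟨z, hz⟩ := Int.eq_ofNat_of_zero_le (show 0 ≤ P.coroot' p.1 (P.root k) from (hlab p hp).1)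
    rw [hz, natCast_zsmul]
    exact AddSubmonoid.nsmul_mem _ (hL₂ p hp) z
  obtain ⟨d, ⟨hd, hd'⟩, hdx⟩ := (natSpan_iff P).mp hmem
  have hcd : c = d := coeff_unique P hΔ.linInd hc hd hdx.symm
  refine ⟨Finset.sum_nonneg fun a _ => hcd ▸ hd' a, fun h1 hj' => ?_⟩
  have hfc : 0 < f (Finsupp.linearCombination ℤ P.root c) := by
    have hi_mem : i ∈ l := by
      by_contra hil
      have hall : ∀ a ∈ l, a = j := fun a ha => by
        rcases hl a ha with e | e
        · exact absurd (e ▸ ha) hil
        · exact e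
      rcases l with _ | ⟨a, _ | ⟨b, t⟩⟩
      · exact h1 rfl
      · exact hj' (by simp [hall a (by simp)])
      · have := hmin t (fun x hx => hl x (by simp [hx])) (by
          rw [wprod_cons, wprod_cons, hall a (by simp), hall b (by simp), ← mul_assoc,
            reflection_mul_self, one_mul])
        simp at this
    rw [hx, map_list_sum, List.map_map]
    obtain ⟨p, hp, hpi⟩ := List.mem_map.mp (hL₁ ▸ hi_mem)
    have hnn : ∀ y ∈ L.map ((fun x => f x) ∘ fun p => P.coroot' p.1 (P.root k) • P.root p.2),
        0 ≤ y := by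
      simp only [List.mem_map, Function.comp_apply]
      rintro y ⟨q, hq, rfl⟩
      rw [map_zsmul, smul_eq_mul]
      exact mul_nonneg (hlab q hq).1 ((hf _).mp (hL₂ q hq)).le
    refine lt_of_lt_of_le ?_ (List.single_le_sum hnn _ (List.mem_map_of_mem hp))
    simp only [Function.comp_apply, map_zsmul, smul_eq_mul]
    exact mul_pos ((hlab p hp).2 hpi) ((hf _).mp (hL₂ p hp))
  have hne : c ≠ 0 := fun e => by simp [e] at hfc
  obtain ⟨a, ha⟩ := Finsupp.support_nonempty_iff.mpr hne
  refine lt_of_lt_of_le ?_ (Finset.single_le_sum (fun b _ => hcd ▸ hd' b) ha)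
  have := hd' a
  rw [← hcd] at this
  exact lt_of_le_of_ne this (Finsupp.mem_support_iff.mp ha).symm

end Groth.Agent.S5472
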