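import Groth.Statements.S5473
import Groth.Agent.RootDat.Length

set_option autoImplicit false
open RootD Groth.Agent.RootDat

namespace Groth.Agent.S5473

/-- If a linear map f and its transpose g induce bijections from the roots of R' onto the roots of R and
from the coroots of R onto the coroots of R' respectively (a morphism of root data in the
two-bijection sense), then the two bijections correspond: the coroot of α' is g applied to the
coroot of f(α'). -/
theorem result {ι M N ι' M' N' : Type*} [AddCommGroup M] [AddCommGroup N] [AddCommGroup M'] [AddCommGroup N']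
    (P : RootPairing ι ℤ M N) (P' : RootPairing ι' ℤ M' N') [Finite ι] [Finite ι']
    (f : M' →ₗ[ℤ] M) (g : N →ₗ[ℤ] N') (hfg : ∀ (m' : M') (n : N), P.toLinearMap (f m') n = P'.toLinearMap m' (g n))
    (e : ι' ≃ ι) (he : ∀ i' : ι', f (P'.root i') = P.root (e i'))
    (e' : ι ≃ ι') (he' : ∀ i : ι, g (P.coroot i) = P'.coroot (e' i)) :
    ∀ i' : ι', g (P.coroot (e i')) = P'.coroot i' := by
  intro i'
  set β := P'.coroot (e' (e i')) with hβ
  have hgb : g (P.coroot (e i')) = β := he' _
  have := isTorsionFree_left P'
  have hinj : ∀ v ∈ Submodule.span ℤ (Set.range P'.root), f v = 0 → v = 0 := fun v hv hfv =>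
    eq_zero_of_coroot' P' hv fun a => by
      have := hfg v (P.coroot (e'.symm a))
      rw [hfv, map_zero, LinearMap.zero_apply, he', Equiv.apply_symm_apply] at this
      exact this.symm
  set d : M' →ₗ[ℤ] ℤ := P'.toLinearMap.flip β - P'.coroot' i' with hd
  have hbeta : ∀ x, P'.toLinearMap x β = P.toLinearMap (f x) (P.coroot (e i')) := fun x => by
    rw [hfg, hgb]
  have hdi : d (P'.root i') = 0 := by
    simp only [hd, LinearMap.sub_apply, LinearMap.flip_apply]
    rw [hbeta, he, P.root_coroot_two, P'.root_coroot_two, sub_self]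
  have hstep : ∀ a : ι', ∃ b : ι', P'.root b = P'.root a + d (P'.root a) • P'.root i' := by
    intro a
    obtain ⟨b, hb⟩ : ∃ b : ι', P'.root b =
        P'.root a - P'.toLinearMap (P'.root a) β • P'.root i' := by
      refine ⟨e.symm (P.reflectionPerm (e i') (e a)), sub_eq_zero.mp (hinj _ ?_ ?_)⟩
      · exact sub_mem (root_mem_span P' _)
          (sub_mem (root_mem_span P' _) (Submodule.smul_mem _ _ (root_mem_span P' _)))
      · rw [map_sub, map_sub, map_zsmul, he, he, he, Equiv.apply_symm_apply, hbeta, he,
          root_reflectionPerm', sub_eq_zero]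
        rfl
    refine ⟨P'.reflectionPerm i' b, ?_⟩
    rw [P'.root_reflectionPerm, RootPairing.reflection_apply, hb, map_sub, map_smul, coroot'_root P' i' i',
      P'.pairing_same]
    simp only [hd, LinearMap.sub_apply, LinearMap.flip_apply, smul_eq_mul]
    module
  have hzero : ∀ a, d (P'.root a) = 0 := fun a => by
    by_contra hne
    have hall : ∀ n : ℕ, ∃ b : ι', P'.root b = P'.root a + ((n : ℤ) * d (P'.root a)) • P'.root i' := by
      intro n
      induction n with
      | zero => exact ⟨a, by simp⟩
      | succ n ih =>
        obtain ⟨b, hb⟩ := ih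
        obtain ⟨b', hb'⟩ := hstep b
        refine ⟨b', ?_⟩
        rw [hb', hb, map_add, map_zsmul, hdi, smul_zero, add_zero]
        push_cast
        module
    choose b hb using hall
    obtain ⟨m, n, hmn, hbmn⟩ := Finite.exists_ne_map_eq_of_infinite b
    have h := hb m
    rw [hbmn, hb n, add_left_cancel_iff, ← sub_eq_zero, ← sub_smul, smul_eq_zero] at h
    rcases h with h | h
    · rw [← sub_mul, mul_eq_zero] at h
      rcases h with h | h <;> omega
    · exact P'.ne_zero i' h
  have hspan : β - P'.coroot i' ∈ Submodule.span ℤ (Set.range P'.flip.root) :=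
    sub_mem (Submodule.subset_span ⟨e' (e i'), rfl⟩) (Submodule.subset_span ⟨i', rfl⟩)
  have h0 := eq_zero_of_coroot' P'.flip hspan fun a => by
    show P'.toLinearMap (P'.root a) (β - P'.coroot i') = 0
    rw [map_sub]
    exact hzero a
  rw [hgb]
  exact sub_eq_zero.mp h0

end Groth.Agent.S5473
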