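import Groth.Statements.S5474
import Groth.Agent.RootDat.Length
import Mathlib.GroupTheory.FiniteAbelian.Basic

set_option autoImplicit false
open RootD Groth.Agent.RootDat

namespace Groth.Agent.S5474

lemma tors {L : Type*} [AddCommGroup L] [Module.Finite ℤ L] (S : Submodule ℤ L)
    (hS : Module.finrank ℤ S = Module.finrank ℤ L) (x : L) : ∃ n : ℕ, 0 < n ∧ n • x ∈ S := by
  have h0 : Module.finrank ℤ (L ⧸ S) = 0 := by
    have := Submodule.finrank_quotient_add_finrank S
    omega
  obtain ⟨a, ha, hax⟩ := Module.finrank_eq_zero_iff.mp h0 (Submodule.Quotient.mk x)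
  rw [← Submodule.Quotient.mk_smul, Submodule.Quotient.mk_eq_zero] at hax
  refine ⟨a.natAbs, Int.natAbs_pos.mpr ha, ?_⟩
  rw [← natCast_zsmul]
  rcases a.natAbs_eq with e | e
  · rwa [← e]
  · rw [show (a.natAbs : ℤ) = -a by omega, neg_smul]; exact neg_mem hax

/-- Every morphism between semisimple root data is an isogeny (injective on weight lattices with finite
cokernel). -/
theorem result {ι M N ι' M' N' : Type*} [AddCommGroup M] [AddCommGroup N] [AddCommGroup M'] [AddCommGroup N']
    (P : RootPairing ι ℤ M N) (P' : RootPairing ι' ℤ M' N') [Finite ι] [Finite ι']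
    [Module.Finite ℤ M] [Module.Finite ℤ N] [Module.Finite ℤ M'] [Module.Finite ℤ N']
    (hss : Module.finrank ℤ (Submodule.span ℤ (Set.range P.root)) = Module.finrank ℤ M)
    (hss' : Module.finrank ℤ (Submodule.span ℤ (Set.range P'.root)) = Module.finrank ℤ M')
    (f : RootPairing.Hom P' P) :
    Function.Injective f.weightMap ∧ Finite (M ⧸ LinearMap.range f.weightMap) := by
  have hT : ∀ (m : M') (n : N), P.toLinearMap (f.weightMap m) n =
      P'.toLinearMap m (f.coweightMap n) := fun m n =>
    LinearMap.congr_fun (RootPairing.Hom.weight_coweight_transpose_apply P' P n f) m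
  refine ⟨(injective_iff_map_eq_zero _).mpr fun v hv => ?_, ?_⟩
  · obtain ⟨n, hn, hmem⟩ := tors _ hss' v
    refine eq_zero_of_nsmul_mem P' hn hmem fun a => ?_
    have := hT v (P.coroot (f.indexEquiv a))
    rw [hv, map_zero, LinearMap.zero_apply] at this
    rw [show f.coweightMap (P.coroot (f.indexEquiv a)) = P'.coroot a by
      simpa using congr_fun f.coroot_coweightMap (f.indexEquiv a)] at this
    exact this.symm
  · refine Module.finite_of_fg_torsion _ ?_
    intro x
    obtain ⟨x, rfl⟩ := Submodule.Quotient.mk_surjective _ x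
    obtain ⟨n, hn, hmem⟩ := tors _ hss x
    refine ⟨⟨(n : ℤ), mem_nonZeroDivisors_of_ne_zero (by omega)⟩, ?_⟩
    rw [Submonoid.mk_smul, ← Submodule.Quotient.mk_smul, Submodule.Quotient.mk_eq_zero,
      natCast_zsmul]
    refine Submodule.span_le.mpr ?_ hmem
    rintro _ ⟨a, rfl⟩
    refine ⟨P'.root (f.indexEquiv.symm a), ?_⟩
    simpa using congr_fun f.root_weightMap (f.indexEquiv.symm a)

end Groth.Agent.S5474
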