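import Groth.Statements.S5475
import Groth.Agent.RootDat.Comb

set_option autoImplicit false
open RootD

namespace Groth.Agent.S5475

/-- In an adjoint root datum every indivisible root is an indivisible element of the weight lattice. -/
theorem result {ι M N : Type*} [AddCommGroup M] [AddCommGroup N]
    (P : RootPairing ι ℤ M N) [Finite ι] (had : Submodule.span ℤ (Set.range P.root) = ⊤)
    (i : ι) (hind : RootD.IsIndiv P i) (m : M) (n : ℤ) (h : n • m = P.root i) : n = 1 ∨ n = -1 := by
  obtain ⟨D, hD⟩ := Groth.Agent.RootDat.exists_simple_sys P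
  obtain ⟨g, -, i₀, hi₀, rfl⟩ := Groth.Agent.RootDat.Simple.exists_conj hD hind
  have hE := Groth.Agent.RootDat.simple_smul g hD
  obtain ⟨c, hc, hcx⟩ := Groth.Agent.RootDat.exists_coeff hE (x := m) (had ▸ Submodule.mem_top)
  have := Groth.Agent.RootDat.coeff_unique P hE.linInd (c := n • c)
    (d := Finsupp.single (g • i₀) 1) (fun j hj => hc (Finsupp.support_smul hj))
    (Groth.Agent.RootDat.support_single_le (Set.mem_image_of_mem _ hi₀) 1)
    (by rw [map_smul, hcx, h, Finsupp.linearCombination_single, one_smul])
  have h1 := DFunLike.congr_fun this (g • i₀)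
  rw [Finsupp.smul_apply, Finsupp.single_eq_same, smul_eq_mul] at h1
  exact Int.eq_one_or_neg_one_of_mul_eq_one h1

end Groth.Agent.S5475
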