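import Groth.Statements.S5476
import Groth.Agent.RootDat.Length
import Mathlib.LinearAlgebra.FreeModule.Finite.Matrix

set_option autoImplicit false
open RootD Groth.Agent.RootDat

namespace Groth.Agent.S5476

lemma key {ι : Type*} [Fintype ι] {M₀ N₀ : Type*} [AddCommGroup M₀] [AddCommGroup N₀]
    [Module.Finite ℤ M₀] (Q : RootPairing ι ℤ M₀ N₀) :
    Module.finrank ℤ (⨅ i : ι, LinearMap.ker (Q.coroot' i) : Submodule ℤ M₀) +
      Module.finrank ℤ (Submodule.span ℤ (Set.range Q.root)) = Module.finrank ℤ M₀ := by
  have htf := isTorsionFree_left Q.flip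
  have hker : LinearMap.ker Q.Polarization = ⨅ i : ι, LinearMap.ker (Q.coroot' i) := by
    ext x
    simp only [LinearMap.mem_ker, Submodule.mem_iInf]
    refine ⟨fun hx i => ?_, fun hx => by simp [RootPairing.Polarization_apply, hx]⟩
    have hxx : Q.RootForm x x = 0 := by
      rw [← Q.toLinearMap_apply_apply_Polarization, hx, map_zero]
    rw [form_eq] at hxx
    exact mul_self_eq_zero.mp
      ((Finset.sum_eq_zero_iff_of_nonneg fun j _ => mul_self_nonneg _).mp hxx i (Finset.mem_univ i))
  have hle : LinearMap.range Q.Polarization ≤ Submodule.span ℤ (Set.range Q.coroot) := by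
    rintro _ ⟨x, rfl⟩
    rw [RootPairing.Polarization_apply]
    exact Submodule.sum_mem _ fun i _ => Submodule.smul_mem _ _ (Submodule.subset_span ⟨i, rfl⟩)
  have hin : LinearMap.range (Q.PolarizationIn ℤ) ≤ LinearMap.range Q.Polarization := by
    rintro _ ⟨x, rfl⟩
    exact ⟨x, (Q.PolarizationIn_eq ℤ x).symm⟩
  have h₁ := Submodule.finrank_quotient_add_finrank (LinearMap.ker Q.Polarization)
  rw [(LinearMap.quotKerEquivRange Q.Polarization).finrank_eq, hker] at h₁
  have h₂ := Q.finrank_range_polarization_eq_finrank_span_coroot ℤ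
  have h₃ := Q.finrank_corootSpan_eq ℤ
  have h₄ := Submodule.finrank_mono hle
  have h₅ := Submodule.finrank_mono hin
  change _ = Module.finrank ℤ (Submodule.span ℤ (Set.range Q.coroot)) at h₂
  change Module.finrank ℤ (Submodule.span ℤ (Set.range Q.coroot)) =
    Module.finrank ℤ (Submodule.span ℤ (Set.range Q.root)) at h₃
  omega

/-- The lattice of the coradical (weights killed by every coroot) and the lattice of the radical
(coweights killed by every root) both have rank rgred - rgss, the rank of the weight lattice minus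
the rank of the lattice generated by the roots; and the datum is semisimple (the roots span a
sublattice of full rank) if and only if the coradical lattice vanishes, if and only if the radical
lattice vanishes. -/
theorem result {ι M N : Type*} [AddCommGroup M] [AddCommGroup N]
    (P : RootPairing ι ℤ M N) [Finite ι] [Module.Finite ℤ M] [Module.Finite ℤ N] :
    (Module.finrank ℤ (⨅ i : ι, LinearMap.ker (P.coroot' i) : Submodule ℤ M) +
        Module.finrank ℤ (Submodule.span ℤ (Set.range P.root)) = Module.finrank ℤ M) ∧
      (Module.finrank ℤ (⨅ i : ι, LinearMap.ker (P.root' i) : Submodule ℤ N) +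
        Module.finrank ℤ (Submodule.span ℤ (Set.range P.root)) = Module.finrank ℤ M) ∧
      (Module.finrank ℤ (Submodule.span ℤ (Set.range P.root)) = Module.finrank ℤ M ↔
        (⨅ i : ι, LinearMap.ker (P.coroot' i) : Submodule ℤ M) = ⊥) ∧
      (Module.finrank ℤ (Submodule.span ℤ (Set.range P.root)) = Module.finrank ℤ M ↔
        (⨅ i : ι, LinearMap.ker (P.root' i) : Submodule ℤ N) = ⊥) := by
  let := Fintype.ofFinite ι
  have := isTorsionFree_left P
  have := isTorsionFree_left P.flip
  have : Module.IsReflexive ℤ M := .of_isPerfPair P.toLinearMap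
  have hfree : Module.Free ℤ M := inferInstance
  have hNM : Module.finrank ℤ N = Module.finrank ℤ M := by
    rw [P.flip.toPerfPair.finrank_eq]
    exact Module.finrank_linearMap_self ℤ ℤ M
  have h₁ := key P
  have h₂ := key P.flip
  have h₃ := P.finrank_corootSpan_eq ℤ
  change Module.finrank ℤ (Submodule.span ℤ (Set.range P.coroot)) =
    Module.finrank ℤ (Submodule.span ℤ (Set.range P.root)) at h₃
  change Module.finrank ℤ (⨅ i : ι, LinearMap.ker (P.root' i) : Submodule ℤ N) +
    Module.finrank ℤ (Submodule.span ℤ (Set.range P.coroot)) = _ at h₂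
  rw [h₃, hNM] at h₂
  refine ⟨h₁, h₂, ?_, ?_⟩ <;> rw [← Submodule.finrank_eq_zero] <;> omega

end Groth.Agent.S5476
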