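import Groth.Statements.S5478
import Groth.Agent.RootDat.Comb

set_option autoImplicit false
open RootPairing
open scoped Pointwise
open RootD

namespace Groth.Agent.S5478

/-- The group of automorphisms of a root datum that act trivially on the radical is finite. -/
theorem result {ι M N : Type*} [AddCommGroup M] [AddCommGroup N]
    (P : RootPairing ι ℤ M N) [Finite ι] :
    Set.Finite {u : P.Aut | ∀ m : M, ∃ n : ℕ, 0 < n ∧ n • (u • m - m) ∈ Submodule.span ℤ (Set.range P.root)} := by
  refine Set.Finite.of_finite_image (f := fun u : P.Aut => (fun i : ι => u • i))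
    (Set.toFinite _) ?_
  intro u hu v hv huv
  have huv' : ∀ i : ι, u • i = v • i := fun i => congr_fun huv i
  have h : u⁻¹ * v = 1 := by
    refine Groth.Agent.RootDat.aut_eq_one _ (fun m => ?_) fun i => by
      rw [mul_smul, ← huv' i, inv_smul_smul]
    obtain ⟨a, ha, hua⟩ := hu m
    obtain ⟨b, hb, hvb⟩ := hv m
    refine ⟨a * b, Nat.mul_pos ha hb, ?_⟩
    have e : (u⁻¹ * v) • m - m = u⁻¹ • ((v • m - m) - (u • m - m)) := by
      rw [sub_sub_sub_cancel_right, smul_sub, inv_smul_smul, mul_smul]
    rw [e, smul_comm]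
    refine Groth.Agent.RootDat.smul_mem_span_root _ ?_
    rw [smul_sub]
    refine sub_mem ?_ ?_
    · rw [mul_nsmul']; exact nsmul_mem hvb a
    · rw [mul_comm, mul_nsmul']; exact nsmul_mem hua b
  exact inv_mul_eq_one.mp h

end Groth.Agent.S5478
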