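import Groth.Statements.S5479
import Groth.Agent.RootDat.Weyl

set_option autoImplicit false
open RootPairing
open scoped Pointwise
open RootD

namespace Groth.Agent.S5479

/-- Aut(R) is the semidirect product of the Weyl group by the stabiliser E_Δ of a system of simple
roots: every automorphism is uniquely w · e with w ∈ W and e(Δ) = Δ. -/
theorem result {ι M N : Type*} [AddCommGroup M] [AddCommGroup N]
    (P : RootPairing ι ℤ M N) [Finite ι] (Δ : Set ι) (hΔ : RootD.IsSimpleSys P Δ) (u : P.Aut) :
    ∃! w : P.weylGroup, (fun i : ι => ((w : P.Aut)⁻¹ * u) • i) '' Δ = Δ := by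
  obtain ⟨⟨w, hw⟩, h, huniq⟩ := Groth.Agent.RootDat.existsUnique_smul_simple hΔ
    (Groth.Agent.RootDat.simple_smul u hΔ)
  have key : ∀ v : P.Aut, (fun i : ι => (v⁻¹ * u) • i) '' Δ = Δ ↔
      (fun i : ι => v • i) '' Δ = (fun i : ι => u • i) '' Δ := by
    intro v
    have : (fun i : ι => (v⁻¹ * u) • i) '' Δ =
        (fun i : ι => v⁻¹ • i) '' ((fun i : ι => u • i) '' Δ) := by
      rw [← Set.image_comp]; simp only [Function.comp_def, mul_smul]
    rw [this]
    constructor <;> intro e
    · conv_lhs => rw [← e]
      rw [← Set.image_comp]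
      simp only [Function.comp_def, smul_inv_smul, Set.image_id']
    · rw [← e, ← Set.image_comp]
      simp only [Function.comp_def, inv_smul_smul, Set.image_id']
  exact ⟨⟨w, hw⟩, (key w).mpr h, fun v hv => huniq v ((key v).mp hv)⟩

end Groth.Agent.S5479
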