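import Groth.Statements.S5481
import Groth.Agent.RootDat.Morph
import Groth.Agent.S5446

set_option autoImplicit false
open RootD Groth.Agent.RootDat

namespace Groth.Agent.S5481

/-- The root bijection u of a p-morphism of reduced root data carries systems of simple roots onto
systems of simple roots and systems of positive roots onto systems of positive roots, bijectively. -/
theorem result {ι M N ι' M' N' : Type*} [AddCommGroup M] [AddCommGroup N] [AddCommGroup M'] [AddCommGroup N']
    (P : RootPairing ι ℤ M N) (P' : RootPairing ι' ℤ M' N') [Finite ι] [Finite ι'] [P.IsReduced] [P'.IsReduced]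
    (p : ℕ) (hp : 0 < p) (f : M' →ₗ[ℤ] M) (g : N →ₗ[ℤ] N')
    (hfg : ∀ (m' : M') (n : N), P.toLinearMap (f m') n = P'.toLinearMap m' (g n))
    (u : ι ≃ ι') (q : ι → ℕ) (hq : ∀ i, ∃ e : ℕ, q i = p ^ e)
    (hroot : ∀ i : ι, f (P'.root (u i)) = (q i : ℤ) • P.root i)
    (hcoroot : ∀ i : ι, g (P.coroot i) = (q i : ℤ) • P'.coroot (u i)) (Δ : Set ι) :
    (RootD.IsSimpleSys P Δ ↔ RootD.IsSimpleSys P' (u '' Δ)) ∧
      (RootD.IsPosSys P Δ ↔ RootD.IsPosSys P' (u '' Δ)) := by
  classical
  have h : Scaled P P' f g u q :=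
    ⟨hfg, fun i => by obtain ⟨e, he⟩ := hq i; rw [he]; exact Nat.pow_pos hp, hroot, hcoroot⟩
  refine ⟨?_, h.posSys Δ⟩
  have hne : ∀ a : ι, (q a : ℤ) ≠ 0 := fun a => by exact_mod_cast (h.pos a).ne'
  constructor
  · intro hD
    refine Groth.Agent.S5446.result P' (u '' Δ) (fun a _ => indiv_of_reduced P' a) ?_ fun a => ?_
    · rw [LinearIndepOn, ← linearIndependent_equiv (Equiv.Set.image _ Δ u.injective)]
      apply LinearIndependent.of_comp f
      rw [linearIndependent_iff']
      intro s c hc a ha
      have hc' : ∑ x ∈ s, (c x * (q (x : ι) : ℤ)) • P.root (x : ι) = 0 := by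
        rw [← hc]
        exact Finset.sum_congr rfl fun x _ => by
          simp only [Function.comp_apply, Equiv.Set.image_apply, h.root, smul_smul]
      exact (mul_eq_zero.mp (linearIndependent_iff'.mp hD.linInd s _ hc' a ha)).resolve_right (hne _)
    · obtain ⟨k, rfl⟩ := u.surjective a
      have hpos : ∀ k, P.root k ∈ RootD.natSpan P Δ →
          ∃ n : ℕ, 0 < n ∧ n • P'.root (u k) ∈ RootD.natSpan P' (u '' Δ) := fun k hk => by
        obtain ⟨c, ⟨hc, hc'⟩, hcx⟩ := (natSpan_iff P).mp hk
        have hQ : 0 < ∏ b ∈ c.support, q b := Finset.prod_pos fun b _ => h.pos b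
        refine ⟨∏ b ∈ c.support, q b, hQ, ?_⟩
        have hv := h.multiples_natSpan c
        set v := c.sum fun a z => (z * ∏ b ∈ c.support.erase a, (q b : ℤ)) • P'.root (u a) with hvdef
        have e : (q k : ℤ) • v = (∏ b ∈ c.support, (q b : ℤ)) • P'.root (u k) := by
          refine sub_eq_zero.mp (h.inj (sub_mem (Submodule.smul_mem _ _ ?_)
            (Submodule.smul_mem _ _ (root_mem_span P' _))) ?_)
          · rw [hvdef]
            exact Submodule.sum_mem _ fun x _ => Submodule.smul_mem _ _ (root_mem_span P' _)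
          · rw [map_sub, map_smul, map_smul, hv, h.root, hcx, smul_comm, sub_self]
        rw [← natCast_zsmul, Nat.cast_prod, ← e, natCast_zsmul]
        refine AddSubmonoid.nsmul_mem _ ?_ _
        rw [hvdef]
        refine sum_mem fun x hx => ?_
        obtain ⟨z, hz⟩ := Int.eq_ofNat_of_zero_le
          (mul_nonneg (hc' x) (Finset.prod_nonneg fun b _ => Int.natCast_nonneg (q b)) :
            0 ≤ c x * ∏ b ∈ c.support.erase x, (q b : ℤ))
        simp only [hz, natCast_zsmul]
        exact AddSubmonoid.nsmul_mem _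
          (AddSubmonoid.subset_closure (Set.mem_image_of_mem _ (Set.mem_image_of_mem _ (hc hx)))) z
      rcases Simple.pos_cover hD k with hk | hk
      · obtain ⟨n, hn, hm⟩ := hpos k hk
        exact ⟨n, hn, Or.inl hm⟩
      · obtain ⟨n, hn, hm⟩ := hpos _ hk
        exact ⟨n, hn, Or.inr (by rwa [← root_neg, ← show u (Groth.Agent.RootDat.neg P k) =
          Groth.Agent.RootDat.neg P' (u k) from (h.refl k k).2])⟩
  · intro hD
    refine Groth.Agent.S5446.result P Δ (fun a _ => indiv_of_reduced P a) ?_ fun k => ?_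
    · rw [linearIndepOn_iff]
      intro c hc hc0
      have hcD : ↑c.support ⊆ Δ := (Finsupp.mem_supported ℤ c).mp hc
      have hv := h.multiples_natSpan c
      rw [hc0, smul_zero] at hv
      have hv0 := h.inj (Submodule.sum_mem _ fun x _ => Submodule.smul_mem _ _ (root_mem_span P' _)) hv
      refine Finsupp.support_eq_empty.mp (Finset.eq_empty_of_forall_notMem fun x hx => ?_)
      let d : ι' →₀ ℤ := ∑ a ∈ c.support,
        Finsupp.single (u a) (c a * ∏ b ∈ c.support.erase a, (q b : ℤ))
      have hd : d = 0 := by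
        refine coeff_unique P' hD.linInd (fun j hj => ?_) (by simp) ?_
        · obtain ⟨a, ha, hj⟩ := Finset.mem_biUnion.mp (Finsupp.support_finsetSum hj)
          exact support_single_le (Set.mem_image_of_mem u (hcD ha)) _ hj
        · simp only [d, map_sum, Finsupp.linearCombination_single, map_zero]
          exact hv0
      have := DFunLike.congr_fun hd (u x)
      rw [Finsupp.finsetSum_apply, Finset.sum_eq_single_of_mem x hx
        fun b _ hb => Finsupp.single_eq_of_ne fun e => hb (u.injective e.symm),
        Finsupp.single_eq_same, Finsupp.coe_zero, Pi.zero_apply, mul_eq_zero] at this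
      exact this.elim (Finsupp.mem_support_iff.mp hx) (Finset.prod_ne_zero_iff.mpr fun b _ => hne b)
    · have hpos : ∀ k, P'.root (u k) ∈ RootD.natSpan P' (u '' Δ) →
          q k • P.root k ∈ RootD.natSpan P Δ := fun k hk => by
        rw [← natCast_zsmul, ← h.root]
        refine AddSubmonoid.closure_induction ?_ ?_ ?_ hk
        · rintro _ ⟨_, ⟨a, ha, rfl⟩, rfl⟩
          rw [h.root, natCast_zsmul]
          exact AddSubmonoid.nsmul_mem _ (AddSubmonoid.subset_closure (Set.mem_image_of_mem _ ha)) _
        · rw [map_zero]; exact zero_mem _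
        · intro x y _ _ hx hy; rw [map_add]; exact add_mem hx hy
      rcases Simple.pos_cover hD (u k) with hk | hk
      · exact ⟨q k, h.pos k, Or.inl (hpos k hk)⟩
      · refine ⟨q (Groth.Agent.RootDat.neg P k), h.pos _, Or.inr ?_⟩
        rw [← root_neg]
        refine hpos _ ?_
        rw [(h.refl k k).2]
        exact hk

end Groth.Agent.S5481
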