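import Groth.Statements.S5482
import Groth.Agent.RootDat.Comb

set_option autoImplicit false
open RootD

namespace Groth.Agent.S5482

/-- If the roots are partitioned into two closed symmetric subsets R', R'', then with Δ' = Δ ∩ R', Δ'' =
Δ ∩ R'' for a system of simple roots Δ one has R' = R_{Δ'}, R'' = R_{Δ''}, and Δ' is orthogonal to
Δ''. -/
theorem result {ι M N : Type*} [AddCommGroup M] [AddCommGroup N]
    (P : RootPairing ι ℤ M N) [Finite ι] (Δ : Set ι) (hΔ : RootD.IsSimpleSys P Δ) (R' : Set ι)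
    (hc : RootD.IsClosedSub P R') (hs : RootD.IsSymmSub P R') (hc' : RootD.IsClosedSub P R'ᶜ)
    (hs' : RootD.IsSymmSub P R'ᶜ) :
    R' = RootD.inSpan P (Δ ∩ R') ∧ R'ᶜ = RootD.inSpan P (Δ \ R') ∧
      ∀ i ∈ Δ ∩ R', ∀ j ∈ Δ \ R', P.IsOrthogonal i j := by
  have horth : ∀ i ∈ Δ ∩ R', ∀ j ∈ Δ \ R', P.IsOrthogonal i j := fun i hi j hj =>
    by_contra fun h => hj.2 (Groth.Agent.RootDat.mem_of_not_orth hc hs hc' hs' hi.2 h)
  have hdiff : Δ \ (Δ ∩ R') = Δ \ R' := by ext; simp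
  have hsplit := fun k => Groth.Agent.RootDat.inSpan_split hΔ (A := Δ ∩ R') Set.inter_subset_left
    (fun i hi j hj => horth i hi j (hdiff ▸ hj)) k
  rw [hdiff] at hsplit
  have link : ∀ (A : Set ι) (k : ι), k ∈ inSpan P A → ∃ i ∈ A, ¬ P.IsOrthogonal i k := by
    intro A k hk
    by_contra! h
    have hker : Submodule.span ℤ (P.root '' A) ≤ LinearMap.ker (P.coroot' k) :=
      Submodule.span_le.mpr (by rintro _ ⟨b, hb, rfl⟩; exact (h b hb).1)
    have := LinearMap.mem_ker.mp (hker hk)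
    rw [Groth.Agent.RootDat.coroot'_root, P.pairing_same] at this
    omega
  have hin : ∀ k, k ∈ inSpan P (Δ ∩ R') → k ∈ R' := fun k hk => by
    obtain ⟨i, hi, h⟩ := link _ k hk
    exact Groth.Agent.RootDat.mem_of_not_orth hc hs hc' hs' hi.2 h
  have hout : ∀ k, k ∈ inSpan P (Δ \ R') → k ∉ R' := fun k hk hkR => by
    obtain ⟨i, hi, h⟩ := link _ k hk
    exact hi.2 (Groth.Agent.RootDat.mem_of_not_orth hc hs hc' hs' hkR fun e => h e.symm)
  refine ⟨Set.ext fun k => ⟨fun hk => ?_, hin k⟩, Set.ext fun k => ⟨fun hk => ?_, hout k⟩, horth⟩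
  · exact (hsplit k).1.resolve_right fun h => hout k h hk
  · exact (hsplit k).1.resolve_left fun h => hk (hin k h)

end Groth.Agent.S5482
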