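import Groth.Statements.S5485
import Groth.Agent.RootDat.Length
import Groth.Agent.S5446

set_option autoImplicit false
open RootD Groth.Agent.RootDat

namespace Groth.Agent.S5485

/-- If Δ is a system of simple roots then ind(Δ^v), the set of coroots of Δ with each divisible coroot
replaced by its half, is a system of simple coroots (a system of simple roots of the dual datum). -/
theorem result {ι M N : Type*} [AddCommGroup M] [AddCommGroup N]
    (P : RootPairing ι ℤ M N) [Finite ι] (Δ : Set ι) (hΔ : RootD.IsSimpleSys P Δ) :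
    RootD.IsSimpleSys P.flip {j : ι | ∃ i ∈ Δ, (j = i ∧ RootD.IsIndiv P.flip i) ∨ (2 : ℤ) • P.coroot j = P.coroot i} := by
  classical
  let := Fintype.ofFinite ι
  have := isTorsionFree_left P
  have htf := isTorsionFree_left P.flip
  choose! σ hσ using fun j (hj : j ∈ {j : ι | ∃ i ∈ Δ,
    (j = i ∧ RootD.IsIndiv P.flip i) ∨ (2 : ℤ) • P.coroot j = P.coroot i}) => hj
  set X : Set ι := {j : ι | ∃ i ∈ Δ,
    (j = i ∧ RootD.IsIndiv P.flip i) ∨ (2 : ℤ) • P.coroot j = P.coroot i} with hX
  refine Groth.Agent.S5446.result P.flip X ?_ ?_ fun k => ?_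
  · rintro j ⟨i, hi, ⟨rfl, h⟩ | h⟩
    · exact h
    · intro l hl
      have := nsmul_root_eq P.flip (i := l) (k := i) (n := 4) (by
        show P.coroot i = (4 : ℤ) • P.coroot l
        rw [← h, show P.coroot j = (2 : ℤ) • P.coroot l from hl.symm, smul_smul]; norm_num)
      omega
  · rw [linearIndepOn_iff]
    intro c hc hc0
    have hcX : ↑c.support ⊆ X := (Finsupp.mem_supported ℤ c).mp hc
    let v : ι → ℤ := fun j => if j = σ j ∧ RootD.IsIndiv P.flip (σ j) then 2 else 1
    have hv : ∀ j ∈ X, (4 : ℤ) • P.CoPolarization (P.coroot j) =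
        (v j * P.CorootForm (P.coroot (σ j)) (P.coroot (σ j))) • P.root (σ j) := by
      intro j hj
      rw [← smul_smul, coPolarization_coroot, smul_smul]
      obtain ⟨-, h⟩ := hσ j hj
      simp only [v]
      split
      · rename_i hc; rw [← hc.1]; norm_num
      · rename_i hc
        rw [← (h.resolve_left hc), map_smul, smul_smul]; norm_num
    have hσinj : Set.InjOn σ X := by
      intro a ha b hb hab
      obtain ⟨-, h₁⟩ := hσ a ha
      obtain ⟨-, h₂⟩ := hσ b hb
      rcases h₁ with ⟨e₁, i₁⟩ | e₁ <;> rcases h₂ with ⟨e₂, i₂⟩ | e₂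
      · rw [e₁, e₂, hab]
      · rw [hab] at i₁; exact absurd e₂ (i₁ b)
      · rw [← hab] at i₂; exact absurd e₁ (i₂ a)
      · apply P.coroot.injective
        apply zsmul_right_injective (two_ne_zero (α := ℤ))
        simp only
        rw [e₁, e₂, hab]
    have h0 : ∑ j ∈ c.support, c j • ((4 : ℤ) • P.CoPolarization (P.coroot j)) = 0 := by
      have := congr_arg (fun x => (4 : ℤ) • P.CoPolarization x) hc0
      simp only [map_zero, smul_zero] at this
      rw [Finsupp.linearCombination_apply, Finsupp.sum, map_sum, Finset.smul_sum] at this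
      rw [← this]
      refine Finset.sum_congr rfl fun j _ => ?_
      rw [map_smul, smul_comm]
      rfl
    rw [Finset.sum_congr rfl fun j hj => by rw [hv j (hcX hj), smul_smul]] at h0
    have hd : (∑ j ∈ c.support, Finsupp.single (σ j)
        (c j * (v j * P.CorootForm (P.coroot (σ j)) (P.coroot (σ j))))) = 0 := by
      refine coeff_unique P hΔ.linInd (fun l hl => ?_) (by simp) ?_
      · obtain ⟨j, hj, hl⟩ := Finset.mem_biUnion.mp (Finsupp.support_finsetSum hl)
        exact support_single_le (hσ j (hcX hj)).1 _ hl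
      · simp only [map_sum, Finsupp.linearCombination_single, map_zero]
        exact h0
    refine Finsupp.support_eq_empty.mp (Finset.eq_empty_of_forall_notMem fun j hj => ?_)
    have := DFunLike.congr_fun hd (σ j)
    rw [Finsupp.finsetSum_apply, Finset.sum_eq_single_of_mem j hj fun b hb hne =>
      Finsupp.single_eq_of_ne fun e => hne (hσinj (hcX hj) (hcX hb) e).symm,
      Finsupp.single_eq_same, Finsupp.coe_zero, Pi.zero_apply, mul_eq_zero, mul_eq_zero] at this
    rcases this with h | h | h
    · exact Finsupp.mem_support_iff.mp hj h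
    · simp only [v] at h; split at h <;> norm_num at h
    · exact (coform_root_pos _).ne' h
  · have hsimple : ∀ i ∈ Δ, P.coroot i ∈ RootD.natSpan P.flip X := fun i hi => by
      by_cases h : RootD.IsIndiv P.flip i
      · exact AddSubmonoid.subset_closure ⟨i, ⟨i, hi, Or.inl ⟨rfl, h⟩⟩, rfl⟩
      · simp only [RootD.IsIndiv, not_forall, not_not] at h
        obtain ⟨j, hj⟩ := h
        have hj' : (2 : ℤ) • P.coroot j = P.coroot i := hj
        rw [← hj', two_smul]
        exact add_mem (AddSubmonoid.subset_closure ⟨j, ⟨i, hi, Or.inr hj'⟩, rfl⟩)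
          (AddSubmonoid.subset_closure ⟨j, ⟨i, hi, Or.inr hj'⟩, rfl⟩)
    have hmain : ∀ k ∈ RootD.posOf P Δ, ∃ n : ℕ, 0 < n ∧ n • P.coroot k ∈ RootD.natSpan P.flip X := by
      intro k hk
      refine ⟨(P.RootForm (P.root k) (P.root k)).toNat, by have := form_root_pos P k; omega, ?_⟩
      rw [← natCast_zsmul, Int.toNat_of_nonneg (form_root_pos P k).le, polarization_root]
      refine AddSubmonoid.closure_induction ?_ ?_ ?_ (show P.root k ∈ RootD.natSpan P Δ from hk)
      · rintro _ ⟨a, ha, rfl⟩
        rw [← polarization_root, show P.RootForm (P.root a) (P.root a) =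
          ((P.RootForm (P.root a) (P.root a)).toNat : ℤ) from
            (Int.toNat_of_nonneg (form_root_pos P a).le).symm, natCast_zsmul]
        exact AddSubmonoid.nsmul_mem _ (hsimple a ha) _
      · rw [map_zero, smul_zero]; exact zero_mem _
      · intro x y _ _ hx hy; rw [map_add, smul_add]; exact add_mem hx hy
    rcases Simple.pos_cover hΔ k with hk | hk
    · obtain ⟨n, hn, h⟩ := hmain k hk
      exact ⟨n, hn, Or.inl h⟩
    · obtain ⟨n, hn, h⟩ := hmain _ hk
      refine ⟨n, hn, Or.inr ?_⟩
      show n • (-P.coroot k) ∈ _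
      rwa [← coroot_neg]

end Groth.Agent.S5485
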