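import Groth.Statements.S5487
import Groth.Agent.RootDat.Weyl

set_option autoImplicit false
open RootD

namespace Groth.Agent.S5487

/-- For non-orthogonal roots α, β one has ℓ(α) ℓ(α^v) = ℓ(β) ℓ(β^v), where ℓ is the canonical quadratic
form of the datum and of its dual. -/
theorem result {ι M N : Type*} [AddCommGroup M] [AddCommGroup N]
    (P : RootPairing ι ℤ M N) [Finite ι] [Fintype ι] (i j : ι) (h : ¬ P.IsOrthogonal i j) :
    P.RootForm (P.root i) (P.root i) * P.CorootForm (P.coroot i) (P.coroot i) =
      P.RootForm (P.root j) (P.root j) * P.CorootForm (P.coroot j) (P.coroot j) := by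
  have h₁ := Groth.Agent.RootDat.pairing_mul_form P i j
  have h₂ := Groth.Agent.RootDat.pairing_mul_form P j i
  have h₃ := Groth.Agent.RootDat.pairing_mul_form P.flip i j
  have h₄ := Groth.Agent.RootDat.pairing_mul_form P.flip j i
  rw [Groth.Agent.RootDat.form_comm P (P.root i) (P.root j), ← h₁] at h₂
  rw [Groth.Agent.RootDat.form_comm P.flip (P.flip.root i) (P.flip.root j), ← h₃] at h₄
  have hp : P.pairing i j ≠ 0 := fun e => h ((Groth.Agent.RootDat.isOrthogonal_iff P i j).mpr e)
  have hq : P.pairing j i ≠ 0 := fun e =>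
    hp ((Groth.Agent.RootDat.pairing_zero_comm P i j).mpr e)
  have hc : ∀ a, P.flip.RootForm (P.flip.root a) (P.flip.root a) =
      P.CorootForm (P.coroot a) (P.coroot a) := fun a => rfl
  have hp' : P.flip.pairing i j = P.pairing j i := rfl
  have hq' : P.flip.pairing j i = P.pairing i j := rfl
  rw [hc, hc, hp', hq'] at h₄
  apply mul_left_cancel₀ (mul_ne_zero hp hq)
  linear_combination (P.pairing i j * P.CorootForm (P.coroot i) (P.coroot i)) * h₂ +
    (P.pairing i j * P.RootForm (P.root j) (P.root j)) * h₄

end Groth.Agent.S5487
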