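import Groth.Statements.S5489
import Groth.Agent.RootDat.Comb

set_option autoImplicit false
open RootD

namespace Groth.Agent.S5489

/-- If a root α, distinct from roots α_1, ..., α_n, is a non-negative rational combination of them, then
some α_l with non-zero coefficient has (α^v, α_l) > 0 and α - α_l a root. -/
theorem result {ι M N : Type*} [AddCommGroup M] [AddCommGroup N]
    (P : RootPairing ι ℤ M N) [Finite ι] {n : ℕ} (a : Fin n → ι) (m : Fin n → ℕ)
    (k : ι) (hne : ∀ l, a l ≠ k) (c : ℕ) (hc : 0 < c) (hk : c • P.root k = ∑ l, m l • P.root (a l)) :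
    ∃ l : Fin n, m l ≠ 0 ∧ 0 < P.pairing (a l) k ∧ P.root k - P.root (a l) ∈ Set.range P.root := by
  obtain ⟨l, -, hl, hp⟩ := Groth.Agent.RootDat.exists_pairing_pos_sum Finset.univ a m k c hc hk
  refine ⟨l, hl, hp, ?_⟩
  obtain ⟨z, hz⟩ := Groth.Agent.RootDat.sub_mem_range_root P hp (hne l)
  exact ⟨Groth.Agent.RootDat.neg P z, by rw [Groth.Agent.RootDat.root_neg, hz, neg_sub]⟩

end Groth.Agent.S5489
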