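import Groth.Statements.S5493
import Groth.Agent.RootDat.Length

set_option autoImplicit false
open RootD Groth.Agent.RootDat

namespace Groth.Agent.S5493

theorem exists_index {ι M N ι' M' N' : Type*} [AddCommGroup M] [AddCommGroup N] [AddCommGroup M']
    [AddCommGroup N'] {P : RootPairing ι ℤ M N} {P' : RootPairing ι' ℤ M' N'} [Finite ι]
    [P.IsReduced] (b : P.Base) (had : Submodule.span ℤ (Set.range P.root) = ⊤)
    (b' : P'.Base) (u : ↥b.support ≃ ↥b'.support)
    (hu : ∀ i j : ↥b.support, P.pairing (i : ι) (j : ι) = P'.pairing (u i : ι') (u j : ι'))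
    (L : M ≃ₗ[ℤ] M') (hL : ∀ i : ↥b.support, L (P.root i) = P'.root (u i)) :
    ∀ k : ι, ∃ k' : ι', L (P.root k) = P'.root k' ∧
      ∀ x, P'.coroot' k' (L x) = P.coroot' k x := by
  have hD : RootD.IsSimpleSys P (↑b.support : Set ι) :=
    ⟨b.linearIndepOn_root, b.root_mem_or_neg_mem⟩
  have hsimple : ∀ (j : ι) (hj : j ∈ b.support) (x : M),
      P'.coroot' (u ⟨j, hj⟩) (L x) = P.coroot' j x := by
    intro j hj x
    have hx : x ∈ Submodule.span ℤ (P.root '' (↑b.support : Set ι)) := by
      rw [← span_range_eq hD, had]; trivial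
    induction hx using Submodule.span_induction with
    | mem x hx =>
      obtain ⟨i, hi, rfl⟩ := hx
      rw [show L (P.root i) = P'.root (u ⟨i, hi⟩) from hL ⟨i, hi⟩, coroot'_root, coroot'_root]
      exact (hu ⟨i, hi⟩ ⟨j, hj⟩).symm
    | zero => simp
    | add x y _ _ hx hy => rw [map_add, map_add, map_add, hx, hy]
    | smul a x _ hx => rw [map_smul, map_smul, map_smul, hx]
  intro k
  obtain ⟨g, hg, j, hj, rfl⟩ := Simple.exists_conj hD (indiv_of_reduced P k)
  obtain ⟨l, hl, rfl⟩ := exists_word P hg
  clear hg
  induction l with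
  | nil => exact ⟨u ⟨j, hj⟩, by simpa using hL ⟨j, hj⟩, by simpa using hsimple j hj⟩
  | cons a l ih =>
    obtain ⟨k', h₁, h₂⟩ := ih fun c hc => hl c (by simp [hc])
    have ha : a ∈ b.support := hl a (by simp)
    have hrefl : ∀ x, L (RootPairing.Equiv.reflection P a • x) =
        RootPairing.Equiv.reflection P' (u ⟨a, ha⟩) • L x := fun x => by
      rw [reflection_apply', reflection_apply', map_sub, map_smul, hsimple a ha, hL ⟨a, ha⟩]
    refine ⟨P'.reflectionPerm (u ⟨a, ha⟩) k', ?_, fun x => ?_⟩
    · rw [wprod_cons, mul_smul, smul_root, hrefl, h₁, ← smul_root]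
      rfl
    · have e₁ := coroot'_smul P (RootPairing.Equiv.reflection P a) (wprod P l • j)
        (RootPairing.Equiv.reflection P a • x)
      have e₂ := coroot'_smul P' (RootPairing.Equiv.reflection P' (u ⟨a, ha⟩)) k'
        (RootPairing.Equiv.reflection P' (u ⟨a, ha⟩) • L x)
      rw [← mul_smul _ _ x, reflection_mul_self, one_smul] at e₁
      rw [← mul_smul _ _ (L x), reflection_mul_self, one_smul, ← hrefl] at e₂
      rw [wprod_cons, mul_smul, e₁, ← h₂]
      exact e₂

/-- Adjoint case; the simply connected case is dual: two reduced adjoint root data with systems of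
simple roots Δ, Δ' and a bijection u : Δ → Δ' respecting the Cartan matrices are isomorphic through
a unique isomorphism inducing u on Δ. -/
theorem result {ι M N ι' M' N' : Type*} [AddCommGroup M] [AddCommGroup N] [AddCommGroup M'] [AddCommGroup N']
    (P : RootPairing ι ℤ M N) (P' : RootPairing ι' ℤ M' N') [Finite ι] [Finite ι'] [P.IsReduced] [P'.IsReduced]
    (had : Submodule.span ℤ (Set.range P.root) = ⊤) (had' : Submodule.span ℤ (Set.range P'.root) = ⊤)
    (b : P.Base) (b' : P'.Base) (u : ↥b.support ≃ ↥b'.support)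
    (hu : ∀ i j : ↥b.support, P.pairing (i : ι) (j : ι) = P'.pairing (u i : ι') (u j : ι')) :
    ∃! e : RootPairing.Equiv P P', ∀ i : ↥b.support, e.indexEquiv (i : ι) = (u i : ι') := by
  classical
  have hD : RootD.IsSimpleSys P (↑b.support : Set ι) :=
    ⟨b.linearIndepOn_root, b.root_mem_or_neg_mem⟩
  have hD' : RootD.IsSimpleSys P' (↑b'.support : Set ι') :=
    ⟨b'.linearIndepOn_root, b'.root_mem_or_neg_mem⟩
  have hli : LinearIndependent ℤ fun i : ↥b.support => P.root (i : ι) := b.linearIndepOn_root
  have hli' : LinearIndependent ℤ fun i : ↥b'.support => P'.root (i : ι') := b'.linearIndepOn_root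
  have hsp : ⊤ ≤ Submodule.span ℤ (Set.range fun i : ↥b.support => P.root (i : ι)) := by
    rw [show (Set.range fun i : ↥b.support => P.root (i : ι)) = P.root '' (↑b.support : Set ι) by
      ext; simp, ← span_range_eq hD, had]
  have hsp' : ⊤ ≤ Submodule.span ℤ (Set.range fun i : ↥b'.support => P'.root (i : ι')) := by
    rw [show (Set.range fun i : ↥b'.support => P'.root (i : ι')) = P'.root '' (↑b'.support : Set ι') by
      ext; simp, ← span_range_eq hD', had']
  let B := Module.Basis.mk hli hsp
  let B' := Module.Basis.mk hli' hsp'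
  let L : M ≃ₗ[ℤ] M' := B.equiv B' u
  have hL : ∀ i : ↥b.support, L (P.root i) = P'.root (u i) := fun i => by
    have h1 : B i = P.root i := Module.Basis.mk_apply hli hsp i
    have h2 : B' (u i) = P'.root (u i) := Module.Basis.mk_apply hli' hsp' (u i)
    rw [← h1, ← h2]
    exact Module.Basis.equiv_apply ..
  have hL' : ∀ i : ↥b'.support, L.symm (P'.root i) = P.root (u.symm i) := fun i => by
    rw [LinearEquiv.symm_apply_eq, hL, Equiv.apply_symm_apply]
  choose φ hφ hφx using exists_index b had b' u hu L hL
  choose ψ hψ _hψx using exists_index b' had' b u.symm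
    (fun i j => by rw [hu, Equiv.apply_symm_apply, Equiv.apply_symm_apply]) L.symm hL'
  let e : ι ≃ ι' :=
    { toFun := φ
      invFun := ψ
      left_inv := fun k => P.root.injective (by rw [← hψ, ← hφ, L.symm_apply_apply])
      right_inv := fun k => P'.root.injective (by rw [← hφ, ← hψ, L.apply_symm_apply]) }
  let C : N' ≃ₗ[ℤ] N := P'.flip.toPerfPair.trans (L.dualMap.trans P.flip.toPerfPair.symm)
  have hC : ∀ (x : M) (n : N'), P.toLinearMap x (C n) = P'.toLinearMap (L x) n := fun x n => by
    show P.flip.toPerfPair (C n) x = _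
    simp [C]
  let E : RootPairing.Equiv P P' :=
    { weightMap := L
      coweightMap := C
      indexEquiv := e
      weight_coweight_transpose := by ext n m; exact (hC m n).symm
      root_weightMap := funext hφ
      coroot_coweightMap := funext fun k' => by
        refine (P.flip.toPerfPair).injective (LinearMap.ext fun x => ?_)
        show P.toLinearMap x (C (P'.coroot k')) = P.toLinearMap x (P.coroot (e.symm k'))
        rw [hC]
        conv_lhs => rw [← e.apply_symm_apply k']
        exact hφx _ x
      bijective_weightMap := L.bijective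
      bijective_coweightMap := C.bijective }
  refine ⟨E, fun i => P'.root.injective ((hφ i).symm.trans (hL i)), fun E' hE' => ?_⟩
  have hr : ∀ k, E'.weightMap (P.root k) = P'.root (E'.indexEquiv k) := congr_fun E'.root_weightMap
  have hw : ∀ x, E'.weightMap x = L x := by
    intro x
    have : E'.weightMap = (L : M →ₗ[ℤ] M') := B.ext fun i => by
      rw [show B i = P.root i from Module.Basis.mk_apply hli hsp i, hr, hE']
      exact (hL i).symm
    exact LinearMap.congr_fun this x
  refine RootPairing.Equiv.ext (LinearMap.ext hw) (LinearMap.ext fun n => ?_)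
    (Equiv.ext fun k => P'.root.injective (by rw [← hr, hw]; exact hφ k))
  refine (P.flip.toPerfPair).injective (LinearMap.ext fun x => ?_)
  have := LinearMap.congr_fun
    (RootPairing.Hom.weight_coweight_transpose_apply P P' n E'.toHom) x
  show P.toLinearMap x (E'.coweightMap n) = P.toLinearMap x (C n)
  rw [hC, ← hw]
  exact this.symm

end Groth.Agent.S5493
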