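import Groth.Statements.S5494
import Groth.Agent.RootDat.Comb

set_option autoImplicit false
open RootD

namespace Groth.Agent.S5494

/-- If a system of simple roots has no partition into two non-empty orthogonal subsets, then any two
roots are linked by a chain of roots with consecutive members non-orthogonal. -/
theorem result {ι M N : Type*} [AddCommGroup M] [AddCommGroup N]
    (P : RootPairing ι ℤ M N) [Finite ι] (Δ : Set ι) (hΔ : RootD.IsSimpleSys P Δ)
    (hconn : ∀ Δ' : Set ι, Δ' ⊆ Δ → (∀ i ∈ Δ', ∀ j ∈ Δ \ Δ', P.IsOrthogonal i j) → Δ' = ∅ ∨ Δ' = Δ)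
    (i j : ι) : Relation.ReflTransGen (fun a b : ι => ¬ P.IsOrthogonal a b) i j := by
  have hsimple : ∀ k, ∃ a ∈ Δ, ¬ P.IsOrthogonal a k := fun k => by
    rcases Groth.Agent.RootDat.Simple.pos_cover hΔ k with hk | hk
    · obtain ⟨a, ha, hp⟩ := Groth.Agent.RootDat.Simple.exists_pairing_pos hΔ hk
      exact ⟨a, ha, fun h => by rw [h.2] at hp; omega⟩
    · obtain ⟨a, ha, hp⟩ := Groth.Agent.RootDat.Simple.exists_pairing_pos hΔ hk
      refine ⟨a, ha, fun h => ?_⟩
      rw [Groth.Agent.RootDat.pairing_neg_left, h.2] at hp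
      omega
  have hΔlink : ∀ a ∈ Δ, ∀ b ∈ Δ, Groth.Agent.RootDat.Linked P a b := by
    intro a ha b hb
    rcases hconn {c | c ∈ Δ ∧ Groth.Agent.RootDat.Linked P a c} (fun c hc => hc.1)
      (fun c hc d hd => by_contra fun h => hd.2 ⟨hd.1, hc.2.tail h⟩) with e | e
    · exact absurd (show a ∈ {c | c ∈ Δ ∧ Groth.Agent.RootDat.Linked P a c} from ⟨ha, .refl⟩)
        (by rw [e]; exact id)
    · exact (e.ge hb).2
  obtain ⟨a, ha, hai⟩ := hsimple i
  obtain ⟨b, hb, hbj⟩ := hsimple j
  exact Relation.ReflTransGen.head (fun h => hai h.symm) ((hΔlink a ha b hb).tail hbj)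

end Groth.Agent.S5494
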