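import Groth.Statements.S5496
import Groth.Agent.RootDat.Weyl

set_option autoImplicit false
open RootPairing
open scoped Pointwise
open RootD Groth.Agent.RootDat

namespace Groth.Agent.S5496

/-- For non-proportional roots α, β let n be the least integer n > 0 with (s_α s_β)^n(α) = α and (s_α
s_β)^n(β) = β. Then the subgroup W_{α,β} generated by s_α and s_β is presented by s_α² = s_β² = (s_α
s_β)^n = 1; equivalently it has exactly 2n elements. -/
theorem result {ι M N : Type*} [AddCommGroup M] [AddCommGroup N]
    (P : RootPairing ι ℤ M N) [Finite ι] (i j : ι) (hli : LinearIndependent ℤ ![P.root i, P.root j])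
    (n : ℕ) (hn : IsLeast {m : ℕ | 0 < m ∧ ((Equiv.reflection P i * Equiv.reflection P j) ^ m) • i = i ∧
      ((Equiv.reflection P i * Equiv.reflection P j) ^ m) • j = j} n) :
    Nat.card (Subgroup.closure ({Equiv.reflection P i, Equiv.reflection P j} : Set P.Aut)) = 2 * n := by
  classical
  set s := RootPairing.Equiv.reflection P i with hs
  set t := RootPairing.Equiv.reflection P j with ht
  set r := s * t with hr
  have hli' := LinearIndependent.pair_iff.mp hli
  have hss : s * s = 1 := reflection_mul_self P i
  have htt : t * t = 1 := reflection_mul_self P j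
  have hsinv : s⁻¹ = s := RootPairing.Equiv.reflection_inv P i
  have hrinv : r⁻¹ = t * s := inv_eq_of_mul_eq_one_right (by
    rw [hr, mul_assoc, ← mul_assoc t, htt, one_mul, hss])
  have hsr : s * r * s⁻¹ = r⁻¹ := by
    rw [hrinv, hr, RootPairing.Equiv.reflection_inv, ← mul_assoc, hss, one_mul]
  obtain ⟨⟨hn0, hni, hnj⟩, hmin⟩ := hn
  have hrn : r ^ n = 1 := by
    refine aut_ext P fun m => ?_
    rw [one_smul, ← sub_eq_zero]
    have hdiff : ∀ (w : P.Aut) (_ : w ∈ Subgroup.closure ({s, t} : Set P.Aut)) (m : M),
        w • m - m ∈ Submodule.span ℤ ({P.root i, P.root j} : Set M) := by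
      intro w hw
      induction hw using Subgroup.closure_induction with
      | mem x hx =>
        intro m
        rcases hx with rfl | rfl <;> rw [reflection_apply', sub_sub_cancel_left] <;>
          refine neg_mem (Submodule.smul_mem _ _ (Submodule.subset_span (by simp)))
      | one => intro m; simp
      | mul x y _ _ hx hy =>
        intro m
        rw [mul_smul, show x • y • m - m = (x • y • m - y • m) + (y • m - m) by abel]
        exact add_mem (hx _) (hy m)
      | inv x _ hx =>
        intro m
        have := hx (x⁻¹ • m)
        rw [smul_inv_smul] at this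
        rw [← neg_sub]
        exact neg_mem this
    have hmem := hdiff _ (pow_mem (mul_mem (Subgroup.subset_closure (Set.mem_insert s {t}))
      (Subgroup.subset_closure (Set.mem_insert_of_mem s rfl))) n) m
    obtain ⟨a, c, hac⟩ := Submodule.mem_span_pair.mp hmem
    have hor : ∀ l : ι, (r ^ n) • l = l → P.coroot' l ((r ^ n) • m - m) = 0 := fun l hl => by
      have := coroot'_smul P (r ^ n) l m
      rw [hl] at this
      rw [map_sub, this, sub_self]
    by_contra hne
    let := Fintype.ofFinite ι
    have hv : (r ^ n) • m - m ∈ Submodule.span ℤ (Set.range P.root) :=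
      Submodule.span_mono (by rintro x (rfl | rfl) <;> exact Set.mem_range_self _) hmem
    have h1 := two_mul_form P i ((r ^ n) • m - m)
    have h2 := two_mul_form P j ((r ^ n) • m - m)
    rw [hor i hni, mul_zero] at h1
    rw [hor j hnj, mul_zero] at h2
    have := form_pos P hv hne
    nth_rewrite 1 [← hac] at this
    simp only [map_add, map_zsmul, LinearMap.add_apply, LinearMap.smul_apply, smul_eq_mul] at this
    rw [show P.RootForm (P.root i) ((r ^ n) • m - m) = 0 by omega,
      show P.RootForm (P.root j) ((r ^ n) • m - m) = 0 by omega] at this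
    simp at this
  have hord : orderOf r = n := by
    rw [orderOf_eq_iff hn0]
    refine ⟨hrn, fun m hm hm0 e => ?_⟩
    have := hmin ⟨hm0, by rw [e, one_smul], by rw [e, one_smul]⟩
    omega
  have hfin : IsOfFinOrder r := isOfFinOrder_iff_pow_eq_one.mpr ⟨n, hn0, hrn⟩
  let Z := (Subgroup.zpowers r : Set P.Aut)
  have hZinv : ∀ x ∈ Z, s * x * s⁻¹ ∈ Z := by
    rintro _ ⟨z, rfl⟩
    exact ⟨-z, by simp only; rw [← conj_zpow, hsr, inv_zpow, zpow_neg]⟩
  have hset : (Subgroup.closure ({s, t} : Set P.Aut) : Set P.Aut) = Z ∪ (· * s) '' Z := by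
    refine Set.Subset.antisymm ?_ ?_
    · intro w hw
      induction hw using Subgroup.closure_induction with
      | mem x hx =>
        rcases hx with rfl | rfl
        · exact Or.inr ⟨1, one_mem _, one_mul _⟩
        · refine Or.inr ⟨r⁻¹, inv_mem (Subgroup.mem_zpowers r), ?_⟩
          simp only
          rw [hrinv, mul_assoc, hss, mul_one]
      | one => exact Or.inl (one_mem _)
      | mul x y _ _ hx hy =>
        rcases hx with hx | ⟨x, hx, rfl⟩ <;> rcases hy with hy | ⟨y, hy, rfl⟩
        · exact Or.inl (mul_mem hx hy)
        · exact Or.inr ⟨x * y, mul_mem hx hy, mul_assoc x y s⟩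
        · refine Or.inr ⟨x * (s * y * s⁻¹), mul_mem hx (hZinv y hy), ?_⟩
          simp only
          group
        · refine Or.inl ?_
          have : x * s * (y * s) = x * (s * y * s⁻¹) := by
            conv_rhs => rw [hsinv]
            simp only [← mul_assoc]
          simp only
          rw [this]
          exact mul_mem hx (hZinv y hy)
      | inv x _ hx =>
        rcases hx with hx | ⟨x, hx, rfl⟩
        · exact Or.inl (inv_mem hx)
        · refine Or.inr ⟨s * x⁻¹ * s⁻¹, hZinv _ (inv_mem hx), ?_⟩
          simp only
          rw [mul_inv_rev, mul_assoc (s * x⁻¹), inv_mul_cancel, mul_one, hsinv]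
    · rintro w (hw | ⟨x, hw, rfl⟩)
      · exact Subgroup.zpowers_le.mpr (mul_mem (Subgroup.subset_closure (Set.mem_insert s {t}))
          (Subgroup.subset_closure (Set.mem_insert_of_mem s rfl))) hw
      · exact mul_mem (Subgroup.zpowers_le.mpr (mul_mem (Subgroup.subset_closure (Set.mem_insert s {t}))
          (Subgroup.subset_closure (Set.mem_insert_of_mem s rfl))) hw) (Subgroup.subset_closure (Set.mem_insert s {t}))
  have hdisj : Disjoint Z ((· * s) '' Z) := by
    rw [Set.disjoint_left]
    rintro w hw ⟨x, hx, rfl⟩
    have hsZ : s ∈ Subgroup.zpowers r := by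
      have := mul_mem (inv_mem hx) hw
      rwa [← mul_assoc, inv_mul_cancel, one_mul] at this
    obtain ⟨z, hz⟩ := hsZ
    have hcomm : s * r = r * s := by
      rw [← hz]
      exact (Commute.zpow_self r z).eq
    have hst : t = s * t * s := by
      have : s * r = r * s := hcomm
      rw [hr, ← mul_assoc, hss, one_mul] at this
      exact this
    have hji : P.pairing j i = 0 ∧ P.pairing i j = 0 := by
      have h1 := congr_arg (fun w : P.Aut => w • P.root j) hst
      simp only [hs, ht, mul_smul, reflection_apply', coroot'_root, map_sub, map_zsmul,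
        P.pairing_same, smul_eq_mul] at h1
      rw [← sub_eq_zero] at h1
      have h2 := hli' (-(P.pairing j i) * (P.pairing i j * P.pairing j i) + 2 * P.pairing j i)
        (P.pairing i j * P.pairing j i) (by
          refine Eq.trans ?_ (neg_eq_zero.mpr h1)
          module)
      have hprod := h2.2
      rcases mul_eq_zero.mp hprod with h | h
      · exact ⟨(pairing_zero_comm P i j).mp h, h⟩
      · exact ⟨h, (pairing_zero_comm P i j).mpr h⟩
    have hr2 : r ^ (2 : ℕ) = 1 := by
      refine aut_ext P fun m => ?_
      rw [sq, one_smul, hr]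
      simp only [hs, ht, mul_smul, reflection_apply', coroot'_root, map_sub, map_zsmul,
        P.pairing_same, smul_eq_mul, hji.1, hji.2, mul_zero, sub_zero]
      module
    rcases Int.even_or_odd z with ⟨q, rfl⟩ | ⟨q, rfl⟩
    · have h1 : s = 1 := by
        rw [← hz]; simp only
        rw [show q + q = (2 : ℕ) * q by omega, zpow_mul, zpow_natCast, hr2, one_zpow]
      have := congr_arg (fun w : P.Aut => w • P.root i) h1
      simp only [hs, reflection_apply', one_smul, coroot'_root, P.pairing_same, sub_eq_self] at this
      have := (hli' 2 0 (by rw [this, zero_smul, add_zero])).1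
      omega
    · have h1 : s = r := by
        rw [← hz]; simp only
        rw [zpow_add, zpow_one, zpow_mul, show (2 : ℤ) = ((2 : ℕ) : ℤ) from rfl, zpow_natCast, hr2,
          one_zpow, one_mul]
      rw [hr, left_eq_mul] at h1
      have := congr_arg (fun w : P.Aut => w • P.root j) h1
      simp only [ht, reflection_apply', one_smul, coroot'_root, P.pairing_same, sub_eq_self] at this
      have := (hli' 0 2 (by rw [this, zero_smul, zero_add])).2
      omega
  show Set.ncard (Subgroup.closure ({s, t} : Set P.Aut) : Set P.Aut) = 2 * n
  have hZfin : Z.Finite := hfin.finite_zpowers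
  rw [hset, Set.ncard_union_eq hdisj hZfin (hZfin.image _),
    Set.ncard_image_of_injective _ (mul_left_injective s)]
  have : Z.ncard = n := by
    rw [← hord, ← Nat.card_zpowers]
    exact (Nat.card_coe_set_eq _).symm
  omega

end Groth.Agent.S5496
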