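import Groth.Statements.S5497
import Groth.Agent.RootDat.Comb

set_option autoImplicit false
open RootD

namespace Groth.Agent.S5497

/-- For a partition of the roots into two closed symmetric subsets, whenever α, β, α + β are roots they
lie in the same part. -/
theorem result {ι M N : Type*} [AddCommGroup M] [AddCommGroup N]
    (P : RootPairing ι ℤ M N) [Finite ι] (R' : Set ι) (hc : RootD.IsClosedSub P R')
    (hs : RootD.IsSymmSub P R') (hc' : RootD.IsClosedSub P R'ᶜ) (hs' : RootD.IsSymmSub P R'ᶜ)
    (i j k : ι) (h : P.root k = P.root i + P.root j) :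
    (i ∈ R' ∧ j ∈ R' ∧ k ∈ R') ∨ (i ∉ R' ∧ j ∉ R' ∧ k ∉ R') := by
  have key : ∀ a, ¬ P.IsOrthogonal a k → (a ∈ R' ↔ k ∈ R') := fun a ha =>
    ⟨fun h => Groth.Agent.RootDat.mem_of_not_orth hc hs hc' hs' h ha,
      fun h => Groth.Agent.RootDat.mem_of_not_orth hc hs hc' hs' h fun e => ha e.symm⟩
  have hsum : P.pairing k k = P.pairing i k + P.pairing j k := P.pairing_eq_add_of_root_eq_add h
  rw [P.pairing_same] at hsum
  by_cases hik : P.IsOrthogonal i k
  · have hjk : ¬ P.IsOrthogonal j k := fun e => by rw [hik.1, e.1] at hsum; omega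
    by_cases hkR : k ∈ R'
    · have hjR := (key j hjk).mpr hkR
      refine Or.inl ⟨hc hkR (hs hjR) ?_, hjR, hkR⟩
      rw [show P.root (P.reflectionPerm j j) = -P.root j from Groth.Agent.RootDat.root_neg P j, h]
      abel
    · have hjR : j ∉ R' := fun e => hkR ((key j hjk).mp e)
      refine Or.inr ⟨hc' hkR (hs' hjR) ?_, hjR, hkR⟩
      rw [show P.root (P.reflectionPerm j j) = -P.root j from Groth.Agent.RootDat.root_neg P j, h]
      abel
  · by_cases hkR : k ∈ R'
    · have hiR := (key i hik).mpr hkR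
      refine Or.inl ⟨hiR, hc hkR (hs hiR) ?_, hkR⟩
      rw [show P.root (P.reflectionPerm i i) = -P.root i from Groth.Agent.RootDat.root_neg P i, h]
      abel
    · have hiR : i ∉ R' := fun e => hkR ((key i hik).mp e)
      refine Or.inr ⟨hiR, hc' hkR (hs' hiR) ?_, hkR⟩
      rw [show P.root (P.reflectionPerm i i) = -P.root i from Groth.Agent.RootDat.root_neg P i, h]
      abel

end Groth.Agent.S5497
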