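import Groth.Statements.S5499
import Groth.Agent.RootDat.Length

set_option autoImplicit false
open RootD Groth.Agent.RootDat

namespace Groth.Agent.S5499

/-- For an irreducible datum, where long(α) = ℓ(α)/ℓ(α₀) with ℓ(α₀) minimal: there is a unique
homomorphism u : Γ_0(R) → M^v with u(α) = long(α) α^v for every root α. -/
theorem result {ι M N : Type*} [AddCommGroup M] [AddCommGroup N]
    (P : RootPairing ι ℤ M N) [Finite ι] [Fintype ι]
    (hirr : ∀ R' : Set ι, RootD.IsClosedSub P R' → RootD.IsSymmSub P R' → RootD.IsClosedSub P R'ᶜ →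
      RootD.IsSymmSub P R'ᶜ → R' = ∅ ∨ R' = Set.univ)
    (i₀ : ι) (hmin : ∀ i : ι, P.RootForm (P.root i₀) (P.root i₀) ≤ P.RootForm (P.root i) (P.root i)) :
    ∃! u : Submodule.span ℤ (Set.range P.root) →+ N, ∀ i : ι,
      u ⟨P.root i, Submodule.subset_span (Set.mem_range_self i)⟩ =
        (P.RootForm (P.root i) (P.root i) / P.RootForm (P.root i₀) (P.root i₀)) • P.coroot i := by
  rcases isEmpty_or_nonempty ι with h | h
  · exact isEmptyElim i₀
  have := isTorsionFree_left P.flip
  set B : ι → ℤ := fun i => P.RootForm (P.root i) (P.root i) with hB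
  have hdvd : ∀ k, B i₀ ∣ B k := fun k => by
    obtain ⟨g, -, hno⟩ := exists_conj_not_orth (irred_linked hirr i₀ k)
    obtain ⟨c, -, he, -⟩ := length_ratio hno (by rw [form_root_smul]; exact hmin k)
    exact ⟨c, by rw [form_root_smul] at he; simp only [hB, he]; ring⟩
  have h0 : B i₀ ≠ 0 := (form_root_pos P i₀).ne'
  have hpol : ∀ k, B i₀ • ((B k / B i₀) • P.coroot k) = (2 : ℤ) • P.Polarization (P.root k) :=
    fun k => by rw [smul_smul, Int.mul_ediv_cancel' (hdvd k)]; exact polarization_root k
  refine exists_hom_extend P (fun k => (B k / B i₀) • P.coroot k) (fun i => ?_) fun i j k hk => ?_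
  · apply zsmul_right_injective h0
    simp only [smul_neg]
    rw [hpol, hpol, root_neg, map_neg, smul_neg]
  · apply zsmul_right_injective h0
    simp only [smul_add]
    rw [hpol, hpol, hpol, hk, map_add, smul_add]

end Groth.Agent.S5499
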