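import Groth.Statements.S5500
import Groth.Agent.RootDat.Morph

set_option autoImplicit false
open RootD Groth.Agent.RootDat

namespace Groth.Agent.S5500

/-- For a p-morphism between irreducible reduced root data there is a rational constant k with k ·
long(u(α)) = q(α)² · long(α) for every root α; stated as the proportionality q(α)² ℓ(α) ℓ'(u β) =
q(β)² ℓ(β) ℓ'(u α) of the canonical quadratic forms. -/
theorem result {ι M N ι' M' N' : Type*} [AddCommGroup M] [AddCommGroup N] [AddCommGroup M'] [AddCommGroup N']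
    (P : RootPairing ι ℤ M N) (P' : RootPairing ι' ℤ M' N') [Finite ι] [Finite ι'] [Fintype ι] [Fintype ι'] [P.IsReduced] [P'.IsReduced]
    (hirr : ∀ R₁ : Set ι, RootD.IsClosedSub P R₁ → RootD.IsSymmSub P R₁ → RootD.IsClosedSub P R₁ᶜ →
      RootD.IsSymmSub P R₁ᶜ → R₁ = ∅ ∨ R₁ = Set.univ)
    (hirr' : ∀ R₁ : Set ι', RootD.IsClosedSub P' R₁ → RootD.IsSymmSub P' R₁ → RootD.IsClosedSub P' R₁ᶜ →
      RootD.IsSymmSub P' R₁ᶜ → R₁ = ∅ ∨ R₁ = Set.univ)
    (p : ℕ) (hp : 0 < p) (f : M' →ₗ[ℤ] M) (g : N →ₗ[ℤ] N')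
    (hfg : ∀ (m' : M') (n : N), P.toLinearMap (f m') n = P'.toLinearMap m' (g n))
    (u : ι ≃ ι') (q : ι → ℕ) (hq : ∀ i, ∃ e : ℕ, q i = p ^ e)
    (hroot : ∀ i : ι, f (P'.root (u i)) = (q i : ℤ) • P.root i)
    (hcoroot : ∀ i : ι, g (P.coroot i) = (q i : ℤ) • P'.coroot (u i)) (i j : ι) :
    ((q i : ℤ) ^ 2 * P.RootForm (P.root i) (P.root i)) * P'.RootForm (P'.root (u j)) (P'.root (u j)) =
      ((q j : ℤ) ^ 2 * P.RootForm (P.root j) (P.root j)) * P'.RootForm (P'.root (u i)) (P'.root (u i)) := by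
  have h : Scaled P P' f g u q :=
    ⟨hfg, fun i => by obtain ⟨e, he⟩ := hq i; rw [he]; exact Nat.pow_pos hp, hroot, hcoroot⟩
  suffices H : ∀ i j, Linked P i j →
      ((q i : ℤ) ^ 2 * P.RootForm (P.root i) (P.root i)) * P'.RootForm (P'.root (u j)) (P'.root (u j)) =
      ((q j : ℤ) ^ 2 * P.RootForm (P.root j) (P.root j)) * P'.RootForm (P'.root (u i)) (P'.root (u i))
    from H i j (irred_linked hirr i j)
  intro i j hij
  induction hij with
  | refl => rfl
  | @tail a b _ hab ih =>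
    have h₁ := pairing_mul_form P a b
    have h₂ := pairing_mul_form P b a
    rw [form_comm P (P.root a) (P.root b), ← h₁] at h₂
    have h₃ := pairing_mul_form P' (u a) (u b)
    have h₄ := pairing_mul_form P' (u b) (u a)
    rw [form_comm P' (P'.root (u a)) (P'.root (u b)), ← h₃] at h₄
    have h₅ := h.pairing a b
    have h₆ := h.pairing b a
    have hqa : (q a : ℤ) ≠ 0 := by exact_mod_cast (h.pos a).ne'
    have hqb : (q b : ℤ) ≠ 0 := by exact_mod_cast (h.pos b).ne'
    have hp1 : P.pairing a b ≠ 0 := fun e => hab ((isOrthogonal_iff P a b).mpr e)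
    have hp2 : P.pairing b a ≠ 0 := fun e => hp1 ((pairing_zero_comm P a b).mpr e)
    set qa := (q a : ℤ); set qb := (q b : ℤ)
    set p := P.pairing b a; set r := P.pairing a b
    set Ba := P.RootForm (P.root a) (P.root a); set Bb := P.RootForm (P.root b) (P.root b)
    set Ca := P'.RootForm (P'.root (u a)) (P'.root (u a))
    set Cb := P'.RootForm (P'.root (u b)) (P'.root (u b))
    set p' := P'.pairing (u b) (u a); set r' := P'.pairing (u a) (u b)
    have key : qa ^ 2 * Ba * Cb = qb ^ 2 * Bb * Ca := by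
      apply mul_left_cancel₀ (mul_ne_zero hp2 hp1)
      linear_combination (qa ^ 2 * r * Cb) * h₂ + (-(qa * qb * r * Bb)) * h₄ +
        (-(qa * r * Bb * Cb)) * h₆ + (qb * r * Bb * Ca) * h₅
    set Bi := P.RootForm (P.root i) (P.root i)
    set Ci := P'.RootForm (P'.root (u i)) (P'.root (u i))
    have hCa : Ca ≠ 0 := (form_root_pos P' _).ne'
    apply mul_right_cancel₀ hCa
    linear_combination Cb * ih + Ci * key

end Groth.Agent.S5500
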