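import Groth.Statements.S5501
import Groth.Agent.RootDat.Length
import Mathlib.GroupTheory.FiniteAbelian.Basic

set_option autoImplicit false
universe u v w
open RootD Groth.Agent.RootDat

namespace Groth.Agent.S5501

/-- Adjoint case; the simply connected case is dual: a semisimple root datum R is adjoint if and only if
every isogeny R' → R is an isomorphism. -/
theorem result {ι : Type u} {M : Type v} {N : Type w} [AddCommGroup M] [AddCommGroup N]
    (P : RootPairing ι ℤ M N) [Finite ι] [Module.Finite ℤ M] [Module.Finite ℤ N]
    (hss : Module.finrank ℤ (Submodule.span ℤ (Set.range P.root)) = Module.finrank ℤ M) :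
    Submodule.span ℤ (Set.range P.root) = ⊤ ↔
      ∀ (ι' : Type u) (M' N' : Type v) [AddCommGroup M'] [AddCommGroup N'] [Finite ι']
        [Module.Finite ℤ M'] [Module.Finite ℤ N'] (P' : RootPairing ι' ℤ M' N') (f : RootPairing.Hom P' P),
        Function.Injective f.weightMap → Finite (M ⧸ LinearMap.range f.weightMap) →
          Function.Bijective f.weightMap := by
  constructor
  · intro htop ι' M' N' _ _ _ _ _ P' f hinj _
    refine ⟨hinj, LinearMap.range_eq_top.mp (top_le_iff.mp ?_)⟩
    rw [← htop, Submodule.span_le]
    rintro _ ⟨a, rfl⟩
    refine ⟨P'.root (f.indexEquiv.symm a), ?_⟩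
    simpa using congr_fun f.root_weightMap (f.indexEquiv.symm a)
  · intro H
    let L := Submodule.span ℤ (Set.range P.root)
    have : Module.IsReflexive ℤ M := .of_isPerfPair P.toLinearMap
    have := isTorsionFree_left P
    have hL : Module.Free ℤ L := inferInstance
    let incl : L →ₗ[ℤ] M := L.subtype
    let res : N →ₗ[ℤ] Module.Dual ℤ L := incl.dualMap ∘ₗ P.toLinearMap.flip
    have hres : ∀ (x : L) (n : N), res n x = P.toLinearMap x n := fun x n => rfl
    have hcinj : Function.Injective fun i => res (P.coroot i) := fun a b hab => by
      apply P.coroot.injective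
      rw [← sub_eq_zero]
      refine eq_zero_of_coroot' P.flip (sub_mem (root_mem_span P.flip a) (root_mem_span P.flip b))
        fun l => ?_
      have h := LinearMap.congr_fun hab ⟨P.root l, root_mem_span P l⟩
      rw [hres, hres] at h
      show P.toLinearMap (P.root l) (P.coroot a - P.coroot b) = 0
      rw [map_sub, h, sub_self]
    let P' : RootPairing ι ℤ L (Module.Dual ℤ L) :=
      { toLinearMap := LinearMap.id.flip
        isPerfPair_toLinearMap := inferInstance
        root := ⟨fun i => ⟨P.root i, root_mem_span P i⟩, fun a b hab =>
          P.root.injective (congr_arg Subtype.val hab)⟩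
        coroot := ⟨fun i => res (P.coroot i), hcinj⟩
        root_coroot_two := fun i => P.root_coroot_two i
        reflectionPerm := P.reflectionPerm
        reflectionPerm_root := fun i j => Subtype.ext (P.reflectionPerm_root i j)
        reflectionPerm_coroot := fun i j => by
          show res (P.coroot j) - P.toLinearMap (P.root i) (P.coroot j) • res (P.coroot i) =
            res (P.coroot (P.reflectionPerm i j))
          rw [← map_smul, ← map_sub, P.reflectionPerm_coroot] }
    let φ : RootPairing.Hom P' P :=
      { weightMap := incl
        coweightMap := res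
        indexEquiv := Equiv.refl ι
        weight_coweight_transpose := by ext n x; rfl
        root_weightMap := rfl
        coroot_coweightMap := rfl }
    have hfin : Finite (M ⧸ LinearMap.range incl) := by
      refine Module.finite_of_fg_torsion _ fun x => ?_
      obtain ⟨x, rfl⟩ := Submodule.Quotient.mk_surjective _ x
      have h0 : Module.finrank ℤ (M ⧸ L) = 0 := by
        have := Submodule.finrank_quotient_add_finrank L
        simp only [L] at this ⊢
        omega
      obtain ⟨a, ha, hax⟩ := Module.finrank_eq_zero_iff.mp h0 (Submodule.Quotient.mk x)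
      refine ⟨⟨a, mem_nonZeroDivisors_of_ne_zero ha⟩, ?_⟩
      rw [Submonoid.mk_smul, ← Submodule.Quotient.mk_smul, Submodule.Quotient.mk_eq_zero]
      rw [← Submodule.Quotient.mk_smul, Submodule.Quotient.mk_eq_zero] at hax
      exact ⟨⟨_, hax⟩, rfl⟩
    have := (H ι L (Module.Dual ℤ L) P' φ Subtype.val_injective hfin).2
    rw [eq_top_iff]
    intro x _
    obtain ⟨y, hy⟩ := this x
    exact hy ▸ y.2

end Groth.Agent.S5501
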