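import Groth.Statements.S5502
import Groth.Agent.RootDat.Length
import Groth.Agent.S5485

set_option autoImplicit false
open RootD Groth.Agent.RootDat

namespace Groth.Agent.S5502

/-- If β = Σ_{α ∈ Δ} a_α α along a system of simple roots Δ, then ℓ(β) divides 2 a_α ℓ(α), and 2ℓ(β)
divides it when α^v is indivisible (ℓ the canonical quadratic form). -/
theorem result {ι M N : Type*} [AddCommGroup M] [AddCommGroup N]
    (P : RootPairing ι ℤ M N) [Finite ι] [Fintype ι] (Δ : Set ι) (hΔ : RootD.IsSimpleSys P Δ)
    (k : ι) (c : ι →₀ ℤ) (hc : ↑c.support ⊆ Δ) (hck : Finsupp.linearCombination ℤ P.root c = P.root k)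
    (i : ι) (hi : i ∈ Δ) :
    P.RootForm (P.root k) (P.root k) ∣ 2 * c i * P.RootForm (P.root i) (P.root i) ∧
      (RootD.IsIndiv P.flip i → 2 * P.RootForm (P.root k) (P.root k) ∣ 2 * c i * P.RootForm (P.root i) (P.root i)) := by
  classical
  have htf := isTorsionFree_left P.flip
  have hY := Groth.Agent.S5485.result P Δ hΔ
  set X : Set ι := {j : ι | ∃ i ∈ Δ,
    (j = i ∧ RootD.IsIndiv P.flip i) ∨ (2 : ℤ) • P.coroot j = P.coroot i} with hX
  have hy : ∀ a ∈ Δ, ∃ y ∈ X, ∃ t : ℤ, (t = 1 ∨ t = 2) ∧ P.coroot a = t • P.coroot y ∧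
      (RootD.IsIndiv P.flip a → t = 1) := fun a ha => by
    by_cases h : RootD.IsIndiv P.flip a
    · exact ⟨a, ⟨a, ha, Or.inl ⟨rfl, h⟩⟩, 1, Or.inl rfl, (one_smul ℤ _).symm, fun _ => rfl⟩
    · have h0 := h
      simp only [RootD.IsIndiv, not_forall, not_not] at h
      obtain ⟨j, hj⟩ := h
      exact ⟨j, ⟨a, ha, Or.inr hj⟩, 2, Or.inr rfl, hj.symm, fun h' => absurd h' h0⟩
  choose! y hyX t ht hay hind using hy
  have htne : ∀ a ∈ Δ, t a ≠ 0 := fun a ha => by rcases ht a ha with e | e <;> omega
  have hyinj : ∀ a ∈ Δ, ∀ b ∈ Δ, y a = y b → a = b := fun a ha b hb hab => by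
    by_contra hne
    have e1 := hay a ha
    have e2 := hay b hb
    rw [hab] at e1
    have h1 : (t b * P.CorootForm (P.coroot a) (P.coroot a)) • P.root a =
        (t a * P.CorootForm (P.coroot b) (P.coroot b)) • P.root b := by
      rw [← smul_smul, ← smul_smul, coPolarization_coroot, coPolarization_coroot, e1, e2,
        map_smul, map_smul, smul_smul, smul_smul, smul_smul, smul_smul]
      congr 1; ring
    have := coeff_unique P hΔ.linInd
      (c := Finsupp.single a (t b * P.CorootForm (P.coroot a) (P.coroot a)))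
      (d := Finsupp.single b (t a * P.CorootForm (P.coroot b) (P.coroot b)))
      (support_single_le ha _) (support_single_le hb _) (by simpa using h1)
    have := DFunLike.congr_fun this a
    rw [Finsupp.single_eq_same, Finsupp.single_eq_of_ne hne] at this
    exact mul_ne_zero (htne b hb) (coform_root_pos a).ne' this
  obtain ⟨d, hd, hdx⟩ := exists_coeff hY (root_mem_span P.flip k)
  have heq : P.RootForm (P.root k) (P.root k) • d =
      ∑ a ∈ c.support, Finsupp.single (y a) (c a * (P.RootForm (P.root a) (P.root a) * t a)) := by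
    refine coeff_unique P.flip hY.linInd (fun l hl => hd (Finsupp.support_smul hl)) (fun l hl => ?_) ?_
    · obtain ⟨a, ha, hl⟩ := Finset.mem_biUnion.mp (Finsupp.support_finsetSum hl)
      exact support_single_le (hyX a (hc ha)) _ hl
    · rw [map_smul, hdx, map_sum]
      show P.RootForm (P.root k) (P.root k) • P.coroot k = _
      rw [polarization_root, ← hck, Finsupp.linearCombination_apply, Finsupp.sum, map_sum,
        Finset.smul_sum]
      refine Finset.sum_congr rfl fun a ha => ?_
      rw [Finsupp.linearCombination_single, map_smul, smul_comm, ← polarization_root]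
      show c a • _ • P.coroot a = _ • P.coroot (y a)
      rw [hay a (hc ha), smul_smul, smul_smul]
      congr 1; ring
  have hyi : P.RootForm (P.root k) (P.root k) * d (y i) =
      c i * (P.RootForm (P.root i) (P.root i) * t i) := by
    have h := DFunLike.congr_fun heq (y i)
    rw [Finsupp.smul_apply, smul_eq_mul, Finsupp.finsetSum_apply] at h
    by_cases his : i ∈ c.support
    · rw [h, Finset.sum_eq_single_of_mem i his fun b hb hne =>
        Finsupp.single_eq_of_ne fun e => hne (hyinj b (hc hb) i hi e.symm), Finsupp.single_eq_same]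
    · rw [h, Finset.sum_eq_zero fun b hb => Finsupp.single_eq_of_ne fun e =>
        his (by rw [hyinj i hi b (hc hb) e]; exact hb), Finsupp.notMem_support_iff.mp his, zero_mul]
  constructor
  · rcases ht i hi with e | e <;> rw [e] at hyi
    · exact ⟨2 * d (y i), by linear_combination (-2 : ℤ) * hyi⟩
    · exact ⟨d (y i), by linear_combination -hyi⟩
  · intro h
    rw [hind i hi h] at hyi
    exact ⟨d (y i), by linear_combination (-2 : ℤ) * hyi⟩

end Groth.Agent.S5502
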