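import Groth.Statements.S5504
import Groth.Agent.RootDat.Weyl

set_option autoImplicit false
open RootPairing
open scoped Pointwise
open RootD

namespace Groth.Agent.S5504

/-- Stated for the group generated by the simple reflections (rather than for the abstractly presented
group): if w = s_{α_1} ⋯ s_{α_m} is a word of minimal length in the simple reflections, then w(α_m)
is a negative root. -/
theorem result {ι M N : Type*} [AddCommGroup M] [AddCommGroup N]
    (P : RootPairing ι ℤ M N) [Finite ι] (Δ : Set ι) (hΔ : RootD.IsSimpleSys P Δ)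
    (l : List ι) (hl : ∀ a ∈ l, a ∈ Δ) (hne : l ≠ [])
    (hmin : ∀ l' : List ι, (∀ a ∈ l', a ∈ Δ) →
      (l'.map fun a => Equiv.reflection P a).prod = (l.map fun a => Equiv.reflection P a).prod → l.length ≤ l'.length) :
    -P.root ((l.map fun a => Equiv.reflection P a).prod • l.getLast hne) ∈ RootD.natSpan P Δ := by
  obtain ⟨t, i, rfl⟩ : ∃ t i, l = t ++ [i] := ⟨_, _, (List.dropLast_concat_getLast hne).symm⟩
  have hi : i ∈ Δ := hl i (by simp)
  have h := ((Groth.Agent.RootDat.Simple.walls hΔ).last_neg t
    (fun a ha => hl a (by simp [ha])) i hi hmin).2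
  rw [List.getLast_concat, ← Groth.Agent.RootDat.root_neg]
  exact (Groth.Agent.RootDat.Simple.neg_iff hΔ _).mpr h

end Groth.Agent.S5504
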