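import Groth.Statements.S5507
import Groth.Agent.RootDat.Gram

set_option autoImplicit false
open RootD Groth.Agent.RootDat

namespace Groth.Agent.S5507

/-- For a system of simple roots Δ there are positive integers m_α (the lengths) such that the matrix
(m_α a_{α,β}) with a_{α,β} = (α^v, β) is symmetric and positive definite. -/
theorem result {ι M N : Type*} [AddCommGroup M] [AddCommGroup N]
    (P : RootPairing ι ℤ M N) [Finite ι] (Δ : Finset ι) (hΔ : RootD.IsSimpleSys P (↑Δ : Set ι)) :
    ∃ m : ↥Δ → ℤ, (∀ a, 0 < m a) ∧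
      (Matrix.of fun (a b : ↥Δ) => m a * P.pairing (b : ι) (a : ι)).IsSymm ∧
      (Matrix.of fun (a b : ↥Δ) => m a * P.pairing (b : ι) (a : ι)).PosDef := by
  classical
  let := Fintype.ofFinite ι
  obtain ⟨h₁, h₂⟩ := symm_posDef Δ hΔ.linInd
  exact ⟨fun a => P.RootForm (P.root a) (P.root a), fun a => form_root_pos P _, h₁, h₂⟩

end Groth.Agent.S5507
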