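import Groth.Statements.S5512
import Groth.Agent.ConjConst26.CartanSub
-- import your own Groth.Agent.* helpers here

set_option autoImplicit false
open CategoryTheory MonoidalCategory CartesianMonoidalCategory MonObj GrpObj AlgebraicGeometry
universe u
open RedSub

namespace Groth.Agent.S5512

set_option linter.unusedVariables false
set_option backward.isDefEq.respectTransparency.types false

open Groth.Agent Groth.Agent.ConjConst26 in
theorem maxTransfer {k : Type u} [Field k] [IsAlgClosed k] {H G T T₀ : Over (Spec (CommRingCat.of k))}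
    [GrpObj H] [GrpObj G] [GrpObj T] [GrpObj T₀] [Smooth H.hom] [QuasiCompact H.hom]
    (emb : H ⟶ G) [IsMonHom emb] [Mono emb] (t₀ : T₀ ⟶ H) [IsMonHom t₀]
    (h₀ : Red.IsMaximalTorus (t₀ ≫ emb)) (i : T ⟶ H) (hi : Red.IsMaximalTorus i) :
    Red.IsMaximalTorus (i ≫ emb) := by
  haveI := hi.1
  haveI := hi.2.1
  obtain ⟨g, φ, hφ⟩ := maxTorus_conj' t₀ i (CartanSub.isMaximalTorus_of_comp t₀ emb h₀) hi
  have hG : (t₀ ≫ emb) ≫ AGFQuot23.cj (g ≫ emb)⁻¹ = φ.hom ≫ i ≫ emb := by
    rw [AGFQuot23.comp_cj, ← Category.assoc φ.hom, ← hφ]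
    simp only [AGFQuot23.cst, MonObj.mul_comp, GrpObj.inv_comp, GrpObj.comp_inv, _root_.inv_inv, Category.assoc]
  have h1 : Red.IsMaximalTorus (φ.hom ≫ i ≫ emb) :=
    hG ▸ isMaximalTorus_comp_aut h₀ (AGFQuot23.cj (g ≫ emb)⁻¹)
  obtain ⟨-, -, -, hmax⟩ := h1
  refine ⟨inferInstance, mono_comp _ _, hi.2.2.1, fun s T₂ _ j _ _ f hT₂ hfj => ?_⟩
  let φ₀ := (Over.pullback (Red.geomPt s)).map φ.hom
  haveI : IsIso φ₀ := ((Over.pullback (Red.geomPt s)).mapIso φ).isIso_hom
  haveI := hmax s T₂ j (φ₀ ≫ f) hT₂ (by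
    rw [Category.assoc, hfj]; exact ((Over.pullback (Red.geomPt s)).map_comp φ.hom (i ≫ emb)).symm)
  exact IsIso.of_isIso_comp_left φ₀ f

open AlgebraicGeometry CategoryTheory
/-- For a reductive S-group G. Let i : H ⟶ G be a subgroup of type (R) and k : K ⟶ H a homomorphism.
Then k is a subgroup of type (R) of H if and only if k ≫ i is a subgroup of type (R) of G. (For H of
type (R) in a reductive G, the Cartan subgroups of the geometric fibres of H are their maximal tori,
which are maximal tori of the geometric fibres of G, so the prelude's notion of type (R) relative to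
H is the source's.) -/
theorem result {S : Scheme.{u}} {G H K : Over S} [GrpObj G] [GrpObj H] [GrpObj K]
    (hG : Red.IsReductive G) (i : H ⟶ G) (hH : RedSub.IsTypeR i) (k : K ⟶ H) [IsMonHom k] :
    RedSub.IsTypeR k ↔ RedSub.IsTypeR (k ≫ i) := by
  obtain ⟨⟨hmi, himm⟩, hsm, hqc, hconn, htor⟩ := hH
  haveI := hmi
  haveI := himm
  have hfib : ∀ (s : S), Smooth (Red.geomFibre s H).hom ∧ QuasiCompact (Red.geomFibre s H).hom ∧
      Mono ((Over.pullback (Red.geomPt s)).map i) := fun s => by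
    haveI : (Over.pullback (Red.geomPt s)).IsRightAdjoint := (Over.mapPullbackAdj _).isRightAdjoint
    haveI : Mono i := (Over.forget S).mono_of_mono_map (inferInstanceAs (Mono i.left))
    exact ⟨MorphismProperty.pullback_snd (P := @Smooth) _ _ hsm,
      MorphismProperty.pullback_snd (P := @QuasiCompact) _ _ hqc, inferInstance⟩
  refine ⟨fun ⟨⟨_, himk⟩, hs, hq, hc, ht⟩ => ⟨⟨inferInstance, ?_⟩, hs, hq, hc, fun s => ?_⟩,
    fun ⟨⟨_, himk⟩, hs, hq, hc, ht⟩ => ⟨⟨inferInstance, ?_⟩, hs, hq, hc, fun s => ?_⟩⟩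
  · haveI := himk
    rw [Over.comp_left]; infer_instance
  · obtain ⟨T, _, t, htm, hmax⟩ := ht s
    obtain ⟨T₀, _, t₀, ht₀, hmax₀⟩ := htor s
    obtain ⟨h1, h2, h3⟩ := hfib s
    haveI := h1; haveI := h2; haveI := h3; haveI := htm; haveI := ht₀
    haveI : IsMonHom ((Over.pullback (Red.geomPt s)).map i) := inferInstance
    refine ⟨T, inferInstance, t, htm, ?_⟩
    have := maxTransfer _ t₀ hmax₀ _ hmax
    rw [Category.assoc] at this
    rw [Functor.map_comp]
    exact this
  · haveI : IsImmersion (k.left ≫ i.left) := by rw [← Over.comp_left]; exact himk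
    exact IsImmersion.of_comp k.left i.left
  · obtain ⟨T, _, t, htm, hmax⟩ := ht s
    obtain ⟨h1, h2, h3⟩ := hfib s
    haveI := h3; haveI := htm
    haveI : IsMonHom ((Over.pullback (Red.geomPt s)).map i) := inferInstance
    haveI : IsMonHom ((Over.pullback (Red.geomPt s)).map k) := inferInstance
    refine ⟨T, inferInstance, t, htm, ?_⟩
    rw [Functor.map_comp, ← Category.assoc] at hmax
    exact Groth.Agent.ConjConst26.CartanSub.isMaximalTorus_of_comp _ _ hmax

end Groth.Agent.S5512
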