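import Groth.Statements.S5549
import Groth.Agent.ConjConst26.TorusInvariants
import Groth.Agent.SGA3cLib.MTTransporter
import Groth.Agent.SGA3cLib.NormalMultCentral
import Groth.Agent.SGA3cLib.CentralFib
import Groth.Agent.MultExt26.GmBase
import Groth.Agent.MaxTorus26.Basic

set_option backward.isDefEq.respectTransparency false
set_option synthInstance.maxHeartbeats 400000
set_option maxHeartbeats 1600000
set_option linter.style.haveILetI false
-- import your own Groth.Agent.* helpers here

set_option autoImplicit false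
open CategoryTheory MonoidalCategory CartesianMonoidalCategory MonObj GrpObj AlgebraicGeometry
universe u
open RedSub

namespace Groth.Agent.S5549

/-- A maximal torus of the group lying in a subgroup is maximal there. -/
theorem isMaximalTorus_of_comp {k : Type u} [Field k] {G H T : Over (Spec (CommRingCat.of k))} [GrpObj G] [GrpObj H]
    [GrpObj T] (i : T ⟶ H) [IsMonHom i] (emb : H ⟶ G) [IsMonHom emb] [Mono emb] (h : Red.IsMaximalTorus (i ≫ emb)) :
    Red.IsMaximalTorus i := by
  obtain ⟨-, hm, hTt, hmax⟩ := h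
  haveI := hm
  haveI : Mono i := mono_of_mono i emb
  refine ⟨inferInstance, inferInstance, hTt, fun s T' _ j _ _ f hT' hfj => ?_⟩
  haveI : (Over.pullback (Red.geomPt s)).IsRightAdjoint := (Over.mapPullbackAdj _).isRightAdjoint
  let emb₀ : Red.geomFibre s H ⟶ Red.geomFibre s G := (Over.pullback (Red.geomPt s)).map emb
  haveI : IsMonHom emb₀ := inferInstanceAs (IsMonHom ((Over.pullback (Red.geomPt s)).map emb))
  haveI : Mono emb₀ := inferInstanceAs (Mono ((Over.pullback (Red.geomPt s)).map emb))
  exact hmax s T' (j ≫ emb₀) f hT' (by rw [← Category.assoc, hfj, ← Functor.map_comp])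

/-- For a reductive S-group G. Let T be a maximal torus of G, Q a subtorus of T, z : Z ⟶ G the
centraliser of Q in G and H a subgroup of type (R) of G containing T. Then H ∩ Z (a fibre product P
with homomorphisms P ⟶ H, P ⟶ Z) is a subgroup of type (R) of Z. -/
theorem result {S : Scheme.{u}} {G T Q Z H : Over S} [GrpObj G] [GrpObj T] [GrpObj Q]
    [GrpObj Z] [GrpObj H] (hG : Red.IsReductive G) (i : T ⟶ G) (hT : Red.IsMaximalTorus i) (q : Q ⟶ T) [IsMonHom q]
    [Mono q] (hQ : Red.IsTorus Q) (z : Z ⟶ G) (hZ : Red.IsCentralizerOf (q ≫ i) z) (h : H ⟶ G)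
    (hH : RedSub.IsTypeR h) (t : T ⟶ H) (ht : t ≫ h = i)
    (P : Over S) [GrpObj P] (a : P ⟶ H) (b : P ⟶ Z) [IsMonHom a] [IsMonHom b] (hP : IsPullback a b h z) :
    RedSub.IsTypeR b := by
  obtain ⟨⟨hmon, himm⟩, hHs, hHqc, hHconn, -⟩ := hH
  haveI := hmon
  haveI := himm
  haveI := hHs
  haveI := hHqc
  haveI := hG.1
  haveI := hT.1
  haveI := hT.2.1
  haveI := hZ.1
  haveI := hZ.2.1
  haveI : Mono h := (Over.forget S).mono_of_mono_map (inferInstanceAs (Mono h.left))
  haveI : IsSeparated H.hom := by rw [← Over.w h]; infer_instance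
  haveI : Mono (t ≫ h) := by rw [ht]; infer_instance
  haveI : Mono t := mono_of_mono t h
  haveI : IsMonHom t := SGA3cLib.BCPoints.isMonHom_of_mul t fun X x y => by
    rw [← cancel_mono h]
    simp only [MonObj.mul_comp, Category.assoc, ht]
  haveI : Mono a := hP.mono_fst_of_mono
  haveI : Mono b := hP.mono_snd_of_mono
  let u : Q ⟶ H := q ≫ t
  haveI : IsMonHom u := inferInstanceAs (IsMonHom (q ≫ t))
  haveI : Mono u := mono_comp q t
  have hu : u ≫ h = q ≫ i := by simp only [u, Category.assoc, ht]
  have hPc : Red.IsCentralizerOf u a := by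
    refine ⟨inferInstance, inferInstance, fun X g => ⟨?_, fun hcomm => ?_⟩⟩
    · rintro ⟨p, rfl⟩ X' x y
      have := (hZ.2.2 X ((p ≫ b) ≫ z)).1 ⟨_, rfl⟩ X' x y
      rw [← cancel_mono h]
      simp only [MonObj.mul_comp, Category.assoc, hu, hP.w] at this ⊢
      exact this
    · obtain ⟨w, hw⟩ := (hZ.2.2 X (g ≫ h)).2 fun X' x y => by
        have := congrArg (fun e => e ≫ h) (hcomm X' x y)
        simpa only [MonObj.mul_comp, Category.assoc, hu] using this
      exact ⟨hP.lift g w hw.symm, hP.lift_fst _ _ _⟩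
  obtain ⟨C, gC, c, hc, hccl, hCs⟩ := SGA3cLib.MTTransporter.exists_centralizer u
    (SGA3cLib.CentralFib.locally_of_multTypeFT (MultExt26.isMultTypeFT_of_torus Q hQ))
  haveI := hccl
  haveI := hCs
  haveI := hc.2.1
  obtain ⟨e, he⟩ := (hc.2.2 P a).2 ((hPc.2.2 P a).1 ⟨𝟙 P, Category.id_comp a⟩)
  obtain ⟨e', he'⟩ := (hPc.2.2 C c).2 ((hc.2.2 C c).1 ⟨𝟙 C, Category.id_comp c⟩)
  haveI : IsIso e := ⟨e', by rw [← cancel_mono a]; simp only [Category.assoc, he', he, Category.id_comp],
    by rw [← cancel_mono c]; simp only [Category.assoc, he', he, Category.id_comp]⟩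
  haveI : IsIso e.left := inferInstanceAs (IsIso ((Over.forget S).map e))
  haveI hPs : Smooth P.hom := by rw [← Over.w e]; infer_instance
  haveI hPqc : QuasiCompact P.hom := by rw [← Over.w e, ← Over.w c]; infer_instance
  haveI : IsImmersion b.left := MorphismProperty.of_isPullback (hP.map (Over.forget S)) himm
  have hPconn : HasConnectedFibres P := fun s => by
    haveI : ConnectedSpace (Red.bc (Red.geomPt s) H).left :=
      SGA3cLib.NormalMultCentral.connectedSpace_bc H (fun s' => by
        haveI : ConnectedSpace ↥(H.hom.base ⁻¹' {s'}) := isConnected_iff_connectedSpace.1 (hHconn s')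
        exact (H.hom.fiberHomeo s').symm.surjective.connectedSpace (H.hom.fiberHomeo s').symm.continuous)
        (Red.geomPt s)
    haveI : Smooth (Red.bc (Red.geomPt s) H).hom := MorphismProperty.pullback_snd (P := @Smooth) _ _ hHs
    haveI : ConnectedSpace (Red.geomFibre s P).left :=
      ConjConst26.TorusInvariants.connectedSpace_centralizer (Red.geomPt s) H Q P hQ u a hPc
    exact ConjConst26.TorusInvariants.isConnected_fibre P s
  refine ⟨⟨inferInstance, inferInstance⟩, hPs, hPqc, hPconn, fun s => ?_⟩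
  obtain ⟨p, hp⟩ := (hPc.2.2 T t).2 fun X' x y => by
    calc (x ≫ t) * (y ≫ u) = (x * (y ≫ q)) ≫ t := by simp only [u, MonObj.mul_comp, Category.assoc]
      _ = ((y ≫ q) * x) ≫ t := by rw [SGA3cLib.torus_mul_comm hT.2.2.1]
      _ = (y ≫ u) * (x ≫ t) := by simp only [u, MonObj.mul_comp, Category.assoc]
  haveI : IsMonHom p := SGA3cLib.BCPoints.isMonHom_of_mul p fun X x y => by
    rw [← cancel_mono a]
    simp only [MonObj.mul_comp, Category.assoc, hp]
  have hpz : (p ≫ b) ≫ z = i := by rw [Category.assoc, ← hP.w, ← Category.assoc, hp, ht]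
  let ω := Red.geomPt s
  let F := Over.pullback ω
  haveI : F.IsRightAdjoint := (Over.mapPullbackAdj _).isRightAdjoint
  haveI : IsMonHom (F.map p) := inferInstanceAs (IsMonHom ((Over.pullback ω).map p))
  haveI : IsMonHom (F.map b) := inferInstanceAs (IsMonHom ((Over.pullback ω).map b))
  haveI : IsMonHom (F.map z) := inferInstanceAs (IsMonHom ((Over.pullback ω).map z))
  haveI : Mono (F.map z) := inferInstance
  refine ⟨Red.geomFibre s T, inferInstance, F.map p, inferInstanceAs (IsMonHom ((Over.pullback ω).map p)), ?_⟩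
  refine isMaximalTorus_of_comp (F.map p ≫ F.map b) (F.map z) ?_
  rw [← F.map_comp, ← F.map_comp, hpz]
  exact MaxTorus26.isMaximalTorus_geom hT s

end Groth.Agent.S5549
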