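import Groth.Statements.S5550
import Groth.Agent.Luna12.CentRed
import Groth.Agent.ConjConst26.TorusInvariants
-- import your own Groth.Agent.* helpers here

set_option autoImplicit false
set_option backward.isDefEq.respectTransparency false
set_option backward.isDefEq.respectTransparency.types false
open CategoryTheory.Limits
open CategoryTheory MonoidalCategory CartesianMonoidalCategory MonObj GrpObj AlgebraicGeometry
universe u
open RedSub

namespace Groth.Agent.S5550

/-- First assertion. Let G be a reductive S-group and q : Q ⟶ G a subtorus. Then the centraliser of Q in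
G is representable by a subgroup of type (R) of G which is itself a reductive S-group. -/
theorem result {S : Scheme.{u}} {G Q : Over S} [GrpObj G] [GrpObj Q]
    (hG : Red.IsReductive G) (q : Q ⟶ G) [IsMonHom q] [Mono q] (hQ : Red.IsTorus Q) :
    ∃ (Z : Over S) (_ : GrpObj Z) (z : Z ⟶ G), Red.IsCentralizerOf q z ∧ RedSub.IsTypeR z ∧ Red.IsReductive Z := by
  haveI : IsAffineHom G.hom := hG.1
  haveI : Smooth G.hom := hG.2.1
  haveI : IsSeparated G.hom := inferInstance
  obtain ⟨Z, gZ, z, hz, hzcl, hzsm⟩ := Groth.Agent.SGA3cLib.MTTransporter.exists_centralizer q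
    (Groth.Agent.SGA3cLib.CentralFib.locally_of_multTypeFT (Groth.Agent.MultExt26.isMultTypeFT_of_torus Q hQ))
  letI := gZ
  haveI := hz.1
  haveI := hz.2.1
  haveI := hzcl
  haveI : IsAffineHom Z.hom := by rw [← Over.w z]; infer_instance
  have hred : ∀ s : S, Red.IsReductiveOver (AlgebraicClosure (S.residueField s)) (Red.geomFibre s Z) := fun s => by
    haveI : IsMonHom ((Over.pullback (Red.geomPt s)).map q) := inferInstanceAs (IsMonHom ((Over.pullback (Red.geomPt s)).map q))
    exact Groth.Agent.Luna12.isReductiveOver_centralizer (hG.2.2 s) (Groth.Agent.TorusAb27.isTorus_bc (Red.geomPt s) Q hQ)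
      (Groth.Agent.MaxTorus26.isCentralizerOf_bc (Red.geomPt s) hz)
  refine ⟨Z, gZ, z, hz, ⟨⟨hz.1, inferInstance⟩, hzsm, inferInstance, fun s => ?_, fun s => ?_⟩, ⟨inferInstance, hzsm, hred⟩⟩
  · haveI := (hred s).2.2.1
    exact Groth.Agent.ConjConst26.TorusInvariants.isConnected_fibre Z s
  · let p := Red.geomPt s
    haveI := (hG.2.2 s).1; haveI := (hG.2.2 s).2.1; haveI := (hG.2.2 s).2.2.1
    haveI : IsMonHom ((Over.pullback p).map q) := inferInstanceAs (IsMonHom ((Over.pullback p).map q))
    obtain ⟨T, gT, i, f, hT, hf⟩ := Groth.Agent.Luna12.exists_maxTorus_ge (Groth.Agent.TorusAb27.isTorus_bc p Q hQ)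
      ((Over.pullback p).map q)
    letI := gT
    have hzs := Groth.Agent.MaxTorus26.isCentralizerOf_bc p hz
    haveI := hT.1
    haveI := hzs.1
    haveI := hzs.2.1
    obtain ⟨t, ht⟩ := (hzs.2.2 T i).2 fun X x y => by
      rw [← hf, ← Category.assoc y f i, ← MonObj.mul_comp, ← MonObj.mul_comp,
        Groth.Agent.SGA3cLib.torus_mul_comm hT.2.2.1]
    haveI : IsMonHom (t ≫ (Over.pullback p).map z) := by rw [ht]; infer_instance
    refine ⟨T, gT, t, Groth.Agent.AGFQuot23.isMonHom_of_comp_mono' t ((Over.pullback p).map z), ?_⟩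
    rw [ht]
    exact Groth.Agent.ConjConst26.RedCentre.isMaximalTorus_of_isMaxTorus hT


end Groth.Agent.S5550
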