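import Groth.Statements.S5568
import Groth.Agent.S2962
import Groth.Agent.DSIso26.Basic
import Groth.Agent.RootDat.Form
import Mathlib.LinearAlgebra.FreeModule.Finite.Quotient
-- import your own Groth.Agent.* helpers here

set_option autoImplicit false
set_option linter.style.haveILetI false
set_option backward.isDefEq.respectTransparency.types false
set_option maxHeartbeats 1000000
set_option synthInstance.maxHeartbeats 200000
open CategoryTheory MonoidalCategory CartesianMonoidalCategory MonObj GrpObj AlgebraicGeometry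
universe u
open RedSub

namespace Groth.Agent.S5568

open Groth.Agent.SGA3cLib CategoryTheory.Limits

/-- Functionals on the root lattice are, up to a uniform integer, induced by the root form. -/
theorem exists_index_aux {M : Type} [AddCommGroup M] [Module.Finite ℤ M] [Module.Free ℤ M]
    (Φ : LinearMap.BilinForm ℤ M) (Q : Submodule ℤ M) (hpos : ∀ x ∈ Q, x ≠ 0 → 0 < Φ x x) :
    ∃ n : ℕ, 0 < n ∧ ∀ m : M, ∃ q ∈ Q, ∀ y ∈ Q, Φ q y = n • Φ m y := by
  classical
  let B : Q →ₗ[ℤ] Module.Dual ℤ Q := (LinearMap.lcomp ℤ ℤ Q.subtype).comp (LinearMap.comp Φ Q.subtype)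
  have hB : Function.Injective B := by
    rw [← LinearMap.ker_eq_bot]
    refine LinearMap.ker_eq_bot'.2 fun x hx => ?_
    by_contra hne
    have h1 := hpos x x.2 (fun h => hne (Subtype.ext h))
    have h2 : Φ (x : M) (x : M) = 0 := LinearMap.congr_fun hx x
    omega
  have hrank : Module.finrank ℤ (LinearMap.range B) = Module.finrank ℤ (Module.Dual ℤ Q) := by
    rw [LinearMap.finrank_range_of_inj hB]
    exact (Module.Free.chooseBasis ℤ Q).toDualEquiv.finrank_eq
  haveI := Submodule.finiteQuotientOfFreeOfRankEq _ hrank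
  refine ⟨Nat.card (Module.Dual ℤ Q ⧸ LinearMap.range B), Nat.card_pos, fun m => ?_⟩
  let φ : Module.Dual ℤ Q := (Φ m).comp Q.subtype
  have hφ : Nat.card (Module.Dual ℤ Q ⧸ LinearMap.range B) • φ ∈ LinearMap.range B := by
    rw [← Submodule.Quotient.mk_eq_zero (p := LinearMap.range B), Submodule.Quotient.mk_smul]
    exact card_nsmul_eq_zero'
  obtain ⟨q, hq⟩ := hφ
  exact ⟨q, q.2, fun y hy => LinearMap.congr_fun hq ⟨y, hy⟩⟩

/-- Functionals on the root lattice are, up to a uniform integer, induced by the root form. -/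
theorem exists_index {κ M N : Type} [Fintype κ] [AddCommGroup M] [AddCommGroup N]
    [Module.Finite ℤ M] [Module.Free ℤ M] (P : RootPairing κ ℤ M N) :
    ∃ n : ℕ, 0 < n ∧ ∀ m : M, ∃ q ∈ Submodule.span ℤ (Set.range P.root), ∀ i, P.coroot' i (n • m - q) = 0 := by
  have hpos : ∀ x ∈ Submodule.span ℤ (Set.range P.root), x ≠ 0 → 0 < P.RootForm x x :=
    fun x hx hne => RootDat.form_pos P hx hne
  generalize hΦ : P.RootForm = Φ at hpos
  obtain ⟨n, hn, h⟩ := exists_index_aux Φ _ hpos
  subst hΦ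
  refine ⟨n, hn, fun m => ?_⟩
  obtain ⟨q, hq, hq'⟩ := h m
  refine ⟨q, hq, fun i => ?_⟩
  have h1 := hq' _ (RootDat.root_mem_span P i)
  have h2 : P.RootForm (n • m - q) (P.root i) = 0 := by
    rw [map_sub, LinearMap.sub_apply, map_nsmul, LinearMap.smul_apply, h1, sub_self]
  have h3 := RootDat.two_mul_form P i (n • m - q)
  rw [RootDat.form_comm P (P.root i) (n • m - q), h2, mul_zero] at h3
  exact (mul_eq_zero.1 h3).resolve_left (RootDat.form_root_pos P i).ne'

/-- Let G be a split reductive S-group (splitting D, T ≅ D_S(M)), N = {m ∈ M | (α*, m) = 0 for all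
coroots}, T' = D_S(M/N) ⟶ D_S(M) ≅ T the subtorus generated by the coroots, and R = rad(G) (the
maximal torus of the centre), lying in T through r'. Then the multiplication R x_S T' ⟶ T is an
isogeny (surjective, flat, finite). -/
theorem result {S : Scheme.{u}} {G Z R : Over S} [GrpObj G] [GrpObj Z] [GrpObj R]
    (D : Red.SplitRed G) (j : Z ⟶ G) (hZ : Red.IsCentre j) (r : R ⟶ Z) (hR : Red.IsMaximalTorus r)
    (r' : R ⟶ D.T) (hr' : r' ≫ D.i = r ≫ j)
    (N : AddSubgroup D.M) (hN : ∀ m : D.M, m ∈ N ↔ ∀ a : D.idx, D.P.coroot a m = 0) :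
    Surjective ((r' ⊗ₘ (Red.DSmap S (QuotientAddGroup.mk' N) ≫ D.split.inv.hom.hom)) ≫ μ[D.T]).left ∧
      Flat ((r' ⊗ₘ (Red.DSmap S (QuotientAddGroup.mk' N) ≫ D.split.inv.hom.hom)) ≫ μ[D.T]).left ∧
      IsFinite ((r' ⊗ₘ (Red.DSmap S (QuotientAddGroup.mk' N) ≫ D.split.inv.hom.hom)) ≫ μ[D.T]).left := by
  classical
  haveI := D.maximalTorus.1
  haveI := D.maximalTorus.2.1
  haveI hjh := hZ.1
  haveI hjm := hZ.2.1
  haveI := hR.1
  haveI := hR.2.1
  have hRT := hR.2.2.1
  haveI hsh : IsMonHom D.split.hom.hom.hom := D.split.hom.hom.isMonHom_hom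
  haveI hsi : IsMonHom D.split.inv.hom.hom := D.split.inv.hom.isMonHom_hom
  let e : D.T ≅ Red.DS S D.M := (Grp.forget _).mapIso D.split
  have hhi : D.split.hom.hom.hom ≫ D.split.inv.hom.hom = 𝟙 D.T := e.hom_inv_id
  have hih : D.split.inv.hom.hom ≫ D.split.hom.hom.hom = 𝟙 _ := e.inv_hom_id
  haveI : IsIso D.split.inv.hom.hom := e.isIso_inv
  let Q := Submodule.span ℤ (Set.range D.P.root)
  let Qs : AddSubgroup D.M :=
    { carrier := {m | ∃ n : ℕ, 0 < n ∧ n • m ∈ Q}
      zero_mem' := ⟨1, one_pos, by simp⟩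
      add_mem' := by
        rintro a b ⟨n, hn, ha⟩ ⟨k, hk, hb⟩
        refine ⟨n * k, Nat.mul_pos hn hk, ?_⟩
        rw [nsmul_add]
        exact Q.add_mem (by rw [mul_comm, mul_smul]; exact nsmul_mem ha k) (by rw [mul_smul]; exact nsmul_mem hb n)
      neg_mem' := by
        rintro a ⟨n, hn, ha⟩
        exact ⟨n, hn, by rw [smul_neg]; exact Q.neg_mem ha⟩ }
  have hQs : ∀ m, m ∈ Qs ↔ ∃ n : ℕ, 0 < n ∧ n • m ∈ Q := fun m => Iff.rfl
  have hrootQs : ∀ a, D.P.root a ∈ Qs := fun a =>
    ⟨1, one_pos, by rw [one_nsmul]; exact RootDat.root_mem_span D.P a⟩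
  let π := QuotientAddGroup.mk' Qs
  haveI htf : IsAddTorsionFree (D.M ⧸ Qs) := ⟨fun k hk x y hxy => by
    obtain ⟨x, rfl⟩ := QuotientAddGroup.mk'_surjective Qs x
    obtain ⟨y, rfl⟩ := QuotientAddGroup.mk'_surjective Qs y
    change k • π x = k • π y at hxy
    rw [← map_nsmul, ← map_nsmul] at hxy
    change π (k • x) = π (k • y) at hxy
    have h1 := (QuotientAddGroup.eq (s := Qs)).1 hxy
    rw [← smul_neg, ← nsmul_add] at h1
    obtain ⟨n, hn, h⟩ := h1
    refine (QuotientAddGroup.eq (s := Qs)).2 ⟨n * k, Nat.mul_pos hn (Nat.pos_of_ne_zero hk), ?_⟩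
    rw [mul_smul]
    exact h⟩
  haveI hfA : Module.Finite ℤ (D.M ⧸ Qs) :=
    Module.Finite.of_surjective π.toIntLinearMap (QuotientAddGroup.mk'_surjective Qs)
  haveI : Module.IsTorsionFree ℤ (D.M ⧸ Qs) := inferInstance
  haveI : Module.Free ℤ (D.M ⧸ Qs) := inferInstance
  have hR0T : Red.IsTorus (Red.DS S (D.M ⧸ Qs)) := DSIso26.isTorus_DS
  haveI hπh : IsMonHom (Red.DSmap S π) := S5427.isMonHom_DSmap _
  haveI : Mono ((Over.forget S).map (Red.DSmap S π)) :=
    MultHomLocus.mono_of_surjective _ (QuotientAddGroup.mk'_surjective Qs) S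
  haveI hπm : Mono (Red.DSmap S π) := (Over.forget S).mono_of_mono_map ‹_›
  -- R0 lies in the centre
  let p := Red.DSmap S π ≫ D.split.inv.hom.hom
  haveI : IsMonHom p := inferInstance
  haveI : Mono p := mono_comp _ _
  obtain ⟨z0, hz0⟩ := (hZ.2.2 _ (p ≫ D.i)).2 (fun X' x h => by
    have hc := (S2962.result D _ (p ≫ D.i)).2 ⟨p, rfl, fun a => by
      apply gmFn_injective
      rw [gmFn_one, show p ≫ D.split.hom.hom.hom ≫ Red.chi S (D.P.root a) =
        Red.DSmap S π ≫ Red.chi S (D.P.root a) by simp only [p, Category.assoc, reassoc_of% hih],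
        SplitCentral26.gmFn_chi', ← Category.id_comp (Red.DSmap S π), DSIso26.dsFn_map]
      rw [show π (D.P.root a) = 0 from (QuotientAddGroup.eq_zero_iff _).2 (hrootQs a)]
      exact DSIso26.dsFn_zero _⟩
    rw [Category.comp_id]
    exact hc X' x h)
  haveI : Mono (z0 ≫ j) := by rw [hz0]; exact mono_comp _ _
  haveI : Mono z0 := mono_of_mono z0 j
  haveI : IsMonHom (z0 ≫ j) := by rw [hz0]; infer_instance
  haveI : IsMonHom z0 :=
    { one_hom := by rw [← cancel_mono j, Category.assoc, IsMonHom.one_hom (z0 ≫ j), IsMonHom.one_hom j]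
      mul_hom := by
        rw [← cancel_mono j, Category.assoc, IsMonHom.mul_hom (z0 ≫ j), Category.assoc, IsMonHom.mul_hom j,
          tensorHom_comp_tensorHom_assoc] }
  -- R factors through R0
  haveI : IsMonHom r' :=
    { one_hom := by rw [← cancel_mono D.i, Category.assoc, hr', IsMonHom.one_hom (r ≫ j), IsMonHom.one_hom D.i]
      mul_hom := by
        rw [← cancel_mono D.i, Category.assoc, hr', IsMonHom.mul_hom (r ≫ j), Category.assoc,
          IsMonHom.mul_hom D.i, tensorHom_comp_tensorHom_assoc, hr'] }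
  let r'' := r' ≫ D.split.hom.hom.hom
  haveI : IsMonHom r'' := inferInstance
  let K : AddSubgroup D.M :=
    { carrier := {m | dsFn r'' (Multiplicative.ofAdd m) = 1}
      zero_mem' := DSIso26.dsFn_zero _
      add_mem' := fun {a b} ha hb => by
        show dsFn r'' _ = 1
        rw [DSIso26.dsFn_add, (show dsFn r'' (Multiplicative.ofAdd a) = 1 from ha), (show dsFn r'' (Multiplicative.ofAdd b) = 1 from hb), _root_.mul_one]
      neg_mem' := fun {a} ha => by
        have h := DSIso26.dsFn_add r'' a (-a)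
        rw [add_neg_cancel, DSIso26.dsFn_zero, (show dsFn r'' (Multiplicative.ofAdd a) = 1 from ha), _root_.one_mul] at h
        exact h.symm }
  have hrootK : ∀ a, D.P.root a ∈ K := by
    intro a
    obtain ⟨t, ht, hta⟩ := (S2962.result D R (r' ≫ D.i)).1 (fun X' x h => by
      have := (hZ.2.2 R (r ≫ j)).1 ⟨r, rfl⟩ X' x h
      rw [Category.comp_id] at this
      rw [hr']
      exact this)
    obtain rfl : t = r' := (cancel_mono D.i).1 ht
    show dsFn r'' _ = 1
    rw [← SplitCentral26.gmFn_chi', show r'' ≫ Red.chi S (D.P.root a) =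
      t ≫ D.split.hom.hom.hom ≫ Red.chi S (D.P.root a) from Category.assoc _ _ _, hta a, gmFn_one]
  have hQK : ∀ q ∈ Q, q ∈ K := fun q hq => by
    have : Q ≤ K.toIntSubmodule := Submodule.span_le.2 (by rintro _ ⟨a, rfl⟩; exact hrootK a)
    exact this hq
  have hQsK : Qs ≤ K := by
    rintro m ⟨n, hn, hm⟩
    haveI : IsMonHom (Red.chi S m) := S5427.isMonHom_DSmap _
    have hpow : ∀ (k : ℕ) (x : R ⟶ Red.Gm S) (l : Multiplicative ℤ), dsFn (x ^ k) l = dsFn x l ^ k := by
      intro k x l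
      induction k with
      | zero => rw [pow_zero, pow_zero, dsFn_one]
      | succ k ih => rw [pow_succ, dsFn_mul, ih, pow_succ]
    have h1 : r'' ≫ Red.chi S m = 1 := DSIso26.one_of_pow hRT hn.ne' _ (by
      refine dsFn_injective (MonoidHom.ext fun l => ?_)
      induction l using Multiplicative.rec with
      | _ l =>
        change dsFn ((r'' ≫ Red.chi S m) ^ n) (Multiplicative.ofAdd l) = _
        rw [hpow]
        change dsFn (r'' ≫ Red.DSmap S (zmultiplesHom D.M m)) _ ^ n = _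
        rw [DSIso26.dsFn_map, dsFn_one, ← map_pow, ← ofAdd_nsmul, zmultiplesHom_apply, smul_comm]
        exact hQK _ (Q.smul_mem l hm))
    show dsFn r'' _ = 1
    rw [← SplitCentral26.gmFn_chi', h1, gmFn_one]
  obtain ⟨f, hf⟩ := exists_dsPt (U := S) (W := R)
    (AddMonoidHom.toMultiplicativeLeft (QuotientAddGroup.lift Qs
      (MonoidHom.toAdditiveRight (dsFn r'')) (fun m hm => hQsK hm)))
  have hfπ : f ≫ Red.DSmap S π = r'' := by
    refine dsFn_injective (MonoidHom.ext fun m => ?_)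
    rw [S5427.dsFn_DSmap, hf]
    rfl
  haveI : IsMonHom f :=
    { one_hom := by rw [← cancel_mono (Red.DSmap S π), Category.assoc, hfπ, IsMonHom.one_hom r'', IsMonHom.one_hom (Red.DSmap S π)]
      mul_hom := by
        rw [← cancel_mono (Red.DSmap S π), Category.assoc, hfπ, IsMonHom.mul_hom r'', Category.assoc,
          IsMonHom.mul_hom (Red.DSmap S π), tensorHom_comp_tensorHom_assoc, hfπ] }
  have hfp : f ≫ p = r' := by
    simp only [p, reassoc_of% hfπ]
    simp only [r'', Category.assoc, hhi, Category.comp_id]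
  have hfz : f ≫ z0 = r := by
    rw [← cancel_mono j, Category.assoc, hz0, reassoc_of% hfp, hr']
  -- R = R0 by maximality
  have hgeo : ∀ s : S, IsIso ((Over.pullback (Red.geomPt s)).map f) := fun s => by
    haveI : (Over.pullback (Red.geomPt s)).IsRightAdjoint := (Over.mapPullbackAdj _).isRightAdjoint
    exact hR.2.2.2 s (Red.geomFibre s (Red.DS S (D.M ⧸ Qs))) ((Over.pullback (Red.geomPt s)).map z0)
      ((Over.pullback (Red.geomPt s)).map f) (TorusAb27.isTorus_bc _ _ hR0T)
      (by rw [← Functor.map_comp, hfz])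
  haveI : IsIso f := by
    have hA := MultExt26.isMultTypeFT_of_torus _ hR0T
    have hB := MultExt26.isMultTypeFT_of_torus _ hRT
    haveI := TrivLocus.locallyOfFinitePresentation_of_multTypeFT _ hA
    haveI : LocallyOfFinitePresentation (f.left ≫ (Red.DS S (D.M ⧸ Qs)).hom) := by
      rw [Over.w]; exact TrivLocus.locallyOfFinitePresentation_of_multTypeFT _ hB
    haveI : Flat (f.left ≫ (Red.DS S (D.M ⧸ Qs)).hom) := by
      rw [Over.w]; exact IsoTriv.ExtensionMT.flat_of_multTypeFT R hB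
    haveI : IsIso f.left := (FlatMor12.isIso_iff_fibres f.left (Red.DS S (D.M ⧸ Qs)).hom).2 fun s => by
      haveI := hgeo s
      exact MaxCent26.isIso_fibre f s
    haveI : IsIso ((Over.forget S).map f) := ‹IsIso f.left›
    exact isIso_of_reflects_iso f (Over.forget S)
  -- the map of lattices
  let b := QuotientAddGroup.mk' N
  have hco : ∀ a m, D.P.coroot' a m = D.P.coroot a m := fun a m => by
    show D.P.toLinearMap m (D.P.coroot a) = _
    rw [D.pairing_eq]
    rfl
  have hN' : ∀ m, m ∈ N ↔ ∀ a, D.P.coroot' a m = 0 := fun m => by simp only [hN, hco]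
  have hinj : Function.Injective (π.prod b) := by
    rw [injective_iff_map_eq_zero]
    intro m hm
    obtain ⟨n, hn, h1⟩ : m ∈ Qs := (QuotientAddGroup.eq_zero_iff m).1 (congrArg Prod.fst hm)
    exact RootDat.eq_zero_of_nsmul_mem D.P hn h1
      ((hN' m).1 ((QuotientAddGroup.eq_zero_iff m).1 (congrArg Prod.snd hm)))
  obtain ⟨n, hn, hidx⟩ := exists_index D.P
  haveI : Module.Finite ℤ (D.M ⧸ N) := Module.Finite.of_surjective b.toIntLinearMap (QuotientAddGroup.mk'_surjective N)
  haveI : AddGroup.FG ((D.M ⧸ Qs) × (D.M ⧸ N)) := Module.Finite.iff_addGroup_fg.1 inferInstance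
  obtain ⟨hsu, hfl, hfin⟩ := DSIso26.isogeny_DSmap (S := S) (π.prod b) hinj hn (by
    rintro ⟨x, y⟩
    obtain ⟨m1, rfl⟩ := QuotientAddGroup.mk'_surjective Qs x
    obtain ⟨m2, rfl⟩ := QuotientAddGroup.mk'_surjective N y
    obtain ⟨q, hq, hq'⟩ := hidx (m2 - m1)
    refine ⟨n • m1 + q, Prod.ext ?_ ?_⟩
    · show π (n • m1 + q) = n • π m1
      rw [map_add, map_nsmul, show π q = 0 from
        (QuotientAddGroup.eq_zero_iff _).2 ⟨1, one_pos, by rw [one_nsmul]; exact hq⟩, add_zero]
    · show b (n • m1 + q) = n • b m2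
      rw [← map_nsmul]
      refine (sub_eq_zero (a := b _)).1 ?_
      rw [← map_sub]
      refine (QuotientAddGroup.eq_zero_iff _).2 ((hN' _).2 fun a => ?_)
      have := hq' a
      simp only [smul_sub, map_sub, map_add] at this ⊢
      linarith)
  haveI := DSIso26.isIso_pair (S := S) (A := D.M ⧸ Qs) (B := D.M ⧸ N)
  have hkey : (r' ⊗ₘ (Red.DSmap S b ≫ D.split.inv.hom.hom)) ≫ μ[D.T] =
      (f ⊗ₘ 𝟙 _) ≫ DSIso26.pair S (D.M ⧸ Qs) (D.M ⧸ N) ≫ Red.DSmap S (π.prod b) ≫ D.split.inv.hom.hom := by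
    rw [← reassoc_of% (DSIso26.tensor_mul (S := S) π b), IsMonHom.mul_hom D.split.inv.hom.hom,
      tensorHom_comp_tensorHom_assoc, tensorHom_comp_tensorHom_assoc, Category.id_comp, Category.assoc, hfp]
  rw [hkey, Over.comp_left, Over.comp_left, Over.comp_left]
  haveI : IsIso (f ⊗ₘ 𝟙 (Red.DS S (D.M ⧸ N))) := inferInstance
  haveI : IsIso (f ⊗ₘ 𝟙 (Red.DS S (D.M ⧸ N))).left :=
    inferInstanceAs (IsIso ((Over.forget S).map (f ⊗ₘ 𝟙 (Red.DS S (D.M ⧸ N)))))
  haveI : IsIso (DSIso26.pair S (D.M ⧸ Qs) (D.M ⧸ N)).left :=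
    inferInstanceAs (IsIso ((Over.forget S).map (DSIso26.pair S (D.M ⧸ Qs) (D.M ⧸ N))))
  haveI : IsIso D.split.inv.hom.hom.left := inferInstanceAs (IsIso ((Over.forget S).map D.split.inv.hom.hom))
  haveI := hsu
  haveI := hfl
  haveI := hfin
  exact ⟨inferInstance, inferInstance, inferInstance⟩

end Groth.Agent.S5568
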