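import Groth.Statements.S5570
import Groth.Agent.MaxTorImg10.CentralTorus

set_option backward.isDefEq.respectTransparency false
set_option synthInstance.maxHeartbeats 400000
set_option maxHeartbeats 1600000

set_option autoImplicit false
open CategoryTheory MonoidalCategory CartesianMonoidalCategory MonObj GrpObj AlgebraicGeometry
universe u
open RedSub

namespace Groth.Agent.S5570

/-- Let G be a reductive S-group, q : Q ⟶ G a subtorus, z : Z ⟶ G its centraliser, ZZ ⟶ Z the centre of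
Z and R = rad(Z) ⟶ ZZ its maximal torus. Then Q ⊆ rad(Z), and Z is the centraliser in G of rad(Z).
(So Centr_G(Q) is critical.) -/
theorem result {S : Scheme.{u}} {G Q Z ZZ R : Over S} [GrpObj G] [GrpObj Q] [GrpObj Z]
    [GrpObj ZZ] [GrpObj R] (hG : Red.IsReductive G) (q : Q ⟶ G) [IsMonHom q] [Mono q] (hQ : Red.IsTorus Q) (z : Z ⟶ G)
    (hZ : Red.IsCentralizerOf q z) (jz : ZZ ⟶ Z) (hZZ : Red.IsCentre jz) (r : R ⟶ ZZ) (hR : Red.IsMaximalTorus r) :
    (∃ q' : Q ⟶ R, q' ≫ r ≫ jz ≫ z = q) ∧ Red.IsCentralizerOf (r ≫ jz ≫ z) z := by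
  haveI := hZ.1
  haveI := hZ.2.1
  haveI := hZZ.1
  haveI := hR.1
  haveI : IsAffineHom G.hom := hG.1
  haveI : Smooth G.hom := hG.2.1
  obtain ⟨hs, hl⟩ := MaxTorImg10.CentralTorus.centralizer_sep hQ q hZ
  haveI := hs
  haveI := hl
  obtain ⟨q₀, hq₀⟩ := (hZ.2.2 Q q).2 fun X x h => by
    rw [← MonObj.mul_comp, ← MonObj.mul_comp, SGA3cLib.torus_mul_comm hQ]
  haveI : IsMonHom q₀ := SGA3cLib.BCPoints.isMonHom_of_mul q₀ fun X x y => by
    rw [← cancel_mono z, Category.assoc, hq₀, MonObj.mul_comp, MonObj.mul_comp]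
    simp only [Category.assoc, hq₀]
  have hcz : ∀ (X : Over S) (c : X ⟶ Z) (t : X ⟶ Q), c * (t ≫ q₀) = (t ≫ q₀) * c := fun X c t => by
    rw [← cancel_mono z, MonObj.mul_comp, MonObj.mul_comp, Category.assoc, hq₀]
    have h := (hZ.2.2 X (c ≫ z)).1 ⟨c, rfl⟩ X (𝟙 X) t
    rwa [Category.id_comp] at h
  obtain ⟨f, hf⟩ := MaxTorImg10.CentralTorus.le_radical hZZ hR hQ q₀ hcz
  have hfq : f ≫ r ≫ jz ≫ z = q := by rw [← hq₀, ← hf]; simp only [Category.assoc]
  refine ⟨⟨f, hfq⟩, hZ.1, hZ.2.1, fun X g => ⟨?_, fun h => ?_⟩⟩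
  · rintro ⟨w, rfl⟩ X' x t
    have h := (hZZ.2.2 ZZ jz).1 ⟨𝟙 ZZ, Category.id_comp jz⟩ X' (t ≫ r) (x ≫ w)
    rw [Category.comp_id] at h
    have h' := congrArg (· ≫ z) h
    simp only [MonObj.mul_comp, Category.assoc] at h' ⊢
    exact h'.symm
  · refine (hZ.2.2 X g).2 fun X' x t => ?_
    rw [← hfq, ← Category.assoc t f]
    exact h X' x (t ≫ f)

end Groth.Agent.S5570
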