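import Groth.Prelude.Def_SGA4c
import Mathlib.CategoryTheory.Limits.Filtered
import Mathlib.CategoryTheory.Limits.Types.Filtered
import Groth.Agent.ToposFinLib.Criteria

set_option autoImplicit false
namespace CategoryTheory
end CategoryTheory
namespace CategoryTheory.Limits
end CategoryTheory.Limits
namespace Opposite
end Opposite
open CategoryTheory CategoryTheory.Limits Opposite
universe u
namespace ToposFin
end ToposFin
open ToposFin

namespace Groth.Agent.S5579

/-- For the topos of sheaves of sets on a small site: for two morphisms f : X -> Y and f' : X' -> Y'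
over a common base S, if f and f' are quasi-compact (resp. quasi-separated, resp. coherent), then so
is the product morphism f x_S f' : X x_S X' -> Y x_S Y'. -/
theorem result {C : Type u} [SmallCategory C] {J : GrothendieckTopology C}
    {X Y X' Y' S : ToposFin.Sh J} (f : X ⟶ Y) (f' : X' ⟶ Y') (a : Y ⟶ S) (a' : Y' ⟶ S) :
    (ToposFin.IsQCHom f → ToposFin.IsQCHom f' →
      ToposFin.IsQCHom (pullback.map (f ≫ a) (f' ≫ a') a a' f f' (𝟙 S) (Category.comp_id _) (Category.comp_id _))) ∧
    (ToposFin.IsQSHom f → ToposFin.IsQSHom f' →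
      ToposFin.IsQSHom (pullback.map (f ≫ a) (f' ≫ a') a a' f f' (𝟙 S) (Category.comp_id _) (Category.comp_id _))) ∧
    (ToposFin.IsCohHom f → ToposFin.IsCohHom f' →
      ToposFin.IsCohHom (pullback.map (f ≫ a) (f' ≫ a') a a' f f' (𝟙 S) (Category.comp_id _) (Category.comp_id _))) := by
  refine ⟨fun h h' => ?_, fun h h' => ?_, fun h h' => ⟨?_, ?_⟩⟩
  · exact MorphismProperty.pullbackMap (P := Groth.Agent.ToposFinLib.qc) (f := f ≫ a) (g := f' ≫ a') (f' := a) (g' := a') h h' rfl rfl
  · exact MorphismProperty.pullbackMap (P := Groth.Agent.ToposFinLib.qs) (f := f ≫ a) (g := f' ≫ a') (f' := a) (g' := a') h h' rfl rfl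
  · exact MorphismProperty.pullbackMap (P := Groth.Agent.ToposFinLib.qc) (f := f ≫ a) (g := f' ≫ a') (f' := a) (g' := a') h.1 h'.1 rfl rfl
  · exact MorphismProperty.pullbackMap (P := Groth.Agent.ToposFinLib.qs) (f := f ≫ a) (g := f' ≫ a') (f' := a) (g' := a') h.2 h'.2 rfl rfl

end Groth.Agent.S5579
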