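import Groth.Prelude.Def_SGA4c
import Mathlib.CategoryTheory.Limits.Filtered
import Mathlib.CategoryTheory.Limits.Types.Filtered
import Groth.Agent.ToposFinLib.Coprod

set_option autoImplicit false
namespace CategoryTheory
end CategoryTheory
namespace CategoryTheory.Limits
end CategoryTheory.Limits
namespace Opposite
end Opposite
open CategoryTheory CategoryTheory.Limits Opposite
universe u
namespace ToposFin
end ToposFin
open ToposFin

namespace Groth.Agent.S5580

/-- Quasi-compact and coherent cases: for the topos of sheaves of sets on a small site: let (X_i) be a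
finite family of objects with coproduct X (given as a colimit cofan) and f : X -> Y a morphism with
components f_i : X_i -> Y. Then f is quasi-compact (resp. coherent) if and only if every f_i is. -/
theorem result {C : Type u} [SmallCategory C] {J : GrothendieckTopology C}
    {Y : ToposFin.Sh J} {n : ℕ} (X : Fin n → ToposFin.Sh J) (c : Cofan X) (hc : IsColimit c)
    (f : c.pt ⟶ Y) :
    (ToposFin.IsQCHom f ↔ ∀ i, ToposFin.IsQCHom (c.inj i ≫ f)) ∧
    (ToposFin.IsCohHom f ↔ ∀ i, ToposFin.IsCohHom (c.inj i ≫ f)) := by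
  have h := Groth.Agent.ToposFinLib.DisjCover.of_isColimit c hc
  have hq : ToposFin.IsQCHom f ↔ ∀ i, ToposFin.IsQCHom (c.inj i ≫ f) :=
    ⟨fun hf i => MorphismProperty.comp_mem Groth.Agent.ToposFinLib.qc _ _ (h.qc_π i) hf,
      fun hf => Groth.Agent.ToposFinLib.qc_of_efam_source h.efam f hf⟩
  refine ⟨hq, ⟨fun hf i => ⟨hq.1 hf.1 i, (h.qs_iff f).1 hf.2 i⟩, fun hf => ⟨hq.2 fun i => (hf i).1, (h.qs_iff f).2 fun i => (hf i).2⟩⟩⟩

end Groth.Agent.S5580
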