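import Groth.Prelude.Def_SGA4c
import Mathlib.CategoryTheory.Limits.Filtered
import Mathlib.CategoryTheory.Limits.Types.Filtered
import Groth.Agent.ToposFinLib.Presentation

set_option autoImplicit false
namespace CategoryTheory
end CategoryTheory
namespace CategoryTheory.Limits
end CategoryTheory.Limits
namespace Opposite
end Opposite
open CategoryTheory CategoryTheory.Limits Opposite
universe u
namespace ToposFin
end ToposFin
open ToposFin

namespace Groth.Agent.S5582

/-- Equivalence of (i), (ii bis) and (iii), for the topos of sheaves of sets on a small site admitting a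
generating family of coherent objects: the coequalizer of every pair of arrows between coherent
objects is coherent if and only if every object X for which Hom(X, -) commutes with small filtered
colimits is coherent; and every object is a small filtered colimit of coherent objects if and only
if that same condition holds. -/
theorem result {C : Type u} [SmallCategory C]
    {J : GrothendieckTopology C} (hE : ToposFin.HasCoherentGenerators J) :
    ((∀ (X₀ X₁ : ToposFin.Sh J) (a b : X₁ ⟶ X₀), ToposFin.IsCoherent X₀ → ToposFin.IsCoherent X₁ →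
        ToposFin.IsCoherent (coequalizer a b)) ↔
      (∀ X : ToposFin.Sh J, ToposFin.IsFP X → ToposFin.IsCoherent X)) ∧
    ((∀ X : ToposFin.Sh J, ∃ (I : Type u) (_ : SmallCategory I) (_ : IsFiltered I) (D : I ⥤ ToposFin.Sh J),
        (∀ i, ToposFin.IsCoherent (D.obj i)) ∧ Nonempty (X ≅ colimit D)) ↔
      (∀ X : ToposFin.Sh J, ToposFin.IsFP X → ToposFin.IsCoherent X)) := by
  have hG := Groth.Agent.ToposFinLib.gen_of_hasCoherentGenerators hE
  have hq := hG.mono fun _ h => h.1
  have hA : (∀ (X₀ X₁ : ToposFin.Sh J) (a b : X₁ ⟶ X₀), ToposFin.IsCoherent X₀ → ToposFin.IsCoherent X₁ →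
        ToposFin.IsCoherent (coequalizer a b)) ↔ (∀ X : ToposFin.Sh J, ToposFin.IsFP X → ToposFin.IsCoherent X) := by
    refine ⟨fun h X hX => ?_, fun h X₀ X₁ a b h₀ h₁ => h _ ?_⟩
    · obtain ⟨pr⟩ := Groth.Agent.ToposFinLib.nonempty_pres hG X
      obtain ⟨q, i, r, hir⟩ := pr.exists_retract hX
      have hc := h _ _ (pr.relFst q) (pr.relSnd q) (Groth.Agent.ToposFinLib.isCoherent_sigma _ fun j => pr.hG j.1)
        (Groth.Agent.ToposFinLib.isCoherent_sigma _ fun j => pr.hT j.1)
      have : Epi r := epi_of_epi_fac hir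
      have : Mono i := mono_of_mono_fac hir
      exact ⟨Groth.Agent.ToposFinLib.isQC_of_epi r hc.1, Groth.Agent.ToposFinLib.isQS_of_mono i hc.2⟩
    · exact Groth.Agent.ToposFinLib.isFP_of_retract hq h₀ h₁.1 a b (𝟙 _) (𝟙 _) (Category.comp_id _)
  refine ⟨hA, fun h X hX => ?_, fun h X => ?_⟩
  · obtain ⟨I, _, _, D, hD, ⟨e⟩⟩ := h X
    obtain ⟨z, hz⟩ := (hX I D).2 e.hom
    obtain ⟨j, i, rfl⟩ := Types.jointly_surjective' z
    rw [Groth.Agent.ToposFinLib.post_ι] at hz
    have hir : i ≫ colimit.ι D j ≫ e.inv = 𝟙 X :=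
      (Category.assoc _ _ _).symm.trans ((congrArg (· ≫ e.inv) hz).trans e.hom_inv_id)
    have : Epi (colimit.ι D j ≫ e.inv) := epi_of_epi_fac hir
    have : Mono i := mono_of_mono_fac hir
    exact ⟨Groth.Agent.ToposFinLib.isQC_of_epi (colimit.ι D j ≫ e.inv) (hD j).1,
      Groth.Agent.ToposFinLib.isQS_of_mono i (hD j).2⟩
  · obtain ⟨pr⟩ := Groth.Agent.ToposFinLib.nonempty_pres hG X
    refine ⟨pr.Idx, inferInstance, inferInstance, pr.diagram, fun q => ?_, pr.nonempty_iso_colimit.map Iso.symm⟩
    exact hA.2 h _ _ (pr.relFst q) (pr.relSnd q) (Groth.Agent.ToposFinLib.isCoherent_sigma _ fun j => pr.hG j.1)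
      (Groth.Agent.ToposFinLib.isCoherent_sigma _ fun j => pr.hT j.1)

end Groth.Agent.S5582
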