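import Groth.Prelude.Def_SGA4c
import Groth.Prelude.Def_ToposFin2
import Mathlib.CategoryTheory.Limits.Filtered
import Mathlib.CategoryTheory.Limits.Types.Filtered
import Groth.Agent.ToposFinLib.Coprod

set_option autoImplicit false
namespace CategoryTheory
end CategoryTheory
namespace CategoryTheory.Limits
end CategoryTheory.Limits
namespace Opposite
end Opposite
open CategoryTheory CategoryTheory.Limits Opposite
universe u
namespace ToposFin
end ToposFin
open ToposFin

namespace Groth.Agent.S5585

/-- For an algebraic topos of sheaves of sets on a small site and a morphism f : X -> Y: if Y is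
quasi-separated (resp. coherent), then X is quasi-separated (resp. coherent) if and only if f is a
quasi-separated (resp. coherent) morphism. -/
theorem result {C : Type u} [SmallCategory C] {J : GrothendieckTopology C}
    (hE : ToposFin.IsAlgebraic J) {X Y : ToposFin.Sh J} (f : X ⟶ Y) :
    (ToposFin.IsQS Y → (ToposFin.IsQS X ↔ ToposFin.IsQSHom f)) ∧
    (ToposFin.IsCoherent Y → (ToposFin.IsCoherent X ↔ ToposFin.IsCohHom f)) := by
  have hq := fun (hX : ToposFin.IsQS X) => Groth.Agent.ToposFinLib.qs_of_isQS_of_algebraic hE f hX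
  refine ⟨fun hY => ⟨hq, fun h => Groth.Agent.ToposFinLib.isQS_of_qs h hY⟩, fun hY => ⟨fun h => ?_, fun h => ?_⟩⟩
  · exact ⟨Groth.Agent.ToposFinLib.qc_of_isQS f h.1 hY.2, hq h.2⟩
  · exact ⟨Groth.Agent.ToposFinLib.isQC_of_qc h.1 hY.1, Groth.Agent.ToposFinLib.isQS_of_qs h.2 hY.2⟩

end Groth.Agent.S5585
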