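import Groth.Prelude.Def_SGA4c
import Groth.Prelude.Def_ToposFin2
import Mathlib.CategoryTheory.Limits.Filtered
import Mathlib.CategoryTheory.Limits.Types.Filtered
import Groth.Agent.ToposFinLib.Coprod

set_option autoImplicit false
namespace CategoryTheory
end CategoryTheory
namespace CategoryTheory.Limits
end CategoryTheory.Limits
namespace Opposite
end Opposite
open CategoryTheory CategoryTheory.Limits Opposite
universe u
namespace ToposFin
end ToposFin
open ToposFin

namespace Groth.Agent.S5586

/-- Quasi-separated and coherent cases: for an algebraic topos of sheaves of sets on a small site: let f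
: X -> Y be a morphism and (Y_i -> Y) a jointly epimorphic family. If the Y_i are quasi-separated
(resp. coherent), then f is quasi-separated (resp. coherent) if and only if every X x_Y Y_i is a
quasi-separated (resp. coherent) object. -/
theorem result {C : Type u} [SmallCategory C]
    {J : GrothendieckTopology C} (hE : ToposFin.IsAlgebraic J) {X Y : ToposFin.Sh J} (f : X ⟶ Y)
    {ι : Type u} (Yi : ι → ToposFin.Sh J) (g : ∀ i, Yi i ⟶ Y)
    (hg : ∀ (Z : ToposFin.Sh J) (a b : Y ⟶ Z), (∀ i, g i ≫ a = g i ≫ b) → a = b) :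
    ((∀ i, ToposFin.IsQS (Yi i)) → (ToposFin.IsQSHom f ↔ ∀ i, ToposFin.IsQS (pullback f (g i)))) ∧
    ((∀ i, ToposFin.IsCoherent (Yi i)) →
      (ToposFin.IsCohHom f ↔ ∀ i, ToposFin.IsCoherent (pullback f (g i)))) := by
  have hG := Groth.Agent.ToposFinLib.gen_qc_of_algebraic hE
  have hg' : Groth.Agent.ToposFinLib.EFam g := hg
  have hb : ∀ i, Groth.Agent.ToposFinLib.qs f → Groth.Agent.ToposFinLib.qs (pullback.snd f (g i)) := fun i h =>
    MorphismProperty.pullback_snd (P := Groth.Agent.ToposFinLib.qs) f (g i) h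
  have hl : (∀ i, ToposFin.IsQS (pullback f (g i))) → Groth.Agent.ToposFinLib.qs f := fun h =>
    Groth.Agent.ToposFinLib.qs_of_cover hG hg' (fun i => IsPullback.of_hasPullback f (g i))
      fun i => Groth.Agent.ToposFinLib.qs_of_isQS_of_algebraic hE _ (h i)
  refine ⟨fun hY => ⟨fun h i => Groth.Agent.ToposFinLib.isQS_of_qs (hb i h) (hY i), hl⟩,
    fun hY => ⟨fun h i => ⟨h.1 _ (g i) (hY i).1, Groth.Agent.ToposFinLib.isQS_of_qs (hb i h.2) (hY i).2⟩,
      fun h => ⟨?_, hl fun i => (h i).2⟩⟩⟩
  exact Groth.Agent.ToposFinLib.qc_of_cover (hg'.refinable hG) (fun i => IsPullback.of_hasPullback f (g i))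
    fun i => Groth.Agent.ToposFinLib.qc_of_isQS _ (h i).1 (hY i).2

end Groth.Agent.S5586
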