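import Groth.Prelude.Def_SGA4c
import Groth.Prelude.Def_ToposFin2
import Mathlib.CategoryTheory.Limits.Filtered
import Mathlib.CategoryTheory.Limits.Types.Filtered
import Groth.Agent.ToposFinLib.Coprod

set_option autoImplicit false
namespace CategoryTheory
end CategoryTheory
namespace CategoryTheory.Limits
end CategoryTheory.Limits
namespace Opposite
end Opposite
open CategoryTheory CategoryTheory.Limits Opposite
universe u
namespace ToposFin
end ToposFin
open ToposFin

namespace Groth.Agent.S5587

/-- For a locally coherent topos of sheaves of sets on a small site (given by a generating set of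
quasi-compact objects stable under fibre products): a morphism f : X -> Y is quasi-separated if and
only if for every quasi-separated object Y' over Y the fibre product X x_Y Y' is quasi-separated. -/
theorem result {C : Type u} [SmallCategory C]
    {J : GrothendieckTopology C} (S : Set (ToposFin.Sh J)) (hqc : ∀ K ∈ S, ToposFin.IsQC K)
    (hgen : ToposFin.IsGenerating S) (hpb : ToposFin.ClosedUnderPullbacks S) {X Y : ToposFin.Sh J} (f : X ⟶ Y) :
    ToposFin.IsQSHom f ↔
      ∀ (Y' : ToposFin.Sh J) (g : Y' ⟶ Y), ToposFin.IsQS Y' → ToposFin.IsQS (pullback f g) := by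
  refine ⟨fun h Y' g hY' => Groth.Agent.ToposFinLib.isQS_of_qs
    (MorphismProperty.pullback_snd (P := Groth.Agent.ToposFinLib.qs) f g h) hY', fun h => ?_⟩
  obtain ⟨ι, F, π, hF, hπ⟩ := hgen Y
  exact Groth.Agent.ToposFinLib.qs_of_cover (Groth.Agent.ToposFinLib.gen_qc_of_isGenerating hqc hgen) (π := π) hπ
    (fun i => IsPullback.of_hasPullback f (π i)) fun i => Groth.Agent.ToposFinLib.qs_of_isQS_to_mem hqc hgen hpb _
      (h _ _ (Groth.Agent.ToposFinLib.isCoherent_of_mem hqc hgen hpb (hF i)).2) (hF i)

end Groth.Agent.S5587
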