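import Groth.Prelude.Def_SGA4c
import Groth.Prelude.Def_ToposFin2
import Mathlib.CategoryTheory.Limits.Filtered
import Mathlib.CategoryTheory.Limits.Types.Filtered
import Mathlib.CategoryTheory.FinCategory.Basic
import Groth.Agent.ToposFinLib.Presentation

set_option autoImplicit false
namespace CategoryTheory
end CategoryTheory
namespace CategoryTheory.Limits
end CategoryTheory.Limits
namespace Opposite
end Opposite
open CategoryTheory CategoryTheory.Limits Opposite
universe u
namespace ToposFin
end ToposFin
open ToposFin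

namespace Groth.Agent.S5588

/-- (ii) implies (i), for the topos of sheaves of sets on a small site: let S be an isomorphism-closed
generating set of quasi-compact objects, stable under finite colimits and under fibre products. Then
S is the set of all coherent objects (so the topos is locally coherent), and every object X for
which Hom(X, -) commutes with small filtered colimits is coherent. -/
theorem result {C : Type u} [SmallCategory C]
    {J : GrothendieckTopology C} (S : Set (ToposFin.Sh J)) (hqc : ∀ K ∈ S, ToposFin.IsQC K)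
    (hiso : ∀ ⦃K L : ToposFin.Sh J⦄, K ∈ S → Nonempty (K ≅ L) → L ∈ S)
    (hgen : ToposFin.IsGenerating S) (hpb : ToposFin.ClosedUnderPullbacks S)
    (hcolim : ∀ (K : Type) [SmallCategory K] [FinCategory K] (D : K ⥤ ToposFin.Sh J),
      (∀ k, D.obj k ∈ S) → colimit D ∈ S) :
    (∀ X : ToposFin.Sh J, X ∈ S ↔ ToposFin.IsCoherent X) ∧
    (∀ X : ToposFin.Sh J, ToposFin.IsFP X → ToposFin.IsCoherent X) := by
  have hsig : ∀ {α : Type u} [Finite α] (F : α → ToposFin.Sh J), (∀ a, F a ∈ S) → (∐ F) ∈ S := by
    intro α _ F hF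
    obtain ⟨n, ⟨e⟩⟩ := Finite.exists_equiv_fin α
    exact hiso (hcolim (Discrete (Fin n)) (Discrete.functor fun k => F (e.symm k)) fun k => hF _) ⟨Sigma.reindex e.symm F⟩
  have hco : ∀ {A B : ToposFin.Sh J} (a b : A ⟶ B), A ∈ S → B ∈ S → coequalizer a b ∈ S := fun a b hA hB =>
    hcolim WalkingParallelPair (parallelPair a b) (by rintro (_ | _) <;> assumption)
  have hFP : ∀ X : ToposFin.Sh J, ToposFin.IsFP X → X ∈ S := fun X hX => by
    obtain ⟨pr⟩ := Groth.Agent.ToposFinLib.nonempty_pres (P := (· ∈ S)) hgen X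
    obtain ⟨q, i, r, hir⟩ := pr.exists_retract hX
    have hc := hco (pr.relFst q) (pr.relSnd q) (hsig _ fun j => pr.hT j.1) (hsig _ fun j => pr.hG j.1)
    exact hiso (hco (r ≫ i) (𝟙 _) hc hc) ⟨(Groth.Agent.ToposFinLib.isoCoequalizerOfRetract i r hir).symm⟩
  have hS := fun (X : ToposFin.Sh J) (hX : X ∈ S) => Groth.Agent.ToposFinLib.isCoherent_of_mem hqc hgen hpb hX
  refine ⟨fun X => ⟨hS X, fun hX => hFP X ?_⟩, fun X hX => hS X (hFP X hX)⟩
  exact Groth.Agent.ToposFinLib.isFP_of_isCoherent (Groth.Agent.ToposFinLib.gen_qc_of_isGenerating hqc hgen) hX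

end Groth.Agent.S5588
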