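import Groth.Prelude.Def_SGA4c
import Groth.Prelude.Def_ToposFin2
import Mathlib.CategoryTheory.Limits.Filtered
import Mathlib.CategoryTheory.Limits.Types.Filtered
import Groth.Agent.ToposFinLib.Coprod

set_option autoImplicit false
namespace CategoryTheory
end CategoryTheory
namespace CategoryTheory.Limits
end CategoryTheory.Limits
namespace Opposite
end Opposite
open CategoryTheory CategoryTheory.Limits Opposite
universe u
namespace ToposFin
end ToposFin
open ToposFin

namespace Groth.Agent.S5590

/-- Let f be a morphism of topoi of sheaves of sets on small sites, with inverse image functor F (left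
adjoint, preserving finite limits); let S be a generating set of coherent objects of the target
topos and assume the source topos admits a generating family of quasi-compact objects. Then f is
coherent, i.e. F carries quasi-compact objects to quasi-compact objects and quasi-separated objects
to quasi-separated objects, if and only if F(X) is coherent for every X in S. -/
theorem result {C D : Type u} [SmallCategory C] [SmallCategory D]
    {J : GrothendieckTopology C} {K : GrothendieckTopology D}
    (F : ToposFin.Sh K ⥤ ToposFin.Sh J) (R : ToposFin.Sh J ⥤ ToposFin.Sh K) (adj : F ⊣ R)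
    [PreservesFiniteLimits F]
    (hE' : ToposFin.HasQCGenerators J)
    (S : Set (ToposFin.Sh K)) (hS : ∀ X ∈ S, ToposFin.IsCoherent X) (hgen : ToposFin.IsGenerating S) :
    ((∀ X : ToposFin.Sh K, ToposFin.IsQC X → ToposFin.IsQC (F.obj X)) ∧
      (∀ X : ToposFin.Sh K, ToposFin.IsQS X → ToposFin.IsQS (F.obj X))) ↔
      ∀ X ∈ S, ToposFin.IsCoherent (F.obj X) := by
  refine ⟨fun h X hX => ⟨h.1 X (hS X hX).1, h.2 X (hS X hX).2⟩, fun h => ?_⟩
  have hqc : ∀ X : ToposFin.Sh K, ToposFin.IsQC X → ToposFin.IsQC (F.obj X) := fun X hX => by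
    obtain ⟨n, W, w, hw, hW⟩ := Groth.Agent.ToposFinLib.exists_fin_cover' (J := K) (P := (· ∈ S)) hgen hX
    exact Groth.Agent.ToposFinLib.isQC_of_efam (hw.map adj) fun k => (h _ (hW k)).1
  refine ⟨hqc, fun X hX => ?_⟩
  obtain ⟨ι, G, π, hG, hπ⟩ := hgen X
  have hE := Groth.Agent.ToposFinLib.gen_of_hasQCGenerators hE'
  have hπ' : Groth.Agent.ToposFinLib.EFam fun i => F.map (π i) := Groth.Agent.ToposFinLib.EFam.map (π := π) adj hπ
  refine Groth.Agent.ToposFinLib.isQS_of_cover hE hπ' (fun i => (h _ (hG i)).2) fun i =>
    Groth.Agent.ToposFinLib.qc_of_pairwise hE hπ' (fun i => (h _ (hG i)).2) (fun i j => ?_) i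
  exact Groth.Agent.ToposFinLib.isQC_of_iso ((IsPullback.of_hasPullback (π i) (π j)).map F).isoPullback
    (hqc _ (hX _ _ _ _ (hS _ (hG i)).1 (hS _ (hG j)).1))

end Groth.Agent.S5590
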