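import Groth.Statements.S5606
import Groth.Agent.PCohLib.More

open Groth.Agent.PCohLib CategoryTheory CategoryTheory.Limits

set_option autoImplicit false
universe w v u
open CategoryTheory CategoryTheory.Limits
open PCoh

set_option backward.isDefEq.respectTransparency false

namespace Groth.Agent.S5606

/-- Let C be an abelian category, C₀ ⊆ C₁ strictly full additive subcategories with C₀ quasi-stable
under kernels of epimorphisms and quasi-liftable. If every object of C₁ is C₀-pseudo-coherent, then
C₁ is quasi-liftable in C and quasi-stable under kernels of epimorphisms. -/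
theorem result {C : Type u} [Category.{v} C] [Abelian C] [HasDerivedCategory.{w} C]
    (P : ObjectProperty C) [P.IsClosedUnderIsomorphisms] [P.ContainsZero] (hsum : ∀ X Y : C, P X → P Y → P (X ⨯ Y))
    (hqs : PCoh.IsQuasiStableUnderKernels P) (hql : PCoh.IsQuasiLiftable P)
    (P₁ : ObjectProperty C) [P₁.IsClosedUnderIsomorphisms] [P₁.ContainsZero]
    (hsum₁ : ∀ X Y : C, P₁ X → P₁ Y → P₁ (X ⨯ Y)) (hle : ∀ X : C, P X → P₁ X)
    (hpc : ∀ X : C, P₁ X → PCoh.IsPC P ((DerivedCategory.singleFunctor C 0).obj X)) :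
    PCoh.IsQuasiLiftable P₁ ∧ PCoh.IsQuasiStableUnderKernels P₁ := by
  refine ⟨?_, quasiStable_of_pc hsum hqs hql hle hpc⟩
  intro E F u hu hF
  obtain ⟨E₀, π, hE₀, hπ⟩ := FT_iso (H0single F) (FT_H_of_gpc hqs (hpc F hF 0)
    fun i hi => isZero_H_single F i hi.ne')
  obtain ⟨F', v, hF', hv⟩ := hql _ _ (pullback.snd u π) inferInstance hE₀
  refine ⟨F', v ≫ pullback.fst u π, hle _ hF', ?_⟩
  rw [Category.assoc, pullback.condition, ← Category.assoc]
  exact epi_comp _ _

end Groth.Agent.S5606
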