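import Groth.Statements.S5612
import Groth.Agent.DRingLib.PCPerf
import Groth.Agent.DRingLib.PCGen
import Groth.Agent.DRingLib.TorDimAmp
import Groth.Agent.DCat.LTensorModule

set_option autoImplicit false
set_option backward.isDefEq.respectTransparency false
set_option backward.defeqAttrib.useBackward true
universe u
open CategoryTheory CategoryTheory.Limits
attribute [local instance] HasDerivedCategory.standard
open DRing

namespace Groth.Agent.S5612

open CategoryTheory.Pretriangulated HomologicalComplex ZeroObject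

lemma amp_shift {A : Type u} [CommRing A] {a b : ℤ} {K : Dual.D A} (h : DRing.HasTorAmplitudeIn A a b K) (n : ℤ) :
    DRing.HasTorAmplitudeIn A (a - n) (b - n) (K⟦n⟧) := by
  obtain ⟨E, hE, hf, ⟨e⟩⟩ := h
  exact ⟨E⟦n⟧, fun i hi => hE (i + n) (by omega), fun i => hf (i + n),
    ⟨(DerivedCategory.Q.commShiftIso n).app E ≪≫ (shiftFunctor (Dual.D A) n).mapIso e⟩⟩

lemma finite_ext {A : Type u} [CommRing A] {T : Triangle (Dual.D A)} (hT : T ∈ distinguishedTriangles)
    (h₁ : DRing.HasFiniteTorDimCx A T.obj₁) (h₃ : DRing.HasFiniteTorDimCx A T.obj₃) :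
    DRing.HasFiniteTorDimCx A T.obj₂ := by
  haveI : ∀ M : ModuleCat.{u} A, DRing.HasLTensor A M := fun M => DCat.hasLTensor M
  obtain ⟨a, b, h₁⟩ := h₁
  obtain ⟨c, d, h₃⟩ := h₃
  exact ⟨min a c, max b d, DCat.flatAmp_of_vanish fun M i hi =>
    (DCat.ltensor_vanish hT M).2.1 i (DCat.vanish_of_flatAmp h₁ M (by omega))
      (DCat.vanish_of_flatAmp h₃ M (by omega))⟩

lemma finite_of_bounded {A : Type u} [CommRing A]
    (hA : ∀ (M : Type u) [AddCommGroup M] [Module A M], DRing.HasFiniteTorDim A M) :
    ∀ (n : ℕ) (a : ℤ) (K : Dual.D A), K.IsGE a → K.IsLE (a + n - 1) → DRing.HasFiniteTorDimCx A K := by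
  intro n
  induction n with
  | zero =>
    intro a K hg hl
    haveI := hg; haveI := hl
    have hz : IsZero K := by
      rw [IsZero.iff_id_eq_zero]
      exact DerivedCategory.TStructure.t.zero_of_isLE_of_isGE (𝟙 K) (a + (0 : ℕ) - 1) a (by omega) hl hg
    exact ⟨0, 0, 0, fun i _ => (HomologicalComplex.eval _ _ i).map_isZero (isZero_zero _),
      fun i => by haveI := ModuleCat.subsingleton_of_isZero
                    (show IsZero ((0 : DRing.Cx A).X i) from (HomologicalComplex.eval _ _ i).map_isZero (isZero_zero _))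
                  infer_instance,
      ⟨(DerivedCategory.Q.map_isZero (isZero_zero _)).iso hz⟩⟩
  | succ n ih =>
    intro a K hg hl
    haveI := hg; haveI := hl
    let b : ℤ := a + n
    let t := @DerivedCategory.TStructure.t (ModuleCat.{u} A) _ _ _
    have hT := t.triangleLTGE_distinguished b K
    haveI : ((t.truncLT b).obj K).IsLE (b - 1) := t.isLE_truncLT_obj K b (b - 1) (by omega)
    haveI : ((t.truncLT b).obj K).IsGE a := inferInstance
    haveI : ((t.truncGE b).obj K).IsGE b := t.isGE_truncGE_obj K b b (by omega)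
    haveI : ((t.truncGE b).obj K).IsLE b := by
      haveI : K.IsLE b := t.isLE_of_le K (a + ((n + 1 : ℕ) : ℤ) - 1) b (by omega)
      exact inferInstance
    refine finite_ext hT (ih a ((t.truncLT b).obj K) inferInstance (t.isLE_of_le _ (b - 1) _ (by omega))) ?_
    obtain ⟨M, ⟨eM⟩⟩ := DerivedCategory.exists_iso_singleFunctor_obj_of_isGE_of_isLE ((t.truncGE b).obj K) b
    obtain ⟨d, hd⟩ := hA M
    obtain ⟨E, hE, hf, ⟨e⟩⟩ := amp_shift (DRingLib.amp_of_torDimLE M hd) (-b)
    exact ⟨_, _, E, hE, hf, ⟨e ≪≫ DRingLib.singleIso b M ≪≫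
      ((DerivedCategory.singleFunctorIsoCompQ (ModuleCat.{u} A) b).app M).symm ≪≫ eM.symm⟩⟩

/-- Let A be a commutative ring all of whose modules have finite tor dimension (for instance A of finite
global dimension) and K ∈ D(A). (i) K has finite tor dimension if and only if K has bounded
cohomology. (ii) K is perfect if and only if K has bounded cohomology and is pseudo-coherent. -/
theorem result {A : Type u} [CommRing A]
    (hA : ∀ (M : Type u) [AddCommGroup M] [Module A M], DRing.HasFiniteTorDim A M) (K : Dual.D A) :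
    (DRing.HasFiniteTorDimCx A K ↔ ∃ a b : ℤ, ∀ i : ℤ, i < a ∨ b < i → Subsingleton (Dual.HD A K i)) ∧
      (DRing.IsPerfect A K ↔
        (∃ a b : ℤ, ∀ i : ℤ, i < a ∨ b < i → Subsingleton (Dual.HD A K i)) ∧ DRing.IsPseudoCoherent' A K) := by
  have h1 : DRing.HasFiniteTorDimCx A K ↔
      ∃ a b : ℤ, ∀ i : ℤ, i < a ∨ b < i → Subsingleton (Dual.HD A K i) := by
    constructor
    · rintro ⟨a, b, E, hE, -, ⟨e⟩⟩
      refine ⟨a, b, fun i hi => (DCat.subsingleton_HD_iff K i).2 ?_⟩
      refine (IsZero.of_iso ?_ ((DerivedCategory.homologyFunctor (ModuleCat.{u} A) i).mapIso e.symm))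
      rw [DCat.isZero_homology_toD_iff]
      exact HomologicalComplex.ExactAt.of_isZero (hE i hi)
    · rintro ⟨a, b, h⟩
      exact finite_of_bounded hA (b - a + 1).toNat a K
        ((DRingLib.isGE_iff_HD K a).2 fun i hi => h i (Or.inl hi))
        ((DRingLib.isLE_iff_HD K _).2 fun i hi => h i (Or.inr (by omega)))
  exact ⟨h1, (DRingLib.perfect_iff K).trans (by rw [h1]; exact and_comm)⟩


end Groth.Agent.S5612
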