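import Groth.Statements.S5613
import Mathlib

set_option autoImplicit false
universe v u
open CategoryTheory CategoryTheory.Limits CategoryTheory.Pretriangulated
open KZero

namespace Groth.Agent.S5613

/-- Let C be a pretriangulated category, L an object of C and n an integer such that the coproduct ∐_{i
≥ 0} L⟦2ni⟧ exists in C. Then cl(L) = 0 in K₀(C). -/
theorem result {C : Type u} [Category.{v} C] [Preadditive C] [HasZeroObject C]
    [HasShift C ℤ] [∀ n : ℤ, (shiftFunctor C n).Additive] [Pretriangulated C]
    (L : C) (n : ℤ) [HasCoproduct (fun i : ℕ => (shiftFunctor C (2 * n * (i : ℤ))).obj L)] :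
    KZero.clTri L = 0 := by
  open ZeroObject CategoryTheory.Category in
    have rel : ∀ T : Triangle C, T ∈ distinguishedTriangles →
        KZero.clTri T.obj₂ = KZero.clTri T.obj₁ + KZero.clTri T.obj₃ := fun T hT => by
      rw [← sub_eq_zero, ← sub_sub]
      exact (QuotientAddGroup.eq_zero_iff _).mpr (AddSubgroup.subset_closure ⟨T, trivial, trivial, trivial, hT, rfl⟩)
    have h0 : KZero.clTri (0 : C) = 0 := by
      have h := rel _ (Pretriangulated.contractible_distinguished (0 : C))
      exact left_eq_add.mp h
    have hiso : ∀ {X Y : C}, (X ≅ Y) → KZero.clTri X = KZero.clTri Y := fun {X Y} e => by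
      have h := rel (Triangle.mk e.hom (0 : Y ⟶ (0 : C)) 0) (Pretriangulated.isomorphic_distinguished _
        (Pretriangulated.contractible_distinguished X) _
        (Triangle.isoMk _ _ (Iso.refl _) e.symm (Iso.refl _) (by exact e.hom_inv_id.trans (comp_id _).symm)
        (by exact zero_comp.trans comp_zero.symm) (by exact zero_comp.trans comp_zero.symm)))
      rw [show KZero.clTri Y = KZero.clTri X + KZero.clTri (0 : C) from h, h0, add_zero]
    have h1 : ∀ X : C, KZero.clTri (X⟦(1 : ℤ)⟧) = -KZero.clTri X := fun X => by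
      have h := rel _ (Pretriangulated.contractible_distinguished₂ X)
      exact eq_neg_of_add_eq_zero_right (h.symm.trans h0)
    have hadd : ∀ a b : ℤ, ∀ X : C, KZero.clTri (X⟦a + b⟧) = KZero.clTri (X⟦a⟧⟦b⟧) := fun a b X =>
      hiso ((shiftFunctorAdd C a b).app X)
    have hz : ∀ (k : ℤ) (X : C), KZero.clTri (X⟦k⟧) = ((k.negOnePow : ℤˣ) : ℤ) • KZero.clTri X := by
      intro k
      induction k using Int.induction_on with
      | zero => intro X; rw [hiso ((shiftFunctorZero C ℤ).app X)]; simp
      | succ k ih =>
        intro X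
        rw [hadd, h1, ih, Int.negOnePow_succ, Units.val_neg, neg_smul]
      | pred k ih =>
        intro X
        have h := h1 (X⟦(-(k : ℤ) - 1)⟧)
        rw [← hadd, sub_add_cancel, ih] at h
        rw [eq_neg_iff_add_eq_zero, add_comm, ← eq_neg_iff_add_eq_zero] at h
        rw [h, Int.negOnePow_sub, Int.negOnePow_one, mul_neg, mul_one, Units.val_neg, neg_smul]
    let f : ℕ → C := fun i => (shiftFunctor C (2 * n * (i : ℤ))).obj L
    haveI : HasCoproduct f := ‹_›
    let F := shiftFunctor C (2 * n)
    let e : (i : ℕ) → f (i + 1) ≅ F.obj (f i) := fun i =>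
      (shiftFunctorAdd' C (2 * n * (i : ℤ)) (2 * n) (2 * n * ((i + 1 : ℕ) : ℤ)) (by push_cast; ring)).app L
    let hc : IsColimit (Cofan.mk (F.obj (∐ f)) fun j => F.map (Sigma.ι f j)) :=
      isColimitOfHasCoproductOfPreservesColimit F f
    let a : f 0 ≅ L := (shiftFunctorZero' C (2 * n * ((0 : ℕ) : ℤ)) (by simp)).app L
    let g : ∐ f ⟶ F.obj (∐ f) := Sigma.desc (fun i => match i with
      | 0 => 0
      | i + 1 => (e i).hom ≫ F.map (Sigma.ι f i))
    let p : ∐ f ⟶ L := Sigma.desc (fun i => match i with
      | 0 => a.hom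
      | i + 1 => 0)
    let s : F.obj (∐ f) ⟶ ∐ f := Cofan.IsColimit.desc hc (fun i => (e i).inv ≫ Sigma.ι f (i + 1))
    have hs : ∀ i, F.map (Sigma.ι f i) ≫ s = (e i).inv ≫ Sigma.ι f (i + 1) := fun i => Cofan.IsColimit.fac hc _ i
    let E : ∐ f ≅ L ⊞ F.obj (∐ f) :=
      { hom := biprod.lift p g
        inv := biprod.desc (a.inv ≫ Sigma.ι f 0) s
        hom_inv_id := by
          rw [biprod.lift_desc]
          ext i
          rcases i with _ | i
          · simp [p, g]
          · simp [p, g, hs]
        inv_hom_id := by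
          apply biprod.hom_ext' <;> apply biprod.hom_ext
          · simp [p]
          · simp [g]
          · simp only [biprod.inr_desc_assoc, assoc, biprod.lift_fst, biprod.inr_fst, comp_id]
            refine Cofan.IsColimit.hom_ext hc _ _ fun i => ?_
            simp [p, reassoc_of% (hs i)]
          · simp only [biprod.inr_desc_assoc, assoc, biprod.lift_snd, biprod.inr_snd, comp_id]
            refine Cofan.IsColimit.hom_ext hc _ _ fun i => ?_
            simp [g, reassoc_of% (hs i)] }
    have h := rel _ (Pretriangulated.binaryBiproductTriangle_distinguished L (F.obj (∐ f)))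
    change KZero.clTri (L ⊞ F.obj (∐ f)) = KZero.clTri L + KZero.clTri (F.obj (∐ f)) at h
    rw [← hiso E, hz, Int.negOnePow_two_mul, Units.val_one, one_smul] at h
    exact right_eq_add.mp h
end Groth.Agent.S5613
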