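import Groth.Statements.S5622
import Groth.Agent.PCohLib.Perfect

open Groth.Agent.PCohLib CategoryTheory CategoryTheory.Limits

set_option autoImplicit false
universe w v u
open CategoryTheory CategoryTheory.Limits
open PCoh

set_option backward.isDefEq.respectTransparency false

namespace Groth.Agent.S5622

/-- Let C be an abelian category and C₀ a strictly full additive subcategory, liftable and stable under
kernels of epimorphisms, and a ≤ b. For F', F'' in D(C): (i) ⇒ (ii), where (i) says F' and F'' have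
perfect amplitude in [a, b] (each isomorphic to a strictly perfect complex vanishing outside [a, b])
and (ii) says F' ⊞ F'' does; and (ii) ⇒ (i) when C₀ is stable under direct factors. -/
theorem result {C : Type u} [Category.{v} C] [Abelian C] [HasDerivedCategory.{w} C]
    (P : ObjectProperty C) [P.IsClosedUnderIsomorphisms] [P.ContainsZero] (hsum : ∀ X Y : C, P X → P Y → P (X ⨯ Y))
    (hlift : ∀ (E F : C) (u : E ⟶ F), Epi u → P F → IsSplitEpi u)
    (hst : ∀ (E F : C) (u : E ⟶ F), Epi u → P E → P F → P (kernel u))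
    (a b : ℤ) (hab : a ≤ b) (F' F'' : DerivedCategory C) [HasBinaryBiproduct F' F''] :
    (((∃ E : CochainComplex C ℤ, (∀ i : ℤ, P (E.X i)) ∧ (∀ i : ℤ, i < a ∨ b < i → IsZero (E.X i)) ∧ Nonempty (DerivedCategory.Q.obj E ≅ F')) ∧ (∃ E : CochainComplex C ℤ, (∀ i : ℤ, P (E.X i)) ∧ (∀ i : ℤ, i < a ∨ b < i → IsZero (E.X i)) ∧ Nonempty (DerivedCategory.Q.obj E ≅ F''))) →
        (∃ E : CochainComplex C ℤ, (∀ i : ℤ, P (E.X i)) ∧ (∀ i : ℤ, i < a ∨ b < i → IsZero (E.X i)) ∧ Nonempty (DerivedCategory.Q.obj E ≅ (F' ⊞ F'')))) ∧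
      ((∀ (E' E'' : C) [HasBinaryBiproduct E' E''], P (E' ⊞ E'') → P E' ∧ P E'') →
        (∃ E : CochainComplex C ℤ, (∀ i : ℤ, P (E.X i)) ∧ (∀ i : ℤ, i < a ∨ b < i → IsZero (E.X i)) ∧ Nonempty (DerivedCategory.Q.obj E ≅ (F' ⊞ F''))) →
          (∃ E : CochainComplex C ℤ, (∀ i : ℤ, P (E.X i)) ∧ (∀ i : ℤ, i < a ∨ b < i → IsZero (E.X i)) ∧ Nonempty (DerivedCategory.Q.obj E ≅ F')) ∧ (∃ E : CochainComplex C ℤ, (∀ i : ℤ, P (E.X i)) ∧ (∀ i : ℤ, i < a ∨ b < i → IsZero (E.X i)) ∧ Nonempty (DerivedCategory.Q.obj E ≅ F''))) := by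
  haveI := preservesBinaryBiproducts_of_preservesBiproducts (DerivedCategory.Q (C := C))
  constructor
  · rintro ⟨⟨E', hP', hz', ⟨e'⟩⟩, ⟨E'', hP'', hz'', ⟨e''⟩⟩⟩
    have hX : ∀ i, Nonempty ((E' ⊞ E'').X i ≅ E'.X i ⊞ E''.X i) := fun i =>
      ⟨(HomologicalComplex.eval C (ComplexShape.up ℤ) i).mapBiprod E' E''⟩
    refine ⟨E' ⊞ E'', fun i => P.prop_of_iso (hX i).some.symm (P_biprod hsum (hP' i) (hP'' i)),
      fun i hi => IsZero.of_iso ((biprod_isZero_iff _ _).2 ⟨hz' i hi, hz'' i hi⟩) (hX i).some,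
      ⟨DerivedCategory.Q.mapBiprod E' E'' ≪≫ biprod.mapIso e' e''⟩⟩
  · intro hsummand hE
    obtain ⟨E, hPE, hzE, ⟨e⟩⟩ := hE
    have hqs := quasiStable_of_stable hst
    have hql := quasiLiftable_of_lift hlift
    have hpc : ∀ n, GPC P n F' ∧ GPC P n F'' := fun n => (gpc_biprod_iff hsum hqs hql n F' F'').1
      ⟨E, ⟨⟨b, fun i hi => hzE i (Or.inr hi)⟩, fun i _ => hPE i⟩, ⟨e⟩⟩
    have hH : ∀ i : ℤ, i < a ∨ b < i →
        IsZero ((DerivedCategory.homologyFunctor C i).obj F') ∧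
          IsZero ((DerivedCategory.homologyFunctor C i).obj F'') := fun i hi => by
      have h0 : IsZero ((DerivedCategory.homologyFunctor C i).obj (F' ⊞ F'')) :=
        (ShortComplex.isZero_homology_of_isZero_X₂ _ (hzE i hi)).of_iso (Hiso e i).symm
      constructor <;> rw [IsZero.iff_id_eq_zero, ← CategoryTheory.Functor.map_id]
      · rw [← biprod.inl_fst (X := F') (Y := F''), Functor.map_comp,
          h0.eq_of_tgt ((DerivedCategory.homologyFunctor C i).map biprod.inl) 0, zero_comp]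
      · rw [← biprod.inr_snd (X := F') (Y := F''), Functor.map_comp,
          h0.eq_of_tgt ((DerivedCategory.homologyFunctor C i).map biprod.inr) 0, zero_comp]
    have mk : ∀ X : DerivedCategory C, (∀ n, GPC P n X) → (∀ i : ℤ, i < a ∨ b < i →
        IsZero ((DerivedCategory.homologyFunctor C i).obj X)) →
        ∃ T : CochainComplex C ℤ, (∀ i, i < a ∨ b < i → IsZero (T.X i)) ∧
          (∀ i, a < i → P (T.X i)) ∧ Nonempty (DerivedCategory.Q.obj T ≅ X) := by
      intro X hX hHX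
      obtain ⟨K, ⟨eK⟩⟩ := exists_rep X
      obtain ⟨G, f, hG, hf, hzG⟩ := exists_strictAll hsum hqs hql
        (fun n => gpc_iso eK.symm (hX n)) (b + 1)
        (fun i hi => (hHX i (Or.inr (by omega))).of_iso (Hiso eK i))
      obtain ⟨T, ⟨eT⟩, hlow, hhigh⟩ := exists_truncGE G a fun i hi =>
        (hHX i (Or.inl hi)).of_iso (Hiso (asIso (DerivedCategory.Q.map f) ≪≫ eK) i)
      refine ⟨T, fun i hi => ?_, fun i hi => P.prop_of_iso (hhigh i hi).some (hG.2 i),
        ⟨eT.symm ≪≫ asIso (DerivedCategory.Q.map f) ≪≫ eK⟩⟩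
      rcases hi with h | h
      · exact hlow i h
      · exact (hzG i (by omega)).of_iso (hhigh i (by omega)).some.symm
    obtain ⟨T', hz', hP', ⟨e'⟩⟩ := mk F' (fun n => (hpc n).1) (fun i hi => (hH i hi).1)
    obtain ⟨T'', hz'', hP'', ⟨e''⟩⟩ := mk F'' (fun n => (hpc n).2) (fun i hi => (hH i hi).2)
    have hX : ∀ i, Nonempty ((T' ⊞ T'').X i ≅ T'.X i ⊞ T''.X i) := fun i =>
      ⟨(HomologicalComplex.eval C (ComplexShape.up ℤ) i).mapBiprod T' T''⟩
    have ha := mem_first_term hsum hlift hst a b (T' ⊞ T'')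
      (fun i hi => IsZero.of_iso ((biprod_isZero_iff _ _).2 ⟨hz' i hi, hz'' i hi⟩) (hX i).some)
      (fun i hi => P.prop_of_iso (hX i).some.symm (P_biprod hsum (hP' i hi) (hP'' i hi)))
      E hPE hzE (e ≪≫ (DerivedCategory.Q.mapBiprod T' T'' ≪≫ biprod.mapIso e' e'').symm)
    obtain ⟨ha', ha''⟩ := hsummand _ _ (P.prop_of_iso (hX a).some ha)
    have all : ∀ (T : CochainComplex C ℤ), (∀ i, i < a ∨ b < i → IsZero (T.X i)) →
        (∀ i, a < i → P (T.X i)) → P (T.X a) → ∀ i, P (T.X i) := fun T hz hP ha i => by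
      rcases lt_trichotomy i a with h | h | h
      · exact P_zero (hz i (Or.inl h))
      · subst h; exact ha
      · exact hP i h
    exact ⟨⟨T', all T' hz' hP' ha', hz', ⟨e'⟩⟩, ⟨T'', all T'' hz'' hP'' ha'', hz'', ⟨e''⟩⟩⟩

end Groth.Agent.S5622
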