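import Groth.Statements.S5626
import Groth.Agent.Props12.FinLocFree

set_option autoImplicit false
universe u
open CategoryTheory CategoryTheory.Limits AlgebraicGeometry
open FlatMod

namespace Groth.Agent.S5626

/-- For the Zariski topos of a scheme (a special case of both hypotheses (i) and (ii) there): on a
scheme X, a direct summand of a finite free O_X-module is finite locally free. Here M is a direct
summand of O_X^n in the sense that M ⊞ N ≅ O_X^n for some module N. -/
theorem result {X : Scheme.{u}} (M N : X.Modules) [HasBinaryBiproduct M N] (n : ℕ)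
    (e : M ⊞ N ≅ FlatMod.freeMod X n) :
    FlatMod.IsFinLocFree M := by
  classical
  let e' : M ⊞ N ≅ Groth.Agent.Coherent.freeMod X (ULift.{u} (Fin n)) :=
    e ≪≫ (Groth.Agent.Props12.freeModIso X n).symm
  have hfree : Coh.IsQCoh (Groth.Agent.Coherent.freeMod X (ULift.{u} (Fin n))) :=
    Groth.Agent.Coherent.isQCoh_freeMod
  have hsum : Coh.IsQCoh (M ⊞ N) := Groth.Agent.Coherent.isQCoh_of_iso e'.symm
  let P : (M ⊞ N) ⟶ (M ⊞ N) := biprod.snd ≫ biprod.inr
  have hk : IsLimit (KernelFork.ofι (f := P) (biprod.inl : M ⟶ M ⊞ N) (by simp [P])) :=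
    KernelFork.IsLimit.ofι _ _ (fun g _ => g ≫ biprod.fst)
      (fun g hg => by
        have h2 : g ≫ biprod.snd = 0 := by
          rw [← cancel_mono (biprod.inr : N ⟶ M ⊞ N)]
          simpa [P] using hg
        refine biprod.hom_ext _ _ ?_ ?_ <;> simp [h2])
      (fun g _ m hm => by simp [← hm])
  have hker : Coh.IsQCoh (kernel P) := Groth.Agent.Coherent.isQCoh_kernel P
  have hM : Coh.IsQCoh M :=
    @Groth.Agent.Coherent.isQCoh_of_iso _ (kernel P) M
      ((kernelIsKernel P).conePointUniqueUpToIso hk) hker
  let i : M ⟶ _ := biprod.inl ≫ e'.hom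
  let p : Groth.Agent.Coherent.freeMod X (ULift.{u} (Fin n)) ⟶ M := e'.inv ≫ biprod.fst
  have hip : i ≫ p = 𝟙 M := by simp [i, p]
  have hsec : ∀ U : X.Opens, Module.Finite Γ(X, U) Γ(M, U) ∧ Module.Projective Γ(X, U) Γ(M, U) := by
    intro U
    have hcomp : (Groth.Agent.Coherent.appLin p U).comp (Groth.Agent.Coherent.appLin i U) =
        LinearMap.id := by
      refine LinearMap.ext fun m => ?_
      exact congr((Scheme.Modules.Hom.app $hip U) m)
    have : Module.Finite Γ(X, U) Γ(Groth.Agent.Coherent.freeMod X (ULift.{u} (Fin n)), U) :=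
      Groth.Agent.Coherent.freeMod_sections_finite U
    have : Module.Projective Γ(X, U) Γ(Groth.Agent.Coherent.freeMod X (ULift.{u} (Fin n)), U) :=
      Module.Projective.of_equiv (Groth.Agent.Coherent.freeSectionsEquiv U).symm
    exact ⟨Module.Finite.of_surjective (Groth.Agent.Coherent.appLin p U)
        (fun m => ⟨_, LinearMap.congr_fun hcomp m⟩),
      Module.Projective.of_split _ _ hcomp⟩
  have hfp : CohB1.IsFP M := Groth.Agent.EGA43.FPKernel.isFP_of_forall_exists_affine M fun x => by
    obtain ⟨U, hU, hx, -⟩ := TopologicalSpace.Opens.isBasis_iff_nbhd.mp X.isBasis_affineOpens (TopologicalSpace.Opens.mem_top x)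
    have := (hsec U).1
    have := (hsec U).2
    exact ⟨U, hU, hx, Module.finitePresentation_of_projective _ _⟩
  have : SheafOfModules.IsFinitePresentation (R := X.ringCatSheaf) M := hfp
  refine Groth.Agent.Props12.isFinLocFree_of_isFP_of_free_stalks M hfp fun x => ?_
  obtain ⟨U, hU, hx, -⟩ := TopologicalSpace.Opens.isBasis_iff_nbhd.mp X.isBasis_affineOpens (TopologicalSpace.Opens.mem_top x)
  have hFT : CohB1.IsFT M := inferInstance
  have := Groth.Agent.Props12.finite_stalk_of_isFT M hFT x
  have := (hsec U).2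
  have := Groth.Agent.Props12.flat_stalk_of_flat_sections M hU hx
  exact Module.free_of_flat_of_isLocalRing

end Groth.Agent.S5626
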