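import Groth.Statements.S5630
import Groth.Agent.Dual22Lib.RelAmpPush
import Groth.Agent.S6200

set_option autoImplicit false
universe u
open CategoryTheory CategoryTheory.Limits AlgebraicGeometry
attribute [local instance] HasDerivedCategory.standard
open KSix

namespace Groth.Agent.S5630

/-- Over the base S = Y and for f flat: let f : X ⟶ Y be flat, quasi-compact and quasi-separated with Y
quasi-compact, and let N be an integer such that R^i f_* F = 0 for all i > N and all quasi-coherent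
O_X-modules F. If E ∈ D^b(O_X) has quasi-coherent cohomology and flat amplitude in [a, b] relative
to Y (represented by a complex of Y-flat modules placed in [a, b]), then Rf_* E has tor amplitude in
[a, b + N] on Y. (The source allows any S-morphism f and tor amplitude relative to S; the relative
notion used here is the flat-representative one, adequate for flat f.) -/
theorem result {X Y : Scheme.{u}} (f : X ⟶ Y) [Flat f] [QuasiCompact f] [QuasiSeparated f]
    [CompactSpace Y] [DCoh.HasRpush f] (N : ℕ)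
    (hN : ∀ (F : X.Modules), QCohCat.isQCoh X F →
      ∀ i : ℤ, (N : ℤ) < i → IsZero (DCoh.HD ((DCoh.Rpush f).obj (DCoh.inD X F)) i))
    (E : DCoh.D X) (hqc : DCoh.IsQCohD E) (c d : ℤ) [E.IsGE c] [E.IsLE d]
    (a b : ℤ) (hE : DCoh.HasRelFlatAmplitudeIn f a b E) :
    DCoh.HasTorAmplitudeIn a (b + N) ((DCoh.Rpush f).obj E) := by
  obtain ⟨C, hC, hCf, ⟨eC⟩⟩ := hE
  have hFa : DerSch.HasTorAmplitude (f ≫ 𝟙 Y) a b C := fun x => Groth.Agent.Dual22Lib.RelAmpStalk.amp_congr_hom
    (Category.comp_id f).symm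
    ⟨(DerSch.stalkCxOver f x).obj C, fun i hi => (DerSch.stalkOver f x).map_isZero (hC i hi), fun i => hCf i x,
      ⟨Iso.refl _⟩⟩
  have hq : DCoh.IsQCohD (DCoh.toD X C) := Groth.Agent.DQCoh.isQCohD_of_iso eC.symm hqc
  haveI : (DCoh.toD X C).IsGE c :=
    @Triangulated.TStructure.isGE_of_iso _ _ _ _ _ _ _ DerivedCategory.TStructure.t _ _ eC.symm c inferInstance
  haveI := Groth.Agent.Dual22Lib.RelAmpPush.isLE_of_amp _ C hFa
  obtain ⟨G, ⟨eG⟩⟩ : ∃ G, Nonempty (DCoh.toD Y G ≅ (DCoh.Rpush f).obj (DCoh.toD X C)) :=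
    ⟨DerivedCategory.Q.objPreimage _, ⟨DerivedCategory.Q.objObjPreimageIso _⟩⟩
  have hG := Groth.Agent.Dual22Lib.RelAmpPush.amp_push (𝟙 Y) f N hN C hq c a b hFa G eG
  haveI := Groth.Agent.Dual22Lib.RelAmpPush.isLE_of_amp _ G hG
  obtain ⟨P, hP, hPf, ⟨eP⟩⟩ := (Groth.Agent.S6200.result G (b + N) a (b + N)).2 hG
  exact Groth.Agent.DCat.torAmp_of_flatAmp ⟨P, hP, hPf, ⟨eP ≪≫ eG ≪≫ (DCoh.Rpush f).mapIso eC⟩⟩

end Groth.Agent.S5630
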