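import Groth.Statements.S5631
import Groth.Agent.DQCoh.RelTor
import Groth.Agent.DCat.LPull
import Groth.Agent.DCat.PullPerf
import Groth.Agent.Desc19b.FlatOverBC
import Groth.Agent.FlatCx12.PushStalk
-- import your own Groth.Agent.* helpers here

set_option autoImplicit false
universe u
open CategoryTheory CategoryTheory.Limits AlgebraicGeometry
attribute [local instance] HasDerivedCategory.standard
open KSix

set_option backward.isDefEq.respectTransparency false
set_option backward.defeqAttrib.useBackward true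
set_option linter.all false
attribute [local instance] HasDerivedCategory.standard
open HomologicalComplex Groth.Agent.DCat Groth.Agent.ModStalk

namespace Groth.Agent.S5631

theorem quasiIso_extend_flat {A B : Type u} [CommRing A] [CommRing B] (φ : A →+* B) (hφ : φ.Flat)
    [(ModuleCat.extendScalars.{u, u, u} φ).Additive] {P Q : CochainComplex (ModuleCat.{u} A) ℤ} (π : P ⟶ Q) [QuasiIso π] :
    QuasiIso (((ModuleCat.extendScalars.{u, u, u} φ).mapHomologicalComplex (ComplexShape.up ℤ)).map π) := by
  haveI : PreservesFiniteLimits (ModuleCat.extendScalars.{u, u, u} φ) :=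
    ModuleCat.preservesFiniteLimits_extendScalars_of_flat hφ
  haveI : PreservesColimitsOfSize.{0, 0} (ModuleCat.extendScalars.{u, u, u} φ) :=
    (ModuleCat.extendRestrictScalarsAdj φ).leftAdjoint_preservesColimits
  haveI : (ModuleCat.extendScalars.{u, u, u} φ).PreservesHomology := Functor.preservesHomologyOfExact _
  infer_instance

set_option maxHeartbeats 1000000 in
theorem quasiIso_pullback {X X' Y Y' : Scheme.{u}} {f : X ⟶ Y} {f' : X' ⟶ Y'} {g : X' ⟶ X} {h : Y' ⟶ Y}
    (hc : IsPullback g f' f h) {N F : CochainComplex X.Modules ℤ} {b : ℤ}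
    (hN : ∀ n, b < n → IsZero (N.X n)) (hF : ∀ n, b < n → IsZero (F.X n))
    (hNf : ∀ n, FlatMod.IsFlatOver f (N.X n)) (hFf : ∀ n, FlatMod.IsFlatOver f (F.X n))
    (c : N ⟶ F) [QuasiIso c] :
    QuasiIso (((Scheme.Modules.pullback g).mapHomologicalComplex (ComplexShape.up ℤ)).map c) := by
  rw [quasiIso_iff_stalks]
  intro x
  have hpt : h (f' x) = f (g x) := by
    show (f' ≫ h) x = (g ≫ f) x
    rw [hc.w]
  let a : Y.presheaf.stalk (f (g x)) ⟶ X.presheaf.stalk (g x) := f.stalkMap (g x)
  let β : Y.presheaf.stalk (f (g x)) ⟶ Y'.presheaf.stalk (f' x) :=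
    Y.presheaf.stalkSpecializes (specializes_of_eq hpt) ≫ h.stalkMap (f' x)
  have ha : Spec.map a ≫ Y.fromSpecStalk (f (g x)) = X.fromSpecStalk (g x) ≫ f :=
    Scheme.SpecMap_stalkMap_fromSpecStalk f
  have hb : Spec.map β ≫ Y.fromSpecStalk (f (g x)) = Y'.fromSpecStalk (f' x) ≫ h := by
    simp only [β, Spec.map_comp, Category.assoc, Scheme.SpecMap_stalkSpecializes_fromSpecStalk,
      Scheme.SpecMap_stalkMap_fromSpecStalk]
  have w : a ≫ g.stalkMap x = β ≫ f'.stalkMap x := by
    apply Spec.map_injective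
    rw [← cancel_mono (Y.fromSpecStalk (f (g x))), Spec.map_comp a, Spec.map_comp β, Category.assoc,
      Category.assoc, ha, hb, ← Category.assoc, ← Category.assoc, Scheme.SpecMap_stalkMap_fromSpecStalk,
      Scheme.SpecMap_stalkMap_fromSpecStalk, Category.assoc, Category.assoc, hc.w]
  have hθ := Desc19b.exists_flat_stalk_tensor f f' g h hc x a β w _ ha hb
  have hP : IsPushout a β (DQCoh.pushInl a β) (DQCoh.pushInr a β) := by
    letI := a.hom.toAlgebra
    letI := β.hom.toAlgebra
    exact CommRingCat.isPushout_tensorProduct (Y.presheaf.stalk (f (g x))) (X.presheaf.stalk (g x)) (Y'.presheaf.stalk (f' x))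
  let θ : DQCoh.pushRing a β ⟶ X'.presheaf.stalk x := hP.isoPushout.hom ≫ pushout.desc (g.stalkMap x) (f'.stalkMap x) w
  have hθf : θ.hom.Flat := by
    simp only [θ, CommRingCat.hom_comp]
    exact RingHom.Flat.comp (RingHom.Flat.of_bijective (ConcreteCategory.bijective_of_isIso hP.isoPushout.hom)) hθ
  have hg : g.stalkMap x = DQCoh.pushInl a β ≫ θ := by
    simp only [θ]
    rw [← Category.assoc, hP.inl_isoPushout_hom, pushout.inl_desc]
  haveI := (quasiIso_iff_stalks c).1 inferInstance (g x)
  have hflat : ∀ (M : X.Modules), FlatMod.IsFlatOver f M →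
      Module.Flat (Y.presheaf.stalk (f (g x))) ((ModuleCat.restrictScalars a.hom).obj ((DerSch.stalkFunctor X (g x)).obj M)) :=
    fun M hM => hM (g x)
  haveI : QuasiIso (((ModuleCat.extendScalars (DQCoh.pushInl a β).hom).mapHomologicalComplex (ComplexShape.up ℤ)).map
      ((stalkK (g x)).map c)) :=
    DQCoh.quasiIso_push a β (P := (stalkK (g x)).obj N) (Q := (stalkK (g x)).obj F) (b := b) (fun i hi => (DerSch.stalkFunctor X (g x)).map_isZero (hN i hi))
      (fun i hi => (DerSch.stalkFunctor X (g x)).map_isZero (hF i hi))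
      (fun i => hflat _ (hNf i)) (fun i => hflat _ (hFf i)) _
  haveI : (ModuleCat.extendScalars.{u, u, u} θ.hom).Additive :=
    (ModuleCat.extendRestrictScalarsAdj θ.hom).left_adjoint_additive
  haveI : (ModuleCat.extendScalars.{u, u, u} (DQCoh.pushInl a β).hom).Additive :=
    (ModuleCat.extendRestrictScalarsAdj (DQCoh.pushInl a β).hom).left_adjoint_additive
  let G := ModuleCat.extendScalars.{u, u, u} (DQCoh.pushInl a β).hom ⋙ ModuleCat.extendScalars.{u, u, u} θ.hom
  have hG : QuasiIso ((G.mapHomologicalComplex (ComplexShape.up ℤ)).map ((stalkK (g x)).map c)) :=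
    quasiIso_extend_flat θ.hom hθf (((ModuleCat.extendScalars (DQCoh.pushInl a β).hom).mapHomologicalComplex (ComplexShape.up ℤ)).map
        ((stalkK (g x)).map c))
  let ε : Scheme.Modules.pullback g ⋙ DerSch.stalkFunctor X' x ≅ DerSch.stalkFunctor X (g x) ⋙ G :=
    pullbackStalkIso g x ≪≫ Functor.isoWhiskerLeft _
      (eqToIso (by rw [show (g.stalkMap x).hom = θ.hom.comp (DQCoh.pushInl a β).hom from congrArg CommRingCat.Hom.hom hg]) ≪≫
        ModuleCat.extendScalarsComp _ _)
  exact (quasiIso_iff_of_arrow_mk_iso _ _ (Arrow.isoMk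
    ((NatIso.mapHomologicalComplex ε (ComplexShape.up ℤ)).app N)
    ((NatIso.mapHomologicalComplex ε (ComplexShape.up ℤ)).app F)
    ((NatIso.mapHomologicalComplex ε (ComplexShape.up ℤ)).hom.naturality c).symm)).2 hG

theorem isFlatOver_of_isFlat {X Y : Scheme.{u}} (f : X ⟶ Y) [Flat f] (M : X.Modules) (hM : FlatMod.IsFlat M) :
    FlatMod.IsFlatOver f M := fun x =>
  haveI : Module.Flat (X.presheaf.stalk x) ((DerSch.stalkFunctor X x).obj M) := hM x
  FlatCx12.PushStalk.flat_restrict (f.stalkMap x).hom (Flat.stalkMap f x) ((DerSch.stalkFunctor X x).obj M)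

/-- For f flat (so that X and Y' are tor-independent over Y): let f : X ⟶ Y be flat, h : Y' ⟶ Y
arbitrary, X' = X ×_Y Y' with projections g : X' ⟶ X and f' : X' ⟶ Y', and E ∈ D⁻(O_X). If E has
flat amplitude in [a, b] relative to f (represented by a complex of Y-flat modules placed in [a, b])
then Lg^* E has flat amplitude in [a, b] relative to f'. (The source assumes only tor-independence
of X and Y' over Y; the relative notion used here is the flat-representative one, adequate for flat
f and f'.) -/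
theorem result {X Y Y' : Scheme.{u}} (f : X ⟶ Y) [Flat f] (h : Y' ⟶ Y)
    [DCoh.HasLpull (pullback.fst f h)] (E : DCoh.D X) (d : ℤ) [E.IsLE d] (a b : ℤ)
    (hE : DCoh.HasRelFlatAmplitudeIn f a b E) :
    DCoh.HasRelFlatAmplitudeIn (pullback.snd f h) a b ((DCoh.Lpull (pullback.fst f h)).obj E) := by
  obtain ⟨F, hF0, hFf, ⟨eF⟩⟩ := hE
  obtain ⟨N, c, hN, hNflat, hcq, hNb⟩ := exists_kflat_sheaf_le F b (fun n hn => hF0 n (Or.inr hn))
  haveI := hcq
  haveI := quasiIso_pullback (IsPullback.of_hasPullback f h) hNb (fun n hn => hF0 n (Or.inr hn))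
    (fun n => isFlatOver_of_isFlat f _ (hNflat n)) hFf c
  let P := (Scheme.Modules.pullback (pullback.fst f h)).mapHomologicalComplex (ComplexShape.up ℤ)
  refine ⟨P.obj F, fun i hi => (Scheme.Modules.pullback (pullback.fst f h)).map_isZero (hF0 i hi),
    fun i x => Desc19b.isFlatOverAt_baseChange f _ _ h (IsPullback.of_hasPullback f h) (F.X i) x (hFf i _), ⟨?_⟩⟩
  exact (asIso (DerivedCategory.Q.map (P.map c))).symm ≪≫ (Groth.Agent.DCat.PullPerf.lpullIso (pullback.fst f h) hN).symm ≪≫
    (DCoh.Lpull (pullback.fst f h)).mapIso (asIso (DerivedCategory.Q.map c) ≪≫ eF)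

end Groth.Agent.S5631
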