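import Groth.Statements.S5632
import Groth.Agent.HodgeQ27.ProjTwist
-- import your own Groth.Agent.* helpers here

set_option autoImplicit false
set_option linter.style.haveILetI false
set_option backward.isDefEq.respectTransparency.types false
universe u
open CategoryTheory CategoryTheory.Limits AlgebraicGeometry
open Pic13

namespace Groth.Agent.S5632

open CategoryTheory CategoryTheory.Limits AlgebraicGeometry TopologicalSpace in
open Groth.Agent Groth.Agent.Coherent Groth.Agent.PicLib Groth.Agent.AmpleLib Groth.Agent.EulerLib Groth.Agent.AssSch12 Groth.Agent.VarietyLib in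
/-- Let k be an algebraically closed field, X ⊆ P^n_k an integral closed subscheme of dimension r = s +
1 ≥ 1, with O_X(1) and O_X(-1) the restrictions of O(1) and O(-1). Let L be an invertible O_X-module
with inverse L' (L ⊗ L' ≅ O_X) whose degree (c₁(L)·c₁(O_X(1))^{r-1}) is ≤ 0 and with H^0(X, L) ≠ 0.
Then L ≅ O_X (so that its degree is 0 and h^0(L) = 1). Intersection numbers are those of FGA.intNum,
which takes the inverse modules L', O_X(-1) as arguments. -/
theorem result (k : Type u) [Field k] [IsAlgClosed k] (n : ℕ) (X : Scheme.{u}) [X.Over (Spec (CommRingCat.of k))]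
    (i : X ⟶ CohB1.ProjSpace n k) [IsClosedImmersion i] (hi : i ≫ CohB1.ProjSpace.toSpec n k = X ↘ Spec (CommRingCat.of k))
    [IsIntegral X] (s : ℕ) (hdim : topologicalKrullDim X = (s + 1 : ℕ))
    (L L' : X.Modules) (hL : PicF.IsInvertible L) (hLL' : Nonempty (CohB1.tensorMod L L' ≅ Coh.structureModule X))
    (hdeg : FGA.intNum k X (s + 1)
      (Matrix.vecCons L' (fun _ : Fin s => (Scheme.Modules.pullback i).obj (Twist.twistProjSpace n k (-1))))
      (Coh.structureModule X) ≤ 0)
    (hsec : Nontrivial (Coh.HH X L 0)) :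
    Nonempty (L ≅ Coh.structureModule X) := by
  have _ := hi
  haveI hP : IsProper (X ↘ Spec (CommRingCat.of k)) := by
    haveI := Coherent.isProper_projSpace_toSpec n k
    rw [← hi]; infer_instance
  haveI := isNoetherian_of_proper (X := X) k
  obtain ⟨e'⟩ := hLL'
  have hL' : PicF.IsInvertible L' :=
    PicM.isInvertible_of_tensor hL (glocus_isInvertible_of_iso e'.symm isInvertible_structureModule)
  set l := InvCl.mk L hL
  haveI := hsec
  haveI : Nontrivial (GA (baseHom k X) L) := (CurveRR24.hhZero k L).symm.toEquiv.nontrivial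
  obtain ⟨t, ht⟩ := exists_ne (0 : GA (baseHom k X) L)
  let σ : Γ(L, ⊤) := t
  have hσ : σ ≠ 0 := ht
  have hdeg' : ClDeg (s + 1 + 1) (chiCl k (Coh.structureModule X)) :=
    clDeg_chiCl k (isCoh_structureModule X) (r := s + 1) ((dim_mono (Set.subset_univ _)).trans
      ((IsHomeomorph.topologicalKrullDim_eq _ (Homeomorph.Set.univ X).isHomeomorph).le.trans hdim.le))
  obtain ⟨Q, hQ, hQs, hQd, hdiff⟩ := HodgeQ27.exists_cut k (r := s) hdim.le hL hσ
  have hconv : FGA.intNum k X (s + 1)
      (Matrix.vecCons L' (fun _ : Fin s => (Scheme.Modules.pullback i).obj (Twist.twistProjSpace n k (-1))))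
      (Coh.structureModule X) =
      interDeg (Fin.cons l (fun _ => HodgeQ27.tw i 1) : Fin (s + 1) → InvCl X)
        (chiCl k (Coh.structureModule X)) := by
    refine (intNum_eq k _ (fun j => Fin.cases (motive := fun j => PicF.IsInvertible
      ((Matrix.vecCons L' (fun _ : Fin s => (Scheme.Modules.pullback i).obj (Twist.twistProjSpace n k (-1))) :
        Fin (s + 1) → X.Modules) j)) hL' (fun _ => HodgeQ27.inv_tw i (-1)) j)
      (isCoh_structureModule X) hdim.le).trans
      (altSum_of_inverse _ _ (fun j => ?_) hdeg')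
    induction j using Fin.cases with
    | zero => exact (InvCl.mk_mul hL hL').trans (InvCl.mk_eq _ isInvertible_structureModule e')
    | succ j => exact (HodgeQ27.tw_add i 1 (-1)).trans (by rw [show (1 : ℤ) + -1 = 0 by ring, HodgeQ27.tw_zero])
  rw [hconv, interDeg_cons, hdiff] at hdeg
  by_cases htop : ∀ z, z ∈ glocus L σ
  · have hg := (isGen_glocus (L := L) σ).restrict (show (⊤ : X.Opens) ≤ glocus L σ from fun z _ => htop z)
    exact TwistLib.nonempty_iso_of_isGen_top hg
  exfalso
  push Not at htop
  obtain ⟨z, hz⟩ := htop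
  let p := X ↘ Spec (CommRingCat.of k)
  obtain ⟨w, hw, -, hwmax⟩ := DimLib.exists_maximal_mem p (S := (glocus L σ : Set X)ᶜ)
    (η := genericPoint X) hz (fun w _ _ => genericPoint_specializes w)
  obtain ⟨W₀, hwW₀, g₀, hg₀⟩ := exists_isGen hL w
  obtain ⟨W, hW, hwW, hWW₀⟩ := exists_isAffineOpen_mem_and_subset (x := w) (U := W₀) hwW₀
  have hg := hg₀.restrict (show W ≤ W₀ from hWW₀)
  let c := hg.coef le_rfl (resM L le_top σ)
  have hbo : glocus L σ ⊓ W = X.basicOpen c := glocus_inf σ hg
  have h1 := DimLib.ptDim_le_add_of_minimal_zero p hW {c} (genericPoint_specializes w) hwW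
    (fun r hr => by
      rw [Finset.mem_singleton.1 hr]
      intro h
      rw [← hbo] at h
      exact hw h.1)
    (fun y _ hyw hyW hyc => (hwmax y (fun hyU =>
      hyc c (Finset.mem_singleton_self c) (hbo ▸ ⟨hyU, hyW⟩)) hyw).symm)
  have hgen : DimLib.ptDim p (genericPoint X) = s + 1 := by
    have h := DimLib.topologicalKrullDim_eq_ptDim_genericPoint p
    rw [hdim] at h
    exact_mod_cast h.symm
  rw [Finset.card_singleton, hgen] at h1
  have hQd' : topologicalKrullDim (CohB1.support Q) = ((s : ℕ) : WithBot ℕ∞) := by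
    refine le_antisymm hQd (le_trans ?_ (dim_mono (closure_minimal (Set.singleton_subset_iff.2 (hQs.ge hw))
      (isClosed_support Q (locallyFinGen_of_isFT Q hQ.2)))))
    rw [dim_closure_eq_ptDim k]
    have h2 : s ≤ DimLib.ptDim p w := by omega
    exact_mod_cast h2
  have hpos := interDeg_pos k s (fun _ => _) (fun _ => HodgeQ27.isAmple_tw_one i) Q hQ hQd'
  exact absurd hdeg (not_le.2 hpos)

end Groth.Agent.S5632
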