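import Groth.Statements.S5633
import Groth.Agent.HodgeQ27.Restrict
-- import your own Groth.Agent.* helpers here

set_option autoImplicit false
set_option linter.style.haveILetI false
set_option backward.isDefEq.respectTransparency.types false
universe u
open CategoryTheory CategoryTheory.Limits AlgebraicGeometry
open Pic13

namespace Groth.Agent.S5633

open CategoryTheory CategoryTheory.Limits AlgebraicGeometry TopologicalSpace in
open Groth.Agent Groth.Agent.Coherent Groth.Agent.PicLib Groth.Agent.AmpleLib Groth.Agent.EulerLib Groth.Agent.AssSch12 Groth.Agent.VarietyLib in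
/-- Let k be an algebraically closed field, Y a proper k-scheme with an ample invertible module H, φ a
global section of H and X ⊆ Y its zero scheme. Assume that for every irreducible component Y' of Y,
every irreducible component of Y' ∩ X has dimension ≥ 2. Then an invertible O_Y-module whose
restriction to X is numerically equivalent to zero (degree 0 on every integral closed curve of X) is
numerically equivalent to zero on Y; that is, restriction of invertible modules modulo numerical
equivalence from Y to X is injective. -/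
theorem result (k : Type u) [Field k] [IsAlgClosed k] (Y : Scheme.{u}) [Y.Over (Spec (CommRingCat.of k))]
    [IsProper (Y ↘ Spec (CommRingCat.of k))] (H : Y.Modules) (hH : CohB1.IsAmple H) (φ : Coh.structureModule Y ⟶ H)
    (hdim : ∀ Z ∈ irreducibleComponents (Y : Type u),
      ∀ W ∈ irreducibleComponents ↥(Z ∩ Set.range (PicF2.zeroScheme H φ).subschemeι.base), 2 ≤ topologicalKrullDim ↥W)
    (L : Y.Modules) (hL : PicF.IsInvertible L)
    (hnum : @Pic13.IsNumEquivZero k _ (PicF2.zeroScheme H φ).subscheme
      ⟨(PicF2.zeroScheme H φ).subschemeι ≫ (Y ↘ Spec (CommRingCat.of k))⟩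
      ((Scheme.Modules.pullback (PicF2.zeroScheme H φ).subschemeι).obj L)) :
    Pic13.IsNumEquivZero k Y L := by
  classical
  haveI := isNoetherian_of_proper (X := Y) k
  refine NumSec27.isNumEquivZero_of_isNum k hL fun y hy => ?_
  set l := InvCl.mk L hL
  let p := Y ↘ Spec (CommRingCat.of k)
  let s : Γ(H, ⊤) := unitVal φ ⊤
  let D := (PicF2.zeroScheme H φ).subscheme
  let j := (PicF2.zeroScheme H φ).subschemeι
  letI : D.Over (Spec (CommRingCat.of k)) := ⟨j ≫ p⟩
  haveI : IsProper (D ↘ Spec (CommRingCat.of k)) := inferInstanceAs (IsProper (j ≫ p))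
  haveI := isNoetherian_of_proper (X := D) k
  have hrange : ∀ x, x ∈ Set.range j ↔ x ∉ glocus H s := fun x => by
    rw [Scheme.IdealSheafData.range_subschemeι]
    exact HodgeQ27.mem_support_zeroScheme_iff hH.1 φ x
  have hnumD := NumTriv23.isNum_of_isNumEquivZero k (PicLoc.isInvertible_pullback j hL) hnum
  -- curves in the divisor
  have hdegD : ∀ x, x ∉ glocus H s → topologicalKrullDim (closure {x} : Set Y) = ((1 : ℕ) : WithBot ℕ∞) →
      Surf15.deg k (clM x) l = 0 := by
    intro x hx hx1
    obtain ⟨w, rfl⟩ := (hrange x).2 hx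
    have hw1 : topologicalKrullDim (closure ({w} : Set D)) = ((1 : ℕ) : WithBot ℕ∞) := by
      rw [← hx1, show closure ({j w} : Set Y) = j '' closure {w} by
        rw [← j.isClosedEmbedding.closure_image_eq, Set.image_singleton]]
      exact IsHomeomorph.topologicalKrullDim_eq _
        (j.isClosedEmbedding.isEmbedding.homeomorphImage (closure {w})).isHomeomorph
    have e := interDeg_pull_clM k j rfl w hw1 (fun _ => l)
    rw [Surf15.interDeg_one_class, Surf15.interDeg_one_class, CycLib28.residueDegree_preimmersion j, Nat.cast_one,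
      one_mul] at e
    exact e.symm.trans (sub_eq_zero.2 (hnumD w hw1))
  by_cases hyD : y ∈ glocus H s
  swap
  · exact sub_eq_zero.1 (hdegD y hyD hy)
  -- the component through the curve
  obtain ⟨ξ, hξ', -⟩ := DimLib.exists_genericPoint_of_mem_components
    (irreducibleComponent_mem_irreducibleComponents y)
  have hξ : closure ({ξ} : Set Y) = irreducibleComponent y := hξ'
  have hyZ : y ∈ closure ({ξ} : Set Y) := hξ.symm ▸ mem_irreducibleComponent
  have hξD : ξ ∈ glocus H s := (specializes_iff_mem_closure.2 hyZ).mem_open (glocus H s).2 hyD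
  let Z := (clI ξ).subscheme
  let ι := (clI ξ).subschemeι
  haveI : IsIntegral Z := isIntegral_clI ξ
  letI : Z.Over (Spec (CommRingCat.of k)) := ⟨ι ≫ p⟩
  haveI : IsProper (Z ↘ Spec (CommRingCat.of k)) := inferInstanceAs (IsProper (ι ≫ p))
  haveI := isNoetherian_of_proper (X := Z) k
  let H' := (Scheme.Modules.pullback ι).obj H
  have hH' : CohB1.IsAmple H' := isAmple_pullback_of_isAffineHom ι hH
  let s' : Γ(H', ⊤) := pullSec ι s
  have hgl : glocus H' s' = ι ⁻¹ᵁ glocus H s := glocus_pullSec ι hH.1 s
  have hs' : s' ≠ 0 := by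
    intro h0
    have h1 : genericPoint Z ∈ glocus H' s' := by
      rw [hgl]
      show ι (genericPoint Z) ∈ glocus H s
      rw [clI_genericPoint ξ]
      exact hξD
    obtain ⟨W, hW, g, hg⟩ := exists_isGen hH'.1 (genericPoint Z)
    have h2 := (glocus_inf s' hg).le ⟨h1, hW⟩
    rw [show hg.coef le_rfl (resM H' le_top s') = 0 from hg.coef_eq le_rfl (by rw [h0, map_zero, zero_smul]),
      Scheme.basicOpen_zero] at h2
    exact h2
  have hyd : DimLib.ptDim p y = 1 := by
    rw [dim_closure_eq_ptDim k] at hy
    exact_mod_cast hy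
  have hd1 : 1 ≤ DimLib.ptDim p ξ := hyd.symm.le.trans
    (DimLib.ptDim_le_of_specializes p (specializes_iff_mem_closure.2 hyZ))
  set d := DimLib.ptDim p ξ with hd
  have hZd : topologicalKrullDim Z = ((d : ℕ) : WithBot ℕ∞) := by
    rw [hd, ← dim_closure_eq_ptDim k, ← range_clι ξ]
    exact IsHomeomorph.topologicalKrullDim_eq _ ι.isClosedEmbedding.isEmbedding.toHomeomorph.isHomeomorph
  obtain ⟨r, hr⟩ : ∃ r, d = r + 1 := ⟨d - 1, by omega⟩
  obtain ⟨Q, hQ, hQs, hQd, hdiff⟩ := HodgeQ27.exists_cut k (r := r) (hr ▸ hZd).le hH'.1 hs'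
  -- the divisor meets the component in dimension at least two
  have h2r : 2 ≤ r := by
    have hpos := HodgeQ27.ample_interDeg_pos k (hr ▸ hZd) hH'
    rw [HodgeQ27.const_eq_cons, interDeg_cons, hdiff] at hpos
    have hne : (CohB1.support Q).Nonempty := by
      by_contra h
      rw [Set.not_nonempty_iff_eq_empty] at h
      rw [interDeg_eq_zero _ (finDeg_chiCl k hQ ?_)] at hpos
      · exact lt_irrefl _ hpos
      · rw [h]
        haveI : IsEmpty (IrreducibleCloseds (∅ : Set Z)) := ⟨fun A => A.2.1.elim fun a _ => a.2⟩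
        show Order.krullDim _ < _
        rw [Order.krullDim_eq_bot]
        exact WithBot.bot_lt_coe _
    obtain ⟨z, hz⟩ := hne
    have hz' : ι z ∈ irreducibleComponent y ∩ Set.range j := by
      refine ⟨hξ ▸ (range_clι ξ).le ⟨z, rfl⟩, (hrange _).2 fun h => (hQs.le hz) ?_⟩
      rw [hgl]
      exact h
    have hW := hdim _ (irreducibleComponent_mem_irreducibleComponents y) _
      (irreducibleComponent_mem_irreducibleComponents (⟨ι z, hz'⟩ : ↥(irreducibleComponent y ∩ Set.range j)))
    have hle : topologicalKrullDim ↥(irreducibleComponent y ∩ Set.range j) ≤ ((r : ℕ) : WithBot ℕ∞) := by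
      have hsub : irreducibleComponent y ∩ Set.range j ⊆ ι '' CohB1.support Q := by
        rintro x ⟨hxZ, hxj⟩
        obtain ⟨w, rfl⟩ := (range_clι ξ).ge (hξ.symm ▸ hxZ : x ∈ closure ({ξ} : Set Y))
        refine ⟨w, hQs.ge fun h => (hrange _).1 hxj ?_, rfl⟩
        rw [hgl] at h
        exact h
      exact ((dim_mono hsub).trans (IsHomeomorph.topologicalKrullDim_eq _
        (ι.isClosedEmbedding.isEmbedding.homeomorphImage (CohB1.support Q)).isHomeomorph).ge).trans hQd
    have := (hW.trans (topologicalKrullDim_subspace_le _ _)).trans hle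
    exact_mod_cast this
  obtain ⟨n, hn⟩ : ∃ n, r = n + 2 := ⟨r - 2, by omega⟩
  have hnum' := HodgeQ27.isNum_of_cut k (n := n) (by rw [hZd, hr, hn]) hH' hs' (VarietyLib.pullHom ι l)
    fun w hw hw1 => ?_
  · obtain ⟨w, rfl⟩ := (range_clι ξ).ge hyZ
    have hw1 : topologicalKrullDim (closure ({w} : Set Z)) = ((1 : ℕ) : WithBot ℕ∞) := by
      refine Eq.trans ?_ hy
      rw [show closure ({ι w} : Set Y) = ι '' closure {w} by
        rw [← ι.isClosedEmbedding.closure_image_eq, Set.image_singleton]]
      exact IsHomeomorph.topologicalKrullDim_eq _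
        (ι.isClosedEmbedding.isEmbedding.homeomorphImage (closure {w})).isHomeomorph
    have e := interDeg_pull_clM k ι rfl w hw1 (fun _ => l)
    rw [Surf15.interDeg_one_class, Surf15.interDeg_one_class, CycLib28.residueDegree_preimmersion ι, Nat.cast_one,
      one_mul] at e
    exact sub_eq_zero.1 (e.symm.trans (sub_eq_zero.2 (hnum' w hw1)))
  · have e := interDeg_pull_clM k ι rfl w hw1 (fun _ => l)
    rw [Surf15.interDeg_one_class, Surf15.interDeg_one_class, CycLib28.residueDegree_preimmersion ι, Nat.cast_one,
      one_mul] at e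
    refine e.trans (hdegD _ (fun h => hw ?_) ?_)
    · rw [hgl]; exact h
    · refine Eq.trans ?_ hw1
      rw [show closure ({ι w} : Set Y) = ι '' closure {w} by
        rw [← ι.isClosedEmbedding.closure_image_eq, Set.image_singleton]]
      exact (IsHomeomorph.topologicalKrullDim_eq _
        (ι.isClosedEmbedding.isEmbedding.homeomorphImage (closure {w})).isHomeomorph).symm

end Groth.Agent.S5633
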