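import Groth.Statements.S5639
import Groth.Agent.HodgeQ27.HypSec
-- import your own Groth.Agent.* helpers here

set_option autoImplicit false
set_option linter.style.haveILetI false
set_option backward.isDefEq.respectTransparency.types false
universe u
open CategoryTheory CategoryTheory.Limits AlgebraicGeometry
open Pic13

namespace Groth.Agent.S5639

open CategoryTheory CategoryTheory.Limits AlgebraicGeometry TopologicalSpace in
open Groth.Agent Groth.Agent.Coherent Groth.Agent.PicLib Groth.Agent.AmpleLib in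
/-- Let k be an algebraically closed field, P = P^N_k and F a coherent O_P-module none of whose
associated points is a closed point of P. Then H^0(P, F(-n)) = 0 for every integer n ≥ h^0(F), where
F(d) = F ⊗ O(d) and h^0(F) is the dimension of H^0(P, F) over k. -/
theorem result (k : Type u) [Field k] [IsAlgClosed k] (N : ℕ) (F : (CohB1.ProjSpace N k).Modules) (hF : Coh.IsCoh F)
    (hass : ∀ x : ↥(CohB1.ProjSpace N k), Curv2.IsAssPoint F x → ¬ IsClosed ({x} : Set ↥(CohB1.ProjSpace N k)))
    (n : ℕ) (hn : Module.finrank k (Coh.HH (CohB1.ProjSpace N k) F 0) ≤ n) :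
    Subsingleton (Coh.HH (CohB1.ProjSpace N k) (CohB1.tensorMod F (Twist.twistProjSpace N k (-(n : ℤ)))) 0) := by
  let P := CohB1.ProjSpace N k
  let h := fun j : ℕ => Module.finrank k (Coh.HH P (CohB1.tensorMod F (Twist.twistProjSpace N k (-(j : ℤ)))) 0)
  have hc : ∀ j : ℕ, Coh.IsCoh (CohB1.tensorMod F (Twist.twistProjSpace N k (-(j : ℤ)))) :=
    fun j => CAlgH3.PSheafGen.isCoh_twistProj hF _
  have hz : h 0 ≤ n := by
    obtain ⟨e⟩ := CAlgH3.PSheafPres.nonempty_twist_zero hF.1
    show Module.finrank k (Coh.HH P (CohB1.tensorMod F (Twist.twistProjSpace N k (-((0 : ℕ) : ℤ)))) 0) ≤ n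
    rw [Nat.cast_zero, neg_zero, CurveRR24.finrank_HH_congr k e]
    exact hn
  have step : ∀ j, h (j + 1) + 1 ≤ h j ∨ h (j + 1) = 0 := fun j => by
    rcases Nat.eq_zero_or_pos (h (j + 1)) with h0 | h0
    · exact Or.inr h0
    left
    obtain ⟨e⟩ := CAlgH3.PSheafSeq.nonempty_twist_assoc hF.1
      (show -(j : ℤ) + -1 = -((j + 1 : ℕ) : ℤ) by push_cast; ring)
    have key : 1 ≤ Module.finrank k (Coh.HH P (CohB1.tensorMod F (Twist.twistProjSpace N k (-(j : ℤ)))) 0) → h (j + 1) + 1 ≤ h j := fun hj => by
      have := HodgeQ27.h0_twist_neg_lt (hc j) (fun x hx => hass x (HodgeQ27.ass_twist F (SerreDual.isInvertible_twist N k _) hx)) hj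
      rwa [CurveRR24.finrank_HH_congr k e] at this
    by_cases hj : 1 ≤ h j
    · exact key hj
    exfalso
    have hj0 : h j = 0 := by omega
    obtain ⟨b, hb⟩ := Mumford23.exists_section_glocus (AssSch.Ass F) (AssSch12.finite_ass F hF)
    let G := CohB1.tensorMod F (Twist.twistProjSpace N k (-((j + 1 : ℕ) : ℤ)))
    haveI := Mumford23.mono_mulSec (hc (j + 1)).1 b
      (fun x hx => hb (HodgeQ27.ass_twist F (SerreDual.isInvertible_twist N k _) hx))
    obtain ⟨e'⟩ := CAlgH3.PSheafSeq.nonempty_twist_assoc hF.1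
      (show -((j + 1 : ℕ) : ℤ) + 1 = -(j : ℤ) by push_cast; ring)
    have hinj : Function.Injective (Coherent.mapGA (baseHom k P) (EulerLib.mulSec G b ≫ e'.hom)) :=
      Coherent.app_injective_of_mono (EulerLib.mulSec G b ≫ e'.hom) ⊤
    haveI : Module.Finite k (Coh.HH P (CohB1.tensorMod F (Twist.twistProjSpace N k (-(j : ℤ)))) 0) :=
      CurveRR24.finite_HH_of_isCoh k (hc j) 0
    haveI := Module.Finite.equiv (CurveRR24.hhZero k (CohB1.tensorMod F (Twist.twistProjSpace N k (-(j : ℤ)))))
    have hle := LinearMap.finrank_le_finrank_of_injective hinj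
    rw [← (CurveRR24.hhZero k G).finrank_eq, ← (CurveRR24.hhZero k _).finrank_eq] at hle
    change h (j + 1) ≤ h j at hle
    omega
  have main : ∀ j, h j ≤ n - j := by
    intro j
    induction j with
    | zero => exact hz
    | succ j ih => rcases step j with h1 | h1 <;> omega
  haveI : Module.Finite k (Coh.HH P (CohB1.tensorMod F (Twist.twistProjSpace N k (-(n : ℤ)))) 0) :=
    CurveRR24.finite_HH_of_isCoh k (hc n) 0
  have := main n
  exact (Module.finrank_zero_iff (R := k)).1 (show h n = 0 by omega)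

end Groth.Agent.S5639
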