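import Groth.Statements.S5643
import Groth.Agent.KTop28.Basic

set_option autoImplicit false
universe u
open CategoryTheory CategoryTheory.Limits AlgebraicGeometry
open Classical
open SGA6

namespace Groth.Agent.S5643

/-- Let X be a Noetherian scheme and K the Grothendieck group of coherent O_X-modules. For every n, the
subgroup of K generated by the classes of coherent modules whose support has dimension ≤ n coincides
with the subgroup generated by the classes [O_Z] of the structure sheaves (as O_X-modules) of the
integral closed subschemes Z ⊆ X of dimension ≤ n, Z running over the reduced closures of points of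
X. -/
theorem result (X : Scheme.{u}) [IsNoetherian X] (n : ℕ) :
    AddSubgroup.closure {c : KZero.K0sub (fun M : X.Modules => Coh.IsCoh M) |
        ∃ G : X.Modules, Coh.IsCoh G ∧ topologicalKrullDim ↥(CohB1.support G) ≤ n ∧ c = KZero.clSub (fun M : X.Modules => Coh.IsCoh M) G} =
      AddSubgroup.closure {c : KZero.K0sub (fun M : X.Modules => Coh.IsCoh M) |
        ∃ x : ↥X, topologicalKrullDim ↥(closure ({x} : Set ↥X)) ≤ n ∧ c = KZero.clSub (fun M : X.Modules => Coh.IsCoh M) (Cyc.closureStructureSheaf x)} := by
  refine le_antisymm ((AddSubgroup.closure_le _).2 ?_) ((AddSubgroup.closure_le _).2 ?_)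
  · rintro _ ⟨G, hG, hd, rfl⟩
    refine AddSubgroup.closure_mono ?_ (KTop28.cl_mem_closure_points G hG)
    rintro _ ⟨x, hx, rfl⟩
    exact ⟨x, (KTop28.dim_closure_le_of_mem_support hG hx).trans hd, rfl⟩
  · rintro _ ⟨x, hd, rfl⟩
    exact AddSubgroup.subset_closure ⟨Cyc.closureStructureSheaf x, (CycLib28.K0.cohAt_pointSheaf x).1,
      (KTop28.dim_mono (CycLib28.K0.cohAt_pointSheaf x).2).trans hd, rfl⟩

end Groth.Agent.S5643
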