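import Groth.Statements.S5644
import Groth.Agent.HodgeQ27.ProjTwist
-- import your own Groth.Agent.* helpers here

set_option autoImplicit false
set_option linter.style.haveILetI false
set_option backward.isDefEq.respectTransparency.types false
universe u
open CategoryTheory CategoryTheory.Limits AlgebraicGeometry
open Pic13

namespace Groth.Agent.S5644

open CategoryTheory CategoryTheory.Limits AlgebraicGeometry TopologicalSpace in
open Groth.Agent Groth.Agent.Coherent Groth.Agent.PicLib Groth.Agent.AmpleLib Groth.Agent.EulerLib Groth.Agent.AssSch12 Groth.Agent.VarietyLib in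
/-- Let k be an algebraically closed field, X ⊆ P^n_k an integral closed subscheme of dimension r = s +
1, O_X(1) and O_X(-1) the restrictions of O(1) and O(-1), and L an invertible O_X-module with
inverse L'. Write the Hilbert polynomials in the binomial basis, χ(L(m)) = Σ_{j ≤ r} a_j C(m+j, j)
and χ(O_X(m)) = Σ_{j ≤ r} e_j C(m+j, j) for m ≥ 0 (Euler characteristics in degrees ≤ r). Then (i)
a_r = e_r = (c₁(O_X(1))^r), the degree of X, and (ii) a_{r-1} - e_{r-1} = (c₁(L)·c₁(O_X(1))^{r-1}),
the degree of L. Intersection numbers are those of FGA.intNum, which takes the inverse modules L',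
O_X(-1) as arguments. -/
theorem result (k : Type u) [Field k] [IsAlgClosed k] (n : ℕ) (X : Scheme.{u}) [X.Over (Spec (CommRingCat.of k))]
    (i : X ⟶ CohB1.ProjSpace n k) [IsClosedImmersion i] (hi : i ≫ CohB1.ProjSpace.toSpec n k = X ↘ Spec (CommRingCat.of k))
    [IsIntegral X] (s : ℕ) (hdim : topologicalKrullDim X = (s + 1 : ℕ))
    (L L' : X.Modules) (hL : PicF.IsInvertible L) (hLL' : Nonempty (CohB1.tensorMod L L' ≅ Coh.structureModule X))
    (a e : Fin (s + 2) → ℤ)
    (ha : ∀ m : ℕ, FGA.eulerCharLE k X (Pic13.twistOn k i L m) (s + 1) = ∑ j : Fin (s + 2), a j * ((m + j).choose j : ℤ))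
    (he : ∀ m : ℕ, FGA.eulerCharLE k X (Pic13.twistOn k i (Coh.structureModule X) m) (s + 1) =
      ∑ j : Fin (s + 2), e j * ((m + j).choose j : ℤ)) :
    a (Fin.last (s + 1)) = e (Fin.last (s + 1)) ∧
      a (Fin.last (s + 1)) = FGA.intNum k X (s + 1)
        (fun _ : Fin (s + 1) => (Scheme.Modules.pullback i).obj (Twist.twistProjSpace n k (-1))) (Coh.structureModule X) ∧
      a (Fin.castSucc (Fin.last s)) - e (Fin.castSucc (Fin.last s)) = FGA.intNum k X (s + 1)
        (Matrix.vecCons L' (fun _ : Fin s => (Scheme.Modules.pullback i).obj (Twist.twistProjSpace n k (-1))))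
        (Coh.structureModule X) := by
  haveI hP : IsProper (X ↘ Spec (CommRingCat.of k)) := by
    haveI := Coherent.isProper_projSpace_toSpec n k
    rw [← hi]; infer_instance
  haveI := isNoetherian_of_proper (X := X) k
  obtain ⟨e'⟩ := hLL'
  have hL' : PicF.IsInvertible L' :=
    PicM.isInvertible_of_tensor hL (glocus_isInvertible_of_iso e'.symm isInvertible_structureModule)
  set l := InvCl.mk L hL
  set φ := chiCl k (Coh.structureModule X) with hφ
  have hdeg : ClDeg (s + 1 + 1) φ :=
    clDeg_chiCl k (isCoh_structureModule X) (r := s + 1) ((dim_mono (Set.subset_univ _)).trans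
      ((IsHomeomorph.topologicalKrullDim_eq _ (Homeomorph.Set.univ X).isHomeomorph).le.trans hdim.le))
  have hval : ∀ {N : X.Modules} (hN : PicF.IsInvertible N) (m : ℕ),
      FGA.eulerCharLE k X (Pic13.twistOn k i N m) (s + 1) = φ (InvCl.mk N hN * HodgeQ27.tw i 1 ^ m) := by
    intro N hN m
    have hT : PicF.IsInvertible (Pic13.twistOn k i N (m : ℤ)) := isInvertible_tensorMod hN (HodgeQ27.inv_tw i m)
    rw [HodgeQ27.tw_pow, mul_one, HodgeQ27.tw, InvCl.mk_mul, hφ, chiCl_mk,
      euler_congr k X (AmpleLib.unitTensorIso _)]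
    exact eulerCharLE_eq k _ (isQCoh_of_isInvertible hT) hdim.le
  have hA : ∀ m : ℕ, φ (l * HodgeQ27.tw i 1 ^ m) = ∑ j : Fin (s + 2), a j * ((m + j).choose j : ℤ) :=
    fun m => (hval hL m).symm.trans (ha m)
  have hE : ∀ m : ℕ, φ (HodgeQ27.tw i 1 ^ m) = ∑ j : Fin (s + 2), e j * ((m + j).choose j : ℤ) := by
    intro m
    have h := (hval (N := Coh.structureModule X) isInvertible_structureModule m).symm.trans (he m)
    rwa [show InvCl.mk (Coh.structureModule X) isInvertible_structureModule = 1 from rfl, one_mul] at h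
  have hD : ∀ (r : ℕ) (c : Fin (s + 2) → ℤ), HodgeQ27.Diff r
      (fun m : ℕ => ∑ j : Fin (s + 2), c j * ((m + j).choose j : ℤ)) 0 =
      ∑ j : Fin (s + 2), c j * if r ≤ (j : ℕ) then ((j : ℕ).choose ((j : ℕ) - r) : ℤ) else 0 := by
    intro r c
    rw [HodgeQ27.diff_sum]
    refine Finset.sum_congr rfl fun j _ => ?_
    rw [HodgeQ27.diff_choose, Nat.zero_add]
  have hlast : ∀ c : Fin (s + 2) → ℤ, HodgeQ27.Diff (s + 1)
      (fun m : ℕ => ∑ j : Fin (s + 2), c j * ((m + j).choose j : ℤ)) 0 = c (Fin.last (s + 1)) := by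
    intro c
    rw [hD, Finset.sum_eq_single (Fin.last (s + 1))]
    · rw [if_pos (by simp), Fin.val_last, Nat.sub_self, Nat.choose_zero_right, Nat.cast_one, mul_one]
    · intro j _ hj
      rw [if_neg, mul_zero]
      have := Fin.val_lt_last hj
      omega
    · simp
  have hψ : (fun m : ℕ => φ (l * HodgeQ27.tw i 1 ^ m) - φ (HodgeQ27.tw i 1 ^ m)) =
      fun m : ℕ => ∑ j : Fin (s + 2), (a j - e j) * ((m + j).choose j : ℤ) := funext fun m => by
    rw [hA, hE, ← Finset.sum_sub_distrib]
    exact Finset.sum_congr rfl fun j _ => by ring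
  have top : a (Fin.last (s + 1)) = e (Fin.last (s + 1)) := by
    have h0 : interDeg (fun _ : Fin (s + 1) => HodgeQ27.tw i 1) (fun x => φ (l * x) - φ x) = 0 :=
      interDeg_eq_zero _ (hdeg.diff l)
    rw [HodgeQ27.interDeg_const_diff, hψ, hlast] at h0
    exact sub_eq_zero.1 h0
  have hinv : HodgeQ27.tw i 1 * HodgeQ27.tw i (-1) = 1 := by
    rw [HodgeQ27.tw_add, show (1 : ℤ) + -1 = 0 by ring, HodgeQ27.tw_zero]
  refine ⟨top, ?_, ?_⟩
  · refine Eq.trans ?_ ((intNum_eq k _ (fun _ => HodgeQ27.inv_tw i (-1)) (isCoh_structureModule X) hdim.le).trans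
      (altSum_of_inverse (fun _ : Fin (s + 1) => HodgeQ27.tw i 1) _ (fun _ => hinv) hdeg)).symm
    rw [HodgeQ27.interDeg_const_diff, funext hE, hlast]
    exact top
  · rw [intNum_eq k _ (fun j => Fin.cases (motive := fun j => PicF.IsInvertible
      ((Matrix.vecCons L' (fun _ : Fin s => (Scheme.Modules.pullback i).obj (Twist.twistProjSpace n k (-1))) :
        Fin (s + 1) → X.Modules) j)) hL' (fun _ => HodgeQ27.inv_tw i (-1)) j)
      (isCoh_structureModule X) hdim.le,
      altSum_of_inverse (Fin.cons l (fun _ => HodgeQ27.tw i 1) : Fin (s + 1) → InvCl X) _ (fun j => ?_) hdeg]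
    · rw [interDeg_cons, HodgeQ27.interDeg_const_diff, hψ, hD, Fin.sum_univ_castSucc, Fin.sum_univ_castSucc,
        Finset.sum_eq_zero (fun j _ => ?_), if_pos (by simp), if_pos (by simp)]
      · rw [top, sub_self, zero_mul, add_zero, zero_add]
        simp
      · rw [if_neg, mul_zero]
        have := j.2
        simp only [Fin.val_castSucc]
        omega
    · induction j using Fin.cases with
      | zero => exact (InvCl.mk_mul hL hL').trans (InvCl.mk_eq _ isInvertible_structureModule e')
      | succ j => exact hinv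

end Groth.Agent.S5644
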