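import Groth.Statements.S5656
import Mathlib.RingTheory.Binomial
import Mathlib.Algebra.Polynomial.Roots
import Mathlib.RingTheory.Polynomial.Pochhammer
import Mathlib.Tactic

set_option autoImplicit false
universe u
open W4sga6xxiii

namespace Groth.Agent.S5656

/-- Let G be an abelian group and G' ⊆ G a subgroup which is divisible by some prime number p (every
element of G' is p times an element of G') and such that G/G' is a torsion group. Then every
polynomial map f : G → ℚ (admitting binomial expansions f(Σ n_i x_i) = Σ_k Π_i C(n_i, k_i) y_k along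
every finite sequence x) which takes only integer values is constant. -/
theorem result {G : Type u} [AddCommGroup G] (G' : AddSubgroup G)
    (p : ℕ) (hp : p.Prime) (hdiv : ∀ x ∈ G', ∃ y ∈ G', p • y = x) (htor : ∀ x : G, ∃ n : ℤ, n ≠ 0 ∧ n • x ∈ G')
    (f : G → ℚ) (hf : W4sga6xxiii.IsPolyMap f) (hint : ∀ x, ∃ z : ℤ, f x = z) (x : G) : f x = f 0 := by
  have hpoly : ∀ z : G, ∃ P : Polynomial ℚ, ∀ n : ℤ, f (n • z) = P.eval (n : ℚ) := by
    intro z
    obtain ⟨m, y, -, hy⟩ := hf 1 (fun _ => z)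
    refine ⟨∑ k : Fin 1 → Fin (m + 1), Polynomial.C (y k / ((k 0 : ℕ).factorial : ℚ)) * descPochhammer ℚ (k 0 : ℕ), fun n => ?_⟩
    have h := hy (fun _ => n)
    rw [Fin.sum_univ_one] at h
    rw [h, Polynomial.eval_finsetSum]
    refine Finset.sum_congr rfl fun k _ => ?_
    rw [Fin.prod_univ_one, Polynomial.eval_mul, Polynomial.eval_C, zsmul_eq_mul]
    have hc : (descPochhammer ℚ (k 0 : ℕ)).eval (n : ℚ) = ((k 0 : ℕ).factorial : ℚ) * (Ring.choose n (k 0 : ℕ) : ℤ) := by
      rw [← descPochhammer_map (Int.castRingHom ℚ), Polynomial.eval_intCast_map, Polynomial.eval_eq_smeval,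
        Ring.descPochhammer_eq_factorial_smul_choose]
      simp
    rw [hc]
    field_simp
  -- constancy on `G'`
  have hG : ∀ a ∈ G', f a = f 0 := by
    intro a ha
    obtain ⟨P, hP⟩ := hpoly a
    have hz : ∀ j : ℕ, ∃ z : G, ((p : ℤ) ^ j) • z = a := by
      have hz' : ∀ j : ℕ, ∀ b ∈ G', ∃ z ∈ G', ((p : ℤ) ^ j) • z = b := by
        intro j
        induction j with
        | zero => exact fun b hb => ⟨b, hb, by simp⟩
        | succ j ih =>
          intro b hb
          obtain ⟨y, hy, hyb⟩ := hdiv b hb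
          obtain ⟨z, hzG, hz⟩ := ih y hy
          refine ⟨z, hzG, ?_⟩
          rw [pow_succ', mul_smul, hz, natCast_zsmul, hyb]
      exact fun j => (hz' j a ha).imp fun z h => h.2
    have hval : ∀ j : ℕ, ∃ w : ℤ, P.eval (((p : ℚ) ^ j)⁻¹) = w := by
      intro j
      obtain ⟨z, hz⟩ := hz j
      obtain ⟨Q, hQ⟩ := hpoly z
      have hpj : ((p : ℚ) ^ j) ≠ 0 := pow_ne_zero _ (Nat.cast_ne_zero.2 hp.ne_zero)
      have heq : P = Q.comp (Polynomial.C ((p : ℚ) ^ j) * Polynomial.X) := by
        refine Polynomial.eq_of_infinite_eval_eq _ _ (Set.infinite_of_injective_forall_mem (f := fun n : ℤ => (n : ℚ))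
          Int.cast_injective fun n => ?_)
        show P.eval (n : ℚ) = (Q.comp _).eval (n : ℚ)
        rw [← hP, Polynomial.eval_comp, Polynomial.eval_mul, Polynomial.eval_C, Polynomial.eval_X, ← hz, smul_smul, hQ]
        push_cast
        ring_nf
      obtain ⟨w, hw⟩ := hint ((1 : ℤ) • z)
      refine ⟨w, ?_⟩
      rw [heq, Polynomial.eval_comp, Polynomial.eval_mul, Polynomial.eval_C, Polynomial.eval_X, mul_inv_cancel₀ hpj,
        ← Int.cast_one, ← hQ, hw]
    have hP0 : P.eval 0 = f 0 := by simpa using (hP 0).symm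
    let M : ℚ := ∑ i ∈ Finset.range (P.divX.natDegree + 1), |P.divX.coeff i|
    have hM : ∀ t : ℚ, 0 ≤ t → t ≤ 1 → |P.eval t - P.eval 0| ≤ t * M := by
      intro t ht0 ht1
      have h1 : P.eval t - P.eval 0 = t * P.divX.eval t := by
        have h0 := congrArg (fun Q : Polynomial ℚ => Q.eval t) P.divX_mul_X_add
        simp only [Polynomial.eval_add, Polynomial.eval_mul, Polynomial.eval_X, Polynomial.eval_C, Polynomial.coeff_zero_eq_eval_zero] at h0
        linarith
      rw [h1, abs_mul, abs_of_nonneg ht0, Polynomial.eval_eq_sum_range]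
      refine mul_le_mul_of_nonneg_left ((Finset.abs_sum_le_sum_abs _ _).trans (Finset.sum_le_sum fun i _ => ?_)) ht0
      rw [abs_mul, abs_of_nonneg (pow_nonneg ht0 i)]
      exact mul_le_of_le_one_right (abs_nonneg _) (pow_le_one₀ ht0 ht1)
    obtain ⟨J, hJ⟩ : ∃ J : ℕ, M < (p : ℚ) ^ J := pow_unbounded_of_one_lt M (by exact_mod_cast hp.one_lt)
    have hp1 : (1 : ℚ) < p := by exact_mod_cast hp.one_lt
    have hconst : P = Polynomial.C (f 0) := by
      refine Polynomial.eq_of_infinite_eval_eq _ _ (Set.infinite_of_injective_forall_mem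
        (f := fun j : ℕ => ((p : ℚ) ^ (j + J))⁻¹) ?_ fun j => ?_)
      · intro i j hij
        simpa using pow_right_injective₀ (by positivity) hp1.ne' (inv_injective hij)
      show P.eval _ = (Polynomial.C (f 0)).eval _
      rw [Polynomial.eval_C]
      have hpos : (0 : ℚ) < (p : ℚ) ^ (j + J) := by positivity
      have h1 := hM _ (inv_nonneg.2 hpos.le) (inv_le_one_of_one_le₀ (one_le_pow₀ hp1.le))
      obtain ⟨w, hw⟩ := hval (j + J)
      obtain ⟨w0, hw0⟩ := hint 0
      have h2 : ((p : ℚ) ^ (j + J))⁻¹ * M < 1 := by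
        rw [inv_mul_lt_one₀ hpos]
        exact hJ.trans_le (pow_le_pow_right₀ hp1.le (by omega))
      have h3 : |(w : ℚ) - w0| < 1 := by
        rw [← hw, ← hw0, ← hP0]
        exact h1.trans_lt h2
      rw [hw, hw0]
      rw [← Int.cast_sub, ← Int.cast_abs, ← Int.cast_one, Int.cast_lt, Int.abs_lt_one_iff, sub_eq_zero] at h3
      rw [h3]
    have h1 := hP 1
    rw [one_smul, hconst, Polynomial.eval_C] at h1
    exact h1
  obtain ⟨N, hN, hNx⟩ := htor x
  obtain ⟨P, hP⟩ := hpoly x
  have hconst : P = Polynomial.C (f 0) := by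
    refine Polynomial.eq_of_infinite_eval_eq _ _ (Set.infinite_of_injective_forall_mem
      (f := fun k : ℤ => ((k * N : ℤ) : ℚ)) ?_ fun k => ?_)
    · intro a b hab
      exact mul_right_cancel₀ hN (Int.cast_injective hab)
    · show P.eval _ = _
      rw [← hP, mul_smul, hG _ (G'.zsmul_mem hNx k), Polynomial.eval_C]
  have h1 := hP 1
  rwa [one_smul, hconst, Polynomial.eval_C] at h1

end Groth.Agent.S5656
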