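import Groth.Statements.S5657
import Mathlib.Tactic
import Mathlib.RingTheory.Ideal.Operations

set_option autoImplicit false
universe u
open TensorProduct
open W4sga6xxiii

namespace Groth.Agent.S5657

/-- Let A be a commutative ring, I an ideal of A with I^{m+1} = 0, and P ⊆ Aˣ the subgroup of units of
the form 1 + y with y ∈ I. Then the map P → A ⊗_ℤ ℚ, x ↦ x ⊗ 1, is a polynomial map of degree ≤ m on
the abelian group P (written additively): along every finite sequence x_1, …, x_r in P one has
x_1^{n_1}⋯x_r^{n_r} ⊗ 1 = Σ_k Π_i C(n_i, k_i) y_k with y_k = 0 whenever k_1 + ⋯ + k_r > m. -/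
theorem result (A : Type u) [CommRing A] (I : Ideal A) (m : ℕ) (hI : I ^ (m + 1) = ⊥)
    (P : Subgroup Aˣ) (hP : ∀ u : Aˣ, u ∈ P ↔ (u : A) - 1 ∈ I) :
    W4sga6xxiii.IsPolyMapLE (fun u : Additive P => (((Additive.toMul u : P) : Aˣ) : A) ⊗ₜ[ℤ] (1 : ℚ)) m := by
  intro r x
  let y : Fin r → A := fun i => (((Additive.toMul (x i) : P) : Aˣ) : A) - 1
  have hy : ∀ i, y i ∈ I := fun i => (hP _).1 (Additive.toMul (x i)).2
  refine ⟨fun k => (∏ i, y i ^ (k i : ℕ)) ⊗ₜ[ℤ] (1 : ℚ), fun k hk => ?_, fun n => ?_⟩
  · have hmem : (∏ i, y i ^ (k i : ℕ)) ∈ I ^ (m + 1) := by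
      refine Ideal.pow_le_pow_right hk ?_
      rw [← Finset.prod_pow_eq_pow_sum]
      exact Ideal.prod_mem_prod fun i _ => Ideal.pow_mem_pow (hy i) _
    rw [hI, Ideal.mem_bot] at hmem
    simp only [hmem, TensorProduct.zero_tmul]
  · have hone : ∀ (u : Aˣ), (u : A) - 1 ∈ I → ∀ j : ℤ,
        ((u ^ j : Aˣ) : A) = ∑ l : Fin (m + 1), Ring.choose j (l : ℕ) • ((u : A) - 1) ^ (l : ℕ) := by
      intro u hu
      have htop : ((u : A) - 1) ^ (m + 1) = 0 := by
        have := Ideal.pow_mem_pow hu (m + 1); rwa [hI, Ideal.mem_bot] at this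
      let S : ℤ → A := fun j => ∑ l : Fin (m + 1), Ring.choose j (l : ℕ) • ((u : A) - 1) ^ (l : ℕ)
      have h0 : S 0 = 1 := by
        simp [S, Fin.sum_univ_succ]
      have hS : ∀ j, S (j + 1) = S j * u := by
        intro j
        set z := (u : A) - 1 with hz
        rw [show (u : A) = 1 + z by rw [hz]; ring, mul_add, mul_one]
        have hz' : ∀ i : ℤ, S i = ∑ l ∈ Finset.range (m + 1), Ring.choose i l • z ^ l := fun i =>
          (Finset.sum_range fun l => Ring.choose i l • z ^ l).symm
        have e2 : S j * z = ∑ l ∈ Finset.range m, Ring.choose j l • z ^ (l + 1) := by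
          rw [hz', Finset.sum_mul, Finset.sum_range_succ, smul_mul_assoc, ← pow_succ, htop, smul_zero, add_zero]
          simp only [smul_mul_assoc, ← pow_succ]
        rw [e2, hz', hz', Finset.sum_range_succ', Finset.sum_range_succ' (fun l => Ring.choose j l • z ^ l)]
        simp only [Ring.choose_succ_succ, add_smul, Finset.sum_add_distrib, Ring.choose_zero_right]
        abel
      intro j
      show _ = S j
      induction j using Int.induction_on with
      | zero => rw [h0, zpow_zero, Units.val_one]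
      | succ i ih => rw [hS, ← ih, zpow_add_one, Units.val_mul]
      | pred i ih =>
        have h1 := hS (-(i : ℤ) - 1)
        rw [sub_add_cancel, ← ih] at h1
        rw [zpow_sub_one, Units.val_mul, h1, mul_assoc, Units.mul_inv, mul_one]
    have hval : (((Additive.toMul (∑ i, n i • x i) : P) : Aˣ) : A) =
        ∏ i, (((Additive.toMul (x i) : P) : Aˣ) ^ n i : Aˣ).val := by
      rw [toMul_sum, Subgroup.val_finsetProd, Units.coe_prod]
      exact Finset.prod_congr rfl fun i _ => by rw [toMul_zsmul, Subgroup.coe_zpow]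
    dsimp only
    rw [hval, Finset.prod_congr rfl fun i _ => hone _ (hy i) (n i), Fintype.prod_sum, TensorProduct.sum_tmul]
    refine Finset.sum_congr rfl fun k _ => ?_
    rw [TensorProduct.smul_tmul']
    congr 1
    simp only [zsmul_eq_mul, Finset.prod_mul_distrib, Int.cast_prod]
    rfl

end Groth.Agent.S5657
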