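import Groth.Statements.S5662
import Groth.Agent.PicLib.BasisOn
import Groth.Agent.H8Coh.PullSquare

set_option backward.isDefEq.respectTransparency false
-- import your own Groth.Agent.* helpers here

set_option autoImplicit false
universe u
open CategoryTheory CategoryTheory.Limits AlgebraicGeometry
open FlatMor

namespace Groth.Agent.S5662

open Opposite TopologicalSpace Groth.Agent.Coherent Groth.Agent.PicLib

section

variable {X Y : Scheme.{u}} (f : X ⟶ Y) {M : Y.Modules}

noncomputable abbrev p₁ : pullback f f ⟶ X := pullback.fst f f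

noncomputable abbrev p₂ : pullback f f ⟶ X := pullback.snd f f

/-- The canonical comparison of the two pullbacks. -/
noncomputable def theta (M : Y.Modules) :
    (Scheme.Modules.pullback (p₁ f)).obj ((Scheme.Modules.pullback f).obj M) ⟶
      (Scheme.Modules.pullback (p₂ f)).obj ((Scheme.Modules.pullback f).obj M) :=
  (Scheme.Modules.pullbackComp (p₁ f) f).hom.app M ≫
    (Scheme.Modules.pullbackCongr (pullback.condition (f := f) (g := f))).hom.app M ≫
    (Scheme.Modules.pullbackComp (p₂ f) f).inv.app M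

theorem le₂ (U : Y.Opens) : p₁ f ⁻¹ᵁ (f ⁻¹ᵁ U) ≤ p₂ f ⁻¹ᵁ (f ⁻¹ᵁ U) := fun x hx => by
  show (p₂ f ≫ f) x ∈ U
  rw [← pullback.condition]
  exact hx

theorem theta_app (M : Y.Modules) {U : Y.Opens} (m : Γ(M, U)) :
    (theta f M).app _ (pullSec (p₁ f) (pullSec f m)) = resM _ (le₂ f U) (pullSec (p₂ f) (pullSec f m)) :=
  H8Coh.sq_app_pullSec (p₁ f) f (p₂ f) f (pullback.condition (f := f) (g := f)).symm M m

/-- A section of the pullback with equal pullbacks. -/
def Good (M : Y.Modules) (U : Y.Opens) (t : Γ((Scheme.Modules.pullback f).obj M, f ⁻¹ᵁ U)) : Prop :=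
  (theta f M).app _ (pullSec (p₁ f) t) = resM _ (le₂ f U) (pullSec (p₂ f) t)

variable (hU : ∀ U : Y.Opens, (pullback.fst f f) ⁻¹ᵁ (f ⁻¹ᵁ U) = (pullback.snd f f) ⁻¹ᵁ (f ⁻¹ᵁ U))
  (hinj : ∀ U : Y.Opens, Function.Injective (f.app U))
  (hex : ∀ (U : Y.Opens) (a : Γ(X, f ⁻¹ᵁ U)),
      (pullback.fst f f).app (f ⁻¹ᵁ U) a =
        ((pullback f f).presheaf.map (eqToHom (hU U)).op) ((pullback.snd f f).app (f ⁻¹ᵁ U) a) →
      a ∈ Set.range (f.app U))

include hU hinj hex

theorem pullSec_bijOn (hM : FlatMod.IsFinLocFree M) (U : Y.Opens) :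
    Function.Injective (pullSec f : Γ(M, U) → _) ∧ ∀ t, Good f M U t → ∃ a : Γ(M, U), pullSec f a = t := by
  choose W n z hmem hz using exists_isBasisOn hM
  let F := (Scheme.Modules.pushforward f).obj ((Scheme.Modules.pullback f).obj M)
  let η : M ⟶ F := (Scheme.Modules.pullbackPushforwardAdjunction f).unit.app M
  let P := (Scheme.Modules.pullback f).obj M
  have hcov : ∀ V : Y.Opens, V ≤ ⨆ y, V ⊓ W y := fun V x hx => Opens.mem_iSup.2 ⟨x, hx, hmem x⟩
  have hsum : ∀ (y : Y) (V : Y.Opens) (h : V ≤ W y) (c : ULift.{u} (Fin (n y)) → Γ(Y, V)),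
      pullSec f (∑ i, c i • resM M h (z y i)) =
        ∑ i, f.app V (c i) • resM P ((Opens.map f.base).map (homOfLE h)).le (pullSec f (z y i)) := by
    intro y V h c
    refine (map_sum (η.app V).hom _ _).trans (Finset.sum_congr rfl fun i _ => (pullSec_smul f _ _).trans ?_)
    rw [resM_pullSec]
  have hinjM : ∀ V : Y.Opens, Function.Injective (pullSec f : Γ(M, V) → _) := by
    intro V a b hab
    refine TopCat.Sheaf.eq_of_locally_eq' (⟨M.presheaf, M.isSheaf⟩ : TopCat.Sheaf Ab Y)
      (fun y => V ⊓ W y) V (fun y => homOfLE inf_le_left) (hcov V) a b fun y => ?_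
    have hab' : pullSec f (resM M (inf_le_left : V ⊓ W y ≤ V) a) = pullSec f (resM M inf_le_left b) :=
      ((resM_pullSec f inf_le_left a).symm.trans (congrArg _ hab)).trans (resM_pullSec f inf_le_left b)
    obtain ⟨c, hc⟩ := (hz y (inf_le_right : V ⊓ W y ≤ W y)).2 (resM M inf_le_left a)
    obtain ⟨d, hd⟩ := (hz y (inf_le_right : V ⊓ W y ≤ W y)).2 (resM M inf_le_left b)
    show resM M (inf_le_left : V ⊓ W y ≤ V) a = resM M inf_le_left b
    rw [← hc, ← hd] at hab' ⊢
    rw [hsum, hsum] at hab'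
    rw [funext fun i => hinj _ (congrFun (((hz y).pull f
      (V := f ⁻¹ᵁ (V ⊓ W y)) ((Opens.map f.base).map (homOfLE inf_le_right)).le).1 hab') i)]
  refine ⟨hinjM U, fun t ht => ?_⟩
  have hloc : ∀ y, ∃ a : Γ(M, U ⊓ W y), pullSec f a =
      resM P ((Opens.map f.base).map (homOfLE (inf_le_left : U ⊓ W y ≤ U))).le t := by
    intro y
    let V := U ⊓ W y
    have hV : V ≤ U := inf_le_left
    have hVW : V ≤ W y := inf_le_right
    have hVf : f ⁻¹ᵁ V ≤ f ⁻¹ᵁ U := ((Opens.map f.base).map (homOfLE hV)).le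
    have hWf : f ⁻¹ᵁ V ≤ f ⁻¹ᵁ W y := ((Opens.map f.base).map (homOfLE hVW)).le
    have hp₁ : p₁ f ⁻¹ᵁ (f ⁻¹ᵁ V) ≤ p₁ f ⁻¹ᵁ (f ⁻¹ᵁ U) := fun x hx => hVf hx
    have hp₂ : p₂ f ⁻¹ᵁ (f ⁻¹ᵁ V) ≤ p₂ f ⁻¹ᵁ (f ⁻¹ᵁ U) := fun x hx => hVf hx
    let t' := resM P hVf t
    have ht' : Good f M V t' := by
      show (theta f M).app _ (pullSec (p₁ f) (resM P hVf t)) =
        resM _ (le₂ f V) (pullSec (p₂ f) (resM P hVf t))
      rw [← resM_pullSec, ← resM_pullSec, app_resM, ht]
      exact (resM_resM _ _ _ _).trans (resM_resM _ _ _ _).symm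
    obtain ⟨c, hc⟩ := ((hz y).pull f hWf).2 t'
    dsimp only at hc
    have hb := ((hz y).pull f).pull (p₂ f)
    let w : ULift.{u} (Fin (n y)) → _ := fun i => pullSec (p₂ f) (pullSec f (z y i))
    have hkey : (fun i => (p₁ f).app (f ⁻¹ᵁ V) (c i)) =
        fun i => res (le₂ f V) ((p₂ f).app (f ⁻¹ᵁ V) (c i)) := by
      refine (hb (V := p₁ f ⁻¹ᵁ (f ⁻¹ᵁ V)) ((le₂ f V).trans fun x hx => hWf hx)).1 ?_
      dsimp only
      let η₁ := ((Scheme.Modules.pullbackPushforwardAdjunction (p₁ f)).unit.app P).app (f ⁻¹ᵁ V)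
      let η₂ := ((Scheme.Modules.pullbackPushforwardAdjunction (p₂ f)).unit.app P).app (f ⁻¹ᵁ V)
      have h1 : (theta f M).app _ (pullSec (p₁ f) t') =
          ∑ i, (p₁ f).app (f ⁻¹ᵁ V) (c i) • resM _ ((le₂ f V).trans fun x hx => hWf hx) (w i) := by
        rw [← hc]
        refine (congrArg _ (map_sum η₁.hom _ _)).trans ((map_sum ((theta f M).app _).hom _ _).trans
          (Finset.sum_congr rfl fun i _ => ?_))
        refine (congrArg _ (pullSec_smul (p₁ f) (c i) _)).trans ((Scheme.Modules.Hom.app_smul _ _ _).trans ?_)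
        rw [← resM_pullSec, app_resM, theta_app, resM_resM]
      have h2 : resM _ (le₂ f V) (pullSec (p₂ f) t') =
          ∑ i, res (le₂ f V) ((p₂ f).app (f ⁻¹ᵁ V) (c i)) •
            resM _ ((le₂ f V).trans fun x hx => hWf hx) (w i) := by
        rw [← hc]
        refine (congrArg _ (map_sum η₂.hom _ _)).trans ((map_sum (resM _ (le₂ f V)) _ _).trans
          (Finset.sum_congr rfl fun i _ => ?_))
        refine (congrArg _ (pullSec_smul (p₂ f) (c i) _)).trans ((resM_smul _ _ _ _).trans ?_)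
        rw [← resM_pullSec, resM_resM]
      exact h1.symm.trans (ht'.trans h2)
    choose a ha using fun i => hex V (c i) (congrFun hkey i)
    refine ⟨∑ i, a i • resM M hVW (z y i), ?_⟩
    rw [hsum]
    show _ = t'
    rw [← hc]
    exact Finset.sum_congr rfl fun i _ => by rw [ha i]
  choose x hx using hloc
  obtain ⟨a, ha⟩ : ∃ a : Γ(M, U), ∀ y, resM M (inf_le_left : U ⊓ W y ≤ U) a = x y := by
    refine (TopCat.Sheaf.existsUnique_gluing' (⟨M.presheaf, M.isSheaf⟩ : TopCat.Sheaf Ab Y)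
      (fun y => U ⊓ W y) U (fun y => homOfLE inf_le_left) (hcov U) x (fun y y' => hinjM _ ?_)).exists
    show pullSec f (resM M _ (x y)) = pullSec f (resM M _ (x y'))
    rw [← resM_pullSec, ← resM_pullSec, hx, hx]
    exact (resM_resM P _ _ t).trans (resM_resM P _ _ t).symm
  refine ⟨a, TopCat.Sheaf.eq_of_locally_eq' (⟨F.presheaf, F.isSheaf⟩ : TopCat.Sheaf Ab Y)
      (fun y => U ⊓ W y) U (fun y => homOfLE inf_le_left) (hcov U) _ t fun y => ?_⟩
  show resM P ((Opens.map f.base).map (homOfLE (inf_le_left : U ⊓ W y ≤ U))).le (pullSec f a) =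
    resM P ((Opens.map f.base).map (homOfLE (inf_le_left : U ⊓ W y ≤ U))).le t
  rw [resM_pullSec f (inf_le_left : U ⊓ W y ≤ U), ha y]
  exact hx y

end

/-- Let f : X ⟶ Y be a morphism of schemes, p₁, p₂ : X ×_Y X ⟶ X the projections and g = p₁ ≫ f. Assume
that the sequence O_Y → f_*O_X ⇉ g_*O_{X ×_Y X} is exact, i.e. on every open U ⊆ Y the sections of
O_Y are exactly the sections of O_X over f⁻¹U whose two pullbacks to g⁻¹U agree (hypotheses hinj,
hex; hU is the bookkeeping identity of the two preimage opens). Then f is a morphism of descent for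
finite locally free modules: for finite locally free O_Y-modules L and M, every morphism φ : f^*L ⟶
f^*M whose pullbacks along p₁ and p₂ agree (compared through the canonical isomorphisms p_i^* f^* ≅
(p_i ≫ f)^* and p₁ ≫ f = p₂ ≫ f) is f^*ψ for a unique ψ : L ⟶ M. (The published statement is made
under further standing hypotheses (a surjective morphism between schemes proper and of finite
presentation over an integral Noetherian base, with flatness conditions), of which its proof uses
only the exactness above; this row assumes only that exactness.) -/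
theorem result {X Y : Scheme.{u}} (f : X ⟶ Y)
    (hU : ∀ U : Y.Opens, (pullback.fst f f) ⁻¹ᵁ (f ⁻¹ᵁ U) = (pullback.snd f f) ⁻¹ᵁ (f ⁻¹ᵁ U))
    (hinj : ∀ U : Y.Opens, Function.Injective (f.app U))
    (hex : ∀ (U : Y.Opens) (a : Γ(X, f ⁻¹ᵁ U)),
      (pullback.fst f f).app (f ⁻¹ᵁ U) a =
        ((pullback f f).presheaf.map (eqToHom (hU U)).op) ((pullback.snd f f).app (f ⁻¹ᵁ U) a) →
      a ∈ Set.range (f.app U))
    (L M : Y.Modules) (hL : FlatMod.IsFinLocFree L) (hM : FlatMod.IsFinLocFree M)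
    (φ : (Scheme.Modules.pullback f).obj L ⟶ (Scheme.Modules.pullback f).obj M)
    (hφ : ((Scheme.Modules.pullbackComp (pullback.fst f f) f).app L).inv ≫
        (Scheme.Modules.pullback (pullback.fst f f)).map φ ≫ ((Scheme.Modules.pullbackComp (pullback.fst f f) f).app M).hom =
      ((Scheme.Modules.pullbackCongr (pullback.condition (f := f) (g := f))).app L).hom ≫
        ((Scheme.Modules.pullbackComp (pullback.snd f f) f).app L).inv ≫
        (Scheme.Modules.pullback (pullback.snd f f)).map φ ≫ ((Scheme.Modules.pullbackComp (pullback.snd f f) f).app M).hom ≫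
        ((Scheme.Modules.pullbackCongr (pullback.condition (f := f) (g := f))).app M).inv) :
    ∃! ψ : L ⟶ M, (Scheme.Modules.pullback f).map ψ = φ := by
  have hsq : theta f L ≫ (Scheme.Modules.pullback (p₂ f)).map φ =
      (Scheme.Modules.pullback (p₁ f)).map φ ≫ theta f M := by
    rw [← cancel_epi ((Scheme.Modules.pullbackComp (pullback.fst f f) f).app L).inv,
      ← cancel_mono (((Scheme.Modules.pullbackComp (pullback.snd f f) f).app M).hom ≫
        ((Scheme.Modules.pullbackCongr (pullback.condition (f := f) (g := f))).app M).inv)]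
    simpa [theta] using hφ.symm
  have hgood : ∀ (U : Y.Opens) (s : Γ(L, U)), Good f M U (φ.app _ (pullSec f s)) := by
    intro U s
    show (theta f M).app _ (pullSec (p₁ f) (φ.app _ (pullSec f s))) =
      resM _ (le₂ f U) (pullSec (p₂ f) (φ.app _ (pullSec f s)))
    rw [← H8Lim.map_app_pullSec, ← H8Lim.map_app_pullSec, ← app_resM, ← theta_app]
    exact congr(($hsq).app _ (pullSec (p₁ f) (pullSec f s))).symm
  choose g hg using fun (U : Y.Opens) (s : Γ(L, U)) => (pullSec_bijOn f hU hinj hex hM U).2 _ (hgood U s)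
  have hu : ∀ (U : Y.Opens) (s : Γ(L, U)) (a : Γ(M, U)), pullSec f a = φ.app _ (pullSec f s) → g U s = a :=
    fun U s a ha => (pullSec_bijOn f hU hinj hex hM U).1 ((hg U s).trans ha.symm)
  have hadd : ∀ (U : Y.Opens) (s s' : Γ(L, U)), g U (s + s') = g U s + g U s' := fun U s s' => hu _ _ _ (by
    rw [H8Lim.pullSec_add, H8Lim.pullSec_add, hg, hg, map_add])
  let gA : ∀ U : Y.Opens, Γ(L, U) →+ Γ(M, U) := fun U => AddMonoidHom.mk' (g U) (hadd U)
  let ψ₀ : L.val ⟶ M.val := PresheafOfModules.homMk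
    { app := fun U => AddCommGrpCat.ofHom (gA U.unop)
      naturality := fun V U i => ConcreteCategory.hom_ext _ _ fun s => hu U.unop _ _ (by
        show pullSec f (resM M (leOfHom i.unop) (g V.unop s)) = φ.app _ (pullSec f (resM L (leOfHom i.unop) s))
        rw [← resM_pullSec, hg, ← resM_pullSec, app_resM]) }
    (fun U r s => hu U.unop _ _ (by
      show pullSec f ((show Γ(Y, U.unop) from r) • g U.unop s) = φ.app _ (pullSec f ((show Γ(Y, U.unop) from r) • s))
      rw [pullSec_smul, pullSec_smul, hg, Scheme.Modules.Hom.app_smul]))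
  refine ⟨⟨ψ₀⟩, ?_, fun ψ' hψ' => ?_⟩
  · refine ((Scheme.Modules.pullbackPushforwardAdjunction f).homEquiv _ _).injective ?_
    refine Scheme.Modules.hom_ext _ _ fun U => ConcreteCategory.hom_ext _ _ fun s => ?_
    rw [Adjunction.homEquiv_unit, Adjunction.homEquiv_unit]
    show ((Scheme.Modules.pullback f).map _).app (f ⁻¹ᵁ U) (pullSec f s) = φ.app (f ⁻¹ᵁ U) (pullSec f s)
    rw [H8Lim.map_app_pullSec]
    exact hg U s
  · refine Scheme.Modules.hom_ext _ _ fun U => ConcreteCategory.hom_ext _ _ fun s => ?_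
    refine (hu U s _ ?_).symm
    rw [← H8Lim.map_app_pullSec, hψ']

end Groth.Agent.S5662
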