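import Groth.Statements.S5665
import Mathlib
import Groth.Prelude

set_option linter.all false

set_option autoImplicit false
universe u
open CategoryTheory
open Dual

open CategoryTheory CategoryTheory.Abelian

namespace Groth.Agent.S5665

variable {A : Type u} [CommRing A]

lemma ext_ofList_aux (M : Type u) [AddCommGroup M] [Module A M] :
    ∀ xs : List A, RingTheory.Sequence.IsWeaklyRegular A xs →
      (∀ i, xs.length < i → Subsingleton (Abelian.Ext (ModuleCat.of A (A ⧸ Ideal.ofList xs)) (ModuleCat.of A M) i)) ∧
      Nonempty (Abelian.Ext (ModuleCat.of A (A ⧸ Ideal.ofList xs)) (ModuleCat.of A M) xs.length ≃ₗ[A]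
        (M ⧸ (Ideal.ofList xs • (⊤ : Submodule A M)))) := by
  intro xs
  induction xs using List.reverseRecOn with
  | nil =>
    intro _
    have h0 : Ideal.ofList ([] : List A) = ⊥ := Ideal.ofList_nil
    let e : (A ⧸ Ideal.ofList ([] : List A)) ≃ₗ[A] A := Submodule.quotEquivOfEqBot _ h0
    haveI : Module.Projective A (A ⧸ Ideal.ofList ([] : List A)) := Module.Projective.of_equiv e.symm
    haveI : Projective (ModuleCat.of A (A ⧸ Ideal.ofList ([] : List A))) :=
      (IsProjective.iff_projective _).1 ‹_›
    refine ⟨fun i hi => ?_, ⟨?_⟩⟩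
    · obtain ⟨n, rfl⟩ : ∃ n, i = n + 1 := ⟨i - 1, by simp at hi; omega⟩
      exact Abelian.Ext.subsingleton_of_projective _ _ _
    · exact Ext.linearEquiv₀ ≪≫ₗ ModuleCat.homLinearEquiv ≪≫ₗ
        (LinearEquiv.arrowCongr e (LinearEquiv.refl A M)) ≪≫ₗ LinearMap.ringLmapEquivSelf A A M ≪≫ₗ
        (Submodule.quotEquivOfEqBot _ (by rw [h0, Submodule.bot_smul])).symm
  | append_singleton ys x ih =>
    intro hreg
    rw [RingTheory.Sequence.isWeaklyRegular_append_iff, RingTheory.Sequence.isWeaklyRegular_singleton_iff] at hreg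
    obtain ⟨hys, hx⟩ := hreg
    obtain ⟨hvan, ⟨eq⟩⟩ := ih hys
    set I := Ideal.ofList ys with hI
    set J := Ideal.ofList (ys ++ [x]) with hJ
    have hJI : J = I ⊔ Ideal.span {x} := by rw [hJ, Ideal.ofList_append, Ideal.ofList_singleton]
    have hIJ : I ≤ J := hJI ▸ le_sup_left
    -- the short exact sequence 0 → A/I → A/I → A/J → 0
    let f : ModuleCat.of A (A ⧸ I) ⟶ ModuleCat.of A (A ⧸ I) := x • 𝟙 _
    let gl : (A ⧸ I) →ₗ[A] (A ⧸ J) := Submodule.factor hIJ
    have hgf : ∀ a : A ⧸ I, gl (x • a) = 0 := by
      intro a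
      obtain ⟨a, rfl⟩ := Submodule.Quotient.mk_surjective _ a
      rw [← Submodule.Quotient.mk_smul]
      change Submodule.Quotient.mk (x • a) = (0 : A ⧸ J)
      rw [Submodule.Quotient.mk_eq_zero, hJI, smul_eq_mul]
      exact Ideal.mem_sup_right (Ideal.mul_mem_right _ _ (Ideal.mem_span_singleton_self x))
    let S : ShortComplex (ModuleCat.{u} A) := ShortComplex.mk f (ModuleCat.ofHom gl) (by
      exact ModuleCat.hom_ext (LinearMap.ext fun a => hgf a))
    have hS : S.ShortExact :=
      { exact := by
          rw [ShortComplex.moduleCat_exact_iff]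
          intro (b : A ⧸ I) hb
          obtain ⟨b, rfl⟩ := Submodule.Quotient.mk_surjective _ b
          change (Submodule.Quotient.mk b : A ⧸ J) = 0 at hb
          rw [Submodule.Quotient.mk_eq_zero, hJI, Submodule.mem_sup] at hb
          obtain ⟨i, hi, j, hj, rfl⟩ := hb
          obtain ⟨c, rfl⟩ := Ideal.mem_span_singleton'.1 hj
          refine ⟨(Submodule.Quotient.mk c : A ⧸ I), ?_⟩
          change x • (Submodule.Quotient.mk c : A ⧸ I) = _
          rw [← Submodule.Quotient.mk_smul, Submodule.Quotient.eq, smul_eq_mul]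
          have : x * c - (i + c * x) = -i := by ring
          rw [this]; exact I.neg_mem hi
        mono_f := by
          rw [ModuleCat.mono_iff_injective]
          intro (a : A ⧸ I) (b : A ⧸ I) hab
          have hI' : (I • ⊤ : Submodule A A) = I := by simp
          have hab' : x • a = x • b := hab
          apply (Submodule.quotEquivOfEq _ _ hI').symm.injective
          apply hx
          simp only [← map_smul, hab']
        epi_g := by
          rw [ModuleCat.epi_iff_surjective]
          exact Submodule.factor_surjective hIJ }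
    have hf : ∀ {n : ℕ} (ξ : Abelian.Ext (ModuleCat.of A (A ⧸ I)) (ModuleCat.of A M) n),
        (Ext.mk₀ f).comp ξ (zero_add n) = x • ξ := fun ξ => by
      rw [Ext.mk₀_smul, Ext.smul_comp, Ext.mk₀_id_comp]
    have hlen : (ys ++ [x]).length = ys.length + 1 := by simp
    constructor
    · intro i hi
      rw [hlen] at hi
      obtain ⟨m, rfl⟩ : ∃ m, i = 1 + m := ⟨i - 1, by omega⟩
      refine subsingleton_of_forall_eq 0 fun z => ?_
      haveI := hvan (1 + m) (by omega)
      haveI := hvan m (by omega)
      obtain ⟨x₁, hx₁⟩ := Ext.contravariant_sequence_exact₃ hS (ModuleCat.of A M) z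
        (Subsingleton.elim (α := Abelian.Ext (ModuleCat.of A (A ⧸ I)) (ModuleCat.of A M) (1 + m)) _ _) rfl
      rw [← hx₁, Subsingleton.elim (α := Abelian.Ext (ModuleCat.of A (A ⧸ I)) (ModuleCat.of A M) m) x₁ 0,
        Ext.comp_zero]
    · rw [hlen, add_comm]
      let δ : Abelian.Ext (ModuleCat.of A (A ⧸ I)) (ModuleCat.of A M) ys.length →ₗ[A]
          Abelian.Ext (ModuleCat.of A (A ⧸ J)) (ModuleCat.of A M) (1 + ys.length) :=
        { toFun := fun ξ => hS.extClass.comp ξ rfl
          map_add' := fun a b => Ext.comp_add _ _ _ _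
          map_smul' := fun r a => Ext.comp_smul _ _ _ _ }
      have hδ : Function.Surjective δ := fun z => by
        haveI := hvan (1 + ys.length) (by omega)
        exact Ext.contravariant_sequence_exact₃ hS (ModuleCat.of A M) z
          (Subsingleton.elim (α := Abelian.Ext (ModuleCat.of A (A ⧸ I)) (ModuleCat.of A M) (1 + ys.length)) _ _) rfl
      have hle : I • (⊤ : Submodule A M) ≤ J • ⊤ := Submodule.smul_mono_left hIJ
      let π := (Submodule.factor hle) ∘ₗ eq.toLinearMap
      have hker : LinearMap.ker δ = LinearMap.ker π := by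
        ext ξ
        rw [LinearMap.mem_ker, LinearMap.mem_ker]
        constructor
        · intro h
          obtain ⟨x₂, rfl⟩ := Ext.contravariant_sequence_exact₁ hS (ModuleCat.of A M) ξ rfl h
          change Submodule.factor hle (eq ((Ext.mk₀ f).comp x₂ _)) = 0
          rw [hf, map_smul]
          obtain ⟨m, hm⟩ := Submodule.Quotient.mk_surjective _ (eq x₂)
          rw [← hm, ← Submodule.Quotient.mk_smul]
          change Submodule.Quotient.mk (x • m) = (0 : M ⧸ J • (⊤ : Submodule A M))
          rw [Submodule.Quotient.mk_eq_zero]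
          exact Submodule.smul_mem_smul (hJI ▸ Ideal.mem_sup_right (Ideal.mem_span_singleton_self x)) trivial
        · intro h
          change Submodule.factor hle (eq ξ) = 0 at h
          obtain ⟨m, hm⟩ := Submodule.Quotient.mk_surjective _ (eq ξ)
          rw [← hm] at h
          change Submodule.Quotient.mk m = (0 : M ⧸ J • (⊤ : Submodule A M)) at h
          rw [Submodule.Quotient.mk_eq_zero, hJI, Submodule.sup_smul, Submodule.mem_sup] at h
          obtain ⟨i, hi, j, hj, rfl⟩ := h
          rw [Submodule.ideal_span_singleton_smul, Submodule.mem_smul_pointwise_iff_exists] at hj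
          obtain ⟨w, -, rfl⟩ := hj
          have hξ : ξ = x • eq.symm (Submodule.Quotient.mk w) := by
            apply eq.injective
            rw [map_smul, eq.apply_symm_apply, ← hm, ← Submodule.Quotient.mk_smul, Submodule.Quotient.eq,
              add_sub_cancel_right]
            exact hi
          rw [hξ, ← hf]
          exact (Ext.comp_assoc _ _ _ (add_zero 1) (zero_add ys.length) (by omega)).symm.trans (by
            rw [show hS.extClass.comp (Ext.mk₀ f) (add_zero 1) = 0 from hS.extClass_comp, Ext.zero_comp])
      have hπ : Function.Surjective π := (Submodule.factor_surjective hle).comp eq.surjective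
      exact ⟨(δ.quotKerEquivOfSurjective hδ).symm ≪≫ₗ Submodule.quotEquivOfEq _ _ hker ≪≫ₗ
        π.quotKerEquivOfSurjective hπ⟩

/-- Let `A` be a commutative ring, `xs = (x_1, …, x_p)` a sequence in `A` such that each `x_i` is a
non-zero-divisor on `A/(x_1, …, x_{i-1})`, `J` the ideal generated by the `x_i` and `M` any
`A`-module. Then `Ext^p_A(A/J, M)` is isomorphic, as an `A`-module, to `M/JM`. (Existence of an
`A`-linear isomorphism only; the published isomorphism is the one induced by the Koszul complex of
`xs`.) -/
theorem result (A : Type u) [CommRing A] (xs : List A) (hreg : RingTheory.Sequence.IsWeaklyRegular A xs) (M : Type u) [AddCommGroup M] [Module A M] : Nonempty (Abelian.Ext (ModuleCat.of A (A ⧸ Ideal.ofList xs)) (ModuleCat.of A M) xs.length ≃ₗ[A] (M ⧸ (Ideal.ofList xs • (⊤ : Submodule A M)))) := by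
  exact (ext_ofList_aux M xs hreg).2

end Groth.Agent.S5665
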