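import Groth.Statements.S5666
import Mathlib
import Groth.Prelude

set_option linter.all false

set_option autoImplicit false
universe u
open CategoryTheory
open Dual

open CategoryTheory CategoryTheory.Abelian

namespace Groth.Agent.S5666

variable {A : Type u} [CommRing A]

/-- `a ↦ a • m` on a quotient of `A` killing `M`. -/
noncomputable def hatM (I : Ideal A) (M : Type u) [AddCommGroup M] [Module A M]
    (hIM : I • (⊤ : Submodule A M) = ⊥) (m : M) : ModuleCat.of A (A ⧸ I) ⟶ ModuleCat.of A M :=
  ModuleCat.ofHom (Submodule.liftQ I (LinearMap.toSpanSingleton A M m) (fun a ha => by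
    rw [LinearMap.mem_ker, LinearMap.toSpanSingleton_apply, ← Submodule.mem_bot A, ← hIM]
    exact Submodule.smul_mem_smul ha trivial))

lemma hatM_add (I : Ideal A) (M : Type u) [AddCommGroup M] [Module A M]
    (hIM : I • (⊤ : Submodule A M) = ⊥) (m m' : M) :
    hatM I M hIM (m + m') = hatM I M hIM m + hatM I M hIM m' :=
  ModuleCat.hom_ext (Submodule.linearMap_qext _ (LinearMap.ext fun a => smul_add a m m'))

lemma hatM_smul (I : Ideal A) (M : Type u) [AddCommGroup M] [Module A M]
    (hIM : I • (⊤ : Submodule A M) = ⊥) (r : A) (m : M) :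
    hatM I M hIM (r • m) = r • hatM I M hIM m :=
  ModuleCat.hom_ext (Submodule.linearMap_qext _ (LinearMap.ext fun a => smul_comm a r m))

lemma hatM_bijective (I : Ideal A) (M : Type u) [AddCommGroup M] [Module A M]
    (hIM : I • (⊤ : Submodule A M) = ⊥) : Function.Bijective (hatM I M hIM) := by
  refine ⟨fun m m' h => ?_, fun φ => ⟨φ.hom (Submodule.Quotient.mk 1), ?_⟩⟩
  · have := congrArg (fun φ : ModuleCat.of A (A ⧸ I) ⟶ ModuleCat.of A M => φ.hom (Submodule.Quotient.mk 1)) h
    exact (one_smul A m).symm.trans (this.trans (one_smul A m'))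
  · refine ModuleCat.hom_ext (Submodule.linearMap_qext _ (LinearMap.ext fun a => ?_))
    change a • φ.hom (Submodule.Quotient.mk 1) = φ.hom (Submodule.Quotient.mk a)
    rw [← map_smul φ.hom, ← Submodule.Quotient.mk_smul, smul_eq_mul, mul_one]

lemma hatM_factor (I J : Ideal A) (hIJ : I ≤ J) (M : Type u) [AddCommGroup M] [Module A M]
    (hIM : I • (⊤ : Submodule A M) = ⊥) (hJM : J • (⊤ : Submodule A M) = ⊥) (m : M) :
    ModuleCat.ofHom (Submodule.factor hIJ) ≫ hatM J M hJM m = hatM I M hIM m :=
  ModuleCat.hom_ext (Submodule.linearMap_qext _ (LinearMap.ext fun a => rfl))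

/-- the map attached to a family of classes -/
noncomputable def phi (I : Ideal A) (i n : ℕ)
    (e : Fin n → Abelian.Ext (ModuleCat.of A (A ⧸ I)) (ModuleCat.of A (A ⧸ I)) i)
    (M : Type u) [AddCommGroup M] [Module A M] (hIM : I • (⊤ : Submodule A M) = ⊥) :
    (Fin n → M) →ₗ[A] Abelian.Ext (ModuleCat.of A (A ⧸ I)) (ModuleCat.of A M) i where
  toFun m := ∑ s, (e s).comp (Ext.mk₀ (hatM I M hIM (m s))) (add_zero i)
  map_add' m m' := by simp [hatM_add, Ext.mk₀_add, Ext.comp_add, Finset.sum_add_distrib]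
  map_smul' r m := by simp [hatM_smul, Ext.mk₀_smul, Ext.comp_smul, Finset.smul_sum]

/-- there are classes inducing bijections -/
def Good (I : Ideal A) (i n : ℕ) : Prop :=
  ∃ e : Fin n → Abelian.Ext (ModuleCat.of A (A ⧸ I)) (ModuleCat.of A (A ⧸ I)) i,
    ∀ (M : Type u) [AddCommGroup M] [Module A M] (hIM : I • (⊤ : Submodule A M) = ⊥),
      Function.Bijective (phi I i n e M hIM)

lemma good_ofList : ∀ xs : List A, RingTheory.Sequence.IsWeaklyRegular A xs → ∀ i,
    Good (Ideal.ofList xs) i (xs.length.choose i) := by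
  intro xs
  induction xs using List.reverseRecOn with
  | nil =>
    intro _ i
    have h0 : Ideal.ofList ([] : List A) = ⊥ := Ideal.ofList_nil
    let e : (A ⧸ Ideal.ofList ([] : List A)) ≃ₗ[A] A := Submodule.quotEquivOfEqBot _ h0
    haveI : Module.Projective A (A ⧸ Ideal.ofList ([] : List A)) := Module.Projective.of_equiv e.symm
    haveI : Projective (ModuleCat.of A (A ⧸ Ideal.ofList ([] : List A))) :=
      (IsProjective.iff_projective _).1 ‹_›
    cases i with
    | zero =>
      refine ⟨fun _ => Ext.mk₀ (𝟙 _), fun M _ _ hIM => ?_⟩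
      haveI : Unique (Fin (([] : List A).length.choose 0)) := Fin.instUnique
      have he : ∀ m : Fin (([] : List A).length.choose 0) → M, phi (Ideal.ofList ([] : List A)) 0 _ (fun _ => Ext.mk₀ (𝟙 _)) M hIM m
          = Ext.mk₀ (hatM _ M hIM (m default)) := fun m => by
        simp only [phi, LinearMap.coe_mk, AddHom.coe_mk, Ext.mk₀_id_comp, Finset.univ_unique, Finset.sum_singleton]
      refine ⟨fun m m' h => ?_, fun ξ => ?_⟩
      · rw [he, he] at h
        ext s
        rw [Unique.eq_default s]
        exact (hatM_bijective _ M hIM).1 ((Ext.mk₀_bijective _ _).1 h)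
      · obtain ⟨φ, rfl⟩ := (Ext.mk₀_bijective _ _).2 ξ
        obtain ⟨m, rfl⟩ := (hatM_bijective _ M hIM).2 φ
        exact ⟨fun _ => m, he _⟩
    | succ i =>
      refine ⟨fun _ => 0, fun M _ _ hIM => ?_⟩
      haveI : IsEmpty (Fin (([] : List A).length.choose (i+1))) := Fin.isEmpty
      haveI := Abelian.Ext.subsingleton_of_projective (ModuleCat.of A (A ⧸ Ideal.ofList ([] : List A))) (ModuleCat.of A M) i
      exact ⟨fun _ _ _ => Subsingleton.elim _ _, fun ξ => ⟨0, Subsingleton.elim _ _⟩⟩
  | append_singleton ys x ih =>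
    intro hreg
    rw [RingTheory.Sequence.isWeaklyRegular_append_iff, RingTheory.Sequence.isWeaklyRegular_singleton_iff] at hreg
    obtain ⟨hys, hx⟩ := hreg
    set I := Ideal.ofList ys with hI
    set J := Ideal.ofList (ys ++ [x]) with hJ
    have hJI : J = I ⊔ Ideal.span {x} := by rw [hJ, Ideal.ofList_append, Ideal.ofList_singleton]
    have hIJ : I ≤ J := hJI ▸ le_sup_left
    -- the short exact sequence 0 → A/I → A/I → A/J → 0
    let f : ModuleCat.of A (A ⧸ I) ⟶ ModuleCat.of A (A ⧸ I) := x • 𝟙 _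
    let gl : (A ⧸ I) →ₗ[A] (A ⧸ J) := Submodule.factor hIJ
    have hgf : ∀ a : A ⧸ I, gl (x • a) = 0 := by
      intro a
      obtain ⟨a, rfl⟩ := Submodule.Quotient.mk_surjective _ a
      rw [← Submodule.Quotient.mk_smul]
      change Submodule.Quotient.mk (x • a) = (0 : A ⧸ J)
      rw [Submodule.Quotient.mk_eq_zero, hJI, smul_eq_mul]
      exact Ideal.mem_sup_right (Ideal.mul_mem_right _ _ (Ideal.mem_span_singleton_self x))
    let S : ShortComplex (ModuleCat.{u} A) := ShortComplex.mk f (ModuleCat.ofHom gl) (by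
      exact ModuleCat.hom_ext (LinearMap.ext fun a => hgf a))
    have hS : S.ShortExact :=
      { exact := by
          rw [ShortComplex.moduleCat_exact_iff]
          intro (b : A ⧸ I) hb
          obtain ⟨b, rfl⟩ := Submodule.Quotient.mk_surjective _ b
          change (Submodule.Quotient.mk b : A ⧸ J) = 0 at hb
          rw [Submodule.Quotient.mk_eq_zero, hJI, Submodule.mem_sup] at hb
          obtain ⟨i, hi, j, hj, rfl⟩ := hb
          obtain ⟨c, rfl⟩ := Ideal.mem_span_singleton'.1 hj
          refine ⟨(Submodule.Quotient.mk c : A ⧸ I), ?_⟩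
          change x • (Submodule.Quotient.mk c : A ⧸ I) = _
          rw [← Submodule.Quotient.mk_smul, Submodule.Quotient.eq, smul_eq_mul]
          have : x * c - (i + c * x) = -i := by ring
          rw [this]; exact I.neg_mem hi
        mono_f := by
          rw [ModuleCat.mono_iff_injective]
          intro (a : A ⧸ I) (b : A ⧸ I) hab
          have hI' : (I • ⊤ : Submodule A A) = I := by simp
          have hab' : x • a = x • b := hab
          apply (Submodule.quotEquivOfEq _ _ hI').symm.injective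
          apply hx
          simp only [← map_smul, hab']
        epi_g := by
          rw [ModuleCat.epi_iff_surjective]
          exact Submodule.factor_surjective hIJ }
    have hf : ∀ (M : Type u) [AddCommGroup M] [Module A M], J • (⊤ : Submodule A M) = ⊥ → ∀ {n : ℕ}
        (ξ : Abelian.Ext (ModuleCat.of A (A ⧸ I)) (ModuleCat.of A M) n),
        (Ext.mk₀ f).comp ξ (zero_add n) = 0 := fun M _ _ hJM n ξ => by
      rw [Ext.mk₀_smul, Ext.smul_comp, Ext.mk₀_id_comp, Ext.smul_eq_comp_mk₀]
      have : x • 𝟙 (ModuleCat.of A M) = 0 := by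
        refine ModuleCat.hom_ext (LinearMap.ext fun m => ?_)
        change x • m = 0
        rw [← Submodule.mem_bot A, ← hJM]
        exact Submodule.smul_mem_smul (hJI ▸ Ideal.mem_sup_right (Ideal.mem_span_singleton_self x)) trivial
      rw [this, Ext.mk₀_zero, Ext.comp_zero]
    have hJJ : J • (⊤ : Submodule A (A ⧸ J)) = ⊥ := by
      rw [eq_bot_iff, Submodule.smul_le]
      intro a ha y _
      obtain ⟨y, rfl⟩ := Submodule.Quotient.mk_surjective _ y
      rw [← Submodule.Quotient.mk_smul, Submodule.mem_bot, Submodule.Quotient.mk_eq_zero, smul_eq_mul]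
      exact J.mul_mem_right _ ha
    have hIM' : ∀ (M : Type u) [AddCommGroup M] [Module A M], J • (⊤ : Submodule A M) = ⊥ → I • (⊤ : Submodule A M) = ⊥ :=
      fun M _ _ hJM => le_bot_iff.1 (hJM ▸ Submodule.smul_mono_left hIJ)
    -- lifts along `g^*`
    have lift : ∀ i n, Good I i n → ∃ d : Fin n → Abelian.Ext (ModuleCat.of A (A ⧸ J)) (ModuleCat.of A (A ⧸ J)) i,
        ∀ (M : Type u) [AddCommGroup M] [Module A M] (hJM : J • (⊤ : Submodule A M) = ⊥),
          Function.Bijective fun m => (Ext.mk₀ S.g).comp (phi J i n d M hJM m) (zero_add i) := by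
      rintro i n ⟨e, he⟩
      have hsurj : ∀ s, ∃ d : Abelian.Ext (ModuleCat.of A (A ⧸ J)) (ModuleCat.of A (A ⧸ J)) i,
          (Ext.mk₀ S.g).comp d (zero_add i) = (e s).comp (Ext.mk₀ (ModuleCat.ofHom gl)) (add_zero i) :=
        fun s => Ext.contravariant_sequence_exact₂ hS _ _ (hf (A ⧸ J) hJJ _)
      choose d hd using hsurj
      refine ⟨d, fun M _ _ hJM => ?_⟩
      have : (fun m => (Ext.mk₀ S.g).comp (phi J i n d M hJM m) (zero_add i)) = phi I i n e M (hIM' M hJM) := by
        funext m
        simp only [phi, LinearMap.coe_mk, AddHom.coe_mk, Ext.comp_sum]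
        refine Finset.sum_congr rfl fun s _ => ?_
        rw [← Ext.comp_assoc _ _ _ (zero_add i) (add_zero i) (by omega), hd,
          Ext.comp_assoc _ _ _ (add_zero i) (add_zero 0) (by omega), Ext.mk₀_comp_mk₀, hatM_factor]
      rw [this]; exact he M _
    intro i
    cases i with
    | zero =>
      rw [Nat.choose_zero_right]
      obtain ⟨d, hd⟩ := lift 0 1 (by simpa using ih hys 0)
      refine ⟨d, fun M _ _ hJM => ⟨fun m m' h => (hd M hJM).1 (by simp only [h]), fun ξ => ?_⟩⟩
      obtain ⟨m, hm⟩ := (hd M hJM).2 ((Ext.mk₀ S.g).comp ξ (zero_add 0))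
      haveI := hS.epi_g
      exact ⟨m, Ext.precomp_mk₀_injective_of_epi (ModuleCat.of A M) S.g hm⟩
    | succ j =>
      rw [List.length_append, List.length_singleton, Nat.choose_succ_succ]
      set n₁ := ys.length.choose j
      set n₂ := ys.length.choose (j + 1)
      obtain ⟨e, he⟩ := ih hys j
      obtain ⟨d, hd⟩ := lift (j + 1) n₂ (ih hys (j + 1))
      let c : Fin n₁ → Abelian.Ext (ModuleCat.of A (A ⧸ J)) (ModuleCat.of A (A ⧸ J)) (j + 1) :=
        fun s => hS.extClass.comp ((e s).comp (Ext.mk₀ (ModuleCat.ofHom gl)) (add_zero j)) (add_comm 1 j)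
      refine ⟨Fin.append c d, fun M _ _ hJM => ?_⟩
      have hc : ∀ m, phi J (j+1) n₁ c M hJM m =
          hS.extClass.comp (phi I j n₁ e M (hIM' M hJM) m) (add_comm 1 j) := by
        intro m
        simp only [phi, LinearMap.coe_mk, AddHom.coe_mk, Ext.comp_sum]
        refine Finset.sum_congr rfl fun s _ => ?_
        simp only [c]
        rw [Ext.comp_assoc _ _ _ (add_comm 1 j) (add_zero j) (by omega),
          Ext.comp_assoc _ _ _ (add_zero j) (add_zero 0) (by omega), Ext.mk₀_comp_mk₀, hatM_factor]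
      have hgc : ∀ m, (Ext.mk₀ S.g).comp (phi J (j+1) n₁ c M hJM m) (zero_add (j+1)) = 0 := fun m => by
        rw [hc, ← Ext.comp_assoc _ _ _ (zero_add 1) (add_comm 1 j) (by omega), hS.comp_extClass, Ext.zero_comp]
      have hsplit : ∀ a b, phi J (j+1) _ (Fin.append c d) M hJM (Fin.append a b) =
          phi J (j+1) n₁ c M hJM a + phi J (j+1) n₂ d M hJM b := fun a b => by
        simp [phi, Fin.sum_univ_add]
      have hinj1 : ∀ a, phi J (j+1) n₁ c M hJM a = 0 → a = 0 := fun a ha => by
        rw [hc] at ha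
        obtain ⟨x₂, hx₂⟩ := Ext.contravariant_sequence_exact₁ hS _ _ _ ha
        refine (he M (hIM' M hJM)).1 ?_
        rw [← hx₂, hf M hJM, map_zero]
      refine ⟨?_, fun ξ => ?_⟩
      · rw [injective_iff_map_eq_zero]
        intro m hm
        obtain ⟨a, b, rfl⟩ : ∃ a b, m = Fin.append a b :=
          ⟨fun s => m (Fin.castAdd n₂ s), fun s => m (Fin.natAdd n₁ s), (Fin.append_castAdd_natAdd).symm⟩
        rw [hsplit] at hm
        have h2 := congrArg (fun ξ => (Ext.mk₀ S.g).comp ξ (zero_add (j+1))) hm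
        simp only [Ext.comp_add, hgc, zero_add, Ext.comp_zero] at h2
        have hb : b = 0 := (hd M hJM).1 (by simp [h2])
        subst hb
        rw [map_zero, add_zero] at hm
        rw [hinj1 a hm]
        ext s; refine Fin.addCases (fun s => ?_) (fun s => ?_) s <;> simp
      · obtain ⟨b, hb⟩ := (hd M hJM).2 ((Ext.mk₀ S.g).comp ξ (zero_add (j+1)))
        obtain ⟨x₁, hx₁⟩ := Ext.contravariant_sequence_exact₃ hS (ModuleCat.of A M) (ξ - phi J (j+1) n₂ d M hJM b)
          (by rw [sub_eq_add_neg, Ext.comp_add, Ext.comp_neg, ← hb, add_neg_cancel]) (add_comm 1 j)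
        obtain ⟨a, rfl⟩ := (he M (hIM' M hJM)).2 x₁
        refine ⟨Fin.append a b, ?_⟩
        rw [hsplit, hc, hx₁, sub_add_cancel]

/-- All degrees, for a module killed by `J`: let `A` be a commutative ring, `xs = (x_1, …, x_p)` a
sequence in `A` such that each `x_i` is a non-zero-divisor on `A/(x_1, …, x_{i-1})`, `J` the ideal
generated by the `x_i`, and `M` an `A`-module with `JM = 0`. Then for every `i`, `Ext^i_A(A/J, M)`
is isomorphic as an `A`-module to `M^(p choose i)` (so it vanishes for `i > p`). (Existence of an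
`A`-linear isomorphism only; the published one is `Ext^i_A(A/J, M) ≅ Hom_A(Λ^i(J/J^2), M)` with
`J/J^2` free of rank `p` over `A/J`.) -/
theorem result (A : Type u) [CommRing A] (xs : List A) (hreg : RingTheory.Sequence.IsWeaklyRegular A xs) (M : Type u) [AddCommGroup M] [Module A M] (hJM : Ideal.ofList xs • (⊤ : Submodule A M) = ⊥) (i : ℕ) : Nonempty (Abelian.Ext (ModuleCat.of A (A ⧸ Ideal.ofList xs)) (ModuleCat.of A M) i ≃ₗ[A] (Fin (xs.length.choose i) → M)) := by
  obtain ⟨e, he⟩ := good_ofList xs hreg i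
  exact ⟨(LinearEquiv.ofBijective _ (he M hJM)).symm⟩

end Groth.Agent.S5666
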