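import Groth.Statements.S5669
import Groth.Agent.SerreDual.ExtShProj
import Groth.Agent.InjMod14.ExtShDepth
import Groth.Agent.CycLib28.SecOrd
import Mathlib.Algebra.Homology.DerivedCategory.Ext.MapBijective

set_option autoImplicit false
universe u
open CategoryTheory AlgebraicGeometry
open ProjDual

namespace Groth.Agent.S5669


namespace S5669aux

open Groth.Agent CategoryTheory.Abelian

theorem ext_congr {C : Type*} [Category C] [Abelian C] [HasExt.{u} C] {A A' B B' : C} (a : A ≅ A') (b : B ≅ B')
    (i : ℕ) (h : Subsingleton (Ext A' B' i)) : Subsingleton (Ext A B i) := by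
  refine subsingleton_of_forall_eq 0 fun x => ?_
  have h0 : ((Ext.mk₀ a.inv).comp x (zero_add i)).comp (Ext.mk₀ b.hom) (add_zero i) = 0 := Subsingleton.elim _ _
  have h1 := congrArg (fun w => ((Ext.mk₀ a.hom).comp w (zero_add i)).comp (Ext.mk₀ b.inv) (add_zero i)) h0
  simpa using h1

/-- `Ext` of modules only depends on the modules up to semilinear isomorphisms along a ring isomorphism. -/
theorem subsingleton_ext_semilinear {R S : Type u} [CommRing R] [CommRing S] (φ : R ≃+* S)
    {M N : ModuleCat.{u} R} {A B : ModuleCat.{u} S}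
    (eM : M ≃+ A) (hM : ∀ (a : R) (v : M), eM (a • v) = φ a • eM v)
    (eN : N ≃+ B) (hN : ∀ (a : R) (v : N), eN (a • v) = φ a • eN v) (j : ℕ) :
    Subsingleton (Ext M N j) ↔ Subsingleton (Ext A B j) := by
  let E := ModuleCat.restrictScalars.{u} φ.toRingHom
  have hbij : Function.Bijective (E.mapExtAddHom A B j) :=
    E.mapExt_bijective_of_preservesProjectiveObjects A B j
  let iM : M ≅ E.obj A := LinearEquiv.toModuleIso
    ({ eM with map_smul' := hM } : M ≃ₗ[R] E.obj A)
  let iN : N ≅ E.obj B := LinearEquiv.toModuleIso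
    ({ eN with map_smul' := hN } : N ≃ₗ[R] E.obj B)
  have h1 : Subsingleton (Ext A B j) ↔ Subsingleton (Ext (E.obj A) (E.obj B) j) :=
    (Equiv.ofBijective _ hbij).subsingleton_congr
  rw [h1]
  exact ⟨fun h => ext_congr iM.symm iN.symm j h,
    fun h => ext_congr iM iN j h⟩

theorem stalk_equiv_of_invertible {X : Scheme.{u}} {L : X.Modules} (hL : PicF.IsInvertible L) (x : X) :
    Nonempty (ModuleCat.of (X.presheaf.stalk x) (L.presheaf.stalk x) ≅
      ModuleCat.of (X.presheaf.stalk x) (X.presheaf.stalk x)) := by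
  obtain ⟨g, hg, -⟩ := CycLib28.exists_gen_stalk hL x
  exact ⟨(LinearEquiv.ofBijective (LinearMap.toSpanSingleton (X.presheaf.stalk x) (L.presheaf.stalk x) g)
    hg).symm.toModuleIso⟩

end S5669aux

/-- Let `k` be an algebraically closed field, `P = P^r_k`, `F` a coherent `O_P`-module and `i + j = r`.
Then `H^i(P, F(-m)) = 0` for all sufficiently large `m` if and only if `Ext^j_{O_{P,x}}(F_x,
O_{P,x}) = 0` for every point `x` of `P`. (The published criterion concerns a closed subset `X` of
`P` and a coherent sheaf on `X`, and is phrased as the vanishing of the sheaf `Ext^(r-i)_{O_P}(F,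
ω_P)`; this row states it for every coherent `O_P`-module, with the condition read at the stalks.) -/
theorem result (k : Type u) [Field k] [IsAlgClosed k] (r : ℕ) (F : (CohB1.ProjSpace r k).Modules) (hF : Coh.IsCoh F) (i j : ℕ) (hij : i + j = r) : (∃ m₀ : ℤ, ∀ m : ℤ, m₀ ≤ m → Subsingleton (Coh.HH (CohB1.ProjSpace r k) (Twist.twistBy (CohB1.polyGrading r k) F (-m)) i)) ↔ ∀ x : (CohB1.ProjSpace r k), Subsingleton (Abelian.Ext (ModuleCat.of ((CohB1.ProjSpace r k).presheaf.stalk x) (F.presheaf.stalk x)) (ModuleCat.of ((CohB1.ProjSpace r k).presheaf.stalk x) ((CohB1.ProjSpace r k).presheaf.stalk x)) j) := by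
  let P := CohB1.ProjSpace r k
  haveI : IsProper (P ↘ Spec (CommRingCat.of k)) := Coherent.isProper_projSpace_toSpec r k
  haveI := EulerLib.isNoetherian_of_proper (k := k) (X := P)
  haveI := SerreDual.hasInjectiveResolutions_modules P
  obtain ⟨I⟩ : Nonempty (InjectiveResolution (Twist.twistProjSpace r k (-((r : ℤ) + 1)))) :=
    HasInjectiveResolution.out
  have hstalk : ∀ x : P, Subsingleton (((SerreDual.homCx F I).homology j).presheaf.stalk x) ↔
      Subsingleton (Abelian.Ext (ModuleCat.of (P.presheaf.stalk x) (F.presheaf.stalk x))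
        (ModuleCat.of (P.presheaf.stalk x) (P.presheaf.stalk x)) j) := by
    intro x
    obtain ⟨U, hU, hxU, -⟩ := TopologicalSpace.Opens.isBasis_iff_nbhd.mp P.isBasis_affineOpens
      (show x ∈ (⊤ : P.Opens) from trivial)
    let y : Scheme.Opens.toScheme U := ⟨x, hxU⟩
    obtain ⟨q⟩ := InjMod14.nonempty_stalk_homology_chart hF I hU y j
    obtain ⟨φ, eF, heF, hφ, -⟩ := RefHullLib.exists_semilinear_restrict (Scheme.Opens.ι U) F y
    obtain ⟨φ', eL, heL, hφ', -⟩ := RefHullLib.exists_semilinear_restrict (Scheme.Opens.ι U)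
      (Twist.twistProjSpace r k (-((r : ℤ) + 1))) y
    obtain rfl : φ' = φ := RingEquiv.ext fun a => (hφ' a).trans (hφ a).symm
    refine q.toEquiv.subsingleton_congr.trans ((S5669aux.subsingleton_ext_semilinear φ'
      (M := ModuleCat.of (P.presheaf.stalk x) (F.presheaf.stalk x))
      (N := ModuleCat.of (P.presheaf.stalk x) ((Twist.twistProjSpace r k (-((r : ℤ) + 1))).presheaf.stalk x))
      (A := (DerSch.stalkFunctor (Scheme.Opens.toScheme U) y).obj (F.restrict (Scheme.Opens.ι U)))
      (B := (DerSch.stalkFunctor (Scheme.Opens.toScheme U) y).obj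
        ((Twist.twistProjSpace r k (-((r : ℤ) + 1))).restrict (Scheme.Opens.ι U)))
      eF heF eL heL j).symm.trans ?_)
    obtain ⟨i'⟩ := S5669aux.stalk_equiv_of_invertible (SerreDual.isInvertible_twist r k (-((r : ℤ) + 1))) x
    exact ⟨fun h => S5669aux.ext_congr (Iso.refl _) i'.symm j h,
      fun h => S5669aux.ext_congr (Iso.refl _) i' j h⟩
  trans Limits.IsZero ((SerreDual.homCx F I).homology j)
  · rw [SerreDual.isZero_homology_iff_vanishing hF I hij]
    constructor
    · rintro ⟨m₀, hm⟩
      exact ⟨m₀.toNat, fun m hm' => hm m (by omega)⟩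
    · rintro ⟨N, hN⟩
      refine ⟨N, fun m hm => ?_⟩
      obtain ⟨m', rfl⟩ := Int.eq_ofNat_of_zero_le ((Int.natCast_nonneg N).trans hm)
      exact hN m' (by omega)
  · constructor
    · intro h x
      exact (hstalk x).1 (ModuleCat.subsingleton_of_isZero ((DerSch.stalkFunctor P x).map_isZero h))
    · intro h
      refine ModStalk.isZero_of_stalks fun x => ?_
      haveI := (hstalk x).2 (h x)
      exact @ModuleCat.isZero_of_subsingleton _ _ _ this

end Groth.Agent.S5669
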