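import Groth.Statements.S5671
import Groth.Agent.LocCoh.Duality2

set_option autoImplicit false
universe u
open CategoryTheory
open Dual

namespace Groth.Agent.S5671

/-- First assertion, in the local-algebra form to which its proof reduces it: let `A` be a regular local
ring of dimension `n`, `p ≥ 0`, and `M` a finite `A`-module whose support has dimension at most `n -
p`. Then `Ext^i_A(M, A) = 0` for every `i < p`. (The geometric statement: on a nonsingular
`n`-dimensional variety the sheaves `Ext^i(F, L)` vanish for `i < p` when `F` is coherent with
support of dimension `≤ n - p` and `L` is locally free.) -/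
theorem result (A : Type u) [CommRing A] [IsRegularLocalRing A] (M : Type u) [AddCommGroup M] [Module A M] [Module.Finite A M] (p : ℕ) (hdim : Module.supportDim A M + p ≤ ringKrullDim A) (i : ℕ) (hi : i < p) : Subsingleton (Abelian.Ext (ModuleCat.of A M) (ModuleCat.of A A) i) := by
  have hd : ringKrullDim A = (IsLocalRing.maximalIdeal A).spanFinrank :=
    (IsRegularLocalRing.spanFinrank_maximalIdeal (R := A)).symm
  rcases subsingleton_or_nontrivial M with hM | hM
  · refine subsingleton_of_forall_eq 0 fun x => ?_
    have hz : Limits.IsZero (ModuleCat.of A M) := ModuleCat.isZero_of_subsingleton _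
    rw [← Abelian.Ext.mk₀_id_comp x, hz.eq_of_src (𝟙 _) 0, Abelian.Ext.mk₀_zero, Abelian.Ext.zero_comp]
  have h0 : (0 : WithBot ℕ∞) ≤ Module.supportDim A M :=
    Order.krullDim_nonneg_iff.2 Module.nonempty_support_of_nontrivial.to_subtype
  rw [hd] at hdim
  generalize hsd : Module.supportDim A M = s at h0 hdim
  induction s with
  | bot => simp at h0
  | coe s =>
    induction s with
    | top => exact absurd hdim (by rw [← WithBot.coe_natCast, ← WithBot.coe_natCast, ← WithBot.coe_add, top_add, WithBot.coe_le_coe, top_le_iff]; exact ENat.natCast_ne_top _)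
    | coe s =>
      have hsp : s + p ≤ (IsLocalRing.maximalIdeal A).spanFinrank := by exact_mod_cast hdim
      refine Groth.Agent.LocCoh.subsingleton_ext_regular hd i (by omega) M (Groth.Agent.LocCoh.subsingleton_H_of_supportDim_lt ?_)
      rw [hsd]
      rw [← WithBot.coe_natCast, WithBot.coe_lt_coe]
      exact Nat.cast_lt.2 (show s < (IsLocalRing.maximalIdeal A).spanFinrank - i by omega)

end Groth.Agent.S5671
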