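import Groth.Statements.S5672
import Mathlib
import Groth.Prelude
import Groth.Agent.S5671

set_option linter.all false

set_option autoImplicit false
universe u
open CategoryTheory
open Dual

open CategoryTheory

namespace Groth.Agent.S5672

section
variable {A : Type u} [CommRing A] [IsRegularLocalRing A] {p : ℕ} {J : Ideal A}

/-- precomposition -/
noncomputable abbrev pull {X Y Z : ModuleCat.{u} A} (f : X ⟶ Y) (ξ : Abelian.Ext Y Z p) : Abelian.Ext X Z p :=
  (Abelian.Ext.mk₀ f).comp ξ (zero_add p)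

theorem pull_injective (hJ : ringKrullDim (A ⧸ J) + p ≤ ringKrullDim A) (S : ShortComplex (ModuleCat.{u} A))
    (hS : S.ShortExact) [Module.Finite A S.X₁] (hJ₁ : J ≤ Module.annihilator A S.X₁)
    (ξ : Abelian.Ext S.X₃ (ModuleCat.of A A) p) (h : pull S.g ξ = 0) : ξ = 0 := by
  cases p with
  | zero =>
    haveI := hS.epi_g
    obtain ⟨φ, rfl⟩ := Abelian.Ext.homEquiv₀.symm.surjective ξ
    have h' : Abelian.Ext.mk₀ (S.g ≫ φ) = 0 := by
      rw [← Abelian.Ext.mk₀_comp_mk₀]; exact h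
    have : φ = 0 := by
      rw [← cancel_epi S.g, Limits.comp_zero]
      exact Abelian.Ext.homEquiv₀.symm.injective (h'.trans (Abelian.Ext.mk₀_zero _ _).symm)
    subst this
    exact Abelian.Ext.mk₀_zero _ _
  | succ q =>
    obtain ⟨x₁, rfl⟩ := Abelian.Ext.contravariant_sequence_exact₃ hS _ ξ h (add_comm 1 q)
    have hd : Module.supportDim A S.X₁ + ((q + 1 : ℕ) : WithBot ℕ∞) ≤ ringKrullDim A := by
      refine le_trans (add_le_add ?_ le_rfl) hJ
      rw [Module.supportDim_eq_ringKrullDim_quotient_annihilator]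
      exact ringKrullDim_le_of_surjective (Ideal.Quotient.factor hJ₁) (Ideal.Quotient.factor_surjective hJ₁)
    haveI : Subsingleton (Abelian.Ext S.X₁ (ModuleCat.of A A) q) :=
      Groth.Agent.S5671.result A S.X₁ (q + 1) hd q (by omega)
    rw [Subsingleton.elim x₁ 0, Abelian.Ext.comp_zero]

theorem ext_detect (hJ : ringKrullDim (A ⧸ J) + p ≤ ringKrullDim A) (M : Type u) [AddCommGroup M] [Module A M]
    [Module.Finite A M] (hJM : J ≤ Module.annihilator A M) :
    ∃ (b : ℕ) (π : (Fin b → A ⧸ J) →ₗ[A] M), Function.Surjective π ∧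
    ∀ ξ : Abelian.Ext (ModuleCat.of A M) (ModuleCat.of A A) p,
      (∀ u : (A ⧸ J) →ₗ[A] M, pull (ModuleCat.ofHom u) ξ = 0) → ξ = 0 := by
  classical
  obtain ⟨b, s, hs⟩ := Module.Finite.exists_fin (R := A) (M := M)
  let u : Fin b → ((A ⧸ J) →ₗ[A] M) := fun i => Submodule.liftQ J (LinearMap.toSpanSingleton A M (s i))
    fun a ha => by simpa [LinearMap.mem_ker] using Module.mem_annihilator.1 (hJM ha) (s i)
  let π : (Fin b → A ⧸ J) →ₗ[A] M := ∑ i, (u i).comp (LinearMap.proj i)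
  have hπ : Function.Surjective π := by
    rw [← LinearMap.range_eq_top, eq_top_iff, ← hs, Submodule.span_le]
    rintro _ ⟨i, rfl⟩
    refine ⟨Pi.single i (Submodule.Quotient.mk 1), ?_⟩
    simp only [π, LinearMap.sum_apply, LinearMap.comp_apply, LinearMap.proj_apply]
    rw [Finset.sum_eq_single i (fun j _ hj => by rw [Pi.single_eq_of_ne hj, map_zero]) (by simp), Pi.single_eq_same]
    exact (LinearMap.toSpanSingleton_apply _ _ _ _).trans (one_smul _ _)
  refine ⟨b, π, hπ, fun ξ hξ => ?_⟩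
  let S : ShortComplex (ModuleCat.{u} A) := ShortComplex.mk (ModuleCat.ofHom (LinearMap.ker π).subtype) (ModuleCat.ofHom π)
    (ModuleCat.hom_ext (LinearMap.ext fun x => x.2))
  have hS : S.ShortExact := ShortComplex.ShortExact.mk'
    ((ShortComplex.moduleCat_exact_iff _).2 fun z hz => ⟨⟨z, hz⟩, rfl⟩)
    ((ModuleCat.mono_iff_injective _).2 (LinearMap.ker π).injective_subtype)
    ((ModuleCat.epi_iff_surjective _).2 hπ)
  haveI : IsNoetherian A (Fin b → A ⧸ J) := isNoetherian_of_isNoetherianRing_of_finite A _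
  haveI : Module.Finite A S.X₁ := inferInstanceAs (Module.Finite A (LinearMap.ker π))
  refine pull_injective hJ S hS ?_ ξ ?_
  · intro a ha
    refine Module.mem_annihilator.2 fun z => Subtype.ext (funext fun i => ?_)
    show a • (z.1 i) = 0
    obtain ⟨c, hc⟩ := Submodule.Quotient.mk_surjective _ (z.1 i)
    rw [← hc, ← Submodule.Quotient.mk_smul]
    exact (Submodule.Quotient.mk_eq_zero _).2 (J.mul_mem_right _ ha)
  · show pull (ModuleCat.ofHom π) ξ = 0
    have e : ModuleCat.ofHom π = ∑ i, ModuleCat.ofHom (LinearMap.proj i) ≫ ModuleCat.ofHom (u i) := by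
      refine ModuleCat.hom_ext ?_
      rw [ModuleCat.hom_sum]
      rfl
    rw [pull, e, Abelian.Ext.mk₀_sum, Abelian.Ext.sum_comp]
    refine Finset.sum_eq_zero fun i _ => ?_
    rw [← Abelian.Ext.mk₀_comp_mk₀_assoc]
    show (Abelian.Ext.mk₀ _).comp (pull (ModuleCat.ofHom (u i)) ξ) (zero_add p) = 0
    rw [hξ, Abelian.Ext.comp_zero]

theorem ext_glue (hJ : ringKrullDim (A ⧸ J) + p ≤ ringKrullDim A) (M : Type u) [AddCommGroup M] [Module A M]
    [Module.Finite A M] (hJM : J ≤ Module.annihilator A M)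
    (g : ((A ⧸ J) →ₗ[A] M) →ₗ[A] Abelian.Ext (ModuleCat.of A (A ⧸ J)) (ModuleCat.of A A) p) :
    ∃ ξ : Abelian.Ext (ModuleCat.of A M) (ModuleCat.of A A) p, ∀ u, g u = pull (ModuleCat.ofHom u) ξ := by
  classical
  obtain ⟨b, π, hπ, -⟩ := ext_detect hJ M hJM
  let η : Abelian.Ext (ModuleCat.of A (Fin b → A ⧸ J)) (ModuleCat.of A A) p :=
    ∑ i, pull (ModuleCat.ofHom (LinearMap.proj i)) (g (π.comp (LinearMap.single A (fun _ => A ⧸ J) i)))
  have key : ∀ v : (A ⧸ J) →ₗ[A] (Fin b → A ⧸ J), pull (ModuleCat.ofHom v) η = g (π.comp v) := by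
    intro v
    choose c hc using fun i => Submodule.Quotient.mk_surjective J (v (Submodule.Quotient.mk 1) i)
    have hv : ∀ i, (LinearMap.proj i).comp v = c i • LinearMap.id (R := A) (M := A ⧸ J) := fun i => by
      refine Submodule.linearMap_qext _ (LinearMap.ext_ring ?_)
      show v (Submodule.Quotient.mk 1) i = c i • Submodule.Quotient.mk 1
      rw [← hc i, ← Submodule.Quotient.mk_smul, smul_eq_mul, mul_one]
    have hπv : π.comp v = ∑ i, c i • π.comp (LinearMap.single A (fun _ => A ⧸ J) i) := by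
      refine Submodule.linearMap_qext _ (LinearMap.ext_ring ?_)
      show π (v (Submodule.Quotient.mk 1)) = _
      simp only [LinearMap.sum_apply, LinearMap.smul_apply, LinearMap.comp_apply, Submodule.mkQ_apply, ← map_smul, ← map_sum]
      congr 1
      funext j
      rw [Finset.sum_apply, Finset.sum_eq_single j (fun i _ hi => ?_) (by simp), ← hc j]
      · simp [Algebra.smul_def]
      · simp [Pi.single_eq_of_ne (Ne.symm hi)]
    rw [hπv, map_sum]
    simp only [η, pull, Abelian.Ext.comp_sum, map_smul]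
    refine Finset.sum_congr rfl fun i _ => ?_
    rw [Abelian.Ext.mk₀_comp_mk₀_assoc, show ModuleCat.ofHom v ≫ ModuleCat.ofHom (LinearMap.proj i) = c i • 𝟙 _ from
      ModuleCat.hom_ext (hv i), Abelian.Ext.mk₀_smul, Abelian.Ext.smul_comp, Abelian.Ext.mk₀_id_comp]
  let S : ShortComplex (ModuleCat.{u} A) := ShortComplex.mk (ModuleCat.ofHom (LinearMap.ker π).subtype) (ModuleCat.ofHom π)
    (ModuleCat.hom_ext (LinearMap.ext fun x => x.2))
  have hS : S.ShortExact := ShortComplex.ShortExact.mk'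
    ((ShortComplex.moduleCat_exact_iff _).2 fun z hz => ⟨⟨z, hz⟩, rfl⟩)
    ((ModuleCat.mono_iff_injective _).2 (LinearMap.ker π).injective_subtype)
    ((ModuleCat.epi_iff_surjective _).2 hπ)
  haveI : IsNoetherian A (Fin b → A ⧸ J) := isNoetherian_of_isNoetherianRing_of_finite A _
  have hJK : J ≤ Module.annihilator A (LinearMap.ker π) := fun a ha => by
    refine Module.mem_annihilator.2 fun z => Subtype.ext (funext fun i => ?_)
    show a • (z.1 i) = 0
    obtain ⟨c, hc⟩ := Submodule.Quotient.mk_surjective _ (z.1 i)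
    rw [← hc, ← Submodule.Quotient.mk_smul]
    exact (Submodule.Quotient.mk_eq_zero _).2 (J.mul_mem_right _ ha)
  obtain ⟨bK, πK, -, detK⟩ := ext_detect hJ (LinearMap.ker π) hJK
  have h0 : pull S.f η = 0 := by
    refine detK _ fun u => ?_
    rw [pull, Abelian.Ext.mk₀_comp_mk₀_assoc]
    refine (key ((LinearMap.ker π).subtype.comp u)).trans ?_
    rw [← LinearMap.comp_assoc, LinearMap.comp_ker_subtype, LinearMap.zero_comp, map_zero]
  obtain ⟨ξ, hξ⟩ := Abelian.Ext.contravariant_sequence_exact₂ hS _ η h0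
  refine ⟨ξ, fun u => ?_⟩
  obtain ⟨z, hz⟩ := hπ (u (Submodule.Quotient.mk 1))
  let v : (A ⧸ J) →ₗ[A] (Fin b → A ⧸ J) := Submodule.liftQ J (LinearMap.toSpanSingleton A _ z) fun a ha => by
    rw [LinearMap.mem_ker, LinearMap.toSpanSingleton_apply]
    funext i
    obtain ⟨c, hc⟩ := Submodule.Quotient.mk_surjective _ (z i)
    rw [Pi.smul_apply, ← hc, ← Submodule.Quotient.mk_smul]
    exact (Submodule.Quotient.mk_eq_zero _).2 (J.mul_mem_right _ ha)
  have hv : π.comp v = u := Submodule.linearMap_qext _ (LinearMap.ext_ring (by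
    show π (LinearMap.toSpanSingleton A _ z 1) = u (Submodule.Quotient.mk 1)
    rw [LinearMap.toSpanSingleton_apply, one_smul, hz]))
  rw [← hv, ← key v, ← hξ]
  show _ = pull (ModuleCat.ofHom v ≫ ModuleCat.ofHom π) ξ
  rw [pull, pull, ← Abelian.Ext.mk₀_comp_mk₀_assoc]
end

/-- Let `A` be a regular local ring of dimension `n`, `J` an ideal with `dim(A/J) ≤ n - p`, and `M` a
finite `A`-module with `JM = 0`. For `ξ ∈ Ext^p_A(M, A)` and an `A`-linear `u : A/J → M` write `u^*ξ
∈ Ext^p_A(A/J, A)` for the pullback. Then `ξ ↦ (u ↦ u^*ξ)` is injective, and every `A`-linear map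
`Hom_A(A/J, M) → Ext^p_A(A/J, A)` is of the form `u ↦ u^*ξ` for some `ξ`. Since `Hom_A(A/J, M) = M`
here, this says that the canonical map `Ext^p_A(M, A) → Hom_A(M, Ext^p_A(A/J, A))` is bijective. -/
theorem result (A : Type u) [CommRing A] [IsRegularLocalRing A] (p : ℕ) (J : Ideal A) (hJ : ringKrullDim (A ⧸ J) + p ≤ ringKrullDim A) (M : Type u) [AddCommGroup M] [Module A M] [Module.Finite A M] (hJM : J • (⊤ : Submodule A M) = ⊥) : Function.Injective (fun ξ : Abelian.Ext (ModuleCat.of A M) (ModuleCat.of A A) p => fun u : (A ⧸ J) →ₗ[A] M => (Abelian.Ext.mk₀ (ModuleCat.ofHom u)).comp ξ (zero_add p)) ∧ ∀ g : ((A ⧸ J) →ₗ[A] M) →ₗ[A] Abelian.Ext (ModuleCat.of A (A ⧸ J)) (ModuleCat.of A A) p, ∃ ξ : Abelian.Ext (ModuleCat.of A M) (ModuleCat.of A A) p, ∀ u : (A ⧸ J) →ₗ[A] M, g u = (Abelian.Ext.mk₀ (ModuleCat.ofHom u)).comp ξ (zero_add p) := by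
  have hJM' : J ≤ Module.annihilator A M := fun a ha => Module.mem_annihilator.2 fun m =>
    (Submodule.mem_bot A).1 (hJM ▸ Submodule.smul_mem_smul ha Submodule.mem_top)
  refine ⟨fun ξ ξ' h => ?_, ext_glue hJ M hJM'⟩
  obtain ⟨b, π, hπ, det⟩ := ext_detect hJ M hJM'
  refine sub_eq_zero.1 (det _ fun u => ?_)
  have h1 : pull (ModuleCat.ofHom u) ξ = pull (ModuleCat.ofHom u) ξ' := congrFun h u
  show (Abelian.Ext.mk₀ (ModuleCat.ofHom u)).comp (ξ - ξ') (zero_add p) = 0
  rw [sub_eq_add_neg, Abelian.Ext.comp_add, Abelian.Ext.comp_neg, ← sub_eq_add_neg]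
  exact sub_eq_zero.2 h1

end Groth.Agent.S5672
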