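import Groth.Statements.S5674
import Groth.Agent.SerreDual.ExtShGlobal
import Groth.Agent.InjMod14.ExtShDepth
import Groth.Agent.FlatMor12.MiracleScheme
import Groth.Agent.VarietyLib.SmoothStalk
import Groth.Agent.VarietyLib.CurvePull
import Groth.Agent.Clifford24.Nodal.Dim
import Groth.Agent.CAlgH3.Depth
import Groth.Agent.CAlgH3.RegularCore
import Groth.Agent.Props12.FinLocFree
import Groth.Agent.Coherent.CohBC.HomSheaf
import Groth.Agent.Coherent.FiniteType
import Groth.Agent.EulerLib.SupportVanishing

set_option autoImplicit false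
universe u
open CategoryTheory CategoryTheory.Limits AlgebraicGeometry
open ProjDual

namespace Groth.Agent.S5674


namespace S5674aux

open Groth.Agent

/-- the maximal points of a smooth scheme of relative dimension `n` over a field -/
theorem ptDim_eq_of_maximal (k : Type u) [Field k] {Z : Scheme.{u}} (p : Z ⟶ Spec (CommRingCat.of k))
    (n : ℕ) [SmoothOfRelativeDimension n p] (z : Z) (hz : ∀ w, w ⤳ z → z = w) : DimLib.ptDim p z = n := by
  obtain ⟨U, hU, W, hW, hzW, e, hstd⟩ :=
    SmoothOfRelativeDimension.exists_isStandardSmoothOfRelativeDimension (n := n) (f := p) z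
  obtain rfl : U = ⊤ := by
    ext y
    simp only [TopologicalSpace.Opens.coe_top, Set.mem_univ, iff_true]
    exact Subsingleton.elim (α := PrimeSpectrum k) (p z) y ▸ e hzW
  let φ : k →+* Γ(Z, W) := (p.appLE ⊤ W e).hom.comp (Scheme.ΓSpecIso (CommRingCat.of k)).inv.hom
  have h' : RingHom.IsStandardSmoothOfRelativeDimension n φ :=
    (RingHom.isStandardSmoothOfRelativeDimension_respectsIso (n := n)).2 _
      (Scheme.ΓSpecIso (CommRingCat.of k)).symm.commRingCatIsoToRingEquiv hstd
  have hj : hW.fromSpec ≫ p = Spec.map (CommRingCat.ofHom φ) := by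
    rw [← IsAffineOpen.SpecMap_appLE_fromSpec p (isAffineOpen_top _) hW e,
      IsAffineOpen.fromSpec_top, Scheme.isoSpec_Spec_inv, ← Spec.map_comp]
    rfl
  algebraize [φ]
  haveI : Algebra.IsStandardSmooth k Γ(Z, W) := Algebra.IsStandardSmoothOfRelativeDimension.isStandardSmooth n
  have hft : φ.FiniteType := RingHom.finiteType_algebraMap.2 inferInstance
  haveI : Smooth p := SmoothOfRelativeDimension.smooth n p
  haveI : LocallyOfFiniteType p := inferInstance
  let P := hW.primeIdealOf ⟨z, hzW⟩
  have hmin : P.asIdeal ∈ minimalPrimes Γ(Z, W) := by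
    obtain ⟨w, hw, hwP⟩ := Ideal.exists_minimalPrimes_le (bot_le : (⊥ : Ideal Γ(Z, W)) ≤ P.asIdeal)
    haveI := hw.1.1
    let Q : Spec Γ(Z, W) := ⟨w, inferInstance⟩
    have hQP : Q ⤳ P := (PrimeSpectrum.le_iff_specializes Q P).1 hwP
    have h2 := hz (hW.fromSpec Q) (by
      have := hQP.map hW.fromSpec.continuous
      rwa [hW.fromSpec_primeIdealOf ⟨z, hzW⟩] at this)
    have h3 : P = Q := hW.fromSpec.isOpenEmbedding.injective ((hW.fromSpec_primeIdealOf ⟨z, hzW⟩).trans h2)
    exact h3 ▸ hw
  have h4 := DimLib.ptDim_chart p φ hft hW.fromSpec hj P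
  rw [BertiniLib.ringKrullDim_quotient_minimalPrime (k := k) n P.asIdeal hmin,
    hW.fromSpec_primeIdealOf ⟨z, hzW⟩] at h4
  exact (Nat.cast_injective h4).symm

end S5674aux

/-- Let `k` be an algebraically closed field, `X` a nonsingular algebraic set of dimension `n` over `k`
— here: a quasi-compact `k`-scheme smooth of relative dimension `n` over `k` — `F` a coherent
`O_X`-module whose support has dimension at most `n - p`, and `L` a finite locally free
`O_X`-module. Then the (global) groups `Ext^i_{O_X}(F, L)` vanish for `i < p`. (All components of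
`X` have dimension `n`; for a nonsingular algebraic set with a component of smaller dimension the
conclusion fails. The Ext instance on the category of `O_X`-modules is taken as a hypothesis; it
holds since that category is Grothendieck abelian.) -/
theorem result (k : Type u) [Field k] [IsAlgClosed k] (n : ℕ) (X : Scheme.{u}) [X.Over (Spec (CommRingCat.of k))] [SmoothOfRelativeDimension n (X ↘ Spec (CommRingCat.of k))] [CompactSpace X] [HasExt.{u} X.Modules] (F : X.Modules) (hF : Coh.IsCoh F) (L : X.Modules) (hL : FlatMod.IsFinLocFree L) (p : ℕ) (hsupp : topologicalKrullDim ↥(CohB1.support F) + p ≤ n) (i : ℕ) (hi : i < p) : Subsingleton (Abelian.Ext F L i) := by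
  set f := X ↘ Spec (CommRingCat.of k) with hf
  haveI : Smooth f := SmoothOfRelativeDimension.smooth n f
  haveI : LocallyOfFiniteType f := inferInstance
  haveI : IsLocallyNoetherian X := LocallyOfFiniteType.isLocallyNoetherian f
  haveI : Coh.IsQCoh F := hF.1
  have hLc := Coherent.CohBC.isCoh_of_isFinLocFree hL
  haveI : Coh.IsQCoh L := hLc.1
  haveI := SerreDual.hasInjectiveResolutions_modules X
  obtain ⟨I⟩ : Nonempty (InjectiveResolution L) := HasInjectiveResolution.out
  have hdepth : ∀ x ∈ CohB1.support F,
      (p : ℕ∞) ≤ LocCoh.depth (X.presheaf.stalk x) (L.presheaf.stalk x) := by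
    intro x hx
    haveI := VarietyLib.isRegularLocalRing_stalk_of_smooth k X f x
    haveI := Props12.free_stalk_of_isFinLocFree L hL x
    haveI : Module.Finite (X.presheaf.stalk x) (L.presheaf.stalk x) :=
      Coherent.finite_stalk_of_isFT hLc.1 hLc.2 x
    rcases subsingleton_or_nontrivial (L.presheaf.stalk x) with h | h
    · rw [CAlgH3.depth_eq_top_of_subsingleton (M := L.presheaf.stalk x)]; exact le_top
    · rw [CAlgH3.depth_free]
      obtain ⟨hle, hco⟩ := FlatMor12.coheight_add_ptDim f n
        (fun η hη => S5674aux.ptDim_eq_of_maximal k f n η hη) x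
      have hcl : closure ({x} : Set X) ⊆ CohB1.support F :=
        closure_minimal (Set.singleton_subset_iff.2 hx)
          (Coherent.isClosed_support F (Coherent.locallyFinGen_of_isFT F hF.2))
      have hdim : (DimLib.ptDim f x : WithBot ℕ∞) + p ≤ n := by
        refine le_trans ?_ hsupp
        gcongr
        rw [← DimLib.topologicalKrullDim_eq_ptDim_of_isGenericPoint f (isGenericPoint_closure (x := x))]
        exact (Topology.IsEmbedding.inclusion hcl).isInducing.topologicalKrullDim_le
      have hnat : DimLib.ptDim f x + p ≤ n := by exact_mod_cast hdim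
      have h3 : ((p : ℕ∞) : WithBot ℕ∞) ≤ ((LocCoh.depth (X.presheaf.stalk x) (X.presheaf.stalk x) : ℕ∞) : WithBot ℕ∞) := by
        rw [CAlgH3.depth_eq_ringKrullDim, ringKrullDim_stalk_eq_coheight, hco]
        exact_mod_cast (show p ≤ n - DimLib.ptDim f x by omega)
      exact_mod_cast h3
  have hzero : ∀ q, q < p → IsZero ((SerreDual.homCx F I).homology q) :=
    fun q hq => InjMod14.isZero_extSh_of_le_depth hF hLc I p hdepth q hq
  obtain ⟨e⟩ := SerreDual.nonempty_ext_linearEquiv_homology k I i
    (fun q hq r => EulerLib.subsingleton_HH_of_isZero (hzero q (hq.trans hi)) _)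
  haveI := EulerLib.subsingleton_HH_of_isZero (hzero i hi) 0
  exact e.toEquiv.subsingleton

end Groth.Agent.S5674
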