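import Groth.Statements.S5675
import Groth.Agent.S5665
import Groth.Agent.RegImmH1.Algebra
import Groth.Agent.CAlgH.KoszulH1
import Groth.Agent.CommAlg4.DetSplitTop
-- import your own Groth.Agent.* helpers here

set_option autoImplicit false
universe u
open CategoryTheory
open Dual

namespace Groth.Agent.S5675

open scoped TensorProduct

open TensorProduct KaehlerDifferential in
theorem conormal_split (k A : Type u) [CommRing k] [CommRing A] [Algebra k A] (J : Ideal A)
    [Algebra.FormallySmooth k A] [Algebra.FormallySmooth k (A ⧸ J)]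
    {p : ℕ} (x : Fin p → A) (hJ : Ideal.span (Set.range x) = J) (hx : CAlgX.IsH1Regular x) :
    ∃ (e : Fin p → (A ⧸ J) ⊗[A] Ω[A⁄k]) (d : Fin p → Module.Dual (A ⧸ J) ((A ⧸ J) ⊗[A] Ω[A⁄k]))
      (s : Ω[(A ⧸ J)⁄k] →ₗ[A ⧸ J] (A ⧸ J) ⊗[A] Ω[A⁄k]),
      (∀ i j, d i (e j) = if i = j then 1 else 0) ∧
      (∀ z, KaehlerDifferential.mapBaseChange k A (A ⧸ J) (s z) = z) ∧
      (∀ i z, d i (s z) = 0) ∧
      (∀ m, m - s (KaehlerDifferential.mapBaseChange k A (A ⧸ J) m) = ∑ i, d i m • e i) := by
  classical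
  have hsurj : Function.Surjective (algebraMap A (A ⧸ J)) := Ideal.Quotient.mk_surjective
  let I := RingHom.ker (algebraMap A (A ⧸ J))
  have hI : ∀ a, a ∈ I ↔ a ∈ J := fun a => Ideal.Quotient.eq_zero_iff_mem
  have hxI : ∀ i, x i ∈ I := fun i => (hI _).2 (hJ ▸ Ideal.subset_span ⟨i, rfl⟩)
  let g := KaehlerDifferential.mapBaseChange k A (A ⧸ J)
  obtain ⟨s, hs⟩ := Module.projective_lifting_property g LinearMap.id
    (KaehlerDifferential.mapBaseChange_surjective k A (A ⧸ J) hsurj)
  let e : Fin p → (A ⧸ J) ⊗[A] Ω[A⁄k] := fun i => 1 ⊗ₜ D k A (x i)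
  let κ := kerCotangentToTensor k A (A ⧸ J)
  obtain ⟨l, hl⟩ := (Algebra.FormallySmooth.iff_split_injection (R := k) (P := A) (A := A ⧸ J) hsurj).1 inferInstance
  have hκe : ∀ a : Fin p → A, κ (I.toCotangent ⟨∑ i, a i * x i, Ideal.sum_mem _ fun i _ => I.mul_mem_left _ (hxI i)⟩) =
      ∑ i, algebraMap A (A ⧸ J) (a i) • e i := fun a => by
    have : (⟨∑ i, a i * x i, Ideal.sum_mem _ fun i _ => I.mul_mem_left _ (hxI i)⟩ : I) = ∑ i, a i • ⟨x i, hxI i⟩ :=
      Subtype.ext (by simp)
    rw [this, map_sum, map_sum]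
    refine Finset.sum_congr rfl fun i _ => ?_
    rw [map_smul, map_smul, kerCotangentToTensor_toCotangent, algebraMap_smul]
  let f : (Fin p → A ⧸ J) →ₗ[A ⧸ J] (A ⧸ J) ⊗[A] Ω[A⁄k] := Fintype.linearCombination (A ⧸ J) e
  have hf : Function.Injective f := by
    rw [injective_iff_map_eq_zero]
    intro r hr
    choose a ha using fun i => hsurj (r i)
    have h0 : κ (I.toCotangent ⟨∑ i, a i * x i, Ideal.sum_mem _ fun i _ => I.mul_mem_left _ (hxI i)⟩) = 0 := by
      rw [hκe]; simp only [f, Fintype.linearCombination_apply] at hr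
      simpa only [ha] using hr
    have h1 := congrArg l h0
    rw [← LinearMap.comp_apply, hl, map_zero, LinearMap.id_apply, Ideal.toCotangent_eq_zero] at h1
    have hIJ : I = J := Ideal.ext hI
    have h2 : (∑ i, a i * x i) ∈ Ideal.span (Set.range x) ^ 2 := by rw [hJ, ← hIJ]; exact h1
    obtain ⟨b, hb, hbe⟩ := RegImmH1.exists_coeff_of_mem_sq x h2
    refine funext fun i => ?_
    have h3 := RegImmH1.relation_mem hx (a := a - b) (by
      simp only [Pi.sub_apply, sub_mul, Finset.sum_sub_distrib, hbe, sub_self]) i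
    have h4 := add_mem h3 (hb i)
    rw [Pi.sub_apply, sub_add_cancel, hJ] at h4
    rw [Pi.zero_apply, ← ha i]
    exact Ideal.Quotient.eq_zero_iff_mem.2 h4
  have hge : ∀ c, g (f c) = 0 := fun c => by
    have : ∀ i, g (e i) = 0 := fun i => by
      show KaehlerDifferential.mapBaseChange k A (A ⧸ J) (1 ⊗ₜ D k A (x i)) = 0
      rw [KaehlerDifferential.mapBaseChange_tmul, one_smul, KaehlerDifferential.map_D,
        show algebraMap A (A ⧸ J) (x i) = 0 from hxI i, map_zero]
    simp [f, Fintype.linearCombination_apply, map_sum, this]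
  have hex : ∀ m, g m = 0 → ∃ c, f c = m := fun m hm => by
    obtain ⟨y, rfl⟩ := (KaehlerDifferential.exact_kerCotangentToTensor_mapBaseChange k A (A ⧸ J) hsurj m).1 hm
    obtain ⟨⟨y, hy⟩, rfl⟩ := I.toCotangent_surjective y
    obtain ⟨a, rfl⟩ := Ideal.mem_span_range_iff_exists_fun.1 (hJ.symm ▸ (hI y).1 hy : y ∈ Ideal.span (Set.range x))
    exact ⟨fun i => algebraMap A (A ⧸ J) (a i), by rw [hκe]; simp [f, Fintype.linearCombination_apply]⟩
  have hgs : ∀ z, g (s z) = z := fun z => LinearMap.congr_fun hs z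
  choose c hc using fun m => hex (m - s (g m)) (by rw [map_sub, hgs, sub_self])
  let ρ : (A ⧸ J) ⊗[A] Ω[A⁄k] →ₗ[A ⧸ J] (Fin p → A ⧸ J) :=
    { toFun := c
      map_add' := fun m m' => hf (by rw [map_add, hc, hc, hc, map_add, map_add]; abel)
      map_smul' := fun r m => hf (by rw [map_smul, hc, hc, map_smul, map_smul, RingHom.id_apply, smul_sub]) }
  refine ⟨e, fun i => LinearMap.proj i ∘ₗ ρ, s, fun i j => ?_, hgs, fun i z => ?_, fun m => ?_⟩
  · show c (e j) i = _
    have : c (e j) = Pi.single j 1 := hf (by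
      rw [hc, show e j = f (Pi.single j 1) by simp [f, Fintype.linearCombination_apply, Pi.single_apply, ite_smul],
        hge, map_zero, sub_zero])
    rw [this, Pi.single_apply]
  · show c (s z) i = 0
    have : c (s z) = 0 := hf (by rw [hc, hgs, sub_self, map_zero])
    rw [this]; rfl
  · rw [← hc m]
    rfl

open CategoryTheory in
theorem ext_invertible (A : Type u) [CommRing A] (J : Ideal A) (L : Type u) [AddCommGroup L] [Module A L]
    [Module (A ⧸ J) L] [IsScalarTower A (A ⧸ J) L] [Module.Invertible (A ⧸ J) L]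
    (W : ModuleCat.{u} A) (p : ℕ)
    (e : Abelian.Ext (ModuleCat.of A (A ⧸ J)) W p ≃ₗ[A] L) :
    Nonempty (Abelian.Ext (ModuleCat.of A L) W p ≃ₗ[A] (A ⧸ J)) := by
  classical
  obtain ⟨N, f, g, -, -, hfg⟩ := Module.Finite.exists_comp_eq_id_of_projective (A ⧸ J) L
  let π : Fin N → L →ₗ[A] (A ⧸ J) := fun j => (LinearMap.proj j ∘ₗ g).restrictScalars A
  let v : Fin N → L := fun j => f (Pi.single j 1)
  let u : L →ₗ[A] ((A ⧸ J) →ₗ[A] L) :=
    { toFun := fun l => (LinearMap.toSpanSingleton (A ⧸ J) L l).restrictScalars A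
      map_add' := fun l l' => by ext r; simp
      map_smul' := fun a l => by ext r; simp }
  have hu : ∀ l r, u l r = r • l := fun l r => rfl
  let U := fun l => ModuleCat.ofHom (u l)
  let P := fun j => ModuleCat.ofHom (π j)
  let φ : Abelian.Ext (ModuleCat.of A L) W p →ₗ[A] (L →ₗ[A] Abelian.Ext (ModuleCat.of A (A ⧸ J)) W p) :=
    { toFun := fun ξ =>
        { toFun := fun l => (Abelian.Ext.mk₀ (U l)).comp ξ (zero_add p)
          map_add' := fun l l' => by
            simp only [U, map_add, ModuleCat.ofHom_add, Abelian.Ext.mk₀_add, Abelian.Ext.add_comp]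
          map_smul' := fun a l => by
            have : U (a • l) = a • U l := by simp only [U, map_smul]; rfl
            simp only [this, Abelian.Ext.mk₀_smul, Abelian.Ext.smul_comp, RingHom.id_apply] }
      map_add' := fun ξ ξ' => by
        refine LinearMap.ext fun l => ?_
        simp only [LinearMap.coe_mk, AddHom.coe_mk, LinearMap.add_apply, Abelian.Ext.comp_add]
      map_smul' := fun a ξ => by
        refine LinearMap.ext fun l => ?_
        simp only [LinearMap.coe_mk, AddHom.coe_mk, LinearMap.smul_apply, Abelian.Ext.comp_smul, RingHom.id_apply] }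
  have hrec : ∑ j, P j ≫ U (v j) = 𝟙 (ModuleCat.of A L) := by
    refine ModuleCat.hom_ext (LinearMap.ext fun x => ?_)
    rw [ModuleCat.hom_sum, LinearMap.sum_apply]
    simp only [P, U, ModuleCat.hom_comp, ModuleCat.hom_ofHom, LinearMap.comp_apply, hu, ModuleCat.hom_id,
      LinearMap.id_apply]
    conv_rhs => rw [show x = f (g x) from (LinearMap.congr_fun hfg x).symm, pi_eq_sum_univ' (g x), map_sum]
    exact Finset.sum_congr rfl fun j _ => by rw [map_smul]; rfl
  have hbij : Function.Bijective φ := by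
    refine ⟨(injective_iff_map_eq_zero φ).2 fun ξ hξ => ?_, fun h => ⟨∑ j, (Abelian.Ext.mk₀ (P j)).comp (h (v j)) (zero_add p), ?_⟩⟩
    · rw [← Abelian.Ext.mk₀_id_comp ξ, ← hrec, Abelian.Ext.mk₀_sum, Abelian.Ext.sum_comp]
      refine Finset.sum_eq_zero fun j _ => ?_
      rw [← Abelian.Ext.mk₀_comp_mk₀_assoc]
      have : (Abelian.Ext.mk₀ (U (v j))).comp ξ (zero_add p) = 0 := LinearMap.congr_fun hξ (v j)
      rw [this, Abelian.Ext.comp_zero]
    · refine LinearMap.ext fun l => ?_
      show (Abelian.Ext.mk₀ (U l)).comp (∑ j, (Abelian.Ext.mk₀ (P j)).comp (h (v j)) (zero_add p)) (zero_add p) = h l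
      choose a ha using fun j => Ideal.Quotient.mk_surjective (g l j)
      have hUP : ∀ j, U l ≫ P j = a j • 𝟙 (ModuleCat.of A (A ⧸ J)) := fun j => by
        refine ModuleCat.hom_ext (LinearMap.ext fun r => ?_)
        show g (r • l) j = a j • r
        rw [map_smul, Pi.smul_apply, ← ha j, smul_eq_mul, Algebra.smul_def, mul_comm]
        rfl
      rw [Abelian.Ext.comp_sum]
      simp only [Abelian.Ext.mk₀_comp_mk₀_assoc, hUP, Abelian.Ext.mk₀_smul, Abelian.Ext.smul_comp,
        Abelian.Ext.mk₀_id_comp, ← map_smul, ← map_sum]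
      congr 1
      conv_rhs => rw [show l = f (g l) from (LinearMap.congr_fun hfg l).symm, pi_eq_sum_univ' (g l), map_sum]
      exact Finset.sum_congr rfl fun j _ => by rw [map_smul, ← ha j]; exact (algebraMap_smul (A ⧸ J) (a j) (v j)).symm
  let ψ : (L →ₗ[A] Abelian.Ext (ModuleCat.of A (A ⧸ J)) W p) ≃ₗ[A] (L →ₗ[A] L) :=
    LinearEquiv.congrRight e
  let ext : (A ⧸ J) →ₗ[A] (L →ₗ[A] L) :=
    { toFun := fun r => (r • (LinearMap.id : L →ₗ[A ⧸ J] L)).restrictScalars A
      map_add' := fun r r' => by ext l; simp [add_smul]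
      map_smul' := fun a r => by ext l; simp }
  have hext : Function.Bijective ext := by
    refine ⟨fun r r' h => FaithfulSMul.eq_of_smul_eq_smul fun l : L => ?_, fun h => ?_⟩
    · simpa [ext] using LinearMap.congr_fun h l
    · obtain ⟨r, hr⟩ := (Module.Invertible.toModuleEnd_bijective (A ⧸ J) L).2
        (LinearMap.extendScalarsOfSurjective Ideal.Quotient.mk_surjective h)
      exact ⟨r, LinearMap.ext fun l => LinearMap.congr_fun hr l⟩
  exact ⟨(LinearEquiv.ofBijective φ hbij).trans (ψ.trans (LinearEquiv.ofBijective ext hext).symm)⟩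

open TensorProduct exteriorPower in
theorem top_reduction (A R M : Type u) [CommRing A] [CommRing R] [Algebra A R] [AddCommGroup M] [Module A M] (n : ℕ) :
    Nonempty (R ⊗[A] ↥(⋀[A]^n M) ≃ₗ[R] ↥(⋀[R]^n (R ⊗[A] M))) := by
  let f := TensorProduct.mk A R M 1
  let g : ↥(⋀[A]^n M) →ₗ[A] ↥(⋀[R]^n (R ⊗[A] M)) :=
    alternatingMapLinearEquiv
      { toFun := fun v => ιMulti R n (f ∘ v)
        map_update_add' := fun v i x y => by
          simp only [Function.comp_update, map_add, AlternatingMap.map_update_add]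
        map_update_smul' := fun v i r x => by
          simp only [Function.comp_update, map_smul]
          rw [← algebraMap_smul R r, AlternatingMap.map_update_smul, algebraMap_smul]
        map_eq_zero_of_eq' := fun v i j h hij =>
          (ιMulti R n).map_eq_zero_of_eq _ (congrArg f h) hij }
  exact ⟨(DR15.exteriorPower_isBaseChange (TensorProduct.isBaseChange A M R) n g (fun v => by
    rw [alternatingMapLinearEquiv_apply_ιMulti]; rfl)).equiv⟩

/-- Let `k` be a perfect field, `A` a regular affine `k`-algebra of dimension `n` — here: `A` finitely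
generated and smooth over `k` with `Ω_{A/k}` of rank `n` at every prime — and `xs = (x_1, …, x_p)`,
`p ≤ n`, a sequence with each `x_i` a non-zero-divisor on `A/(x_1, …, x_{i-1})`, generating an ideal
`J` such that `A/J` is again a regular (smooth) affine `k`-algebra. Write `Ω^m` for `m`-th exterior
powers of Kähler differentials. Then `Ext^p_A(Ω^(n-p)(A/J), Ω^n(A))` is isomorphic to `A/J` as an
`A`-module. (Existence of an `A`-linear isomorphism only; the published one is canonical and
compatible with localisation, its unit being the fundamental class of `J` in `A`.) -/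
theorem result (k : Type u) [Field k] [PerfectField k] (A : Type u) [CommRing A] [Algebra k A] [Algebra.FiniteType k A] [Algebra.Smooth k A] (n : ℕ) (hn : ∀ q : PrimeSpectrum A, Module.rankAtStalk (Ω[A⁄k]) q = n) (xs : List A) (hreg : RingTheory.Sequence.IsWeaklyRegular A xs) (J : Ideal A) (hJ : Ideal.ofList xs = J) [Algebra.Smooth k (A ⧸ J)] (p : ℕ) (hp : xs.length = p) (hpn : p ≤ n) : Nonempty (Abelian.Ext (ModuleCat.of A ↥((⋀[A ⧸ J]^(n - p) (Ω[(A ⧸ J)⁄k])).restrictScalars A)) (ModuleCat.of A ↥(⋀[A]^n (Ω[A⁄k]))) p ≃ₗ[A] (A ⧸ J)) := by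
  classical
  let R := A ⧸ J
  have hx : CAlgX.IsH1Regular (fun i : Fin p => xs[(i : ℕ)]'(hp ▸ i.2)) := by
    refine CAlgH.KoszulH1.h1_of_kreg (CAlgH.KoszulH1.kreg_of_isWeaklyRegular ?_)
    convert hreg using 1
    subst hp
    exact List.ofFn_getElem
  have hspan : Ideal.span (Set.range fun i : Fin p => xs[(i : ℕ)]'(hp ▸ i.2)) = J := by
    rw [← hJ, Ideal.ofList]
    congr 1
    ext a
    subst hp
    simp [List.mem_iff_getElem, Fin.exists_iff]
  obtain ⟨e, d, s, hde, hgs, hds, hsp⟩ := conormal_split k A J _ hspan hx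
  haveI : IsNoetherianRing A := Algebra.FiniteType.isNoetherianRing k A
  have hnR : ∀ P : PrimeSpectrum (A ⧸ J), Module.rankAtStalk ((A ⧸ J) ⊗[A] Ω[A⁄k]) P = p + (n - p) := fun P => by
    rw [Module.rankAtStalk_baseChange, hn]; omega
  obtain ⟨hinv, ⟨E⟩⟩ := CommAlg4.DetSplitTop.exists_det_equiv p (n - p) e d hde _ s hgs hds hsp hnR
  haveI := hinv
  obtain ⟨T⟩ := top_reduction A (A ⧸ J) (Ω[A⁄k]) (p + (n - p))
  obtain ⟨X⟩ := Groth.Agent.S5665.result A xs hreg (↥(⋀[A]^n (Ω[A⁄k])))
  rw [hp, hJ] at X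
  rw [show p + (n - p) = n by omega] at T E
  let L := ↥(⋀[A ⧸ J]^(n - p) (Ω[(A ⧸ J)⁄k]))
  let eL : Abelian.Ext (ModuleCat.of A (A ⧸ J)) (ModuleCat.of A ↥(⋀[A]^n (Ω[A⁄k]))) p ≃ₗ[A] L :=
    X.trans ((TensorProduct.quotTensorEquivQuotSMul (↥(⋀[A]^n (Ω[A⁄k]))) J).symm.trans
      ((T.trans E.symm).restrictScalars A))
  exact ext_invertible A J L _ p eL

end Groth.Agent.S5675
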