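import Groth.Statements.S5680
import Groth.Agent.H8Coh.RootLift
-- import your own Groth.Agent.* helpers here

set_option autoImplicit false
set_option backward.isDefEq.respectTransparency.types false
universe u
open CategoryTheory CategoryTheory.Limits AlgebraicGeometry
open FGA

open Groth.Agent
namespace Groth.Agent.S5680

/-- Let A be an artinian local ring with maximal ideal m and ν ≥ 1 an integer with m^(ν+1) = 0; let X be
a scheme proper and flat over Spec A, n a natural number whose image in the residue field of A is
nonzero, L an invertible module on X and L' an invertible module on the closed subscheme X ×_A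
Spec(A/m^ν) whose n-th tensor power is isomorphic to the pullback of L. Then there is an invertible
module M on X whose n-th tensor power is isomorphic to L (existence of an isomorphism). -/
theorem result (A : Type u) [CommRing A] [IsArtinianRing A] [IsLocalRing A]
    (ν : ℕ) (hν : 1 ≤ ν) (hm : IsLocalRing.maximalIdeal A ^ (ν + 1) = ⊥)
    (X : Scheme.{u}) (f : X ⟶ Spec (CommRingCat.of A)) [IsProper f] [Flat f]
    (n : ℕ) (hn : (n : IsLocalRing.ResidueField A) ≠ 0)
    (L : X.Modules) (hL : PicF.IsInvertible L)
    (L' : (pullback f (Spec.map (CommRingCat.ofHom (Ideal.Quotient.mk (IsLocalRing.maximalIdeal A ^ ν))))).Modules)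
    (hL' : PicF.IsInvertible L')
    (hroot : Nonempty (CohB1.tensorPow L' n ≅
      (Scheme.Modules.pullback (pullback.fst f (Spec.map (CommRingCat.ofHom (Ideal.Quotient.mk (IsLocalRing.maximalIdeal A ^ ν)))))).obj L)) :
    ∃ M : X.Modules, PicF.IsInvertible M ∧ Nonempty (CohB1.tensorPow M n ≅ L) := by
  let I := IsLocalRing.maximalIdeal A ^ ν
  haveI : Nontrivial (A ⧸ I) := Ideal.Quotient.nontrivial_iff.2 (ne_top_of_le_ne_top (IsLocalRing.maximalIdeal.isMaximal A).ne_top
    (Ideal.pow_le_self (Nat.one_le_iff_ne_zero.1 hν)))
  haveI : IsClosedImmersion (Spec.map (CommRingCat.ofHom (Ideal.Quotient.mk I))) :=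
    IsClosedImmersion.spec_of_surjective _ Ideal.Quotient.mk_surjective
  haveI : Surjective (Spec.map (CommRingCat.ofHom (Ideal.Quotient.mk I))) := by
    refine ⟨fun p => ?_⟩
    have hI : I ≤ p.asIdeal := fun x hx => by
      refine p.isPrime.mem_of_pow_mem (ν + 1) ?_
      have h := Ideal.pow_mem_pow (Ideal.pow_le_self (Nat.one_le_iff_ne_zero.1 hν) hx) (ν + 1)
      rw [hm, Ideal.mem_bot] at h
      rw [h]
      exact zero_mem _
    have : (p : PrimeSpectrum A) ∈ Set.range (PrimeSpectrum.comap (Ideal.Quotient.mk I)) := by
      rw [range_comap_of_surjective _ _ Ideal.Quotient.mk_surjective, Ideal.mk_ker]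
      exact hI
    exact this
  have hu : IsUnit (n : Γ(pullback f (Spec.map (CommRingCat.ofHom (Ideal.Quotient.mk I))), ⊤)) := by
    have h : IsUnit (n : A) := by
      by_contra h
      exact hn (by rw [← map_natCast (IsLocalRing.residue A)]; exact (IsLocalRing.residue_eq_zero_iff _).2 ((IsLocalRing.mem_maximalIdeal _).2 h))
    simpa only [map_natCast] using h.map ((Scheme.ΓSpecIso (CommRingCat.of A)).inv ≫
      (pullback.fst f (Spec.map (CommRingCat.ofHom (Ideal.Quotient.mk I))) ≫ f).appTop).hom
  exact H8Coh.exists_root_lift (pullback.fst f (Spec.map (CommRingCat.ofHom (Ideal.Quotient.mk I)))) n hu hL' hL hroot.some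

end Groth.Agent.S5680
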