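import Groth.Statements.S5683
import Groth.Agent.PicLib.PullbackGen
open CategoryTheory CategoryTheory.Limits AlgebraicGeometry Groth.Agent.PicLib Groth.Agent.Coherent TopologicalSpace

set_option autoImplicit false
universe u
open CategoryTheory CategoryTheory.Limits AlgebraicGeometry
open FGA

namespace Groth.Agent.S5683

/-- Let f : X ⟶ S be a morphism of schemes such that for every open U of S the induced map from sections
of the structure sheaf of S over U to sections of the structure sheaf of X over the inverse image of
U is bijective. If L is an invertible module on S whose pullback to X is isomorphic to the structure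
sheaf of X, then L is isomorphic to the structure sheaf of S: pullback of invertible modules along f
is injective on isomorphism classes. This is exactness at Pic(S). -/
theorem result {X S : Scheme.{u}} (f : X ⟶ S)
    (hf : ∀ U : S.Opens, Function.Bijective (f.app U)) (L : S.Modules) (hL : PicF.IsInvertible L)
    (htriv : Nonempty ((Scheme.Modules.pullback f).obj L ≅ Coh.structureModule X)) :
    Nonempty (L ≅ Coh.structureModule S) := by
  obtain ⟨e⟩ := htriv
  obtain ⟨s, hs⟩ := (bijective_pullSec f hf hL ⊤).2 (unitVal e.inv ⊤)
  let φ := unitDesc L s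
  have ht : IsGen ((Scheme.Modules.pullback f).obj L) ⊤ (unitVal e.inv ⊤) := by
    intro V hV
    rw [resM_unitVal]
    have hb := ConcreteCategory.bijective_of_isIso (e.inv.app V)
    have hfun : (fun r : Γ(X, V) => r • unitVal e.inv V) = fun r : Γ(X, V) => e.inv.app V r :=
      funext fun r => (app_unit e.inv r).symm
    rw [hfun]
    exact hb
  have hgen : IsGen L ⊤ s := by
    obtain ⟨W, z, hmem, hz⟩ := exists_cover hL
    refine isGen_of_cover W (fun y => le_top) (fun y _ => Opens.mem_iSup.2 ⟨y, hmem y⟩) fun y => ?_
    have hc := (hz y).coef_spec le_rfl (resM L (le_top : W y ≤ ⊤) s)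
    rw [resM_self] at hc
    have hp := congrArg (pullSec f) hc
    rw [pullSec_smul, ← resM_pullSec, hs] at hp
    have g1 : IsGen _ (f ⁻¹ᵁ W y) (resM _ (le_top : f ⁻¹ᵁ W y ≤ ⊤) (unitVal e.inv ⊤)) := ht.restrict _
    have g2 := isGen_pullSec f (hz y) hL
    have hu : IsUnit (f.app (W y) ((hz y).coef le_rfl (resM L le_top s))) := by
      have he := g2.coef_eq le_rfl (r := f.app (W y) ((hz y).coef le_rfl (resM L le_top s)))
        (x := resM _ (le_top : f ⁻¹ᵁ W y ≤ ⊤) (unitVal e.inv ⊤)) (by rw [resM_self]; exact hp)
      rw [← he]
      exact g2.isUnit_coef g1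
    have hu' : IsUnit ((hz y).coef le_rfl (resM L (le_top : W y ≤ ⊤) s)) := by
      let E := RingEquiv.ofBijective (f.app (W y)).hom (hf (W y))
      exact (isUnit_map_iff E _).1 hu
    obtain ⟨w, hw⟩ := hu'
    rw [← hc, ← hw]
    exact (hz y).smul_unit w
  have : IsIso φ := isIso_of_isGen _ (by rw [unitVal_unitDesc, resM_self]; exact hgen)
  exact ⟨(asIso φ).symm⟩

end Groth.Agent.S5683
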