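import Groth.Statements.S5687
import Groth.Agent.H8Coh.PicSmooth
import Groth.Agent.PicLib.FiniteSetTriv
-- import your own Groth.Agent.* helpers here

set_option autoImplicit false
set_option backward.isDefEq.respectTransparency.types false
universe u
open CategoryTheory CategoryTheory.Limits AlgebraicGeometry
open FGA

open Groth.Agent Groth.Agent.PicLib Groth.Agent.Coherent Groth.Agent.AmpleLib Groth.Agent.Coherent.CohBC Groth.Agent.CubeLib
namespace Groth.Agent.S5687

/-- Let S be a locally Noetherian scheme, f : X ⟶ S proper and flat, and P an S-scheme locally of finite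
type over S representing the relative Picard functor of X over S sheafified for the etale topology.
Let s be a point of S such that the second cohomology group of the structure sheaf of the fibre X_s
vanishes. Then there is an open neighbourhood U of s such that the inverse image of U in P is smooth
over S. (Local finite type of P over S is recorded as a hypothesis.) -/
theorem result {X S : Scheme.{u}} [IsLocallyNoetherian S] (f : X ⟶ S)
    [IsProper f] [Flat f] (P : Over S) [LocallyOfFiniteType P.hom] (hP : PicRel.RepresentedBy f P) (s : S)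
    (h2 : Subsingleton (Coh.HH (pullback f (S.fromSpecResidueField s)) (Coh.structureModule _) 2)) :
    ∃ U : S.Opens, s ∈ U ∧ Smooth ((P.hom ⁻¹ᵁ U).ι ≫ P.hom) := by
  haveI : IsLocallyNoetherian X := LocallyOfFiniteType.isLocallyNoetherian f
  haveI := hasInjectiveResolutions_modules X
  obtain ⟨φ, hφ⟩ := hP
  have hO : Coh.IsCoh (Coh.structureModule X) := PicLib.isCoh_of_isInvertible isInvertible_structureModule
  have hfl : FlatMod.IsFlatOver f (Coh.structureModule X) := isFlatOver_of_isFinLocFree f fun x =>
    let ⟨U, hx, e⟩ := isFinLocFreeOfRank_one isInvertible_structureModule x; ⟨U, 1, hx, e⟩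
  let U : S.Opens := ⟨{y | CohIII.fiberRank f (Coh.structureModule X) 2 y < 1}, CubeLib.isOpen_fiberRank_lt f _ hO hfl 2 1⟩
  refine ⟨U, ?_, H8Coh.PicSmooth.smooth_over hφ U fun y hy =>
    (CohBC.subsingleton_fiberH_iff_fiberRank f _ hO y 2).2 (Nat.lt_one_iff.1 hy)⟩
  show CohIII.fiberRank f (Coh.structureModule X) 2 s < 1
  rw [Nat.lt_one_iff, ← CohBC.subsingleton_fiberH_iff_fiberRank f _ hO s 2]
  obtain ⟨e⟩ := AmpleLib.exists_pullStructureIso (X := X) (f.fiberι s)
  exact H8Coh.PicSmooth.subsingleton_HH_of_iso e.symm 2 h2

end Groth.Agent.S5687
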