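import Groth.Statements.S5690
import Groth.Agent.GrpdLib.CoequalizerMono
import Groth.Agent.Stk19b.FlfQuot
-- import your own Groth.Agent.* helpers here

set_option autoImplicit false
universe u
open CategoryTheory CategoryTheory.Limits AlgebraicGeometry
open FGA

namespace Groth.Agent.S5690

/-- Let (U, R, s, t, c) be a groupoid scheme over a scheme S whose source morphism s : R ⟶ U is finite
locally free (finite, flat and locally of finite presentation), and suppose every equivalence class
t(s⁻¹(x)), x a point of U, is contained in some affine open of U. Then there are a scheme Y and a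
morphism q : U ⟶ Y with s ≫ q = t ≫ q which is a coequalizer of s and t in the category of schemes,
affine, integral and surjective, whose fibres are the equivalence classes; and if (t, s) : R ⟶ U ×_S
U is a monomorphism then q is moreover finite, flat and locally of finite presentation and (t, s) :
R ⟶ U ×_Y U is an isomorphism. Only the sufficiency of the affine-class condition is stated (the
published statement is an equivalence: the quotient with these properties exists if and only if
every class lies in an affine open). -/
theorem result {S : Scheme.{u}} (G : Grpd.GroupoidScheme S)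
    [IsFinite G.s] [Flat G.s] [LocallyOfFinitePresentation G.s]
    (haff : ∀ x : ↥G.U, ∃ V : G.U.Opens, IsAffineOpen V ∧ G.t.base '' (G.s.base ⁻¹' {x}) ⊆ (V : Set ↥G.U)) :
    ∃ (Y : Scheme.{u}) (q : G.U ⟶ Y) (w : G.s ≫ q = G.t ≫ q),
      Nonempty (IsColimit (Cofork.ofπ q w)) ∧ IsAffineHom q ∧ IsIntegralHom q ∧ Surjective q ∧
      (∀ x x' : ↥G.U, q.base x = q.base x' ↔ ∃ r : ↥G.R, G.s.base r = x ∧ G.t.base r = x') ∧
      (Mono G.j → IsFinite q ∧ Flat q ∧ LocallyOfFinitePresentation q ∧
        IsIso (pullback.lift G.t G.s w.symm : G.R ⟶ pullback q q)) := by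
  open Groth.Agent.GrpdLib in
  have hb : OrbitsInAffines G := haff
  obtain ⟨hc⟩ := Groth.Agent.GrpdLib.isColimit_proj hb
  let q := Groth.Agent.GrpdLib.proj hb
  have w : G.s ≫ q = G.t ≫ q := (Groth.Agent.GrpdLib.cond_proj hb).symm
  haveI : IsIntegralHom q := Groth.Agent.GrpdLib.isIntegralHom_proj hb
  refine ⟨_, q, w, ⟨Cofork.IsColimit.mk _ (fun s => Cofork.IsColimit.desc hc s.π s.condition.symm)
      (fun s => Cofork.IsColimit.π_desc' hc _ _)
      (fun s m hm => Cofork.IsColimit.hom_ext hc ((hm.trans (Cofork.IsColimit.π_desc' hc _ _).symm)))⟩,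
    inferInstance, inferInstance, Groth.Agent.GrpdLib.surjective_proj hb, fun x x' => ?_, fun hj => ?_⟩
  · refine eq_comm.trans ((Groth.Agent.GrpdLib.fibres_proj hb x' x).trans ?_)
    exact exists_congr fun r => and_comm
  · haveI := hj
    obtain ⟨h1, h2, h3⟩ := Groth.Agent.GrpdLib.finLocFree_proj hb
    have hp := Groth.Agent.GrpdLib.isPullback_arrows hb
    exact ⟨h1, h2, h3, hp.isoPullback.isIso_hom⟩

end Groth.Agent.S5690
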