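import Groth.Statements.S5691

set_option autoImplicit false
universe u
open CategoryTheory CategoryTheory.Limits
open FGA

namespace Groth.Agent.S5691

variable {C : Type u} [SmallCategory C] (F : C ⥤ Type u)

/-- `x` does not come from a proper subobject -/
def IsMinimalElt {X : C} (x : F.obj X) : Prop :=
  ∀ ⦃Z : C⦄ (m : Z ⟶ X) [Mono m] (z : F.obj Z), F.map m z = x → IsIso m

theorem exists_minimal [∀ X : C, IsArtinianObject X] {X : C} (ξ : F.obj X) :
    ∃ (Z : C) (z : F.obj Z) (m : Z ⟶ X), IsMinimalElt F z ∧ F.map m z = ξ := by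
  obtain ⟨P, ⟨z, hz⟩, hmin⟩ := wellFounded_lt.has_min {P : Subobject X | ∃ z, F.map P.arrow z = ξ}
    ⟨Subobject.mk (𝟙 X), F.map (Subobject.underlyingIso (𝟙 X)).inv ξ, by
      rw [← Functor.map_comp_apply, Subobject.underlyingIso_arrow, CategoryTheory.Functor.map_id]; rfl⟩
  refine ⟨(P : C), z, P.arrow, fun Z m _ w hw => ?_, hz⟩
  have hle : Subobject.mk (m ≫ P.arrow) ≤ P := Subobject.mk_le_of_comm m rfl
  have heq : Subobject.mk (m ≫ P.arrow) = P := by
    by_contra hne
    refine hmin (Subobject.mk (m ≫ P.arrow)) ⟨F.map (Subobject.underlyingIso (m ≫ P.arrow)).inv w, ?_⟩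
      (lt_of_le_of_ne hle hne)
    rw [← Functor.map_comp_apply, Subobject.underlyingIso_arrow, Functor.map_comp_apply, hw, hz]
  have h2 : m = ((Subobject.underlyingIso (m ≫ P.arrow)).symm ≪≫ eqToIso (congrArg _ heq)).hom := by
    rw [← cancel_mono P.arrow, Iso.trans_hom, eqToIso.hom, Iso.symm_hom, Category.assoc]
    erw [Subobject.arrow_congr _ _ heq, Subobject.underlyingIso_arrow]
  exact h2 ▸ Iso.isIso_hom _

variable [HasFiniteLimits C] [PreservesFiniteLimits F]

theorem IsMinimalElt.hom_ext {X Y : C} {x : F.obj X} (hx : IsMinimalElt F x) (f g : X ⟶ Y)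
    (h : F.map f x = F.map g x) : f = g := by
  have hl := isLimitForkMapOfIsLimit F (equalizer.condition f g) (equalizerIsEqualizer f g)
  obtain ⟨l, hl'⟩ := Fork.IsLimit.lift' hl (↾ fun _ : PUnit.{u+1} => x)
    (by ext; exact h)
  have hx' := hx (equalizer.ι f g) (l PUnit.unit) (ConcreteCategory.congr_hom hl' PUnit.unit)
  exact (cancel_epi (equalizer.ι f g)).1 (equalizer.condition f g)

theorem exists_prod_elt {X Y : C} (x : F.obj X) (y : F.obj Y) :
    ∃ w : F.obj (X ⨯ Y), F.map prod.fst w = x ∧ F.map prod.snd w = y := by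
  have hl := mapIsLimitOfPreservesOfIsLimit F _ _ (prodIsProd X Y)
  obtain ⟨l, h1, h2⟩ := BinaryFan.IsLimit.lift' hl (↾ fun _ : PUnit.{u+1} => x) (↾ fun _ : PUnit.{u+1} => y)
  exact ⟨l PUnit.unit, ConcreteCategory.congr_hom h1 PUnit.unit, ConcreteCategory.congr_hom h2 PUnit.unit⟩

/-- the category of minimal elements -/
structure MinElt where
  X : C
  x : F.obj X
  min : IsMinimalElt F x

instance : SmallCategory (MinElt F) where
  Hom a b := {f : a.X ⟶ b.X // F.map f a.x = b.x}
  id a := ⟨𝟙 _, by rw [CategoryTheory.Functor.map_id]; rfl⟩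
  comp f g := ⟨f.1 ≫ g.1, by rw [Functor.map_comp_apply, f.2, g.2]⟩
  id_comp f := Subtype.ext (Category.id_comp f.1)
  comp_id f := Subtype.ext (Category.comp_id f.1)
  assoc f g h := Subtype.ext (Category.assoc f.1 g.1 h.1)


def MinElt.forget : MinElt F ⥤ C where
  obj a := a.X
  map f := f.1
  map_id _ := rfl
  map_comp _ _ := rfl


/-- Let C be a small category with finite limits all of whose objects are artinian (the subobjects of
each object satisfy the descending chain condition), and let F be a set-valued functor on C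
preserving finite limits. Then F is strictly pro-representable: there are a small cofiltered
category J and a diagram D : J ⥤ C all of whose transition morphisms are epimorphisms such that F is
isomorphic to the colimit of the corepresentable functors Hom(D j, -). -/
theorem result {C : Type u} [SmallCategory C]
    [HasFiniteLimits C] (hart : ∀ X : C, IsArtinianObject X) (F : C ⥤ Type u) [PreservesFiniteLimits F] :
    ∃ (J : Type u) (_ : SmallCategory J) (_ : IsCofiltered J) (D : J ⥤ C),
      (∀ ⦃j j' : J⦄ (a : j ⟶ j'), Epi (D.map a)) ∧ Nonempty (F ≅ colimit (D.op ⋙ coyoneda)) := by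
  classical
  haveI := hart
  haveI hcof : IsCofiltered (MinElt F) := by
    haveI : IsCofilteredOrEmpty (MinElt F) := by
      refine ⟨fun a b => ?_, fun a b f g => ⟨a, 𝟙 _, ?_⟩⟩
      · obtain ⟨w, h1, h2⟩ := exists_prod_elt F a.x b.x
        obtain ⟨Z, z, m, hmin, hm⟩ := exists_minimal F w
        exact ⟨⟨Z, z, hmin⟩, ⟨m ≫ prod.fst, by rw [Functor.map_comp_apply, hm, h1]⟩,
          ⟨m ≫ prod.snd, by rw [Functor.map_comp_apply, hm, h2]⟩, trivial⟩
      · rw [show f = g from Subtype.ext (a.min.hom_ext F f.1 g.1 (f.2.trans g.2.symm))]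
    obtain ⟨l⟩ : Nonempty (F.obj (⊤_ C)) :=
      ⟨(IsTerminal.isTerminalObj F _ terminalIsTerminal).from PUnit PUnit.unit⟩
    obtain ⟨Z, z, m, hmin, -⟩ := exists_minimal F l
    exact { nonempty := ⟨⟨Z, z, hmin⟩⟩ }
  refine ⟨MinElt F, inferInstance, hcof, MinElt.forget F, fun a b f => ⟨fun g h hgh => ?_⟩, ?_⟩
  · refine b.min.hom_ext F g h ?_
    conv_lhs => rw [← f.2, ← Functor.map_comp_apply]
    conv_rhs => rw [← f.2, ← Functor.map_comp_apply]
    exact congrArg (fun t => F.map t a.x) hgh
  let G := (MinElt.forget F).op ⋙ coyoneda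
  let c : Cocone G :=
    { pt := F
      ι :=
        { app := fun a =>
            { app := fun Y => ↾ fun f => F.map f a.unop.x
              naturality := fun Y Y' g => by ext f; exact Functor.map_comp_apply F f g _ }
          naturality := fun a b g => by
            ext Y f
            show F.map (g.unop.1 ≫ f) b.unop.x = F.map f a.unop.x
            rw [Functor.map_comp_apply, g.unop.2]
            try rfl } }
  have hbij : ∀ Y : C, Function.Bijective ((colimit.desc G c).app Y) := by
    intro Y
    have hY := isColimitOfPreserves ((evaluation C (Type u)).obj Y) (colimit.isColimit G)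
    have happ : ∀ (a : (MinElt F)ᵒᵖ) (f : a.unop.X ⟶ Y),
        (colimit.desc G c).app Y ((colimit.ι G a).app Y f) = F.map f a.unop.x := fun a f =>
      ConcreteCategory.congr_hom (NatTrans.congr_app (colimit.ι_desc c a) Y) f
    have hmap : ∀ {a b : (MinElt F)ᵒᵖ} (g : a ⟶ b) (f : a.unop.X ⟶ Y),
        (colimit.ι G b).app Y (g.unop.1 ≫ f) = (colimit.ι G a).app Y f := fun {a b} g f =>
      ConcreteCategory.congr_hom (NatTrans.congr_app (colimit.w G g) Y) f
    refine ⟨fun p p' hpp => ?_, fun y => ?_⟩
    · obtain ⟨a, f, rfl⟩ := Types.jointly_surjective_of_isColimit hY p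
      obtain ⟨b, f', rfl⟩ := Types.jointly_surjective_of_isColimit hY p'
      change (colimit.ι G a).app Y f = (colimit.ι G b).app Y f'
      replace hpp : F.map f a.unop.x = F.map f' b.unop.x := (happ a f).symm.trans (hpp.trans (happ b f'))
      obtain ⟨d, u, v, -⟩ := IsCofilteredOrEmpty.cone_objs a.unop b.unop
      rw [← hmap (a := a) (b := Opposite.op d) u.op f, ← hmap (a := b) (b := Opposite.op d) v.op f']
      refine congrArg _ (d.min.hom_ext F _ _ ?_)
      change F.map (u.1 ≫ f) d.x = F.map (v.1 ≫ f') d.x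
      rw [Functor.map_comp_apply, Functor.map_comp_apply, u.2, v.2]
      exact hpp
    · obtain ⟨Z, z, m, hmin, hm⟩ := exists_minimal F y
      exact ⟨(colimit.ι G (Opposite.op ⟨Z, z, hmin⟩)).app Y m, (happ (Opposite.op ⟨Z, z, hmin⟩) m).trans hm⟩
  haveI : ∀ Y, IsIso ((colimit.desc G c).app Y) := fun Y => (CategoryTheory.isIso_iff_bijective _).2 (hbij Y)
  haveI := NatIso.isIso_of_isIso_app (colimit.desc G c)
  exact ⟨(asIso (colimit.desc G c)).symm⟩

end Groth.Agent.S5691
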