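import Groth.Statements.S5692
import Groth.Agent.FlatMor12.FittSheaf
-- import your own Groth.Agent.* helpers here

set_option autoImplicit false
set_option backward.isDefEq.respectTransparency.types false
universe u
open CategoryTheory CategoryTheory.Limits AlgebraicGeometry
open FGA

namespace Groth.Agent.S5692

/-- Let S be a locally Noetherian scheme, M a coherent module on S and r a natural number. Then there is
an immersion e : Z ⟶ S with the following universal property: for every scheme T and every morphism
g : T ⟶ S, the pullback of M along g is locally free of rank r if and only if g factors through e.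
If moreover M is generated by r sections on a neighbourhood of every point of S (equivalently all
fibres of M have rank at most r), then e is a closed immersion. -/
theorem result (S : Scheme.{u}) [IsLocallyNoetherian S]
    (M : S.Modules) (hM : Coh.IsCoh M) (r : ℕ) :
    ∃ (Z : Scheme.{u}) (e : Z ⟶ S), IsImmersion e ∧
      (∀ (T : Scheme.{u}) (g : T ⟶ S),
        FlatMod.IsFinLocFreeOfRank r ((Scheme.Modules.pullback g).obj M) ↔ ∃ g' : T ⟶ Z, g' ≫ e = g) ∧
      ((∀ s : ↥S, ∃ U : S.Opens, s ∈ U ∧ ∃ p : FlatMod.freeMod (↑U) r ⟶ M.restrict U.ι, Epi p) →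
        IsClosedImmersion e) := by
  haveI : Coh.IsQCoh M := hM.1
  have hFT : CohB1.IsFT M := hM.2
  obtain ⟨Z, e, he, hZ⟩ := Groth.Agent.FlatMor12.FittSheaf.exists_immersion M hFT r
  refine ⟨Z, e, he, fun T g => (hZ T g).symm, fun hgen => ?_⟩
  have hsupp : (Fitt.sheafIdeal M r).support = ⊥ := le_bot_iff.1 fun s hs => by
    obtain ⟨U, hsU, p, hp⟩ := hgen s
    exact absurd hs ((Groth.Agent.FlatMor12.FittSheaf.generated_iff M hFT s r).1 ⟨U, hsU, p, hp⟩)
  have htop : Fitt.sheafIdeal M r = ⊤ := (Scheme.IdealSheafData.support_eq_bot_iff _).1 hsupp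
  let I : S.IdealSheafData := if r = 0 then ⊥ else Fitt.sheafIdeal M (r - 1)
  -- the stratum is the closed subscheme of `I`
  have key : ∀ (T : Scheme.{u}) (f : T ⟶ S),
      FlatMod.IsFinLocFreeOfRank r ((Scheme.Modules.pullback f).obj M) ↔ I.comap f = ⊥ := by
    intro T f
    haveI := Groth.Agent.EGA43.InjFibre.isQCoh_pullback f M
    have hT := Groth.Agent.Coherent.isFT_pullback_qcoh f (F := M) inferInstance hFT
    rw [Groth.Agent.FlatMor12.FittSheaf.isFinLocFreeOfRank_iff _ hT]
    simp only [← Groth.Agent.FlatMor12.FittSheaf.comap_eq M f hFT]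
    constructor
    · rintro ⟨h0, -⟩
      show (ite _ _ _ : S.IdealSheafData).comap f = ⊥
      split_ifs with hr
      · exact Scheme.IdealSheafData.comap_bot f
      · exact h0 (r - 1) (by omega)
    · intro h0
      refine ⟨fun k hk => le_bot_iff.1 ?_, fun k hk => top_le_iff.1 ?_⟩
      · have e' : I = Fitt.sheafIdeal M (r - 1) := if_neg (by omega)
        rw [← h0, e']
        exact Scheme.IdealSheafData.comap_mono f
          (Groth.Agent.FlatMor12.FittSheaf.sheafIdeal_mono M hFT (by omega))
      · rw [← Scheme.IdealSheafData.comap_top f, ← htop]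
        exact Scheme.IdealSheafData.comap_mono f (Groth.Agent.FlatMor12.FittSheaf.sheafIdeal_mono M hFT hk)
  have hbot : I.comap I.subschemeι = ⊥ := by
    refine le_bot_iff.1 (Scheme.IdealSheafData.le_map_iff_comap_le.1 ?_)
    rw [Scheme.IdealSheafData.map_bot, Scheme.IdealSheafData.ker_subschemeι]
  obtain ⟨a, ha⟩ := (hZ _ I.subschemeι).2 ((key _ _).2 hbot)
  have he0 : I.comap e = ⊥ := (key _ e).1 ((hZ _ e).1 ⟨𝟙 Z, Category.id_comp e⟩)
  have hle : I.subschemeι.ker ≤ e.ker := by
    rw [Scheme.IdealSheafData.ker_subschemeι, ← Scheme.IdealSheafData.map_bot,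
      Scheme.IdealSheafData.le_map_iff_comap_le, he0]
  haveI := he
  have hr : Set.range e = Set.range I.subschemeι := by
    refine le_antisymm ?_ ?_
    · rintro _ ⟨z, rfl⟩
      exact ⟨IsClosedImmersion.lift _ e hle z, by
        rw [← Scheme.Hom.comp_apply, IsClosedImmersion.lift_fac]⟩
    · rintro _ ⟨z, rfl⟩
      exact ⟨a z, by rw [← Scheme.Hom.comp_apply, ha]⟩
  exact IsClosedImmersion.of_isPreimmersion _ (hr ▸ (Scheme.Hom.isClosedEmbedding I.subschemeι).isClosed_range)

end Groth.Agent.S5692
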