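import Groth.Statements.S5693
import Groth.Agent.H8Grp.Torsion
-- import your own Groth.Agent.* helpers here

set_option autoImplicit false
set_option backward.isDefEq.respectTransparency.types false
universe u
open CategoryTheory CategoryTheory.Limits MonoidalCategory CartesianMonoidalCategory MonObj GrpObj AlgebraicGeometry
open FGA

namespace Groth.Agent.S5693

/-- Let S be a locally Noetherian scheme, G a commutative group scheme locally of finite type over S and
n ≥ 1 an integer. The set of points x of G for which n is the least positive integer such that the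
n-th power morphism sends x into the union of the connected components of the identity of the fibres
is locally constructible in G (the order function on the torsion-component set is locally
constructible). -/
theorem result (S : Scheme.{u}) [IsLocallyNoetherian S] (G : Over S) [GrpObj G]
    [IsCommMonObj G] [LocallyOfFiniteType G.hom] (n : ℕ) (hn : 0 < n) :
    Topology.IsLocallyConstructible {x : ↥G.left | ((𝟙 G : G ⟶ G) ^ n).left.base x ∈ SGA3x.neutralSet G ∧
      ∀ d : ℕ, 0 < d → d < n → ((𝟙 G : G ⟶ G) ^ d).left.base x ∉ SGA3x.neutralSet G} := by
  have hc : ∀ {E : Set ↥G.left}, Topology.IsLocallyConstructible E → Topology.IsLocallyConstructible Eᶜ :=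
    fun hE x => by
      obtain ⟨U, h1, h2, h3⟩ := hE x
      exact ⟨U, h1, h2, h3.compl⟩
  have h := (Groth.Agent.H8Grp.isLocallyConstructible_torN (G := G) n).inter
    (hc (Topology.IsLocallyConstructible.biUnion (s := {d : ℕ | 0 < d ∧ d < n})
      (f := fun d => Groth.Agent.H8Grp.torN G d) ((Set.finite_lt_nat n).subset fun d hd => hd.2)
      (fun d _ => Groth.Agent.H8Grp.isLocallyConstructible_torN (G := G) d)))
  convert h using 1
  ext x
  simp only [Set.mem_inter_iff, Set.mem_compl_iff, Set.mem_iUnion, not_exists]
  exact ⟨fun hx => ⟨hx.1, fun d hd => hx.2 d hd.1 hd.2⟩, fun hx => ⟨hx.1, fun d h1 h2 => hx.2 d ⟨h1, h2⟩⟩⟩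

end Groth.Agent.S5693
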