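import Groth.Statements.S5694
import Groth.Agent.H8Grp.Torsion
-- import your own Groth.Agent.* helpers here

set_option autoImplicit false
set_option backward.isDefEq.respectTransparency.types false
universe u
open CategoryTheory CategoryTheory.Limits MonoidalCategory CartesianMonoidalCategory MonObj GrpObj AlgebraicGeometry
open FGA

namespace Groth.Agent.S5694

/-- Let S be a locally Noetherian scheme and G a commutative group scheme locally of finite type over S
such that the union of the connected components of the identity in the fibres of G is closed. Let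
p(s) denote the characteristic exponent of the residue field of S at s. Then the set of points x of
G such that some p(s)^h-th power morphism (h ≥ 0, s the image of x in S) sends x into that union, is
closed in G. -/
theorem result (S : Scheme.{u}) [IsLocallyNoetherian S] (G : Over S) [GrpObj G]
    [IsCommMonObj G] [LocallyOfFiniteType G.hom] (h0 : IsClosed (SGA3x.neutralSet G))
    (p : ↥S → ℕ) (hp : ∀ s : ↥S, ringExpChar (S.residueField s) = p s) :
    IsClosed {x : ↥G.left | ∃ h m : ℕ, m = p (G.hom.base x) ^ h ∧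
      ((𝟙 G : G ⟶ G) ^ m).left.base x ∈ SGA3x.neutralSet G} := by
  refine Groth.Agent.H8Grp.isClosed_of_opens fun W hW => ?_
  obtain ⟨N, hN, hb⟩ := Groth.Agent.H8Grp.exists_bound (G := G) W hW
  let K : Set ↥G.left := SGA3x.neutralSet G ∪ ⋃ q ∈ N.primeFactors,
    (G.hom.base ⁻¹' {s | ringExpChar (S.residueField s) = q}) ∩ Groth.Agent.H8Grp.torN G (q ^ N.factorization q)
  refine ⟨K, h0.union (isClosed_biUnion_finset fun q hq =>
    ((Groth.Agent.H8Grp.isClosed_expChar q (Nat.prime_of_mem_primeFactors hq)).preimage G.hom.continuous).inter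
      (Groth.Agent.H8Grp.isClosed_torN h0 _)), fun x hx => ⟨?_, ?_⟩⟩
  · rintro ⟨h, m, hm, hxm⟩
    have hp1 : p (G.hom.base x) = 1 ∨ (p (G.hom.base x)).Prime :=
      (expChar_is_prime_or_one (S.residueField (G.hom.base x)) (p (G.hom.base x)) (hq := hp _ ▸ inferInstance)).symm
    have hmpos : 0 < m := by
      rw [hm]; exact pow_pos (hp1.elim (fun e => by omega) (fun e => e.pos)) h
    have hN' := hb x hx m hmpos hxm
    have hg := Groth.Agent.H8Grp.pow_gcd_mem hxm hN'
    have h1 : (((𝟙 G : G ⟶ G) ^ 1).left.base x ∈ SGA3x.neutralSet G) → x ∈ K := fun h' => by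
      rw [pow_one] at h'; exact Or.inl h'
    rcases hp1 with e | e
    · refine h1 ?_
      rw [hm, e, one_pow] at hxm
      exact hxm
    subst hm
    obtain ⟨i, -, hi⟩ := (Nat.dvd_prime_pow e).1 (Nat.gcd_dvd_left (p (G.hom.base x) ^ h) N)
    by_cases hi0 : i = 0
    · refine h1 ?_
      rw [hi0, pow_zero] at hi
      rwa [hi] at hg
    have hdvd : p (G.hom.base x) ^ i ∣ N := hi ▸ Nat.gcd_dvd_right _ N
    refine Or.inr (Set.mem_iUnion₂.2 ⟨p (G.hom.base x),
      Nat.mem_primeFactors.2 ⟨e, (dvd_pow_self _ hi0).trans hdvd, hN.ne'⟩, hp _, ?_⟩)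
    refine Groth.Agent.H8Grp.pow_mem_of_dvd (pow_dvd_pow _ ((e.pow_dvd_iff_le_factorization hN.ne').1 hdvd)) ?_
    rwa [hi] at hg
  · rintro (h | h)
    · exact ⟨0, 1, (pow_zero _).symm, by rw [pow_one]; exact h⟩
    · obtain ⟨q, -, hq, hxq⟩ := Set.mem_iUnion₂.1 h
      exact ⟨N.factorization q, _, by rw [← hp, hq], hxq⟩

end Groth.Agent.S5694
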