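import Groth.Statements.S5700
import Groth.Agent.RigDesc8.Classes
-- import your own Groth.Agent.* helpers here

set_option autoImplicit false
set_option backward.isDefEq.respectTransparency.types false
universe u
open CategoryTheory CategoryTheory.Limits AlgebraicGeometry
open Groth.Agent.PicLib
open FGA

namespace Groth.Agent.S5700

/-- Let f : X ⟶ S be quasi-compact and separated, with the induced maps from sections of the structure
sheaf of S to sections of the structure sheaf of X bijective over every open of S, and admitting a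
section σ; let g : S' ⟶ S be flat, surjective and quasi-compact, X' = X ×_S S', S'' = S' ×_S S' and
X'' = X ×_S S'' with its two projections to X'. If L' is an invertible module on X' whose pullbacks
along the two projections X'' ⟶ X' become isomorphic after tensoring the second with the pullback of
some invertible module on S'', then there are an invertible module L on X and an invertible module
N' on S' with L' isomorphic to the tensor product of the pullback of L and the pullback of N'.
(Exactness of Pic(X)/Pic(S) → Pic(X')/Pic(S') ⇉ Pic(X'')/Pic(S'').) (The published statement asks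
for sections of f only locally on S and is phrased with relative Picard classes, the global sections
of the Zariski sheaf on S associated with U ↦ Pic(X_U); this row assumes a global section, in which
case those classes are classes of invertible modules on X modulo those pulled back from S, and the
local-section form follows from it by restricting to the opens of S over which a section exists.) -/
theorem result {X S S' : Scheme.{u}} (f : X ⟶ S)
    [QuasiCompact f] [IsSeparated f] (hf : ∀ U : S.Opens, Function.Bijective (f.app U))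
    (σ : S ⟶ X) (hσ : σ ≫ f = 𝟙 S)
    (g : S' ⟶ S) [Flat g] [Surjective g] [QuasiCompact g]
    (L' : (pullback f g).Modules) (hL' : PicF.IsInvertible L')
    (hcomp : ∃ N'' : (pullback g g).Modules, PicF.IsInvertible N'' ∧
      Nonempty ((Scheme.Modules.pullback (pullback.map f (pullback.fst g g ≫ g) f g (𝟙 X) (pullback.fst g g) (𝟙 S)
          ((Category.comp_id f).trans (Category.id_comp f).symm) (Category.comp_id _))).obj L' ≅
        CohB1.tensorMod ((Scheme.Modules.pullback (pullback.map f (pullback.fst g g ≫ g) f g (𝟙 X) (pullback.snd g g) (𝟙 S)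
          ((Category.comp_id f).trans (Category.id_comp f).symm) ((Category.comp_id _).trans pullback.condition))).obj L')
          ((Scheme.Modules.pullback (pullback.snd f (pullback.fst g g ≫ g))).obj N''))) :
    ∃ (L : X.Modules) (N' : S'.Modules), PicF.IsInvertible L ∧ PicF.IsInvertible N' ∧
      Nonempty (L' ≅ CohB1.tensorMod ((Scheme.Modules.pullback (pullback.fst f g)).obj L)
        ((Scheme.Modules.pullback (pullback.snd f g)).obj N')) := by
  classical
  obtain ⟨N'', hN'', ⟨eN⟩⟩ := hcomp
  let T : Over S := Over.mk (𝟙 S)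
  let U : Over S := Over.mk g
  let w : U ⟶ T := Over.homMk g (Category.comp_id g)
  haveI : Flat w.left := ‹Flat g›
  haveI : Surjective w.left := ‹Surjective g›
  haveI : QuasiCompact w.left := ‹QuasiCompact g›
  have hbij : ∀ V : Over S, Flat V.hom → Function.Bijective (PicF.XTproj f V).appTop := fun V _ =>
    RigDesc8.bijective_snd_app f (fun W _ => hf W) V.hom ⊤
  have hb1 := hbij U ‹Flat g›
  haveI hF2 : Flat (RigDesc8.W2 w).hom := inferInstanceAs (Flat (pullback.fst g g ≫ g))
  haveI : Flat (RigDesc8.p₁ w).left := inferInstanceAs (Flat (pullback.fst g g))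
  have hb3 := hbij (RigDesc8.W3 w)
    (inferInstanceAs (Flat (pullback.fst (RigDesc8.p₂ w).left (RigDesc8.p₁ w).left ≫ (RigDesc8.W2 w).hom)))
  have hb2 := hbij (RigDesc8.W2 w) hF2
  let c₀ : PicM (PicF.XT f U) := PicM.of hL'
  let n'' : PicM (RigDesc8.W2 w).left := PicM.of hN''
  let P₁ := PicF.XTmap f (RigDesc8.p₁ w)
  let P₂ := PicF.XTmap f (RigDesc8.p₂ w)
  let π₂ := PicF.XTproj f (RigDesc8.W2 w)
  have h0 : PicM.pull P₁ c₀ = PicM.pull P₂ c₀ * PicM.pull π₂ n'' := by
    refine (PicM.of_eq_iff (PicLoc.isInvertible_pullback _ hL')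
      (AmpleLib.isInvertible_tensorMod (PicLoc.isInvertible_pullback _ hL') (PicLoc.isInvertible_pullback _ hN''))).2 ?_
    exact ⟨eN⟩
  let sU := PicM.pull (PicF.secT f σ hσ U) c₀
  obtain ⟨s', hs'⟩ := PicM.exists_mul_eq_one sU
  let c := c₀ * PicM.pull (PicF.XTproj f U) s'
  have hc : PicM.pull (PicF.secT f σ hσ U) c = 1 := by
    rw [map_mul, PicM.pull_pull, RigDesc27.secT_proj, PicM.pull_id]
    exact hs'
  have hP : ∀ p : RigDesc8.W2 w ⟶ U, PicM.pull (PicF.XTmap f p) c =
      PicM.pull (PicF.XTmap f p) c₀ * PicM.pull π₂ (PicM.pull p.left s') := fun p => by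
    rw [map_mul, PicM.pull_pull, PicM.pull_pull, RigDesc27.XTmap_proj]
  let m := n'' * PicM.pull (RigDesc8.p₁ w).left s' * PicM.pull (RigDesc8.p₂ w).left sU
  have key : PicM.pull P₁ c = PicM.pull P₂ c * PicM.pull π₂ m := by
    rw [hP, hP, h0, _root_.mul_assoc, _root_.mul_assoc, ← map_mul, ← map_mul]
    refine congrArg (fun x => PicM.pull P₂ c₀ * PicM.pull π₂ x) ?_
    have e : PicM.pull (RigDesc8.p₂ w).left s' * PicM.pull (RigDesc8.p₂ w).left sU = 1 := by
      rw [← map_mul, _root_.mul_comm, hs', map_one]
    simp only [m]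
    rw [_root_.mul_left_comm, e, _root_.mul_one]
  have hsec : ∀ p : RigDesc8.W2 w ⟶ U,
      PicM.pull (PicF.secT f σ hσ (RigDesc8.W2 w)) (PicM.pull (PicF.XTmap f p) c) = 1 := fun p => by
    rw [PicM.pull_pull, RigDesc27.secT_XTmap σ hσ p, ← PicM.pull_pull, hc, map_one]
  have hm : m = 1 := by
    have h' := congrArg (PicM.pull (PicF.secT f σ hσ (RigDesc8.W2 w))) key
    have h := (hsec (RigDesc8.p₁ w)).symm.trans (h'.trans ((map_mul _ _ _).trans
      (congrArg (· * _) (hsec (RigDesc8.p₂ w)))))
    rw [_root_.one_mul, PicM.pull_pull, RigDesc27.secT_proj, PicM.pull_id] at h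
    exact h.symm
  rw [hm, map_one, _root_.mul_one] at key
  obtain ⟨d, hd⟩ := RigDesc8.exists_descend hb1 hb2 hb3 c hc key
  let e : X ⟶ PicF.XT f T := pullback.lift (𝟙 X) f (by simp [T])
  have hw : PicF.XTmap f w = pullback.fst f U.hom ≫ e := by
    apply pullback.hom_ext
    · rw [RigDesc27.XTmap_fst, Category.assoc, pullback.lift_fst, Category.comp_id]
    · rw [Category.assoc, pullback.lift_snd]
      exact (RigDesc27.XTmap_proj w).trans pullback.condition.symm
  obtain ⟨L, hL, hLd⟩ := PicM.exists_eq_of (PicM.pull e d)
  obtain ⟨N', hN', hNd⟩ := PicM.exists_eq_of sU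
  refine ⟨L, N', hL, hN', (PicM.of_eq_iff hL'
    (AmpleLib.isInvertible_tensorMod (PicLoc.isInvertible_pullback _ hL) (PicLoc.isInvertible_pullback _ hN'))).1 ?_⟩
  show c₀ = PicM.pull (pullback.fst f U.hom) (PicM.of hL) * PicM.pull (PicF.XTproj f U) (PicM.of hN')
  rw [← hLd, ← hNd, PicM.pull_pull, ← hw, hd, _root_.mul_assoc, ← map_mul, _root_.mul_comm s', hs', map_one,
    _root_.mul_one]

end Groth.Agent.S5700
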