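import Groth.Statements.S5701
import Mathlib
import Groth.Agent.CSA.SelfCentralizing

set_option autoImplicit false
universe u v
open TensorProduct
open Dix

namespace Groth.Agent.S5701

/-- Let k be a field and A a finite-dimensional k-algebra which is absolutely semisimple (its base
change to an algebraic closure of k is a semisimple ring). For a subalgebra L of A, call L étale
when it is commutative and all its elements are separable over k. Then L is étale and equal to its
own centralizer in A if and only if L is a maximal étale subalgebra of A. -/
theorem result (k : Type u) [Field k] (A : Type v) [Ring A] [Algebra k A] [FiniteDimensional k A] (hss : IsSemisimpleRing (AlgebraicClosure k ⊗[k] A)) (L : Subalgebra k A) : ((∀ x ∈ L, ∀ y ∈ L, x * y = y * x) ∧ Algebra.IsSeparable k L ∧ Subalgebra.centralizer k (L : Set A) = L) ↔ ((∀ x ∈ L, ∀ y ∈ L, x * y = y * x) ∧ Algebra.IsSeparable k L ∧ ∀ L' : Subalgebra k A, (∀ x ∈ L', ∀ y ∈ L', x * y = y * x) → Algebra.IsSeparable k L' → L ≤ L' → L' = L) := by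
  open Groth.Agent.CSA in
    haveI := hss
    haveI : IsSemisimpleRing A := by
      obtain ⟨φ, hφ⟩ : ∃ φ : AlgebraicClosure k →ₗ[k] k, φ 1 = 1 :=
        LinearMap.exists_extend_of_notMem (p := ⊥) 0 (v := (1 : AlgebraicClosure k)) (by simp) 1
          |>.imp fun φ h => h.2
      let E : AlgebraicClosure k ⊗[k] A →ₗ[k] A := (TensorProduct.lid k A).toLinearMap.comp (φ.rTensor A)
      refine isSemisimpleRing_of_retraction
        (Algebra.TensorProduct.includeRight (R := k) (A := AlgebraicClosure k) (B := A)).toRingHom E.toAddMonoidHom
        (fun c => by simp [E, hφ]) (fun a c => ?_) (fun c a => ?_)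
      · induction a using TensorProduct.induction_on with
        | zero => simp
        | add x y hx hy => simp only [add_mul, map_add, hx, hy]
        | tmul x y => simp [E, smul_mul_assoc]
      · induction a using TensorProduct.induction_on with
        | zero => simp
        | add x y hx hy => simp only [mul_add, map_add, hx, hy]
        | tmul x y => simp [E]
    constructor
    · rintro ⟨hc, hsep, hcent⟩
      refine ⟨hc, hsep, fun L' hc' _ hle => le_antisymm (fun x hx => ?_) hle⟩
      rw [← hcent, Subalgebra.mem_centralizer_iff]
      exact fun g hg => hc' g (hle hg) x hx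
    · rintro ⟨hc, hsep, hmax⟩
      haveI := hsep
      exact ⟨hc, hsep, selfCentralizing_of_maximal L hc hmax⟩
end Groth.Agent.S5701
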