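import Groth.Statements.S5704
import Mathlib
import Groth.Agent.CSA.AzumayaLift

set_option autoImplicit false
universe u v
open TensorProduct
open Dix

namespace Groth.Agent.S5704

/-- Let R be a henselian local ring with residue field k and let A₀ be a finite-dimensional central
simple k-algebra. Then there exists an Azumaya algebra A over R whose special fibre k ⊗_R A is
isomorphic to A₀ as a k-algebra. -/
theorem result (R : Type u) [CommRing R] [HenselianLocalRing R] (A₀ : Type u) [Ring A₀] [Algebra (IsLocalRing.ResidueField R) A₀] [Algebra.IsCentral (IsLocalRing.ResidueField R) A₀] [IsSimpleRing A₀] [FiniteDimensional (IsLocalRing.ResidueField R) A₀] : ∃ (A : Type u) (_ : Ring A) (_ : Algebra R A), IsAzumaya R A ∧ Nonempty ((IsLocalRing.ResidueField R ⊗[R] A) ≃ₐ[IsLocalRing.ResidueField R] A₀) := by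
  open Groth.Agent.CSA in
    haveI := (isAzumaya_iff_centralSimple (k := IsLocalRing.ResidueField R) A₀).mpr ⟨inferInstance, inferInstance⟩
    exact exists_azumaya_lift R A₀
end Groth.Agent.S5704
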