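import Groth.Statements.S5705
import Groth.Agent.CSA.AzumayaAut

set_option autoImplicit false
universe u v
open TensorProduct
open Dix

namespace Groth.Agent.S5705

/-- Over a local base, where the Zariski-local conclusion becomes global. Let R be a local ring and A an
Azumaya algebra over R. Then every R-algebra automorphism u of A is inner, u(x) = a x a⁻¹ for some
unit a of A, and the unit a is determined up to multiplication by a unit of R. -/
theorem result (R : Type u) [CommRing R] [IsLocalRing R] (A : Type v) [Ring A] [Algebra R A] [IsAzumaya R A] (u : A ≃ₐ[R] A) : (∃ a : Aˣ, ∀ x : A, u x = (a : A) * x * (a⁻¹ : Aˣ)) ∧ (∀ a a' : Aˣ, (∀ x : A, u x = (a : A) * x * (a⁻¹ : Aˣ)) → (∀ x : A, u x = (a' : A) * x * (a'⁻¹ : Aˣ)) → ∃ c : Rˣ, (a' : A) = algebraMap R A (c : R) * (a : A)) := by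
  obtain ⟨r, hr, a, v, ha, hv⟩ := CSA.exists_inner_away (u : A →ₐ[R] A) (IsLocalRing.maximalIdeal R)
  have hru : IsUnit r := IsLocalRing.notMem_maximalIdeal.1 hr
  have hau : IsUnit a := by
    refine CSA.isUnit_of_mul_eq_one' (R := R) (v := algebraMap R A ↑hru.unit⁻¹ * v) ?_
    rw [mul_assoc, hv, ← map_mul, IsUnit.val_inv_mul, map_one]
  refine ⟨⟨hau.unit, fun x => ?_⟩, fun a a' h h' => ?_⟩
  · rw [Units.eq_mul_inv_iff_mul_eq, hau.unit_spec]
    exact (CSA.mem_twist.1 ha x).symm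
  · have hcen : ∀ y, y * ((a' : A) * (a⁻¹ : Aˣ)) = (a' : A) * (a⁻¹ : Aˣ) * y := fun y => by
      have h1 := h ((a⁻¹ : Aˣ) * y * a)
      have h2 := h' ((a⁻¹ : Aˣ) * y * a)
      rw [h1] at h2
      simp only [mul_assoc, Units.mul_inv, mul_one, Units.mul_inv_cancel_left] at h2
      calc y * ((a' : A) * (a⁻¹ : Aˣ)) = (a' : A) * ((a⁻¹ : Aˣ) * (y * ((a : A) * (a'⁻¹ : Aˣ)))) * ((a' : A) * (a⁻¹ : Aˣ)) :=
            congrArg (· * _) h2
        _ = (a' : A) * (a⁻¹ : Aˣ) * y := by simp [mul_assoc]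
    obtain ⟨c, hc⟩ := CSA.exists_algebraMap_eq (R := R) hcen
    obtain ⟨τ, hτ⟩ := CSA.exists_retraction_of_isAzumaya (R := R) A
    refine ⟨⟨c, τ ((a : A) * (a'⁻¹ : Aˣ)), ?_, ?_⟩, by rw [hc]; simp [mul_assoc]⟩
    all_goals
      have hprod : c • ((a : A) * (a'⁻¹ : Aˣ)) = 1 := by
        rw [Algebra.smul_def, hc]; simp [mul_assoc]
      have := congrArg τ hprod
      rw [map_smul, smul_eq_mul, hτ] at this
    · exact this
    · rw [mul_comm]; exact this
end Groth.Agent.S5705
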