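import Groth.Statements.S5710
import Mathlib
import Groth.Agent.CSA.RegularElement
import Groth.Agent.HenselLib.PolyLocal

set_option autoImplicit false
universe u v
open TensorProduct
open Dix

namespace Groth.Agent.S5710

/-- Over a local base where the open neighbourhood is the whole scheme. Let R be a local ring with
residue field k and A an Azumaya algebra over R whose rank as a (free) R-module is r². Then A has a
maximal étale subalgebra: there are a commutative R-algebra E, finite étale and free of rank r over
R, and an R-algebra homomorphism u : E → A which is injective on the special fibre, k ⊗_R E → k ⊗_R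
A. -/
theorem result (R : Type u) [CommRing R] [IsLocalRing R] (A : Type u) [Ring A] [Algebra R A] [IsAzumaya R A] (r : ℕ) (hA : Module.finrank R A = r ^ 2) : ∃ (E : Type u) (_ : CommRing E) (_ : Algebra R E), Algebra.Etale R E ∧ Module.Finite R E ∧ Module.Free R E ∧ Module.finrank R E = r ∧ ∃ u : E →ₐ[R] A, Function.Injective (u.toLinearMap.lTensor (IsLocalRing.ResidueField R)) := by
  open Groth.Agent.CSA in
  open Polynomial IsLocalRing in
    haveI : IsAzumaya (ResidueField R) (ResidueField R ⊗[R] A) := isAzumaya_baseChange _ A
    obtain ⟨_, _⟩ := (isAzumaya_iff_centralSimple (k := ResidueField R) (ResidueField R ⊗[R] A)).mp inferInstance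
    haveI : IsCSA (ResidueField R) (ResidueField R ⊗[R] A) := {}
    haveI : Module.Free R A := Module.free_of_flat_of_isLocalRing
    obtain ⟨x, hxs, hxr⟩ := exists_adjoin_separable_finrank (k := ResidueField R) (A := ResidueField R ⊗[R] A) r
      (by rw [Module.finrank_baseChange, hA])
    obtain ⟨ξ, hξ⟩ := TensorProduct.mk_surjective R A (ResidueField R) residue_surjective x
    rw [TensorProduct.mk_apply] at hξ
    subst hξ
    have hs := minpoly_separable_of_adjoin hxs
    have hd : (minpoly (ResidueField R) ((1 : ResidueField R) ⊗ₜ[R] ξ)).natDegree = r := by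
      rw [← finrank_adjoin_singleton, hxr]
    obtain ⟨hli, hker, g, hg⟩ := regular_powers hA ξ hs hd
    obtain ⟨c, hc⟩ := Submodule.mem_span_range_iff_exists_fun R |>.mp
      (hker ▸ mem_ker_adMap.mpr ((Commute.self_pow ξ r).symm.eq) : ξ ^ r ∈ _)
    let q : R[X] := X ^ r - ∑ i : Fin r, C (c i) * X ^ (i : ℕ)
    have hdeg : (∑ i : Fin r, C (c i) * X ^ (i : ℕ)).degree < (r : WithBot ℕ) := by
      rw [← mem_degreeLT]
      exact Submodule.sum_mem _ fun i _ => mem_degreeLT.mpr
        ((degree_C_mul_X_pow_le _ _).trans_lt (by exact_mod_cast i.2))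
    have hmon : q.Monic := monic_X_pow_sub hdeg
    have hqd : q.natDegree = r := by
      apply natDegree_eq_of_degree_eq_some
      rw [degree_sub_eq_left_of_degree_lt (by rwa [degree_X_pow]), degree_X_pow]
    have hq0 : aeval ξ q = 0 := by
      simp only [q, map_sub, map_sum, map_mul, aeval_X_pow, aeval_C, ← Algebra.smul_def, hc, sub_self]
    have hmap : q.map (residue R) = minpoly (ResidueField R) ((1 : ResidueField R) ⊗ₜ[R] ξ) := by
      refine eq_of_monic_of_dvd_of_natDegree_le (minpoly.monic (Algebra.IsIntegral.isIntegral _)) (hmon.map _)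
        (minpoly.dvd _ _ ?_) ?_
      · rw [show (residue R : R →+* ResidueField R) = algebraMap R (ResidueField R) from rfl, aeval_map_algebraMap,
          show (1 : ResidueField R) ⊗ₜ[R] ξ = Algebra.TensorProduct.includeRight ξ from rfl, aeval_algHom_apply, hq0,
          map_zero]
      · rw [hmon.natDegree_map, hqd, hd]
    have hcop : IsCoprime q (derivative q) := by
      refine Groth.Agent.HenselLib.isCoprime_of_map_residue hmon ?_
      rw [← derivative_map]
      exact separable_def _ |>.mp (hmap ▸ hs)
    obtain ⟨a, b, hab⟩ := hcop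
    let P : StandardEtalePair R := ⟨q, hmon, 1, b, a, 0, by rw [pow_zero]; linear_combination hab⟩
    haveI : Algebra.Etale R (AdjoinRoot q) := by
      refine Algebra.Etale.of_equiv (P.equivAwayAdjoinRoot.trans ?_)
      exact ((IsLocalization.atUnit (AdjoinRoot q) (Localization.Away (AdjoinRoot.mk q (1 : R[X])))
        (AdjoinRoot.mk q 1) (by rw [map_one]; exact isUnit_one)).restrictScalars R).symm
    haveI := hmon.finite_adjoinRoot
    haveI := hmon.free_adjoinRoot
    let pb := AdjoinRoot.powerBasis' hmon
    let u : AdjoinRoot q →ₐ[R] A := Ideal.Quotient.liftₐ (Ideal.span {q}) (aeval ξ) (fun a ha => by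
      obtain ⟨d, rfl⟩ := Ideal.mem_span_singleton.mp ha
      rw [map_mul, hq0, zero_mul])
    have hpd : pb.dim = r := hqd
    refine ⟨AdjoinRoot q, inferInstance, inferInstance, inferInstance, inferInstance, inferInstance,
      by rw [pb.finrank, hpd], u, ?_⟩
    let φ : AdjoinRoot q →ₗ[R] (Fin r → R) :=
      (LinearEquiv.funCongrLeft R R (finCongr hpd.symm)).toLinearMap ∘ₗ pb.basis.equivFun.toLinearMap
    have hu : u.toLinearMap = Fintype.linearCombination R (fun i : Fin r => ξ ^ (i : ℕ)) ∘ₗ φ := by
      refine pb.basis.ext fun i => ?_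
      have hb : AdjoinRoot.root q ^ (i : ℕ) = pb.basis i := by
        rw [PowerBasis.basis_eq_pow, AdjoinRoot.powerBasis'_gen]
      simp only [LinearMap.comp_apply, φ, LinearEquiv.coe_coe, Module.Basis.equivFun_self, AlgHom.toLinearMap_apply]
      rw [PowerBasis.basis_eq_pow, map_pow, AdjoinRoot.powerBasis'_gen, show u (AdjoinRoot.root q) = ξ from aeval_X ξ,
        Fintype.linearCombination_apply, Finset.sum_eq_single (finCongr hpd i)]
      · simp only [LinearEquiv.funCongrLeft_apply, LinearMap.funLeft_apply, finCongr_apply, Module.Basis.equivFun_apply,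
          Fin.cast_cast, Fin.cast_eq_self]
        rw [hb, Module.Basis.repr_self, Finsupp.single_eq_same, one_smul]
        rfl
      · intro j _ hj
        have : ¬ i = finCongr hpd.symm j := fun h => hj (by rw [h]; simp)
        simp only [finCongr_apply] at this
        simp only [LinearEquiv.funCongrLeft_apply, LinearMap.funLeft_apply, finCongr_apply, Module.Basis.equivFun_apply]
        rw [hb, Module.Basis.repr_self, Finsupp.single_apply, if_neg this, zero_smul]
      · intro h; exact absurd (Finset.mem_univ _) h
    rw [hu, LinearMap.lTensor_comp]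
    refine Function.Injective.comp (g := (Fintype.linearCombination R fun i : Fin r => ξ ^ (i : ℕ)).lTensor (ResidueField R))
      (Function.LeftInverse.injective (g := g.lTensor (ResidueField R)) fun z => ?_) ?_
    · rw [← LinearMap.comp_apply, ← LinearMap.lTensor_comp, hg, LinearMap.lTensor_id, LinearMap.id_apply]
    · exact ((LinearEquiv.lTensor (ResidueField R)
        (pb.basis.equivFun ≪≫ₗ LinearEquiv.funCongrLeft R R (finCongr hpd.symm)))).injective
end Groth.Agent.S5710
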