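import Groth.Statements.S5724
import Groth.Agent.RelVALib.ChartTwist
import Groth.Agent.TwistLib.G.RelGenLocal
import Groth.Agent.AmpleLib.Relative

set_option autoImplicit false
universe u
open CategoryTheory CategoryTheory.Limits AlgebraicGeometry TopologicalSpace Opposite
open scoped HomogeneousIdeal
open EGA2

set_option backward.isDefEq.respectTransparency.types false
set_option maxHeartbeats 1000000

open Groth.Agent.Coherent Groth.Agent.PicLib Groth.Agent.AmpleLib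
open Groth.Agent.TwistLib

namespace Groth.Agent.S5724

section proj

variable {A σ₀ : Type u} [CommRing A] [SetLike σ₀ A] [AddSubgroupClass σ₀ A] {𝒜 : ℕ → σ₀} [GradedRing 𝒜]

/-- Finitely many algebra generators over a subring of degree zero give finitely many elements of
positive degree whose standard opens cover `Proj`. -/
theorem exists_finset_cover {R : Type u} [CommRing R] (φ : R →+* A) (hφ : ∀ r, φ r ∈ 𝒜 0) (hft : φ.FiniteType) :
    ∃ P : Finset (ℕ × A), (∀ q ∈ P, 0 < q.1 ∧ q.2 ∈ 𝒜 q.1) ∧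
      ∀ x : ProjectiveSpectrum 𝒜, ∃ q ∈ P, q.2 ∉ x.asHomogeneousIdeal.toIdeal := by
  classical
  letI := φ.toAlgebra
  have : Algebra.FiniteType R A := hft
  obtain ⟨T, hT⟩ := this.out
  let P : Finset (ℕ × A) := (T.biUnion fun t => (DirectSum.decompose 𝒜 t).support.image
    fun i => (i, (DirectSum.decompose 𝒜 t i : A))).filter fun q => q.1 ≠ 0
  refine ⟨P, fun q hq => ?_, fun x => ?_⟩
  · obtain ⟨hq1, hq2⟩ := Finset.mem_filter.1 hq
    obtain ⟨t, -, hq1⟩ := Finset.mem_biUnion.1 hq1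
    obtain ⟨i, -, rfl⟩ := Finset.mem_image.1 hq1
    exact ⟨Nat.pos_of_ne_zero hq2, (DirectSum.decompose 𝒜 t i).2⟩
  by_contra! hx
  let I := x.asHomogeneousIdeal.toIdeal
  have key : ∀ a : A, Ideal.Quotient.mk I a = Ideal.Quotient.mk I (GradedRing.projZeroRingHom 𝒜 a) := by
    intro a
    have ha : a ∈ Algebra.adjoin R (T : Set A) := hT ▸ Algebra.mem_top
    induction ha using Algebra.adjoin_induction with
    | mem t ht =>
      rw [GradedRing.projZeroRingHom_apply]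
      conv_lhs => rw [← DirectSum.sum_support_decompose 𝒜 t, map_sum]
      refine Finset.sum_eq_single (a := 0) (fun i hi hi0 => ?_) (fun h0 => ?_)
      · exact Ideal.Quotient.eq_zero_iff_mem.2 (hx (i, _) (Finset.mem_filter.2
          ⟨Finset.mem_biUnion.2 ⟨t, ht, Finset.mem_image.2 ⟨i, hi, rfl⟩⟩, hi0⟩))
      · rw [DFinsupp.notMem_support_iff.1 h0, ZeroMemClass.coe_zero, map_zero]
    | algebraMap r =>
      rw [GradedRing.projZeroRingHom_apply]
      exact congrArg _ (DirectSum.decompose_of_mem_same 𝒜 (hφ r)).symm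
    | add a b _ _ ha hb => simp only [map_add, ha, hb]
    | mul a b _ _ ha hb => simp only [map_mul, ha, hb]
  obtain ⟨e, t, he, ht, htx⟩ := G.exists_pos_homogeneous_notMem 𝒜 x
  refine htx (Ideal.Quotient.eq_zero_iff_mem.1 ((key t).trans ?_))
  rw [GradedRing.projZeroRingHom_apply, DirectSum.decompose_of_mem_ne 𝒜 ht he.ne', map_zero]

theorem exists_deg_cover {R : Type u} [CommRing R] (φ : R →+* A) (hφ : ∀ r, φ r ∈ 𝒜 0) (hft : φ.FiniteType) :
    ∃ d : ℕ, 0 < d ∧ ∀ x : ProjectiveSpectrum 𝒜, ∃ g ∈ 𝒜 d, g ∉ x.asHomogeneousIdeal.toIdeal := by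
  obtain ⟨P, hP, hcov⟩ := exists_finset_cover φ hφ hft
  refine ⟨P.prod Prod.fst, Finset.prod_pos fun q hq => (hP q hq).1, fun x => ?_⟩
  obtain ⟨q, hq, hqx⟩ := hcov x
  obtain ⟨c, hc⟩ := Finset.dvd_prod_of_mem Prod.fst hq
  refine ⟨q.2 ^ c, ?_, fun h => hqx (x.isPrime.mem_of_pow_mem c h)⟩
  rw [hc, mul_comm]
  simpa [smul_eq_mul] using SetLike.pow_mem_graded c (hP q hq).2

theorem compactSpace_proj {R : Type u} [CommRing R] (φ : R →+* A) (hφ : ∀ r, φ r ∈ 𝒜 0) (hft : φ.FiniteType) :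
    CompactSpace (Proj 𝒜) := by
  obtain ⟨P, hP, hcov⟩ := exists_finset_cover φ hφ hft
  refine ⟨?_⟩
  rw [show (Set.univ : Set (Proj 𝒜)) = ⋃ q ∈ (P : Set (ℕ × A)), (Proj.basicOpen 𝒜 q.2 : Set (Proj 𝒜)) from
    (Set.eq_univ_of_forall fun x => by
      obtain ⟨q, hq, hqx⟩ := hcov x
      exact Set.mem_iUnion₂.2 ⟨q, hq, hqx⟩).symm]
  exact P.finite_toSet.isCompact_biUnion fun q hq =>
    (Proj.isAffineOpen_basicOpen 𝒜 q.2 (hP q hq).2 (hP q hq).1).isCompact

variable {d : ℕ}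

theorem isAmple_twist (hd : 0 < d) (hc : CompactSpace (Proj 𝒜))
    (hcov : ∀ x : ProjectiveSpectrum 𝒜, ∃ g ∈ 𝒜 d, g ∉ x.asHomogeneousIdeal.toIdeal) :
    CohB1.IsAmple (GrTwist.twist 𝒜 (d : ℤ)) := by
  have hgl : ∀ (f : A) (hf : f ∈ 𝒜 d),
      IsGen (GrTwist.twist 𝒜 (d : ℤ)) (Proj.basicOpen 𝒜 f)
        (resM (GrTwist.twist 𝒜 (d : ℤ)) le_top
          (show Γ(GrTwist.twist 𝒜 (d : ℤ), ⊤) from GrTwist.globalOf 𝒜 ⟨f, hf⟩)) := fun f hf V hV => by
    have key : ∀ (n : ℤ), n = 1 * (d : ℤ) → ∀ (b : GrTwist.sectN (𝒜 := 𝒜) n (op V)),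
        (∀ x : V, (b.1 x).1 = Localization.mk f 1) →
        Function.Bijective fun g : GrTwist.O (𝒜 := 𝒜) (op V) => G.oSmul g b := by
      rintro n rfl b hb
      convert G.smul_tau_bijective hf 1 V hV
      refine G.sectN_ext fun x => (hb x).trans ?_
      rw [G.tau_val]
      refine congrArg₂ Localization.mk (by simp) (Subtype.ext (by simp))
    exact key _ (one_mul _).symm _ fun x => rfl
  have hglocus : ∀ (f : A) (hf : f ∈ 𝒜 d), glocus (GrTwist.twist 𝒜 (d : ℤ))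
      (show Γ(GrTwist.twist 𝒜 (d : ℤ), ⊤) from GrTwist.globalOf 𝒜 ⟨f, hf⟩) = Proj.basicOpen 𝒜 f := fun f hf => by
    refine le_antisymm (fun x hx => ?_) ((le_glocus_iff _ _).2 (hgl f hf))
    obtain ⟨g, hg, hgx⟩ := hcov x
    have hgen := hgl g hg
    have hmem := (glocus_inf _ hgen).le ⟨hx, hgx⟩
    have hP : f ∈ 𝒜 (1 • d) := by simpa using hf
    have hc' : hgen.coef le_rfl (resM (GrTwist.twist 𝒜 (d : ℤ)) le_top
          (show Γ(GrTwist.twist 𝒜 (d : ℤ), ⊤) from GrTwist.globalOf 𝒜 ⟨f, hf⟩)) =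
        (Proj.awayToSection 𝒜 g).hom (HomogeneousLocalization.Away.mk 𝒜 hg 1 f hP) := by
      refine hgen.coef_eq _ (G.sectN_ext fun y => ?_)
      refine (GrTwist.coe_smul_val _ y.1 _ _).trans ?_
      refine (congrArg (· * _) (G.val_awayToSection_mk hg 1 f hP y)).trans ?_
      exact (Localization.mk_mul _ _ _ _).trans (Localization.mk_eq_mk_iff.2 (Localization.r_iff_exists.2
        ⟨1, by simp only [Submonoid.coe_mul, Submonoid.coe_one]; ring⟩))
    rw [hc', G.basicOpen_away hg 1 f hP, Proj.basicOpen_mul] at hmem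
    exact hmem.2
  have hinv : PicF.IsInvertible (GrTwist.twist 𝒜 (d : ℤ)) := isInvertible_of_gens fun x => by
    obtain ⟨g, hg, hgx⟩ := hcov x
    exact ⟨Proj.basicOpen 𝒜 g, hgx, _, hgl g hg⟩
  refine isAmple_iff_affGlocus.2 ⟨hinv, hc, fun x => ?_⟩
  obtain ⟨g, hg, hgx⟩ := hcov x
  let e' : GrTwist.twist 𝒜 (d : ℤ) ≅ CohB1.tensorPow (GrTwist.twist 𝒜 (d : ℤ)) 1 := (unitTensorIso _).symm
  have hl := (glocus_map_iso e' _).trans (hglocus g hg)
  exact ⟨1, one_pos, _, hl.ge hgx, le_top, hl ▸ Proj.isAffineOpen_basicOpen 𝒜 g hg hd⟩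

end proj

variable {Y X : Scheme.{u}} {𝒮 : RelProj.QCGrAlg Y} {f : X ⟶ Y}
  {chart : ∀ (U : Y.Opens) (hU : IsAffineOpen U), (((f ⁻¹ᵁ U : X.Opens) : Scheme.{u}) ≅ Proj (𝒮.deg U hU))}
  {d : ℕ} {L : X.Modules}
  {lam : ∀ (U : Y.Opens) (hU : IsAffineOpen U),
    L ⟶ (Scheme.Modules.pushforward (RelProj.emb f chart U hU)).obj (GrTwist.twist (𝒮.deg U hU) (d : ℤ))}

theorem isInvertible_twist (hL : RelProj.IsRelTwist 𝒮 f chart (d : ℤ) L lam)
    (hcov : ∀ y : Y, ∃ V : Y.affineOpens, y ∈ V.1 ∧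
      ∀ x : ProjectiveSpectrum (𝒮.deg V.1 V.2), ∃ g ∈ 𝒮.deg V.1 V.2 d, g ∉ x.asHomogeneousIdeal.toIdeal) :
    PicF.IsInvertible L := by
  refine isInvertible_of_gens fun x => ?_
  obtain ⟨⟨U, hU⟩, hxU, hc⟩ := hcov (f x)
  obtain ⟨z, rfl⟩ := G.exists_preimage (chart := chart) hU hxU
  obtain ⟨g, hg, hgz⟩ := hc z
  exact ⟨RelProj.emb f chart U hU ''ᵁ Proj.basicOpen (𝒮.deg U hU) g, ⟨z, hgz, rfl⟩,
    G.exists_isGen_image hL hU hg (m := 1) (one_mul _).symm
      (((RelProj.emb f chart U hU).image_le_opensRange _).trans (G.opensRange_emb (p := f) (chart := chart) U hU).le)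
      ((RelProj.emb f chart U hU).preimage_image_eq _).le⟩

theorem nonempty_chartIso (hL : RelProj.IsRelTwist 𝒮 f chart (d : ℤ) L lam) (hinv : PicF.IsInvertible L)
    (U : Y.Opens) (hU : IsAffineOpen U)
    (hcov : ∀ x : ProjectiveSpectrum (𝒮.deg U hU), ∃ g ∈ 𝒮.deg U hU d, g ∉ x.asHomogeneousIdeal.toIdeal) :
    Nonempty ((Scheme.Modules.pullback (RelProj.emb f chart U hU)).obj L ≅ GrTwist.twist (𝒮.deg U hU) (d : ℤ)) := by
  let e := RelProj.emb f chart U hU
  let ψ := ((Scheme.Modules.pullbackPushforwardAdjunction e).homEquiv L _).symm (lam U hU)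
  let ι := {g : 𝒮.presheaf.obj (op U) // g ∈ 𝒮.deg U hU d}
  let O : ι → X.Opens := fun g => e ''ᵁ Proj.basicOpen (𝒮.deg U hU) g.1
  have hOU : ∀ g, O g ≤ f ⁻¹ᵁ U := fun g =>
    (e.image_le_opensRange _).trans (G.opensRange_emb (p := f) (chart := chart) U hU).le
  have hOg : ∀ g, e ⁻¹ᵁ O g = Proj.basicOpen (𝒮.deg U hU) g.1 := fun g => e.preimage_image_eq _
  choose t ht using fun g : ι => (show ∃ t : Γ(GrTwist.twist (𝒮.deg U hU) (d : ℤ), Proj.basicOpen (𝒮.deg U hU) g.1),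
      IsGen (GrTwist.twist (𝒮.deg U hU) (d : ℤ)) (Proj.basicOpen (𝒮.deg U hU) g.1) t from by
    obtain ⟨m, hm⟩ : ∃ m : ℤ, (d : ℤ) = m * d := ⟨1, (one_mul _).symm⟩
    exact hm ▸ ⟨_, G.isGen_tau g.2 m⟩)
  choose s hs using fun g : ι => (hL.bijective U hU (O g) (hOU g)).2
    (resM (GrTwist.twist (𝒮.deg U hU) (d : ℤ)) (hOg g).le (t g))
  have hgen' : ∀ g, IsGen (GrTwist.twist (𝒮.deg U hU) (d : ℤ)) (e ⁻¹ᵁ O g) ((lam U hU).app (O g) (s g)) := fun g => by
    rw [hs]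
    exact (ht g).restrict _
  have hgenL : ∀ g, IsGen L (O g) (s g) := fun g => G.isGen_of_lam hL hU (hOU g) (hgen' g)
  have : IsIso ψ := isIso_of_gens ψ (fun g => e ⁻¹ᵁ O g)
    (top_le_iff.1 fun z _ => by
      obtain ⟨g, hg, hgz⟩ := hcov z
      exact Opens.mem_iSup.2 ⟨⟨g, hg⟩, (hOg ⟨g, hg⟩).ge hgz⟩)
    (fun g => PicLib.pullSec e (s g)) (fun g => isGen_pullSec e (hgenL g) hinv) fun g => by
      rw [homEquiv_symm_app_pullSec]
      exact hgen' g
  exact ⟨asIso ψ⟩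


/-- Let Y be a quasi-compact scheme and 𝒮 a quasi-coherent graded O_Y-algebra of finite type (over every
affine open U of Y the ring 𝒮(U) is an algebra of finite type over the functions on U, through the
structure map), and let f : X → Y be its relative homogeneous spectrum Proj(𝒮), given with its
charts over affine opens. Then there is an integer d > 0 such that the twisting sheaf O_X(d) — any
O_X-module given with chart identifications exhibiting it as O_X(d) — is invertible and ample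
relative to f. (The published statement also records that f is of finite type; that assertion holds
for the relative homogeneous spectrum of any finite-type quasi-coherent graded algebra and is not
repeated in this row.) -/
theorem result {Y X : Scheme.{u}} [CompactSpace Y] (𝒮 : RelProj.QCGrAlg Y)
    (hft : ∀ (U : Y.Opens) (hU : IsAffineOpen U), (𝒮.str.app (op U)).hom.FiniteType)
    (f : X ⟶ Y)
    (chart : ∀ (U : Y.Opens) (hU : IsAffineOpen U), ((f ⁻¹ᵁ U : X.Opens) : Scheme.{u}) ≅ Proj (𝒮.deg U hU))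
    (hX : RelProj.IsRelProj 𝒮 f chart) :
    ∃ d : ℕ, 0 < d ∧ ∀ (L : X.Modules)
      (lam : ∀ (U : Y.Opens) (hU : IsAffineOpen U),
        L ⟶ (Scheme.Modules.pushforward (RelProj.emb f chart U hU)).obj (GrTwist.twist (𝒮.deg U hU) (d : ℤ))),
      RelProj.IsRelTwist 𝒮 f chart (d : ℤ) L lam → PicF.IsInvertible L ∧ RelAmple.IsRelAmple f L := by
  choose e he hcov using fun U : Y.affineOpens =>
    exists_deg_cover (𝒜 := 𝒮.deg U.1 U.2) (𝒮.str.app (op U.1)).hom (𝒮.str_mem U.1 U.2) (hft U.1 U.2)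
  obtain ⟨T, hT⟩ := isCompact_univ.elim_finite_subcover (fun U : Y.affineOpens => (U.1 : Set Y))
    (fun U => U.1.2) (fun y _ => by
      obtain ⟨U, hU, hyU, -⟩ := exists_isAffineOpen_mem_and_subset (x := y) (U := ⊤) trivial
      exact Set.mem_iUnion.2 ⟨⟨U, hU⟩, hyU⟩)
  refine ⟨T.prod e, Finset.prod_pos fun U _ => he U, fun L lam hL => ?_⟩
  have hcov' : ∀ y : Y, ∃ V : Y.affineOpens, y ∈ V.1 ∧
      ∀ x : ProjectiveSpectrum (𝒮.deg V.1 V.2),
        ∃ g ∈ 𝒮.deg V.1 V.2 (T.prod e), g ∉ x.asHomogeneousIdeal.toIdeal := fun y => by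
    obtain ⟨V, hVT, hyV⟩ := Set.mem_iUnion₂.1 (hT (Set.mem_univ y))
    refine ⟨V, hyV, fun x => ?_⟩
    obtain ⟨g, hg, hgx⟩ := hcov V x
    obtain ⟨c, hc⟩ := Finset.dvd_prod_of_mem e hVT
    refine ⟨g ^ c, ?_, fun h => hgx (x.isPrime.mem_of_pow_mem c h)⟩
    rw [hc, mul_comm]
    simpa [smul_eq_mul] using SetLike.pow_mem_graded c hg
  have hinv := isInvertible_twist hL hcov'
  have hcomp : ∀ (U : Y.Opens) (hU : IsAffineOpen U), CompactSpace (f ⁻¹ᵁ U).toScheme := fun U hU => by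
    have := compactSpace_proj (𝒜 := 𝒮.deg U hU) (𝒮.str.app (op U)).hom (𝒮.str_mem U hU) (hft U hU)
    exact (chart U hU).inv.homeomorph.compactSpace
  haveI : QuasiCompact f :=
    quasiCompact_iff_forall_isAffineOpen.2 fun U hU => isCompact_iff_compactSpace.2 (hcomp U hU)
  refine ⟨hinv, isRelAmple_of_affine_cover f hinv fun y => ?_⟩
  obtain ⟨⟨U, hU⟩, hyU, hc⟩ := hcov' y
  refine ⟨⟨U, hU⟩, hyU, ?_⟩
  have := hcomp U hU
  obtain ⟨φ⟩ := nonempty_chartIso hL hinv U hU hc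
  have hd : 0 < T.prod e := Finset.prod_pos fun V _ => he V
  have hA := isAmple_of_iso φ.symm (isAmple_twist hd
    (compactSpace_proj (𝒜 := 𝒮.deg U hU) (𝒮.str.app (op U)).hom (𝒮.str_mem U hU) (hft U hU)) hc)
  have h2 := isAmple_pullback_of_isEmbedding (chart U hU).hom (chart U hU).hom.isOpenEmbedding.isEmbedding hA
  exact isAmple_pullback_congr (by simp [RelProj.emb]) ((isAmple_pullback_comp_iff _ _).1 h2)

end Groth.Agent.S5724
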