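import Groth.Statements.S5730
import Groth.Agent.PTw13.RoundTrip
import Groth.Agent.RelVALib.UPPhi
import Groth.Agent.PicLib.PicMonoid
import Groth.Agent.DCat.PullTensor
import Groth.Agent.AmpleLib.Twist2
import Groth.Agent.TwistLib.G.RelMulIso
import Groth.Agent.TwistLib.G.RelGen
import Groth.Agent.VarietyLib.Dual

set_option linter.style.haveILetI false
set_option backward.isDefEq.respectTransparency.types false
set_option maxHeartbeats 2000000

set_option autoImplicit false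
universe u
open CategoryTheory CategoryTheory.Limits AlgebraicGeometry TopologicalSpace Opposite
open scoped HomogeneousIdeal
open EGA2 Groth.Agent.Coherent Groth.Agent.PicLib Groth.Agent.AmpleLib Groth.Agent.RelVALib Groth.Agent.TwistLib

namespace Groth.Agent.S5730

theorem tensorSwap_tmul {X : Scheme.{u}} {A B : X.Modules} {U : X.Opens} (a : Γ(A, U)) (b : Γ(B, U)) :
    (tensorSwap A B).app U (tmul a b) = tmul b a := Bilin.desc_tmul _ _ _ _

/-- The class of `O(n)` is the `n`-th power of that of `O(1)`. -/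
theorem of_relTwist {Y P : Scheme.{u}} {𝒮 : RelProj.QCGrAlg Y} {p : P ⟶ Y}
    {chart : ∀ (U : Y.Opens) (hU : IsAffineOpen U), ((p ⁻¹ᵁ U : P.Opens) : Scheme.{u}) ≅ Proj (𝒮.deg U hU)}
    (hP : RelProj.IsRelProj 𝒮 p chart) (hgen : 𝒮.IsGenDegOne) {O1 : P.Modules}
    {lam1 : ∀ (U : Y.Opens) (hU : IsAffineOpen U),
      O1 ⟶ (Scheme.Modules.pushforward (RelProj.emb p chart U hU)).obj (GrTwist.twist (𝒮.deg U hU) 1)}
    (h1 : RelProj.IsRelTwist 𝒮 p chart 1 O1 lam1) :
    ∀ (n : ℕ) (On : P.Modules) (lam : ∀ (U : Y.Opens) (hU : IsAffineOpen U),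
      On ⟶ (Scheme.Modules.pushforward (RelProj.emb p chart U hU)).obj (GrTwist.twist (𝒮.deg U hU) (n : ℤ)))
      (hn : RelProj.IsRelTwist 𝒮 p chart (n : ℤ) On lam),
      PicM.of (G.isInvertible_relTwist hgen hn) = PicM.of (G.isInvertible_relTwist hgen h1) ^ n
  | 0, On, lam, hn => by
    rw [pow_zero, PicM.of_eq_one_iff]
    obtain ⟨s, hs⟩ := G.exists_isGen_top hP hn
    obtain ⟨e, -⟩ := exists_iso_of_gens (L := On) (M := Coh.structureModule P) (fun _ : PUnit.{u+1} => ⊤)
      (by simp) (fun _ => s) (fun _ => hs) (fun _ => oneSec ⊤) (fun _ => isGen_oneSec ⊤)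
      fun i j W hi hj c hc => by
        have h1 : c = 1 := ((hs W hi).1 (show (1 : Γ(P, W)) • resM On hi s = c • resM On hj s by rw [one_smul]; exact hc)).symm
        rw [h1, one_smul]
    exact ⟨e⟩
  | n + 1, On, lam, hn => by
    obtain ⟨Om, lamm, hm⟩ := G.exists_isRelTwist (n := (n : ℤ)) hP
    obtain ⟨e⟩ := G.nonempty_mulIso (a := (n : ℤ)) (b := 1) (r := ((n + 1 : ℕ) : ℤ)) hgen hP (G.isLocalGrModule_self 𝒮)
      (by push_cast; ring) _ (G.isRelTilde_of_isRelTwist hm) lam1 h1 _ (G.isRelTilde_of_isRelTwist hn)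
    rw [pow_succ, ← of_relTwist hP hgen h1 n Om lamm hm, PicM.of_mul]
    exact (PicM.of_eq_iff _ _).2 ⟨e.symm⟩

/-- Let E be a quasi-coherent O_Y-module and L an invertible O_Y-module, 𝒮 (with j : E → 𝒮) the graded
symmetric algebra of E and 𝒯 (with k : E ⊗ L → 𝒯) that of E ⊗ L, and let p : P → Y, q : Q → Y be the
projective bundles P(E) = Proj(𝒮) and P(E ⊗ L) = Proj(𝒯) with their charts over affine opens. Then
there is an isomorphism i : P ≅ Q over Y such that, for every n ≥ 0 and all twisting sheaves O_P(n)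
and O_Q(n) (modules given with their chart identifications), i^*O_Q(n) is isomorphic to O_P(n) ⊗
p^*(L^{⊗n}). (Existence of the isomorphisms only: the published statement names a canonical i and
canonical identifications, and states the twist relation for every integer n; this row asserts
existence and the relation for n ≥ 0.) -/
theorem result {Y P Q : Scheme.{u}} (E : Y.Modules) (hE : Coh.IsQCoh E)
    (L : Y.Modules) (hL : PicF.IsInvertible L)
    (𝒮 : RelProj.QCGrAlg Y) (j : E ⟶ 𝒮.toModule) (hj : RelProj.IsGrSymAlg E 𝒮 j)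
    (𝒯 : RelProj.QCGrAlg Y) (k : CohB1.tensorMod E L ⟶ 𝒯.toModule) (hk : RelProj.IsGrSymAlg (CohB1.tensorMod E L) 𝒯 k)
    (p : P ⟶ Y)
    (chart : ∀ (U : Y.Opens) (hU : IsAffineOpen U), ((p ⁻¹ᵁ U : P.Opens) : Scheme.{u}) ≅ Proj (𝒮.deg U hU))
    (hP : RelProj.IsRelProj 𝒮 p chart) (q : Q ⟶ Y)
    (chartQ : ∀ (U : Y.Opens) (hU : IsAffineOpen U), ((q ⁻¹ᵁ U : Q.Opens) : Scheme.{u}) ≅ Proj (𝒯.deg U hU))
    (hQ : RelProj.IsRelProj 𝒯 q chartQ) :
    ∃ i : P ≅ Q, i.hom ≫ q = p ∧
      ∀ (n : ℕ) (OP : P.Modules)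
        (lamP : ∀ (U : Y.Opens) (hU : IsAffineOpen U),
          OP ⟶ (Scheme.Modules.pushforward (RelProj.emb p chart U hU)).obj (GrTwist.twist (𝒮.deg U hU) (n : ℤ)))
        (OQ : Q.Modules)
        (lamQ : ∀ (U : Y.Opens) (hU : IsAffineOpen U),
          OQ ⟶ (Scheme.Modules.pushforward (RelProj.emb q chartQ U hU)).obj (GrTwist.twist (𝒯.deg U hU) (n : ℤ))),
        RelProj.IsRelTwist 𝒮 p chart (n : ℤ) OP lamP → RelProj.IsRelTwist 𝒯 q chartQ (n : ℤ) OQ lamQ →
          Nonempty ((Scheme.Modules.pullback i.hom).obj OQ ≅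
            CohB1.tensorMod OP ((Scheme.Modules.pullback p).obj (CohB1.tensorPow L n))) := by
  obtain ⟨OP1, lamP1, hP1⟩ := G.exists_isRelTwist (n := (1 : ℤ)) hP
  obtain ⟨OQ1, lamQ1, hQ1⟩ := G.exists_isRelTwist (n := (1 : ℤ)) hQ
  haveI := hE
  obtain ⟨φ, D₁⟩ := exists_pBundle hE hj hP hP1
  have hEL : Coh.IsQCoh (CohB1.tensorMod E L) := AmpleLib.isQCoh_tensor_invertible E hL
  obtain ⟨ψ, D₂⟩ := exists_pBundle hEL hk hQ hQ1
  obtain ⟨M, ⟨eM⟩⟩ := VarietyLib.exists_isInverseOf hL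
  have hM : PicF.IsInvertible M :=
    PicM.isInvertible_of_tensor hL (glocus_isInvertible_of_iso eM.symm isInvertible_structureModule)
  -- normalised pairs of generators
  have hnice : ∀ y : Y, ∃ (U : Y.Opens) (_ : IsAffineOpen U) (ℓ : Γ(L, U)) (m : Γ(M, U)), y ∈ U ∧
      IsGen L U ℓ ∧ IsGen M U m ∧ eM.inv.app U (oneSec U) = tmul ℓ m := by
    intro y
    obtain ⟨U₁, hy₁, ℓ, hℓ⟩ := exists_isGen hL y
    obtain ⟨U₂, hy₂, m, hm⟩ := exists_isGen hM y
    obtain ⟨U, hU, hyU, hle⟩ := exists_isAffineOpen_mem_and_subset (x := y) (U := U₁ ⊓ U₂) ⟨hy₁, hy₂⟩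
    have hℓ' := hℓ.restrict (hle.trans inf_le_left : U ≤ U₁)
    have hm' := hm.restrict (hle.trans inf_le_right : U ≤ U₂)
    have h1 : IsGen (CohB1.tensorMod L M) U (eM.inv.app U (oneSec U)) := isGen_of_iso eM.symm (isGen_oneSec U)
    obtain ⟨a, ha⟩ := ((isGen_tmul hℓ' hm') U le_rfl).2 (eM.inv.app U (oneSec U))
    obtain ⟨a', ha'⟩ := (h1 U le_rfl).2 (tmul (resM L (hle.trans inf_le_left : U ≤ U₁) ℓ) (resM M (hle.trans inf_le_right : U ≤ U₂) m))
    simp only [resM_self] at ha ha'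
    have hu : a * a' = 1 := (h1 U le_rfl).1 (by
      show (a * a') • resM _ le_rfl _ = (1 : Γ(Y, U)) • resM _ le_rfl _
      rw [resM_self, one_smul, mul_smul, ha', ha])
    refine ⟨U, hU, _, a • resM M (hle.trans inf_le_right : U ≤ U₂) m, hyU, hℓ', fun V hV => ?_, ?_⟩
    · have hu' : IsUnit (res hV a) := (IsUnit.of_mul_eq_one a' hu).map _
      have he : (fun c : Γ(Y, V) => c • resM M hV (a • resM M (hle.trans inf_le_right : U ≤ U₂) m)) =
          (fun c : Γ(Y, V) => c • resM M hV (resM M (hle.trans inf_le_right : U ≤ U₂) m)) ∘ fun c => c * res hV a := by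
        funext c
        rw [Function.comp_apply, resM_smul, mul_smul]
      rw [he]
      exact (hm' V hV).comp (show Function.Bijective fun c => c * res hV a from hu'.unit.mulRight.bijective)
    · rw [tmul_smul_right, ha]
  choose U₀ hU₀ ℓ m hyU hℓ hm hlm using hnice
  -- the map to `P(E ⊗ L)`
  let A := (Scheme.Modules.pullback p).obj L
  let f₂ : Bilin E L ((Scheme.Modules.pushforward p).obj (CohB1.tensorMod OP1 A)) :=
    { app := fun U e l => (show Γ(CohB1.tensorMod OP1 A, p ⁻¹ᵁ U) from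
        tmul (show Γ(OP1, p ⁻¹ᵁ U) from φ.app U e) (pullSec p l))
      add_left := fun U a a' b => by
        show tmul (show Γ(OP1, p ⁻¹ᵁ U) from φ.app U (a + a')) (pullSec p b) = _
        rw [map_add]
        exact tmul_add_left _ _ _
      add_right := fun U a b b' => by
        show tmul _ (pullSec p (b + b')) = _
        rw [show pullSec p (b + b') = pullSec p b + pullSec p b' from map_add _ _ _]
        exact tmul_add_right _ _ _
      smul_left := fun U r a b => by
        show tmul (show Γ(OP1, p ⁻¹ᵁ U) from φ.app U (r • a)) (pullSec p b) = _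
        rw [Scheme.Modules.Hom.app_smul]
        exact tmul_smul_left (p.app U r) _ _
      smul_right := fun U r a b => by
        show tmul _ (pullSec p (r • b)) = p.app U r • tmul _ (pullSec p b)
        rw [pullSec_smul]
        exact tmul_smul_right (p.app U r) _ _
      res := fun U V h a b => by
        show resM _ ((Opens.map p.base).map (homOfLE h)).le (tmul _ (pullSec p b)) = tmul _ (pullSec p _)
        rw [resM_tmul, resM_pullSec p h]
        exact congrArg (tmul · _) (app_resM φ h a).symm }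
  let t₂ := f₂.desc
  have ht₂ : ∀ (U : Y.Opens) (e : Γ(E, U)) (l : Γ(L, U)),
      t₂.app U (tmul e l) = tmul (show Γ(OP1, p ⁻¹ᵁ U) from φ.app U e) (pullSec p l) :=
    fun U e l => f₂.desc_tmul U e l
  obtain ⟨r, hr, τ, hc⟩ := exists_classifies D₂ (g := p) (L := CohB1.tensorMod OP1 A) (t := t₂) fun x => by
    obtain ⟨e, he⟩ := D₁.exists_mem_opn (hU₀ (p x)) (hyU (p x))
    refine ⟨U₀ (p x), hU₀ _, tmul e (ℓ (p x)), _, D₁.opn_le (hU₀ _) e, he, ?_⟩
    rw [ht₂, resM_tmul]
    exact isGen_tmul (D₁.isGen_phi _ e) ((isGen_pullSec p (hℓ _) hL).restrict _)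
  -- the map back
  let B := (Scheme.Modules.pullback q).obj M
  let f₁ : Bilin M (CohB1.tensorMod E L) ((Scheme.Modules.pushforward q).obj (CohB1.tensorMod OQ1 B)) :=
    { app := fun U b z => (show Γ(CohB1.tensorMod OQ1 B, q ⁻¹ᵁ U) from
        tmul (show Γ(OQ1, q ⁻¹ᵁ U) from ψ.app U z) (pullSec q b))
      add_right := fun U b a a' => by
        show tmul (show Γ(OQ1, q ⁻¹ᵁ U) from ψ.app U (a + a')) (pullSec q b) = _
        rw [map_add]
        exact tmul_add_left _ _ _
      add_left := fun U b b' a => by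
        show tmul _ (pullSec q (b + b')) = _
        rw [show pullSec q (b + b') = pullSec q b + pullSec q b' from map_add _ _ _]
        exact tmul_add_right _ _ _
      smul_right := fun U r b a => by
        show tmul (show Γ(OQ1, q ⁻¹ᵁ U) from ψ.app U (r • a)) (pullSec q b) = _
        rw [Scheme.Modules.Hom.app_smul]
        exact tmul_smul_left (q.app U r) _ _
      smul_left := fun U r b a => by
        show tmul _ (pullSec q (r • b)) = q.app U r • tmul _ (pullSec q b)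
        rw [pullSec_smul]
        exact tmul_smul_right (q.app U r) _ _
      res := fun U V h b a => by
        show resM _ ((Opens.map q.base).map (homOfLE h)).le (tmul _ (pullSec q b)) = tmul _ (pullSec q _)
        rw [resM_tmul, resM_pullSec q h]
        exact congrArg (tmul · _) (app_resM ψ h a).symm }
  obtain ⟨α, hα⟩ := exists_assocHom M E hL
  let ξ : E ⟶ CohB1.tensorMod M (CohB1.tensorMod E L) :=
    toUnitTensor E ≫ tensorMap (eM.inv ≫ tensorSwap L M) (𝟙 E) ≫ α ≫ tensorMap (𝟙 M) (tensorSwap L E)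
  let t₁ := ξ ≫ f₁.desc
  have ht₁ : ∀ (y : Y) (e : Γ(E, U₀ y)),
      t₁.app (U₀ y) e = tmul (show Γ(OQ1, q ⁻¹ᵁ U₀ y) from ψ.app (U₀ y) (tmul e (ℓ y))) (pullSec q (m y)) := by
    intro y e
    have h1 : (toUnitTensor E).app (U₀ y) e = tmul (oneSec (U₀ y)) e := rfl
    show f₁.desc.app (U₀ y) ((tensorMap (𝟙 M) (tensorSwap L E)).app (U₀ y) (α.app (U₀ y)
      ((tensorMap (eM.inv ≫ tensorSwap L M) (𝟙 E)).app (U₀ y) ((toUnitTensor E).app (U₀ y) e)))) = _
    rw [h1, tensorMap_tmul]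
    show f₁.desc.app (U₀ y) ((tensorMap (𝟙 M) (tensorSwap L E)).app (U₀ y) (α.app (U₀ y)
      (tmul ((tensorSwap L M).app (U₀ y) (eM.inv.app (U₀ y) (oneSec (U₀ y)))) e))) = _
    rw [hlm, tensorSwap_tmul, hα, tensorMap_tmul]
    show f₁.desc.app (U₀ y) (tmul (m y) ((tensorSwap L E).app (U₀ y) (tmul (ℓ y) e))) = _
    rw [tensorSwap_tmul, Bilin.desc_tmul]
  obtain ⟨r', hr', τ', hc'⟩ := exists_classifies D₁ (g := q) (L := CohB1.tensorMod OQ1 B) (t := t₁) fun x => by
    obtain ⟨z, hz⟩ := D₂.exists_mem_opn (hU₀ (q x)) (hyU (q x))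
    obtain ⟨e, he⟩ := (bijective_tmul_gen (M := E) (hℓ (q x)) _ le_rfl).2 z
    simp only [resM_self] at he
    refine ⟨U₀ (q x), hU₀ _, e, _, D₂.opn_le (hU₀ _) z, hz, ?_⟩
    rw [ht₁, resM_tmul, he]
    exact isGen_tmul (D₂.isGen_phi _ z) ((isGen_pullSec q (hm _) hM).restrict _)
  obtain ⟨h12, h21⟩ := PTw13.comp_eq_id D₁ D₂ hc hc' fun y =>
    ⟨U₀ y, hU₀ y, fun e => tmul e (ℓ y), pullSec p (ℓ y), pullSec q (m y), hyU y, fun z => by
      obtain ⟨e, he⟩ := (bijective_tmul_gen (M := E) (hℓ y) _ le_rfl).2 z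
      simp only [resM_self] at he
      exact ⟨e, he⟩, isGen_pullSec p (hℓ y) hL, isGen_pullSec q (hm y) hM, fun e => ht₂ _ e _, ht₁ y⟩
  refine ⟨⟨r, r', h12, h21⟩, hr, fun n OP lamP OQ lamQ hOP hOQ => ?_⟩
  have hgS := SymAlgLib.isGenDegOne_of_isGrSymAlg hj
  haveI := hEL
  have hgT := SymAlgLib.isGenDegOne_of_isGrSymAlg hk
  have hPn : PicM.of (G.isInvertible_relTwist hgS hOP) = PicM.of D₁.invertible ^ n :=
    of_relTwist hP hgS hP1 n OP lamP hOP
  have hQn : PicM.of (G.isInvertible_relTwist hgT hOQ) = PicM.of D₂.invertible ^ n :=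
    of_relTwist hQ hgT hQ1 n OQ lamQ hOQ
  have hA : PicF.IsInvertible A := PicLoc.isInvertible_pullback p hL
  have h1 : PicM.pull r (PicM.of D₂.invertible) = PicM.of D₁.invertible * PicM.pull p (PicM.of hL) := by
    rw [PicM.pull_of r D₂.invertible, PicM.pull_of p hL, PicM.of_mul]
    exact (PicM.of_eq_iff _ _).2 ⟨τ⟩
  have h2 : PicM.of (PicLoc.isInvertible_pullback r (G.isInvertible_relTwist hgT hOQ)) =
      PicM.of (isInvertible_tensorMod (G.isInvertible_relTwist hgS hOP)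
        (PicLoc.isInvertible_pullback p (isInvertible_tensorPow hL n))) := by
    rw [← PicM.pull_of r (G.isInvertible_relTwist hgT hOQ), hQn, map_pow, h1, mul_pow, ← PicM.of_mul (G.isInvertible_relTwist hgS hOP) (PicLoc.isInvertible_pullback p (isInvertible_tensorPow hL n)),
      ← PicM.pull_of p (isInvertible_tensorPow hL n), PicM.of_tensorPow hL n, map_pow, hPn]
  exact (PicM.of_eq_iff _ _).1 h2

end Groth.Agent.S5730
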