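import Groth.Statements.S5746
import Groth.Agent.GrAlphaLocal14.Basic
import Groth.Agent.Coherent.GrSect14
import Groth.Agent.TwistLib.G.ModLoc

set_option autoImplicit false
universe u
open CategoryTheory CategoryTheory.Limits AlgebraicGeometry Opposite TopologicalSpace
open scoped HomogeneousIdeal
noncomputable section
open Coherent

namespace Groth.Agent.S5746

open Groth.Agent Groth.Agent.TwistLib.G Groth.Agent.CAlgH3.GrModH1

variable {Y : Scheme.{u}} [AlgebraicGeometry.IsNoetherian Y] {𝒮 : RelProj.QCGrAlg Y}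

theorem noeth (hft : ∀ (U : Y.Opens) (hU : IsAffineOpen U), (𝒮.str.app (op U)).hom.FiniteType)
    (U : Y.Opens) (hU : IsAffineOpen U) : IsNoetherianRing (𝒮.presheaf.obj (op U)) := by
  let := (𝒮.str.app (op U)).hom.toAlgebra
  haveI : Algebra.FiniteType (Y.presheaf.obj (op U)) (𝒮.presheaf.obj (op U)) := hft U hU
  haveI : IsNoetherianRing (Y.presheaf.obj (op U)) := IsLocallyNoetherian.component_noetherian ⟨U, hU⟩
  exact Algebra.FiniteType.isNoetherianRing (Y.presheaf.obj (op U)) (𝒮.presheaf.obj (op U))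

theorem irr_map (U : Y.Opens) (hU : IsAffineOpen U) (g : Γ(Y, U)) {r : ℕ} {f : Fin r → 𝒮.presheaf.obj (op U)}
    (hle : (HomogeneousIdeal.irrelevant (𝒮.deg U hU)).toIdeal ≤ Ideal.span (Set.range f)) :
    (HomogeneousIdeal.irrelevant (𝒮.deg (Y.basicOpen g) (hU.basicOpen g))).toIdeal ≤
      (Ideal.span (Set.range fun j => 𝒮.res hU (hU.basicOpen g) (Y.basicOpen_le g) (f j))).radical := by
  refine le_trans (b := Ideal.map (𝒮.res hU (hU.basicOpen g) (Y.basicOpen_le g)) (HomogeneousIdeal.irrelevant (𝒮.deg U hU)).toIdeal)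
    (𝒮.irrelevant_le_map U hU g) ?_
  refine ((Ideal.map_mono hle).trans ?_).trans Ideal.le_radical
  rw [Ideal.map_span, ← Set.range_comp, Function.comp_def]

end Groth.Agent.S5746


namespace Groth.Agent.S5746

/-- Let Y be a Noetherian scheme, 𝒮 a quasi-coherent positively graded O_Y-algebra of finite type and ℳ
a quasi-coherent graded 𝒮-module (non-negatively graded here) satisfying (TF). Then there is one
integer N such that for every n ≥ N and every affine open U of Y the canonical map α_n : ℳ(U)_n →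
Γ(Proj 𝒮(U), (ℳ(U)(n))~), m ↦ m/1, is bijective. (The statement is read on the sections over the
affine opens of Y: over an affine open U the module (ℳ(n))~ on Proj(𝒮) restricts to the module
attached to the shifted graded 𝒮(U)-module ℳ(U)(n), so this is the bijectivity of the sheaf
homomorphism α_n from ℳ_n to the direct image of (ℳ(n))~, with a bound uniform over Y.) -/
theorem result {Y : Scheme.{u}}
    [AlgebraicGeometry.IsNoetherian Y] (𝒮 : RelProj.QCGrAlg Y)
    (hft : ∀ (U : Y.Opens) (hU : IsAffineOpen U), (𝒮.str.app (op U)).hom.FiniteType)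
    (ℳ : RelProj.GrModule 𝒮) (hℳ : Coh.IsQCoh ((AMod.toOS 𝒮.toQCAlg).obj ℳ.mod)) (hTF : ℳ.IsTF) :
    ∃ N : ℕ, ∀ n : ℕ, N ≤ n → ∀ (U : Y.Opens) (hU : IsAffineOpen U),
      Function.Bijective (GrMod.alpha (𝒮.deg U hU) (ℳ.deg U hU) n) := by
  open Groth.Agent Groth.Agent.CAlgH3.GrModH1 in
  have hloc := TwistLib.G.isLocalGrModule_of_isQCoh 𝒮 ℳ hℳ
  obtain ⟨t, ht⟩ : ∃ t : Finset Y.affineOpens, ⨆ W : t, (W.1 : Y.Opens) = ⊤ := by
    obtain ⟨t, ht⟩ := (isCompact_univ (X := Y)).elim_finite_subcover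
      (fun W : Y.affineOpens => ((W : Y.Opens) : Set Y)) (fun W => W.1.2)
      fun x _ => by
        obtain ⟨W, hW, hx, -⟩ := Opens.isBasis_iff_nbhd.mp Y.isBasis_affineOpens (show x ∈ (⊤ : Y.Opens) from trivial)
        exact Set.mem_iUnion.2 ⟨⟨W, hW⟩, hx⟩
    refine ⟨t, top_le_iff.1 fun x _ => ?_⟩
    obtain ⟨W, hW, hx⟩ := Set.mem_iUnion₂.1 (ht (Set.mem_univ x))
    exact Opens.mem_iSup.2 ⟨⟨W, hW⟩, hx⟩
  obtain ⟨k₀, hk₀⟩ := hTF
  have hb : ∀ W : t, ∃ N, ∀ n, N ≤ n →
      Function.Bijective (GrMod.alpha (𝒮.deg W.1 W.1.2) (ℳ.deg W.1 W.1.2) n) := fun W => by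
    haveI := noeth hft W.1.1 W.1.2
    exact GrSect14.exists_bijective_alpha (𝒮.deg W.1.1 W.1.2) (ℳ.deg W.1.1 W.1.2) ⟨k₀, hk₀ W.1.1 W.1.2⟩
  choose N hN using hb
  refine ⟨Finset.univ.sup N, fun n hn U hU => ?_⟩
  refine of_affine_open_cover (P := fun U : Y.affineOpens =>
    Function.Bijective (GrMod.alpha (𝒮.deg U.1 U.2) (ℳ.deg U.1 U.2) n))
    (fun W : t => W.1) ht ⟨U, hU⟩ ?_ ?_ (fun W => hN W n ((Finset.le_sup (Finset.mem_univ W)).trans hn))
  · rintro ⟨V, hV⟩ g hg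
    show Function.Bijective (GrMod.alpha (𝒮.deg (Y.basicOpen g) (hV.basicOpen g)) (ℳ.deg (Y.basicOpen g) (hV.basicOpen g)) n)
    haveI := noeth hft V hV
    haveI := noeth hft (Y.basicOpen g) (hV.basicOpen g)
    obtain ⟨r, f, d, hd, hf, -, hle⟩ := exists_gens (𝒮.deg V hV)
    exact (GrAlphaLocal14.good_iff _ hd (fun j => 𝒮.map_mem hV (hV.basicOpen g) _ (hf j)) (irr_map V hV g hle) n).1
      (GrAlphaLocal14.good_map (ℳ.res_mem hV (hV.basicOpen g) (Y.basicOpen_le g)) (hloc V hV g) hf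
        ((GrAlphaLocal14.good_iff f hd hf (hle.trans Ideal.le_radical) n).2 hg))
  · rintro ⟨V, hV⟩ s hs hg
    haveI := noeth hft V hV
    haveI : ∀ g : (s : Set Γ(Y, V)), IsNoetherianRing (𝒮.presheaf.obj (op (Y.basicOpen g.1))) :=
      fun g => noeth hft _ (hV.basicOpen g.1)
    obtain ⟨r, f, d, hd, hf, -, hle⟩ := exists_gens (𝒮.deg V hV)
    refine (GrAlphaLocal14.good_iff f hd hf (hle.trans Ideal.le_radical) n).1 ?_
    refine GrAlphaLocal14.good_of_cover (fun g : (s : Set Γ(Y, V)) => (𝒮.str.app (op V)).hom g.1) ?_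
      (fun g => 𝒮.res hV (hV.basicOpen g.1) (Y.basicOpen_le g.1))
      (fun g => ℳ.res hV (hV.basicOpen g.1) (Y.basicOpen_le g.1))
      (fun g => ℳ.res_mem hV (hV.basicOpen g.1) (Y.basicOpen_le g.1)) (fun g => hloc V hV g.1) hf
      fun g => (GrAlphaLocal14.good_iff _ hd (fun j => 𝒮.map_mem hV (hV.basicOpen g.1) _ (hf j))
        (irr_map V hV g.1 hle) n).2 (hg ⟨g.1, g.2⟩)
    have h := congrArg (Ideal.map (𝒮.str.app (op V)).hom) hs
    rw [Ideal.map_span, Ideal.map_top, Set.image_eq_range] at h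
    exact h

end Groth.Agent.S5746
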