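import Groth.Statements.S5747
import Groth.Agent.TwistLib.G.RelTF
import Groth.Agent.TwistLib.G.ModLoc
import Groth.Agent.TwistLib.G.RelTwist

set_option autoImplicit false
universe u
open CategoryTheory CategoryTheory.Limits AlgebraicGeometry Opposite TopologicalSpace
open scoped HomogeneousIdeal
noncomputable section
open Coherent

open Groth.Agent Groth.Agent.ProjLib Groth.Agent.Coherent Groth.Agent.PicLib
set_option backward.isDefEq.respectTransparency.types false

namespace Groth.Agent.S5747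

/-- Let Y be a Noetherian scheme, 𝒮 a quasi-coherent positively graded O_Y-algebra of finite type
(generators of any positive degrees), p : X = Proj(𝒮) → Y its relative homogeneous spectrum with its
charts over the affine opens, and n any integer. Then the homogeneous component O_X(n), given
through its chartwise identifications with the twisting modules O(n) on the Proj 𝒮(U), is a coherent
O_X-module (quasi-coherent of finite type; X is locally Noetherian). -/
theorem result {Y X : Scheme.{u}} [AlgebraicGeometry.IsNoetherian Y]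
    (𝒮 : RelProj.QCGrAlg Y)
    (hft : ∀ (U : Y.Opens) (hU : IsAffineOpen U), (𝒮.str.app (op U)).hom.FiniteType)
    (p : X ⟶ Y)
    (chart : ∀ (U : Y.Opens) (hU : IsAffineOpen U), (((p ⁻¹ᵁ U : X.Opens) : Scheme.{u}) ≅ Proj (𝒮.deg U hU)))
    (hP : RelProj.IsRelProj 𝒮 p chart) (n : ℤ) (L : X.Modules)
    (lam : ∀ (U : Y.Opens) (hU : IsAffineOpen U),
      L ⟶ (Scheme.Modules.pushforward (RelProj.emb p chart U hU)).obj (GrTwist.twist (𝒮.deg U hU) n))
    (hL : RelProj.IsRelTwist 𝒮 p chart n L lam) : Coh.IsCoh L := by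
  have hF := TwistLib.G.isRelTilde_of_isRelTwist hL
  refine ⟨TwistLib.G.isQCoh_of_isRelTwist hL, isFT_of_locallyFinGen fun x => ?_⟩
  obtain ⟨U, hU, hxU⟩ := TwistLib.G.exists_affine (p := p) x
  obtain ⟨z, rfl⟩ := TwistLib.G.exists_preimage (chart := chart) hU hxU
  obtain ⟨d, f, hd, hf, hfz⟩ := TwistLib.G.exists_pos_homogeneous_notMem (𝒮.deg U hU) z
  let _alg := (𝒮.str.app (op U)).hom.toAlgebra
  haveI : Algebra.FiniteType (Y.presheaf.obj (op U)) (𝒮.presheaf.obj (op U)) := hft U hU
  haveI : IsNoetherianRing (Y.presheaf.obj (op U)) := IsLocallyNoetherian.component_noetherian ⟨U, hU⟩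
  haveI : IsNoetherianRing (𝒮.presheaf.obj (op U)) :=
    Algebra.FiniteType.isNoetherianRing (Y.presheaf.obj (op U)) (𝒮.presheaf.obj (op U))
  haveI : SetLike.GradedSMul (𝒮.deg U hU) (𝒮.deg U hU) := ⟨fun {_ _ _ _} ha hb => SetLike.mul_mem_graded (A := 𝒮.deg U hU) ha hb⟩
  obtain ⟨I, hI, g, hg⟩ := TwistLib.G.exists_genOn_basicOpen (𝒜 := 𝒮.deg U hU)
    (ℳ := 𝒮.deg U hU) (IsNoetherian.noetherian _) (n₀ := 0)
    ((isNoetherian_def (R := 𝒮.presheaf.obj (op U)) (M := 𝒮.presheaf.obj (op U))).1 inferInstance _) n hd hf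
  let O : X.Opens := RelProj.emb p chart U hU ''ᵁ Proj.basicOpen (𝒮.deg U hU) f
  have hO : O ≤ p ⁻¹ᵁ U :=
    ((RelProj.emb p chart U hU).image_le_opensRange _).trans (TwistLib.G.opensRange_emb (p := p) (chart := chart) U hU).le
  have hpre : RelProj.emb p chart U hU ⁻¹ᵁ O = Proj.basicOpen (𝒮.deg U hU) f :=
    (RelProj.emb p chart U hU).preimage_image_eq _
  choose t ht using fun i => (hF.bijective U hU O hO).2
    (resM (GrMod.tilde (𝒮.deg U hU) (𝒮.deg U hU) n) hpre.le (g i))
  refine ⟨O, I, hI, t, ⟨z, hfz, rfl⟩, TwistLib.G.genOn_of_bijective_app (RelProj.emb p chart U hU)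
    (lam U hU ≫ (TwistLib.G.twistChartIso p chart n U hU).hom)
    (fun V hV => hF.bijective U hU V (hV.trans (TwistLib.G.opensRange_emb (p := p) (chart := chart) U hU).le))
    ((RelProj.emb p chart U hU).image_le_opensRange _) ?_⟩
  exact (funext ht : (fun i => _) = _) ▸ hg.res hpre.le

end Groth.Agent.S5747
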