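import Groth.Statements.S5751
import Groth.Agent.Coherent.GrSect14
import Groth.Agent.TwistLib.G.TF


set_option autoImplicit false
universe u
open CategoryTheory CategoryTheory.Limits AlgebraicGeometry Opposite TopologicalSpace
open scoped HomogeneousIdeal
noncomputable section
open Coherent

set_option backward.isDefEq.respectTransparency false
set_option linter.style.haveILetI false

namespace Groth.Agent.S5751

open CategoryTheory AlgebraicGeometry Opposite TopologicalSpace DirectSum

variable {A σ : Type u} [CommRing A] [SetLike σ A] [AddSubgroupClass σ A] {𝒜 : ℕ → σ} [GradedRing 𝒜]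

theorem mem_closure_mul (hgen : (HomogeneousIdeal.irrelevant 𝒜).toIdeal = Ideal.span (𝒜 1 : Set A))
    (e q : ℕ) {a : A} (ha : a ∈ 𝒜 (e + q)) :
    a ∈ AddSubgroup.closure {y : A | ∃ b ∈ 𝒜 e, ∃ c ∈ 𝒜 q, y = b * c} := by
  classical
  induction e generalizing a with
  | zero => exact AddSubgroup.subset_closure ⟨1, SetLike.GradedOne.one_mem, a, by simpa using ha, (one_mul a).symm⟩
  | succ e ih =>
    have hI : a ∈ Ideal.span (𝒜 1 : Set A) := by
      rw [← hgen, HomogeneousIdeal.toIdeal_irrelevant, RingHom.mem_ker, GradedRing.projZeroRingHom_apply]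
      exact decompose_of_mem_ne 𝒜 ha (by omega)
    rw [← decompose_of_mem_same 𝒜 ha]
    clear ha
    induction hI using Submodule.span_induction with
    | mem g hg =>
      by_cases h : 1 = e + 1 + q
      · obtain ⟨rfl, rfl⟩ : e = 0 ∧ q = 0 := by omega
        rw [decompose_of_mem_same 𝒜 hg]
        exact AddSubgroup.subset_closure ⟨g, hg, 1, SetLike.GradedOne.one_mem, (mul_one g).symm⟩
      · rw [decompose_of_mem_ne 𝒜 hg h]
        exact zero_mem _
    | zero => simp
    | add x y _ _ hx hy => simpa [decompose_add] using add_mem hx hy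
    | smul c g hg' hg =>
      clear hg
      induction hg' using Submodule.span_induction generalizing c with
      | mem g hg =>
        rw [smul_eq_mul, coe_decompose_mul_of_right_mem_of_le 𝒜 hg (by omega)]
        have h2 := ih (a := (decompose 𝒜 c (e + 1 + q - 1) : A)) (by
          rw [show e + q = e + 1 + q - 1 by omega]; exact (decompose 𝒜 c _).2)
        generalize (decompose 𝒜 c (e + 1 + q - 1) : A) = w at h2 ⊢
        induction h2 using AddSubgroup.closure_induction with
        | mem y hy =>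
          obtain ⟨b, hb, c', hc', rfl⟩ := hy
          exact AddSubgroup.subset_closure ⟨g * b, add_comm 1 e ▸ SetLike.mul_mem_graded hg hb, c', hc', by ring⟩
        | zero => simp
        | add x y _ _ hx hy => rw [add_mul]; exact add_mem hx hy
        | neg x _ hx => rw [neg_mul]; exact neg_mem hx
      | zero => simp
      | add x y _ _ hx hy => simpa [decompose_add, smul_add, mul_add] using add_mem (hx c) (hy c)
      | smul c' x _ hx => rw [smul_smul]; exact hx _

variable {M τ : Type u} [AddCommGroup M] [Module A M] [SetLike τ M] [AddSubgroupClass τ M] {ℳ : ℕ → τ}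
  [SetLike.GradedSMul 𝒜 ℳ]

/-- `m/1` as a section of degree `z = i`. -/
def sectOf {z : ℤ} {i : ℕ} (hz : (i : ℤ) = z) (m : ℳ i) : GrMod.sect 𝒜 ℳ z (op ⊤) :=
  hz ▸ GrMod.globalOf 𝒜 ℳ m

theorem sectOf_coe {z : ℤ} {i : ℕ} (hz : (i : ℤ) = z) (m : ℳ i) (x : (⊤ : Opens (ProjectiveSpectrum.top 𝒜))) :
    (((sectOf hz m).1 x : GrMod.tildeAt 𝒜 ℳ z x.1) : GrMod.LocMod 𝒜 (M := M) x.1) =
      LocalizedModule.mk (m : M) 1 := by subst hz; rfl

theorem surjective_sectOf [DirectSum.Decomposition ℳ] {z : ℤ} {i : ℕ} (hz : (i : ℤ) = z)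
    (h : Function.Surjective (GrMod.alpha 𝒜 ℳ i)) : Function.Surjective (sectOf (𝒜 := 𝒜) (ℳ := ℳ) hz) := by
  subst hz; exact h

end Groth.Agent.S5751

namespace Groth.Agent.S5751

/-- Over an affine base, for a graded ring generated in degree one, let S be a Noetherian commutative
ring positively graded by additive subgroups with irrelevant ideal generated by S_1, X = Proj S, and
M a graded S-module (non-negatively graded here, the direct sum of its pieces) satisfying (TF): for
some k the submodule generated by the homogeneous elements of degree ≥ k is finitely generated.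
Consider the graded module of sections n ↦ N_n = Γ(X, M(n)~), on which a homogeneous a ∈ S_e acts by
N_n → N_{n+e}, s ↦ (a/1)·s. Then there is k such that for every e ≥ 0 the group N_{k+e} is generated
by the images a · N_k, a ∈ S_e. (For a ring generated in degree one, condition (TF) for the graded
module ⊕_n N_n is this eventual generation together with the finiteness of each N_n over S_0.) -/
theorem result {A σ : Type u} [CommRing A]
    [IsNoetherianRing A] [SetLike σ A] [AddSubgroupClass σ A] (𝒜 : ℕ → σ) [GradedRing 𝒜]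
    (hgen : (HomogeneousIdeal.irrelevant 𝒜).toIdeal = Ideal.span (𝒜 1 : Set A))
    {M τ : Type u} [AddCommGroup M] [Module A M] [SetLike τ M] [AddSubgroupClass τ M] (ℳ : ℕ → τ)
    [SetLike.GradedSMul 𝒜 ℳ] [DirectSum.Decomposition ℳ]
    (hTF : ∃ k : ℕ, (Submodule.span A (⋃ i ∈ Set.Ici k, (ℳ i : Set M))).FG) :
    ∃ k : ℕ, ∀ e : ℕ,
      (⨆ a : 𝒜 e, (GrMod.smulSect 𝒜 ℳ a (k : ℤ)
        (op (⊤ : Opens (ProjectiveSpectrum.top 𝒜)))).range) = ⊤ := by
  classical
  obtain ⟨N, hN⟩ := GrSect14.exists_bijective_alpha 𝒜 ℳ hTF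
  obtain ⟨k₀, hk₀⟩ := hTF
  obtain ⟨J, _, g, deg, hg, hM⟩ := TwistLib.G.exists_tail_gens (𝒜 := 𝒜) hk₀
  refine ⟨N + k₀ + Finset.univ.sup deg, fun e => ?_⟩
  set k := N + k₀ + Finset.univ.sup deg with hk
  refine eq_top_iff.2 fun t _ => ?_
  obtain ⟨m, rfl⟩ := surjective_sectOf (ℳ := ℳ) (show ((e + k : ℕ) : ℤ) = (k : ℤ) + e by push_cast; ring)
    (hN (e + k) (by omega)).2 t
  obtain ⟨m, hm⟩ := m
  set L := (⨆ a : 𝒜 e, (GrMod.smulSect 𝒜 ℳ a (k : ℤ) (op (⊤ : Opens (ProjectiveSpectrum.top 𝒜)))).range)
  have key : ∀ x ∈ AddSubgroup.closure {y : M | ∃ b ∈ 𝒜 e, ∃ c ∈ ℳ k, y = b • c},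
      ∃ s ∈ L, ∀ p, (((s.1 p) : GrMod.tildeAt 𝒜 ℳ ((k : ℤ) + e) p.1) : GrMod.LocMod 𝒜 (M := M) p.1) =
        LocalizedModule.mk x 1 := fun x hx => by
    induction hx using AddSubgroup.closure_induction with
    | mem y hy =>
      obtain ⟨b, hb, c, hc, rfl⟩ := hy
      refine ⟨_, AddSubgroup.mem_iSup_of_mem ⟨b, hb⟩ ⟨GrMod.globalOf 𝒜 ℳ ⟨c, hc⟩, rfl⟩, fun p => ?_⟩
      rw [GrMod.smulSect_apply_coe, GrMod.globalOf_apply_coe, LocalizedModule.mk_smul_mk, one_mul]
    | zero => exact ⟨0, zero_mem _, fun p => (LocalizedModule.zero_mk _).symm⟩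
    | add x y _ _ hx hy =>
      obtain ⟨s, hs, hs'⟩ := hx
      obtain ⟨s', hs₂, hs₂'⟩ := hy
      refine ⟨s + s', add_mem hs hs₂, fun p => ?_⟩
      refine (congrArg₂ (· + ·) (hs' p) (hs₂' p)).trans ?_
      exact ((LocalizedModule.mkLinearMap _ M).map_add x y).symm
    | neg x _ hx =>
      obtain ⟨s, hs, hs'⟩ := hx
      exact ⟨-s, neg_mem hs, fun p => (congrArg (- ·) (hs' p)).trans
        ((LocalizedModule.mkLinearMap _ M).map_neg x).symm⟩
  obtain ⟨s, hs, hs'⟩ := key m (by
    have h := hM (e + k) m (by omega) hm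
    revert h
    generalize m = x
    intro h
    induction h using AddSubgroup.closure_induction with
    | mem y hy =>
      obtain ⟨j, p, a, ha, hp, rfl⟩ := hy
      have hj : deg j ≤ Finset.univ.sup deg := Finset.le_sup (Finset.mem_univ j)
      have h2 := mem_closure_mul hgen e (k - deg j) (a := a) (by rwa [show e + (k - deg j) = p by omega])
      clear ha
      induction h2 using AddSubgroup.closure_induction with
      | mem y hy =>
        obtain ⟨b, hb, c, hc, rfl⟩ := hy
        refine AddSubgroup.subset_closure ⟨b, hb, c • g j, ?_, (mul_smul b c _)⟩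
        have := SetLike.GradedSMul.smul_mem (B := ℳ) hc (hg j)
        rwa [show (k - deg j) +ᵥ deg j = k from Nat.sub_add_cancel (by omega)] at this
      | zero => simp
      | add x y _ _ hx hy => rw [add_smul]; exact add_mem hx hy
      | neg x _ hx => rw [neg_smul]; exact neg_mem hx
    | zero => exact zero_mem _
    | add x y _ _ hx hy => exact add_mem hx hy
    | neg x _ hx => exact neg_mem hx)
  convert hs using 1
  exact Subtype.ext (funext fun p => Subtype.ext ((sectOf_coe _ ⟨m, hm⟩ p).trans (hs' p).symm))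

end Groth.Agent.S5751
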