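import Groth.Statements.S5752
import Groth.Agent.CAlgH3.Depth
import Mathlib

set_option backward.isDefEq.respectTransparency.types false

set_option autoImplicit false
universe u
open EGA41

namespace Groth.Agent.S5752

/-- Let A be a Noetherian local ring with maximal ideal m and M a finitely generated A-module. Then M
has depth 0 if and only if m is an associated prime of M, i.e. if and only if M contains a copy of
the residue field. (For M = 0 the depth is ⊤ and there are no associated primes.) -/
theorem result (A : Type u) [CommRing A] [IsLocalRing A]
    [IsNoetherianRing A] (M : Type u) [AddCommGroup M] [Module A M] [Module.Finite A M] :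
    LocCoh.depth A M = 0 ↔ IsLocalRing.maximalIdeal A ∈ associatedPrimes A M := by
  cases subsingleton_or_nontrivial M
  · rw [Groth.Agent.CAlgH3.depth_eq_top_of_subsingleton]
    simp [associatedPrimes.eq_empty_of_subsingleton]
  · exact Groth.Agent.CAlgH3.depth_eq_zero_iff

end Groth.Agent.S5752
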