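import Groth.Statements.S5753
import Groth.Agent.CAlgH3.Depth
import Mathlib

set_option backward.isDefEq.respectTransparency.types false

set_option autoImplicit false
universe u
open EGA41

namespace Groth.Agent.S5753

/-- Let A be a Noetherian local ring with maximal ideal m and residue field k, and N a finitely
generated A-module. Then no element of m is N-regular (multiplication by it injective) if and only
if Hom_A(k, N) is nonzero. Applied to N = M/(x_1 M + ... + x_n M) for an M-regular sequence (x_i) in
m, this says that the sequence cannot be extended by an element of m if and only if Hom_A(k, M/(x_1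
M + ... + x_n M)) ≠ 0. (The published statement allows an arbitrary module; for the direct sum N of
the quotients of a two-dimensional regular local ring by all its height-one primes no element of m
is N-regular while Hom_A(k, N) = 0, and the published proof uses finiteness of the set of associated
primes, so N is taken finitely generated here.) -/
theorem result (A : Type u) [CommRing A]
    [IsLocalRing A] [IsNoetherianRing A] (N : Type u) [AddCommGroup N] [Module A N] [Module.Finite A N] :
    (∀ x ∈ IsLocalRing.maximalIdeal A, ¬ IsSMulRegular N x) ↔
      Nontrivial (IsLocalRing.ResidueField A →ₗ[A] N) := by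
  have h1 : (∀ x ∈ IsLocalRing.maximalIdeal A, ¬ IsSMulRegular N x) ↔
      IsLocalRing.maximalIdeal A ∈ associatedPrimes A N := by
    rw [← not_iff_not, ← Groth.Agent.CAlgH3.exists_regular_iff_notMem_associatedPrimes]
    push_neg
    rfl
  rw [h1, show (IsLocalRing.maximalIdeal A ∈ associatedPrimes A N) = IsAssociatedPrime (IsLocalRing.maximalIdeal A) N from rfl,
    isAssociatedPrime_iff_exists_injective_linearMap]
  constructor
  · rintro ⟨-, f, hf⟩
    refine nontrivial_of_ne f 0 fun h => ?_
    exact one_ne_zero (α := IsLocalRing.ResidueField A) (hf (by rw [h]; exact Eq.refl (0 : N)))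
  · intro h
    obtain ⟨f, hf⟩ := exists_ne (0 : IsLocalRing.ResidueField A →ₗ[A] N)
    refine ⟨inferInstance, f, ?_⟩
    refine (injective_iff_map_eq_zero _).2 fun (x : IsLocalRing.ResidueField A) hx => ?_
    by_contra hx0
    refine hf (LinearMap.ext fun y => ?_)
    obtain ⟨a, ha⟩ := Ideal.Quotient.mk_surjective (y * (x : IsLocalRing.ResidueField A)⁻¹)
    have hy : y = a • x := (show y = IsLocalRing.residue A a * x from by
      rw [show IsLocalRing.residue A a = y * x⁻¹ from ha, inv_mul_cancel_right₀ hx0]).trans rfl
    rw [hy, map_smul]
    exact (congrArg (a • ·) hx).trans (smul_zero a)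

end Groth.Agent.S5753
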