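import Groth.Statements.S5754
import Mathlib

set_option backward.isDefEq.respectTransparency.types false

set_option autoImplicit false
universe u
open EGA41

namespace Groth.Agent.S5754

/-- Let A be a Noetherian ring, M a finitely generated A-module and t an element of A which is
M-regular. For every associated prime p of M, every prime ideal minimal among those containing p +
tA is an associated prime of M/tM. -/
theorem result (A : Type u) [CommRing A]
    [IsNoetherianRing A] (M : Type u) [AddCommGroup M] [Module A M] [Module.Finite A M] (t : A)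
    (ht : IsSMulRegular M t) (p : Ideal A) (hp : p ∈ associatedPrimes A M) (q : Ideal A)
    (hq : q ∈ (p ⊔ Ideal.span {t}).minimalPrimes) : q ∈ associatedPrimes A (QuotSMulTop t M) := by
  let K : Submodule A M := ⨅ a ∈ (p : Set A), LinearMap.ker (LinearMap.lsmul A M a)
  have hK : ∀ x, x ∈ K ↔ ∀ a ∈ p, a • x = 0 := fun x => by simp [K]
  have hKsupp : ∀ Q : PrimeSpectrum A, Q ∈ Module.support A K ↔ p ≤ Q.asIdeal := by
    intro Q
    constructor
    · intro hQ
      rw [Module.support_eq_zeroLocus] at hQ
      refine le_trans ?_ hQ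
      intro a ha
      rw [Module.mem_annihilator]
      intro x
      exact Subtype.ext ((hK x.1).1 x.2 a ha)
    · intro hQ
      obtain ⟨f, hf⟩ := ((isAssociatedPrime_iff_exists_injective_linearMap p M).1 hp).2
      have hmem : ∀ y, f y ∈ K := fun y => (hK _).2 fun a ha => by
        rw [← map_smul]
        obtain ⟨b, rfl⟩ := Ideal.Quotient.mk_surjective y
        have hz : a • (Ideal.Quotient.mk p b) = 0 := by
          rw [Algebra.smul_def, Ideal.Quotient.algebraMap_eq, ← map_mul, Ideal.Quotient.eq_zero_iff_mem]
          exact p.mul_mem_right b ha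
        rw [hz, map_zero]
      have hinj : Function.Injective (f.codRestrict K hmem) := fun a b hab => hf (congrArg Subtype.val hab)
      refine Module.support_subset_of_injective (f.codRestrict K hmem) hinj ?_
      rw [Module.support_eq_zeroLocus, Ideal.annihilator_quotient]
      exact hQ
  have hsupp : ∀ Q : PrimeSpectrum A, Q ∈ Module.support A (QuotSMulTop t K) ↔ p ⊔ Ideal.span {t} ≤ Q.asIdeal := by
    intro Q
    rw [Module.support_quotSMulTop, sup_le_iff, Ideal.span_singleton_le_iff_mem]
    constructor
    · rintro ⟨h1, h2⟩; exact ⟨(hKsupp Q).1 h1, by simpa using h2⟩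
    · rintro ⟨h1, h2⟩; exact ⟨(hKsupp Q).2 h1, by simpa using h2⟩
  have hinj : Function.Injective (QuotSMulTop.map t K.subtype) := by
    open scoped Pointwise in
      rw [injective_iff_map_eq_zero]
      intro z hz
      obtain ⟨x, rfl⟩ := Submodule.Quotient.mk_surjective _ z
      rw [Submodule.Quotient.mk_eq_zero]
      have hx : (x : M) ∈ t • (⊤ : Submodule A M) := (Submodule.Quotient.mk_eq_zero _).1 hz
      obtain ⟨y, -, hy⟩ := (Submodule.mem_smul_pointwise_iff_exists _ _ _).1 hx
      have hyK : y ∈ K := (hK y).2 fun a ha => ht (by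
        show t • (a • y) = t • (0 : M)
        rw [smul_comm, hy, smul_zero]
        exact (hK _).1 x.2 a ha)
      exact (Submodule.mem_smul_pointwise_iff_exists _ _ _).2 ⟨⟨y, hyK⟩, trivial, Subtype.ext hy⟩
  refine associatedPrimes.subset_of_injective hinj ?_
  apply Module.associatedPrimes.minimalPrimes_annihilator_subset_associatedPrimes
  have hq1 := hq.1.1
  refine ⟨⟨hq1, ?_⟩, ?_⟩
  · have := (hsupp ⟨q, hq1⟩).2 hq.1.2
    rw [Module.support_eq_zeroLocus] at this
    exact this
  · intro q' hq' hle
    have := hq'.1
    refine hq.2 ⟨hq'.1, (hsupp ⟨q', hq'.1⟩).1 ?_⟩ hle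
    rw [Module.support_eq_zeroLocus]
    exact hq'.2

end Groth.Agent.S5754
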