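import Groth.Statements.S5755
import Groth.Agent.CAlgH3.Depth
import Mathlib

set_option backward.isDefEq.respectTransparency.types false

set_option autoImplicit false
universe u
open EGA41

namespace Groth.Agent.S5755

/-- A reduced Noetherian local ring A has depth 0 if and only if A is a field. -/
theorem result (A : Type u) [CommRing A] [IsLocalRing A]
    [IsNoetherianRing A] [IsReduced A] : LocCoh.depth A A = 0 ↔ IsField A := by
  rw [Groth.Agent.CAlgH3.depth_eq_zero_iff, show (IsLocalRing.maximalIdeal A ∈ associatedPrimes A A) =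
    IsAssociatedPrime (IsLocalRing.maximalIdeal A) A from rfl, isAssociatedPrime_iff]
  constructor
  · rintro ⟨-, x, hx⟩
    rw [IsLocalRing.isField_iff_maximalIdeal_eq]
    have hmem : ∀ a, a ∈ IsLocalRing.maximalIdeal A ↔ a * x = 0 := fun a => by
      rw [hx, Submodule.mem_colon_singleton, Submodule.mem_bot, smul_eq_mul]
    by_cases hu : IsUnit x
    · rw [Submodule.eq_bot_iff]
      exact fun a ha => hu.mul_left_eq_zero.1 ((hmem a).1 ha)
    · have h2 : x ^ 2 = 0 := by rw [pow_two]; exact (hmem x).1 hu
      have h0 : x = 0 := IsReduced.eq_zero x ⟨2, h2⟩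
      exact absurd ((hmem 1).2 (by rw [h0, mul_zero]))
        ((Ideal.ne_top_iff_one _).1 (IsLocalRing.maximalIdeal.isMaximal A).ne_top)
  · intro h
    refine ⟨inferInstance, 1, ?_⟩
    ext a
    rw [(IsLocalRing.isField_iff_maximalIdeal_eq).1 h, Submodule.mem_colon_singleton]
    simp

end Groth.Agent.S5755
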