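import Groth.Statements.S5756
import Groth.Agent.InvLib.DepthFinite
import Groth.Agent.CAlgH3.Depth
import Mathlib

set_option backward.isDefEq.respectTransparency.types false

set_option autoImplicit false
universe u
open EGA41

namespace Groth.Agent.S5756

/-- Suppose A and B are Noetherian local rings and ρ : A → B is a local homomorphism. Given a B-module M
that, viewed as an A-module through ρ, is finitely generated, the depth of M over A coincides with
the depth of M over B. -/
theorem result (A B : Type u) [CommRing A] [CommRing B] [IsLocalRing A]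
    [IsLocalRing B] [IsNoetherianRing A] [IsNoetherianRing B] [Algebra A B] [IsLocalHom (algebraMap A B)]
    (M : Type u) [AddCommGroup M] [Module B M] [Module A M] [IsScalarTower A B M] [Module.Finite A M] :
    LocCoh.depth A M = LocCoh.depth B M := by
  refine (?_ : ∀ (M : Type u) [AddCommGroup M] [Module B M] [Module A M] [IsScalarTower A B M]
    [Module.Finite A M], LocCoh.depth A M = LocCoh.depth B M) M
  clear! M
  intro M _ _ _ _ _
  have : Module.Finite B M := Module.Finite.of_restrictScalars_finite A B M
  rcases subsingleton_or_nontrivial M with hs | hs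
  · rw [Groth.Agent.CAlgH3.depth_eq_top_of_subsingleton, Groth.Agent.CAlgH3.depth_eq_top_of_subsingleton]
  obtain ⟨n, hn⟩ := Groth.Agent.CAlgH3.exists_depth_eq_natCast (R := A) (M := M)
  induction n generalizing M with
  | zero =>
    rw [hn]
    symm
    rw [Nat.cast_zero] at hn ⊢
    rw [Groth.Agent.CAlgH3.depth_eq_zero_iff]
    have hm := Groth.Agent.CAlgH3.depth_eq_zero_iff.1 hn
    obtain ⟨f, hf⟩ := ((isAssociatedPrime_iff_exists_injective_linearMap _ M).1 hm).2
    let x : M := f 1
    have hx : ∀ a ∈ IsLocalRing.maximalIdeal A, a • x = 0 := fun a ha => by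
      have : a • (1 : A ⧸ IsLocalRing.maximalIdeal A) = 0 := by
        rw [Algebra.smul_def, mul_one, Ideal.Quotient.algebraMap_eq, Ideal.Quotient.eq_zero_iff_mem]
        exact ha
      show a • f 1 = 0
      rw [← map_smul, this, map_zero]
    let N : Submodule B M := Submodule.span B {x}
    have hNm : ∀ a ∈ IsLocalRing.maximalIdeal A, ∀ y ∈ N, a • y = 0 := by
      intro a ha y hy
      obtain ⟨b, rfl⟩ := Submodule.mem_span_singleton.1 hy
      rw [smul_comm, hx a ha, smul_zero]
    have hNfin : Module.Finite A N :=
      inferInstanceAs (Module.Finite A (N.restrictScalars A))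
    let _ : Module (A ⧸ IsLocalRing.maximalIdeal A) N :=
      Module.IsTorsionBySet.module (fun y a => Subtype.ext (hNm a a.2 y y.2))
    have : IsScalarTower A (A ⧸ IsLocalRing.maximalIdeal A) N := Module.IsTorsionBySet.isScalarTower _
    have : Module.Finite (A ⧸ IsLocalRing.maximalIdeal A) N := Module.Finite.of_restrictScalars_finite A _ _
    let _ : Field (A ⧸ IsLocalRing.maximalIdeal A) := Ideal.Quotient.field _
    have hartA : IsArtinian A N :=
      isArtinian_of_surjective_algebraMap (R := A ⧸ IsLocalRing.maximalIdeal A) Ideal.Quotient.mk_surjective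
    have hartB : IsArtinian B N := isArtinian_of_tower A hartA
    have : Nontrivial N := ⟨⟨x, Submodule.mem_span_singleton_self x⟩, 0, fun h => by
      have h1 : f 1 = f 0 := (congrArg Subtype.val h).trans (map_zero f).symm
      exact one_ne_zero (hf h1)⟩
    obtain ⟨q, hq⟩ := associatedPrimes.nonempty B N
    obtain ⟨g, hg⟩ := ((isAssociatedPrime_iff_exists_injective_linearMap q N).1 hq).2
    have : IsArtinian B (B ⧸ q) := isArtinian_of_injective g hg
    have : IsArtinianRing (B ⧸ q) := isArtinian_of_tower B this
    have hqp : q.IsPrime := IsAssociatedPrime.isPrime hq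
    have hqm : q.IsMaximal := Ideal.Quotient.maximal_of_isField _ (IsArtinianRing.isField_of_isDomain (B ⧸ q))
    exact IsLocalRing.eq_maximalIdeal hqm ▸ associatedPrimes.subset_of_injective N.injective_subtype hq
  | succ n ih =>
    obtain ⟨x, hx, hreg⟩ := Groth.Agent.CAlgH3.exists_regular_of_one_le_depth (R := A) (M := M)
      (by rw [hn]; exact_mod_cast Nat.le_add_left 1 n)
    have hxB : algebraMap A B x ∈ IsLocalRing.maximalIdeal B := by
      rw [IsLocalRing.mem_maximalIdeal] at hx ⊢
      exact fun h => hx (isUnit_of_map_unit _ _ h)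
    have hregB : IsSMulRegular M (algebraMap A B x) := fun a b h => hreg (by simpa [algebraMap_smul] using h)
    let e : QuotSMulTop (algebraMap A B x) M ≃ₗ[A] QuotSMulTop x M :=
      Groth.Agent.InvLib.quotSMulTopEquiv (B := B) x M
    have : Module.Finite A (QuotSMulTop (algebraMap A B x) M) := Module.Finite.equiv e.symm
    have : Nontrivial (QuotSMulTop x M) := Groth.Agent.CAlgH3.nontrivial_quotSMulTop hx
    have : Nontrivial (QuotSMulTop (algebraMap A B x) M) := e.toEquiv.nontrivial
    have h1 := Groth.Agent.CAlgH3.depth_quotSMulTop_add_one (M := M) hx hreg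
    have h2 := Groth.Agent.CAlgH3.depth_quotSMulTop_add_one (R := B) (M := M) hxB hregB
    obtain ⟨m, hm⟩ := Groth.Agent.CAlgH3.exists_depth_eq_natCast (R := A) (M := QuotSMulTop x M)
    have hmn : m = n := by
      rw [hm, hn] at h1
      have : m + 1 = n + 1 := by exact_mod_cast h1
      omega
    have h3 := ih (QuotSMulTop (algebraMap A B x) M) inferInstance inferInstance
      (by rw [Groth.Agent.CAlgH3.depth_congr e, hm, hmn])
    rw [← h1, ← h2, ← h3, Groth.Agent.CAlgH3.depth_congr e]

end Groth.Agent.S5756
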