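import Groth.Statements.S5760
import Groth.Agent.EGA41Lib.CMParameters
import Mathlib

set_option backward.isDefEq.respectTransparency.types false

set_option autoImplicit false
universe u
open EGA41

namespace Groth.Agent.S5760

/-- Let A be a Noetherian local ring, M a nonzero finitely generated Cohen-Macaulay A-module, p a prime
ideal in the support of M and r the integer dim(M) - dim(M/pM). Then there exists an M-regular
sequence x_1, ..., x_r of elements of p; for every such sequence, dim(M/(x_1 M + ... + x_r M)) =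
dim(M/pM) = dim(A/p), and p is a minimal element of the set of associated primes of M/(x_1 M + ... +
x_r M). -/
theorem result (A : Type u) [CommRing A]
    [IsLocalRing A] [IsNoetherianRing A] (M : Type u) [AddCommGroup M] [Module A M] [Module.Finite A M]
    (hM : LocCoh.IsCohenMacaulayModule A M) (p : PrimeSpectrum A) (hp : p ∈ Module.support A M) (r : ℕ)
    (hr : Module.supportDim A (M ⧸ (p.asIdeal • (⊤ : Submodule A M))) + r = Module.supportDim A M) :
    (∃ xs : List A, xs.length = r ∧ (∀ x ∈ xs, x ∈ p.asIdeal) ∧ RingTheory.Sequence.IsWeaklyRegular M xs) ∧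
      ∀ xs : List A, xs.length = r → (∀ x ∈ xs, x ∈ p.asIdeal) → RingTheory.Sequence.IsWeaklyRegular M xs →
        Module.supportDim A (M ⧸ (Ideal.ofList xs • (⊤ : Submodule A M))) =
            Module.supportDim A (M ⧸ (p.asIdeal • (⊤ : Submodule A M))) ∧
          Module.supportDim A (M ⧸ (p.asIdeal • (⊤ : Submodule A M))) = ringKrullDim (A ⧸ p.asIdeal) ∧
          p.asIdeal ∈ associatedPrimes A (M ⧸ (Ideal.ofList xs • (⊤ : Submodule A M))) ∧
          ∀ q ∈ associatedPrimes A (M ⧸ (Ideal.ofList xs • (⊤ : Submodule A M))), q ≤ p.asIdeal → q = p.asIdeal := by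
  have hd := Groth.Agent.EGA41Lib.supportDim_quotient_prime p hp
  rw [hd] at hr
  refine ⟨Groth.Agent.EGA41Lib.cm_exists_regular_in_prime r M hM p hp hr, ?_⟩
  intro xs hlen hxp hreg
  have hxm : ∀ x ∈ xs, x ∈ IsLocalRing.maximalIdeal A := fun x hx =>
    IsLocalRing.le_maximalIdeal p.2.ne_top (hxp x hx)
  obtain ⟨h1, h2⟩ := (Groth.Agent.EGA41Lib.cm_regular_sequence xs M hM hxm).1 hreg
  rw [hlen, ← hr] at h1
  have heq := Groth.Agent.EGA41Lib.withBot_add_natCast_cancel r h1
  have hsupp : p ∈ Module.support A (M ⧸ (Ideal.ofList xs • (⊤ : Submodule A M))) := by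
    rw [Module.support_quotient]
    refine ⟨hp, ?_⟩
    intro x hx
    have : Ideal.ofList xs ≤ p.asIdeal := Ideal.span_le.2 (fun y hy => hxp y hy)
    exact this hx
  have hass := Groth.Agent.EGA41Lib.cm_prime_of_full_dim h2 p hsupp heq.symm
  refine ⟨by rw [hd, heq], hd, hass, ?_⟩
  intro q hq hqp
  have hqs : (⟨q, IsAssociatedPrime.isPrime hq⟩ : PrimeSpectrum A) ∈
      Module.support A (M ⧸ (Ideal.ofList xs • (⊤ : Submodule A M))) := by
    rw [Module.support_eq_zeroLocus]
    exact (Submodule.annihilator_top (R := A) (M := M ⧸ (Ideal.ofList xs • (⊤ : Submodule A M))) ▸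
      IsAssociatedPrime.annihilator_le hq)
  exact Groth.Agent.CAlgH3.eq_of_le_of_mem_associatedPrimes h2 hass hqs hqp

end Groth.Agent.S5760
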