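import Groth.Statements.S5764
import Mathlib

set_option backward.isDefEq.respectTransparency.types false

set_option autoImplicit false
universe u
open EGA41

namespace Groth.Agent.S5764

/-- Let B be an integral domain, A a local subring of B which is integrally closed (in its field of
fractions), and suppose B is integral over A. Then dim(B_n) = dim(A) for every maximal ideal n of B. -/
theorem result (A B : Type u) [CommRing A]
    [CommRing B] [IsDomain B] [Algebra A B] (hinj : Function.Injective (algebraMap A B)) [IsDomain A]
    [IsLocalRing A] [IsIntegrallyClosed A] [Algebra.IsIntegral A B] (n : Ideal B) [n.IsMaximal] :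
    ringKrullDim (Localization.AtPrime n) = ringKrullDim A := by
  have : FaithfulSMul A B := (faithfulSMul_iff_algebraMap_injective A B).mpr hinj
  rw [IsLocalization.AtPrime.ringKrullDim_eq_height n (Localization.AtPrime n)]
  have hnm : n.LiesOver (IsLocalRing.maximalIdeal A) := by
    refine ⟨(IsLocalRing.eq_maximalIdeal ?_).symm⟩
    exact Ideal.isMaximal_comap_of_isIntegral_of_isMaximal n
  have hmono : StrictMono (PrimeSpectrum.comap (algebraMap A B)) := by
    intro P Q h
    obtain ⟨x, hxQ, hxP⟩ := SetLike.exists_of_lt (show P.asIdeal < Q.asIdeal from h)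
    exact Ideal.comap_lt_comap_of_integral_mem_sdiff (show P.asIdeal ≤ Q.asIdeal from h.le) ⟨hxQ, hxP⟩
      (Algebra.IsIntegral.isIntegral x)
  refine le_antisymm ?_ ?_
  · refine le_trans ?_ (Order.krullDim_le_of_strictMono _ hmono)
    exact Ideal.height_le_ringKrullDim_of_ne_top (Ideal.IsMaximal.ne_top ‹_›)
  · rw [← IsLocalRing.maximalIdeal_height_eq_ringKrullDim, WithBot.coe_le_coe,
      (⟨IsLocalRing.maximalIdeal A, inferInstance⟩ : PrimeSpectrum A).height_eq_orderHeight,
      (⟨n, inferInstance⟩ : PrimeSpectrum B).height_eq_orderHeight, Order.height_le_iff']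
    intro l hl
    have : n.LiesOver l.last.asIdeal := by rw [hl]; exact hnm
    obtain ⟨L, hlen, hlast, -⟩ := Ideal.exists_ltSeries_of_hasGoingDown l n
    rw [← hlen]
    exact Order.length_le_height hlast.le

end Groth.Agent.S5764
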