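import Groth.Statements.S5766
import Groth.Agent.DimLib.Algebra

set_option autoImplicit false
universe u
open EGA41

namespace Groth.Agent.S5766

/-- Let A be a Noetherian ring, ρ : A → B a ring homomorphism and M a B-module which is finitely
generated as an A-module via ρ. Then the dimension of M as an A-module equals its dimension as a
B-module. -/
theorem result (A B : Type u) [CommRing A] [CommRing B] [IsNoetherianRing A]
    [Algebra A B] (M : Type u) [AddCommGroup M] [Module B M] [Module A M] [IsScalarTower A B M]
    [Module.Finite A M] : Module.supportDim A M = Module.supportDim B M := by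
  haveI : Module.Finite B M := Module.Finite.of_restrictScalars_finite A B M
  rw [Module.supportDim_eq_ringKrullDim_quotient_annihilator, Module.supportDim_eq_ringKrullDim_quotient_annihilator]
  let IA := Module.annihilator A M
  let IB := Module.annihilator B M
  have hle : IA = IB.comap (algebraMap A B) := by
    ext a; simp [IA, IB, Module.mem_annihilator]
  let : Algebra (A ⧸ IA) (B ⧸ IB) := (Ideal.quotientMap IB (algebraMap A B) hle.le).toAlgebra
  have : IsScalarTower A (A ⧸ IA) (B ⧸ IB) := IsScalarTower.of_algebraMap_eq fun a ↦ rfl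
  have : Algebra.IsIntegral A (B ⧸ IB) := ⟨fun x ↦ by
    obtain ⟨b, rfl⟩ := Ideal.Quotient.mk_surjective x
    obtain ⟨f, hf, hfb⟩ := LinearMap.exists_monic_and_aeval_eq_zero A (Algebra.lsmul A A M b)
    refine ⟨f, hf, ?_⟩
    rw [← Polynomial.aeval_def]
    refine (Polynomial.aeval_algHom_apply (Ideal.Quotient.mkₐ A IB) b f).trans ?_
    refine Ideal.Quotient.eq_zero_iff_mem.mpr (Module.mem_annihilator.mpr fun m ↦ ?_)
    rw [Polynomial.aeval_algHom_apply] at hfb
    exact LinearMap.congr_fun hfb m⟩
  have : Algebra.IsIntegral (A ⧸ IA) (B ⧸ IB) := Algebra.IsIntegral.tower_top A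
  refine DimLib.ringKrullDim_eq_of_isIntegral (R := A ⧸ IA) (S := B ⧸ IB) ?_
  exact Ideal.quotientMap_injective' hle.ge

end Groth.Agent.S5766
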