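import Groth.Statements.S5768
import Groth.Agent.EGA41Lib.SemiLocalSop
import Mathlib

set_option backward.isDefEq.respectTransparency.types false

set_option autoImplicit false
universe u
open EGA41

namespace Groth.Agent.S5768

/-- Let A be a semi-local Noetherian ring with Jacobson radical r, M a nonzero finitely generated
A-module and x_1, ..., x_k elements of r. One always has dim(M/(x_1 M + ... + x_k M)) ≥ dim(M) - k,
and equality holds if and only if there exist further elements of r which together with the x_i form
a system of parameters for M (dim(M) elements of r modulo which M has finite length). -/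
theorem result (A : Type u) [CommRing A]
    [IsNoetherianRing A] [Finite (MaximalSpectrum A)] (M : Type u) [AddCommGroup M] [Module A M]
    [Module.Finite A M] [Nontrivial M] (xs : List A) (hxs : ∀ x ∈ xs, x ∈ Ring.jacobson A) :
    Module.supportDim A (M ⧸ (Ideal.ofList xs • (⊤ : Submodule A M))) + xs.length = Module.supportDim A M ↔
      ∃ ys : List A, (∀ y ∈ ys, y ∈ Ring.jacobson A) ∧
        ((xs ++ ys).length : WithBot ℕ∞) = Module.supportDim A M ∧
        IsFiniteLength A (M ⧸ (Ideal.ofList (xs ++ ys) • (⊤ : Submodule A M))) := by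
  obtain ⟨d, hd⟩ := Groth.Agent.EGA41Lib.supportDim_eq_natCast_of_semilocal (A := A) M
  have hge := Groth.Agent.EGA41Lib.supportDim_le_quotient_ofList_of_mem_jacobson xs M hxs
  constructor
  · intro heq
    obtain ⟨e, he⟩ : ∃ e : ℕ, Module.supportDim A (M ⧸ (Ideal.ofList xs • (⊤ : Submodule A M))) = ((e : ℕ∞) : WithBot ℕ∞) := by
      rcases subsingleton_or_nontrivial (M ⧸ (Ideal.ofList xs • (⊤ : Submodule A M))) with hs | hs
      · rw [Module.supportDim_eq_bot_of_subsingleton, WithBot.bot_add, hd] at heq
        exact absurd heq.symm WithBot.coe_ne_bot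
      · exact Groth.Agent.EGA41Lib.supportDim_eq_natCast_of_semilocal _
    obtain ⟨ys, h1, h2, h3⟩ := Groth.Agent.EGA41Lib.exists_sop e _ he
    refine ⟨ys, h2, ?_, ?_⟩
    · rw [← heq, he, List.length_append, h1, Nat.cast_add, add_comm]; rfl
    · rw [Groth.Agent.EGA41Lib.isFiniteLength_iff_supportDim_le_zero, Groth.Agent.EGA41Lib.supportDim_quotient_append]
      exact h3
  · rintro ⟨ys, h2, hlen, hfl⟩
    refine le_antisymm ?_ hge
    rw [Groth.Agent.EGA41Lib.isFiniteLength_iff_supportDim_le_zero, Groth.Agent.EGA41Lib.supportDim_quotient_append] at hfl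
    have h1 := (Groth.Agent.EGA41Lib.supportDim_le_quotient_ofList_of_mem_jacobson ys
      (M ⧸ (Ideal.ofList xs • (⊤ : Submodule A M))) h2).trans (add_le_add hfl le_rfl)
    rw [zero_add] at h1
    rw [← hlen, List.length_append, Nat.cast_add, add_comm (xs.length : WithBot ℕ∞)]
    exact add_le_add h1 le_rfl

end Groth.Agent.S5768
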