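import Groth.Statements.S5770
import Groth.Agent.EGA41Lib.SupportDim
import Mathlib

set_option backward.isDefEq.respectTransparency.types false

set_option autoImplicit false
universe u
open EGA41

namespace Groth.Agent.S5770

open TensorProduct in
/-- Let φ : A → B be a local homomorphism of Noetherian local rings, m the maximal ideal of A, k = A/m,
M a finitely generated A-module and N a finitely generated B-module. Then dim_B(M ⊗_A N) ≤ dim_A(M)
+ dim(N ⊗_A k), the last dimension being that of N/mN (over B ⊗_A k or, equivalently by finiteness,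
over B). -/
theorem result (A B : Type u) [CommRing A] [CommRing B] [IsLocalRing A]
    [IsLocalRing B] [IsNoetherianRing A] [IsNoetherianRing B] [Algebra A B] [IsLocalHom (algebraMap A B)]
    (M : Type u) [AddCommGroup M] [Module A M] [Module.Finite A M] (N : Type u) [AddCommGroup N] [Module B N]
    [Module A N] [IsScalarTower A B N] [Module.Finite B N] :
    Module.supportDim B (N ⊗[A] M) ≤ Module.supportDim A M +
      Module.supportDim B (N ⧸ ((IsLocalRing.maximalIdeal A).map (algebraMap A B) • (⊤ : Submodule B N))) := by
  classical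
  rcases subsingleton_or_nontrivial (N ⊗[A] M) with hs | hs
  · rw [Module.supportDim_eq_bot_of_subsingleton]; exact bot_le
  have : Nontrivial M := by
    by_contra h
    rw [not_nontrivial_iff_subsingleton] at h
    exact not_subsingleton (N ⊗[A] M) inferInstance
  let I : Ideal A := Module.annihilator A M
  let J : Ideal B := Module.annihilator B N ⊔ I.map (algebraMap A B)
  have hJ : J ≤ Module.annihilator B (N ⊗[A] M) := by
    refine sup_le (fun b hb => Module.mem_annihilator.2 fun z => ?_) (Ideal.map_le_iff_le_comap.2 fun a ha => Module.mem_annihilator.2 fun z => ?_)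
    · induction z using TensorProduct.induction_on with
      | zero => simp
      | tmul x y => rw [TensorProduct.smul_tmul', Module.mem_annihilator.1 hb x, TensorProduct.zero_tmul]
      | add x y hx hy => rw [smul_add, hx, hy, add_zero]
    · rw [algebraMap_smul]
      induction z using TensorProduct.induction_on with
      | zero => simp
      | tmul x y => rw [← TensorProduct.tmul_smul, Module.mem_annihilator.1 ha y, TensorProduct.tmul_zero]
      | add x y hx hy => rw [smul_add, hx, hy, add_zero]
  have hI : I ≤ IsLocalRing.maximalIdeal A := IsLocalRing.le_maximalIdeal (by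
    rw [Ne, Module.annihilator_eq_top_iff]; exact not_subsingleton M)
  have hJm : J ≤ IsLocalRing.maximalIdeal B := IsLocalRing.le_maximalIdeal (fun h => by
    rw [h, top_le_iff, Module.annihilator_eq_top_iff] at hJ
    exact not_subsingleton (N ⊗[A] M) hJ)
  have h1 : Module.supportDim B (N ⊗[A] M) ≤ ringKrullDim (B ⧸ J) := by
    rw [Module.supportDim, ringKrullDim_quotient]
    refine Order.krullDim_le_of_strictMono (fun P => ⟨P.1, ?_⟩) (fun a b h => h)
    exact hJ.trans (Module.annihilator_le_of_mem_support P.2)
  refine h1.trans ?_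
  have : Nontrivial (A ⧸ I) := Ideal.Quotient.nontrivial_iff.2 (ne_top_of_le_ne_top (IsLocalRing.maximalIdeal.isMaximal A).ne_top hI)
  have : IsLocalRing (A ⧸ I) := .of_surjective' _ Ideal.Quotient.mk_surjective
  have : Nontrivial (B ⧸ J) := Ideal.Quotient.nontrivial_iff.2 (ne_top_of_le_ne_top (IsLocalRing.maximalIdeal.isMaximal B).ne_top hJm)
  have : IsLocalRing (B ⧸ J) := .of_surjective' _ Ideal.Quotient.mk_surjective
  let f : A ⧸ I →+* B ⧸ J := Ideal.quotientMap J (algebraMap A B) (Ideal.map_le_iff_le_comap.1 le_sup_right)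
  let _ : Algebra (A ⧸ I) (B ⧸ J) := f.toAlgebra
  have hmax : (IsLocalRing.maximalIdeal (A ⧸ I)) = (IsLocalRing.maximalIdeal A).map (Ideal.Quotient.mk I) :=
    (IsLocalRing.map_maximalIdeal_of_surjective _ Ideal.Quotient.mk_surjective).symm
  have hmap : (IsLocalRing.maximalIdeal (A ⧸ I)).map (algebraMap (A ⧸ I) (B ⧸ J)) =
      ((IsLocalRing.maximalIdeal A).map (algebraMap A B)).map (Ideal.Quotient.mk J) := by
    rw [hmax, Ideal.map_map, Ideal.map_map]; rfl
  have : IsLocalHom (algebraMap (A ⧸ I) (B ⧸ J)) := by
    refine ((IsLocalRing.local_hom_TFAE _).out 2 0).1 ?_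
    rw [hmap, ← IsLocalRing.map_maximalIdeal_of_surjective (Ideal.Quotient.mk J) Ideal.Quotient.mk_surjective]
    exact Ideal.map_mono (((IsLocalRing.local_hom_TFAE (algebraMap A B)).out 0 2).1 (inferInstance : IsLocalHom (algebraMap A B)))
  refine (Groth.Agent.EGA41Lib.ringKrullDim_le_add_fibre (A ⧸ I) (B ⧸ J)).trans ?_
  rw [hmap, Module.supportDim_eq_ringKrullDim_quotient_annihilator (R := A) (M := M)]
  refine add_le_add le_rfl ?_
  rw [ringKrullDim_eq_of_ringEquiv (DoubleQuot.quotQuotEquivQuotSup J _), Module.supportDim, ringKrullDim_quotient]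
  refine Order.krullDim_le_of_strictMono (fun P => ⟨P.1, ?_⟩) (fun a b h => h)
  rw [Module.support_quotient, Module.support_eq_zeroLocus]
  have hP : J ⊔ (IsLocalRing.maximalIdeal A).map (algebraMap A B) ≤ P.1.asIdeal := P.2
  exact ⟨(le_sup_left.trans le_sup_left).trans hP, le_sup_right.trans hP⟩

end Groth.Agent.S5770
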