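import Groth.Statements.S5771
import Groth.Agent.EGA41Lib.SupportDim
import Mathlib

set_option backward.isDefEq.respectTransparency.types false

set_option autoImplicit false
universe u
open EGA41

namespace Groth.Agent.S5771

/-- Let φ : A → B be a local homomorphism of Noetherian local rings, m the maximal ideal of A, and
suppose mB is an ideal of definition of B (equivalently dim(B/mB) = 0). Then dim(B) ≤ dim(A); if
moreover A is an integral domain and dim(A) = dim(B), then φ is injective. -/
theorem result (A B : Type u) [CommRing A] [CommRing B]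
    [IsLocalRing A] [IsLocalRing B] [IsNoetherianRing A] [IsNoetherianRing B] [Algebra A B]
    [IsLocalHom (algebraMap A B)]
    (hdef : ringKrullDim (B ⧸ (IsLocalRing.maximalIdeal A).map (algebraMap A B)) = 0) :
    ringKrullDim B ≤ ringKrullDim A ∧
      (IsDomain A → ringKrullDim A = ringKrullDim B → Function.Injective (algebraMap A B)) := by
  have h1 := Groth.Agent.EGA41Lib.ringKrullDim_le_add_fibre A B
  rw [hdef, add_zero] at h1
  refine ⟨h1, fun hA heq ↦ (injective_iff_map_eq_zero _).2 fun a ha ↦ ?_⟩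
  by_contra hne
  have hnu : ¬ IsUnit a := fun h ↦ not_isUnit_zero (M₀ := B) (ha ▸ h.map (algebraMap A B))
  let I := Ideal.span {a}
  haveI : Nontrivial (A ⧸ I) := Ideal.Quotient.nontrivial_iff.2 (by simpa [I, Ideal.span_singleton_eq_top] using hnu)
  haveI : IsLocalRing (A ⧸ I) := .of_surjective' _ Ideal.Quotient.mk_surjective
  have hI : ∀ x ∈ I, algebraMap A B x = 0 := fun x hx ↦ by
    obtain ⟨c, rfl⟩ := Ideal.mem_span_singleton'.1 hx
    rw [map_mul, ha, mul_zero]
  letI : Algebra (A ⧸ I) B := (Ideal.Quotient.lift I (algebraMap A B) hI).toAlgebra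
  haveI : IsLocalHom (algebraMap (A ⧸ I) B) := ⟨fun x hx ↦ by
    obtain ⟨x, rfl⟩ := Ideal.Quotient.mk_surjective x
    exact (isUnit_of_map_unit (algebraMap A B) x hx).map _⟩
  have h2 := Groth.Agent.EGA41Lib.ringKrullDim_le_add_fibre (A ⧸ I) B
  have hmap : (IsLocalRing.maximalIdeal (A ⧸ I)).map (algebraMap (A ⧸ I) B) =
      (IsLocalRing.maximalIdeal A).map (algebraMap A B) := by
    rw [← IsLocalRing.map_maximalIdeal_of_surjective (Ideal.Quotient.mk I) Ideal.Quotient.mk_surjective,
      Ideal.map_map]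
    rfl
  rw [hmap, hdef, add_zero] at h2
  have h3 := ringKrullDim_quotient_succ_le_of_nonZeroDivisor (mem_nonZeroDivisors_of_ne_zero hne)
  rw [heq] at h3
  have h4 : ringKrullDim (A ⧸ I) + 1 ≤ ringKrullDim (A ⧸ I) := h3.trans h2
  obtain ⟨n, hn⟩ : ∃ n : ℕ, ringKrullDim (A ⧸ I) = ((n : ℕ∞) : WithBot ℕ∞) := by
    refine ⟨(IsLocalRing.maximalIdeal (A ⧸ I)).height.toNat, ?_⟩
    rw [← IsLocalRing.maximalIdeal_height_eq_ringKrullDim, ENat.coe_toNat
      (Ideal.height_ne_top (IsLocalRing.maximalIdeal.isMaximal _).ne_top)]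
  rw [hn] at h4
  exact absurd h4 (not_le.2 (by exact_mod_cast Nat.lt_succ_self n))

end Groth.Agent.S5771
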