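import Groth.Statements.S5772
import Groth.Agent.EGA41Lib.RegularPow
import Mathlib

set_option backward.isDefEq.respectTransparency.types false

set_option autoImplicit false
universe u
open scoped Pointwise
open EGA41

namespace Groth.Agent.S5772

/-- Let A be a Noetherian ring, M a finitely generated A-module and f an element of A. Then f is
M-regular (multiplication by f on M is injective) if and only if f is M-quasi-regular, i.e. the
canonical surjection (M/fM)[T] → gr(M) for the (f)-adic filtration is bijective, which amounts to: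
for every k ≥ 0 and x ∈ M, f^k x ∈ f^(k+1) M implies x ∈ fM. -/
theorem result (A : Type u) [CommRing A] [IsNoetherianRing A] (M : Type u)
    [AddCommGroup M] [Module A M] [Module.Finite A M] (f : A) :
    IsSMulRegular M f ↔
      ∀ (k : ℕ) (x : M), f ^ k • x ∈ f ^ (k + 1) • (⊤ : Submodule A M) → x ∈ f • (⊤ : Submodule A M) := by
  constructor
  · intro hf k x hx
    obtain ⟨y, -, hy⟩ := (Submodule.mem_smul_pointwise_iff_exists _ _ _).1 hx
    rw [pow_succ, mul_smul] at hy
    rw [← (hf.pow k) hy]
    exact Submodule.smul_mem_pointwise_smul _ _ _ trivial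
  · intro h
    refine isSMulRegular_iff_right_eq_zero_of_smul.mpr fun x hx => ?_
    have key : ∀ k, x ∈ f ^ k • (⊤ : Submodule A M) := by
      intro k
      induction k with
      | zero => rw [pow_zero, one_smul]; trivial
      | succ k ih =>
        obtain ⟨y, -, rfl⟩ := (Submodule.mem_smul_pointwise_iff_exists _ _ _).1 ih
        rw [smul_smul, ← pow_succ'] at hx
        have hy := h (k + 1) y (by rw [hx]; exact Submodule.zero_mem _)
        obtain ⟨z, -, rfl⟩ := (Submodule.mem_smul_pointwise_iff_exists _ _ _).1 hy
        rw [smul_smul, ← pow_succ]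
        exact Submodule.smul_mem_pointwise_smul _ _ _ trivial
    have hmem : x ∈ (⨅ k : ℕ, Ideal.span {f} ^ k • (⊤ : Submodule A M)) :=
      (Submodule.mem_iInf _).2 fun k => by
        rw [Ideal.span_singleton_pow, Submodule.ideal_span_singleton_smul]; exact key k
    obtain ⟨⟨r, hr⟩, hrx⟩ := (Ideal.mem_iInf_smul_pow_eq_bot_iff _ x).1 hmem
    obtain ⟨a, rfl⟩ := Ideal.mem_span_singleton'.1 hr
    rw [← hrx, mul_smul, hx, smul_zero]

end Groth.Agent.S5772
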