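import Groth.Statements.S5775
import Groth.Agent.EGA41Lib.FlatRegular
import Mathlib

set_option backward.isDefEq.respectTransparency.types false

set_option autoImplicit false
universe u
open EGA41

namespace Groth.Agent.S5775

/-- Let A → B be a local homomorphism of Noetherian local rings, m the maximal ideal of A, M a finitely
generated B-module flat over A and R a B-submodule of M such that M/R is flat over A. Let f_1, ...,
f_n be elements of the maximal ideal of B such that (i) f_i M ⊆ R for all i, (ii) the images of the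
f_i form an (M/mM)-regular sequence, and (iii) the submodule f_1 (M/mM) + ... + f_n (M/mM) is the
image of R in M/mM. Then (f_i) is an M-regular sequence and R = f_1 M + ... + f_n M. -/
theorem result (A B : Type u) [CommRing A] [CommRing B] [IsLocalRing A]
    [IsLocalRing B] [IsNoetherianRing A] [IsNoetherianRing B] [Algebra A B] [IsLocalHom (algebraMap A B)]
    (M : Type u) [AddCommGroup M] [Module B M] [Module A M] [IsScalarTower A B M] [Module.Finite B M]
    [Module.Flat A M] (R : Submodule B M) (hR : Module.Flat A (M ⧸ R)) (fs : List B)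
    (hfs : ∀ f ∈ fs, f ∈ IsLocalRing.maximalIdeal B) (h1 : Ideal.ofList fs • (⊤ : Submodule B M) ≤ R)
    (h2 : RingTheory.Sequence.IsWeaklyRegular
      (M ⧸ ((IsLocalRing.maximalIdeal A).map (algebraMap A B) • (⊤ : Submodule B M))) fs)
    (h3 : Ideal.ofList fs • (⊤ : Submodule B
        (M ⧸ ((IsLocalRing.maximalIdeal A).map (algebraMap A B) • (⊤ : Submodule B M)))) =
      R.map ((IsLocalRing.maximalIdeal A).map (algebraMap A B) • (⊤ : Submodule B M)).mkQ) :
    RingTheory.Sequence.IsWeaklyRegular M fs ∧ R = Ideal.ofList fs • (⊤ : Submodule B M) := by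
  obtain ⟨hw, hflat⟩ := Groth.Agent.EGA41Lib.isWeaklyRegular_and_flat_of_fibre fs h2
  refine ⟨hw, le_antisymm ?_ h1⟩
  haveI : Module.Flat A (M ⧸ (Ideal.ofList fs • (⊤ : Submodule B M))) := by
    have := hflat fs.length le_rfl
    rwa [List.take_length] at this
  let P := Ideal.ofList fs • (⊤ : Submodule B M)
  let m := IsLocalRing.maximalIdeal A
  let u : (M ⧸ P) →ₗ[A] (M ⧸ R) := (Submodule.factor h1).restrictScalars A
  have key : ∀ x ∈ R, x ∈ m.map (algebraMap A B) • (⊤ : Submodule B M) ⊔ P := by
    intro x hx
    have : (m.map (algebraMap A B) • (⊤ : Submodule B M)).mkQ x ∈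
        Ideal.ofList fs • (⊤ : Submodule B (M ⧸ (m.map (algebraMap A B) • (⊤ : Submodule B M)))) := by
      rw [h3]; exact Submodule.mem_map_of_mem hx
    rw [← Submodule.range_mkQ (m.map (algebraMap A B) • (⊤ : Submodule B M)), ← Submodule.map_top,
      ← Submodule.map_smul''] at this
    rw [sup_comm]
    have := Submodule.mem_comap.2 this
    rwa [Submodule.comap_map_mkQ, sup_comm] at this
  have hu : Function.Injective (u.lTensor (IsLocalRing.ResidueField A)) := by
    rw [injective_iff_map_eq_zero]
    intro t ht
    obtain ⟨z, rfl⟩ := TensorProduct.mk_surjective A (M ⧸ P) (IsLocalRing.ResidueField A)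
      (Ideal.Quotient.mk_surjective (I := m)) t
    have hz : u z ∈ LinearMap.ker (TensorProduct.mk A (IsLocalRing.ResidueField A) (M ⧸ R) 1) := ht
    have hz' : z ∈ LinearMap.ker (TensorProduct.mk A (IsLocalRing.ResidueField A) (M ⧸ P) 1) := by
      erw [LinearMap.ker_tensorProductMk (Q := M ⧸ R) (I := m)] at hz
      erw [LinearMap.ker_tensorProductMk (Q := M ⧸ P) (I := m)]
      rw [← Groth.Agent.CommAlg6.mem_map_smul_top_iff (B := B)] at hz ⊢
      obtain ⟨x, rfl⟩ := Submodule.Quotient.mk_surjective _ z
      have hxR : x ∈ m.map (algebraMap A B) • (⊤ : Submodule B M) ⊔ R := by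
        have h4 : R.mkQ x ∈ m.map (algebraMap A B) • (⊤ : Submodule B (M ⧸ R)) := hz
        rw [← Submodule.range_mkQ R, ← Submodule.map_top, ← Submodule.map_smul''] at h4
        have := Submodule.mem_comap.2 h4
        rwa [Submodule.comap_map_mkQ, sup_comm] at this
      obtain ⟨a, ha, b, hb, rfl⟩ := Submodule.mem_sup.1 hxR
      obtain ⟨c, hc, d, hd, rfl⟩ := Submodule.mem_sup.1 (key b hb)
      change P.mkQ (a + (c + d)) ∈ _
      rw [map_add, map_add, show P.mkQ d = 0 from (Submodule.Quotient.mk_eq_zero _).2 hd, add_zero,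
        ← map_add]
      have := Submodule.mem_map_of_mem (f := P.mkQ) (add_mem ha hc)
      rwa [Submodule.map_smul'', Submodule.map_top, Submodule.range_mkQ] at this
    exact hz'
  have hinj := Groth.Agent.FlatCrit.injective_of_injective_mod_max u hu (S := B)
    ((IsLocalRing.map_maximalIdeal_le (algebraMap A B)).trans (IsLocalRing.maximalIdeal_le_jacobson _))
  intro x hx
  have : u (P.mkQ x) = u 0 := by
    rw [map_zero]; exact (Submodule.Quotient.mk_eq_zero _).2 hx
  exact (Submodule.Quotient.mk_eq_zero _).1 (hinj this)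

end Groth.Agent.S5775
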