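import Groth.Statements.S5778
import Groth.Agent.EGA41Lib.HilbertRegular
import Groth.Agent.S5802
import Groth.Agent.CAlgH3.RegularCore
import Mathlib

set_option backward.isDefEq.respectTransparency.types false

set_option autoImplicit false
universe u
open EGA41

namespace Groth.Agent.S5778

/-- Let A be a Noetherian local ring with maximal ideal m, residue field k, and let r be the dimension
of the k-vector space m/m². Then A is regular if and only if the canonical surjection of graded
k-algebras from the symmetric algebra of m/m² onto the associated graded ring of A for the m-adic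
filtration is bijective. Since that surjection is bijective exactly when source and target have the
same length in every degree, the condition is expressed here as: length_A(A/m^(s+1)) equals the
binomial coefficient C(s+r, r) for every s ≥ 0. -/
theorem result (A : Type u) [CommRing A] [IsLocalRing A]
    [IsNoetherianRing A] :
    IsRegularLocalRing A ↔
      ∀ s : ℕ, Module.length A (A ⧸ IsLocalRing.maximalIdeal A ^ (s + 1)) =
        ((s + Module.finrank (IsLocalRing.ResidueField A) (IsLocalRing.CotangentSpace A)).choose s : ℕ∞) := by
  classical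
  rw [← IsLocalRing.spanFinrank_maximalIdeal_eq_finrank_cotangentSpace]
  obtain ⟨s, hcard, hs⟩ := (IsNoetherian.noetherian (IsLocalRing.maximalIdeal A)).exists_span_finset_card_eq_spanFinrank
  rw [← hcard]
  let x : Fin s.card → A := fun i => (s.equivFin.symm i : A)
  have hrange : Set.range x = (s : Set A) := by
    ext a
    exact ⟨fun ⟨i, hi⟩ => hi ▸ (s.equivFin.symm i).2, fun ha => ⟨s.equivFin ⟨a, ha⟩, by simp [x]⟩⟩
  have hx : Ideal.span (Set.range x) = IsLocalRing.maximalIdeal A := by rw [hrange]; exact hs
  have hl : Ideal.ofList (List.ofFn x) = IsLocalRing.maximalIdeal A := by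
    rw [← hx, Ideal.ofList]; simp [List.mem_ofFn, Set.range]
  rw [← Groth.Agent.EGA41Lib.quasiRegular_iff_length x hx]
  constructor
  · intro hreg
    exact Groth.Agent.S5802.result A s.card x
      (Groth.Agent.CAlgH3.isRegular_of_ofList_eq_maximalIdeal (R := A) (List.ofFn x) hl (by rw [List.length_ofFn, hcard])).toIsWeaklyRegular
  · intro hq
    have hw := Groth.Agent.EGA41Lib.isWeaklyRegular_of_isQuasiRegular s.card A x
      (fun i m hm => (IsLocalRing.eq_maximalIdeal hm) ▸ (hx ▸ Ideal.subset_span ⟨i, rfl⟩)) hq
    apply IsRegularLocalRing.of_spanFinrank_maximalIdeal_le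
    rw [← hcard, ← Module.supportDim_self_eq_ringKrullDim]
    refine le_trans ?_ (Groth.Agent.CAlgH3.depth_le_supportDim (R := A) (M := A))
    show ((s.card : ℕ∞) : WithBot ℕ∞) ≤ _
    rw [WithBot.coe_le_coe, LocCoh.depth, LocCoh.idealDepth,
      if_neg (Groth.Agent.CAlgH3.maximal_smul_top_ne_top (R := A) (M := A))]
    refine le_iSup₂_of_le (List.ofFn x) ⟨hw, fun a ha => ?_⟩ (by rw [List.length_ofFn])
    rw [← hl]; exact Ideal.subset_span ha

end Groth.Agent.S5778
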