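import Groth.Statements.S5779
import Groth.Agent.EGA41Lib.CMParameters
import Groth.Agent.CAlgH3.RegularCore
import Mathlib

set_option backward.isDefEq.respectTransparency.types false

set_option autoImplicit false
universe u
open EGA41

namespace Groth.Agent.S5779

/-- Let A be a Noetherian local ring with maximal ideal m and residue field k, (x_i)_{1 ≤ i ≤ r}
elements of m and J = x_1 A + ... + x_r A. Then A is regular with the classes of the x_i in m/m²
linearly independent over k (equivalently: the x_i are part of a regular system of parameters) if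
and only if the x_i are part of a system of parameters of A (dim(A/J) = dim(A) - r) and A/J is
regular. When these conditions hold, J is a prime ideal. -/
theorem result (A : Type u) [CommRing A] [IsLocalRing A]
    [IsNoetherianRing A] (r : ℕ) (x : Fin r → IsLocalRing.maximalIdeal A) :
    ((IsRegularLocalRing A ∧
        LinearIndependent (IsLocalRing.ResidueField A)
          (fun i => (IsLocalRing.maximalIdeal A).toCotangent (x i))) ↔
      (ringKrullDim (A ⧸ Ideal.span (Set.range fun i => (x i : A))) + r = ringKrullDim A ∧
        IsRegularLocalRing (A ⧸ Ideal.span (Set.range fun i => (x i : A))))) ∧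
    (IsRegularLocalRing (A ⧸ Ideal.span (Set.range fun i => (x i : A))) →
      ringKrullDim (A ⧸ Ideal.span (Set.range fun i => (x i : A))) + r = ringKrullDim A →
        (Ideal.span (Set.range fun i => (x i : A))).IsPrime) := by
  classical
  let J := Ideal.span (Set.range fun i => (x i : A))
  have hJm : J ≤ IsLocalRing.maximalIdeal A := Ideal.span_le.2 (by rintro _ ⟨i, rfl⟩; exact (x i).2)
  have hsur := Ideal.Quotient.mk_surjective (I := J)
  have : Nontrivial (A ⧸ J) :=
    Ideal.Quotient.nontrivial_iff.2 (ne_top_of_le_ne_top (IsLocalRing.maximalIdeal.isMaximal A).ne_top hJm)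
  have : IsLocalRing (A ⧸ J) := .of_surjective' _ hsur
  have hmaxJ : IsLocalRing.maximalIdeal (A ⧸ J) = (IsLocalRing.maximalIdeal A).map (Ideal.Quotient.mk J) :=
    (IsLocalRing.map_maximalIdeal_of_surjective _ hsur).symm
  -- classes of `x` and `y` span the cotangent space as soon as they generate `m`
  have hspan : ∀ {e : ℕ} (y : Fin e → IsLocalRing.maximalIdeal A),
      IsLocalRing.maximalIdeal A ≤ J ⊔ Ideal.span (Set.range fun i => (y i : A)) →
      Submodule.span (IsLocalRing.ResidueField A)
        ((IsLocalRing.maximalIdeal A).toCotangent '' (Set.range x ∪ Set.range y)) = ⊤ := by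
    intro e y hy
    rw [IsLocalRing.CotangentSpace.span_image_eq_top_iff]
    apply Submodule.map_injective_of_injective (IsLocalRing.maximalIdeal A).injective_subtype
    rw [Submodule.map_span, Submodule.map_top, Submodule.range_subtype, Set.image_union, ← Set.range_comp,
      ← Set.range_comp]
    apply le_antisymm
    · rw [Submodule.span_le]
      rintro _ (⟨i, rfl⟩ | ⟨i, rfl⟩)
      exacts [(x i).2, (y i).2]
    · rw [Submodule.span_union]; exact hy
  have hdimle : ringKrullDim A ≤ ringKrullDim (A ⧸ J) + r := by
    have h1 := Groth.Agent.EGA41Lib.supportDim_le_quotient_ofList (R := A) (List.ofFn fun i => (x i : A)) A (by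
      intro a ha
      obtain ⟨i, rfl⟩ := List.mem_ofFn.1 ha
      exact (x i).2)
    rw [List.length_ofFn, Module.supportDim_self_eq_ringKrullDim,
      Module.supportDim_eq_of_equiv (Submodule.quotEquivOfEq _ J (by
        rw [smul_eq_mul, Ideal.mul_top, Ideal.ofList]
        simp [J, List.mem_ofFn, Set.range])), Module.supportDim_quotient_eq_ringKrullDim] at h1
    exact h1
  refine ⟨⟨?_, ?_⟩, ?_⟩
  · rintro ⟨hreg, hli⟩
    obtain ⟨W, hW⟩ := Submodule.exists_isCompl (Submodule.span (IsLocalRing.ResidueField A)
      (Set.range fun i => (IsLocalRing.maximalIdeal A).toCotangent (x i)))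
    let b := Module.finBasis (IsLocalRing.ResidueField A) W
    choose y hy using fun i => (IsLocalRing.maximalIdeal A).toCotangent_surjective (b i : IsLocalRing.CotangentSpace A)
    have htop : Submodule.span (IsLocalRing.ResidueField A)
        ((IsLocalRing.maximalIdeal A).toCotangent '' (Set.range x ∪ Set.range y)) = ⊤ := by
      rw [Set.image_union, Submodule.span_union, ← Set.range_comp, ← Set.range_comp, eq_top_iff, ← hW.sup_eq_top]
      refine sup_le le_sup_left (le_trans ?_ le_sup_right)
      intro w hw
      have : (⟨w, hw⟩ : W) ∈ Submodule.span (IsLocalRing.ResidueField A) (Set.range b) := b.span_eq ▸ Submodule.mem_top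
      have := Submodule.mem_map_of_mem (f := W.subtype) this
      rw [Submodule.map_span, ← Set.range_comp] at this
      rw [show (IsLocalRing.maximalIdeal A).toCotangent ∘ y = W.subtype ∘ b from funext hy]
      exact this
    have hgen := IsLocalRing.CotangentSpace.span_image_eq_top_iff.1 htop
    have hm : IsLocalRing.maximalIdeal A ≤ J ⊔ Ideal.span (Set.range fun i => (y i : A)) := by
      have := congrArg (Submodule.map (IsLocalRing.maximalIdeal A).subtype) hgen
      rw [Submodule.map_span, Submodule.map_top, Submodule.range_subtype, Set.image_union, ← Set.range_comp,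
        ← Set.range_comp, Submodule.span_union] at this
      exact this.ge
    let n := Module.finrank (IsLocalRing.ResidueField A) W
    have hcard : r + n = Module.finrank (IsLocalRing.ResidueField A) (IsLocalRing.CotangentSpace A) := by
      rw [← Submodule.finrank_add_eq_of_isCompl hW, finrank_span_eq_card hli, Fintype.card_fin]
    have hle : (IsLocalRing.maximalIdeal (A ⧸ J)).spanFinrank ≤ n := by
      have heq : IsLocalRing.maximalIdeal (A ⧸ J) = Ideal.span (Set.range fun i => Ideal.Quotient.mk J (y i)) := by
        refine le_antisymm ?_ (Ideal.span_le.2 ?_)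
        · rw [hmaxJ]
          refine (Ideal.map_mono hm).trans ?_
          rw [Ideal.map_sup, Ideal.map_quotient_self, bot_sup_eq, Ideal.map_span, ← Set.range_comp]
          exact le_rfl
        · rintro _ ⟨i, rfl⟩
          rw [hmaxJ]
          exact Ideal.mem_map_of_mem _ (y i).2
      rw [heq]
      refine (Submodule.spanFinrank_span_le_ncard_of_finite (Set.finite_range _)).trans ?_
      rw [← Nat.card_coe_set_eq]
      refine (Finite.card_range_le _).trans ?_
      simp [n]
    have hdA : ringKrullDim A = ((r + n : ℕ) : WithBot ℕ∞) := by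
      rw [hcard, ← (IsRegularLocalRing.iff_finrank_cotangentSpace A).1 hreg]
    have hub : ringKrullDim (A ⧸ J) ≤ (n : WithBot ℕ∞) :=
      ringKrullDim_le_spanFinrank_maximalIdeal (R := A ⧸ J) |>.trans (by exact_mod_cast hle)
    have heq : ringKrullDim (A ⧸ J) + r = ringKrullDim A := by
      refine le_antisymm ?_ hdimle
      rw [hdA, Nat.cast_add, add_comm (r : WithBot ℕ∞)]
      exact add_le_add hub le_rfl
    refine ⟨heq, IsRegularLocalRing.of_spanFinrank_maximalIdeal_le _ ?_⟩
    rw [hdA, Nat.cast_add, add_comm (r : WithBot ℕ∞)] at heq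
    rw [Groth.Agent.EGA41Lib.withBot_add_natCast_cancel r heq]
    exact_mod_cast hle
  · rintro ⟨hdim, hreg⟩
    obtain ⟨s, hcard, hs⟩ := (IsNoetherian.noetherian
      (IsLocalRing.maximalIdeal (A ⧸ J))).exists_span_finset_card_eq_spanFinrank
    replace hs : Ideal.span (↑s : Set (A ⧸ J)) = IsLocalRing.maximalIdeal (A ⧸ J) := hs
    have hpre : ∀ i : Fin s.card, ∃ y : IsLocalRing.maximalIdeal A, Ideal.Quotient.mk J y = (s.equivFin.symm i : A ⧸ J) := by
      intro i
      have : ((s.equivFin.symm i : A ⧸ J)) ∈ (IsLocalRing.maximalIdeal A).map (Ideal.Quotient.mk J) := by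
        rw [← hmaxJ, ← hs]; exact Ideal.subset_span (s.equivFin.symm i).2
      obtain ⟨a, ha, hae⟩ := (Ideal.mem_map_iff_of_surjective _ hsur).1 this
      exact ⟨⟨a, ha⟩, hae⟩
    choose y hy using hpre
    have hm : IsLocalRing.maximalIdeal A ≤ J ⊔ Ideal.span (Set.range fun i => (y i : A)) := by
      intro a ha
      have h1 : Ideal.Quotient.mk J a ∈ (Ideal.span (Set.range fun i => (y i : A))).map (Ideal.Quotient.mk J) := by
        have h2 : Ideal.Quotient.mk J a ∈ Ideal.span (↑s : Set (A ⧸ J)) := by
          rw [hs, hmaxJ]; exact Ideal.mem_map_of_mem _ ha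
        rw [Ideal.map_span, ← Set.range_comp]
        refine Ideal.span_mono ?_ h2
        intro z hz
        exact ⟨s.equivFin ⟨z, hz⟩, by simp [hy]⟩
      have h3 : a ∈ ((Ideal.span (Set.range fun i => (y i : A))).map (Ideal.Quotient.mk J)).comap (Ideal.Quotient.mk J) := h1
      rw [Ideal.comap_map_of_surjective _ hsur, ← RingHom.ker_eq_comap_bot, Ideal.mk_ker, sup_comm] at h3
      exact h3
    have htop := hspan y hm
    let g : Fin r ⊕ Fin s.card → IsLocalRing.CotangentSpace A := fun i =>
      (IsLocalRing.maximalIdeal A).toCotangent (Sum.elim x y i)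
    have hg : ⊤ ≤ Submodule.span (IsLocalRing.ResidueField A) (Set.range g) := by
      rw [← htop, show g = (IsLocalRing.maximalIdeal A).toCotangent ∘ Sum.elim x y from rfl, Set.range_comp, Set.Sum.elim_range]
    have hfin : Module.finrank (IsLocalRing.ResidueField A) (IsLocalRing.CotangentSpace A) ≤ r + s.card := by
      have := finrank_range_le_card (R := IsLocalRing.ResidueField A) g
      rw [Set.finrank, top_le_iff.1 hg, finrank_top] at this
      simpa using this
    have hdA : ringKrullDim A = ((r + s.card : ℕ) : WithBot ℕ∞) := by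
      rw [← hdim, ← IsRegularLocalRing.spanFinrank_maximalIdeal (R := A ⧸ J), ← hcard, Nat.cast_add, add_comm]
    have hA : IsRegularLocalRing A := by
      apply IsRegularLocalRing.of_spanFinrank_maximalIdeal_le
      rw [IsLocalRing.spanFinrank_maximalIdeal_eq_finrank_cotangentSpace, hdA]
      exact_mod_cast hfin
    refine ⟨hA, ?_⟩
    have heq : Fintype.card (Fin r ⊕ Fin s.card) =
        Module.finrank (IsLocalRing.ResidueField A) (IsLocalRing.CotangentSpace A) := by
      have h := (IsRegularLocalRing.iff_finrank_cotangentSpace A).1 hA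
      rw [hdA] at h
      have h' : Module.finrank (IsLocalRing.ResidueField A) (IsLocalRing.CotangentSpace A) = r + s.card := by exact_mod_cast h
      simp [h']
    exact (linearIndependent_of_top_le_span_of_card_eq_finrank hg heq).comp Sum.inl Sum.inl_injective
  · intro hreg _
    have := Groth.Agent.CAlgH3.isDomain_of_isRegularLocalRing (A ⧸ J)
    exact (Ideal.Quotient.isDomain_iff_prime J).1 this

end Groth.Agent.S5779
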