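import Groth.Statements.S5780
import Mathlib

set_option backward.isDefEq.respectTransparency.types false

set_option autoImplicit false
universe u
open EGA41

namespace Groth.Agent.S5780

/-- Let A be a Noetherian local ring with maximal ideal m. If every element of m which is not in m² is a
zero divisor in A, then there is a nonzero c in A with c m = 0, i.e. m is an associated prime of A. -/
theorem result (A : Type u) [CommRing A]
    [IsLocalRing A] [IsNoetherianRing A]
    (h : ∀ a ∈ IsLocalRing.maximalIdeal A, a ∉ IsLocalRing.maximalIdeal A ^ 2 → ¬ IsSMulRegular A a) :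
    IsLocalRing.maximalIdeal A ∈ associatedPrimes A A := by
  classical
  by_contra hnot
  have hle : (IsLocalRing.maximalIdeal A : Set A) ⊆
      ((IsLocalRing.maximalIdeal A ^ 2 : Ideal A) : Set A) ∪ ⋃ q ∈ associatedPrimes A A, (q : Set A) := by
    intro a ha
    by_cases ha2 : a ∈ IsLocalRing.maximalIdeal A ^ 2
    · exact Or.inl ha2
    · right
      have hz := h a ha ha2
      rw [isSMulRegular_iff_right_eq_zero_of_smul] at hz
      push Not at hz
      obtain ⟨m, hm1, hm2⟩ := hz
      rw [biUnion_associatedPrimes_eq_zero_divisors]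
      exact ⟨m, hm2, hm1⟩
  let s : Finset (Option (Ideal A)) := insert none ((associatedPrimes.finite A A).toFinset.image some)
  let f : Option (Ideal A) → Ideal A := fun o => o.elim (IsLocalRing.maximalIdeal A ^ 2) id
  have hle' : (IsLocalRing.maximalIdeal A : Set A) ⊆ ⋃ o ∈ (↑s : Set (Option (Ideal A))), f o := by
    intro a ha
    rcases hle ha with h2 | h2
    · exact Set.mem_biUnion (x := none) (by simp [s]) h2
    · obtain ⟨q, hq, haq⟩ := Set.mem_iUnion₂.1 h2
      exact Set.mem_biUnion (x := some q) (by simp [s, hq]) haq
  obtain ⟨o, ho, hmo⟩ := (Ideal.subset_union_prime none none (fun o ho h1 _ => by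
    cases o with
    | none => exact absurd rfl h1
    | some q =>
      simp [s] at ho
      exact IsAssociatedPrime.isPrime ho)).1 hle'
  cases o with
  | none =>
    have hbot : IsLocalRing.maximalIdeal A = ⊥ := by
      refine Submodule.eq_bot_of_le_smul_of_le_jacobson_bot (IsLocalRing.maximalIdeal A) _ (IsNoetherian.noetherian _) ?_ ?_
      · simpa [f, pow_two] using hmo
      · rw [IsLocalRing.jacobson_eq_maximalIdeal ⊥ bot_ne_top]
    obtain ⟨q, hq⟩ := associatedPrimes.nonempty A A
    have hqm : q = IsLocalRing.maximalIdeal A :=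
      le_antisymm (IsLocalRing.le_maximalIdeal (IsAssociatedPrime.isPrime hq).ne_top) (hbot ▸ bot_le)
    exact hnot (hqm ▸ hq)
  | some q =>
    simp [s] at ho
    have hqm : q = IsLocalRing.maximalIdeal A :=
      le_antisymm (IsLocalRing.le_maximalIdeal (IsAssociatedPrime.isPrime ho).ne_top) hmo
    exact hnot (hqm ▸ ho)

end Groth.Agent.S5780
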