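import Groth.Statements.S5781
import Mathlib

set_option backward.isDefEq.respectTransparency.types false

set_option autoImplicit false
universe u
open EGA41

namespace Groth.Agent.S5781

/-- Suppose A is a Noetherian local ring whose maximal ideal is m, and take a ∈ m with a ∉ m². Then the
quotient m/am contains a direct summand isomorphic to m/Aa: concretely, one can find A-linear maps f
: m/Aa → m/am and g : m/am → m/Aa such that g ∘ f is the identity. -/
theorem result (A : Type u) [CommRing A] [IsLocalRing A]
    [IsNoetherianRing A] (a : A) (ha : a ∈ IsLocalRing.maximalIdeal A) (ha2 : a ∉ IsLocalRing.maximalIdeal A ^ 2) :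
    ∃ (f : (↥(IsLocalRing.maximalIdeal A) ⧸ Submodule.span A {(⟨a, ha⟩ : ↥(IsLocalRing.maximalIdeal A))}) →ₗ[A]
          QuotSMulTop a ↥(IsLocalRing.maximalIdeal A))
      (g : QuotSMulTop a ↥(IsLocalRing.maximalIdeal A) →ₗ[A]
          (↥(IsLocalRing.maximalIdeal A) ⧸ Submodule.span A {(⟨a, ha⟩ : ↥(IsLocalRing.maximalIdeal A))})),
      g.comp f = LinearMap.id := by
  let m := IsLocalRing.maximalIdeal A
  let v : IsLocalRing.CotangentSpace A := m.toCotangent ⟨a, ha⟩
  have hv : v ≠ 0 := fun h => ha2 (Ideal.toCotangent_eq_zero m ⟨a, ha⟩ |>.1 h)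
  obtain ⟨W, hW⟩ := Submodule.exists_isCompl (Submodule.span (IsLocalRing.ResidueField A) {v})
  let I : Submodule A m := (W.restrictScalars A).comap m.toCotangent
  let a' : m := ⟨a, ha⟩
  let g : QuotSMulTop a m →ₗ[A] (m ⧸ Submodule.span A {a'}) :=
    Submodule.liftQ _ (Submodule.span A {a'}).mkQ (by
      intro z hz
      open Pointwise in
        rw [Submodule.mem_smul_pointwise_iff_exists] at hz
      obtain ⟨y, -, rfl⟩ := hz
      rw [LinearMap.mem_ker, Submodule.mkQ_apply, Submodule.Quotient.mk_eq_zero, Submodule.mem_span_singleton]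
      exact ⟨y, Subtype.ext (mul_comm _ _)⟩)
  let P : Submodule A (QuotSMulTop a m) := I.map (Submodule.mkQ _)
  have hbij : Function.Bijective (g.domRestrict P) := by
    refine ⟨(injective_iff_map_eq_zero _).2 fun z hz => ?_, fun y => ?_⟩
    · obtain ⟨_, i, hi, rfl⟩ := z
      have hz' : Submodule.Quotient.mk i = (0 : m ⧸ Submodule.span A {a'}) := hz
      obtain ⟨c, hc⟩ := Submodule.mem_span_singleton.1 ((Submodule.Quotient.mk_eq_zero _).1 hz')
      have hcm : c ∈ m := by
        by_contra hcm
        obtain ⟨u, hu⟩ := not_not.1 (fun h => hcm ((IsLocalRing.mem_maximalIdeal c).2 h))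
        have : m.toCotangent a' ∈ W := by
          have h1 : m.toCotangent i ∈ W := hi
          rw [← hc, map_smul, ← hu] at h1
          have h2 := W.smul_mem (algebraMap A (IsLocalRing.ResidueField A) (↑u⁻¹ : A)) h1
          rwa [algebraMap_smul, smul_smul, Units.inv_mul, one_smul] at h2
        exact hv (Submodule.disjoint_def.1 hW.disjoint v (Submodule.mem_span_singleton_self v) this)
      refine Subtype.ext ((Submodule.Quotient.mk_eq_zero _).2 ?_)
      open Pointwise in
        rw [Submodule.mem_smul_pointwise_iff_exists]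
      exact ⟨⟨c, hcm⟩, trivial, by rw [← hc]; exact Subtype.ext (mul_comm _ _)⟩
    · obtain ⟨z, rfl⟩ := Submodule.Quotient.mk_surjective _ y
      have : m.toCotangent z ∈ Submodule.span (IsLocalRing.ResidueField A) {v} ⊔ W := by
        rw [hW.sup_eq_top]; trivial
      obtain ⟨p, hp, w, hw, hpw⟩ := Submodule.mem_sup.1 this
      obtain ⟨c, rfl⟩ := Submodule.mem_span_singleton.1 hp
      obtain ⟨c, rfl⟩ := IsLocalRing.residue_surjective c
      have hi : z - c • a' ∈ I := by
        show m.toCotangent (z - c • a') ∈ W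
        have : m.toCotangent (z - c • a') = w := by
          rw [map_sub, map_smul, ← hpw]
          show IsLocalRing.residue A c • v + w - c • v = w
          rw [← IsLocalRing.ResidueField.algebraMap_eq, algebraMap_smul, add_sub_cancel_left]
        rw [this]; exact hw
      refine ⟨⟨_, z - c • a', hi, rfl⟩, ?_⟩
      show Submodule.Quotient.mk (z - c • a') = Submodule.Quotient.mk z
      rw [Submodule.Quotient.eq, Submodule.mem_span_singleton]
      exact ⟨-c, by rw [neg_smul]; abel⟩
  let e := LinearEquiv.ofBijective _ hbij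
  refine ⟨P.subtype ∘ₗ e.symm.toLinearMap, g, ?_⟩
  exact LinearMap.ext fun y => e.apply_symm_apply y

end Groth.Agent.S5781
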