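import Groth.Statements.S5782
import Groth.Agent.CAlgH3.RegularHom
import Groth.Agent.CAlgH3.ProjDim
import Mathlib

set_option backward.isDefEq.respectTransparency.types false

set_option autoImplicit false
universe u
open CategoryTheory
open EGA41

namespace Groth.Agent.S5782

/-- Let A be a Noetherian local ring with maximal ideal m, E a finitely generated A-module of finite
projective dimension, and a ∈ m an element which is A-regular and E-regular. Then E/aE, as a module
over A/aA, has finite projective dimension at most the projective dimension of E over A. -/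
theorem result (A : Type u) [CommRing A] [IsLocalRing A]
    [IsNoetherianRing A] (E : Type u) [AddCommGroup E] [Module A E] [Module.Finite A E]
    (hfin : projectiveDimension (ModuleCat.of A E) ≠ ⊤) (a : A) (ha : a ∈ IsLocalRing.maximalIdeal A)
    (hA : IsSMulRegular A a) (hE : IsSMulRegular E a) :
    projectiveDimension (ModuleCat.of (A ⧸ Ideal.span {a}) (E ⧸ (Ideal.span {a} • (⊤ : Submodule A E)))) ≤
      projectiveDimension (ModuleCat.of A E) := by
  let R' := A ⧸ Ideal.span {a}
  let e : TensorProduct A R' E ≃ₗ[A] E ⧸ (Ideal.span {a} • (⊤ : Submodule A E)) :=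
    TensorProduct.quotTensorEquivQuotSMul E (Ideal.span {a})
  let e' : TensorProduct A R' E ≃ₗ[R'] E ⧸ (Ideal.span {a} • (⊤ : Submodule A E)) :=
    { e with
      map_smul' := fun r z => by
        obtain ⟨c, rfl⟩ := Ideal.Quotient.mk_surjective r
        exact e.map_smul c z }
  generalize hx : projectiveDimension (ModuleCat.of A E) = x at hfin ⊢
  induction x using WithBot.recBotCoe with
  | bot =>
    rw [projectiveDimension_eq_bot_iff, ModuleCat.isZero_iff_subsingleton] at hx
    have := hx
    rw [le_bot_iff, projectiveDimension_eq_bot_iff, ModuleCat.isZero_iff_subsingleton]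
    exact inferInstanceAs (Subsingleton (E ⧸ (Ideal.span {a} • (⊤ : Submodule A E))))
  | coe x =>
    induction x using ENat.recTopCoe with
    | top => exact absurd rfl hfin
    | coe m =>
      have h := (projectiveDimension_le_iff (ModuleCat.of A E) m).1 hx.le
      exact (projectiveDimension_le_iff _ m).2
        ((Groth.Agent.CAlgH3.pd_congr e').1 (Groth.Agent.CAlgH3.pd_baseChange_quotient hA m E hE h))

end Groth.Agent.S5782
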