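import Groth.Statements.S5783
import Groth.Agent.CAlgH3.ProjDim
import Groth.Agent.CAlgH3.RegularCore
import Groth.Agent.DimLib.Algebra
import Groth.Agent.S5756
import Mathlib

set_option backward.isDefEq.respectTransparency.types false

set_option autoImplicit false
universe u
open EGA41

namespace Groth.Agent.S5783

/-- Let A be a regular local ring, B a local ring and ρ : A → B a local homomorphism making B a finitely
generated A-module. Then B is a free A-module if and only if B is a Cohen-Macaulay ring and ρ is
injective (the latter being equivalent to dim(B) = dim(A)). -/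
theorem result (A B : Type u) [CommRing A] [CommRing B]
    [IsRegularLocalRing A] [IsLocalRing B] [Algebra A B] [IsLocalHom (algebraMap A B)] [Module.Finite A B] :
    Module.Free A B ↔ LocCoh.IsCohenMacaulayLocalRing B ∧ Function.Injective (algebraMap A B) := by
  have : IsNoetherianRing B := IsNoetherianRing.of_finite A B
  have hdep : LocCoh.depth A B = LocCoh.depth B B := Groth.Agent.S5756.result A B B
  have hdim : Function.Injective (algebraMap A B) → ringKrullDim A = ringKrullDim B :=
    Groth.Agent.DimLib.ringKrullDim_eq_of_isIntegral
  constructor
  · intro hfree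
    have hinj : Function.Injective (algebraMap A B) := by
      have : Module.FaithfullyFlat A B := inferInstance
      exact FaithfulSMul.algebraMap_injective A B
    refine ⟨{ supportDim_eq_depth := ?_ }, hinj⟩
    rw [← hdep, Groth.Agent.CAlgH3.depth_free (R := A) B, Groth.Agent.CAlgH3.depth_eq_ringKrullDim, hdim hinj,
      Module.supportDim_self_eq_ringKrullDim]
  · rintro ⟨hcm, hinj⟩
    refine Groth.Agent.CAlgH3.free_of_le_depth _ A rfl B ?_
    have h1 := hcm.supportDim_eq_depth
    rw [Module.supportDim_self_eq_ringKrullDim, ← hdim hinj, ← hdep, ← IsRegularLocalRing.spanFinrank_maximalIdeal] at h1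
    exact (WithBot.coe_le_coe.1 h1.le)

end Groth.Agent.S5783
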