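import Groth.Statements.S5787
import Groth.Agent.LocCoh.Depth
import Mathlib

set_option backward.isDefEq.respectTransparency.types false

set_option autoImplicit false
universe u
open CategoryTheory
open EGA41

namespace Groth.Agent.S5787

/-- Let A be a Noetherian local ring with maximal ideal m and residue field k, M an A-module and
(x_i)_{1 ≤ i ≤ n} an M-regular sequence of elements of m. Then Hom_A(k, M/(x_1 M + ... + x_n M)) and
Ext^n_A(k, M) are isomorphic (existence of an isomorphism; stated for the underlying abelian
groups). -/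
theorem result (A : Type u) [CommRing A] [IsLocalRing A]
    [IsNoetherianRing A] (M : Type u) [AddCommGroup M] [Module A M] (xs : List A)
    (hxs : ∀ x ∈ xs, x ∈ IsLocalRing.maximalIdeal A) (hreg : RingTheory.Sequence.IsWeaklyRegular M xs) :
    Nonempty ((IsLocalRing.ResidueField A →ₗ[A] (M ⧸ (Ideal.ofList xs • (⊤ : Submodule A M)))) ≃+
      Abelian.Ext (ModuleCat.of A (IsLocalRing.ResidueField A)) (ModuleCat.of A M) xs.length) := by
  have hk : ∀ x ∈ IsLocalRing.maximalIdeal A, ∀ q : IsLocalRing.ResidueField A, x • q = 0 := by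
    intro x hx q
    rw [Algebra.smul_def, IsLocalRing.ResidueField.algebraMap_eq, (IsLocalRing.residue_eq_zero_iff x).2 hx, zero_mul]
  let k := ModuleCat.of A (IsLocalRing.ResidueField A)
  have main : ∀ (xs : List A) (M : Type u) [AddCommGroup M] [Module A M],
      (∀ x ∈ xs, x ∈ IsLocalRing.maximalIdeal A) → RingTheory.Sequence.IsWeaklyRegular M xs →
      (∀ i < xs.length, Subsingleton (Abelian.Ext k (ModuleCat.of A M) i)) ∧
      Nonempty ((IsLocalRing.ResidueField A →ₗ[A] (M ⧸ (Ideal.ofList xs • (⊤ : Submodule A M)))) ≃+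
        Abelian.Ext k (ModuleCat.of A M) xs.length) := by
    intro xs
    induction xs with
    | nil =>
      intro M _ _ _ _
      refine ⟨fun i hi => absurd hi (Nat.not_lt_zero i), ⟨?_⟩⟩
      let e : (M ⧸ (Ideal.ofList ([] : List A) • (⊤ : Submodule A M))) ≃ₗ[A] M :=
        Submodule.quotEquivOfEqBot _ (by rw [Ideal.ofList_nil, Submodule.bot_smul])
      exact (LinearEquiv.congrRight e).toAddEquiv.trans
        (ModuleCat.homAddEquiv (M := k) (N := ModuleCat.of A M)).symm |>.trans Abelian.Ext.addEquiv₀.symm
    | cons x xs ih =>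
      intro M _ _ hmem hreg
      rw [RingTheory.Sequence.isWeaklyRegular_cons_iff] at hreg
      obtain ⟨hx, hxs⟩ := hreg
      obtain ⟨hvan, ⟨eq⟩⟩ := ih (QuotSMulTop x M) (fun y hy => hmem y (by simp [hy])) hxs
      have hxm := hmem x (by simp)
      have hS : (ModuleCat.smulShortComplex (ModuleCat.of A M) x).ShortExact :=
        IsSMulRegular.smulShortComplex_shortExact (M := ModuleCat.of A M) hx
      have hzero : ∀ (j : ℕ) (e : Abelian.Ext k (ModuleCat.of A M) j), x • e = 0 := fun j e =>
        Groth.Agent.LocCoh.ext_smul_eq_zero_left (hk x hxm) e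
      have hlt : ∀ i < (x :: xs).length, Subsingleton (Abelian.Ext k (ModuleCat.of A M) i) := by
        intro i hi
        rcases i with - | i
        · have := IsSMulRegular.linearMap_subsingleton_of_mem_annihilator (N := IsLocalRing.ResidueField A) hx
            (Module.mem_annihilator.2 (hk x hxm))
          exact (Abelian.Ext.addEquiv₀.trans (ModuleCat.homAddEquiv (M := k) (N := ModuleCat.of A M))).subsingleton
        · refine subsingleton_of_forall_eq 0 fun e => ?_
          exact Groth.Agent.LocCoh.ext_smul_injective (N := IsLocalRing.ResidueField A) hx i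
            (hvan i (by simpa using hi)) e (hzero _ e)
      refine ⟨hlt, ⟨?_⟩⟩
      let δ : Abelian.Ext k (ModuleCat.of A (QuotSMulTop x M)) xs.length →+
          Abelian.Ext k (ModuleCat.of A M) (xs.length + 1) :=
        hS.extClass.postcomp k rfl
      have hδ : Function.Bijective δ := by
        refine ⟨(injective_iff_map_eq_zero δ).2 fun z hz => ?_, fun e => ?_⟩
        · obtain ⟨y, hy⟩ := Abelian.Ext.covariant_sequence_exact₃ k hS z rfl hz
          rw [← hy, @Subsingleton.elim _ (hlt xs.length (by simp)) y 0]
          apply Abelian.Ext.zero_comp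
        · exact Abelian.Ext.covariant_sequence_exact₁ k hS e
            ((congrArg (fun φ : ModuleCat.of A M ⟶ ModuleCat.of A M => e.comp (Abelian.Ext.mk₀ φ) (add_zero _))
              (ModuleCat.smulShortComplex_f_eq_smul_id (M := ModuleCat.of A M) x)).trans
              ((Abelian.Ext.smul_eq_comp_mk₀ e x).symm.trans (hzero _ e))) rfl
      exact ((LinearEquiv.congrRight (Submodule.quotOfListConsSMulTopEquivQuotSMulTopInner M x xs)).toAddEquiv.trans eq).trans
        (AddEquiv.ofBijective δ hδ)
  exact (main xs M hxs hreg).2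

end Groth.Agent.S5787
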