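import Groth.Statements.S5789
import Groth.Agent.EGA41Lib.ExtPd
import Mathlib

set_option backward.isDefEq.respectTransparency.types false

set_option autoImplicit false
universe u
open CategoryTheory
open EGA41

namespace Groth.Agent.S5789

/-- Let A be a Noetherian ring, M a finitely generated A-module and n ≥ 0. Then M has projective
dimension at most n if and only if Ext^(n+1)_A(M, N) = 0 for every monogenous A-module N, i.e. every
N = A/I with I an ideal. -/
theorem result (A : Type u) [CommRing A] [IsNoetherianRing A]
    (M : Type u) [AddCommGroup M] [Module A M] [Module.Finite A M] (n : ℕ) :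
    HasProjectiveDimensionLT (ModuleCat.of A M) (n + 1) ↔
      ∀ I : Ideal A, Subsingleton (Abelian.Ext (ModuleCat.of A M) (ModuleCat.of A (A ⧸ I)) (n + 1)) := by
  constructor
  · intro h I
    exact HasProjectiveDimensionLT.subsingleton (ModuleCat.of A M) (n + 1) _ le_rfl _
  · intro h
    have hall : ∀ (N : Type u) [AddCommGroup N] [Module A N] [Module.Finite A N],
        Subsingleton (Abelian.Ext (ModuleCat.of A M) (ModuleCat.of A N) (n + 1)) := by
      intro N _ _ _
      induction (inferInstance : Module.Finite A N) using IsNoetherianRing.induction_on_isQuotientEquivQuotientPrime A with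
      | subsingleton N =>
        refine subsingleton_of_forall_eq 0 fun e => ?_
        have hz : Limits.IsZero (ModuleCat.of A N) := ModuleCat.isZero_iff_subsingleton.2 inferInstance
        rw [← Abelian.Ext.comp_mk₀_id e, hz.eq_of_src (𝟙 (ModuleCat.of A N)) 0, Abelian.Ext.mk₀_zero, Abelian.Ext.comp_zero]
      | quotient N p e =>
        have := h p.asIdeal
        refine subsingleton_of_forall_eq 0 fun z => ?_
        rw [← Abelian.Ext.comp_mk₀_id z, ← e.toModuleIso.hom_inv_id, ← Abelian.Ext.mk₀_comp_mk₀,
          ← Abelian.Ext.comp_assoc_of_second_deg_zero, @Subsingleton.elim _ this (z.comp _ _) 0, Abelian.Ext.zero_comp]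
      | exact N1 N2 N3 f g hf hg hfg h1 h3 =>
        refine subsingleton_of_forall_eq 0 fun e => ?_
        have hS := Groth.Agent.LocCoh.shortExact_of hf hg hfg
        obtain ⟨y, hy⟩ := Abelian.Ext.covariant_sequence_exact₂ (ModuleCat.of A M) hS e (@Subsingleton.elim _ h3 _ _)
        rw [← hy, @Subsingleton.elim _ h1 y 0, Abelian.Ext.zero_comp]
    exact Groth.Agent.EGA41Lib.pd_of_ext_finite n M hall

end Groth.Agent.S5789
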