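import Groth.Prelude.Def_Flat
import Mathlib.Topology.KrullDimension
import Mathlib.Topology.NoetherianSpace
import Mathlib.Topology.Semicontinuity.Basic
import Groth.Agent.TopDim.Basic

set_option autoImplicit false
universe u
namespace TopDim
end TopDim
open TopDim

namespace Groth.Agent.S5792

/-- For every topological space X one has dim(X) = sup_{x ∈ X} dim_x(X), the supremum of the local
combinatorial dimensions. -/
theorem result (X : Type u) [TopologicalSpace X] :
    topologicalKrullDim X = ⨆ x : X, FlatMor.localDim X x := by
  refine le_antisymm (Groth.Agent.TopDim.dim_le_iff.2 fun l => ?_) (iSup_le Groth.Agent.TopDim.localDim_le_dim)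
  obtain ⟨x, hx⟩ := l.head.isIrreducible.nonempty
  exact (Groth.Agent.TopDim.le_localDim_of_mem l hx).trans (le_iSup (fun x => FlatMor.localDim X x) x)

end Groth.Agent.S5792
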