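import Groth.Prelude.Def_Flat
import Mathlib.Topology.KrullDimension
import Mathlib.Topology.NoetherianSpace
import Mathlib.Topology.Semicontinuity.Basic
import Groth.Agent.TopDim.Basic

set_option autoImplicit false
universe u
namespace TopDim
end TopDim
open TopDim

namespace Groth.Agent.S5793

/-- Let X be a Noetherian Kolmogoroff space. Then dim(X) = sup dim_x(X), the supremum being over the
closed points x of X only. -/
theorem result (X : Type u) [TopologicalSpace X]
    [TopologicalSpace.NoetherianSpace X] [T0Space X] :
    topologicalKrullDim X = ⨆ x ∈ {x : X | IsClosed ({x} : Set X)}, FlatMor.localDim X x := by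
  refine le_antisymm (Groth.Agent.TopDim.dim_le_iff.2 fun l => ?_) (iSup₂_le fun x _ => Groth.Agent.TopDim.localDim_le_dim x)
  obtain ⟨x, hx, hcl⟩ := IsClosed.exists_closed_singleton l.head.isClosed l.head.isIrreducible.nonempty
  exact (Groth.Agent.TopDim.le_localDim_of_mem l hx).trans
    (le_iSup₂ (f := fun x (_ : x ∈ {x : X | IsClosed ({x} : Set X)}) => FlatMor.localDim X x) x hcl)

end Groth.Agent.S5793
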