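import Groth.Prelude.Def_Flat
import Mathlib.Topology.KrullDimension
import Mathlib.Topology.NoetherianSpace
import Mathlib.Topology.Semicontinuity.Basic
import Groth.Agent.TopDim.Basic

set_option autoImplicit false
universe u
namespace TopDim
end TopDim
open TopDim

namespace Groth.Agent.S5794

/-- Let X be a nonempty Noetherian Kolmogoroff space. Then dim(X) = 0 if and only if X is finite and
discrete. -/
theorem result (X : Type u) [TopologicalSpace X]
    [TopologicalSpace.NoetherianSpace X] [T0Space X] [Nonempty X] :
    topologicalKrullDim X = 0 ↔ Finite X ∧ DiscreteTopology X := by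
  refine ⟨fun h => Groth.Agent.TopDim.finite_discrete_of_dim_le_zero h.le, fun h => ?_⟩
  obtain ⟨-, hd⟩ := h
  exact le_antisymm (topologicalKrullDim_zero_of_discreteTopology X) Groth.Agent.TopDim.dim_nonneg

end Groth.Agent.S5794
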