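import Groth.Prelude.Def_Flat
import Mathlib.Topology.KrullDimension
import Mathlib.Topology.NoetherianSpace
import Mathlib.Topology.Semicontinuity.Basic
import Groth.Agent.TopDim.Basic

set_option autoImplicit false
universe u
namespace TopDim
end TopDim
open TopDim

namespace Groth.Agent.S5795

/-- Let X be a Noetherian Kolmogoroff space and x a point of X. Then x is isolated in X if and only if
dim_x(X) = 0. -/
theorem result (X : Type u) [TopologicalSpace X]
    [TopologicalSpace.NoetherianSpace X] [T0Space X] (x : X) :
    IsOpen ({x} : Set X) ↔ FlatMor.localDim X x = 0 := by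
  refine ⟨fun h => le_antisymm ?_ (Groth.Agent.TopDim.localDim_nonneg x), fun h => ?_⟩
  · exact (Groth.Agent.TopDim.localDim_le_dim_opens ⟨{x}, h⟩ rfl).trans
      (show topologicalKrullDim ↥({x} : Set X) ≤ 0 from topologicalKrullDim_zero_of_discreteTopology _)
  · obtain ⟨U, hxU, hU⟩ := Groth.Agent.TopDim.exists_opens_dim_eq x
    obtain ⟨-, hd⟩ := Groth.Agent.TopDim.finite_discrete_of_dim_le_zero (X := (U : Set X)) (hU.trans h).le
    have := U.isOpen.isOpenMap_subtype_val _ (isOpen_discrete ({⟨x, hxU⟩} : Set (U : Set X)))
    simpa using this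

end Groth.Agent.S5795
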