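import Groth.Prelude.Def_Flat
import Mathlib.Topology.KrullDimension
import Mathlib.Topology.NoetherianSpace
import Mathlib.Topology.Semicontinuity.Basic
import Groth.Agent.TopDim.Basic

set_option autoImplicit false
universe u
namespace TopDim
end TopDim
open TopDim

namespace Groth.Agent.S5796

/-- For any topological space X, the function x ↦ dim_x(X) is upper semicontinuous on X. -/
theorem result (X : Type u) [TopologicalSpace X] :
    UpperSemicontinuous fun x : X => FlatMor.localDim X x := by
  intro x c hc
  obtain ⟨U, hxU, hU⟩ := Groth.Agent.TopDim.exists_opens_dim_eq x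
  filter_upwards [U.isOpen.mem_nhds hxU] with y hy
  exact (Groth.Agent.TopDim.localDim_le_dim_opens U hy).trans_lt (hU.trans_lt hc)

end Groth.Agent.S5796
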