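import Groth.Prelude.Def_Flat
import Mathlib.Topology.KrullDimension
import Mathlib.Topology.NoetherianSpace
import Mathlib.Topology.Semicontinuity.Basic
import Groth.Agent.TopDim.Basic

set_option autoImplicit false
universe u
namespace TopDim
end TopDim
open TopDim

namespace Groth.Agent.S5798

/-- If (U_i) is an open covering of a topological space X, then dim(X) = sup_i dim(U_i). -/
theorem result (X : Type u) [TopologicalSpace X] (ι : Type u)
    (U : ι → TopologicalSpace.Opens X) (hcov : ⨆ i, U i = ⊤) :
    topologicalKrullDim X = ⨆ i, topologicalKrullDim (U i) := by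
  refine le_antisymm (Groth.Agent.TopDim.dim_le_iff.2 fun l => ?_) (Groth.Agent.TopDim.iSup_dim_le fun i => (U i : Set X))
  obtain ⟨x, hx⟩ := l.head.isIrreducible.nonempty
  obtain ⟨i, hi⟩ : ∃ i, x ∈ U i := TopologicalSpace.Opens.mem_iSup.1 (hcov ▸ TopologicalSpace.Opens.mem_top x)
  exact (Groth.Agent.TopDim.le_dim_of_meets l (U i) ⟨x, hx, hi⟩).trans
    (le_iSup (fun i => topologicalKrullDim (U i : Set X)) i)

end Groth.Agent.S5798
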