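import Groth.Prelude.Def_Flat
import Mathlib.Topology.KrullDimension
import Mathlib.Topology.NoetherianSpace
import Mathlib.Topology.Semicontinuity.Basic
import Groth.Agent.TopDim.Basic

set_option autoImplicit false
universe u
namespace TopDim
end TopDim
open TopDim

namespace Groth.Agent.S5800

/-- Let X be a topological space, x a point of X and (Y_i) a finite family of closed subsets each
containing x whose union is X. Then dim_x(X) = sup_i dim_x(Y_i). (The published statement lets the
Y_i be closed subsets of a neighbourhood U of x covering U; this row is the case U = X.) -/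
theorem result (X : Type u) [TopologicalSpace X] (x : X)
    (ι : Type u) [Finite ι] (Y : ι → Set X) (hY : ∀ i, IsClosed (Y i)) (hx : ∀ i, x ∈ Y i)
    (hcov : ⋃ i, Y i = Set.univ) :
    FlatMor.localDim X x = ⨆ i, FlatMor.localDim (Y i) ⟨x, hx i⟩ := by
  refine le_antisymm ?_ (iSup_le fun i => ?_)
  · choose V hxV hV using fun i => Groth.Agent.TopDim.exists_opens_dim_eq (X := Y i) ⟨x, hx i⟩
    have hW : ∀ i, ∃ W : TopologicalSpace.Opens X, x ∈ W ∧ ∀ (y : X) (hy : y ∈ Y i), y ∈ W → (⟨y, hy⟩ : Y i) ∈ V i := by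
      intro i
      obtain ⟨W, hW, hWV⟩ := isOpen_induced_iff.1 (V i).isOpen
      refine ⟨⟨W, hW⟩, ?_, fun y hy hyW => ?_⟩
      · exact (Set.ext_iff.1 hWV ⟨x, hx i⟩).2 (hxV i)
      · exact (Set.ext_iff.1 hWV ⟨y, hy⟩).1 hyW
    choose W hxW hWV using hW
    let U : TopologicalSpace.Opens X := ⟨⋂ i, (W i : Set X), isOpen_iInter_of_finite fun i => (W i).isOpen⟩
    refine (Groth.Agent.TopDim.localDim_le_dim_opens U (Set.mem_iInter.2 hxW)).trans ?_
    rw [Groth.Agent.TopDim.dim_eq_iSup_of_locallyFinite (fun i => (Subtype.val ⁻¹' Y i : Set (U : Set X)))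
      (fun i => (hY i).preimage continuous_subtype_val) (locallyFinite_of_finite _)
      (by rw [← Set.preimage_iUnion, hcov, Set.preimage_univ])]
    refine iSup_mono fun i => ?_
    rw [← hV i]
    refine Topology.IsInducing.topologicalKrullDim_le
      (f := fun y : (Subtype.val ⁻¹' Y i : Set (U : Set X)) =>
        (⟨⟨y.1.1, y.2⟩, hWV i _ y.2 (Set.mem_iInter.1 y.1.2 i)⟩ : ((V i : TopologicalSpace.Opens (Y i)) : Set (Y i)))) ?_
    refine Topology.IsInducing.of_comp (by fun_prop) (continuous_subtype_val.comp continuous_subtype_val) ?_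
    have h2 : Topology.IsInducing ((Subtype.val : ↥(U : Set X) → X) ∘
        (Subtype.val : ↥(Subtype.val ⁻¹' Y i : Set (U : Set X)) → ↥(U : Set X))) :=
      Topology.IsInducing.subtypeVal.comp Topology.IsInducing.subtypeVal
    exact h2
  · obtain ⟨U, hxU, hU⟩ := Groth.Agent.TopDim.exists_opens_dim_eq x
    rw [← hU]
    let V : TopologicalSpace.Opens (Y i) := ⟨Subtype.val ⁻¹' (U : Set X), U.isOpen.preimage continuous_subtype_val⟩
    refine (Groth.Agent.TopDim.localDim_le_dim_opens V hxU).trans (Topology.IsInducing.topologicalKrullDim_le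
      (f := fun y : (V : Set (Y i)) => (⟨y.1.1, y.2⟩ : (U : Set X))) ?_)
    refine Topology.IsInducing.of_comp (by fun_prop) continuous_subtype_val ?_
    have h2 : Topology.IsInducing ((Subtype.val : ↥(Y i) → X) ∘
        (Subtype.val : ↥(V : Set (Y i)) → ↥(Y i))) :=
      Topology.IsInducing.subtypeVal.comp Topology.IsInducing.subtypeVal
    exact h2

end Groth.Agent.S5800
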