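import Groth.Statements.S5801
import Groth.Agent.EGA41Lib.RegularPow
import Mathlib

set_option backward.isDefEq.respectTransparency.types false

set_option autoImplicit false
universe u
open scoped Pointwise
open EGA41

namespace Groth.Agent.S5801

/-- Let A be a ring, M an A-module and f ∈ A, and consider the canonical surjection (M/fM)[T] → gr(M)
for the (f)-adic filtration, whose injectivity says: for all k ≥ 0 and x ∈ M, f^k x ∈ f^(k+1) M
implies x ∈ fM. If f is M-regular this map is bijective; conversely, if it is bijective and M is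
separated for the (f)-adic topology (the intersection of the f^k M is zero), then f is M-regular. -/
theorem result (A : Type u) [CommRing A] (M : Type u)
    [AddCommGroup M] [Module A M] (f : A) :
    (IsSMulRegular M f →
        ∀ (k : ℕ) (x : M), f ^ k • x ∈ f ^ (k + 1) • (⊤ : Submodule A M) → x ∈ f • (⊤ : Submodule A M)) ∧
      ((⨅ k : ℕ, f ^ k • (⊤ : Submodule A M)) = ⊥ →
        (∀ (k : ℕ) (x : M), f ^ k • x ∈ f ^ (k + 1) • (⊤ : Submodule A M) → x ∈ f • (⊤ : Submodule A M)) →
          IsSMulRegular M f) := by
  constructor
  · intro hf k x hx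
    obtain ⟨y, -, hy⟩ := (Submodule.mem_smul_pointwise_iff_exists _ _ _).1 hx
    rw [pow_succ, mul_smul] at hy
    rw [← (hf.pow k) hy]
    exact Submodule.smul_mem_pointwise_smul _ _ _ trivial
  · intro hinf h
    refine isSMulRegular_iff_right_eq_zero_of_smul.mpr fun x hx => ?_
    have key : ∀ k, x ∈ f ^ k • (⊤ : Submodule A M) := by
      intro k
      induction k with
      | zero => rw [pow_zero, one_smul]; trivial
      | succ k ih =>
        obtain ⟨y, -, rfl⟩ := (Submodule.mem_smul_pointwise_iff_exists _ _ _).1 ih
        rw [smul_smul, ← pow_succ'] at hx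
        have hy := h (k + 1) y (by rw [hx]; exact Submodule.zero_mem _)
        obtain ⟨z, -, rfl⟩ := (Submodule.mem_smul_pointwise_iff_exists _ _ _).1 hy
        rw [smul_smul, ← pow_succ]
        exact Submodule.smul_mem_pointwise_smul _ _ _ trivial
    have : x ∈ ⨅ k : ℕ, f ^ k • (⊤ : Submodule A M) := (Submodule.mem_iInf _).2 key
    rwa [hinf, Submodule.mem_bot] at this

end Groth.Agent.S5801
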