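import Groth.Statements.S5805
import Groth.Agent.CAlgH3.RegularHom
import Groth.Agent.CAlgH3.ProjDim
import Mathlib

set_option backward.isDefEq.respectTransparency.types false

set_option autoImplicit false
universe u
open CategoryTheory
open EGA41

namespace Groth.Agent.S5805

/-- Let A be a Noetherian local ring with residue field k and n ≥ 0. Then the global dimension of A is
at most n as soon as the projective dimension of the A-module k is at most n: every A-module then
has projective dimension at most n. (The published statement phrases the criterion through the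
vanishing of Tor^A_{n+1}(k, k), to which dim.proj_A(k) ≤ n is equivalent for finitely generated
modules over a Noetherian local ring; this row states the projective-dimension form that the
published proof establishes.) -/
theorem result (A : Type u) [CommRing A] [IsLocalRing A]
    [IsNoetherianRing A] (n : ℕ)
    (hk : HasProjectiveDimensionLT (ModuleCat.of A (IsLocalRing.ResidueField A)) (n + 1)) (M : Type u)
    [AddCommGroup M] [Module A M] : HasProjectiveDimensionLT (ModuleCat.of A M) (n + 1) := by
  have hreg := Groth.Agent.CAlgH3.isRegularLocalRing_of_pd (R := A) (n := n + 1) hk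
  let k := A ⧸ IsLocalRing.maximalIdeal A
  have : Nontrivial k := Ideal.Quotient.nontrivial_iff.2 (IsLocalRing.maximalIdeal.isMaximal A).ne_top
  have hex : ∃ e, e ≤ n ∧ Groth.Agent.CAlgH3.PD A (e + 1) k ∧ ¬ Groth.Agent.CAlgH3.PD A e k := by
    have : ∀ N, Groth.Agent.CAlgH3.PD A (N + 1) k → ∃ e, e ≤ N ∧ Groth.Agent.CAlgH3.PD A (e + 1) k ∧ ¬ Groth.Agent.CAlgH3.PD A e k := by
      intro N
      induction N with
      | zero =>
        intro h
        exact ⟨0, le_rfl, h, fun h0 => not_subsingleton k (Groth.Agent.CAlgH3.pd_zero_iff.1 h0)⟩
      | succ N ih =>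
        intro h
        by_cases h' : Groth.Agent.CAlgH3.PD A (N + 1) k
        · obtain ⟨e, he, h1, h2⟩ := ih h'; exact ⟨e, he.trans (Nat.le_succ N), h1, h2⟩
        · exact ⟨N + 1, le_rfl, h, h'⟩
    exact this n hk
  obtain ⟨e, hen, he1, he2⟩ := hex
  have hd := Groth.Agent.CAlgH3.depth_add_of_pd e k he1 he2
  have h0 : LocCoh.depth A k = 0 := Groth.Agent.CAlgH3.depth_eq_zero_iff.2 (by
    have hm : (IsLocalRing.maximalIdeal A).IsPrime := Ideal.IsMaximal.isPrime inferInstance
    refine (isAssociatedPrime_iff_exists_injective_linearMap _ _).2 ⟨hm, LinearMap.id, Function.injective_id⟩)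
  rw [h0, add_zero, Groth.Agent.CAlgH3.depth_eq_spanFinrank] at hd
  have hd' : (IsLocalRing.maximalIdeal A).spanFinrank = e := by exact_mod_cast hd
  exact Groth.Agent.CAlgH3.pd_mono (by omega) (Groth.Agent.CAlgH3.pd_all M)

end Groth.Agent.S5805
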