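import Groth.Statements.S5806
import Groth.Agent.EGA41Lib.RegularPow
import Mathlib

set_option backward.isDefEq.respectTransparency.types false

set_option autoImplicit false
universe u
open EGA41

namespace Groth.Agent.S5806

open TensorProduct in
/-- Let A be a ring, B a commutative A-algebra, (f_i)_{1 ≤ i ≤ n} elements of B and M a B-module.
Suppose (f_i) is M-regular and each of the A-modules M/(f_1 M + ... + f_i M), 0 ≤ i ≤ n, is flat.
Then for every ring homomorphism A → A', writing M' = M ⊗_A A' and f'_i = f_i ⊗ 1, the sequence
(f'_i) is M'-regular and the A'-modules M'/(f'_1 M' + ... + f'_{i-1} M') are flat: concretely,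
identifying M'/(f'_1 M' + ... + f'_{i-1} M') with A' ⊗_A (M/(f_1 M + ... + f_{i-1} M)),
multiplication by f_i on the latter is injective and the latter is A'-flat, for 1 ≤ i ≤ n. (The
published hypothesis lists only the flatness of M/(f_1 M + ... + f_{i-1} M) for 1 ≤ i ≤ n, omitting
M/(f_1 M + ... + f_n M); with that omission the case n = 1, A = B = k[t], M = k[t], f_1 = t, A' =
k[t]/(t) fails, since t acts as zero on k ⊗_A M = k, and the published proof uses the flatness of
M/(f_1 M + ... + f_i M) for every i ≤ n; so flatness of all these quotients is assumed here.) -/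
theorem result (A B : Type u) [CommRing A]
    [CommRing B] [Algebra A B] (M : Type u) [AddCommGroup M] [Module B M] [Module A M] [IsScalarTower A B M]
    (fs : List B) (hreg : RingTheory.Sequence.IsWeaklyRegular M fs)
    (hflat : ∀ i : ℕ, i ≤ fs.length → Module.Flat A (M ⧸ (Ideal.ofList (fs.take i) • (⊤ : Submodule B M))))
    (A' : Type u) [CommRing A'] [Algebra A A'] (i : Fin fs.length) :
    Function.Injective (LinearMap.lTensor A'
        (((LinearMap.lsmul B (M ⧸ (Ideal.ofList (fs.take i) • (⊤ : Submodule B M)))) (fs.get i)).restrictScalars A)) ∧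
      Module.Flat A' (A' ⊗[A] (M ⧸ (Ideal.ofList (fs.take i) • (⊤ : Submodule B M)))) := by
  haveI := hflat i i.2.le
  refine ⟨?_, inferInstance⟩
  let N := M ⧸ (Ideal.ofList (fs.take i) • (⊤ : Submodule B M))
  let y := fs.get i
  let g : N →ₗ[A] N := ((LinearMap.lsmul B N) y).restrictScalars A
  have hg : Function.Injective g := by
    have := (RingTheory.Sequence.isWeaklyRegular_iff_Fin M fs).1 hreg i
    exact this
  haveI : Module.Flat A (N ⧸ LinearMap.range g) := by
    haveI := hflat (i + 1) i.2
    let q : N →ₗ[B] M ⧸ (Ideal.ofList (fs.take (i + 1)) • (⊤ : Submodule B M)) :=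
      Submodule.factor (Submodule.smul_mono_left (Ideal.span_mono fun x hx =>
        List.take_subset_take_left _ (Nat.le_succ _) hx))
    have hq : LinearMap.ker q = LinearMap.range ((LinearMap.lsmul B N) y) := by
      apply le_antisymm
      · intro z hz
        obtain ⟨z, rfl⟩ := Submodule.Quotient.mk_surjective _ z
        have hz' : z ∈ Ideal.ofList (fs.take (i + 1)) • (⊤ : Submodule B M) :=
          (Submodule.Quotient.mk_eq_zero _).1 hz
        rw [List.take_succ_eq_append_getElem i.2, Ideal.ofList_append, Ideal.ofList_singleton,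
          Submodule.sup_smul, Submodule.ideal_span_singleton_smul] at hz'
        obtain ⟨a, ha, b, hb, rfl⟩ := Submodule.mem_sup.1 hz'
        obtain ⟨w, -, rfl⟩ := (Submodule.mem_smul_pointwise_iff_exists _ _ _).1 hb
        refine ⟨Submodule.Quotient.mk w, ?_⟩
        rw [Submodule.Quotient.mk_add, (Submodule.Quotient.mk_eq_zero _).2 ha, zero_add]
        rfl
      · rintro _ ⟨z, rfl⟩
        obtain ⟨z, rfl⟩ := Submodule.Quotient.mk_surjective _ z
        exact (Submodule.Quotient.mk_eq_zero _).2 (Submodule.smul_mem_smul
          (Ideal.subset_span (List.mem_take_iff_getElem.2 ⟨i, by simp [i.2], rfl⟩)) trivial)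
    have hr : LinearMap.range g = (LinearMap.range ((LinearMap.lsmul B N) y)).restrictScalars A := rfl
    exact Module.Flat.of_linearEquiv ((Submodule.quotEquivOfEq _ _ hr).trans
      ((Submodule.Quotient.restrictScalarsEquiv A (LinearMap.range ((LinearMap.lsmul B N) y))).trans
        (((Submodule.quotEquivOfEq _ _ hq.symm).trans
          (q.quotKerEquivOfSurjective (Submodule.factor_surjective _))).restrictScalars A)))
  exact LinearMap.lTensor_injective_of_exact_of_flat (LinearMap.range g).mkQ
    (Submodule.mkQ_surjective _) g hg (LinearMap.exact_map_mkQ_range g) A'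

end Groth.Agent.S5806
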