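import Groth.Statements.S5807
import Groth.Agent.CAlgH.RegularFieldExt
import Mathlib

set_option backward.isDefEq.respectTransparency.types false

set_option autoImplicit false
universe u
open EGA41

namespace Groth.Agent.S5807

/-- Let A be a Noetherian ring which is a quotient of a regular ring B, and C an A-algebra of finite
type. Then every ring of fractions of C is a quotient of a regular ring. -/
theorem result (B A C : Type u) [CommRing B]
    [IsRegularRing B] [CommRing A] (π : B →+* A) (hπ : Function.Surjective π) [CommRing C] [Algebra A C]
    [Algebra.FiniteType A C] (S : Submonoid C) :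
    ∃ (R : Type u) (_ : CommRing R) (_ : IsRegularRing R) (f : R →+* Localization S),
      Function.Surjective f := by
  obtain ⟨n, f, hf⟩ := Algebra.FiniteType.iff_quotient_mvPolynomial''.1 (inferInstance : Algebra.FiniteType A C)
  let g : MvPolynomial (Fin n) B →+* C := f.toRingHom.comp (MvPolynomial.map π)
  have hg : Function.Surjective g := hf.comp (MvPolynomial.map_surjective π hπ)
  let T : Submonoid (MvPolynomial (Fin n) B) := S.comap g.toMonoidHom
  have hT : Submonoid.map g.toMonoidHom T = S := Submonoid.map_comap_eq_of_surjective hg S
  refine ⟨Localization T, inferInstance, Groth.Agent.CAlgH.isRegularRing_localization T _, IsLocalization.map (M := T) (T := S) (Localization S) g (fun x hx => hx), ?_⟩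
  intro y
  obtain ⟨⟨c, s⟩, rfl⟩ := IsLocalization.mk'_surjective S y
  obtain ⟨a, rfl⟩ := hg c
  obtain ⟨t, ht⟩ := hg s.1
  refine ⟨IsLocalization.mk' (M := T) _ a ⟨t, show g t ∈ S by rw [ht]; exact s.2⟩, ?_⟩
  rw [IsLocalization.map_mk']
  congr 1
  exact Subtype.ext ht

end Groth.Agent.S5807
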