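import Groth.Statements.S5810
import Groth.Agent.CommAlg6.CompletionEquidim
import Groth.Agent.LocCoh.DepthLocal
import Mathlib

set_option backward.isDefEq.respectTransparency.types false

set_option autoImplicit false
universe u
open EGA41

namespace Groth.Agent.S5810

/-- Let A be a Noetherian local ring with maximal ideal m and M a finitely generated A-module; write Â
and M̂ for the m-adic completions. Then prof_A(M) = prof_Â(M̂). -/
theorem result (A : Type u) [CommRing A] [IsLocalRing A] [IsNoetherianRing A] (M : Type u)
    [AddCommGroup M] [Module A M] [Module.Finite A M] :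
    LocCoh.depth (AdicCompletion (IsLocalRing.maximalIdeal A) A) (AdicCompletion (IsLocalRing.maximalIdeal A) M) =
      LocCoh.depth A M := by
  have := Groth.Agent.CommAlg6.isLocalHom_completion A
  have : Module.FaithfullyFlat A (AdicCompletion (IsLocalRing.maximalIdeal A) A) :=
    Module.FaithfullyFlat.of_flat_of_isLocalHom
  have e := LinearEquiv.ofBijective
    (AdicCompletion.ofTensorProduct (IsLocalRing.maximalIdeal A) M)
    (AdicCompletion.ofTensorProduct_bijective_of_finite_of_isNoetherian _ M)
  rw [← Groth.Agent.CAlgH3.depth_congr e, LocCoh.depth, AdicCompletion.maximalIdeal_eq_map]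
  exact (Groth.Agent.LocCoh.idealDepth_baseChange (AdicCompletion (IsLocalRing.maximalIdeal A) A) (IsLocalRing.maximalIdeal A) M).2 ‹_›

end Groth.Agent.S5810
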