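import Groth.Statements.S5811
import Groth.Agent.EGA41Lib.SemiLocalCompletion
import Mathlib

set_option backward.isDefEq.respectTransparency.types false

set_option autoImplicit false
universe u
open EGA41

namespace Groth.Agent.S5811

/-- Let A be a semi-local Noetherian ring (finitely many maximal ideals) with Jacobson radical r, M a
finitely generated A-module, and write Â and M̂ for the r-adic completions of A and M. Then
dim_Â(M̂) = dim_A(M), the dimension of a module being the Krull dimension of its support. (For M = 0
both sides are ⊥.) -/
theorem result (A : Type u) [CommRing A] [IsNoetherianRing A]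
    [Finite (MaximalSpectrum A)] (M : Type u) [AddCommGroup M] [Module A M] [Module.Finite A M] :
    Module.supportDim (AdicCompletion (Ring.jacobson A) A) (AdicCompletion (Ring.jacobson A) M) =
      Module.supportDim A M := by
  have : IsNoetherianRing (AdicCompletion (Ring.jacobson A) A) :=
    Groth.Agent.Matlis6.isNoetherianRing_adicCompletion _
  have e := LinearEquiv.ofBijective
    (AdicCompletion.ofTensorProduct (Ring.jacobson A) M)
    (AdicCompletion.ofTensorProduct_bijective_of_finite_of_isNoetherian _ M)
  obtain ⟨h1, h2⟩ := Groth.Agent.EGA41Lib.completion_jacobson_maximal (A := A)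
  rw [← Module.supportDim_eq_of_equiv e, Module.supportDim_eq_ringKrullDim_quotient_annihilator,
    Module.supportDim_eq_ringKrullDim_quotient_annihilator, Groth.Agent.EGA41Lib.annihilator_baseChange_of_flat]
  exact Groth.Agent.EGA41Lib.ringKrullDim_quotient_map_of_maximal_extend h1 h2 _

end Groth.Agent.S5811
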