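import Groth.Statements.S5824
import Groth.Agent.EGA41Lib.ExalCharHomMaps
import Mathlib

set_option backward.isDefEq.respectTransparency.types false

set_option autoImplicit false
universe u v
open EGA41

namespace Groth.Agent.S5824

/-- For ring maps A → B → C with C formally smooth over A (discrete topologies) and Ω_{C/B} a projective
C-module, and a C-module L, the characteristic homomorphism is a bijection from the classes of all
B-extensions of C by L (each of which is A-trivial) onto Hom_C(Υ_{C/B/A}, L): injectivity on classes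
and surjectivity. -/
theorem result {A : Type u} {B C L : Type v} [CommRing A] [CommRing B] [CommRing C]
    [Algebra A B] [Algebra B C] [Algebra A C] [IsScalarTower A B C] [AddCommGroup L] [Module C L]
    [Algebra.FormallySmooth A C] [Module.Projective C Ω[C⁄B]] :
    (∀ (X Y : Exal.Ext B C L) (χ : ↥(EGA41.imperfection A B C) →ₗ[C] L),
        X.IsCharHom A χ → Y.IsCharHom A χ → Nonempty (X.Equiv Y)) ∧
      ∀ χ : ↥(EGA41.imperfection A B C) →ₗ[C] L, ∃ X : Exal.Ext B C L, X.IsCharHom A χ := by
  obtain ⟨hr, hs⟩ := Groth.Agent.EGA41Lib.exists_retraction_and_section A B C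
  refine ⟨fun X Y χ hX hY ↦ Groth.Agent.EGA41Lib.nonempty_equiv_of_isCharHom (.inr hs) X Y
    (Groth.Agent.EGA41Lib.isTrivialOver_of_formallySmooth X)
    (Groth.Agent.EGA41Lib.isTrivialOver_of_formallySmooth Y) χ hX hY, fun χ ↦ ?_⟩
  obtain ⟨X, -, hX⟩ := Groth.Agent.EGA41Lib.exists_isTrivialOver_of_linearMap (L := L) (.inr hr) χ
  exact ⟨X, hX⟩

end Groth.Agent.S5824
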