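import Groth.Statements.S5829
import Groth.Agent.EGA41Lib.Exal
import Mathlib

set_option backward.isDefEq.respectTransparency.types false

set_option autoImplicit false
universe u v w
open EGA41

namespace Groth.Agent.S5829

/-- Commutative case. Let B be a topological A-algebra in which the square of every open ideal is open,
and L a discrete B-module killed by an open ideal of B. Then every A-derivation B → L is continuous:
the submodule of continuous derivations is everything. (The topology of A is irrelevant and is not
assumed.) -/
theorem result {A : Type u} {B : Type v} {L : Type w} [CommRing A] [CommRing B]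
    [Algebra A B] [AddCommGroup L] [Module A L] [Module B L] [IsScalarTower A B L] [TopologicalSpace B]
    [IsTopologicalRing B] [TopologicalSpace L] [DiscreteTopology L] [ContinuousAdd L] [ContinuousConstSMul B L]
    (hsq : ∀ I : Ideal B, IsOpen (I : Set B) → IsOpen ((I ^ 2 : Ideal B) : Set B))
    (K : Ideal B) (hK : IsOpen (K : Set B)) (hKL : ∀ x ∈ K, ∀ z : L, x • z = 0) :
    TopMod.DerCont A B L = ⊤ := by
  refine eq_top_iff.2 fun D _ ↦ ?_
  change Continuous D
  have hK2 : ∀ x ∈ (K ^ 2 : Ideal B), D x = 0 := by
    intro x hx
    rw [pow_two] at hx
    induction hx using Submodule.mul_induction_on' with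
    | mem_mul_mem a ha b hb => rw [D.leibniz, hKL a ha, hKL b hb, add_zero]
    | add a _ b _ ha hb => rw [map_add, ha, hb, add_zero]
  have hopen := hsq K hK
  have hc : ContinuousAt D 0 := by
    rw [ContinuousAt, map_zero]
    refine Filter.Tendsto.congr' ?_ tendsto_const_nhds
    filter_upwards [hopen.mem_nhds (Submodule.zero_mem _)] with x hx
    exact (hK2 x hx).symm
  haveI : IsTopologicalAddGroup L :=
    { continuous_neg := continuous_of_discreteTopology }
  exact continuous_of_continuousAt_zero D.toLinearMap.toAddMonoidHom hc

end Groth.Agent.S5829
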