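import Groth.Statements.S5831
import Groth.Agent.EGA41Lib.Exal
import Mathlib

set_option backward.isDefEq.respectTransparency.types false

set_option autoImplicit false
universe u
open EGA41

namespace Groth.Agent.S5831

/-- Discrete case. Let B be an A-algebra which is a projective A-module (A and B in one universe). If
for every B-module L in that universe every A-bilinear symmetric Hochschild 2-cocycle B × B → L is a
coboundary, then B is formally smooth over A. (The published statement assumes B formally projective
as a topological A-module; for discrete rings this is projectivity.) -/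
theorem result {A B : Type u} [CommRing A]
    [CommRing B] [Algebra A B] [Module.Projective A B]
    (h : ∀ (L : Type u) [AddCommGroup L] [Module B L] [Module A L] [IsScalarTower A B L]
      (f : B →ₗ[A] B →ₗ[A] L), (∀ x y : B, f x y = f y x) →
        (∀ x y z : B, f (x * y) z + z • f x y = x • f y z + f x (y * z)) →
          ∃ g : B →ₗ[A] L, ∀ x y : B, f x y = x • g y - g (x * y) + y • g x) :
    Algebra.FormallySmooth A B := by
  rw [Groth.Agent.EGA41Lib.formallySmooth_iff_forall_isTrivial]
  intro L _ _ X
  letI : Module A L := Module.compHom L (algebraMap A B)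
  haveI : IsScalarTower A B L := ⟨fun a b l ↦ by
    change (a • b) • l = algebraMap A B a • b • l
    rw [Algebra.smul_def, mul_smul]⟩
  obtain ⟨σ, hσ⟩ := Module.projective_lifting_property X.proj.toLinearMap LinearMap.id
    X.isExtension.proj_surjective
  have hσ' : ∀ b, X.proj (σ b) = b := fun b ↦ congr($hσ b)
  have hsm : ∀ (a : A) (z : L), X.incl (a • z) = a • X.incl z := fun a z ↦ by
    rw [Algebra.smul_def, X.isExtension.mul_incl, AlgHom.commutes]
    exact congrArg X.incl (algebraMap_smul B a z).symm
  have hm : ∀ x y, X.proj (σ x * σ y - σ (x * y)) = 0 := fun x y ↦ by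
    rw [map_sub, map_mul, hσ', hσ', hσ', sub_self]
  let f : B →ₗ[A] B →ₗ[A] L := LinearMap.mk₂ A (fun x y ↦ X.kerLift _ (hm x y))
    (fun x x' y ↦ X.isExtension.incl_injective (by
      rw [map_add X.incl, X.incl_kerLift, X.incl_kerLift, X.incl_kerLift, map_add, add_mul, add_mul, map_add]; ring))
    (fun a x y ↦ X.isExtension.incl_injective (by
      rw [hsm, X.incl_kerLift, X.incl_kerLift, map_smul, smul_mul_assoc, smul_mul_assoc, map_smul, smul_sub]))
    (fun x y y' ↦ X.isExtension.incl_injective (by
      rw [map_add X.incl, X.incl_kerLift, X.incl_kerLift, X.incl_kerLift, map_add, mul_add, mul_add, map_add]; ring))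
    (fun a x y ↦ X.isExtension.incl_injective (by
      rw [hsm, X.incl_kerLift, X.incl_kerLift, map_smul, mul_smul_comm, mul_smul_comm, map_smul, smul_sub]))
  have hf : ∀ x y, X.incl (f x y) = σ x * σ y - σ (x * y) := fun x y ↦ X.incl_kerLift _ (hm x y)
  have hact : ∀ (b : B) (z : L), X.incl (b • z) = σ b * X.incl z := fun b z ↦ by
    rw [X.isExtension.mul_incl, hσ']
  obtain ⟨g, hg⟩ := h L f
    (fun x y ↦ X.isExtension.incl_injective (by rw [hf, hf, mul_comm (σ x), mul_comm x]))
    (fun x y z ↦ X.isExtension.incl_injective (by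
      rw [map_add, map_add, hact, hact, hf, hf, hf, hf, mul_assoc x]; ring))
  let s : B →ₗ[A] X.E := σ +
    { toFun := fun b ↦ X.incl (-g b)
      map_add' := fun x y ↦ by rw [map_add, neg_add, map_add]
      map_smul' := fun a x ↦ by rw [map_smul, ← smul_neg, hsm]; rfl }
  have hs : ∀ b, s b = σ b + X.incl (-g b) := fun _ ↦ rfl
  have hsp : ∀ b, X.proj (s b) = b := fun b ↦ by
    rw [hs, map_add, hσ', (X.isExtension.exact _).2 ⟨_, rfl⟩, add_zero]
  have hmul : ∀ x y, s (x * y) = s x * s y := fun x y ↦ by
    have e1 : X.incl (f x y) = X.incl (x • g y - g (x * y) + y • g x) := congrArg X.incl (hg x y)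
    rw [hf, map_add, map_sub, hact, hact] at e1
    have h0 : X.incl (-g x) * X.incl (-g y) = 0 := Groth.Agent.EGA41Lib.ext_ker_mul X
      ((X.isExtension.exact _).2 ⟨_, rfl⟩) ((X.isExtension.exact _).2 ⟨_, rfl⟩)
    simp only [hs, map_neg] at h0 ⊢
    linear_combination (norm := ring_nf) -e1 - h0
  have hone : s 1 = 1 := by
    have h1 : (s 1 - 1) * (s 1 - 1) = 0 := Groth.Agent.EGA41Lib.ext_ker_mul X
      (by rw [map_sub, hsp, map_one, sub_self]) (by rw [map_sub, hsp, map_one, sub_self])
    have h2 : s 1 * s 1 = s 1 := by rw [← hmul, mul_one]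
    linear_combination h2 - h1
  exact ⟨AlgHom.ofLinearMap s hone hmul, hsp⟩

end Groth.Agent.S5831
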