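import Groth.Statements.S5832
import Groth.Agent.EGA41Lib.Exal
import Mathlib

set_option backward.isDefEq.respectTransparency.types false

set_option autoImplicit false
universe u u' v
open EGA41

namespace Groth.Agent.S5832

/-- Surjectivity at the end of the sequence. For ring maps Λ → A → B → C and a C-module L, every
Λ-trivial A-extension of B by L is equivalent to the inverse image along B → C of a Λ-trivial
A-extension of C by L. (Exactness at the other places is that of the six-term derivation-extension
sequence restricted to Λ-trivial classes.) -/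
theorem result {Λ : Type u} {A : Type u'} {B C L : Type v}
    [CommRing Λ] [CommRing A] [CommRing B] [CommRing C] [Algebra Λ A] [Algebra Λ B] [Algebra Λ C]
    [Algebra A B] [Algebra B C] [Algebra A C] [IsScalarTower Λ A B] [IsScalarTower Λ A C] [IsScalarTower A B C]
    [AddCommGroup L] [Module C L] [Module B L] [IsScalarTower B C L]
    (Y : Exal.Ext A B L) (hY : Y.IsTrivialOver Λ) :
    ∃ X : Exal.Ext A C L, X.IsTrivialOver Λ ∧ Nonempty ((X.pullback B).Equiv Y) := by
  let := Exal.opModule C L
  have := Exal.isCentralScalar_opModule C L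
  obtain ⟨s₀, hs₀⟩ := hY
  let s : B →+* Y.E :=
    { toFun := fun c ↦ (s₀ c : Y.E), map_one' := map_one s₀, map_mul' := map_mul s₀,
      map_zero' := map_zero s₀, map_add' := map_add s₀ }
  have hs : ∀ b, Y.proj (s b) = b := hs₀
  have hsL : ∀ l, s (algebraMap Λ B l) = algebraMap A Y.E (algebraMap Λ A l) := fun l ↦ s₀.commutes l
  let δ : Y.E → L := fun x ↦ Y.kerLift (x - s (Y.proj x)) (by rw [map_sub, hs, sub_self])
  have hδ : ∀ x, Y.incl (δ x) = x - s (Y.proj x) := fun x ↦ Y.incl_kerLift _ _
  have hadd : ∀ x y, δ (x + y) = δ x + δ y := fun x y ↦ by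
    apply Y.isExtension.incl_injective
    rw [map_add, hδ, hδ, hδ, map_add, map_add]
    ring
  have hmul : ∀ x y, δ (x * y) = algebraMap B C (Y.proj x) • δ y + algebraMap B C (Y.proj y) • δ x :=
    fun x y ↦ by
      rw [algebraMap_smul, algebraMap_smul]
      apply Y.isExtension.incl_injective
      rw [map_add, hδ]
      conv_rhs => rw [← hs (Y.proj y), ← Y.isExtension.mul_incl, ← Y.isExtension.mul_incl, hδ, hδ]
      rw [map_mul, map_mul]
      ring
  have hδs : ∀ b, δ (s b) = 0 := fun b ↦ by
    apply Y.isExtension.incl_injective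
    rw [map_zero, hδ, hs, sub_self]
  have hδ1 : δ 1 = 0 := by have := hδs 1; rwa [map_one] at this
  have hδ0 : δ 0 = 0 := by have := hδs 0; rwa [map_zero] at this
  have hδi : ∀ z, δ (Y.incl z) = z := fun z ↦ by
    apply Y.isExtension.incl_injective
    rw [hδ, (Y.isExtension.exact _).2 ⟨z, rfl⟩, map_zero, sub_zero]
  let ψ : Y.E →+* TrivSqZeroExt C L :=
    { toFun := fun x ↦ TrivSqZeroExt.inl (algebraMap B C (Y.proj x)) + TrivSqZeroExt.inr (δ x)
      map_one' := by ext <;> simp [hδ1]
      map_mul' := fun x y ↦ by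
        apply TrivSqZeroExt.ext
        · simp only [TrivSqZeroExt.fst_mul, TrivSqZeroExt.fst_add, TrivSqZeroExt.fst_inl,
            TrivSqZeroExt.fst_inr, add_zero, map_mul]
        · simp only [TrivSqZeroExt.snd_mul, TrivSqZeroExt.snd_add, TrivSqZeroExt.snd_inl,
            TrivSqZeroExt.snd_inr, TrivSqZeroExt.fst_add, TrivSqZeroExt.fst_inl,
            TrivSqZeroExt.fst_inr, add_zero, zero_add, op_smul_eq_smul, hmul]
      map_zero' := by ext <;> simp [hδ0]
      map_add' := fun x y ↦ by ext <;> simp [hadd] }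
  letI : Algebra A (TrivSqZeroExt C L) := (ψ.comp (algebraMap A Y.E)).toAlgebra
  have hψ : ∀ a, algebraMap A (TrivSqZeroExt C L) a = ψ (algebraMap A Y.E a) := fun _ ↦ rfl
  let π : TrivSqZeroExt C L →ₐ[A] C :=
    { toFun := TrivSqZeroExt.fst
      map_one' := TrivSqZeroExt.fst_one
      map_mul' := TrivSqZeroExt.fst_mul
      map_zero' := TrivSqZeroExt.fst_zero
      map_add' := TrivSqZeroExt.fst_add
      commutes' := fun a ↦ by
        rw [hψ]
        simp [ψ, ← IsScalarTower.algebraMap_apply A B C] }
  let X : Exal.Ext A C L :=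
    { E := TrivSqZeroExt C L
      proj := π
      incl := (TrivSqZeroExt.inrHom C L).toAddMonoidHom
      isExtension :=
        { proj_surjective := fun c ↦ ⟨TrivSqZeroExt.inl c, rfl⟩
          incl_injective := TrivSqZeroExt.inr_injective
          exact := fun x ↦
            ⟨fun hx ↦ ⟨x.snd, TrivSqZeroExt.ext hx.symm rfl⟩, by rintro ⟨z, rfl⟩; rfl⟩
          mul_incl := fun x z ↦ by
            change x * TrivSqZeroExt.inr z = TrivSqZeroExt.inr (x.fst • z)
            ext <;> simp } }
  have : IsScalarTower Λ B C := .of_algebraMap_eq fun l ↦ by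
    rw [IsScalarTower.algebraMap_apply Λ A B, ← IsScalarTower.algebraMap_apply A B C,
      ← IsScalarTower.algebraMap_apply Λ A C]
  refine ⟨X, ?_, ?_⟩
  · refine ⟨{ toRingHom := TrivSqZeroExt.inlHom C L, commutes' := fun l ↦ ?_ }, fun c ↦ rfl⟩
    change TrivSqZeroExt.inl (algebraMap Λ C l) = ψ (algebraMap A Y.E (algebraMap Λ A l))
    rw [← hsL]
    ext <;> simp [ψ, hs, hδs, ← IsScalarTower.algebraMap_apply Λ B C]
  · let φ : Y.E →ₐ[A] ↥(X.fiberProd B) :=
      { toFun := fun y ↦ ⟨(ψ y, Y.proj y), by
          change (ψ y).fst = algebraMap B C (Y.proj y)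
          simp [ψ]⟩
        map_one' := Subtype.ext (Prod.ext (map_one ψ) (map_one Y.proj))
        map_mul' := fun x y ↦ Subtype.ext (Prod.ext (map_mul ψ x y) (map_mul Y.proj x y))
        map_zero' := Subtype.ext (Prod.ext (map_zero ψ) (map_zero Y.proj))
        map_add' := fun x y ↦ Subtype.ext (Prod.ext (map_add ψ x y) (map_add Y.proj x y))
        commutes' := fun a ↦ Subtype.ext (Prod.ext rfl (Y.proj.commutes a)) }
    have hbij : Function.Bijective φ := by
      constructor
      · intro x y h
        have h1 : Y.proj x = Y.proj y := congrArg (fun e ↦ e.1.2) h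
        have h2 : (ψ x).snd = (ψ y).snd := congrArg (fun e ↦ TrivSqZeroExt.snd e.1.1) h
        have h3 : δ x = δ y := by simpa [ψ] using h2
        have := congrArg Y.incl h3
        rw [hδ, hδ, h1] at this
        exact sub_left_inj.1 this
      · rintro ⟨⟨w, b⟩, hwb⟩
        change w.fst = algebraMap B C b at hwb
        refine ⟨s b + Y.incl w.snd, Subtype.ext (Prod.ext ?_ ?_)⟩
        · change ψ (s b + Y.incl w.snd) = w
          have e1 : Y.proj (Y.incl w.snd) = 0 := (Y.isExtension.exact _).2 ⟨_, rfl⟩
          ext <;> simp [ψ, hadd, hδi, hδs, hs, e1, hwb]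
        · change Y.proj (s b + Y.incl w.snd) = b
          rw [map_add, hs, (Y.isExtension.exact _).2 ⟨_, rfl⟩, add_zero]
    let e : Y.Equiv (X.pullback B) :=
      { toAlgEquiv := AlgEquiv.ofBijective φ hbij
        proj_apply := fun y ↦ rfl
        apply_incl := fun z ↦ by
          apply Subtype.ext
          apply Prod.ext
          · change ψ (Y.incl z) = TrivSqZeroExt.inr z
            have e1 : Y.proj (Y.incl z) = 0 := (Y.isExtension.exact _).2 ⟨_, rfl⟩
            ext <;> simp [ψ, hδi, e1]
          · change Y.proj (Y.incl z) = 0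
            exact (Y.isExtension.exact _).2 ⟨_, rfl⟩ }
    exact ⟨e.symm⟩

end Groth.Agent.S5832
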