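import Groth.Statements.S5833
import Groth.Agent.EGA41Lib.ExalCharHomInf
import Mathlib

set_option backward.isDefEq.respectTransparency.types false

set_option autoImplicit false
universe u v
open scoped TensorProduct
open EGA41

namespace Groth.Agent.S5833

/-- Let Λ → A → B be ring maps, K an ideal of B, C = B ⧸ K, and suppose E = B ⧸ K², as an extension of C
by K/K², is Λ-trivial. Let χ : Υ_{C/A/Λ} → K/K² be the characteristic homomorphism of E as an
A-extension, relative to Λ → A. Then: (a) the kernel of χ consists of the elements of Υ_{C/A/Λ} ⊆ C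
⊗_A Ω_{A/Λ} whose image in C ⊗_B Ω_{B/Λ} is zero (that image map is written as the base change to C
of B ⊗_A Ω_{A/Λ} → Ω_{B/Λ}, through the canonical identification C ⊗_B (B ⊗_A Ω_{A/Λ}) = C ⊗_A
Ω_{A/Λ}); (b) the image of χ is the kernel of the conormal map K/K² → C ⊗_B Ω_{B/A}, x ↦ 1 ⊗ dx.
This is the exact sequence 0 → Υ^C_{B/A/Λ} → Υ_{C/A/Λ} → K/K² → C ⊗_B Ω_{B/A} → Ω_{C/A} → 0 up to
its last two (conormal-sequence) terms. -/
theorem result {Λ : Type u} {A B : Type v} [CommRing Λ]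
    [CommRing A] [CommRing B] [Algebra Λ A] [Algebra Λ B] [Algebra A B] [IsScalarTower Λ A B] (K : Ideal B)
    (htriv : ((Exal.Ext.infinitesimal K).restrictBase A).IsTrivialOver Λ)
    (χ : ↥(EGA41.imperfection Λ A (B ⧸ K)) →ₗ[B ⧸ K] K.Cotangent)
    (hχ : ((Exal.Ext.infinitesimal K).restrictBase A).IsCharHom Λ χ) :
    (∀ z : ↥(EGA41.imperfection Λ A (B ⧸ K)),
        χ z = 0 ↔
          ((KaehlerDifferential.mapBaseChange Λ A B).baseChange (B ⧸ K))
              ((TensorProduct.AlgebraTensorModule.cancelBaseChange A B (B ⧸ K) (B ⧸ K) Ω[A⁄Λ]).symm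
                (z : (B ⧸ K) ⊗[A] Ω[A⁄Λ])) = 0) ∧
      ∀ (x : B) (hx : x ∈ K),
        K.toCotangent ⟨x, hx⟩ ∈ LinearMap.range χ ↔
          (1 : B ⧸ K) ⊗ₜ[B] KaehlerDifferential.D A B x = (0 : (B ⧸ K) ⊗[B] Ω[B⁄A]) := by
  obtain ⟨D, hD, hχD⟩ := Groth.Agent.EGA41Lib.exists_derivation_restrictBase htriv χ hχ
  let m := Groth.Agent.EGA41Lib.middleMap K Λ A
  have hΥ : ∀ z : ↥(EGA41.imperfection Λ A (B ⧸ K)),
      m (z : (B ⧸ K) ⊗[A] Ω[A⁄Λ]) ∈ EGA41.imperfection Λ B (B ⧸ K) := fun z ↦ by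
    change KaehlerDifferential.mapBaseChange Λ B (B ⧸ K) _ = 0
    rw [Groth.Agent.EGA41Lib.mapBaseChange_middleMap]
    exact z.2
  have hexact : Function.Exact
      ((KaehlerDifferential.mapBaseChange Λ A B).baseChange (B ⧸ K))
      ((KaehlerDifferential.map Λ A B B).baseChange (B ⧸ K)) := by
    have h := lTensor_exact (R := B) (B ⧸ K) (KaehlerDifferential.exact_mapBaseChange_map Λ A B)
      (KaehlerDifferential.map_surjective Λ A B)
    exact h
  refine ⟨fun z ↦ ⟨fun h ↦ ?_, fun h ↦ ?_⟩, fun x hx ↦ ⟨?_, fun h ↦ ?_⟩⟩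
  · exact Groth.Agent.EGA41Lib.liftD_injOn_imperfection D hD (hΥ z) ((hχD z).symm.trans h)
  · rw [hχD]
    change Groth.Agent.EGA41Lib.liftD (B ⧸ K) D (((KaehlerDifferential.mapBaseChange Λ A B).baseChange (B ⧸ K))
      ((TensorProduct.AlgebraTensorModule.cancelBaseChange A B (B ⧸ K) (B ⧸ K) Ω[A⁄Λ]).symm
        (z : (B ⧸ K) ⊗[A] Ω[A⁄Λ]))) = 0
    rw [h, map_zero]
  · rintro ⟨z, hz⟩
    obtain ⟨x', hx', hmx'⟩ := Groth.Agent.EGA41Lib.exists_eq_tmul_of_mem_imperfection Λ K _ (hΥ z)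
    have h1 : K.toCotangent ⟨x', hx'⟩ = K.toCotangent ⟨x, hx⟩ := by
      rw [← hz, hχD, hmx', Groth.Agent.EGA41Lib.liftD_tmul, one_smul, ← hD ⟨x', hx'⟩]
    have h2 : (KaehlerDifferential.map Λ A B B).baseChange (B ⧸ K)
        (m (z : (B ⧸ K) ⊗[A] Ω[A⁄Λ])) = 0 :=
      (hexact _).2 ⟨_, rfl⟩
    rw [hmx', LinearMap.baseChange_tmul, KaehlerDifferential.map_D] at h2
    rw [Ideal.toCotangent_eq] at h1
    have h3 := Groth.Agent.EGA41Lib.one_tmul_D_eq_zero_of_mem_sq A K h1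
    rw [map_sub, TensorProduct.tmul_sub] at h3
    simp only [Algebra.algebraMap_self, RingHom.id_apply] at h2
    rw [h2, zero_sub, neg_eq_zero] at h3
    exact h3
  · obtain ⟨y, hy⟩ := (hexact ((1 : B ⧸ K) ⊗ₜ[B] KaehlerDifferential.D Λ B x)).1 (by
      rw [LinearMap.baseChange_tmul, KaehlerDifferential.map_D]
      simpa using h)
    let z := TensorProduct.AlgebraTensorModule.cancelBaseChange A B (B ⧸ K) (B ⧸ K) Ω[A⁄Λ] y
    have hmz : m z = (1 : B ⧸ K) ⊗ₜ[B] KaehlerDifferential.D Λ B x := by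
      rw [← hy]
      change (KaehlerDifferential.mapBaseChange Λ A B).baseChange (B ⧸ K) _ = _
      simp [z]
    refine ⟨⟨z, ?_⟩, ?_⟩
    · change KaehlerDifferential.mapBaseChange Λ A (B ⧸ K) z = 0
      rw [← Groth.Agent.EGA41Lib.mapBaseChange_middleMap z]
      change KaehlerDifferential.mapBaseChange Λ B (B ⧸ K) (m z) = 0
      rw [hmz, KaehlerDifferential.mapBaseChange_tmul, KaehlerDifferential.map_D, one_smul,
        show algebraMap B (B ⧸ K) x = 0 from Ideal.Quotient.eq_zero_iff_mem.2 hx, map_zero]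
    · rw [hχD]
      change Groth.Agent.EGA41Lib.liftD (B ⧸ K) D (m z) = _
      rw [hmz, Groth.Agent.EGA41Lib.liftD_tmul, one_smul, hD ⟨x, hx⟩]

end Groth.Agent.S5833
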