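import Groth.Statements.S5834
import Groth.Agent.EGA41Lib.ExalCharHomInf
import Mathlib

set_option backward.isDefEq.respectTransparency.types false

set_option autoImplicit false
universe u v
open EGA41

namespace Groth.Agent.S5834

/-- Let Λ → A → B be ring maps with B formally smooth over A, K an ideal of B, C = B ⧸ K, and suppose E
= B ⧸ K², as an extension of C by K/K², is Λ-trivial. Then the characteristic homomorphism χ :
Υ_{C/A/Λ} → K/K² of E as an A-extension relative to Λ → A is injective (so that, with the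
description of its image as the kernel of K/K² → C ⊗_B Ω_{B/A}, the sequence 0 → Υ_{C/A/Λ} → K/K² →
C ⊗_B Ω_{B/A} → Ω_{C/A} → 0 is exact). -/
theorem result {Λ : Type u} {A B : Type v} [CommRing Λ]
    [CommRing A] [CommRing B] [Algebra Λ A] [Algebra Λ B] [Algebra A B] [IsScalarTower Λ A B]
    [Algebra.FormallySmooth A B] (K : Ideal B)
    (htriv : ((Exal.Ext.infinitesimal K).restrictBase A).IsTrivialOver Λ)
    (χ : ↥(EGA41.imperfection Λ A (B ⧸ K)) →ₗ[B ⧸ K] K.Cotangent)
    (hχ : ((Exal.Ext.infinitesimal K).restrictBase A).IsCharHom Λ χ) :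
    Function.Injective χ := by
  obtain ⟨D, hD, hχD⟩ := Groth.Agent.EGA41Lib.exists_derivation_restrictBase htriv χ hχ
  let f := KaehlerDifferential.mapBaseChange Λ A B
  have hf : Function.Injective f := by
    have := Algebra.FormallySmooth.subsingleton_h1Cotangent (R := A) (A := B)
    rw [← LinearMap.ker_eq_bot, _root_.eq_bot_iff]
    intro w hw
    obtain ⟨y, rfl⟩ := (Algebra.H1Cotangent.exact_δ_mapBaseChange Λ A B w).1 hw
    rw [Subsingleton.elim y 0, map_zero]
    exact Submodule.zero_mem _
  obtain ⟨σ, hσ⟩ := Module.projective_lifting_property (KaehlerDifferential.map Λ A B B) LinearMap.id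
    (KaehlerDifferential.map_surjective Λ A B)
  let q := LinearMap.id - σ ∘ₗ KaehlerDifferential.map Λ A B B
  have hq : ∀ ω, q ω ∈ LinearMap.range f := fun ω ↦ by
    rw [KaehlerDifferential.range_mapBaseChange]
    have := LinearMap.congr_fun hσ (KaehlerDifferential.map Λ A B B ω)
    simp only [LinearMap.comp_apply, LinearMap.id_apply] at this
    simp [q, this]
  let ρ := (LinearEquiv.ofInjective f hf).symm.toLinearMap ∘ₗ q.codRestrict _ hq
  have hρ : ρ ∘ₗ f = LinearMap.id := LinearMap.ext fun w ↦ by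
    have h0 : KaehlerDifferential.map Λ A B B (f w) = 0 :=
      (KaehlerDifferential.exact_mapBaseChange_map Λ A B (f w)).2 ⟨w, rfl⟩
    have : q.codRestrict _ hq (f w) = LinearEquiv.ofInjective f hf w :=
      Subtype.ext (by simp [q, h0])
    simp [ρ, this]
  rw [injective_iff_map_eq_zero]
  intro z hz
  have hm : Groth.Agent.EGA41Lib.middleMap K Λ A (z : TensorProduct A (B ⧸ K) Ω[A⁄Λ]) = 0 := by
    refine Groth.Agent.EGA41Lib.liftD_injOn_imperfection D hD ?_ ((hχD z).symm.trans hz)
    change KaehlerDifferential.mapBaseChange Λ B (B ⧸ K) _ = 0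
    rw [Groth.Agent.EGA41Lib.mapBaseChange_middleMap]
    exact z.2
  have h1 := congrArg (ρ.baseChange (B ⧸ K)) hm
  rw [map_zero] at h1
  have h2 : (ρ.baseChange (B ⧸ K)) ((f.baseChange (B ⧸ K))
      ((TensorProduct.AlgebraTensorModule.cancelBaseChange A B (B ⧸ K) (B ⧸ K) Ω[A⁄Λ]).symm
        (z : TensorProduct A (B ⧸ K) Ω[A⁄Λ]))) = 0 := h1
  rw [← LinearMap.comp_apply, ← LinearMap.baseChange_comp, hρ, LinearMap.baseChange_id,
    LinearMap.id_apply, LinearEquiv.map_eq_zero_iff] at h2
  exact Subtype.ext h2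

end Groth.Agent.S5834
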