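import Groth.Statements.S5835
import Groth.Agent.EGA41Lib.Admissible
import Groth.Agent.EGA41Lib.FieldSeparableSmooth
import Mathlib

set_option backward.isDefEq.respectTransparency.types false

set_option autoImplicit false
universe v w
open scoped TensorProduct
open EGA41

namespace Groth.Agent.S5835

/-- For fields k₀ ⊆ k ⊆ K ⊆ L, the map of imperfection modules Υ_{L/K/k₀} → Υ_{L/K/k} induced by
Ω_{K/k₀} → Ω_{K/k} is injective (k is k₀-admissible for the extension L of K) in each of the
following cases: L is separable over k; L is separable over K; k lies in k₀(K^p), p the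
characteristic exponent. Separable means geometrically reduced (not necessarily algebraic). -/
theorem result {k : Type v} {k₀ K L : Type w}
    [Field k₀] [Field k] [Field K] [Field L] [Algebra k₀ k] [Algebra k₀ K] [Algebra k₀ L] [Algebra k K]
    [Algebra k L] [Algebra K L] [IsScalarTower k₀ k K] [IsScalarTower k₀ k L] [IsScalarTower k₀ K L]
    [IsScalarTower k K L] (p : ℕ) [ExpChar K p]
    (h : Algebra.IsGeometricallyReduced k L ∨ Algebra.IsGeometricallyReduced K L ∨
      ∀ x : k, algebraMap k K x ∈ EGA41.pPowerSubalgebra p k₀ K) :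
    ∀ z : L ⊗[K] Ω[K⁄k₀], z ∈ EGA41.imperfection k₀ K L →
      (KaehlerDifferential.map k₀ k K K).baseChange L z = 0 → z = 0 := by
  intro z hz h0
  rw [Groth.Agent.EGA41Lib.baseChange_map_eq_zero_iff] at h0
  have h' : Algebra.IsGeometricallyReduced k L ∨ Algebra.IsGeometricallyReduced K L ∨
      (∃ q : ℕ, q.Prime ∧ CharP K q ∧ ∀ x : k, algebraMap k K x ∈ EGA41.pPowerSubalgebra q k₀ K) := by
    rcases ‹ExpChar K p› with ⟨⟩ | ⟨hp⟩
    · exact Or.inr (Or.inl (Groth.Agent.EGA41Lib.isGeometricallyReduced_of_charZero K L))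
    · exact h.imp id (Or.imp id fun h3 => ⟨p, hp, inferInstance, h3⟩)
  rcases h' with h1 | h2 | ⟨q, hq, hK, h3⟩
  · haveI := h1
    have hinj := Groth.Agent.EGA41Lib.injective_mapBaseChange_of_isGeometricallyReduced k₀ k L
    let Φ : L ⊗[k] Ω[k⁄k₀] →ₗ[L] L ⊗[K] Ω[K⁄k₀] :=
      (((TensorProduct.mk K L Ω[K⁄k₀] 1).restrictScalars k) ∘ₗ
        (KaehlerDifferential.map k₀ k₀ k K)).liftBaseChange L
    have hΦ : ∀ a : k, Φ ((1 : L) ⊗ₜ[k] KaehlerDifferential.D k₀ k a) =
        (1 : L) ⊗ₜ[K] KaehlerDifferential.D k₀ K (algebraMap k K a) := fun a => by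
      rw [LinearMap.liftBaseChange_tmul, one_smul, LinearMap.comp_apply, LinearMap.restrictScalars_apply,
        TensorProduct.mk_apply, KaehlerDifferential.map_D]
    have hmem : z ∈ LinearMap.range Φ := by
      refine Submodule.span_le.2 ?_ h0
      rintro _ ⟨a, rfl⟩
      exact ⟨_, hΦ a⟩
    obtain ⟨w, rfl⟩ := hmem
    have hcomp : ∀ w, KaehlerDifferential.mapBaseChange k₀ K L (Φ w) =
        KaehlerDifferential.mapBaseChange k₀ k L w := by
      intro w
      induction w with
      | zero => simp
      | add x y hx hy => rw [map_add, map_add, map_add, hx, hy]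
      | tmul c ω =>
        have hω : ω ∈ Submodule.span k (Set.range (KaehlerDifferential.D k₀ k)) := by
          rw [KaehlerDifferential.span_range_derivation]; trivial
        induction hω using Submodule.span_induction generalizing c with
        | mem x hx =>
          obtain ⟨a, rfl⟩ := hx
          rw [LinearMap.liftBaseChange_tmul, LinearMap.comp_apply, LinearMap.restrictScalars_apply,
            TensorProduct.mk_apply, KaehlerDifferential.map_D, map_smul,
            KaehlerDifferential.mapBaseChange_tmul, KaehlerDifferential.mapBaseChange_tmul, one_smul,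
            KaehlerDifferential.map_D, KaehlerDifferential.map_D, ← IsScalarTower.algebraMap_apply k K L]
        | zero => simp
        | add x y _ _ hx hy => rw [TensorProduct.tmul_add, map_add, map_add, map_add, hx, hy]
        | smul a x _ hx => rw [← TensorProduct.smul_tmul]; exact hx (a • c)
    have hw : KaehlerDifferential.mapBaseChange k₀ k L w = 0 := (hcomp w).symm.trans hz
    rw [(injective_iff_map_eq_zero _).1 hinj w hw, map_zero]
  · haveI := h2
    exact (injective_iff_map_eq_zero _).1
      (Groth.Agent.EGA41Lib.injective_mapBaseChange_of_isGeometricallyReduced k₀ K L) z hz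
  · have hzero : ∀ a : k, KaehlerDifferential.D k₀ K (algebraMap k K a) = 0 := by
      intro a
      haveI : Fact (Nat.Prime q) := ⟨hq⟩
      haveI := hK
      exact Groth.Agent.EGA41Lib.PB.derivation_eq_zero_of_mem_adjoin_pow _ (h3 a)
    have hbot : Groth.Agent.EGA41Lib.dSpan k₀ k K L = ⊥ := by
      rw [Groth.Agent.EGA41Lib.dSpan, Submodule.span_eq_bot]
      rintro _ ⟨a, rfl⟩
      dsimp only
      rw [hzero, TensorProduct.tmul_zero]
    rw [hbot, Submodule.mem_bot] at h0
    exact h0

end Groth.Agent.S5835
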