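import Groth.Statements.S5836
import Groth.Agent.EGA41Lib.Admissible
import Mathlib

set_option backward.isDefEq.respectTransparency.types false

set_option autoImplicit false
universe u u' u'' w
open scoped TensorProduct
open EGA41

namespace Groth.Agent.S5836

/-- For fields k ⊆ k' ⊆ k'' ⊆ K ⊆ L put Δ(L/K, a/b) = ker(Υ_{L/K/b} → Υ_{L/K/a}) ⊆ L ⊗_K Ω_{K/b}. Then 0
→ Δ(L/K, k'/k) → Δ(L/K, k''/k) → Δ(L/K, k''/k') → 0 is exact: stated as the surjectivity of the map
induced by L ⊗_K Ω_{K/k} → L ⊗_K Ω_{K/k'} (exactness on the left and in the middle hold by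
construction), together with the resulting identity of ranks d(L/K, k''/k) = d(L/K, k''/k') + d(L/K,
k'/k). -/
theorem result {k : Type u} {k' : Type u'} {k'' : Type u''} {K L : Type w}
    [Field k] [Field k'] [Field k''] [Field K] [Field L]
    [Algebra k k'] [Algebra k k''] [Algebra k' k''] [IsScalarTower k k' k'']
    [Algebra k K] [Algebra k' K] [Algebra k'' K] [IsScalarTower k k' K] [IsScalarTower k' k'' K]
    [IsScalarTower k k'' K] [Algebra K L] [Algebra k L] [Algebra k' L] [Algebra k'' L]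
    [IsScalarTower k K L] [IsScalarTower k' K L] [IsScalarTower k'' K L] :
    (∀ w : L ⊗[K] Ω[K⁄k'], w ∈ EGA41.imperfection k' K L →
        (KaehlerDifferential.map k' k'' K K).baseChange L w = 0 →
          ∃ z : L ⊗[K] Ω[K⁄k], z ∈ EGA41.imperfection k K L ∧
            (KaehlerDifferential.map k k'' K K).baseChange L z = 0 ∧
              (KaehlerDifferential.map k k' K K).baseChange L z = w) ∧
      Module.rank L ↥(EGA41.imperfection k K L ⊓
            LinearMap.ker ((KaehlerDifferential.map k k'' K K).baseChange L)) =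
        Module.rank L ↥(EGA41.imperfection k' K L ⊓
              LinearMap.ker ((KaehlerDifferential.map k' k'' K K).baseChange L)) +
          Module.rank L ↥(EGA41.imperfection k K L ⊓
              LinearMap.ker ((KaehlerDifferential.map k k' K K).baseChange L)) := by
  let f₁₂ := (KaehlerDifferential.map k k' K K).baseChange L
  let f₁₃ := (KaehlerDifferential.map k k'' K K).baseChange L
  let f₂₃ := (KaehlerDifferential.map k' k'' K K).baseChange L
  have hcomp : ∀ z, f₂₃ (f₁₂ z) = f₁₃ z := Groth.Agent.EGA41Lib.baseChange_map_comp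
  have hT : IsScalarTower k k' L := .of_algebraMap_eq fun x => by
    rw [IsScalarTower.algebraMap_apply k K L, IsScalarTower.algebraMap_apply k' K L,
      ← IsScalarTower.algebraMap_apply k k' K]
  have hsurj : ∀ w : L ⊗[K] Ω[K⁄k'], w ∈ EGA41.imperfection k' K L → f₂₃ w = 0 →
      ∃ z : L ⊗[K] Ω[K⁄k], z ∈ EGA41.imperfection k K L ∧ f₁₃ z = 0 ∧ f₁₂ z = w := by
    intro w hw hw0
    obtain ⟨z, rfl⟩ : ∃ z, f₁₂ z = w := LinearMap.lTensor_surjective L (KaehlerDifferential.map_surjective k k' K) w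
    have h1 : KaehlerDifferential.map k k' L L (KaehlerDifferential.mapBaseChange k K L z) = 0 :=
      (Groth.Agent.EGA41Lib.mapBaseChange_comp_baseChange_map z).symm.trans hw
    obtain ⟨v, hv, hvz⟩ := Groth.Agent.EGA41Lib.exists_mem_dSpan_mapBaseChange_eq (K := K) _ h1
    have hv0 : f₁₂ v = 0 := Groth.Agent.EGA41Lib.baseChange_map_eq_zero_of_mem_dSpan hv
    refine ⟨z - v, ?_, ?_, ?_⟩
    · change KaehlerDifferential.mapBaseChange k K L (z - v) = 0
      rw [map_sub, hvz, sub_self]
    · rw [map_sub, ← hcomp, hw0, ← hcomp, hv0, map_zero, sub_zero]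
    · rw [map_sub, hv0, sub_zero]
  refine ⟨hsurj, ?_⟩
  have hmaps : ∀ z ∈ EGA41.imperfection k K L ⊓ LinearMap.ker f₁₃,
      f₁₂ z ∈ EGA41.imperfection k' K L ⊓ LinearMap.ker f₂₃ := by
    rintro z ⟨hz, hz'⟩
    refine ⟨?_, ?_⟩
    · change KaehlerDifferential.mapBaseChange k' K L (f₁₂ z) = 0
      rw [Groth.Agent.EGA41Lib.mapBaseChange_comp_baseChange_map,
        show KaehlerDifferential.mapBaseChange k K L z = 0 from hz, map_zero]
    · change f₂₃ (f₁₂ z) = 0
      rw [hcomp]
      exact hz'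
  let φ := f₁₂.restrict hmaps
  have hφ : Function.Surjective φ := fun w => by
    obtain ⟨z, hz1, hz2, hz3⟩ := hsurj w.1 w.2.1 w.2.2
    exact ⟨⟨z, hz1, hz2⟩, Subtype.ext hz3⟩
  have hr := LinearMap.rank_range_add_rank_ker (R := L) (M := ↥(EGA41.imperfection k K L ⊓ LinearMap.ker f₁₃)) (M₁ := ↥(EGA41.imperfection k' K L ⊓ LinearMap.ker f₂₃)) φ
  rw [LinearMap.range_eq_top.2 hφ, rank_top] at hr
  refine hr.symm.trans ?_
  congr 1
  exact LinearEquiv.rank_eq
    { toFun := fun z => ⟨z.1.1, z.1.2.1, congrArg Subtype.val z.2⟩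
      map_add' := fun _ _ => rfl
      map_smul' := fun _ _ => rfl
      invFun := fun z => ⟨⟨z.1, z.2.1, by
        change f₁₃ z.1 = 0
        rw [← hcomp, show f₁₂ z.1 = 0 from z.2.2, map_zero]⟩, Subtype.ext z.2.2⟩
      left_inv := fun _ => rfl
      right_inv := fun _ => rfl }

end Groth.Agent.S5836
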