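import Groth.Statements.S5837
import Groth.Agent.EGA41Lib.Admissible
import Mathlib

set_option backward.isDefEq.respectTransparency.types false

set_option autoImplicit false
universe u u' w
open scoped TensorProduct
open EGA41

namespace Groth.Agent.S5837

/-- Rank form. For fields k₀ ⊆ k ⊆ K ⊆ L ⊆ M, with Δ(F/E, k/k₀) = ker(Υ_{F/E/k₀} → Υ_{F/E/k}) and d its
rank, one has d(M/K, k/k₀) = d(M/L, k/k₀) + d(L/K, k/k₀) (cardinal ranks; the published statement
gives the short exact sequence 0 → Δ(L/K, k/k₀) ⊗_L M → Δ(M/K, k/k₀) → Δ(M/L, k/k₀) → 0, of which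
this row states the rank identity). -/
theorem result {k₀ : Type u} {k : Type u'} {K L M : Type w}
    [Field k₀] [Field k] [Field K] [Field L] [Field M] [Algebra k₀ k]
    [Algebra k₀ K] [Algebra k K] [IsScalarTower k₀ k K] [Algebra k₀ L] [Algebra k L] [IsScalarTower k₀ k L]
    [Algebra K L] [Algebra K M] [Algebra L M] [IsScalarTower K L M]
    [Algebra k₀ M] [Algebra k M] [IsScalarTower k₀ K L] [IsScalarTower k K L]
    [IsScalarTower k₀ K M] [IsScalarTower k K M] [IsScalarTower k₀ L M] [IsScalarTower k L M] :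
    Module.rank M ↥(EGA41.imperfection k₀ K M ⊓
          LinearMap.ker ((KaehlerDifferential.map k₀ k K K).baseChange M)) =
      Module.rank M ↥(EGA41.imperfection k₀ L M ⊓
            LinearMap.ker ((KaehlerDifferential.map k₀ k L L).baseChange M)) +
        Module.rank L ↥(EGA41.imperfection k₀ K L ⊓
            LinearMap.ker ((KaehlerDifferential.map k₀ k K K).baseChange L)) := by
  let fK := (KaehlerDifferential.map k₀ k K K).baseChange M
  let fL := (KaehlerDifferential.map k₀ k L L).baseChange M
  let e := TensorProduct.AlgebraTensorModule.cancelBaseChange K L M M Ω[K⁄k₀]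
  let ψ : M ⊗[K] Ω[K⁄k₀] →ₗ[M] M ⊗[L] Ω[L⁄k₀] :=
    (KaehlerDifferential.mapBaseChange k₀ K L).baseChange M ∘ₗ e.symm.toLinearMap
  have hψ : ∀ (c : M) (ω : Ω[K⁄k₀]), ψ (c ⊗ₜ[K] ω) = c ⊗ₜ[L] KaehlerDifferential.map k₀ k₀ K L ω := by
    intro c ω; simp [ψ, e]
  have hψD : ∀ (c : M) (a : K), ψ (c ⊗ₜ[K] KaehlerDifferential.D k₀ K a) =
      c ⊗ₜ[L] KaehlerDifferential.D k₀ L (algebraMap K L a) := by
    intro c a; rw [hψ, KaehlerDifferential.map_D]
  have hmbc : ∀ z, KaehlerDifferential.mapBaseChange k₀ L M (ψ z) = KaehlerDifferential.mapBaseChange k₀ K M z := by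
    intro z
    induction z with
    | zero => simp
    | add x y hx hy => rw [map_add, map_add, map_add, hx, hy]
    | tmul c ω =>
      have hω : ω ∈ Submodule.span K (Set.range (KaehlerDifferential.D k₀ K)) := by
        rw [KaehlerDifferential.span_range_derivation]; trivial
      induction hω using Submodule.span_induction generalizing c with
      | mem x hx =>
        obtain ⟨a, rfl⟩ := hx
        rw [hψD, KaehlerDifferential.mapBaseChange_tmul, KaehlerDifferential.mapBaseChange_tmul,
          KaehlerDifferential.map_D, KaehlerDifferential.map_D, ← IsScalarTower.algebraMap_apply K L M]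
      | zero => simp
      | add x y _ _ hx hy => rw [TensorProduct.tmul_add, map_add, map_add, map_add, hx, hy]
      | smul a x _ hx => rw [← TensorProduct.smul_tmul]; exact hx (a • c)
  let fK' := (KaehlerDifferential.map k₀ k K K).baseChange L
  have hψspan : ∀ z ∈ Groth.Agent.EGA41Lib.dSpan k₀ k K M, ψ z ∈ Groth.Agent.EGA41Lib.dSpan k₀ k L M := by
    intro z hz
    induction hz using Submodule.span_induction with
    | mem x hx =>
      obtain ⟨a, rfl⟩ := hx
      rw [hψD, ← IsScalarTower.algebraMap_apply k K L]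
      exact Submodule.subset_span ⟨a, rfl⟩
    | zero => rw [map_zero]; exact Submodule.zero_mem _
    | add x y _ _ hx hy => rw [map_add]; exact Submodule.add_mem _ hx hy
    | smul a x _ hx => rw [map_smul]; exact Submodule.smul_mem _ _ hx
  have hmaps : ∀ z ∈ EGA41.imperfection k₀ K M ⊓ LinearMap.ker fK,
      ψ z ∈ EGA41.imperfection k₀ L M ⊓ LinearMap.ker fL := by
    rintro z ⟨hz, hz'⟩
    exact ⟨(hmbc z).trans hz, Groth.Agent.EGA41Lib.baseChange_map_eq_zero_of_mem_dSpan
      (hψspan z ((Groth.Agent.EGA41Lib.baseChange_map_eq_zero_iff z).1 hz'))⟩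
  let φ := ψ.restrict hmaps
  have hφ : Function.Surjective φ := by
    rintro ⟨w, hw, hw'⟩
    have hw'' := (Groth.Agent.EGA41Lib.baseChange_map_eq_zero_iff w).1 hw'
    obtain ⟨v, hv, rfl⟩ : w ∈ (Groth.Agent.EGA41Lib.dSpan k₀ k K M).map ψ := by
      refine Submodule.span_le.2 ?_ hw''
      rintro _ ⟨a, rfl⟩
      exact ⟨_, Submodule.subset_span ⟨a, rfl⟩, by rw [hψD, ← IsScalarTower.algebraMap_apply k K L]⟩
    exact ⟨⟨v, (hmbc v).symm.trans hw, Groth.Agent.EGA41Lib.baseChange_map_eq_zero_of_mem_dSpan hv⟩, rfl⟩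
  have hr := LinearMap.rank_range_add_rank_ker (R := M) (M := ↥(EGA41.imperfection k₀ K M ⊓ LinearMap.ker fK)) (M₁ := ↥(EGA41.imperfection k₀ L M ⊓ LinearMap.ker fL)) φ
  rw [LinearMap.range_eq_top.2 hφ, rank_top] at hr
  refine hr.symm.trans ?_
  congr 1
  let Δ := EGA41.imperfection k₀ K L ⊓ LinearMap.ker fK'
  let g := (KaehlerDifferential.mapBaseChange k₀ K L).prod fK'
  have hexact : Function.Exact Δ.subtype g := by
    intro x
    constructor
    · intro hx
      exact ⟨⟨x, congrArg Prod.fst hx, congrArg Prod.snd hx⟩, rfl⟩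
    · rintro ⟨y, rfl⟩
      exact Prod.ext y.2.1 y.2.2
  let ι := e.toLinearMap ∘ₗ Δ.subtype.baseChange M
  have hι : Function.Injective ι :=
    e.injective.comp (Module.Flat.lTensor_preserves_injective_linearMap Δ.subtype Subtype.val_injective)
  have hexactM := Module.Flat.lTensor_exact (R := L) M (N := ↥Δ) (N' := L ⊗[K] Ω[K⁄k₀]) (f := Δ.subtype) (g := g) hexact
  let e' := TensorProduct.AlgebraTensorModule.cancelBaseChange K L M M Ω[K⁄k]
  have hfKK : ∀ y : M ⊗[L] (L ⊗[K] Ω[K⁄k₀]), fK (e y) = e' (fK'.baseChange M y) := by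
    intro y
    induction y with
    | zero => simp
    | add x y hx hy => rw [map_add, map_add, map_add, map_add, hx, hy]
    | tmul c u =>
      induction u with
      | zero => simp
      | add x y hx hy => rw [TensorProduct.tmul_add, map_add, map_add, map_add, map_add, hx, hy]
      | tmul l ω => simp [fK, fK', e, e']
  have hrange : LinearMap.range ι = EGA41.imperfection k₀ K M ⊓ LinearMap.ker fK ⊓ LinearMap.ker ψ := by
    apply le_antisymm
    · rintro _ ⟨y, rfl⟩
      have h1 : g.baseChange M (Δ.subtype.baseChange M y) = 0 := hexactM.apply_apply_eq_zero y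
      have h2 : (KaehlerDifferential.mapBaseChange k₀ K L).baseChange M (Δ.subtype.baseChange M y) = 0 := by
        have := congrArg ((LinearMap.fst L _ _).baseChange M) h1
        rwa [map_zero, ← LinearMap.comp_apply, ← LinearMap.baseChange_comp, LinearMap.fst_prod] at this
      have h3 : fK'.baseChange M (Δ.subtype.baseChange M y) = 0 := by
        have := congrArg ((LinearMap.snd L _ _).baseChange M) h1
        rwa [map_zero, ← LinearMap.comp_apply, ← LinearMap.baseChange_comp, LinearMap.snd_prod] at this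
      have h4 : ψ (ι y) = 0 := by
        simp only [ψ, ι, LinearMap.comp_apply, LinearEquiv.coe_coe, LinearEquiv.symm_apply_apply]
        exact h2
      refine ⟨⟨?_, ?_⟩, h4⟩
      · change KaehlerDifferential.mapBaseChange k₀ K M (ι y) = 0
        rw [← hmbc, h4, map_zero]
      · change fK (e _) = 0
        rw [hfKK, h3, map_zero]
    · rintro z ⟨⟨hz, hz'⟩, hz''⟩
      have h2 : (KaehlerDifferential.mapBaseChange k₀ K L).baseChange M (e.symm z) = 0 := hz''
      have h3 : fK'.baseChange M (e.symm z) = 0 := by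
        apply e'.injective
        rw [← hfKK, LinearEquiv.apply_symm_apply, map_zero]
        exact hz'
      have h1 : g.baseChange M (e.symm z) = 0 := by
        have hg : g = LinearMap.inl L _ _ ∘ₗ KaehlerDifferential.mapBaseChange k₀ K L +
            LinearMap.inr L _ _ ∘ₗ fK' := by
          ext x <;> simp [g]
        rw [hg, LinearMap.baseChange_add, LinearMap.add_apply, LinearMap.baseChange_comp,
          LinearMap.baseChange_comp, LinearMap.comp_apply, LinearMap.comp_apply, h2, h3, map_zero, map_zero,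
          add_zero]
      obtain ⟨y, hy⟩ := (hexactM _).1 h1
      exact ⟨y, by simp [ι, show Δ.subtype.baseChange M y = e.symm z from hy]⟩
  have hker : Module.rank M ↥(LinearMap.ker φ) = Module.rank M ↥(LinearMap.range ι) := by
    rw [hrange]
    exact LinearEquiv.rank_eq
      { toFun := fun z => ⟨z.1.1, z.1.2, congrArg Subtype.val z.2⟩
        map_add' := fun _ _ => rfl
        map_smul' := fun _ _ => rfl
        invFun := fun z => ⟨⟨z.1, z.2.1⟩, Subtype.ext z.2.2⟩
        left_inv := fun _ => rfl
        right_inv := fun _ => rfl }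
  haveI : Module.Free L ↥Δ := @Module.Free.of_divisionRing L ↥Δ _ Δ.addCommGroup Δ.module
  rw [hker, ← (LinearEquiv.ofInjective ι hι).rank_eq, Module.rank_baseChange, Cardinal.lift_id]

end Groth.Agent.S5837
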