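import Groth.Statements.S5840
import Groth.Agent.DCat.ModulesGrothendieck
import Groth.Agent.ZClosLib.Criterion
import Groth.Agent.DCat.FlatPull

set_option autoImplicit false
universe u
open ZClos

namespace Groth.Agent.S5840

open CategoryTheory CategoryTheory.Limits AlgebraicGeometry in
/-- For a locally Noetherian scheme X and a subset Z of X stable under specialization, the Z-closure
functor F ↦ H⁰_{X/Z}(F) on O_X-modules (the filtered colimit, over the closed subsets T of X inside
Z, of the direct images of the restrictions of F to X ∖ T) is left exact: it preserves finite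
limits. -/
theorem result (X : Scheme.{u}) [IsLocallyNoetherian X] (Z : Set X)
    (hZ : StableUnderSpecialization Z) : PreservesFiniteLimits (ZClos.H0 Z) := by
  haveI h0 : ∀ T : Cl Z, PreservesFiniteLimits (Scheme.Modules.restrictFunctor T.U.ι) := fun T =>
    preservesFiniteLimits_of_natIso (Scheme.Modules.restrictFunctorIsoPullback T.U.ι).symm
  haveI h1 : ∀ T : Cl Z, PreservesFiniteLimits (resPush (X := X) T.U) := fun T =>
    comp_preservesFiniteLimits _ _
  haveI h2 : PreservesFiniteLimits (diagram Z) := ⟨fun J _ _ =>
    ⟨fun {K} => preservesLimit_of_evaluation _ _ fun T =>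
      show PreservesLimit K (resPush T.U) from inferInstance⟩⟩
  haveI h3 : PreservesFiniteLimits (colim : (Cl Z ⥤ X.Modules) ⥤ X.Modules) := inferInstance
  exact comp_preservesFiniteLimits (diagram Z) colim

end Groth.Agent.S5840
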