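import Groth.Statements.S5842
import Groth.Agent.ZClosLib.Criterion

set_option autoImplicit false
universe u
open ZClos

namespace Groth.Agent.S5842

open CategoryTheory CategoryTheory.Limits AlgebraicGeometry in
/-- a) ⇔ a'), injective case: for a locally Noetherian scheme X, a subset Z of X stable under
specialization and an arbitrary O_X-module F, the canonical map ρ_{X/Z} : F → H⁰_{X/Z}(F) is
injective (F is Z-pure) if and only if, for every closed subset T of X contained in Z, the canonical
map from F to the direct image of its restriction to X ∖ T is injective. -/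
theorem result (X : Scheme.{u}) [IsLocallyNoetherian X] (Z : Set X)
    (hZ : StableUnderSpecialization Z) (F : X.Modules) :
    ZClos.IsZPure Z F ↔ ∀ T : ZClos.Cl Z, Mono (ZClos.toDiagram Z F T) := by
  constructor
  · intro h T
    haveI : Mono (rhoApp Z F) := h
    exact @mono_of_mono_fac _ _ _ _ _ _ _ _ (h : Mono (rhoApp Z F)) (rhoApp_eq Z F T).symm
  · intro h
    refine ZClosLib.isZPure_of_injective hZ F fun T V _ s t hst => ?_
    haveI := h T
    refine ZClosLib.injective_app_of_mono (toDiagram Z F T) V ?_
    have hle : T.U.ι ''ᵁ T.U.ι ⁻¹ᵁ V ≤ V ⊓ T.U := fun y hy =>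
      ⟨(ZClosLib.mem_img.1 hy).2, (ZClosLib.mem_img.1 hy).1⟩
    have := congrArg (ZClosLib.res F hle) hst
    rw [ZClosLib.res_res, ZClosLib.res_res] at this
    exact this

end Groth.Agent.S5842
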