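import Groth.Statements.S5843
import Groth.Agent.ZClosLib.Criterion

set_option autoImplicit false
universe u
open ZClos

namespace Groth.Agent.S5843

open CategoryTheory CategoryTheory.Limits AlgebraicGeometry in
/-- a) ⇔ a'), bijective case: for a locally Noetherian scheme X, a subset Z of X stable under
specialization and an arbitrary O_X-module F, the canonical map ρ_{X/Z} : F → H⁰_{X/Z}(F) is
bijective (F is Z-closed) if and only if, for every closed subset T of X contained in Z, the
canonical map from F to the direct image of its restriction to X ∖ T is bijective. -/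
theorem result (X : Scheme.{u}) [IsLocallyNoetherian X] (Z : Set X)
    (hZ : StableUnderSpecialization Z) (F : X.Modules) :
    ZClos.IsZClosed Z F ↔ ∀ T : ZClos.Cl Z, IsIso (ZClos.toDiagram Z F T) := by
  constructor
  · intro h T
    have hc := (ZClosLib.isZClosed_iff hZ F).1 h
    refine Scheme.Modules.Hom.isIso_iff_isIso_app.2 fun V => (ConcreteCategory.isIso_iff_bijective _).2 ?_
    have hoff : ∀ y ∈ V, y ∉ T.U.ι ''ᵁ T.U.ι ⁻¹ᵁ V → y ∈ Z := fun y hy hy' => by
      by_contra hyZ
      exact hy' (ZClosLib.mem_img.2 ⟨ZClosLib.mem_U hyZ, hy⟩)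
    exact ⟨ZClosLib.injective_res_of_pure (T.U.ι.image_preimage_le V) (fun x _ => (hc x).1) hoff,
      ZClosLib.surjective_res_of_closed (T.U.ι.image_preimage_le V) (fun x _ => hc x) hoff⟩
  · intro h
    haveI hd : ∀ {T T' : Cl Z} (f : T ⟶ T'), IsIso (((diagram Z).obj F).map f) := fun {T T'} f => by
      haveI := h T
      haveI := h T'
      exact IsIso.of_isIso_fac_left (toDiagram_map Z F f)
    have hι : IsIso (colimit.ι ((diagram Z).obj F) (⊥ : Cl Z)) :=
      isIso_ι_of_isInitial (IsInitial.ofUniqueHom (fun T => homOfLE bot_le) fun _ _ => Subsingleton.elim _ _) _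
    haveI := h ⊥
    show IsIso (rhoApp Z F)
    rw [rhoApp_eq Z F ⊥]
    exact IsIso.comp_isIso' (h ⊥) hι

end Groth.Agent.S5843
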