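import Groth.Statements.S5845
import Groth.Agent.ZClosLib.Criterion

set_option autoImplicit false
universe u
open ZClos

namespace Groth.Agent.S5845

open CategoryTheory CategoryTheory.Limits AlgebraicGeometry in
/-- a) ⇔ b'), bijective case: for a locally Noetherian scheme X, a subset Z of X stable under
specialization and an arbitrary O_X-module F, F is Z-closed if and only if for every closed subset T
of X contained in Z and every quasi-compact (that is, Noetherian) open subset V of X, the
restriction map Γ(V, F) → Γ(V ∩ (X ∖ T), F) is bijective. -/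
theorem result (X : Scheme.{u}) [IsLocallyNoetherian X] (Z : Set X)
    (hZ : StableUnderSpecialization Z) (F : X.Modules) :
    ZClos.IsZClosed Z F ↔ ∀ (T : ZClos.Cl Z) (V : X.Opens), IsCompact (V : Set X) →
      Function.Bijective (F.presheaf.map (homOfLE (inf_le_left : V ⊓ T.U ≤ V)).op) := by
  refine ⟨fun h T V _ => ?_, fun h => ZClosLib.isZClosed_of_bijective hZ F h⟩
  have hc := (ZClosLib.isZClosed_iff hZ F).1 h
  have hoff : ∀ y ∈ V, y ∉ V ⊓ T.U → y ∈ Z := fun y hy hy' => by
    by_contra hyZ
    exact hy' ⟨hy, ZClosLib.mem_U hyZ⟩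
  exact ⟨ZClosLib.injective_res_of_pure inf_le_left (fun x _ => (hc x).1) hoff,
    ZClosLib.surjective_res_of_closed inf_le_left (fun x _ => hc x) hoff⟩

end Groth.Agent.S5845
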