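import Groth.Statements.S5847
import Groth.Agent.ZClosLib.Restrict

set_option autoImplicit false
universe u
open ZClos

namespace Groth.Agent.S5847

open CategoryTheory CategoryTheory.Limits AlgebraicGeometry in
/-- For a locally Noetherian scheme X, a subset Z of X stable under specialization, an O_X-module F and
an open covering (V_i) of X, F is Z-closed if and only if, for every i, the restriction of F to the
open subscheme V_i is (Z ∩ V_i)-closed. -/
theorem result (X : Scheme.{u}) [IsLocallyNoetherian X] (Z : Set X)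
    (hZ : StableUnderSpecialization Z) (F : X.Modules) {ι : Type u} (V : ι → X.Opens) (hV : iSup V = ⊤) :
    ZClos.IsZClosed Z F ↔
      ∀ i, ZClos.IsZClosed ((V i).ι.base ⁻¹' Z) ((Scheme.Modules.restrictFunctor (V i).ι).obj F) := by
  have hi : ∀ i, IsLocallyNoetherian (V i : Scheme.{u}) := fun i =>
    isLocallyNoetherian_of_isOpenImmersion (V i).ι
  have hst : ∀ i, StableUnderSpecialization ((V i).ι.base ⁻¹' Z) := fun i =>
    hZ.preimage (V i).ι.continuous
  rw [ZClosLib.isZClosed_iff hZ F]
  refine ⟨fun h i => (ZClosLib.isZClosed_iff (hst i) _).2 fun y => (and_congr (ZClosLib.pureAt_restrict (V i).ι F Z y) (ZClosLib.extAt_restrict (V i).ι F Z y)).2 (h _), fun h x => ?_⟩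
  obtain ⟨i, hi'⟩ := TopologicalSpace.Opens.mem_iSup.1 (show x ∈ iSup V by rw [hV]; trivial)
  let y : (V i : Scheme.{u}) := ⟨x, hi'⟩
  exact (and_congr (ZClosLib.pureAt_restrict (V i).ι F Z y) (ZClosLib.extAt_restrict (V i).ι F Z y)).1 ((ZClosLib.isZClosed_iff (hst i) _).1 (h i) y)

end Groth.Agent.S5847
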