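import Groth.Statements.S5848
import Groth.Agent.ZClosLib.Criterion

set_option autoImplicit false
universe u
open ZClos

namespace Groth.Agent.S5848

open CategoryTheory CategoryTheory.Limits AlgebraicGeometry in
/-- For a locally Noetherian scheme X, subsets Z' ⊆ Z of X both stable under specialization and an
O_X-module F: if F is Z-pure then F is Z'-pure, and if F is Z-closed then F is Z'-closed. -/
theorem result (X : Scheme.{u}) [IsLocallyNoetherian X] (Z Z' : Set X)
    (hZ : StableUnderSpecialization Z) (hZ' : StableUnderSpecialization Z') (h : Z' ⊆ Z) (F : X.Modules) :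
    (ZClos.IsZPure Z F → ZClos.IsZPure Z' F) ∧ (ZClos.IsZClosed Z F → ZClos.IsZClosed Z' F) := by
  constructor
  · intro hp
    refine (ZClosLib.isZPure_iff hZ' F).2 fun x W s hx hs => ?_
    exact (ZClosLib.isZPure_iff hZ F).1 hp x W s hx fun y hy hyZ => hs y hy fun hy' => hyZ (h hy')
  · intro hcl
    have hc := (ZClosLib.isZClosed_iff hZ F).1 hcl
    refine (ZClosLib.isZClosed_iff hZ' F).2 fun x => ⟨fun W s hx hs => (hc x).1 W s hx fun y hy hyZ =>
      hs y hy fun hy' => hyZ (h hy'), fun W W' s hxW hW hoff => ?_⟩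
    obtain ⟨N, f, hxN, hf⟩ := (hc x).2 W W' s hxW hW fun y hy hy' => h (hoff y hy hy')
    refine ⟨N, f, hxN, fun y hyN hy _ => ?_⟩
    have e : ZClosLib.res F (inf_le_left : N ⊓ W' ≤ N) f - ZClosLib.res F (inf_le_right : N ⊓ W' ≤ W') s = 0 :=
      ZClosLib.eq_zero_of_pure (fun z _ => (hc z).1) _ fun z hz hzZ => by
        rw [map_sub, ZClosLib.germ_res, ZClosLib.germ_res, hf z hz.1 hz.2 hzZ, sub_self]
    rw [← ZClosLib.germ_res F (inf_le_left : N ⊓ W' ≤ N) f y ⟨hyN, hy⟩, sub_eq_zero.1 e, ZClosLib.germ_res]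

end Groth.Agent.S5848
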