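import Groth.Statements.S5850
import Groth.Agent.ZClosLib.Criterion

set_option autoImplicit false
universe u
open ZClos

namespace Groth.Agent.S5850

open CategoryTheory CategoryTheory.Limits AlgebraicGeometry in
/-- For a locally Noetherian scheme X, a subset Z of X stable under specialization and an arbitrary
O_X-module F, the Z-closure H⁰_{X/Z}(F) is itself Z-closed. -/
theorem result (X : Scheme.{u}) [IsLocallyNoetherian X] (Z : Set X)
    (hZ : StableUnderSpecialization Z) (F : X.Modules) :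
    ZClos.IsZClosed Z ((ZClos.H0 Z).obj F) := by
  refine (ZClosLib.isZClosed_iff hZ _).2 fun x => ⟨fun W s hx hs => ?_, fun W W' σ hxW hW hoff => ?_⟩
  · rw [ZClosLib.H0_pure hZ F s hs, map_zero]
  · obtain ⟨V, hV, hxV, hVW⟩ := exists_isAffineOpen_mem_and_subset (x := x) (U := W) hxW
    replace hVW : V ≤ W := hVW
    obtain ⟨W₁, hW₁, s, hoff₁, hs⟩ := ZClosLib.exists_rep' F (ZClosLib.isCompact_of_le hV.isCompact _
      (inf_le_left : V ⊓ W' ≤ V)) (ZClosLib.res _ (inf_le_right : V ⊓ W' ≤ W') σ)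
    obtain ⟨τ, hτ⟩ := ZClosLib.exists_ext hZ F hV.isCompact W₁ (fun y hy hy' => by
      by_cases hyW : y ∈ W'
      · exact hoff₁ y ⟨hy, hyW⟩ hy'
      · exact hoff y (hVW hy) hyW) s
    refine ⟨V, τ, hxV, fun y hyV hy hyZ => ?_⟩
    have hy₁ : y ∈ W₁ := by
      by_contra hc
      exact hyZ (hoff₁ y ⟨hyV, hy⟩ hc)
    rw [hτ y hyV hy₁ hyZ, ← hs y hy₁, ZClosLib.germ_res]

end Groth.Agent.S5850
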