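import Groth.Statements.S5851
import Groth.Agent.ZClosLib.Universal

set_option autoImplicit false
universe u
open ZClos

namespace Groth.Agent.S5851

open CategoryTheory CategoryTheory.Limits AlgebraicGeometry in
/-- For a locally Noetherian scheme X, a subset Z of X stable under specialization, O_X-modules F and F'
with F' Z-closed, and a homomorphism u : F → F', there is exactly one homomorphism v : H⁰_{X/Z}(F) →
F' with u = v ∘ ρ_{X/Z}. -/
theorem result (X : Scheme.{u}) [IsLocallyNoetherian X] (Z : Set X)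
    (hZ : StableUnderSpecialization Z) (F F' : X.Modules) (hF' : ZClos.IsZClosed Z F') (u : F ⟶ F') :
    ∃! v : (ZClos.H0 Z).obj F ⟶ F', ZClos.rhoApp Z F ≫ v = u := by
  haveI : IsIso (rhoApp Z F') := hF'
  refine ⟨(H0 Z).map u ≫ inv (rhoApp Z F'), ?_, fun w hw => ?_⟩
  · have h : rhoApp Z F ≫ (H0 Z).map u = u ≫ rhoApp Z F' := ((rho Z).naturality u).symm
    show rhoApp Z F ≫ (H0 Z).map u ≫ inv (rhoApp Z F') = u
    rw [← Category.assoc, h, Category.assoc, IsIso.hom_inv_id, Category.comp_id]
  · refine ZClosLib.hom_ext_rho ((ZClosLib.isZPure_iff hZ F').1 (inferInstanceAs (Mono (rhoApp Z F')))) _ _ ?_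
    have h : rhoApp Z F ≫ (H0 Z).map u = u ≫ rhoApp Z F' := ((rho Z).naturality u).symm
    rw [hw, ← Category.assoc, h, Category.assoc, IsIso.hom_inv_id, Category.comp_id]

end Groth.Agent.S5851
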