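import Groth.Statements.S5852
import Groth.Agent.ZClosLib.Universal
import Groth.Agent.S5850

set_option autoImplicit false
universe u
open ZClos

namespace Groth.Agent.S5852

open CategoryTheory CategoryTheory.Limits AlgebraicGeometry in
/-- For a locally Noetherian scheme X, a subset Z of X stable under specialization, O_X-modules F and F'
with F' Z-closed, and a homomorphism u : F → F' whose kernel and cokernel have support inside Z (the
map induced by u on stalks is bijective at every point outside Z): the homomorphism v : H⁰_{X/Z}(F)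
→ F' with u = v ∘ ρ_{X/Z} is an isomorphism. -/
theorem result (X : Scheme.{u}) [IsLocallyNoetherian X] (Z : Set X)
    (hZ : StableUnderSpecialization Z) (F F' : X.Modules) (hF' : ZClos.IsZClosed Z F') (u : F ⟶ F')
    (hu : ∀ x : X, x ∉ Z →
      Function.Bijective ((TopCat.Presheaf.stalkFunctor (C := Ab.{u}) x).map u.mapPresheaf))
    (v : (ZClos.H0 Z).obj F ⟶ F') (hv : ZClos.rhoApp Z F ≫ v = u) : IsIso v := by
  refine ZClosLib.isIso_of_bijective_off hZ ((ZClosLib.isZClosed_iff hZ F').1 hF') v (fun y hy => ?_)
    fun x => ((ZClosLib.isZClosed_iff hZ _).1 (Groth.Agent.S5850.result X Z hZ F) x).2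
  refine ((ZClosLib.bijective_rhoStalk (Z := Z) F hy).of_comp_iff _).1 ?_
  have e : ⇑(ZClosLib.stalkMap v y) ∘ ⇑(rhoStalk Z F y) = ⇑(ZClosLib.stalkMap u y) := funext fun z => by
    rw [← hv]
    exact (ZClosLib.stalkMap_comp_apply (rhoApp Z F) v y z).symm
  rw [e]
  exact hu y hy

end Groth.Agent.S5852
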