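import Groth.Statements.S5854
import Groth.Agent.ZClosLib.FlatPull
import Groth.Agent.ZClosLib.Descent
import Groth.Agent.Coherent.RpushLeray

set_option autoImplicit false
universe u
open ZClos

namespace Groth.Agent.S5854

open CategoryTheory CategoryTheory.Limits AlgebraicGeometry in
/-- Let f : X' → X be a flat morphism of locally Noetherian schemes, Z a subset of X stable under
specialization, Z' = f⁻¹(Z) and F a quasi-coherent O_X-module. If H⁰_{X/Z}(F) is coherent then
H⁰_{X'/Z'}(f^* F) is coherent; the converse holds when f is moreover surjective (faithfully flat)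
and quasi-compact. -/
theorem result {X X' : Scheme.{u}} [IsLocallyNoetherian X] [IsLocallyNoetherian X'] (f : X' ⟶ X) [Flat f]
    (Z : Set X) (hZ : StableUnderSpecialization Z) (F : X.Modules) (hF : Coh.IsQCoh F) :
    (Coh.IsCoh ((ZClos.H0 Z).obj F) →
      Coh.IsCoh ((ZClos.H0 (f.base ⁻¹' Z)).obj ((Scheme.Modules.pullback f).obj F))) ∧
    (Surjective f → QuasiCompact f →
      Coh.IsCoh ((ZClos.H0 (f.base ⁻¹' Z)).obj ((Scheme.Modules.pullback f).obj F)) →
        Coh.IsCoh ((ZClos.H0 Z).obj F)) := by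
  obtain ⟨e⟩ := ZClosLib.nonempty_pullback_H0_iso f hZ F hF
  refine ⟨fun h => Coherent.isCoh_of_iso e (ZClosLib.isCoh_pullback f _ h), fun hs hqc h => ?_⟩
  exact ZClosLib.isCoh_of_pullback f _ (ZClosLib.isQCoh_H0 Z F hF) (Coherent.isCoh_of_iso e.symm h)

end Groth.Agent.S5854
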