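import Groth.Statements.S5859
import Groth.Agent.ZClosLib.DepthApps

set_option autoImplicit false
universe u
open ZClos

namespace Groth.Agent.S5859

open CategoryTheory CategoryTheory.Limits AlgebraicGeometry in
/-- For a locally Noetherian scheme X, a subset Z of X stable under specialization and a coherent
O_X-module F whose Z-closure H⁰_{X/Z}(F) is coherent, let U be the set of points x such that the
stalk F_{x'} has depth at least 2 at every generization x' of x lying in Z. Then U is open, X ∖ U ⊆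
Z, the restriction of F to U is (Z ∩ U)-closed, and every open subset V of X such that F|V is (Z ∩
V)-closed is contained in U. -/
theorem result (X : Scheme.{u}) [IsLocallyNoetherian X] (Z : Set X)
    (hZ : StableUnderSpecialization Z) (F : X.Modules) (hF : Coh.IsCoh F)
    (hH : Coh.IsCoh ((ZClos.H0 Z).obj F)) :
    ∃ U : X.Opens, (U : Set X) = {x | ∀ x' : X, x' ⤳ x → x' ∈ Z →
        (2 : ℕ∞) ≤ LocCoh.depth (X.presheaf.stalk x') (F.presheaf.stalk x')} ∧
      (U : Set X)ᶜ ⊆ Z ∧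
      ZClos.IsZClosed (U.ι.base ⁻¹' Z) ((Scheme.Modules.restrictFunctor U.ι).obj F) ∧
      ∀ V : X.Opens, ZClos.IsZClosed (V.ι.base ⁻¹' Z) ((Scheme.Modules.restrictFunctor V.ι).obj F) → V ≤ U := by
  haveI := hF.1
  refine ⟨⟨{x | IsZClosedAt Z F x}, ZClosLib.isOpen_closedAt hZ hF hH⟩,
    Set.ext fun x => ZClosLib.closedAt_iff_depth hF hZ x, fun x hx => ?_, ?_, fun V hV x hx => ?_⟩
  · by_contra hxZ
    exact hx (ZClosLib.bijective_rhoStalk F hxZ)
  · set U : X.Opens := ⟨{x | IsZClosedAt Z F x}, ZClosLib.isOpen_closedAt hZ hF hH⟩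
    haveI : IsLocallyNoetherian (U : Scheme.{u}) := isLocallyNoetherian_of_isOpenImmersion U.ι
    refine (ZClosLib.isZClosed_iff (hZ.preimage U.ι.continuous) _).2 fun y => ?_
    obtain ⟨h1, h2⟩ := (ZClosLib.isZClosedAt_iff hZ F (U.ι y)).1 y.2
    exact ⟨(ZClosLib.pureAt_restrict U.ι F Z y).2 h1, (ZClosLib.extAt_restrict U.ι F Z y).2 h2⟩
  · haveI : IsLocallyNoetherian (V : Scheme.{u}) := isLocallyNoetherian_of_isOpenImmersion V.ι
    obtain ⟨h1, h2⟩ := (ZClosLib.isZClosed_iff (hZ.preimage V.ι.continuous) _).1 hV ⟨x, hx⟩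
    exact (ZClosLib.isZClosedAt_iff hZ F x).2
      ⟨(ZClosLib.pureAt_restrict V.ι F Z ⟨x, hx⟩).1 h1, (ZClosLib.extAt_restrict V.ι F Z ⟨x, hx⟩).1 h2⟩

end Groth.Agent.S5859
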