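import Groth.Statements.S5861
import Groth.Agent.ZClosLib.DepthApps

set_option autoImplicit false
universe u
open ZClos

namespace Groth.Agent.S5861

open CategoryTheory CategoryTheory.Limits AlgebraicGeometry in
/-- Suppose X is a locally Noetherian scheme and F is a coherent O_X-module whose support is the whole
of X. Assume no associated point of F has a local ring of X of dimension 1, and assume H⁰_{X/Z}(F)
is coherent, where Z = Z^(2)(X) denotes the set of points whose local ring has dimension at least 2.
Consider the set U of points x where F satisfies (S_2), meaning depth(F_{x'}) ≥ min(2, dim F_{x'})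
holds at every generization x' of x. Then U is an open subset, and the points lying outside U form a
set of codimension ≥ 2: the local ring at any such point has dimension at least 2. -/
theorem result (X : Scheme.{u}) [IsLocallyNoetherian X] (F : X.Modules) (hF : Coh.IsCoh F)
    (hsupp : ∀ x : X, Nontrivial (F.presheaf.stalk x))
    (hass : ∀ x ∈ AssSch.Ass F, ringKrullDim (X.presheaf.stalk x) ≠ 1)
    (hH : Coh.IsCoh ((ZClos.H0 (ZClos.dimGe X 2)).obj F)) :
    IsOpen {x : X | ∀ x' : X, x' ⤳ x →
        min (2 : WithBot ℕ∞) (Module.supportDim (X.presheaf.stalk x') (F.presheaf.stalk x')) ≤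
          ((LocCoh.depth (X.presheaf.stalk x') (F.presheaf.stalk x') : ℕ∞) : WithBot ℕ∞)} ∧
      ∀ x : X, (¬ ∀ x' : X, x' ⤳ x →
        min (2 : WithBot ℕ∞) (Module.supportDim (X.presheaf.stalk x') (F.presheaf.stalk x')) ≤
          ((LocCoh.depth (X.presheaf.stalk x') (F.presheaf.stalk x') : ℕ∞) : WithBot ℕ∞)) →
        (2 : WithBot ℕ∞) ≤ ringKrullDim (X.presheaf.stalk x) := by
  haveI := hF.1
  have hZ := ZClosLib.dimGe_stable (X := X) 2
  have key : ∀ x : X, (∀ x' : X, x' ⤳ x →
      min (2 : WithBot ℕ∞) (Module.supportDim (X.presheaf.stalk x') (F.presheaf.stalk x')) ≤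
        ((LocCoh.depth (X.presheaf.stalk x') (F.presheaf.stalk x') : ℕ∞) : WithBot ℕ∞)) ↔
      IsZClosedAt (dimGe X 2) F x := fun x => by
    rw [ZClosLib.closedAt_iff_depth hF hZ x]
    refine ⟨fun h x' hx' hx'Z => ?_, fun h x' hx' => ?_⟩
    · have := h x' hx'
      rw [ZClosLib.supportDim_stalk_eq hF hsupp, min_eq_left (show (2 : WithBot ℕ∞) ≤ _ from hx'Z)] at this
      exact WithBot.coe_le_coe.1 this
    · by_cases hx'Z : x' ∈ dimGe X 2
      · exact (min_le_left _ _).trans (WithBot.coe_le_coe.2 (h x' hx' hx'Z))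
      · exact ZClosLib.s2_of_small hF hass hx'Z
  refine ⟨?_, fun x hx => ?_⟩
  · simp only [key]
    exact ZClosLib.isOpen_closedAt hZ hF hH
  · by_contra hxd
    exact hx ((key x).2 (ZClosLib.bijective_rhoStalk F hxd))

end Groth.Agent.S5861
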