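import Groth.Statements.S5867
import Groth.Agent.ZClosLib.QCoh

set_option autoImplicit false
universe u
open ZClos

namespace Groth.Agent.S5867

open CategoryTheory CategoryTheory.Limits AlgebraicGeometry in
/-- a) ⇒ d): for a locally Noetherian scheme X, a subset Z of X stable under specialization and a
coherent O_X-module F none of whose associated points lies in Z: if H⁰_{X/Z}(F) is coherent, then
for every closed subset T of X contained in Z the direct image i_*(F|X∖T) along the inclusion i : X
∖ T → X is coherent. -/
theorem result (X : Scheme.{u}) [IsLocallyNoetherian X] (Z : Set X)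
    (hZ : StableUnderSpecialization Z) (F : X.Modules) (hF : Coh.IsCoh F)
    (hass : ∀ x ∈ AssSch.Ass F, x ∉ Z) (hH : Coh.IsCoh ((ZClos.H0 Z).obj F)) (T : ZClos.Cl Z) :
    Coh.IsCoh ((ZClos.resPush T.U).obj F) := by
  haveI := hF.1
  have hp : ∀ x, ZClosLib.PureAt Z F x := fun x =>
    (ZClosLib.pureAt_iff_ass hZ x).2 fun η _ hηZ hη => hass η hη hηZ
  have hm : Mono (colimit.ι ((diagram Z).obj F) T) := ZClosLib.mono_ι_of_pure F hp T
  exact @Coherent.isCoh_of_mono _ _ _ _ (colimit.ι ((diagram Z).obj F) T) hm hH
    (ZClosLib.isQCoh_resPush T.U F hF.1)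

end Groth.Agent.S5867
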