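import Groth.Statements.S5868
import Groth.Agent.ZClosLib.Chart
import Groth.Agent.ZClosLib.QCoh
import Groth.Agent.S2666

set_option autoImplicit false
universe u
open ZClos

namespace Groth.Agent.S5868

open CategoryTheory CategoryTheory.Limits AlgebraicGeometry in
/-- d) ⇒ a), second sufficient condition: let X be a locally Noetherian scheme, Z a subset of X stable
under specialization and F a coherent O_X-module none of whose associated points lies in Z. Assume
that for every affine open V of X with ring A and every associated point x of F in V, with prime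
ideal p ⊂ A, the domain A/p is universally catenary and N-1 (its integral closure is a finite
module); that is, the reduced closed subschemes on the closures of the associated points of F are
universally catenary with finite normalization. If, for a directed family of closed subsets T of X
contained in Z and covering Z, each direct image i_*(F|X∖T) is coherent, then H⁰_{X/Z}(F) is
coherent. (The published statement also allows, in place of the condition on the closures of the
associated points, that X be locally immersible in a regular scheme; this row omits that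
alternative.) -/
theorem result (X : Scheme.{u}) [IsLocallyNoetherian X] (Z : Set X)
    (hZ : StableUnderSpecialization Z) (F : X.Modules) (hF : Coh.IsCoh F)
    (hass : ∀ x ∈ AssSch.Ass F, x ∉ Z)
    (hX : ∀ (V : X.Opens) (hV : IsAffineOpen V) (x : X) (hxV : x ∈ V), x ∈ AssSch.Ass F →
        CAlg.IsUniversallyCatenary (Γ(X, V) ⧸ (hV.primeIdealOf ⟨x, hxV⟩).asIdeal) ∧
          CAlg.IsN1 (Γ(X, V) ⧸ (hV.primeIdealOf ⟨x, hxV⟩).asIdeal))
    (𝒯 : Set (ZClos.Cl Z)) (hdir : DirectedOn (· ≤ ·) 𝒯) (hcov : ∀ z ∈ Z, ∃ T ∈ 𝒯, z ∈ (T.1 : Set X))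
    (hd : ∀ T ∈ 𝒯, Coh.IsCoh ((ZClos.resPush T.U).obj F)) :
    Coh.IsCoh ((ZClos.H0 Z).obj F) := by
  haveI := hF.1
  refine (Coherent.isCoh_iff_finite_sections _).2 ⟨ZClosLib.isQCoh_H0 Z F hF.1, fun W hW => ?_⟩
  haveI : IsNoetherianRing Γ(X, W) := AssSch12.isNoetherianRing_of_isAffineOpen hW
  haveI : Module.Finite Γ(X, W) Γ(F, W) := ((Coherent.isCoh_iff_finite_sections F).1 hF).2 W hW
  let c : ZClosLib.Chart F W Γ(X, W) Γ(F, W) :=
    ⟨hW, RingHom.id _, Function.bijective_id, AddMonoidHom.id _, Function.bijective_id, fun _ _ => rfl⟩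
  have hPeq : ∀ (y : X) (hy : y ∈ W), c.P hy = hW.primeIdealOf ⟨y, hy⟩ := fun y hy =>
    PrimeSpectrum.ext (Ideal.comap_id _)
  let ZA : Set (PrimeSpectrum Γ(X, W)) := ⇑hW.fromSpec ⁻¹' Z
  have hZA : ∀ (y : X) (hy : y ∈ W), c.P hy ∈ ZA ↔ y ∈ Z := fun y hy => by
    show hW.fromSpec (c.P hy) ∈ Z ↔ _
    rw [hPeq, hW.fromSpec_primeIdealOf]
  have hZA' : StableUnderSpecialization ZA := hZ.preimage hW.fromSpec.continuous
  refine (c.finite_iff hZ ZA hZA).2
    (ZClosLib.finite_H_of_associatedPrimes hZA' _ Γ(F, W) le_rfl fun p hp hpZ => ?_)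
  obtain ⟨p, hpp⟩ := p
  haveI := hpp
  change p ∈ associatedPrimes _ _ at hp
  obtain ⟨x, hxW, rfl⟩ := AssSch12.exists_point hW p
  obtain ⟨hcat, hN1⟩ := hX W hW x hxW ((AssSch12.mem_ass_iff hW hxW F).2 hp)
  refine ZClosLib.finite_H_quotient (p := AssSch12.primeAt hW hxW) hpZ (fun q hq hle => ?_)
    (Groth.Agent.S2666.result _ hcat hN1)
  obtain ⟨T, hT, hzT⟩ := hcov _ hq
  let J : Ideal Γ(X, W) := PrimeSpectrum.vanishingIdeal (⇑hW.fromSpec ⁻¹' (T.1 : Set X))
  have hzero : PrimeSpectrum.zeroLocus (J : Set Γ(X, W)) = ⇑hW.fromSpec ⁻¹' (T.1 : Set X) := by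
    rw [PrimeSpectrum.zeroLocus_vanishingIdeal_eq_closure]
    exact (T.1.isClosed.preimage hW.fromSpec.continuous).closure_eq
  have hopen : c.openOf J = W ⊓ T.U := by
    ext y
    constructor
    · intro h
      have hy : y ∈ W := c.openOf_le h
      refine ⟨hy, fun hyT => (c.mem_openOf_iff hy).1 h ?_⟩
      have hmem : c.P hy ∈ ⇑hW.fromSpec ⁻¹' (T.1 : Set X) := by
        show hW.fromSpec (c.P hy) ∈ (T.1 : Set X)
        rw [hPeq, hW.fromSpec_primeIdealOf]
        exact hyT
      exact (hzero.symm ▸ hmem : c.P hy ∈ PrimeSpectrum.zeroLocus (J : Set Γ(X, W)))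
    · rintro ⟨hy, hyT⟩
      refine (c.mem_openOf_iff hy).2 fun hle' => hyT ?_
      have hmem : c.P hy ∈ ⇑hW.fromSpec ⁻¹' (T.1 : Set X) := hzero ▸ (hle' : c.P hy ∈ PrimeSpectrum.zeroLocus (J : Set Γ(X, W)))
      have h' : hW.fromSpec (c.P hy) ∈ (T.1 : Set X) := hmem
      rw [hPeq, hW.fromSpec_primeIdealOf] at h'
      exact h'
  haveI := c.finite_secs_of_resPush (J := J) T.U hopen (((Coherent.isCoh_iff_finite_sections _).1 (hd T hT)).2 W hW)
  obtain ⟨i, hi⟩ := CommAlg6.PushCompl.exists_injective_of_associated hp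
  haveI hfin := CommAlg6.PushCompl.finite_of_injective J i hi
  have hJp : ¬ J ≤ AssSch12.primeAt hW hxW := fun h => hpZ (T.2 (Set.mem_preimage.1 (hzero ▸
    (h : (⟨AssSch12.primeAt hW hxW, hpp⟩ : PrimeSpectrum Γ(X, W)) ∈ PrimeSpectrum.zeroLocus (J : Set Γ(X, W))))))
  haveI := (CommAlg6.PushCompl.finite_secs_iff J Ideal.Quotient.mk_surjective
    (CommAlg6.PushCompl.not_le_kerPt_quotient J hJp)).1 hfin
  refine le_trans (CommAlg6.PushCompl.two_le_height_of_finite (A := Γ(X, W)) J
    (B := Γ(X, W) ⧸ AssSch12.primeAt hW hxW) (CommAlg6.PushCompl.map_quotient_ne_bot J hJp)) ?_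
  refine Ideal.height_mono (Ideal.map_mono ?_)
  exact (hzero.symm ▸ hzT : q ∈ PrimeSpectrum.zeroLocus (J : Set Γ(X, W)))

end Groth.Agent.S5868
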