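import Groth.Statements.S5869
import Groth.Agent.ZClosLib.Chart
import Groth.Agent.ZClosLib.QCoh

set_option autoImplicit false
universe u
open ZClos

namespace Groth.Agent.S5869

open CategoryTheory CategoryTheory.Limits AlgebraicGeometry in
/-- a) ⇔ b): for a Noetherian ring A with X = Spec A, the following are equivalent: a) for every prime
ideal q of A, writing B = A/q, the ring B^(1) (intersection of the localizations of B at its
height-one primes) is a finite B-algebra; b) for every finite A-module M and every subset Z of X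
stable under specialization such that, for every associated prime p of M not in Z and every prime p'
∈ Z containing p, the image of p' in A/p has height at least 2, the Z-closure H⁰_{X/Z} of the module
M~ is coherent. -/
theorem result (A : Type u) [CommRing A] [IsNoetherianRing A] :
    (∀ (q : Ideal A) [q.IsPrime], EGA4.HeightOneHullFinite (A ⧸ q)) ↔
      ∀ (M : Type u) [AddCommGroup M] [Module A M] [Module.Finite A M]
        (Z : Set (PrimeSpectrum A)), StableUnderSpecialization Z →
        (∀ x : PrimeSpectrum A, x.asIdeal ∈ associatedPrimes A M → x ∉ Z →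
          ∀ y ∈ Z, x.asIdeal ≤ y.asIdeal → (2 : ℕ∞) ≤ (y.asIdeal.map (Ideal.Quotient.mk x.asIdeal)).height) →
        Coh.IsCoh ((ZClos.H0 (X := Spec (CommRingCat.of A)) Z).obj (EGA4.tildeOf A M)) := by
  let X : Scheme.{u} := Spec (CommRingCat.of A)
  haveI : IsNoetherianRing (CommRingCat.of A) := ‹IsNoetherianRing A›
  haveI : IsLocallyNoetherian X := inferInstance
  have key : ∀ (M : Type u) [AddCommGroup M] [Module A M] (Z : Set (PrimeSpectrum A)),
      StableUnderSpecialization Z →
      (Coh.IsCoh ((ZClos.H0 (X := X) Z).obj (EGA4.tildeOf A M)) ↔ Module.Finite A (ZClosLib.HSec Z M)) := by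
    intro M _ _ Z hZ
    haveI : (EGA4.tildeOf A M).IsQuasicoherent := inferInstance
    let c : ZClosLib.Chart (EGA4.tildeOf A M) (⊤ : X.Opens) A M :=
      { hW := isAffineOpen_top _
        ι := (Scheme.ΓSpecIso (CommRingCat.of A)).inv.hom
        hι := (Scheme.ΓSpecIso (CommRingCat.of A)).commRingCatIsoToRingEquiv.symm.bijective
        μ := (tilde.toOpen (ModuleCat.of (CommRingCat.of A) M) ⊤).hom.toAddMonoidHom
        hμ := (ConcreteCategory.isIso_iff_bijective (tilde.toOpen (ModuleCat.of (CommRingCat.of A) M) ⊤)).mp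
          (tilde.isIso_toOpen_top (R := CommRingCat.of A) (M := ModuleCat.of (CommRingCat.of A) M))
        smul := fun a m => (tilde.toOpen (ModuleCat.of (CommRingCat.of A) M) ⊤).hom.map_smul a m }
    have hP : ∀ (y : X) (hy : y ∈ (⊤ : X.Opens)), c.P hy = y := fun y hy => by
      refine PrimeSpectrum.ext (Ideal.ext fun a => not_iff_not.1 ((c.notMem_P_iff hy a).trans ?_))
      show y ∈ X.basicOpen ((Scheme.ΓSpecIso (CommRingCat.of A)).inv a) ↔ _
      rw [basicOpen_eq_of_affine]
      exact Iff.rfl
    have hZA : ∀ (y : X) (hy : y ∈ (⊤ : X.Opens)), c.P hy ∈ Z ↔ y ∈ Z := fun y hy => by rw [hP]; exact Iff.rfl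
    refine ⟨fun h => (c.finite_iff (Z := Z) hZ Z hZA).1 (((Coherent.isCoh_iff_finite_sections _).1 h).2 ⊤
      (isAffineOpen_top _)), fun h => ?_⟩
    exact Coherent.isCoh_of_finite_sections_cover _ (ZClosLib.isQCoh_H0 (X := X) Z (EGA4.tildeOf A M) (show (EGA4.tildeOf A M).IsQuasicoherent from inferInstance))
      (fun _ : PUnit.{u + 1} => (⊤ : X.Opens)) (fun _ => isAffineOpen_top _) (fun x => ⟨PUnit.unit, trivial⟩)
      fun _ => (c.finite_iff (Z := Z) hZ Z hZA).2 h
  constructor
  · intro ha M _ _ _ Z hZ hht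
    refine (key M Z hZ).2 (ZClosLib.finite_H_of_associatedPrimes hZ _ M le_rfl fun p hp hpZ => ?_)
    exact ZClosLib.finite_H_quotient (p := p.asIdeal) hpZ (fun q hq hle => hht p hp hpZ q hq hle) (ha p.asIdeal)
  · intro hb q hq
    let Z : Set (PrimeSpectrum A) :=
      {x | q ≤ x.asIdeal ∧ (2 : ℕ∞) ≤ (x.asIdeal.map (Ideal.Quotient.mk q)).height}
    have hZ : StableUnderSpecialization Z := fun a b hab ha => by
      have h : a.asIdeal ≤ b.asIdeal := (PrimeSpectrum.le_iff_specializes a b).2 hab
      exact ⟨ha.1.trans h, ha.2.trans (Ideal.height_mono (Ideal.map_mono h))⟩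
    refine ZClosLib.hullFinite_of_finite_H ((key (A ⧸ q) Z hZ).1 (hb (A ⧸ q) Z hZ fun x hx _ y hy _ => ?_))
    have hxq : x.asIdeal = q := by
      obtain ⟨hxp, z, hz⟩ := (isAssociatedPrime_iff (R := A)).1 hx
      obtain ⟨z, rfl⟩ := Ideal.Quotient.mk_surjective z
      have hzq : z ∉ q := fun h => hxp.ne_top ((Ideal.eq_top_iff_one _).2 (by
        rw [hz, Submodule.mem_colon_singleton, Submodule.mem_bot, Ideal.Quotient.eq_zero_iff_mem.2 h, smul_zero]))
      ext a
      rw [hz, Submodule.mem_colon_singleton, Submodule.mem_bot, Algebra.smul_def, Ideal.Quotient.algebraMap_eq,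
        ← map_mul, Ideal.Quotient.eq_zero_iff_mem]
      exact ⟨fun h => (hq.mem_or_mem h).resolve_right hzq, fun h => q.mul_mem_right _ h⟩
    rw [hxq]
    exact hy.2

end Groth.Agent.S5869
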