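import Groth.Statements.S5870
import Groth.Agent.ZClosLib.Criterion

set_option autoImplicit false
universe u
open ZClos

namespace Groth.Agent.S5870

open CategoryTheory CategoryTheory.Limits AlgebraicGeometry in
/-- For a locally Noetherian scheme X, a subset Z of X stable under specialization and an arbitrary
O_X-module F, the Z-closure H⁰_{X/Z}(F) is zero if and only if the support of F is contained in Z,
that is, the stalk of F at every point outside Z is zero. -/
theorem result (X : Scheme.{u}) [IsLocallyNoetherian X] (Z : Set X)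
    (hZ : StableUnderSpecialization Z) (F : X.Modules) :
    IsZero ((ZClos.H0 Z).obj F) ↔ ∀ x : X, x ∉ Z → Subsingleton (F.presheaf.stalk x) := by
  constructor
  · intro h x hx
    suffices hH : Subsingleton (((H0 Z).obj F).presheaf.stalk x) from
      (ZClosLib.bijective_rhoStalk (Z := Z) F hx).1.subsingleton
    refine subsingleton_of_forall_eq 0 fun z => ?_
    obtain ⟨W, hxW, s, rfl⟩ := ((H0 Z).obj F).presheaf.exists_germ_eq z
    have e : s = (0 : ((H0 Z).obj F) ⟶ ((H0 Z).obj F)).app W s := by
      rw [← h.eq_of_src (𝟙 _) 0]; rfl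
    rw [e, Scheme.Modules.Hom.zero_app]
    exact map_zero _
  · intro h
    refine (IsZero.iff_id_eq_zero _).2 ?_
    ext W σ
    exact ZClosLib.H0_pure hZ F σ fun y hy hyZ => by
      haveI := h y hyZ
      obtain ⟨z, hz⟩ := (ZClosLib.bijective_rhoStalk (Z := Z) F hyZ).2 (((H0 Z).obj F).presheaf.germ W y hy σ)
      rw [← hz, Subsingleton.elim z 0, map_zero]

end Groth.Agent.S5870
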