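import Groth.Statements.S5913
import Groth.Agent.EGA43.GScheme

set_option autoImplicit false
universe u
open CategoryTheory AlgebraicGeometry
open EGA43

namespace Groth.Agent.S5913

/-- In the locally Noetherian form: a locally Noetherian scheme X is Jacobson if and only if it has no
subscheme isomorphic to the spectrum of a semi-local integral domain of dimension 1, i.e. there is
no immersion Spec R ⟶ X with R an integral domain having finitely many maximal ideals and Krull
dimension 1. -/
theorem result (X : Scheme.{u}) [IsLocallyNoetherian X] :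
    JacobsonSpace X ↔
      ∀ (R : CommRingCat.{u}) [IsDomain R] (i : Spec R ⟶ X) [IsImmersion i],
        ¬ (Finite (MaximalSpectrum R) ∧ ringKrullDim R = 1) := by
  constructor
  · intro _ R _ i _ h
    have hJ : JacobsonSpace (Spec R) := LocallyOfFiniteType.jacobsonSpace i
    have hN : IsLocallyNoetherian (Spec R) := LocallyOfFiniteType.isLocallyNoetherian i
    have hRN : IsNoetherianRing R := isLocallyNoetherian_Spec.1 hN
    exact Groth.Agent.EGA43.not_jacobsonSpace_spec_of_semilocal_dim_one R h.1 h.2
      (PrimeSpectrum.isJacobsonRing_iff_jacobsonSpace.2 hJ)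
  · intro h
    rw [jacobsonSpace_iff_locallyClosed]
    intro Z hne hZ
    obtain ⟨x, hxZ, hlc⟩ := Groth.Agent.EGA43.exists_isLocallyClosed_singleton hZ hne
    refine ⟨x, hxZ, isClosed_of_closure_subset fun y hy => ?_⟩
    by_contra hxy
    obtain ⟨R, hR, j, hj, q, rfl⟩ := Groth.Agent.EGA43.exists_affine_mem y
    obtain ⟨p, rfl⟩ := (specializes_iff_mem_closure.2 hy).mem_open j.isOpenEmbedding.isOpen_range ⟨q, rfl⟩
    have hlc' : IsLocallyClosed ({p} : Set (PrimeSpectrum R)) := by
      have := hlc.preimage j.continuous
      rwa [← Set.image_singleton, Set.preimage_image_eq _ j.isOpenEmbedding.injective] at this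
    have hp : ¬ (PrimeSpectrum.asIdeal p).IsMaximal := fun hm => hxy (congrArg _
      ((PrimeSpectrum.ext (hm.eq_of_le (PrimeSpectrum.isPrime q).ne_top
        ((PrimeSpectrum.le_iff_specializes p q).2 (j.isOpenEmbedding.isInducing.specializes_iff.1
          (specializes_iff_mem_closure.2 hy))))).symm : q = p))
    have hc := IsClosedImmersion.spec_of_surjective
      (CommRingCat.ofHom (Ideal.Quotient.mk (PrimeSpectrum.asIdeal p))) Ideal.Quotient.mk_surjective
    exact h (CommRingCat.of (R ⧸ PrimeSpectrum.asIdeal p))
      (Spec.map (CommRingCat.ofHom (Ideal.Quotient.mk (PrimeSpectrum.asIdeal p))) ≫ j)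
      ((Groth.Agent.EGA43.isMaximal_or_semilocal_dim_one (PrimeSpectrum.asIdeal p)
        (Groth.Agent.EGA43.isG_quotient_of_isLocallyClosed hlc')).resolve_left hp)

end Groth.Agent.S5913
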