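import Groth.Statements.S5915
import Groth.Agent.EGA43.FlatBC.FiniteExt
import Groth.Agent.AssSch12.Primary
import Groth.Agent.Desc19b.FlatOverBC
-- import your own Groth.Agent.* helpers here

set_option autoImplicit false
set_option backward.isDefEq.respectTransparency false
universe u
open CategoryTheory AlgebraicGeometry
open EGA43

namespace Groth.Agent.S5915

open CategoryTheory.Limits in
/-- Let Y be locally Noetherian, f : X ⟶ Y locally of finite type, F a coherent O_X-module, x a point of
X and y = f x. Let φ : O_{Y,y} ⟶ A' be an injective ring homomorphism which is finite (A' finitely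
generated as an O_{Y,y}-module), Y' = Spec A' ⟶ Y the induced Y-scheme, X' = X ×_Y Y' and F' the
pullback of F to X'. Then F is f-flat at x if and only if F' is flat over Y' at every point of X'
lying over x and over a closed point of Y'. (The published statement treats more generally a Zariski
ring A' whose radical pulls back to the maximal ideal and whose map on completions is injective;
this row is the case of a finite algebra with injective structure map, in which those conditions
hold.) -/
theorem result {X Y : Scheme.{u}} [IsLocallyNoetherian Y]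
    (f : X ⟶ Y) [LocallyOfFiniteType f] (F : X.Modules) (hF : Coh.IsCoh F) (x : X)
    (A' : CommRingCat.{u}) (φ : Y.presheaf.stalk (f.base x) ⟶ A') (hfin : φ.hom.Finite)
    (hinj : Function.Injective φ.hom) :
    FlatMod.IsFlatOverAt f F x ↔
      ∀ x' : ↥(pullback f (Spec.map φ ≫ Y.fromSpecStalk (f.base x))), pullback.fst f (Spec.map φ ≫ Y.fromSpecStalk (f.base x)) x' = x →
        IsClosed ({pullback.snd f (Spec.map φ ≫ Y.fromSpecStalk (f.base x)) x'} : Set ↥(Spec A')) →
          FlatMod.IsFlatOverAt (pullback.snd f (Spec.map φ ≫ Y.fromSpecStalk (f.base x))) ((Scheme.Modules.pullback (pullback.fst f (Spec.map φ ≫ Y.fromSpecStalk (f.base x)))).obj F) x' := by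
  open Groth.Agent.EGA43.FlatBC in
  refine ⟨fun h x' hx' _ => Groth.Agent.Desc19b.isFlatOverAt_baseChange f _ _ _
    (IsPullback.of_hasPullback _ _) F x' (by rw [hx']; exact h), fun hflat => ?_⟩
  letI := φ.hom.toAlgebra
  haveI : Module.Finite (Y.presheaf.stalk (f.base x)) A' := hfin
  haveI : Algebra.IsIntegral (Y.presheaf.stalk (f.base x)) A' := Algebra.IsIntegral.of_finite _ _
  haveI : IsLocallyNoetherian X := LocallyOfFiniteType.isLocallyNoetherian f
  haveI := Groth.Agent.AssSch12.finite_stalk hF x
  let ι := {p : PrimeSpectrum A' // p.asIdeal.IsMaximal}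
  let g : ι → (Spec A' ⟶ Y) := fun _ => Spec.map φ ≫ Y.fromSpecStalk (f.base x)
  let y : ι → ↥(Spec A') := fun p => p.1
  have hcomap : ∀ p : ι, Ideal.comap φ.hom p.1.asIdeal = IsLocalRing.maximalIdeal _ := fun p => by
    haveI := p.2
    exact IsLocalRing.eq_maximalIdeal (Ideal.isMaximal_comap_of_isIntegral_of_isMaximal (R := Y.presheaf.stalk (f.base x)) p.1.asIdeal)
  have h : ∀ p : ι, f x = g p (y p) := fun p =>
    Groth.Agent.EGA43.FlatBC.specTo_apply f x φ.hom p.1 (hcomap p)
  refine Groth.Agent.EGA43.FlatBC.isFlatOverAt_of_adic_family f F (Z := fun _ : ι => Spec A') g y x h (fun N => ?_)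
    fun p z h1 h2 => hflat z h1 (by
      rw [h2]
      exact (PrimeSpectrum.isClosed_singleton_iff_isMaximal p.1).2 p.2)
  classical
  obtain ⟨s, n, hs⟩ := Groth.Agent.EGA43.FlatBC.exists_iInf_pow_comap_le (A' := A') hinj N
  refine ⟨s.image fun p => (p, n), le_trans (le_of_eq ?_) hs⟩
  rw [Finset.iInf_finset_image]
  refine iInf_congr fun p => iInf_congr fun _ => ?_
  haveI := p.2
  rw [show (Groth.Agent.EGA43.FlatBC.baseMap f (g p) (h p)) = φ ≫ StructureSheaf.toStalk A' p.1 from
    Groth.Agent.EGA43.FlatBC.baseMap_specTo f x φ.hom p.1 (h p), CommRingCat.hom_comp, ← Ideal.comap_comap]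
  refine congrArg (Ideal.comap φ.hom) ?_
  letI : Algebra A' ((Spec A').presheaf.stalk p.1) := (StructureSheaf.toStalk A' p.1).hom.toAlgebra
  haveI : IsLocalization.AtPrime ((Spec A').presheaf.stalk p.1) p.1.asIdeal :=
    StructureSheaf.IsLocalization.to_stalk A' p.1
  exact Groth.Agent.EGA43.FlatBC.comap_map_pow_of_isMaximal p.1.asIdeal n

end Groth.Agent.S5915
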