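import Groth.Statements.S5918
import Groth.Agent.EGA43.FlatBC.SpecBase
import Groth.Agent.AssSch12.Primary
-- import your own Groth.Agent.* helpers here

set_option autoImplicit false
set_option backward.isDefEq.respectTransparency false
universe u
open CategoryTheory AlgebraicGeometry
open EGA43

namespace Groth.Agent.S5918

open CategoryTheory.Limits in
/-- Let A be an Artinian local ring, f : X ⟶ Spec A locally of finite type, F a coherent O_X-module and
x a point of X. Let (g_i : Y_i ⟶ Spec A) be a family of A-schemes such that an element of A whose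
image in every Γ(Y_i, O_{Y_i}) is zero is itself zero. If, for every i, the pullback of F to X
×_{Spec A} Y_i is flat over Y_i at every point lying over x, then F is f-flat at x. -/
theorem result {A : Type u} [CommRing A]
    [IsArtinianRing A] [IsLocalRing A] {X : Scheme.{u}} (f : X ⟶ Spec (CommRingCat.of A))
    [LocallyOfFiniteType f] (F : X.Modules) (hF : Coh.IsCoh F) (x : X)
    {ι : Type u} (Y : ι → Scheme.{u}) (g : ∀ i, Y i ⟶ Spec (CommRingCat.of A))
    (hg : ∀ a : A, (∀ i, (g i).appTop ((Scheme.ΓSpecIso (CommRingCat.of A)).inv a) = 0) → a = 0)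
    (hflat : ∀ (i : ι) (x' : ↥(pullback f (g i))), pullback.fst f (g i) x' = x →
      FlatMod.IsFlatOverAt (pullback.snd f (g i)) ((Scheme.Modules.pullback (pullback.fst f (g i))).obj F) x') :
    FlatMod.IsFlatOverAt f F x := by
  open Groth.Agent.EGA43.FlatBC in
  haveI := Groth.Agent.EGA43.FlatBC.subsingleton_spec A
  haveI : IsLocallyNoetherian X := LocallyOfFiniteType.isLocallyNoetherian f
  haveI := Groth.Agent.AssSch12.finite_stalk hF x
  have hp : (f x : PrimeSpectrum A).asIdeal = IsLocalRing.maximalIdeal A := by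
    rw [Subsingleton.elim (f x) (IsLocalRing.closedPoint A)]
    rfl
  have hb := toStalk_bijective A (f x) hp
  let Z : (Σ i, (Y i : Type u)) → Scheme.{u} := fun p => Y p.1
  let g' : ∀ p, Z p ⟶ Spec (CommRingCat.of A) := fun p => g p.1
  let y : ∀ p, Z p := fun p => p.2
  have h : ∀ p, f x = g' p (y p) := fun p => Subsingleton.elim _ _
  refine isFlatOverAt_of_family f F g' y x ?_ h (fun a ha => ?_) fun p z h1 _ => hflat p.1 z h1
  · let e := RingEquiv.ofBijective _ hb
    haveI : IsArtinianRing ((Spec (CommRingCat.of A)).presheaf.stalk (f x)) :=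
      Function.Surjective.isArtinianRing (f := e.toRingHom) e.surjective
    obtain ⟨n, hn⟩ := IsArtinianRing.isNilpotent_jacobson_bot
      (R := (Spec (CommRingCat.of A)).presheaf.stalk (f x))
    rw [IsLocalRing.jacobson_eq_maximalIdeal ⊥ bot_ne_top] at hn
    exact ⟨n, hn⟩
  · obtain ⟨r, rfl⟩ := hb.2 a
    rw [hg r fun i => ?_, map_zero]
    refine TopCat.Presheaf.section_ext (Y i).sheaf ⊤ _ _ fun y0 hy0 => ?_
    rw [map_zero]
    refine Eq.trans ?_ (ha ⟨i, y0⟩)
    have e : StructureSheaf.toStalk (CommRingCat.of A) (f x) =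
        (Scheme.ΓSpecIso (CommRingCat.of A)).inv ≫ (Spec (CommRingCat.of A)).presheaf.germ ⊤ (f x) trivial :=
      Spec.map_injective ((Spec.fromSpecStalk_eq' _ _).symm.trans (Spec.fromSpecStalk_eq _ _))
    rw [e]
    simp only [baseMap, CommRingCat.hom_comp, RingHom.comp_apply]
    erw [TopCat.Presheaf.germ_stalkSpecializes_apply, Scheme.Hom.germ_stalkMap_apply]
    rfl

end Groth.Agent.S5918
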