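import Groth.Statements.S5934
import Groth.Agent.MorProj.SmoothLocus
-- import your own Groth.Agent.* helpers here

set_option autoImplicit false
set_option backward.isDefEq.respectTransparency false
open CategoryTheory AlgebraicGeometry
universe u
open EGA43

namespace Groth.Agent.S5934

/-- Let f : X ⟶ Y be a proper, flat morphism of finite presentation. The set of points y of Y whose
fibre X_y is geometrically regular, i.e. smooth over the residue field κ(y), is open in Y. -/
theorem result {X Y : Scheme.{u}} (f : X ⟶ Y) [IsProper f] [Flat f]
    [LocallyOfFinitePresentation f] :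
    IsOpen {y : Y | Smooth (f.fiberToSpecResidueField y)} := by
  have h1 : {y : Y | Smooth (f.fiberToSpecResidueField y)} = (f.base '' ((f.smoothLocus : Set X)ᶜ))ᶜ := by
    ext y
    haveI : LocallyOfFinitePresentation (f.fiberToSpecResidueField y) :=
      inferInstanceAs (LocallyOfFinitePresentation (Limits.pullback.snd f (Y.fromSpecResidueField y)))
    rw [Set.mem_setOf_eq, ← Scheme.Hom.smoothLocus_eq_top_iff]
    constructor
    · rintro h ⟨x, hx, rfl⟩
      exact hx ((Groth.Agent.MorProj.mem_smoothLocus_iff_flat_and_fiber f x).2
        ⟨Flat.stalkMap f x, h.ge trivial⟩)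
    · intro h
      refine TopologicalSpace.Opens.ext (Set.eq_univ_of_forall fun t => ?_)
      have ht : f (f.fiberι y t) = y := (f.range_fiberι y).le ⟨t, rfl⟩
      have hsm : f.fiberι y t ∈ f.smoothLocus := by
        by_contra hn
        exact h ⟨_, hn, ht⟩
      exact Groth.Agent.MorProj.formallySmooth_stalkMap_pullback f (Y.fromSpecResidueField y)
        (IsPullback.of_hasPullback _ _) t hsm
  rw [h1]
  exact (f.isClosedMap _ (f.smoothLocus.isOpen.isClosed_compl)).isOpen_compl

end Groth.Agent.S5934
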