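import Groth.Statements.S5935
import Groth.Agent.EGA43.ConnCount.ProperFlat
-- import your own Groth.Agent.* helpers here

set_option autoImplicit false
set_option backward.isDefEq.respectTransparency false
open CategoryTheory AlgebraicGeometry
universe u
open EGA43

namespace Groth.Agent.S5935

/-- Let f : X ⟶ Y be a proper, flat morphism of finite presentation and k ≥ 1 a natural number. The set
of points y of Y such that the fibre X_y is geometrically reduced over κ(y) and the geometric number
of connected components of X_y (the number of connected components after base change to a separable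
closure of κ(y)) equals k is open in Y. -/
theorem result {X Y : Scheme.{u}} (f : X ⟶ Y) [IsProper f]
    [Flat f] [LocallyOfFinitePresentation f] (k : ℕ) (hk : 1 ≤ k) :
    IsOpen {y : Y | GeometricallyReduced (f.fiberToSpecResidueField y) ∧ MoreMor.nGeomConnComp f y = k} := by
  refine isOpen_iff_mem_nhds.2 fun y ⟨hy, hk'⟩ => ?_
  obtain ⟨V, hV, hVeq⟩ := Groth.Agent.EGA43.ConnCount.count_const_nhd_flat f y hy
  filter_upwards [hV, (Groth.Agent.EGA43.ConnCount.isOpen_geometricallyReduced_locus f).mem_nhds hy] with z hz hz'
  exact ⟨hz', (hVeq z hz).trans hk'⟩

end Groth.Agent.S5935
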