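import Groth.Statements.S5937
import Groth.Agent.OmegaLib.Sections

set_option autoImplicit false
set_option backward.isDefEq.respectTransparency.types false
universe u
open CategoryTheory CategoryTheory.Limits AlgebraicGeometry
open Unram17

namespace Groth.Agent.S5937

/-- Take a morphism of schemes f : X ⟶ Y and an O_X-module Ω' equipped with a universal Y-derivation d :
O_X → Ω' (so that Ω' is a sheaf of differentials of X over Y). Then f is formally unramified if and
only if Ω' is a zero object of the category of O_X-modules. -/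
theorem result {X Y : Scheme.{u}} (f : X ⟶ Y)
    (Ω' : X.Modules) (d : OmegaSh.Der f Ω') (hd : OmegaSh.IsUniversal d) :
    FormallyUnramified f ↔ IsZero Ω' := by
  have hsub : IsZero Ω' → ∀ U : X.Opens, Subsingleton Γ(Ω', U) := fun h U => ⟨fun a b => by
    have h1 : (Scheme.Modules.Hom.app (𝟙 Ω') U) = (Scheme.Modules.Hom.app (0 : Ω' ⟶ Ω') U) := by
      rw [h.eq_of_src (𝟙 Ω') 0]
    have ha := congr($h1 a)
    have hb := congr($h1 b)
    exact ha.trans hb.symm⟩
  constructor
  · intro hu
    refine (IsZero.iff_id_eq_zero _).2 ?_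
    refine Scheme.Modules.hom_ext _ _ fun V => ?_
    ext z
    refine Groth.Agent.OmegaLib.section_ext fun x hx => ?_
    obtain ⟨W, U, hW, hU, hxU, hUV, hUW⟩ := Groth.Agent.OmegaLib.exists_affine_pair f hx
    refine ⟨U, hUV, hxU, ?_⟩
    letI := (f.appLE W U hUW).hom.toAlgebra
    have : Algebra.FormallyUnramified Γ(Y, W) Γ(X, U) :=
      HasRingHomProperty.appLE @FormallyUnramified f hu ⟨W, hW⟩ ⟨U, hU⟩ hUW
    obtain ⟨ψ, -⟩ := Groth.Agent.OmegaLib.exists_sections_equiv hd hUW hW hU
    have : Subsingleton Γ(Ω', U) := ψ.symm.toEquiv.subsingleton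
    exact Subsingleton.elim _ _
  · intro h
    rw [HasRingHomProperty.iff_appLE (P := @FormallyUnramified)]
    intro U V e
    letI := (f.appLE U V e).hom.toAlgebra
    show RingHom.FormallyUnramified (f.appLE U V e).hom
    obtain ⟨ψ, -⟩ := Groth.Agent.OmegaLib.exists_sections_equiv hd e U.2 V.2
    have := hsub h V
    have : Subsingleton (Ω[Γ(X, (V : X.Opens))⁄Γ(Y, (U : Y.Opens))]) := ψ.toEquiv.subsingleton
    exact ⟨this⟩

end Groth.Agent.S5937
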