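import Groth.Statements.S5938
import Groth.Agent.AlgSpLib.FppfSource

set_option autoImplicit false
universe u
open CategoryTheory AlgebraicGeometry
open Unram17

set_option backward.isDefEq.respectTransparency.types false
set_option backward.isDefEq.respectTransparency false

namespace Groth.Agent.S5938


/-- Let f : X ⟶ Y be faithfully flat (flat and surjective) and locally of finite presentation, and let g
: Y ⟶ Z be a morphism such that f ≫ g is locally of finite type. Then g is locally of finite type. -/
theorem result {X Y Z : Scheme.{u}} (f : X ⟶ Y) (g : Y ⟶ Z)
    [Surjective f] [Flat f] [LocallyOfFinitePresentation f] [LocallyOfFiniteType (f ≫ g)] :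
    LocallyOfFiniteType g := by
  exact Groth.Agent.AlgSpLib.lft_of_comp_fppf f g ‹_›

end Groth.Agent.S5938
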