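import Groth.Statements.S5946
import Groth.Agent.SectionSmooth10.DiffLimit

set_option linter.style.haveILetI false
-- import your own Groth.Agent.* helpers here

set_option autoImplicit false
universe u
open CategoryTheory CategoryTheory.Limits AlgebraicGeometry
open Unram17

namespace Groth.Agent.S5946

/-- Let S = lim S_i be a cofiltered limit of schemes with affine transition maps, f₀ : X₀ ⟶ S_{i₀} a
morphism locally of finite presentation with X₀ quasi-compact, and f : X ⟶ S its base change along S
⟶ S_{i₀} (a pullback square). Then f is differentially smooth, i.e. the diagonal X ⟶ X ×_S X is a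
quasi-regular immersion, if and only if, for some index j over i₀, the base change f_j : X_j ⟶ S_j
of f₀ along S_j ⟶ S_{i₀} is differentially smooth. (The published statement also asserts that f_k is
differentially smooth for every index k over j; that part is a base change and this row does not
restate it.) -/
theorem result {I : Type u} [SmallCategory I] [IsCofiltered I]
    (D : I ⥤ Scheme.{u}) (c : Limits.Cone D) (hc : Limits.IsLimit c)
    [∀ (i j : I) (f : i ⟶ j), IsAffineHom (D.map f)] (i₀ : I)
    {X₀ : Scheme.{u}} (f₀ : X₀ ⟶ D.obj i₀) [LocallyOfFinitePresentation f₀] [CompactSpace ↥X₀]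
    {X : Scheme.{u}} (f : X ⟶ c.pt) (qX : X ⟶ X₀) (hX : IsPullback qX f f₀ (c.π.app i₀)) :
    RegImm.IsRegularImmersion RegImm.Kind.quasi (pullback.diagonal f) ↔
      ∃ (j : I) (φ : j ⟶ i₀) (Xj : Scheme.{u}) (fj : Xj ⟶ D.obj j) (pX : Xj ⟶ X₀),
        IsPullback pX fj f₀ (D.map φ) ∧ RegImm.IsRegularImmersion RegImm.Kind.quasi (pullback.diagonal fj) := by
  haveI : LocallyOfFinitePresentation f := MorphismProperty.of_isPullback hX ‹LocallyOfFinitePresentation f₀›
  constructor
  · intro h
    obtain ⟨k, hk⟩ := _root_.Groth.Agent.SectionSmooth10.exists_stage_quasi hc f₀ f qX hX h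
    exact ⟨k.left, k.hom, _, _, _, _root_.Groth.Agent.H8Lim.isPullback_stage D f₀ k, hk⟩
  · rintro ⟨j, φ, Xj, fj, pX, hj, hq⟩
    haveI : LocallyOfFinitePresentation fj := MorphismProperty.of_isPullback hj ‹LocallyOfFinitePresentation f₀›
    have hw : qX ≫ f₀ = (f ≫ c.π.app j) ≫ D.map φ := by rw [Category.assoc, c.w]; exact hX.w
    have hr : IsPullback (hj.lift qX _ hw) f fj (c.π.app j) :=
      IsPullback.of_right (by rw [hj.lift_fst, c.w]; exact hX) (hj.lift_snd _ _ _) hj
    rw [_root_.Groth.Agent.SectionSmooth10.quasi_diagonal_iff] at hq ⊢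
    refine top_unique (le_trans ?_ (_root_.Groth.Agent.SectionSmooth10.preimage_diagLocus_le hr))
    rw [hq]
    exact le_top

end Groth.Agent.S5946
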