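import Groth.Statements.S5947
import Groth.Agent.OmegaLib.Der
import Groth.Agent.OmegaLib.TildeDer

set_option backward.isDefEq.respectTransparency.types false
set_option backward.isDefEq.respectTransparency false

set_option autoImplicit false
universe u
open CategoryTheory AlgebraicGeometry TopologicalSpace
open Nrm16

open Groth.Agent.OmegaLib Opposite

namespace Groth.Agent.S5947

noncomputable section

variable {A B : Type u} [CommRing A] [CommRing B] [Algebra A B]

theorem locDer_localRingHom (p : Ideal B) [p.IsPrime]
    (z : Localization.AtPrime (p.comap (algebraMap A B))) :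
    locDer A p (Localization.localRingHom (p.comap (algebraMap A B)) p (algebraMap A B) rfl z) = 0 := by
  induction z using Localization.induction_on with
  | H x =>
    obtain ⟨a, s⟩ := x
    rw [Localization.mk_eq_mk', Localization.localRingHom_mk', ← Localization.mk_eq_mk', locDer_mk,
      Derivation.map_algebraMap, Derivation.map_algebraMap, smul_zero, smul_zero, sub_zero]
    exact LocalizedModule.zero_mk _

variable (A) in
theorem tildeDer_app (V : (Spec (CommRingCat.of A)).Opens) (c : Γ(Spec (CommRingCat.of A), V)) :
    tildeDer A B (Spec.map (CommRingCat.ofHom (algebraMap A B)) ⁻¹ᵁ V)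
      ((Spec.map (CommRingCat.ofHom (algebraMap A B))).app V c) = 0 :=
  Subtype.ext (funext fun x => by
    show locDer A x.1.asIdeal
      ((StructureSheaf.comap (algebraMap A B) V _ le_rfl c).1 x) = 0
    rw [StructureSheaf.comap_apply]
    exact locDer_localRingHom x.1.asIdeal _)

variable (A B) in
/-- The universal derivation into `Ω~` on `Spec B`. -/
def omegaDer : OmegaSh.Der (Spec.map (CommRingCat.ofHom (algebraMap A B))) (tilde (OmegaMod A B)) where
  d {V} := tildeDer A B V.unop
  d_mul {V} a b := tildeDer_mul A B V.unop a b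
  d_map {V V'} i s := tildeDer_map A B i.unop s
  d_app {V} c := tildeDer_app A V.unop c

theorem smul_top {L : ModuleCat.{u} (CommRingCat.of B)} (b : B) (z : Γ(tilde L, ⊤)) :
    (Scheme.ΓSpecIso (CommRingCat.of B)).inv b • z =
      (show Γ(tilde L, ⊤) from b • (show (modulesSpecToSheaf.obj (tilde L)).presheaf.obj (op ⊤) from z)) := by
  show _ = (Spec (CommRingCat.of B)).presheaf.map (homOfLE (le_top : (⊤ : (Spec (CommRingCat.of B)).Opens) ≤ ⊤)).op
    ((Scheme.ΓSpecIso (CommRingCat.of B)).inv b) • z
  rw [show (homOfLE (le_top : (⊤ : (Spec (CommRingCat.of B)).Opens) ≤ ⊤)) = 𝟙 _ from rfl, op_id,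
    CategoryTheory.Functor.map_id]
  rfl

end

/-- Let A be a commutative ring, B an A-algebra and L a B-module; put S = Spec A, X = Spec B and let F
be the O_X-module associated with L. For an S-derivation D of O_X into F write Γ(D) : B → L for its
effect on global sections (global sections of O_X and of F being identified with B and L by the
canonical isomorphisms). Then D ↦ Γ(D) is a bijection from the set of S-derivations of O_X into F
onto the set of A-derivations of B into L: every Γ(D) is an A-derivation, and every A-derivation of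
B into L is Γ(D) for exactly one D. (The published statement asserts an isomorphism of B-modules; no
module structure is placed on sheaf derivations here, so this row states the bijection.) -/
theorem result (A B : Type u) [CommRing A] [CommRing B] [Algebra A B]
    (L : Type u) [AddCommGroup L] [Module B L] [Module A L] [IsScalarTower A B L] :
    (∀ D : OmegaSh.Der (Spec.map (CommRingCat.ofHom (algebraMap A B))) (tilde (ModuleCat.of (CommRingCat.of B) L)),
      ∃ δ : Derivation A B L, ∀ t : B, D.app ⊤ ((Scheme.ΓSpecIso (CommRingCat.of B)).inv t) =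
        (tilde.isoTop (ModuleCat.of (CommRingCat.of B) L)).hom (δ t)) ∧
    ∀ δ : Derivation A B L,
      ∃! D : OmegaSh.Der (Spec.map (CommRingCat.ofHom (algebraMap A B))) (tilde (ModuleCat.of (CommRingCat.of B) L)),
        ∀ t : B, D.app ⊤ ((Scheme.ΓSpecIso (CommRingCat.of B)).inv t) =
          (tilde.isoTop (ModuleCat.of (CommRingCat.of B) L)).hom (δ t) := by
  let M : ModuleCat.{u} (CommRingCat.of B) := ModuleCat.of (CommRingCat.of B) L
  let φ := Spec.map (CommRingCat.ofHom (algebraMap A B))
  let inv : B →+* Γ(Spec (CommRingCat.of B), ⊤) := (Scheme.ΓSpecIso (CommRingCat.of B)).inv.hom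
  have hinvA : ∀ a : A, inv (algebraMap A B a) =
      φ.appTop ((Scheme.ΓSpecIso (CommRingCat.of A)).inv a) := fun a =>
    congr($(Scheme.ΓSpecIso_inv_naturality (CommRingCat.ofHom (algebraMap A B))) a)
  have hcompat : ∀ (b : B) (z : M), (tilde.isoTop M).hom (b • z) = inv b • (show Γ(tilde M, ⊤) from (tilde.isoTop M).hom z) := by
    intro b z
    exact ((tilde.isoTop M).hom.hom.map_smul b z).trans (smul_top b _).symm
  refine ⟨fun D => ?_, fun δ => ?_⟩
  · let δ₀ : B →+ L :=
      ((tilde.isoTop M).inv.hom.toAddMonoidHom.comp (D.app ⊤)).comp inv.toAddMonoidHom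
    have hδ : ∀ t, (tilde.isoTop M).hom (δ₀ t) = D.app ⊤ (inv t) := fun t =>
      (tilde.isoTop M).inv_hom_id_apply _
    have hinj : Function.Injective (tilde.isoTop M).hom :=
      (ConcreteCategory.bijective_of_isIso (tilde.isoTop M).hom).1
    have hmul : ∀ a b : B, δ₀ (a * b) = a • δ₀ b + b • δ₀ a := fun a b => by
      apply hinj
      rw [hδ, map_mul, app_mul, map_add, hcompat, hcompat, hδ, hδ]
    have hA : ∀ a : A, δ₀ (algebraMap A B a) = 0 := fun a => by
      apply hinj
      rw [hδ, map_zero, hinvA]
      exact app_app D ⊤ _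
    let δ : Derivation A B L := Derivation.mk'
      { toFun := δ₀
        map_add' := map_add δ₀
        map_smul' := fun r b => by
          rw [Algebra.smul_def, hmul, hA, smul_zero, add_zero, RingHom.id_apply, algebraMap_smul] }
      hmul
    exact ⟨δ, fun t => (hδ t).symm⟩
  · let lin : OmegaMod A B ⟶ M := ModuleCat.ofHom δ.liftKaehlerDifferential
    let D : OmegaSh.Der φ (tilde M) := (omegaDer A B).postcomp (tilde.map lin).val
    have htop : ∀ t : B, tildeDer A B ⊤ (inv t) = (tilde.isoTop (OmegaMod A B)).hom
        (KaehlerDifferential.D A B t) := fun t => by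
      refine Eq.trans ?_ (tildeDer_algebraMap A B ⊤ t)
      rw [show (homOfLE (le_top : (⊤ : (Spec (CommRingCat.of B)).Opens) ≤ ⊤)) = 𝟙 _ from rfl, op_id,
        CategoryTheory.Functor.map_id]
      rfl
    have hD : ∀ t : B, D.app ⊤ (inv t) = (tilde.isoTop M).hom (δ t) := fun t => by
      show (tilde.map lin).app ⊤ (tildeDer A B ⊤ (inv t)) = _
      rw [htop]
      refine (congr($(tilde.toOpen_map_app lin ⊤) (KaehlerDifferential.D A B t))).trans ?_
      show tilde.toOpen M ⊤ (δ.liftKaehlerDifferential (KaehlerDifferential.D A B t)) = _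
      rw [Derivation.liftKaehlerDifferential_comp_D]
      rfl
    refine ⟨D, hD, fun D' hD' => der_ext fun U s => ?_⟩
    refine der_eq_of_top D' D (isAffineOpen_top _) (fun b => ?_) le_top s
    obtain ⟨t, rfl⟩ := (ConcreteCategory.bijective_of_isIso (Scheme.ΓSpecIso (CommRingCat.of B)).inv).2 b
    exact (hD' t).trans (hD t).symm

end Groth.Agent.S5947
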