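import Groth.Statements.S5948
import Groth.Agent.H8Coh.FibreFlatOver
-- import your own Groth.Agent.* helpers here

set_option autoImplicit false
set_option linter.style.haveILetI false
set_option backward.isDefEq.respectTransparency.types false
universe u
open CategoryTheory CategoryTheory.Limits AlgebraicGeometry TopologicalSpace Topology
open Unram17

namespace Groth.Agent.S5948


open Groth.Agent

theorem stalk_iso_comp {Y S P : Scheme.{u}} (h : Y ⟶ S) (s : S) (e : P ⟶ h.fiber s) [IsIso e]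
    (ι : P ⟶ Y) (hι : e ≫ h.fiberι s = ι) (z : P) :
    Function.Surjective (ι.stalkMap z).hom ∧
      RingHom.ker (ι.stalkMap z).hom =
        Ideal.map (h.stalkMap (ι z)).hom (IsLocalRing.maximalIdeal (S.presheaf.stalk (h (ι z)))) := by
  subst hι
  obtain ⟨hs, hk⟩ := Props12.stalkMap_fiberι h s (e z)
  have hb : Function.Bijective (e.stalkMap z).hom :=
    ConcreteCategory.bijective_of_isIso (e.stalkMap z)
  rw [Scheme.Hom.stalkMap_comp]
  exact ⟨hb.2.comp hs, (Ideal.ext fun a => map_eq_zero_iff _ hb.1).trans hk⟩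

theorem stalk_congr {Y S P : Scheme.{u}} (h : Y ⟶ S) (s : S) (e : P ⟶ h.fiber s) [IsIso e]
    (ι : P ⟶ Y) (hι : e ≫ h.fiberι s = ι) (z : P) {y : Y} (hy : ι z = y) :
    Function.Surjective ((Y.presheaf.stalkCongr (.of_eq hy)).inv ≫ ι.stalkMap z).hom ∧
      RingHom.ker ((Y.presheaf.stalkCongr (.of_eq hy)).inv ≫ ι.stalkMap z).hom =
        Ideal.map (h.stalkMap y).hom (IsLocalRing.maximalIdeal (S.presheaf.stalk (h y))) := by
  subst hy
  have : (Y.presheaf.stalkCongr (.of_eq (rfl : ι z = ι z))).inv = 𝟙 _ := by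
    simp [TopCat.Presheaf.stalkCongr]
  rw [this, Category.id_comp]
  exact stalk_iso_comp h s e ι hι z

set_option backward.isDefEq.respectTransparency false in
theorem isFlatOverAt_iff {X Y S Xs Ys : Scheme.{u}} (f : X ⟶ Y) (h : Y ⟶ S) (F : X.Modules) (s : S)
    (ιX : Xs ⟶ X) (ιY : Ys ⟶ Y) (fs : Xs ⟶ Ys) (w : ιX ≫ f = fs ≫ ιY)
    (eX : Xs ⟶ (f ≫ h).fiber s) [IsIso eX] (hX : eX ≫ (f ≫ h).fiberι s = ιX)
    (eY : Ys ⟶ h.fiber s) [IsIso eY] (hY : eY ≫ h.fiberι s = ιY) (z : Xs) :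
    FlatMod.IsFlatOverAt fs ((Scheme.Modules.pullback ιX).obj F) z ↔
      EGA43.Cons.IsFibFlatAt f h F (ιX z) := by
  set x := ιX z
  have hy : ιY (fs z) = f x := by
    rw [← Scheme.Hom.comp_apply, ← w]
    rfl
  let _ := (f.stalkMap x).hom.toAlgebra
  let _ := (ιX.stalkMap z).hom.toAlgebra
  let _ := FlatMod.moduleStalkOver f F x
  have : IsScalarTower (Y.presheaf.stalk (f x)) (X.presheaf.stalk x) (F.presheaf.stalk x) :=
    IsScalarTower.of_algebraMap_smul fun _ _ => rfl
  obtain ⟨hsX, hkX⟩ := stalk_iso_comp (f ≫ h) s eX ιX hX z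
  obtain ⟨hsY, hkY⟩ := stalk_congr h s eY ιY hY (fs z) hy
  have hsq := Scheme.Hom.stalkMap_congr_hom _ _ w.symm z
  rw [Scheme.Hom.stalkMap_comp, Scheme.Hom.stalkMap_comp, ← Iso.inv_comp_eq, ← Category.assoc] at hsq
  refine H8Coh.FibreFlatOver.flat_compHom_iff _ hsY hsX _ ?_ _ hkY ?_ _ _
    (FlatMor12.FreeLocusBC.stalkTensor ιX F z)
  · have h' := congr(($hsq).hom)
    rw [CommRingCat.hom_comp, CommRingCat.hom_comp] at h'
    exact h'
  · show RingHom.ker (ιX.stalkMap z).hom = _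
    rw [hkX, Scheme.Hom.stalkMap_comp, CommRingCat.hom_comp, ← Ideal.map_map]
    rfl

/-- Let g : X ⟶ S and h : Y ⟶ S be locally of finite presentation, f : X ⟶ Y a morphism with f ≫ h = g,
and F a quasi-coherent O_X-module of finite presentation. For x in X with s = g(x), the fibres X_s ⟶
Y_s ⟶ Spec κ(s) of f over s are given by pullback squares, F_s is the pullback of F to X_s, and x is
identified with the unique point of X_s over it. Then the set E of points x such that F_s is flat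
over Y_s at x (the stalk of F_s at x is a flat module over the local ring of Y_s at f_s(x)) is
locally constructible in X. -/
theorem result {X Y S : Scheme.{u}} (g : X ⟶ S) (h : Y ⟶ S)
    [LocallyOfFinitePresentation g] [LocallyOfFinitePresentation h] (f : X ⟶ Y) (w : f ≫ h = g)
    (F : X.Modules) [Coh.IsQCoh F] (hF : CohB1.IsFP F) :
    IsLocallyConstructible {x : ↥X | ∀ (Xs Ys : Scheme.{u}) (ιX : Xs ⟶ X) (ιY : Ys ⟶ Y) (fs : Xs ⟶ Ys)
      (pY : Ys ⟶ Spec (S.residueField (g.base x))),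
      IsPullback ιY pY h (S.fromSpecResidueField (g.base x)) → IsPullback ιX fs f ιY →
        ∀ x' : ↥Xs, ιX.base x' = x → FlatMod.IsFlatOverAt fs ((Scheme.Modules.pullback ιX).obj F) x'} := by
  subst w
  convert EGA43.Cons.isLocallyConstructible_setOf_isFibFlatAt f h F hF using 1
  ext x
  constructor
  · intro H
    obtain ⟨z, hz⟩ := ((f ≫ h).range_fiberι ((f ≫ h) x)).ge (rfl : (f ≫ h) x = (f ≫ h) x)
    have hY : IsPullback (h.fiberι ((f ≫ h) x)) (h.fiberToSpecResidueField ((f ≫ h) x)) h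
        (S.fromSpecResidueField ((f ≫ h) x)) := IsPullback.of_hasPullback _ _
    have hX0 : IsPullback ((f ≫ h).fiberι ((f ≫ h) x)) ((f ≫ h).fiberToSpecResidueField ((f ≫ h) x)) (f ≫ h)
        (S.fromSpecResidueField ((f ≫ h) x)) := IsPullback.of_hasPullback _ _
    have e1 : EGA43.Cons.fibMap f h ((f ≫ h) x) ≫ h.fiberToSpecResidueField ((f ≫ h) x) =
        (f ≫ h).fiberToSpecResidueField ((f ≫ h) x) := pullback.lift_snd _ _ _
    have hX : IsPullback ((f ≫ h).fiberι ((f ≫ h) x)) (EGA43.Cons.fibMap f h ((f ≫ h) x)) f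
        (h.fiberι ((f ≫ h) x)) :=
      IsPullback.of_bot (e1.symm ▸ hX0) (EGA43.Cons.fibMap_fiberι f h _).symm hY
    have := (H8Coh.FibreFlatOver.isFlatOverAt_fibMap_iff f h F _ z).1 (H _ _ _ _ _ _ hY hX z hz)
    rwa [hz] at this
  · intro H Xs Ys ιX ιY fs pY hY hX z hz
    subst hz
    let eY := hY.isoPullback
    have hX' := hX.paste_vert hY
    exact (isFlatOverAt_iff f h F _ ιX ιY fs hX.w hX'.isoPullback.hom hX'.isoPullback_hom_fst eY.hom
      hY.isoPullback_hom_fst z).2 H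

end Groth.Agent.S5948
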