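import Groth.Statements.S5951
import Groth.Agent.PrinLib.Nbhd

set_option autoImplicit false
universe u
open CategoryTheory CategoryTheory.Limits AlgebraicGeometry TopologicalSpace
open Nrm16

namespace Groth.Agent.S5951

theorem result {Y X Y' X' : Scheme.{u}} (f : Y ⟶ X) [IsClosedImmersion f]
    (v : X' ⟶ X) (u : Y' ⟶ Y) (f' : Y' ⟶ X') (hsq : IsPullback u f' f v) (n : ℕ)
    (w : PrinPart.infNbhd f' n ⟶ PrinPart.infNbhd f n)
    (hw : w ≫ PrinPart.infNbhdι f n = PrinPart.infNbhdι f' n ≫ v) :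
    IsPullback w (PrinPart.infNbhdι f' n) (PrinPart.infNbhdι f n) v := by
  refine (isPullback_of_isClosedImmersion (PrinPart.infNbhdι f' n) (PrinPart.infNbhdι f n) w v hw.symm ?_).flip
  rw [PrinLib.ker_infNbhdι, PrinLib.ker_infNbhdι, FSchLib.comap_pow]
  congr 1
  have h1 : f'.ker = (pullback.fst v f).ker := by
    rw [← hsq.flip.isoPullback_hom_fst, Scheme.Hom.ker_comp_of_isIso]
  rw [h1, Scheme.IdealSheafData.ker_fst_of_isClosedImmersion]

end Groth.Agent.S5951
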