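import Groth.Statements.S5952
import Groth.Agent.PrinLib.Nbhd
import Groth.Agent.OmegaLib.ConormalMap

set_option backward.isDefEq.respectTransparency.types false
set_option backward.isDefEq.respectTransparency false

set_option autoImplicit false
universe u
open CategoryTheory CategoryTheory.Limits AlgebraicGeometry TopologicalSpace Opposite
open Nrm16

open scoped TensorProduct
open Groth.Agent.OmegaLib

namespace Groth.Agent.S5952

/-- Let f : Y ⟶ X be a closed immersion, v : X' ⟶ X a morphism, Y' a fibre product of Y and X' over X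
with projections u : Y' ⟶ Y and f' : Y' ⟶ X', and n a natural number. Let φ : u^* Gr_n(f) ⟶ Gr_n(f')
be the canonical O_{Y'}-linear map between the n-th graded pieces I^n/I^(n+1) of the ideals of f and
f' (the linearisation of the map induced by v♯ on n-th powers of the ideals). Then φ is an
epimorphism. (The published statement allows f to be any immersion; this row states the case of a
closed immersion.) -/
theorem result {Y X Y' X' : Scheme.{u}} (f : Y ⟶ X) [IsClosedImmersion f]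
    (v : X' ⟶ X) (u : Y' ⟶ Y) (f' : Y' ⟶ X') (hsq : IsPullback u f' f v) (n : ℕ)
    (φ : (Scheme.Modules.pullback u).obj (PrinPart.grMod f n) ⟶ PrinPart.grMod f' n)
    (hφ : PrinPart.IsGrMap f' f v u n φ) :
    Epi φ := by
  refine epi_of_stalks_surjective φ fun y => ?_
  let Φ : (DerSch.stalkFunctor Y' y).obj ((Scheme.Modules.pullback u).obj (PrinPart.grMod f n))
      →ₗ[Y'.presheaf.stalk y] (DerSch.stalkFunctor Y' y).obj (PrinPart.grMod f' n) :=
    ((DerSch.stalkFunctor Y' y).map φ).hom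
  suffices h : LinearMap.range Φ = ⊤ from LinearMap.range_eq_top.1 h
  obtain ⟨E, hE⟩ := exists_pullback_stalk_equiv f' (ClSub.idealMod (f'.ker ^ n)) y
  letI := (f'.stalkMap y).hom.toAlgebra
  have hker : f'.ker ^ n = (f.ker ^ n).comap v := by
    rw [FSchLib.comap_pow, FSchLib.ker_of_isPullback hsq.flip]
  have hle : f.ker ^ n ≤ (f'.ker ^ n).map v := by
    rw [Scheme.IdealSheafData.le_map_iff_comap_le, hker]
  suffices key : ∀ m : (DerSch.stalkFunctor X' (f' y)).obj (ClSub.idealMod (f'.ker ^ n)),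
      E (1 ⊗ₜ m) ∈ LinearMap.range Φ by
    refine top_le_iff.1 fun z _ => ?_
    obtain ⟨w, rfl⟩ := E.surjective z
    induction w using TensorProduct.induction_on with
    | zero => rw [map_zero]; exact zero_mem _
    | add a b ha hb => rw [map_add]; exact add_mem (ha trivial) (hb trivial)
    | tmul b m =>
      rw [show b ⊗ₜ[X'.presheaf.stalk (f' y)] m = b • ((1 : Y'.presheaf.stalk y) ⊗ₜ m) by
        rw [TensorProduct.smul_tmul', smul_eq_mul, mul_one], map_smul]
      exact Submodule.smul_mem _ _ (key m)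
  intro m
  obtain ⟨W, hW, s, rfl⟩ := exists_gm _ m
  obtain ⟨U, hU, hyU, -⟩ := Opens.isBasis_iff_nbhd.mp X.isBasis_affineOpens (Opens.mem_top (v (f' y)))
  obtain ⟨V, hV, hyV, hVle⟩ := Opens.isBasis_iff_nbhd.mp X'.isBasis_affineOpens
    (show f' y ∈ W ⊓ v ⁻¹ᵁ U from ⟨hW, hyU⟩)
  have hVU : V ≤ v ⁻¹ᵁ U := hVle.trans inf_le_right
  have hsmem := idealSect_mem (f'.ker ^ n) hV
    ((ClSub.idealMod (f'.ker ^ n)).presheaf.map (homOfLE (hVle.trans inf_le_left)).op s)
  have hid : (f'.ker ^ n).ideal ⟨V, hV⟩ =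
      ((f.ker ^ n).ideal ⟨U, hU⟩).map (v.appLE U V hVU).hom := by
    rw [hker]
    exact FSchLib.ideal_comap_eq_map v _ ⟨V, hV⟩ ⟨U, hU⟩ hVU
  rw [hid, Ideal.map] at hsmem
  have gen : ∀ a ∈ Ideal.span ((v.appLE U V hVU).hom '' ((f.ker ^ n).ideal ⟨U, hU⟩ : Set Γ(X, U))),
      ∃ σ, OmegaSh.idealSect (f'.ker ^ n) V σ = a ∧
        E (1 ⊗ₜ gm (ClSub.idealMod (f'.ker ^ n)) V (f' y) hyV σ) ∈ LinearMap.range Φ := by
    intro a ha
    induction ha using Submodule.span_induction with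
    | mem a ha =>
      obtain ⟨t, ht, rfl⟩ := ha
      obtain ⟨τ, hτ⟩ := exists_idealSect (f.ker ^ n) hU (SetLike.mem_coe.1 ht)
      obtain ⟨σ, hσ⟩ := exists_idealSect_app v (f'.ker ^ n) (f.ker ^ n) hle U τ
      refine ⟨(ClSub.idealMod (f'.ker ^ n)).presheaf.map (homOfLE hVU).op σ, ?_, ?_⟩
      · rw [idealSect_map, hσ, hτ]
        rfl
      · rw [gm_res _ (show f' y ∈ v ⁻¹ᵁ U from hyU) hVU hyV, hE]
        have hy1 : y ∈ u ⁻¹ᵁ (f ⁻¹ᵁ U) := by
          show f (u y) ∈ U
          rw [← Scheme.Hom.comp_apply, hsq.w]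
          exact hyU
        let V0 : Y'.Opens := u ⁻¹ᵁ (f ⁻¹ᵁ U) ⊓ f' ⁻¹ᵁ (v ⁻¹ᵁ U)
        have hy0 : y ∈ V0 := ⟨hy1, hyU⟩
        refine ⟨gm _ (u ⁻¹ᵁ (f ⁻¹ᵁ U)) y hy1
          (OmegaSh.pullSect u (PrinPart.grMod f n) (f ⁻¹ᵁ U) (PrinPart.grSect f n U τ)), ?_⟩
        refine (map_gm (φ := φ) _ _ _).trans ?_
        refine ((gm_res _ hy1 (inf_le_left : V0 ≤ _) hy0 _).symm.trans ?_).trans
          (gm_res _ (show y ∈ f' ⁻¹ᵁ (v ⁻¹ᵁ U) from hyU) (inf_le_right : V0 ≤ _) hy0 _)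
        exact congrArg (gm _ V0 y hy0) (hφ.2 U τ σ hσ V0 inf_le_left inf_le_right)
    | zero => exact ⟨0, map_zero _, by rw [gm_zero, TensorProduct.tmul_zero, map_zero]; exact zero_mem _⟩
    | add a b _ _ ha hb =>
      obtain ⟨σ, hσ, h1⟩ := ha
      obtain ⟨σ', hσ', h2⟩ := hb
      refine ⟨σ + σ', by rw [map_add, hσ, hσ'], ?_⟩
      rw [gm_add, TensorProduct.tmul_add, map_add]
      exact add_mem h1 h2
    | smul c a _ ha =>
      obtain ⟨σ, hσ, h1⟩ := ha
      refine ⟨c • σ, ?_, ?_⟩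
      · refine (congrArg (OmegaSh.fnSect X' V) (Scheme.Modules.Hom.app_smul (ClSub.idealModι _) c σ)).trans ?_
        show c * OmegaSh.idealSect _ V σ = c * a
        rw [hσ]
      · rw [gm_smul, ← TensorProduct.smul_tmul, Algebra.smul_def, mul_one,
          show (algebraMap (X'.presheaf.stalk (f' y)) (Y'.presheaf.stalk y) (X'.presheaf.germ V (f' y) hyV c)) ⊗ₜ
              gm (ClSub.idealMod (f'.ker ^ n)) V (f' y) hyV σ =
            (algebraMap (X'.presheaf.stalk (f' y)) (Y'.presheaf.stalk y) (X'.presheaf.germ V (f' y) hyV c)) •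
              ((1 : Y'.presheaf.stalk y) ⊗ₜ[X'.presheaf.stalk (f' y)]
                gm (ClSub.idealMod (f'.ker ^ n)) V (f' y) hyV σ) by
            rw [TensorProduct.smul_tmul', smul_eq_mul, mul_one], map_smul]
        exact Submodule.smul_mem _ _ h1
  obtain ⟨σ, hσ, h1⟩ := gen _ hsmem
  rwa [idealSect_injective _ _ hσ, gm_res _ hW (hVle.trans inf_le_left) hyV] at h1

end Groth.Agent.S5952
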