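import Groth.Statements.S5953
import Groth.Agent.OmegaLib.GrBaseChange

set_option backward.isDefEq.respectTransparency.types false
set_option backward.isDefEq.respectTransparency false

set_option autoImplicit false
universe u
open CategoryTheory CategoryTheory.Limits AlgebraicGeometry TopologicalSpace Opposite
open Nrm16

open scoped TensorProduct
open Groth.Agent.OmegaLib

namespace Groth.Agent.S5953

/-- Let f : Y ⟶ X be a closed immersion, v : X' ⟶ X a flat morphism, Y' a fibre product of Y and X' over
X with projections u : Y' ⟶ Y and f' : Y' ⟶ X', and n a natural number. Let φ : u^* Gr_n(f) ⟶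
Gr_n(f') be the canonical O_{Y'}-linear map between the n-th graded pieces of the ideals of f and
f'. Then φ is an isomorphism. (The published statement assumes only that v is flat and that f is a
morphism of schemes with surjective comorphism; this row also assumes f a closed immersion, the case
in which the graded pieces are formed here.) -/
theorem result {Y X Y' X' : Scheme.{u}} (f : Y ⟶ X) [IsClosedImmersion f]
    (v : X' ⟶ X) [Flat v] (u : Y' ⟶ Y) (f' : Y' ⟶ X') (hsq : IsPullback u f' f v) (n : ℕ)
    (φ : (Scheme.Modules.pullback u).obj (PrinPart.grMod f n) ⟶ PrinPart.grMod f' n)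
    (hφ : PrinPart.IsGrMap f' f v u n φ) :
    IsIso φ := by
  refine isIso_grMap_of_injective f v u f' hsq n φ hφ fun y => ?_
  letI := (sqMap f v u f' hsq.w y).hom.toAlgebra
  haveI : Module.Flat (X.presheaf.stalk (f (u y))) (X'.presheaf.stalk (f' y)) := flat_sqMap f v u f' hsq.w y
  let P : Ideal (X.presheaf.stalk (f (u y))) := RingHom.ker (f.stalkMap (u y)).hom ^ n
  have h : ∀ t, LinearMap.liftBaseChange (X'.presheaf.stalk (f' y))
      ((Algebra.linearMap (X.presheaf.stalk (f (u y))) (X'.presheaf.stalk (f' y))).comp P.subtype) t =
      TensorProduct.rid (X.presheaf.stalk (f (u y))) (X'.presheaf.stalk (f' y)) (P.subtype.lTensor _ t) := by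
    intro t
    induction t using TensorProduct.induction_on with
    | zero => simp only [map_zero]
    | add a b ha hb => simp only [map_add, ha, hb]
    | tmul b p =>
      rw [LinearMap.liftBaseChange_tmul, LinearMap.lTensor_tmul, TensorProduct.rid_tmul, Algebra.smul_def]
      exact mul_comm _ _
  intro a b hab
  rw [h, h] at hab
  exact Module.Flat.lTensor_preserves_injective_linearMap (R := X.presheaf.stalk (f (u y))) P.subtype
    Subtype.val_injective ((TensorProduct.rid _ _).injective hab)

end Groth.Agent.S5953
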