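import Groth.Statements.S5954
import Groth.Agent.PrinLib.PStalk
import Groth.Agent.PrinLib.BaseChangeAlg
import Groth.Agent.ModStalk.Exact

set_option linter.style.haveILetI false
set_option backward.isDefEq.respectTransparency.types false
set_option backward.isDefEq.respectTransparency false

set_option autoImplicit false
universe u
open CategoryTheory CategoryTheory.Limits AlgebraicGeometry TopologicalSpace Opposite
open Nrm16

namespace Groth.Agent.S5954

open scoped TensorProduct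
open Groth.Agent.OmegaLib

set_option maxHeartbeats 2000000 in
/-- Let f : X ⟶ S and g : S' ⟶ S be morphisms and X' a fibre product of X and S' over S with projections
u : X' ⟶ X and f' : X' ⟶ S'. For every n let φ : u^* P^n_{X/S} ⟶ P^n_{X'/S'} be the canonical
O_{X'}-linear map of sheaves of principal parts of order n, the one sending the pullback of d^n b to
d^n (u♯ b) for every local function b on X. Then φ is an isomorphism. (The published statement also
asserts that the canonical map u^*Ω_{X/S} ⟶ Ω_{X'/S'} of sheaves of differentials compatible with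
the universal derivations is bijective; this row states only the assertion on sheaves of principal
parts.) -/
theorem result {X S X' S' : Scheme.{u}} (f : X ⟶ S) (g : S' ⟶ S)
    (u : X' ⟶ X) (f' : X' ⟶ S') (hsq : IsPullback u f' f g) (n : ℕ)
    (φ : (Scheme.Modules.pullback u).obj (PrinPart.P f n) ⟶ PrinPart.P f' n)
    (hφ : PrinPart.IsPMap f f' u n φ) :
    IsIso φ := by
  refine ModStalk.isIso_of_stalks φ fun x' => ?_
  rw [ConcreteCategory.isIso_iff_bijective]
  let x := u x'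
  obtain ⟨T, hT, hxT, -⟩ := Opens.isBasis_iff_nbhd.mp S.isBasis_affineOpens (Opens.mem_top (f x))
  obtain ⟨T', hT', hxT', hT'T⟩ := Opens.isBasis_iff_nbhd.mp S'.isBasis_affineOpens
    (show f' x' ∈ g ⁻¹ᵁ T by
      show g (f' x') ∈ T
      rw [← Scheme.Hom.comp_apply, ← hsq.w]; exact hxT)
  obtain ⟨U, hU, hxU, hUT⟩ := Opens.isBasis_iff_nbhd.mp X.isBasis_affineOpens (show x ∈ f ⁻¹ᵁ T from hxT)
  let U' : X'.Opens := u ⁻¹ᵁ U ⊓ f' ⁻¹ᵁ T'
  have hxU' : x' ∈ U' := ⟨hxU, hxT'⟩
  have e₁ : U' ≤ u ⁻¹ᵁ U := inf_le_left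
  have e₂ : U' ≤ f' ⁻¹ᵁ T' := inf_le_right
  have hU' : IsAffineOpen U' := by
    have : IsAffine _ := hT
    have : IsAffine _ := hT'
    have : IsAffine _ := hU
    exact .of_isIso (Scheme.Hom.isPullback_resLE hsq hT'T hUT rfl).isoPullback.hom
  have hpush : IsPushout (f.appLE T U hUT) (g.appLE T T' hT'T) (u.appLE U U' e₁) (f'.appLE T' U' e₂) :=
    (isIso_pushoutSection_iff hsq hT'T hUT rfl).1 (isIso_pushoutSection_of_isAffineOpen hsq hT'T hUT rfl hT hT' hU)
  let A := X.presheaf.stalk x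
  let A' := X'.presheaf.stalk x'
  let Oz := (PrinPart.nbhd f n).presheaf.stalk (PrinPart.toNbhd f n x)
  let Oz' := (PrinPart.nbhd f' n).presheaf.stalk (PrinPart.toNbhd f' n x')
  letI : Algebra Γ(S, T) A := (S.presheaf.germ T (f x) hxT ≫ f.stalkMap x).hom.toAlgebra
  letI : Algebra Γ(S', T') A' := (S'.presheaf.germ T' (f' x') hxT' ≫ f'.stalkMap x').hom.toAlgebra
  letI : Algebra A A' := (u.stalkMap x').hom.toAlgebra
  letI : Algebra Γ(X, U) A := (X.presheaf.germ U x hxU).hom.toAlgebra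
  letI : Algebra Γ(X', U') A' := (X'.presheaf.germ U' x' hxU').hom.toAlgebra
  haveI : IsLocalization (hU.primeIdealOf ⟨x, hxU⟩).asIdeal.primeCompl A := hU.isLocalization_stalk ⟨x, hxU⟩
  haveI : IsLocalization (hU'.primeIdealOf ⟨x', hxU'⟩).asIdeal.primeCompl A' := hU'.isLocalization_stalk ⟨x', hxU'⟩
  obtain ⟨ψ, hψs, hψk, hψ1, hψ2⟩ := PrinLib.exists_stalkRing f n x hT hxT
  obtain ⟨ψ', hψs', hψk', hψ1', hψ2'⟩ := PrinLib.exists_stalkRing f' n x' hT' hxT'
  have hU1 : ∀ r, X.presheaf.germ U x hxU (f.appLE T U hUT r) = f.stalkMap x (S.presheaf.germ T (f x) hxT r) :=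
    fun r => by
      rw [Scheme.Hom.germ_stalkMap_apply, Scheme.Hom.appLE, CommRingCat.comp_apply]
      exact X.presheaf.germ_res_apply _ x hxU _
  have hU2 : ∀ r, X'.presheaf.germ U' x' hxU' (f'.appLE T' U' e₂ r) =
      f'.stalkMap x' (S'.presheaf.germ T' (f' x') hxT' r) :=
    fun r => by
      rw [Scheme.Hom.germ_stalkMap_apply, Scheme.Hom.appLE, CommRingCat.comp_apply]
      exact X'.presheaf.germ_res_apply _ x' hxU' _
  have hU3 : ∀ s, u.stalkMap x' (X.presheaf.germ U x hxU s) = X'.presheaf.germ U' x' hxU' (u.appLE U U' e₁ s) :=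
    fun s => by
      rw [Scheme.Hom.germ_stalkMap_apply, Scheme.Hom.appLE, CommRingCat.comp_apply]
      exact (X'.presheaf.germ_res_apply _ x' hxU' _).symm
  letI algO : Algebra A Oz := (ψ.comp Algebra.TensorProduct.includeLeftRingHom).toAlgebra
  obtain ⟨Φ, hΦb, hΦl, hΦr⟩ := PrinLib.exists_principalParts_baseChange hpush
    (hU.primeIdealOf ⟨x, hxU⟩).asIdeal.primeCompl (hU'.primeIdealOf ⟨x', hxU'⟩).asIdeal.primeCompl
    hU1 hU2 hU3 n ψ hψs hψk ψ' hψs' hψk'
  obtain ⟨e, he, hes⟩ := PrinLib.exists_P_stalk f n x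
  obtain ⟨e', he', hes'⟩ := PrinLib.exists_P_stalk f' n x'
  obtain ⟨EU, hEU⟩ := exists_pullback_stalk_equiv u (PrinPart.P f n) x'
  let el : (DerSch.stalkFunctor X x).obj (PrinPart.P f n) ≃ₗ[A] Oz :=
    { e with
      map_smul' := fun a m => by
        show e (a • m) = algebraMap A Oz a * e m
        rw [hes]
        exact congrArg (· * e m) (hψ1 a).symm }
  let EU' : A' ⊗[A] Oz ≃ₗ[A'] (DerSch.stalkFunctor X' x').obj ((Scheme.Modules.pullback u).obj (PrinPart.P f n)) :=
    (LinearEquiv.baseChange A A' _ _ el.symm).trans EU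
  let φx : (DerSch.stalkFunctor X' x').obj ((Scheme.Modules.pullback u).obj (PrinPart.P f n)) →ₗ[A']
      (DerSch.stalkFunctor X' x').obj (PrinPart.P f' n) := ((DerSch.stalkFunctor X' x').map φ).hom
  have base : ∀ y : A, e' (φx (EU' (1 ⊗ₜ[A] ψ (1 ⊗ₜ y)))) = Φ (1 ⊗ₜ[A] ψ (1 ⊗ₜ y)) := by
    intro y
    obtain ⟨W, hW, b, rfl⟩ := X.presheaf.exists_germ_eq (x := x) y
    have h1 : el.symm (ψ (1 ⊗ₜ X.presheaf.germ W x hW b)) = gm _ W x hW (PrinPart.dn f n W b) := by
      rw [LinearEquiv.symm_apply_eq, hψ2]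
      exact (he W hW b).symm
    rw [hΦr, hψ2']
    show e' (φx (EU (LinearEquiv.baseChange A A' _ _ el.symm (1 ⊗ₜ _)))) = _
    rw [LinearEquiv.baseChange_tmul, h1, hEU]
    refine (congrArg e' ((map_gm (φ := φ) _ (show x' ∈ u ⁻¹ᵁ W from hW) _).trans ?_)).trans
      ((he' (u ⁻¹ᵁ W) hW (u.app W b)).trans (congrArg _ (Scheme.Hom.germ_stalkMap_apply u W x' hW b).symm))
    exact congrArg (gm _ (u ⁻¹ᵁ W) x' hW) (hφ W b)
  have hsm : ∀ (c : A') (o : Oz), c • ((1 : A') ⊗ₜ[A] o) = (c ⊗ₜ[A] (1 : Oz)) * ((1 : A') ⊗ₜ[A] o) :=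
    fun c o => by
      rw [TensorProduct.smul_tmul', Algebra.TensorProduct.tmul_mul_tmul, smul_eq_mul, one_mul]
  have hsplit : ∀ (a' : A') (a b : A),
      a' ⊗ₜ[A] ψ (a ⊗ₜ b) = (a' * algebraMap A A' a) • ((1 : A') ⊗ₜ[A] ψ (1 ⊗ₜ b)) := fun a' a b => by
    have h : ψ (a ⊗ₜ b) = a • ψ (1 ⊗ₜ b) := by
      rw [Algebra.smul_def, show algebraMap A Oz a = ψ (a ⊗ₜ 1) from rfl, ← map_mul,
        Algebra.TensorProduct.tmul_mul_tmul, one_mul, mul_one]
    rw [h, TensorProduct.tmul_smul, TensorProduct.smul_tmul', TensorProduct.smul_tmul', smul_eq_mul, mul_one,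
      Algebra.smul_def, mul_comm]
  let L : A' ⊗[A] Oz →+ Oz' := e'.toAddMonoidHom.comp (φx.toAddMonoidHom.comp EU'.toLinearMap.toAddMonoidHom)
  have hLΦ : ∀ (c : A') (b : A),
      L (c • ((1 : A') ⊗ₜ[A] ψ (1 ⊗ₜ b))) = Φ (c • ((1 : A') ⊗ₜ[A] ψ (1 ⊗ₜ b))) := fun c b => by
    show e' (φx (EU' (c • _))) = _
    rw [LinearEquiv.map_smul EU', LinearMap.map_smul φx, hes', base, hsm, map_mul, hΦl, hψ1']
  have key : ∀ t, L t = Φ t := by
    intro t
    induction t using TensorProduct.induction_on with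
    | zero => rw [map_zero, map_zero]
    | add a b ha hb => rw [map_add, map_add, ha, hb]
    | tmul a' o =>
      obtain ⟨q, rfl⟩ := hψs o
      induction q using TensorProduct.induction_on with
      | zero => rw [map_zero, TensorProduct.tmul_zero, map_zero, map_zero]
      | add a b ha hb => rw [map_add, TensorProduct.tmul_add, map_add, map_add, ha, hb]
      | tmul a b => rw [hsplit]; exact hLΦ _ b
  have hcomp : Function.Bijective fun t => e' (φx (EU' t)) := by
    rw [show (fun t => e' (φx (EU' t))) = Φ from funext key]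
    exact hΦb
  have h2 : Function.Bijective (φx ∘ EU') := (Function.Bijective.of_comp_iff' e'.bijective _).1 hcomp
  exact (Function.Bijective.of_comp_iff φx EU'.bijective).1 h2

end Groth.Agent.S5954
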