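import Groth.Statements.S5957
import Groth.Agent.PrinLib.Order

set_option backward.isDefEq.respectTransparency.types false
set_option backward.isDefEq.respectTransparency false

set_option autoImplicit false
universe u
open CategoryTheory CategoryTheory.Limits AlgebraicGeometry TopologicalSpace Opposite
open Nrm16

namespace Groth.Agent.S5957

/-- Let f : X ⟶ S be a morphism of schemes, F and G two O_X-modules and D : F ⟶ G a homomorphism of
sheaves of abelian groups. Then D is a differential operator of order at most 0 relative to S if and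
only if D is O_X-linear: D(a·t) = a·D(t) for every open U, every function a on U and every section t
of F over U. -/
theorem result {X S : Scheme.{u}} (f : X ⟶ S) (F G : X.Modules)
    (D : F.presheaf ⟶ G.presheaf) :
    PrinPart.IsDiffOpLE f F G 0 D ↔
      ∀ (U : X.Opens) (a : Γ(X, U)) (t : Γ(F, U)), D.app (op U) (a • t) = a • D.app (op U) t := by
  constructor
  · rintro ⟨u', hu⟩ U a t
    rw [hu, hu, PrinLib.dP_zero_smul, Scheme.Modules.Hom.app_smul]
  · intro h
    let φ : F ⟶ PrinPart.PMod f 0 F :=
      ⟨PresheafOfModules.homMk (PrinPart.dPHom f 0 F)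
        fun U a t => PrinLib.dP_zero_smul f F U.unop a t⟩
    let ψ : F ⟶ G := ⟨PresheafOfModules.homMk D fun U a t => h U.unop a t⟩
    haveI : IsIso φ := Scheme.Modules.Hom.isIso_iff_isIso_app.2 fun U =>
      (ConcreteCategory.isIso_iff_bijective _).2 (PrinLib.bijective_dP_zero f F U)
    refine ⟨inv φ ≫ ψ, fun U t => ?_⟩
    show D.app (op U) t = ψ.app U ((inv φ).app U (φ.app U t))
    rw [← ConcreteCategory.comp_apply (φ.app U), ← Scheme.Modules.Hom.comp_app, IsIso.hom_inv_id]
    rfl

end Groth.Agent.S5957
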