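import Groth.Statements.S5958
import Groth.Agent.PrinLib.Generate
import Groth.Agent.OmegaLib.Der

set_option backward.isDefEq.respectTransparency.types false
set_option backward.isDefEq.respectTransparency false

set_option autoImplicit false
universe u
open CategoryTheory CategoryTheory.Limits AlgebraicGeometry TopologicalSpace Opposite
open Nrm16
open Opposite

namespace Groth.Agent.S5958

/-- Let f : X ⟶ S be a morphism of schemes, F an O_X-module and n a natural number. The left O_X-module
P^n_{X/S}(F) of principal parts of order n of F is generated by the image of the canonical operator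
d^n : F ⟶ P^n_{X/S}(F): two O_X-linear maps out of P^n_{X/S}(F) into any O_X-module that agree on
d^n t for every local section t of F coincide. -/
theorem result {X S : Scheme.{u}} (f : X ⟶ S) (F G : X.Modules) (n : ℕ)
    (a b : PrinPart.PMod f n F ⟶ G)
    (h : ∀ (U : X.Opens) (t : Γ(F, U)), a.app U (PrinPart.dP f n F U t) = b.app U (PrinPart.dP f n F U t)) :
    a = b := by
  refine Scheme.Modules.hom_ext _ _ fun U => ?_
  ext s
  refine OmegaLib.section_ext fun x hx => ?_
  obtain ⟨W, hW, hxW, hs⟩ := PrinLib.exists_res_mem_spanDP f n F U s hx
  refine ⟨W, hW, hxW, ?_⟩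
  refine ((congr($(a.mapPresheaf.naturality (homOfLE hW).op) s)).symm.trans ?_).trans
    (congr($(b.mapPresheaf.naturality (homOfLE hW).op) s))
  show a.app W _ = b.app W _
  generalize (PrinPart.PMod f n F).presheaf.map (homOfLE hW).op s = v at hs ⊢
  induction hs using Submodule.span_induction with
  | mem v hv =>
    obtain ⟨t, rfl⟩ := hv
    exact h W t
  | zero => rw [map_zero, map_zero]
  | add u v _ _ hu hv => rw [map_add, map_add, hu, hv]
  | smul r v _ hv => rw [Scheme.Modules.Hom.app_smul, Scheme.Modules.Hom.app_smul, hv]

end Groth.Agent.S5958
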