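import Groth.Statements.S5961
import Groth.Agent.PrinLib.OrderOne
import Groth.Agent.OmegaLib.Der

set_option autoImplicit false
set_option backward.isDefEq.respectTransparency.types false
set_option backward.isDefEq.respectTransparency false
universe u
open CategoryTheory CategoryTheory.Limits AlgebraicGeometry TopologicalSpace
open Nrm16
open Opposite

namespace Groth.Agent.S5961

noncomputable section

variable {X S : Scheme.{u}} (f : X ⟶ S) (G : X.Modules)
  (D : (Coh.structureModule X).presheaf ⟶ G.presheaf)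

/-- `D` on a local function. -/
def Dv (U : X.Opens) (a : Γ(X, U)) : Γ(G, U) := D.app (op U) (OmegaSh.strSect X U a)

theorem Dv_add (U : X.Opens) (a b : Γ(X, U)) : Dv G D U (a + b) = Dv G D U a + Dv G D U b := by
  unfold Dv; rw [map_add, map_add]

theorem Dv_zero (U : X.Opens) : Dv G D U 0 = 0 := by
  unfold Dv; rw [map_zero, map_zero]

theorem D_one_res {U V : X.Opens} (e : V ≤ U) :
    D.app (op V) (OmegaSh.strSect X V 1) =
      G.presheaf.map (homOfLE e).op (D.app (op U) (OmegaSh.strSect X U 1)) := by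
  refine Eq.trans ?_ (congr($(D.naturality (homOfLE e).op) (OmegaSh.strSect X U 1)))
  show D.app (op V) _ = D.app (op V) ((Coh.structureModule X).presheaf.map (homOfLE e).op _)
  congr 1
  exact (map_one (X.presheaf.map (homOfLE e).op).hom).symm

/-- The linear part `a ↦ a • D 1`. -/
def linFun (U : X.Opens) : Γ(Coh.structureModule X, U) →+ Γ(G, U) where
  toFun a := OmegaSh.fnSect X U a • Dv G D U 1
  map_zero' := by rw [map_zero, zero_smul]
  map_add' a b := by rw [map_add, add_smul]

theorem linFun_res {U V : X.Opens} (e : V ≤ U) (a : Γ(Coh.structureModule X, U)) :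
    linFun G D V ((Coh.structureModule X).presheaf.map (homOfLE e).op a) =
      G.presheaf.map (homOfLE e).op (linFun G D U a) := by
  show X.presheaf.map (homOfLE e).op (OmegaSh.fnSect X U a) • Dv G D V 1 =
    G.presheaf.map (homOfLE e).op (OmegaSh.fnSect X U a • Dv G D U 1)
  rw [Scheme.Modules.map_smul]
  exact congrArg _ (D_one_res G D e)

theorem linFun_smul (U : X.Opens) (r : Γ(X, U)) (a : Γ(Coh.structureModule X, U)) :
    linFun G D U (r • a) = r • linFun G D U a :=
  mul_smul r (OmegaSh.fnSect X U a) (Dv G D U 1)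

/-- The linear part. -/
def linPart : Coh.structureModule X ⟶ G :=
  ⟨PresheafOfModules.homMk
    { app := fun U => AddCommGrpCat.ofHom (linFun G D U.unop)
      naturality := fun U V i => by
        ext a
        exact linFun_res G D i.unop.le a }
    fun U r a => linFun_smul G D U.unop r a⟩

theorem linPart_app (U : X.Opens) (a : Γ(X, U)) :
    (linPart G D).app U (OmegaSh.strSect X U a) = a • D.app (op U) (OmegaSh.strSect X U 1) :=
  rfl

variable (hD : PrinPart.IsDiffOpLE f (Coh.structureModule X) G 1 D)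

include hD in
theorem D_mul (U : X.Opens) (a b : Γ(X, U)) :
    D.app (op U) (OmegaSh.strSect X U (a * b)) =
      a • D.app (op U) (OmegaSh.strSect X U b) + b • D.app (op U) (OmegaSh.strSect X U a) -
        (a * b) • D.app (op U) (OmegaSh.strSect X U 1) := by
  obtain ⟨u', hu⟩ := hD
  rw [hu, hu, hu, hu]
  show u'.app U (PrinPart.dn f 1 U (a * b)) = _
  rw [PrinLib.dn_mul, map_sub, map_add, Scheme.Modules.Hom.app_smul, Scheme.Modules.Hom.app_smul,
    Scheme.Modules.Hom.app_smul]
  rfl

include hD in
theorem D_base (V : S.Opens) (c : Γ(S, V)) :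
    D.app (op (f ⁻¹ᵁ V)) (OmegaSh.strSect X (f ⁻¹ᵁ V) (f.app V c)) =
      f.app V c • D.app (op (f ⁻¹ᵁ V)) (OmegaSh.strSect X (f ⁻¹ᵁ V) 1) := by
  obtain ⟨u', hu⟩ := hD
  rw [hu, hu]
  show u'.app _ (PrinPart.dn f 1 (f ⁻¹ᵁ V) (f.app V c)) = _
  rw [PrinLib.dn_base, Scheme.Modules.Hom.app_smul]
  rfl

/-- The derivation `a ↦ D a - a • D 1` on sections. -/
def derFun (U : X.Opens) : Γ(X, U) →+ Γ(G, U) where
  toFun a := Dv G D U a - a • Dv G D U 1
  map_zero' := by rw [Dv_zero, zero_smul, sub_zero]
  map_add' a b := by rw [Dv_add, add_smul, add_sub_add_comm]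

include hD in
theorem derFun_mul (U : X.Opens) (a b : Γ(X, U)) :
    derFun G D U (a * b) = a • derFun G D U b + b • derFun G D U a := by
  show Dv G D U (a * b) - (a * b) • Dv G D U 1 =
    a • (Dv G D U b - b • Dv G D U 1) + b • (Dv G D U a - a • Dv G D U 1)
  rw [show Dv G D U (a * b) = a • Dv G D U b + b • Dv G D U a - (a * b) • Dv G D U 1 from D_mul f G D hD U a b]
  module

theorem derFun_res {U V : X.Opens} (e : V ≤ U) (a : Γ(X, U)) :
    derFun G D V (X.presheaf.map (homOfLE e).op a) = G.presheaf.map (homOfLE e).op (derFun G D U a) := by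
  show Dv G D V (X.presheaf.map (homOfLE e).op a) - X.presheaf.map (homOfLE e).op a • Dv G D V 1 =
    G.presheaf.map (homOfLE e).op (Dv G D U a - a • Dv G D U 1)
  rw [map_sub, Scheme.Modules.map_smul]
  exact congrArg₂ (fun p q => p - X.presheaf.map (homOfLE e).op a • q)
    (congr($(D.naturality (homOfLE e).op) (OmegaSh.strSect X U a))) (D_one_res G D e)

/-- The derivation part. -/
def derPart : OmegaSh.Der f G :=
  { d := fun {U} => derFun G D U.unop
    d_mul := fun {U} a b => derFun_mul f G D hD U.unop a b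
    d_map := fun {U V} i a => derFun_res G D i.unop.le a
    d_app := fun {V} c => sub_eq_zero.2 (D_base f G D hD V.unop c) }

theorem derPart_app (U : X.Opens) (a : Γ(X, U)) :
    (derPart f G D hD).app U a =
      D.app (op U) (OmegaSh.strSect X U a) - a • D.app (op U) (OmegaSh.strSect X U 1) :=
  rfl

theorem result {X S : Scheme.{u}} (f : X ⟶ S) (G : X.Modules)
    (D : (Coh.structureModule X).presheaf ⟶ G.presheaf)
    (hD : PrinPart.IsDiffOpLE f (Coh.structureModule X) G 1 D) :
    ∃! p : (Coh.structureModule X ⟶ G) × OmegaSh.Der f G,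
      ∀ (U : X.Opens) (a : Γ(X, U)),
        D.app (op U) (OmegaSh.strSect X U a) = p.1.app U (OmegaSh.strSect X U a) + p.2.app U a := by
  refine ⟨(linPart G D, derPart f G D hD), fun U a => ?_, ?_⟩
  · show _ = (linPart G D).app U _ + (derPart f G D hD).app U a
    rw [linPart_app, derPart_app, add_sub_cancel]
  rintro ⟨v, δ⟩ hp
  have hv : ∀ (U : X.Opens) (a : Γ(X, U)),
      v.app U (OmegaSh.strSect X U a) = a • D.app (op U) (OmegaSh.strSect X U 1) := by
    intro U a
    rw [hp U 1, OmegaLib.app_one, add_zero, ← Scheme.Modules.Hom.app_smul]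
    congr 1
    exact (mul_one a).symm
  refine Prod.ext (Scheme.Modules.hom_ext _ _ fun U => ?_) (OmegaLib.der_ext fun U a => ?_)
  · ext a
    exact (hv U (OmegaSh.fnSect X U a)).trans (linPart_app G D U (OmegaSh.fnSect X U a)).symm
  · rw [derPart_app, hp U a, hv U a, add_sub_cancel_left]

end

end Groth.Agent.S5961
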