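import Groth.Statements.S5963
import Groth.Agent.S5952
import Groth.Agent.OmegaLib.ConormalMap
import Groth.Agent.Omega15.Geometry
import Mathlib.RingTheory.Smooth.Kaehler

set_option linter.style.haveILetI false
set_option backward.isDefEq.respectTransparency.types false
set_option backward.isDefEq.respectTransparency false

set_option autoImplicit false
universe u
open CategoryTheory CategoryTheory.Limits AlgebraicGeometry TopologicalSpace Opposite
open Nrm16

open scoped TensorProduct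
open Groth.Agent.OmegaLib

namespace Groth.Agent.S5963

theorem germ_congr {P Q : Scheme.{u}} {p q : P ⟶ Q} (h : p = q) (W : Q.Opens) (z : P)
    (hp : z ∈ p ⁻¹ᵁ W) (hq : z ∈ q ⁻¹ᵁ W) (r : Γ(Q, W)) :
    P.presheaf.germ (p ⁻¹ᵁ W) z hp (p.app W r) = P.presheaf.germ (q ⁻¹ᵁ W) z hq (q.app W r) := by
  subst h; rfl

theorem mem_range_of_eq {Z P : Scheme.{u}} (j : Z ⟶ P) [IsImmersion j] [QuasiCompact j] (z : Z)
    {J : P.IdealSheafData} (hJ : J = j.ker)
    {ι : (DerSch.stalkFunctor P (j z)).obj (ClSub.idealMod J) →ₗ[P.presheaf.stalk (j z)]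
      P.presheaf.stalk (j z)}
    (hι : ∀ (W : P.Opens) (hy : j z ∈ W) (s : Γ(ClSub.idealMod J, W)),
        ι (gm _ W (j z) hy s) = P.presheaf.germ W (j z) hy (OmegaSh.idealSect J W s))
    (a : P.presheaf.stalk (j z)) : a ∈ LinearMap.range ι ↔ j.stalkMap z a = 0 := by
  subst hJ
  exact mem_range_idealStalkMap j z hι a

open KaehlerDifferential in
/-- A retraction of the conormal map at a formally smooth quotient. -/
theorem exists_retraction (k A B : Type u) [CommRing k] [CommRing A] [CommRing B] [Algebra k A] [Algebra k B]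
    [Algebra A B] [IsScalarTower k A B] (hs : Function.Surjective (algebraMap A B)) [Algebra.FormallySmooth k B] :
    ∃ r : B ⊗[A] Ω[A⁄k] →ₗ[B] B ⊗[A] (RingHom.ker (algebraMap A B)),
      ∀ i : RingHom.ker (algebraMap A B), r (1 ⊗ₜ KaehlerDifferential.D k A (i : A)) = 1 ⊗ₜ i := by
  let I := RingHom.ker (algebraMap A B)
  let f := (IsScalarTower.toAlgHom k A B).kerSquareLift
  have hf : Function.Surjective f := fun y => by
    obtain ⟨x, rfl⟩ := hs y
    exact ⟨Ideal.Quotient.mk _ x, rfl⟩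
  have hnil : IsNilpotent (RingHom.ker (f : (A ⧸ RingHom.ker (IsScalarTower.toAlgHom k A B).toRingHom ^ 2) →+* B)) :=
    ⟨2, by
      change RingHom.ker (IsScalarTower.toAlgHom k A B).kerSquareLift.toRingHom ^ 2 = 0
      rw [AlgHom.ker_kerSquareLift]; exact Ideal.cotangentIdeal_square _⟩
  obtain ⟨l, hl⟩ := (retractionKerCotangentToTensorEquivSection (R := k) hs).symm
    ⟨Algebra.FormallySmooth.liftOfSurjective (AlgHom.id k B) f hf hnil,
      Algebra.FormallySmooth.comp_liftOfSurjective _ _ _ _⟩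
  let τ : I →ₗ[A] B ⊗[A] I := TensorProduct.mk A B I 1
  have hτ : I • (⊤ : Submodule A I) ≤ LinearMap.ker τ := by
    refine Submodule.smul_le.2 fun a ha n _ => ?_
    rw [LinearMap.mem_ker, map_smul, TensorProduct.mk_apply, TensorProduct.smul_tmul', Algebra.smul_def,
      RingHom.mem_ker.1 ha, zero_mul, TensorProduct.zero_tmul]
  let σ : I.Cotangent →ₗ[A] B ⊗[A] I := Submodule.liftQ _ τ hτ
  refine ⟨(σ ∘ₗ l).extendScalarsOfSurjective hs, fun i => ?_⟩
  show σ (l (1 ⊗ₜ KaehlerDifferential.D k A (i : A))) = _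
  rw [← kerCotangentToTensor_toCotangent k A B i,
    show l (kerCotangentToTensor k A B (I.toCotangent i)) = I.toCotangent i from LinearMap.congr_fun hl _]
  rfl

/-- Let g : X ⟶ Y be a morphism with a section f : Y ⟶ X which is a closed immersion, u : Y' ⟶ Y a
morphism, X' a fibre product of X and Y' over Y with projections v : X' ⟶ X and g' : X' ⟶ Y', and f'
: Y' ⟶ X' the induced section of g' (so f' ≫ g' = 𝟙 and f' ≫ v = u ≫ f). Let φ : u^* Gr_1(f) ⟶
Gr_1(f') be the canonical O_{Y'}-linear map between the conormal sheaves I/I² and I'/I'² of f and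
f'. Then φ is an isomorphism. (The published statement allows any section f, and also identifies,
for every n, the n-th infinitesimal neighbourhood of f', as a scheme over X' and as a scheme affine
over Y', with the base change of the n-th infinitesimal neighbourhood of f along v and along u; this
row assumes f a closed immersion, the case in which the conormal sheaves are formed here, and states
only the assertion on conormal sheaves.) -/
theorem result {X Y X' Y' : Scheme.{u}} (g : X ⟶ Y) (f : Y ⟶ X)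
    [IsClosedImmersion f] (hf : f ≫ g = 𝟙 Y) (u : Y' ⟶ Y) (v : X' ⟶ X) (g' : X' ⟶ Y')
    (hsq : IsPullback v g' g u) (f' : Y' ⟶ X') (hf' : f' ≫ g' = 𝟙 Y') (hf'v : f' ≫ v = u ≫ f)
    (φ : (Scheme.Modules.pullback u).obj (PrinPart.grMod f 1) ⟶ PrinPart.grMod f' 1)
    (hφ : PrinPart.IsGrMap f' f v u 1 φ) :
    IsIso φ := by
  have hsq2 : IsPullback u f' f v := by
    refine IsPullback.of_bot ?_ hf'v.symm hsq
    have : IsPullback u (𝟙 Y') (𝟙 Y) u := IsPullback.of_vert_isIso ⟨by simp⟩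
    rwa [hf', hf]
  haveI : Epi φ := S5952.result f v u f' hsq2 1 φ hφ
  haveI : IsClosedImmersion f' := MorphismProperty.of_isPullback hsq2 inferInstance
  suffices hinj : ∀ y', Function.Injective ((DerSch.stalkFunctor Y' y').map φ) by
    haveI := mono_of_stalks_injective φ hinj
    exact isIso_of_mono_of_epi φ
  intro y'
  let x' : X' := f' y'
  let x : X := f (u y')
  have hxx : v x' = x := by rw [← Scheme.Hom.comp_apply, hf'v]; rfl
  have hgx : g x = u y' := by
    show (f ≫ g) (u y') = _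
    rw [hf]; rfl
  have hgx' : g' x' = y' := by
    show (f' ≫ g') y' = _
    rw [hf']; rfl
  obtain ⟨T, hT, hyT, -⟩ := Opens.isBasis_iff_nbhd.mp Y.isBasis_affineOpens (Opens.mem_top (u y'))
  obtain ⟨T', hT', hyT', hT'T⟩ := Opens.isBasis_iff_nbhd.mp Y'.isBasis_affineOpens
    (show y' ∈ u ⁻¹ᵁ T from hyT)
  obtain ⟨U, hU, hxU, hUT⟩ := Opens.isBasis_iff_nbhd.mp X.isBasis_affineOpens
    (show x ∈ g ⁻¹ᵁ T by show g x ∈ T; rw [hgx]; exact hyT)
  let U' : X'.Opens := v ⁻¹ᵁ U ⊓ g' ⁻¹ᵁ T'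
  have hxU' : x' ∈ U' := ⟨by show v x' ∈ U; rw [hxx]; exact hxU, by show g' x' ∈ T'; rw [hgx']; exact hyT'⟩
  have e₁ : U' ≤ v ⁻¹ᵁ U := inf_le_left
  have e₂ : U' ≤ g' ⁻¹ᵁ T' := inf_le_right
  have hU' : IsAffineOpen U' := by
    have : IsAffine _ := hT
    have : IsAffine _ := hT'
    have : IsAffine _ := hU
    exact .of_isIso (Scheme.Hom.isPullback_resLE hsq hT'T hUT rfl).isoPullback.hom
  have hpush : IsPushout (g.appLE T U hUT) (u.appLE T T' hT'T) (v.appLE U U' e₁) (g'.appLE T' U' e₂) :=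
    (isIso_pushoutSection_iff hsq hT'T hUT rfl).1 (isIso_pushoutSection_of_isAffineOpen hsq hT'T hUT rfl hT hT' hU)
  let vv : X.presheaf.stalk x ⟶ X'.presheaf.stalk x' :=
    X.presheaf.stalkSpecializes (specializes_of_eq hxx) ≫ v.stalkMap x'
  have hvv : ∀ (W : X.Opens) (hW : x ∈ W) (r : Γ(X, W)), vv (X.presheaf.germ W x hW r) =
      X'.presheaf.germ (v ⁻¹ᵁ W) x' (by show v x' ∈ W; rw [hxx]; exact hW) (v.app W r) := fun W hW r => by
    show v.stalkMap x' (X.presheaf.stalkSpecializes _ (X.presheaf.germ W x hW r)) = _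
    rw [TopCat.Presheaf.germ_stalkSpecializes_apply, Scheme.Hom.germ_stalkMap_apply]
  let k := Γ(Y, T)
  let k' := Γ(Y', T')
  let A := X.presheaf.stalk x
  let A' := X'.presheaf.stalk x'
  let C := Y.presheaf.stalk (u y')
  let C' := Y'.presheaf.stalk y'
  letI : Algebra k k' := (u.appLE T T' hT'T).hom.toAlgebra
  letI : Algebra k Γ(X, U) := (g.appLE T U hUT).hom.toAlgebra
  letI : Algebra Γ(X, U) Γ(X', U') := (v.appLE U U' e₁).hom.toAlgebra
  letI : Algebra k' Γ(X', U') := (g'.appLE T' U' e₂).hom.toAlgebra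
  letI : Algebra k Γ(X', U') := (g.appLE T U hUT ≫ v.appLE U U' e₁).hom.toAlgebra
  haveI : IsScalarTower k Γ(X, U) Γ(X', U') := .of_algebraMap_eq fun _ => rfl
  haveI : IsScalarTower k k' Γ(X', U') := .of_algebraMap_eq fun r => congr($(hpush.w) r)
  haveI : Algebra.IsPushout k k' Γ(X, U) Γ(X', U') := CommRingCat.isPushout_iff_isPushout.mp hpush.flip
  letI : Algebra Γ(X, U) A := (X.presheaf.germ U x hxU).hom.toAlgebra
  letI : Algebra Γ(X', U') A' := (X'.presheaf.germ U' x' hxU').hom.toAlgebra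
  letI : Algebra k A := (g.appLE T U hUT ≫ X.presheaf.germ U x hxU).hom.toAlgebra
  letI : Algebra k' A' := (g'.appLE T' U' e₂ ≫ X'.presheaf.germ U' x' hxU').hom.toAlgebra
  letI : Algebra A A' := vv.hom.toAlgebra
  letI : Algebra k A' := ((g.appLE T U hUT ≫ X.presheaf.germ U x hxU) ≫ vv).hom.toAlgebra
  letI : Algebra Γ(X, U) A' := (X.presheaf.germ U x hxU ≫ vv).hom.toAlgebra
  haveI : IsScalarTower k A A' := .of_algebraMap_eq fun _ => rfl
  haveI : IsScalarTower k Γ(X, U) A := .of_algebraMap_eq fun _ => rfl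
  haveI : IsScalarTower Γ(X, U) A A' := .of_algebraMap_eq fun _ => rfl
  haveI : IsScalarTower k' Γ(X', U') A' := .of_algebraMap_eq fun _ => rfl
  have hvU : ∀ a : Γ(X, U), vv (X.presheaf.germ U x hxU a) =
      X'.presheaf.germ U' x' hxU' (v.appLE U U' e₁ a) := fun a => by
    rw [hvv, Scheme.Hom.appLE, CommRingCat.comp_apply]
    exact (X'.presheaf.germ_res_apply _ x' hxU' _).symm
  haveI : IsScalarTower Γ(X, U) Γ(X', U') A' := .of_algebraMap_eq fun a => hvU a
  haveI : IsScalarTower k k' A' := .of_algebraMap_eq fun r => by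
    show vv (X.presheaf.germ U x hxU (g.appLE T U hUT r)) =
      X'.presheaf.germ U' x' hxU' (g'.appLE T' U' e₂ (u.appLE T T' hT'T r))
    rw [hvU]
    exact congrArg _ congr($(hpush.w) r)
  haveI : SMulCommClass k' A A' := ⟨fun a b c => by simp only [Algebra.smul_def]; ring⟩
  haveI := hU.isLocalization_stalk ⟨x, hxU⟩
  haveI := hU'.isLocalization_stalk ⟨x', hxU'⟩
  haveI : Algebra.FormallyEtale Γ(X, U) A :=
    .of_isLocalization (hU.primeIdealOf ⟨x, hxU⟩).asIdeal.primeCompl
  haveI : Algebra.FormallyEtale Γ(X', U') A' :=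
    .of_isLocalization (hU'.primeIdealOf ⟨x', hxU'⟩).asIdeal.primeCompl
  have hbij := Omega15.bijective_of_pushout k k' A A' Γ(X, U) Γ(X', U')
  -- the quotients
  letI : Algebra A C := (f.stalkMap (u y')).hom.toAlgebra
  letI : Algebra C C' := (u.stalkMap y').hom.toAlgebra
  letI : Algebra A' C' := (f'.stalkMap y').hom.toAlgebra
  letI : Algebra A C' := (f.stalkMap (u y') ≫ u.stalkMap y').hom.toAlgebra
  haveI : IsScalarTower A C C' := .of_algebraMap_eq fun _ => rfl
  haveI : IsScalarTower A A' C' := .of_algebraMap_eq fun a => by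
    obtain ⟨W, hW, r, rfl⟩ := X.presheaf.exists_germ_eq (x := x) a
    show u.stalkMap y' (f.stalkMap (u y') (X.presheaf.germ W x hW r)) = f'.stalkMap y' (vv (X.presheaf.germ W x hW r))
    rw [hvv, Scheme.Hom.germ_stalkMap_apply, Scheme.Hom.germ_stalkMap_apply, Scheme.Hom.germ_stalkMap_apply]
    exact germ_congr hf'v.symm W y' hW (by show v (f' y') ∈ W; rw [hxx]; exact hW) r
  letI : Algebra k C := (Y.presheaf.germ T (u y') hyT).hom.toAlgebra
  haveI : IsScalarTower k A C := .of_algebraMap_eq fun r => by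
    show Y.presheaf.germ T (u y') hyT r =
      f.stalkMap (u y') (X.presheaf.germ U x hxU (g.appLE T U hUT r))
    rw [Omega15.germ_appLE g hUT x hxU r, Scheme.Hom.germ_stalkMap_apply, Scheme.Hom.germ_stalkMap_apply]
    refine ((germ_congr hf T (u y') (show g (f (u y')) ∈ T by rw [hgx]; exact hyT) hyT r).trans ?_).symm
    rfl
  haveI := hT.isLocalization_stalk ⟨u y', hyT⟩
  haveI : Algebra.FormallyEtale k C :=
    .of_isLocalization (hT.primeIdealOf ⟨u y', hyT⟩).asIdeal.primeCompl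
  have hs : Function.Surjective (algebraMap A C) := f.stalkMap_surjective (u y')
  obtain ⟨ρ, hρ⟩ := exists_retraction k A C hs
  obtain ⟨ι, hιi, hι⟩ := exists_idealStalkMap (f.ker ^ 1) x
  obtain ⟨ι', -, hι'⟩ := exists_idealStalkMap (f'.ker ^ 1) x'
  obtain ⟨EF, hEF⟩ := exists_pullback_stalk_equiv f (ClSub.idealMod (f.ker ^ 1)) (u y')
  obtain ⟨EF', hEF'⟩ := exists_pullback_stalk_equiv f' (ClSub.idealMod (f'.ker ^ 1)) y'
  obtain ⟨EU, hEU⟩ := exists_pullback_stalk_equiv u (PrinPart.grMod f 1) y'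
  let M := (DerSch.stalkFunctor X x).obj (ClSub.idealMod (f.ker ^ 1))
  let M' := (DerSch.stalkFunctor X' x').obj (ClSub.idealMod (f'.ker ^ 1))
  have hr : LinearMap.range ι = RingHom.ker (algebraMap A C) := Submodule.ext fun a =>
    (mem_range_of_eq f (u y') (pow_one f.ker) hι a).trans RingHom.mem_ker.symm
  let eM : M ≃ₗ[A] RingHom.ker (algebraMap A C) := (LinearEquiv.ofInjective ι hιi).trans (LinearEquiv.ofEq _ _ hr)
  let ρ' : C ⊗[A] Ω[A⁄k] →ₗ[C] C ⊗[A] M := (LinearEquiv.baseChange A C _ _ eM.symm).toLinearMap ∘ₗ ρ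
  have hρ' : ∀ m : M, ρ' (1 ⊗ₜ KaehlerDifferential.D k A (ι m)) = 1 ⊗ₜ m := fun m => by
    show LinearEquiv.baseChange A C _ _ eM.symm (ρ (1 ⊗ₜ KaehlerDifferential.D k A ((eM m : RingHom.ker (algebraMap A C)) : A))) = _
    rw [hρ, LinearEquiv.baseChange_tmul, LinearEquiv.symm_apply_apply]
  haveI : SMulCommClass C A' C' := ⟨fun a b c => by simp only [Algebra.smul_def]; ring⟩
  haveI : SMulCommClass C A C' := ⟨fun a b c => by simp only [Algebra.smul_def]; ring⟩
  let N := C' ⊗[C] (C ⊗[A] M)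
  let lin : Ω[A⁄k] →ₗ[A] N :=
    ((TensorProduct.mk C C' (C ⊗[A] M) 1).restrictScalars A) ∘ₗ (ρ'.restrictScalars A) ∘ₗ
      (TensorProduct.mk A C Ω[A⁄k] 1)
  let e := LinearEquiv.ofBijective _ hbij
  let P : Ω[A'⁄k'] →ₗ[A'] N := (LinearMap.liftBaseChange A' lin) ∘ₗ e.symm.toLinearMap
  have hP : ∀ a : A, P (KaehlerDifferential.D k' A' (algebraMap A A' a)) =
      1 ⊗ₜ ρ' (1 ⊗ₜ KaehlerDifferential.D k A a) := fun a => by
    have h1 : e ((1 : A') ⊗ₜ KaehlerDifferential.D k A a) = KaehlerDifferential.D k' A' (algebraMap A A' a) := by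
      show (KaehlerDifferential.map k k' A A').liftBaseChange A' _ = _
      rw [LinearMap.liftBaseChange_tmul, one_smul, KaehlerDifferential.map_D]
    show LinearMap.liftBaseChange A' lin (e.symm _) = _
    rw [← h1, LinearEquiv.symm_apply_apply, LinearMap.liftBaseChange_tmul, one_smul]
    rfl
  have hι'0 : ∀ m : M', algebraMap A' C' (ι' m) = 0 := fun m =>
    (mem_range_of_eq f' y' (pow_one f'.ker) hι' _).1 ⟨m, rfl⟩
  let Θ₀ : M' →ₗ[A'] N :=
    { toFun := fun m => P (KaehlerDifferential.D k' A' (ι' m))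
      map_add' := fun a b => by rw [map_add, map_add, map_add]
      map_smul' := fun a m => by
        rw [map_smul, smul_eq_mul, Derivation.leibniz, map_add, map_smul, map_smul, RingHom.id_apply,
          ← algebraMap_smul C' (ι' m) (P _), hι'0, zero_smul, add_zero] }
  let Θ : (DerSch.stalkFunctor Y' y').obj (PrinPart.grMod f' 1) →ₗ[C'] N :=
    (LinearMap.liftBaseChange C' Θ₀) ∘ₗ EF'.symm.toLinearMap
  let Φ : (DerSch.stalkFunctor Y' y').obj ((Scheme.Modules.pullback u).obj (PrinPart.grMod f 1)) →ₗ[C']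
      (DerSch.stalkFunctor Y' y').obj (PrinPart.grMod f' 1) := ((DerSch.stalkFunctor Y' y').map φ).hom
  let EU' : N ≃ₗ[C'] (DerSch.stalkFunctor Y' y').obj ((Scheme.Modules.pullback u).obj (PrinPart.grMod f 1)) :=
    (LinearEquiv.baseChange C C' _ _ EF).trans EU
  have hle : f.ker ^ 1 ≤ (f'.ker ^ 1).map v := by
    rw [pow_one, pow_one, Scheme.IdealSheafData.le_map_iff_comap_le]
    exact PrinLib.comap_ker_le f' f v u hf'v.symm
  have key : ∀ n : N, Θ (Φ (EU' n)) = n := by
    have base : ∀ m : M, Θ (Φ (EU' (1 ⊗ₜ (1 ⊗ₜ m)))) = 1 ⊗ₜ (1 ⊗ₜ m) := by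
      intro m
      obtain ⟨W, hW, s, rfl⟩ := exists_gm _ m
      obtain ⟨s', hs'⟩ := exists_idealSect_app v (f'.ker ^ 1) (f.ker ^ 1) hle W s
      have h1 : x' ∈ v ⁻¹ᵁ W := by show v x' ∈ W; rw [hxx]; exact hW
      have h2 : Φ (EU' (1 ⊗ₜ (1 ⊗ₜ gm (ClSub.idealMod (f.ker ^ 1)) W x hW s))) =
          EF' (1 ⊗ₜ gm (ClSub.idealMod (f'.ker ^ 1)) (v ⁻¹ᵁ W) x' h1 s') := by
        rw [hEF']
        show Φ (EU (LinearEquiv.baseChange C C' _ _ EF (1 ⊗ₜ (1 ⊗ₜ _)))) = _
        rw [LinearEquiv.baseChange_tmul, hEF]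
        refine (congrArg Φ (hEU (f ⁻¹ᵁ W) hW _)).trans ?_
        let V : Y'.Opens := u ⁻¹ᵁ (f ⁻¹ᵁ W) ⊓ f' ⁻¹ᵁ (v ⁻¹ᵁ W)
        have hW' : y' ∈ u ⁻¹ᵁ (f ⁻¹ᵁ W) := hW
        have hy : y' ∈ V := ⟨hW', h1⟩
        refine (map_gm (φ := φ) _ hW' _).trans (((gm_res _ hW' (inf_le_left : V ≤ _) hy _).symm.trans ?_).trans
          (gm_res _ (show y' ∈ f' ⁻¹ᵁ (v ⁻¹ᵁ W) from h1) (inf_le_right : V ≤ _) hy _))
        exact congrArg (gm _ V y' hy) (hφ.2 W s s' hs' V inf_le_left inf_le_right)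
      rw [h2]
      show LinearMap.liftBaseChange C' Θ₀ (EF'.symm (EF' _)) = _
      rw [LinearEquiv.symm_apply_apply, LinearMap.liftBaseChange_tmul, one_smul]
      show P (KaehlerDifferential.D k' A' (ι' _)) = _
      rw [hι', hs', ← hvv W hW, ← hι W hW s,
        show vv (ι (gm _ W x hW s)) = algebraMap A A' (ι (gm _ W x hW s)) from rfl, hP, hρ']
    intro n
    induction n using TensorProduct.induction_on with
    | zero => simp only [map_zero]
    | add a b ha hb => simp only [map_add, ha, hb]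
    | tmul c t =>
      induction t using TensorProduct.induction_on generalizing c with
      | zero => simp only [TensorProduct.tmul_zero, map_zero]
      | add a b ha hb => simp only [TensorProduct.tmul_add, map_add, ha, hb]
      | tmul d m =>
        rw [show c ⊗ₜ[C] (d ⊗ₜ[A] m) = (c * algebraMap C C' d) • ((1 : C') ⊗ₜ[C] ((1 : C) ⊗ₜ[A] m)) by
          rw [TensorProduct.smul_tmul', smul_eq_mul, mul_one, mul_comm, ← Algebra.smul_def,
            TensorProduct.smul_tmul, TensorProduct.smul_tmul', smul_eq_mul, mul_one]]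
        simp only [map_smul, base]
  intro a b hab
  obtain ⟨n, rfl⟩ := EU'.surjective a
  obtain ⟨n', rfl⟩ := EU'.surjective b
  rw [← key n, ← key n']
  exact congrArg (fun z => EU' (Θ z)) hab

end Groth.Agent.S5963
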