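import Groth.Statements.S5964
import Groth.Agent.OmegaLib.GrBaseChange
import Groth.Agent.OmegaLib.FlatPush
import Mathlib.RingTheory.Flat.Localization

set_option linter.style.haveILetI false
set_option backward.isDefEq.respectTransparency.types false
set_option backward.isDefEq.respectTransparency false

set_option autoImplicit false
universe u
open CategoryTheory CategoryTheory.Limits AlgebraicGeometry TopologicalSpace Opposite
open Nrm16

open scoped TensorProduct
open Groth.Agent.OmegaLib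

namespace Groth.Agent.S5964

theorem germ_congr {P Q : Scheme.{u}} {p q : P ⟶ Q} (h : p = q) (W : Q.Opens) (z : P)
    (hp : z ∈ p ⁻¹ᵁ W) (hq : z ∈ q ⁻¹ᵁ W) (r : Γ(Q, W)) :
    P.presheaf.germ (p ⁻¹ᵁ W) z hp (p.app W r) = P.presheaf.germ (q ⁻¹ᵁ W) z hq (q.app W r) := by
  subst h; rfl

/-- Let g : X ⟶ Y be a morphism with a section f : Y ⟶ X which is a closed immersion, u : Y' ⟶ Y a
morphism, X' a fibre product of X and Y' over Y with projections v : X' ⟶ X and g' : X' ⟶ Y', and f'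
: Y' ⟶ X' the induced section of g'. Let m be such that the graded pieces Gr_k(f) = I^k/I^(k+1) of
the ideal of f are flat O_Y-modules for every k ≤ m. Then for every n ≤ m the canonical
O_{Y'}-linear map φ : u^* Gr_n(f) ⟶ Gr_n(f') is an isomorphism. (The published statement allows any
section f, and also covers the case u flat, in which the conclusion holds for every n with no
flatness hypothesis on the graded pieces; this row assumes f a closed immersion, the case in which
the graded pieces are formed here, and states only the case of flat graded pieces.) -/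
theorem result {X Y X' Y' : Scheme.{u}} (g : X ⟶ Y) (f : Y ⟶ X)
    [IsClosedImmersion f] (hf : f ≫ g = 𝟙 Y) (u : Y' ⟶ Y) (v : X' ⟶ X) (g' : X' ⟶ Y')
    (hsq : IsPullback v g' g u) (f' : Y' ⟶ X') (hf' : f' ≫ g' = 𝟙 Y') (hf'v : f' ≫ v = u ≫ f)
    (m : ℕ) (hflat : ∀ k ≤ m, FlatMod.IsFlat (PrinPart.grMod f k)) {n : ℕ} (hn : n ≤ m)
    (φ : (Scheme.Modules.pullback u).obj (PrinPart.grMod f n) ⟶ PrinPart.grMod f' n)
    (hφ : PrinPart.IsGrMap f' f v u n φ) :
    IsIso φ := by
  have hsq2 : IsPullback u f' f v := by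
    refine IsPullback.of_bot ?_ hf'v.symm hsq
    have : IsPullback u (𝟙 Y') (𝟙 Y) u := IsPullback.of_vert_isIso ⟨by simp⟩
    rwa [hf', hf]
  refine isIso_grMap_of_injective f v u f' hsq2 n φ hφ fun y' => ?_
  let x' : X' := f' y'
  let x : X := f (u y')
  have hxx : v x' = x := by rw [← Scheme.Hom.comp_apply, hf'v]; rfl
  have hgx : g x = u y' := by
    show (f ≫ g) (u y') = _
    rw [hf]; rfl
  have hgx' : g' x' = y' := by
    show (f' ≫ g') y' = _
    rw [hf']; rfl
  obtain ⟨T, hT, hyT, -⟩ := Opens.isBasis_iff_nbhd.mp Y.isBasis_affineOpens (Opens.mem_top (u y'))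
  obtain ⟨T', hT', hyT', hT'T⟩ := Opens.isBasis_iff_nbhd.mp Y'.isBasis_affineOpens
    (show y' ∈ u ⁻¹ᵁ T from hyT)
  obtain ⟨U, hU, hxU, hUT⟩ := Opens.isBasis_iff_nbhd.mp X.isBasis_affineOpens
    (show x ∈ g ⁻¹ᵁ T by show g x ∈ T; rw [hgx]; exact hyT)
  let U' : X'.Opens := v ⁻¹ᵁ U ⊓ g' ⁻¹ᵁ T'
  have hxU' : x' ∈ U' := ⟨by show v x' ∈ U; rw [hxx]; exact hxU, by show g' x' ∈ T'; rw [hgx']; exact hyT'⟩
  have e₁ : U' ≤ v ⁻¹ᵁ U := inf_le_left
  have e₂ : U' ≤ g' ⁻¹ᵁ T' := inf_le_right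
  have hU' : IsAffineOpen U' := by
    have : IsAffine _ := hT
    have : IsAffine _ := hT'
    have : IsAffine _ := hU
    exact .of_isIso (Scheme.Hom.isPullback_resLE hsq hT'T hUT rfl).isoPullback.hom
  have hpush : IsPushout (g.appLE T U hUT) (u.appLE T T' hT'T) (v.appLE U U' e₁) (g'.appLE T' U' e₂) :=
    (isIso_pushoutSection_iff hsq hT'T hUT rfl).1 (isIso_pushoutSection_of_isAffineOpen hsq hT'T hUT rfl hT hT' hU)
  let vv : X.presheaf.stalk x ⟶ X'.presheaf.stalk x' := sqMap f v u f' hsq2.w y'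
  have hvv := sqMap_germ f v u f' hsq2.w y'
  let k := Γ(Y, T)
  let k' := Γ(Y', T')
  let A := X.presheaf.stalk x
  let A' := X'.presheaf.stalk x'
  let C := Y.presheaf.stalk (u y')
  letI : Algebra k k' := (u.appLE T T' hT'T).hom.toAlgebra
  letI : Algebra k Γ(X, U) := (g.appLE T U hUT).hom.toAlgebra
  letI : Algebra Γ(X, U) Γ(X', U') := (v.appLE U U' e₁).hom.toAlgebra
  letI : Algebra k' Γ(X', U') := (g'.appLE T' U' e₂).hom.toAlgebra
  letI : Algebra k Γ(X', U') := (g.appLE T U hUT ≫ v.appLE U U' e₁).hom.toAlgebra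
  haveI : IsScalarTower k Γ(X, U) Γ(X', U') := .of_algebraMap_eq fun _ => rfl
  haveI : IsScalarTower k k' Γ(X', U') := .of_algebraMap_eq fun r => congr($(hpush.w) r)
  haveI : Algebra.IsPushout k k' Γ(X, U) Γ(X', U') := CommRingCat.isPushout_iff_isPushout.mp hpush.flip
  letI : Algebra Γ(X, U) A := (X.presheaf.germ U x hxU).hom.toAlgebra
  letI : Algebra Γ(X', U') A' := (X'.presheaf.germ U' x' hxU').hom.toAlgebra
  letI : Algebra k A := (g.appLE T U hUT ≫ X.presheaf.germ U x hxU).hom.toAlgebra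
  letI : Algebra A A' := vv.hom.toAlgebra
  letI : Algebra Γ(X, U) A' := (X.presheaf.germ U x hxU ≫ vv).hom.toAlgebra
  haveI : IsScalarTower k Γ(X, U) A := .of_algebraMap_eq fun _ => rfl
  haveI : IsScalarTower Γ(X, U) A A' := .of_algebraMap_eq fun _ => rfl
  haveI : IsScalarTower Γ(X, U) Γ(X', U') A' := .of_algebraMap_eq fun a => by
    show vv (X.presheaf.germ U x hxU a) = X'.presheaf.germ U' x' hxU' (v.appLE U U' e₁ a)
    rw [hvv U hxU (e₁ hxU'), Scheme.Hom.appLE, CommRingCat.comp_apply]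
    exact (X'.presheaf.germ_res_apply _ x' hxU' _).symm
  haveI := hU.isLocalization_stalk ⟨x, hxU⟩
  haveI := hU'.isLocalization_stalk ⟨x', hxU'⟩
  haveI : Module.Flat Γ(X', U') A' :=
    IsLocalization.flat A' (hU'.primeIdealOf ⟨x', hxU'⟩).asIdeal.primeCompl
  letI : Algebra A C := (f.stalkMap (u y')).hom.toAlgebra
  letI : Algebra k C := (Y.presheaf.germ T (u y') hyT).hom.toAlgebra
  haveI : IsScalarTower k A C := .of_algebraMap_eq fun r => by
    show Y.presheaf.germ T (u y') hyT r =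
      f.stalkMap (u y') (X.presheaf.germ U x hxU (g.appLE T U hUT r))
    rw [Omega15.germ_appLE g hUT x hxU r, Scheme.Hom.germ_stalkMap_apply, Scheme.Hom.germ_stalkMap_apply]
    refine ((germ_congr hf T (u y') (show g (f (u y')) ∈ T by rw [hgx]; exact hyT) hyT r).trans ?_).symm
    rfl
  haveI := hT.isLocalization_stalk ⟨u y', hyT⟩
  haveI : Module.Flat k C := IsLocalization.flat C (hT.primeIdealOf ⟨u y', hyT⟩).asIdeal.primeCompl
  have hs : Function.Surjective (algebraMap A C) := f.stalkMap_surjective (u y')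
  let K : Ideal A := RingHom.ker (f.stalkMap (u y')).hom
  refine injective_liftBaseChange_pow (k := k) (k' := k') (R := Γ(X, U)) (P := Γ(X', U'))
    (hU.primeIdealOf ⟨x, hxU⟩).asIdeal.primeCompl K n fun j hj => ?_
  haveI : Module.Flat C ((DerSch.stalkFunctor Y (u y')).obj ((Scheme.Modules.pullback f).obj (ClSub.idealMod (f.ker ^ j)))) :=
    hflat j (hj.le.trans hn) (u y')
  obtain ⟨EF, -⟩ := exists_pullback_stalk_equiv f (ClSub.idealMod (f.ker ^ j)) (u y')
  obtain ⟨ι, hιi, hι⟩ := exists_idealStalkMap (f.ker ^ j) x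
  have hr : LinearMap.range ι = K ^ j := by
    rw [range_idealStalkMap_eq_map (f.ker ^ j) x hU hxU hι, Scheme.IdealSheafData.ideal_pow, Pi.pow_apply,
      Ideal.map_pow, map_germ_eq_ker f (u y') hU hxU]
  let eM := (LinearEquiv.ofInjective ι hιi).trans (LinearEquiv.ofEq _ _ hr)
  haveI : Module.Flat C (C ⊗[A] ↥(K ^ j)) :=
    Module.Flat.of_linearEquiv ((LinearEquiv.baseChange A C _ _ eM.symm).trans EF)
  haveI : Module.Flat k (C ⊗[A] ↥(K ^ j)) := Module.Flat.trans k C _
  let q : (A ⧸ K) ≃ₐ[A] C := Ideal.quotientKerAlgEquivOfSurjective (f := Algebra.ofId A C) hs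
  exact Module.Flat.of_linearEquiv
    ((TensorProduct.congr q.toLinearEquiv (LinearEquiv.refl A ↥(K ^ j))).restrictScalars k)

end Groth.Agent.S5964
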