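import Groth.Statements.S5969
import Groth.Agent.PrinLib.Nbhd

set_option autoImplicit false
set_option backward.isDefEq.respectTransparency false
universe u
open CategoryTheory CategoryTheory.Limits AlgebraicGeometry TopologicalSpace
open Nrm16

namespace Groth.Agent.S5969

theorem preimage_coborder {X S : Scheme.{u}} (f : X ⟶ S) :
    (pullback.diagonal f).coborderRange ≤
      (pullbackSymmetry f f).hom ⁻¹ᵁ (pullback.diagonal f).coborderRange := by
  have hd : pullback.diagonal f ≫ (pullbackSymmetry f f).hom = pullback.diagonal f := by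
    apply pullback.hom_ext <;> simp
  have hpre : (pullbackSymmetry f f).hom ⁻¹' Set.range (pullback.diagonal f) =
      Set.range (pullback.diagonal f) := by
    have hinj : Function.Injective (pullbackSymmetry f f).hom :=
      (pullbackSymmetry f f).hom.homeomorph.injective
    ext z
    constructor
    · rintro ⟨x, hx⟩
      refine ⟨x, hinj ?_⟩
      rw [← Scheme.Hom.comp_apply, hd]
      exact hx
    · rintro ⟨x, rfl⟩
      exact ⟨x, by rw [← Scheme.Hom.comp_apply, hd]⟩
  intro z hz
  show (pullbackSymmetry f f).hom z ∈ coborder (Set.range (pullback.diagonal f))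
  have h := (pullbackSymmetry f f).hom.homeomorph.isOpenEmbedding.coborder_preimage
    (Set.range (pullback.diagonal f))
  have hz' : z ∈ coborder ((pullbackSymmetry f f).hom ⁻¹' Set.range (pullback.diagonal f)) := by
    rw [hpre]; exact hz
  exact (Set.ext_iff.1 h z).1 hz'

theorem result {X S : Scheme.{u}} (f : X ⟶ S) (n : ℕ) :
    ∃ σ : PrinPart.nbhd f n ⟶ PrinPart.nbhd f n,
      σ ≫ PrinPart.nbhdι f n = PrinPart.nbhdι f n ≫ (pullbackSymmetry f f).hom ∧
      σ ≫ σ = 𝟙 (PrinPart.nbhd f n) ∧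
      σ ≫ PrinPart.pr1 f n = PrinPart.pr2 f n ∧ σ ≫ PrinPart.pr2 f n = PrinPart.pr1 f n ∧
      PrinPart.toNbhd f n ≫ σ = PrinPart.toNbhd f n := by
  let O := (pullback.diagonal f).coborderRange
  let g : (O : Scheme.{u}) ⟶ O := (pullbackSymmetry f f).hom.resLE O O (preimage_coborder f)
  have hg : g ≫ O.ι = O.ι ≫ (pullbackSymmetry f f).hom := Scheme.Hom.resLE_comp_ι _ _
  have hd : pullback.diagonal f ≫ (pullbackSymmetry f f).hom = pullback.diagonal f := by
    apply pullback.hom_ext <;> simp
  have hsq : 𝟙 X ≫ PrinPart.diagCl f = PrinPart.diagCl f ≫ g := by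
    rw [← cancel_mono O.ι, Category.id_comp, Category.assoc, hg, Scheme.Hom.liftCoborder_ι_assoc,
      Scheme.Hom.liftCoborder_ι, hd]
  let σ := PrinLib.infMap (PrinPart.diagCl f) (PrinPart.diagCl f) g (𝟙 X) hsq n
  have h1 : σ ≫ PrinPart.nbhdι f n = PrinPart.nbhdι f n ≫ (pullbackSymmetry f f).hom := by
    rw [PrinPart.nbhdι, PrinLib.infMap_ι_assoc, Category.assoc, hg]
  haveI : Mono (PrinPart.nbhdι f n) := by
    unfold PrinPart.nbhdι
    exact mono_comp _ _
  refine ⟨σ, h1, ?_, ?_, ?_, ?_⟩
  · rw [← cancel_mono (PrinPart.nbhdι f n), Category.assoc, h1, reassoc_of% h1, Category.id_comp]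
    rw [show (pullbackSymmetry f f).hom ≫ (pullbackSymmetry f f).hom = 𝟙 _ by
      apply pullback.hom_ext <;> simp, Category.comp_id]
  · rw [PrinPart.pr1, PrinPart.pr2, reassoc_of% h1, pullbackSymmetry_hom_comp_fst]
  · rw [PrinPart.pr1, PrinPart.pr2, reassoc_of% h1, pullbackSymmetry_hom_comp_snd]
  · rw [← cancel_mono (PrinPart.nbhdι f n), Category.assoc, h1, reassoc_of% (PrinPart.toNbhd_ι f n), hd,
      PrinPart.toNbhd_ι]

end Groth.Agent.S5969
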