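import Groth.Statements.S5970
import Groth.Agent.SymAlgLib.Consequences
import Groth.Agent.RelSpecLib.Basic
import Groth.Agent.OmegaLib.Sections
import Groth.Agent.EGA43.InjFibre.PullSections
import Groth.Agent.Coherent.PullUnit
import Groth.Agent.Props12.FinLocFree
import Groth.Agent.TwistLib.G.Map
import Mathlib.Algebra.TrivSqZeroExt.Basic

set_option linter.style.haveILetI false
set_option backward.isDefEq.respectTransparency.types false
set_option backward.isDefEq.respectTransparency false

set_option autoImplicit false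
universe u
open CategoryTheory CategoryTheory.Limits AlgebraicGeometry TopologicalSpace Opposite
open Nrm16

namespace Groth.Agent.S5970

open scoped TensorProduct

theorem derivation_ext_zero {R B N : Type u} [CommRing R] [CommRing B] [Algebra R B] [AddCommGroup N]
    [Module B N] [Module R N] [IsScalarTower R B N] {M : Type u} (ι : M → B)
    (hext : ∀ (C : Type u) [CommRing C] (F G : B →+* C), (∀ r, F (algebraMap R B r) = G (algebraMap R B r)) →
      (∀ m, F (ι m) = G (ι m)) → F = G)
    (D : Derivation R B N) (hD : ∀ m, D (ι m) = 0) (b : B) : D b = 0 := by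
  letI : Module Bᵐᵒᵖ N := Module.compHom N ((RingHom.id B).fromOpposite mul_comm)
  haveI : IsCentralScalar B N := ⟨fun _ _ => rfl⟩
  let F : B →+* TrivSqZeroExt B N :=
    { toFun := fun b => TrivSqZeroExt.inl b + TrivSqZeroExt.inr (D b)
      map_one' := TrivSqZeroExt.ext (by simp) (by simp)
      map_mul' := fun a b => TrivSqZeroExt.ext (by simp)
        (by simp only [TrivSqZeroExt.snd_add, TrivSqZeroExt.snd_inl, TrivSqZeroExt.snd_inr, zero_add,
              TrivSqZeroExt.snd_mul, TrivSqZeroExt.fst_add, TrivSqZeroExt.fst_inl, TrivSqZeroExt.fst_inr,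
              add_zero, op_smul_eq_smul, Derivation.leibniz])
      map_zero' := TrivSqZeroExt.ext (by simp) (by simp)
      map_add' := fun a b => TrivSqZeroExt.ext (by simp) (by simp) }
  have h := hext _ F (TrivSqZeroExt.inlHom B N)
    (fun r => TrivSqZeroExt.ext (by simp [F]) (by simp [F]))
    (fun m => TrivSqZeroExt.ext (by simp [F]) (by simp [F, hD]))
  simpa [F] using congrArg TrivSqZeroExt.snd (RingHom.congr_fun h b)

/-- The differentials of a symmetric algebra. -/
theorem bijective_of_symm {R B M T : Type u} [CommRing R] [CommRing B] [Algebra R B] [AddCommGroup M] [Module R M]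
    [AddCommGroup T] [Module B T] [Module R T] [IsScalarTower R B T]
    (μ : M →ₗ[R] T) (hμ : IsBaseChange B μ) (ι : M →ₗ[R] B)
    (hext : ∀ (C : Type u) [CommRing C] (F G : B →+* C), (∀ r, F (algebraMap R B r) = G (algebraMap R B r)) →
      (∀ m, F (ι m) = G (ι m)) → F = G)
    (hlift : ∀ (C : Type u) [CommRing C] (a : R →+* C) (b : M →+ C), (∀ r x, b (r • x) = a r * b x) →
      ∃ F : B →+* C, (∀ r, F (algebraMap R B r) = a r) ∧ ∀ x, F (ι x) = b x)
    (L : T →ₗ[B] Ω[B⁄R]) (hL : ∀ m, L (μ m) = KaehlerDifferential.D R B (ι m)) :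
    Function.Bijective L := by
  letI : Module Bᵐᵒᵖ T := Module.compHom T ((RingHom.id B).fromOpposite mul_comm)
  haveI : IsCentralScalar B T := ⟨fun _ _ => rfl⟩
  obtain ⟨F, hFr, hFm⟩ := hlift (TrivSqZeroExt B T) ((TrivSqZeroExt.inlHom B T).comp (algebraMap R B))
    (AddMonoidHom.mk' (fun m => TrivSqZeroExt.inl (ι m) + TrivSqZeroExt.inr (μ m))
      fun a b => TrivSqZeroExt.ext (by simp) (by simp))
    (fun r x => TrivSqZeroExt.ext (by simp [Algebra.smul_def])
      (by simp [algebraMap_smul]))
  have hfst : ∀ b, (F b).fst = b := by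
    have h := hext B ((TrivSqZeroExt.fstHom B B T).toRingHom.comp F) (RingHom.id B)
      (fun r => by simp [hFr]) (fun m => by simp [hFm])
    exact fun b => RingHom.congr_fun h b
  let δ : Derivation R B T := Derivation.mk'
    { toFun := fun b => (F b).snd
      map_add' := fun a b => by simp
      map_smul' := fun r b => by
        show (F (r • b)).snd = r • (F b).snd
        rw [Algebra.smul_def, map_mul, hFr]
        simp [algebraMap_smul] }
    (fun a b => by
      show (F (a * b)).snd = a • (F b).snd + b • (F a).snd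
      rw [map_mul, TrivSqZeroExt.snd_mul, op_smul_eq_smul, hfst, hfst])
  let l := δ.liftKaehlerDifferential
  have hlD : ∀ b, l (KaehlerDifferential.D R B b) = (F b).snd := δ.liftKaehlerDifferential_comp_D
  refine ⟨Function.LeftInverse.injective (g := l) fun t => ?_, ?_⟩
  · induction t using hμ.inductionOn with
    | zero => rw [map_zero, map_zero]
    | tmul m => rw [hL, hlD, hFm]; simp
    | smul b t ht => rw [map_smul, map_smul, ht]
    | add t t' ht ht' => rw [map_add, map_add, ht, ht']
  · rw [← LinearMap.range_eq_top, eq_top_iff, ← KaehlerDifferential.span_range_derivation, Submodule.span_le]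
    rintro _ ⟨b, rfl⟩
    have h := derivation_ext_zero ι hext
      ((LinearMap.range L).mkQ.compDer (KaehlerDifferential.D R B)) (fun m => by
        show (LinearMap.range L).mkQ (KaehlerDifferential.D R B (ι m)) = 0
        rw [← hL, Submodule.mkQ_apply, Submodule.Quotient.mk_eq_zero]
        exact ⟨_, rfl⟩) b
    exact (Submodule.Quotient.mk_eq_zero _).1 h

theorem bijective_app_of_eq {X : Scheme.{u}} {M N : X.Modules} (φ : M ⟶ N) {W W' : X.Opens} (h : W = W')
    (hb : Function.Bijective (φ.app W')) : Function.Bijective (φ.app W) := by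
  subst h; exact hb

/-- Let S be a scheme, E a quasi-coherent O_S-module and A its symmetric algebra, given as a
quasi-coherent O_S-algebra with a module map j : E ⟶ A having the universal property; let X = V(E)
be the relative spectrum of A with structure morphism p : X ⟶ S, and let (Ω', d) be a sheaf of
differentials of X over S (d a universal S-derivation of O_X into Ω'). Let φ : p^*E ⟶ Ω' be an
O_X-linear map such that, whenever a local section t of E over U and a function t' on p⁻¹U
correspond (t' maps to j(t) under the canonical identification of p_*O_X with A), φ sends the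
pullback of t to d t'. Then φ is an isomorphism. -/
theorem result {S : Scheme.{u}} (E : S.Modules) (hE : Coh.IsQCoh E)
    (A : RelSpec.QCAlg S) (j : E ⟶ A.toModule) (hA : RelSpec.IsSymAlg E A j)
    (Ω' : A.spec.Modules) (d : OmegaSh.Der A.π Ω') (hd : OmegaSh.IsUniversal d)
    (φ : (Scheme.Modules.pullback A.π).obj E ⟶ Ω')
    (hφ : ∀ (U : S.Opens) (t : Γ(E, U)) (t' : Γ(A.spec, A.π ⁻¹ᵁ U)),
      A.gammaMap.app (op U) t' = j.app U t →
        φ.app (A.π ⁻¹ᵁ U) (OmegaSh.pullSect A.π E U t) = d.app (A.π ⁻¹ᵁ U) t') :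
    IsIso φ := by
  haveI := hE
  haveI := EGA43.InjFibre.isQCoh_pullback A.π E
  haveI := OmegaLib.isQCoh_of_isUniversal hd
  haveI : IsIso A.gammaMap := RelSpecLib.isIso_gammaMap A
  have haff : ∀ V : S.Opens, IsAffineOpen V → Function.Bijective (φ.app (A.π ⁻¹ᵁ V)) := by
    intro V hV
    let U := A.π ⁻¹ᵁ V
    have hU : IsAffineOpen U := hV.preimage A.π
    have e : U ≤ A.π ⁻¹ᵁ V := le_rfl
    let B := Γ(A.spec, U)
    letI : Algebra Γ(S, V) B := (A.π.appLE V U e).hom.toAlgebra
    letI : Module Γ(S, V) Γ((Scheme.Modules.pullback A.π).obj E, U) :=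
      Module.compHom _ (A.π.appLE V U e).hom
    haveI : IsScalarTower Γ(S, V) B Γ((Scheme.Modules.pullback A.π).obj E, U) :=
      IsScalarTower.of_algebraMap_smul fun _ _ => rfl
    obtain ⟨μ, hμ, hμe⟩ := EGA43.InjFibre.pullMap_isBaseChange A.π hV hU e E
    obtain ⟨ψ, hψ⟩ := OmegaLib.exists_sections_equiv hd e hV hU
    let g : B ⟶ A.presheaf.obj (op V) := A.gammaMap.app (op V)
    haveI : IsIso g := inferInstanceAs (IsIso (A.gammaMap.app (op V)))
    have hgb := ConcreteCategory.bijective_of_isIso g
    have hgπ : ∀ r, g (algebraMap Γ(S, V) B r) = A.str.app (op V) r := fun r => by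
      show g (A.π.appLE V U e r) = _
      rw [show A.π.appLE V U e = A.π.app V from (A.π.app_eq_appLE).symm]
      exact congr($(NatTrans.congr_app A.π_c_gammaMap (op V)) r)
    let ge : B ≃+* A.presheaf.obj (op V) := RingEquiv.ofBijective g.hom hgb
    have hj : ∀ (r : Γ(S, V)) (m : Γ(E, V)), (show A.presheaf.obj (op V) from j.app V (r • m)) =
        A.str.app (op V) r * (show A.presheaf.obj (op V) from j.app V m) := fun r m =>
      (Scheme.Modules.Hom.app_smul j r m).trans rfl
    let ιB : Γ(E, V) →ₗ[Γ(S, V)] B :=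
      { toFun := fun m => ge.symm (j.app V m)
        map_add' := fun a b => by rw [map_add]; exact map_add ge.symm _ _
        map_smul' := fun r m => by
          refine ((congrArg ge.symm (hj r m)).trans (map_mul ge.symm _ _)).trans ?_
          rw [RingHom.id_apply, Algebra.smul_def, ← hgπ]
          exact congrArg (· * ge.symm (j.app V m)) (ge.symm_apply_apply _) }
    let L : Γ((Scheme.Modules.pullback A.π).obj E, U) →ₗ[B] Ω[B⁄Γ(S, V)] :=
      ψ.symm.toLinearMap ∘ₗ
        { toFun := φ.app U
          map_add' := map_add _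
          map_smul' := fun b x => Scheme.Modules.Hom.app_smul φ b x }
    have key : Function.Bijective L := by
      refine bijective_of_symm μ hμ ιB (fun C _ F G h0 h1 => ?_) (fun C _ a b hb => ?_) L fun m => ?_
      · have h := SymAlgLib.sectionsHom_ext hA hV (F := F.comp ge.symm.toRingHom) (G := G.comp ge.symm.toRingHom)
          (fun r => by
            show F (ge.symm (A.str.app (op V) r)) = G (ge.symm (A.str.app (op V) r))
            rw [← hgπ, show ge.symm (g (algebraMap Γ(S, V) B r)) = algebraMap Γ(S, V) B r from ge.symm_apply_apply _]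
            exact h0 r)
          (fun x => h1 x)
        refine RingHom.ext fun x => ?_
        have h2 := RingHom.congr_fun h (ge x)
        rw [← ge.symm_apply_apply x]
        exact h2
      · obtain ⟨F, hF0, hF1⟩ := SymAlgLib.exists_sectionsHom hA hV a b hb
        refine ⟨F.comp ge.toRingHom, fun r => ?_, fun x => ?_⟩
        · show F (g (algebraMap Γ(S, V) B r)) = a r
          rw [hgπ, hF0]
        · show F (ge (ge.symm (j.app V x))) = b x
          rw [RingEquiv.apply_symm_apply]
          exact hF1 x
      · show ψ.symm (φ.app U (μ m)) = _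
        rw [LinearEquiv.symm_apply_eq, hψ, hμe, Coherent.pullMap_eq_resM_pullSec A.π hV hU e E m,
          PicLib.resM_self]
        exact hφ V m (ιB m) (ge.apply_symm_apply _)
    have h3 : (L : _ → _) = ψ.symm ∘ (φ.app U) := rfl
    rw [h3] at key
    exact (Function.Bijective.of_comp_iff' ψ.symm.bijective _).1 key
  refine TwistLib.G.isIso_of_bijective_on_basis φ (fun B => ∃ V : S.Opens, IsAffineOpen V ∧ B ≤ A.π ⁻¹ᵁ V)
    (fun W y hy => ?_) fun B ⟨V, hV, hB⟩ => ?_
  · obtain ⟨V, hV, hyV, -⟩ := Opens.isBasis_iff_nbhd.mp S.isBasis_affineOpens (Opens.mem_top (A.π y))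
    exact ⟨W ⊓ A.π ⁻¹ᵁ V, ⟨V, hV, inf_le_right⟩, ⟨hy, hyV⟩, inf_le_left⟩
  · let U := A.π ⁻¹ᵁ V
    haveI : IsAffine (Scheme.Opens.toScheme U) := hV.preimage A.π
    let φU := (Scheme.Modules.restrictFunctor U.ι).map φ
    haveI : IsIso φU := by
      refine Props12.isIso_of_bijective_top φU ?_
      show Function.Bijective (φ.app (U.ι ''ᵁ ⊤))
      exact bijective_app_of_eq φ (Scheme.Opens.ι_image_top U) (haff V hV)
    refine bijective_app_of_eq φ (W' := U.ι ''ᵁ (U.ι ⁻¹ᵁ B)) ?_ ?_
    · rw [U.ι.image_preimage_eq_opensRange_inf, Scheme.Opens.opensRange_ι, inf_eq_right.2 hB]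
    · exact ConcreteCategory.bijective_of_isIso (φU.app (U.ι ⁻¹ᵁ B))

end Groth.Agent.S5970
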