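import Groth.Statements.S5972
import Groth.Agent.PrinLib.OrderOne
import Groth.Agent.PicLib.PullbackGen

set_option linter.style.haveILetI false
set_option backward.isDefEq.respectTransparency.types false
set_option backward.isDefEq.respectTransparency false

set_option autoImplicit false
universe u
open CategoryTheory CategoryTheory.Limits AlgebraicGeometry TopologicalSpace Opposite
open Nrm16

namespace Groth.Agent.S5972

open scoped TensorProduct

theorem bijective_smul_pullSect_one {Z X : Scheme.{u}} (p : Z ⟶ X) (U : X.Opens) (V : Z.Opens)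
    (e : V ≤ p ⁻¹ᵁ U) :
    Function.Bijective fun r : Γ(Z, V) => r •
      ((Scheme.Modules.pullback p).obj (Coh.structureModule X)).presheaf.map (homOfLE e).op
        (OmegaSh.pullSect p (Coh.structureModule X) U (OmegaSh.strSect X U 1)) := by
  have hgen : ∀ U : X.Opens, PicLib.IsGen (Coh.structureModule X) U (OmegaSh.strSect X U 1) := by
    intro U W hW
    convert Function.bijective_id using 1
    funext r
    show r * X.presheaf.map (homOfLE hW).op 1 = r
    rw [map_one, mul_one]
  exact PicLib.isGen_pullSec p (hgen U)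
    (PicLib.isInvertible_of_gens fun y => ⟨⊤, Opens.mem_top y, _, hgen ⊤⟩) V e

theorem appTop_congr {P Q : Scheme.{u}} {p q : P ⟶ Q} (h : p = q) (r : Γ(Q, ⊤)) :
    p.appTop r = q.appTop r := by
  subst h; rfl

theorem isIso_ι_of_eq_top {X : Scheme.{u}} (W : X.Opens) (h : W = ⊤) : IsIso W.ι := by
  subst h
  exact inferInstanceAs (IsIso (Scheme.topIso X).hom)

/-- The global functions of the neighbourhood of the diagonal of an affine morphism of affine schemes. -/
theorem exists_globalRing (A B : Type u) [CommRing A] [CommRing B] [Algebra A B] (n : ℕ) :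
    let f := Spec.map (CommRingCat.ofHom (algebraMap A B))
    ∃ θ : B ⊗[A] B →+* Γ(PrinPart.nbhd f n, ⊤),
      Function.Surjective θ ∧ RingHom.ker θ = KaehlerDifferential.ideal A B ^ (n + 1) ∧
      (∀ b, θ (b ⊗ₜ 1) = (PrinPart.pr1 f n).appTop ((Scheme.ΓSpecIso (CommRingCat.of B)).inv b)) ∧
      ∀ b, θ (1 ⊗ₜ b) = (PrinPart.pr2 f n).appTop ((Scheme.ΓSpecIso (CommRingCat.of B)).inv b) := by
  intro f
  let Wo := (pullback.diagonal f).coborderRange
  haveI : IsClosedImmersion (pullback.diagonal f) := IsSeparated.isClosedImmersion_diagonal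
  have hWo : Wo = ⊤ := by
    refine Opens.ext ?_
    exact (pullback.diagonal f).isClosedEmbedding.isClosed_range.coborder_eq
  haveI : IsIso Wo.ι := isIso_ι_of_eq_top Wo hWo
  let d := PrinPart.diagCl f
  let i := PrinPart.infNbhdι d n
  haveI : IsClosedImmersion i := inferInstanceAs (IsClosedImmersion (PrinPart.infNbhdι _ n))
  let j : Scheme.Opens.toScheme Wo ⟶ Spec (CommRingCat.of (B ⊗[A] B)) := Wo.ι ≫ (pullbackSpecIso A B B).hom
  haveI : IsIso j := inferInstance
  haveI : IsAffine (Scheme.Opens.toScheme Wo) := IsAffine.of_isIso j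
  let e : B ⊗[A] B →+* Γ(Scheme.Opens.toScheme Wo, ⊤) :=
    ((Scheme.ΓSpecIso (CommRingCat.of (B ⊗[A] B))).inv ≫ j.appTop).hom
  have he : Function.Bijective e :=
    ConcreteCategory.bijective_of_isIso ((Scheme.ΓSpecIso (CommRingCat.of (B ⊗[A] B))).inv ≫ j.appTop)
  let γ := Scheme.ΓSpecIso (CommRingCat.of B)
  have he1 : ∀ b, e (b ⊗ₜ 1) = (Wo.ι ≫ pullback.fst f f).appTop (γ.inv b) := by
    intro b
    refine Eq.trans ?_ (appTop_congr (show Wo.ι ≫ pullback.fst f f = j ≫ Spec.map (CommRingCat.ofHom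
      (Algebra.TensorProduct.includeLeftRingHom : B →+* B ⊗[A] B)) by
        rw [Category.assoc, pullbackSpecIso_hom_fst]) _).symm
    rw [Scheme.Hom.comp_appTop, CommRingCat.comp_apply]
    exact congrArg j.appTop congr($(Scheme.ΓSpecIso_inv_naturality
      (CommRingCat.ofHom (Algebra.TensorProduct.includeLeftRingHom : B →+* B ⊗[A] B))) b)
  have he2 : ∀ b, e (1 ⊗ₜ b) = (Wo.ι ≫ pullback.snd f f).appTop (γ.inv b) := by
    intro b
    refine Eq.trans ?_ (appTop_congr (show Wo.ι ≫ pullback.snd f f = j ≫ Spec.map (CommRingCat.ofHom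
      (Algebra.TensorProduct.includeRight : B →ₐ[A] B ⊗[A] B).toRingHom) by
        rw [Category.assoc]; exact congrArg (Wo.ι ≫ ·) (pullbackSpecIso_hom_snd A B B).symm) _).symm
    rw [Scheme.Hom.comp_appTop, CommRingCat.comp_apply]
    exact congrArg j.appTop congr($(Scheme.ΓSpecIso_inv_naturality
      (CommRingCat.ofHom (Algebra.TensorProduct.includeRight : B →ₐ[A] B ⊗[A] B).toRingHom)) b)
  have hd : ∀ q, d.appTop (e q) = γ.inv (Algebra.TensorProduct.lmul' A (S := B) q) := by
    intro q
    induction q using TensorProduct.induction_on with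
    | zero => simp only [map_zero]
    | add a b ha hb => simp only [map_add, ha, hb]
    | tmul a b =>
      rw [show a ⊗ₜ[A] b = (a ⊗ₜ[A] (1 : B)) * ((1 : B) ⊗ₜ[A] b) by simp, map_mul, map_mul, map_mul,
        map_mul, he1, he2,
        ← CommRingCat.comp_apply (Scheme.Hom.appTop (Wo.ι ≫ pullback.fst f f)) d.appTop, ← Scheme.Hom.comp_appTop,
        ← CommRingCat.comp_apply (Scheme.Hom.appTop (Wo.ι ≫ pullback.snd f f)) d.appTop, ← Scheme.Hom.comp_appTop,
        appTop_congr (show d ≫ Wo.ι ≫ pullback.fst f f = 𝟙 _ by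
          rw [Scheme.Hom.liftCoborder_ι_assoc, pullback.diagonal_fst]),
        appTop_congr (show d ≫ Wo.ι ≫ pullback.snd f f = 𝟙 _ by
          rw [Scheme.Hom.liftCoborder_ι_assoc, pullback.diagonal_snd])]
      simp
  let I := KaehlerDifferential.ideal A B
  have hI : I.map e = RingHom.ker d.appTop.hom := by
    refine le_antisymm (Ideal.map_le_iff_le_comap.2 fun q hq => ?_) fun w hw => ?_
    · show d.appTop (e q) = 0
      rw [hd, show Algebra.TensorProduct.lmul' A (S := B) q = 0 from hq, map_zero]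
    · obtain ⟨q, rfl⟩ := he.2 w
      refine Ideal.mem_map_of_mem e ?_
      have h := (hd q).symm.trans hw
      show Algebra.TensorProduct.lmul' A (S := B) q = 0
      exact (ConcreteCategory.bijective_of_isIso γ.inv).1 (h.trans (map_zero _).symm)
  let θ : B ⊗[A] B →+* Γ(PrinPart.nbhd f n, ⊤) := i.appTop.hom.comp e
  refine ⟨θ, (i.app_surjective ⊤ (isAffineOpen_top _)).comp he.2, ?_, fun b => ?_, fun b => ?_⟩
  · have hker : RingHom.ker i.appTop.hom = RingHom.ker d.appTop.hom ^ (n + 1) := by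
      have h1 := Scheme.Hom.ker_apply i ⟨⊤, isAffineOpen_top _⟩
      rw [PrinLib.ker_infNbhdι, Scheme.IdealSheafData.ideal_pow, Pi.pow_apply, Scheme.Hom.ker_apply] at h1
      exact h1.symm
    rw [← RingHom.comap_ker, hker, ← hI, ← Ideal.map_pow, Ideal.comap_map_of_bijective e he]
  · show i.appTop (e (b ⊗ₜ 1)) = _
    rw [he1, ← CommRingCat.comp_apply, ← Scheme.Hom.comp_appTop]
    exact appTop_congr (show i ≫ Wo.ι ≫ pullback.fst f f = PrinPart.pr1 f n from (Category.assoc _ _ _).symm) _
  · show i.appTop (e (1 ⊗ₜ b)) = _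
    rw [he2, ← CommRingCat.comp_apply, ← Scheme.Hom.comp_appTop]
    exact appTop_congr (show i ≫ Wo.ι ≫ pullback.snd f f = PrinPart.pr2 f n from (Category.assoc _ _ _).symm) _

/-- Let A → B be a ring homomorphism, X = Spec B, S = Spec A with f : X ⟶ S the induced morphism, and n
a natural number; identify B with the ring of global functions on X through the canonical
isomorphism. If ψ : B ⊗_A B → Γ(X, P^n_{X/S}) is the additive map with ψ(b ⊗ b') = b · d^n(b') for
all b, b' in B, then ψ is surjective with kernel the (n+1)-st power of the kernel I of the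
multiplication map B ⊗_A B → B. -/
theorem result (A B : Type u) [CommRing A] [CommRing B] [Algebra A B] (n : ℕ)
    (ψ : TensorProduct A B B →+
      Γ(PrinPart.P (Spec.map (CommRingCat.ofHom (algebraMap A B))) n, (⊤ : (Spec (CommRingCat.of B)).Opens)))
    (hψ : ∀ b b' : B, ψ (b ⊗ₜ[A] b') =
      (Scheme.ΓSpecIso (CommRingCat.of B)).inv b •
        PrinPart.dn (Spec.map (CommRingCat.ofHom (algebraMap A B))) n ⊤
          ((Scheme.ΓSpecIso (CommRingCat.of B)).inv b')) :
    Function.Surjective ψ ∧ ψ.ker = (KaehlerDifferential.ideal A B ^ (n + 1)).toAddSubgroup := by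
  let f := Spec.map (CommRingCat.ofHom (algebraMap A B))
  let Z := PrinPart.nbhd f n
  let γ := Scheme.ΓSpecIso (CommRingCat.of B)
  obtain ⟨θ, hθs, hθk, hθ1, hθ2⟩ := exists_globalRing A B n
  let θ' : B ⊗[A] B →+* Γ(Z, PrinPart.pr1 f n ⁻¹ᵁ ⊤) := θ
  let gen := PrinLib.secOf f n (PrinPart.dn f n ⊤ 1)
  let T : Γ(Z, PrinPart.pr1 f n ⁻¹ᵁ ⊤) → Γ(PrinLib.nbhdMod f n (Coh.structureModule _),
      PrinPart.pr1 f n ⁻¹ᵁ ⊤) := fun r => r • gen
  have hT : Function.Bijective T :=
    bijective_smul_pullSect_one (PrinPart.pr2 f n) ⊤ _ (PrinPart.preimage_pr1 f n ⊤).le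
  have key : ∀ q, PrinLib.secOf f n (ψ q) = T (θ' q) := by
    intro q
    induction q using TensorProduct.induction_on with
    | zero => rw [map_zero, map_zero]; exact (zero_smul _ gen).symm
    | add a b ha hb =>
      show PrinLib.secOf f n (ψ (a + b)) = θ' (a + b) • gen
      rw [map_add, map_add, add_smul]
      exact congrArg₂ (· + ·) ha hb
    | tmul a b =>
      have h3 : θ' (a ⊗ₜ b) = PrinLib.leftFun f n ⊤ (γ.inv a) * PrinLib.rightFun f n ⊤ (γ.inv b) := by
        rw [show a ⊗ₜ[A] b = (a ⊗ₜ[A] (1 : B)) * ((1 : B) ⊗ₜ[A] b) by simp, map_mul]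
        refine congrArg₂ (· * ·) (hθ1 a) ((hθ2 b).trans ?_)
        show _ = (PrinPart.pr2 f n).appLE ⊤ _ _ (γ.inv b)
        rw [Scheme.Hom.appLE, CommRingCat.comp_apply]
        exact (congr($((PrinPart.nbhd f n).presheaf.map_id (op ⊤)) _)).symm
      show _ = θ' (a ⊗ₜ b) • gen
      rw [hψ, h3, mul_smul, ← PrinLib.dn_eq_smul]
      rfl
  refine ⟨fun v => ?_, ?_⟩
  · obtain ⟨r, hr⟩ := hT.2 (PrinLib.secOf f n v)
    obtain ⟨q, rfl⟩ := hθs r
    exact ⟨q, (key q).trans hr⟩
  · rw [← hθk]
    refine AddSubgroup.ext fun q => ?_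
    have h0 : T 0 = 0 := zero_smul _ gen
    constructor
    · intro hq
      exact hT.1 (((key q).symm.trans hq).trans h0.symm)
    · intro hq
      show ψ q = 0
      exact ((key q).trans (congrArg T (show θ' q = 0 from hq))).trans h0

end Groth.Agent.S5972
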