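import Groth.Statements.S5974
import Groth.Agent.OmegaLib.ConormalMap

set_option backward.isDefEq.respectTransparency.types false
set_option backward.isDefEq.respectTransparency false

set_option autoImplicit false
universe u
open CategoryTheory CategoryTheory.Limits AlgebraicGeometry TopologicalSpace Opposite
open Nrm16

open scoped TensorProduct
open Groth.Agent.OmegaLib

namespace Groth.Agent.S5974

/-- Let f : Y ⟶ X and j : Y' ⟶ Y be quasi-compact immersions. Let φ₁ : j^* N_{Y/X} ⟶ N_{Y'/X} and φ₂ :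
N_{Y'/X} ⟶ N_{Y'/Y} be the canonical maps of conormal sheaves (the first induced by the identity of
X, the second by f, on local sections of the ideals). Then φ₂ is an epimorphism and the image of φ₁
is the kernel of φ₂: the sequence j^* N_{Y/X} ⟶ N_{Y'/X} ⟶ N_{Y'/Y} ⟶ 0 is exact. (The published
statement allows arbitrary immersions; this row assumes them quasi-compact, the case in which the
conormal sheaves used here are those of the immersions.) -/
theorem result {Y' Y X : Scheme.{u}} (f : Y ⟶ X) [IsImmersion f] [QuasiCompact f]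
    (j : Y' ⟶ Y) [IsImmersion j] [QuasiCompact j]
    (φ₁ : (Scheme.Modules.pullback j).obj (Omega.conormal f) ⟶ Omega.conormal (j ≫ f))
    (hφ₁ : OmegaSh.IsConormalMap (j ≫ f) f (𝟙 X) j φ₁)
    (φ₂ : (Scheme.Modules.pullback (𝟙 Y')).obj (Omega.conormal (j ≫ f)) ⟶ Omega.conormal j)
    (hφ₂ : OmegaSh.IsConormalMap j (j ≫ f) f (𝟙 Y') φ₂) :
    Epi φ₂ ∧
      imageSubobject φ₁ =
        kernelSubobject ((Scheme.Modules.pullbackId Y').inv.app (Omega.conormal (j ≫ f)) ≫ φ₂) := by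
  let c : Omega.conormal (j ≫ f) ⟶ Omega.conormal j :=
    (Scheme.Modules.pullbackId Y').inv.app (Omega.conormal (j ≫ f)) ≫ φ₂
  have key : ∀ y : Y', Function.Exact ((DerSch.stalkFunctor Y' y).map φ₁) ((DerSch.stalkFunctor Y' y).map c) ∧
      Function.Surjective ((DerSch.stalkFunctor Y' y).map c) := by
    intro y
    let a : X.presheaf.stalk ((j ≫ f) y) ⟶ Y.presheaf.stalk (j y) := f.stalkMap (j y)
    let b : Y.presheaf.stalk (j y) ⟶ Y'.presheaf.stalk y := j.stalkMap y
    have hab : ∀ r, (j ≫ f).stalkMap y r = b (a r) := fun r =>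
      congr($(Scheme.Hom.stalkMap_comp j f y) r)
    have ha : Function.Surjective a := f.stalkMap_surjective (j y)
    have hb : Function.Surjective b := j.stalkMap_surjective y
    have hba : Function.Surjective ((j ≫ f).stalkMap y) := (j ≫ f).stalkMap_surjective y
    letI algB := (j.stalkMap y).hom.toAlgebra
    letI algA := ((j ≫ f).stalkMap y).hom.toAlgebra
    obtain ⟨EK, hEK⟩ := exists_pullback_stalk_equiv (j ≫ f) (ClSub.idealMod (j ≫ f).ker) y
    obtain ⟨EJ, hEJ⟩ := exists_pullback_stalk_equiv j (ClSub.idealMod j.ker) y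
    obtain ⟨ιK, hιKi, hιK⟩ := exists_idealStalkMap (j ≫ f).ker ((j ≫ f) y)
    obtain ⟨ιJ, hιJi, hιJ⟩ := exists_idealStalkMap j.ker (j y)
    obtain ⟨ιI, -, hιI⟩ := exists_idealStalkMap f.ker (f (j y))
    -- the value of `c`
    have hcval : ∀ m, ∃ n, ιJ n = a (ιK m) ∧
        (DerSch.stalkFunctor Y' y).map c (EK (1 ⊗ₜ m)) = EJ (1 ⊗ₜ n) := by
      intro m
      obtain ⟨U, hU, s', rfl⟩ := exists_gm _ m
      obtain ⟨s, hs⟩ := exists_idealSect_app f j.ker (j ≫ f).ker (le_of_eq (Scheme.IdealSheafData.map_ker j f).symm) U s'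
      refine ⟨gm _ (f ⁻¹ᵁ U) (j y) hU s, ?_, ?_⟩
      · rw [hιJ, hιK, hs]
        exact (Scheme.Hom.germ_stalkMap_apply f U (j y) hU _).symm
      · rw [hEK, hEJ]
        refine (map_gm (φ := c) _ _ _).trans ?_
        refine Eq.trans ?_ (conormalMap_gm hφ₂ U s' s hs y hU hU)
        rw [map_gm]
        exact congrArg (gm _ _ y _) (congrArg (φ₂.app _)
          (pullbackId_inv_app (Omega.conormal (j ≫ f)) _ (OmegaSh.conormalSect (j ≫ f) U s')))
    have hJlift : ∀ n, ∃ m, a (ιK m) = ιJ n := by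
      intro n
      obtain ⟨k, hk⟩ := ha (ιJ n)
      have h1 : (j ≫ f).stalkMap y k = 0 := by
        rw [hab, hk]
        exact (mem_range_idealStalkMap j y hιJ _).1 ⟨n, rfl⟩
      obtain ⟨m, hm⟩ := (mem_range_idealStalkMap (j ≫ f) y hιK k).2 h1
      exact ⟨m, by rw [hm, hk]⟩
    have hKone : ∀ w, ∃ m, EK (1 ⊗ₜ m) = w := fun w => by
      obtain ⟨U, hU, s, rfl⟩ := exists_gm_pullSect (j ≫ f) _ y hba w
      exact ⟨gm _ U _ hU s, hEK U hU s⟩
    refine ⟨fun w => ⟨fun hw => ?_, ?_⟩, fun z => ?_⟩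
    · obtain ⟨m, rfl⟩ := hKone w
      obtain ⟨n, hn, hcn⟩ := hcval m
      have h0 : (1 : Y'.presheaf.stalk y) ⊗ₜ[Y.presheaf.stalk (j y)] n = 0 :=
        EJ.injective ((hcn.symm.trans hw).trans (map_zero EJ).symm)
      have hn2 := mem_ker_smul_of_one_tmul_eq_zero hb h0
      obtain ⟨m₂, hm₂, hm₂'⟩ : ∃ m₂, EK (1 ⊗ₜ m₂) = 0 ∧ a (ιK m₂) = ιJ n := by
        refine Submodule.smul_induction_on (p := fun q => ∃ m₂, EK (1 ⊗ₜ m₂) = 0 ∧ a (ιK m₂) = ιJ q) hn2
          (fun r hr p _ => ?_) (fun p q hp hq => ?_)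
        · obtain ⟨k, rfl⟩ := ha r
          obtain ⟨m', hm'⟩ := hJlift p
          refine ⟨k • m', ?_, ?_⟩
          · rw [TensorProduct.tmul_smul, TensorProduct.smul_tmul', Algebra.smul_def, mul_one,
              show algebraMap (X.presheaf.stalk ((j ≫ f) y)) (Y'.presheaf.stalk y) k = 0 from
                (hab k).trans hr, TensorProduct.zero_tmul, map_zero]
          · rw [map_smul, smul_eq_mul, map_mul, hm', map_smul, smul_eq_mul]
        · obtain ⟨p', hp1, hp2⟩ := hp
          obtain ⟨q', hq1, hq2⟩ := hq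
          exact ⟨p' + q', by rw [TensorProduct.tmul_add, map_add, hp1, hq1, add_zero],
            by rw [map_add, map_add, hp2, hq2, map_add]⟩
      have h3 : f.stalkMap (j y) (ιK (m - m₂)) = 0 := by
        show a (ιK (m - m₂)) = 0
        rw [map_sub, map_sub, hm₂', hn, sub_self]
      obtain ⟨p, hp⟩ := (mem_range_idealStalkMap f (j y) hιI (ιK (m - m₂))).2 h3
      obtain ⟨U, hU, s', rfl⟩ := exists_gm _ p
      obtain ⟨s, hs⟩ := exists_idealSect_app (𝟙 X) (j ≫ f).ker f.ker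
        (by rw [Scheme.IdealSheafData.map_id]; exact j.le_ker_comp f) U s'
      refine ⟨gm _ (j ⁻¹ᵁ (f ⁻¹ᵁ U)) y hU
        (OmegaSh.pullSect j (Omega.conormal f) (f ⁻¹ᵁ U) (OmegaSh.conormalSect f U s')), ?_⟩
      refine (conormalMap_gm hφ₁ U s' s hs y hU hU).trans ?_
      refine (hEK _ hU s).symm.trans ?_
      have hsm : gm (ClSub.idealMod (j ≫ f).ker) ((𝟙 X : X ⟶ X) ⁻¹ᵁ U) ((j ≫ f) y) hU s = m - m₂ := by
        apply hιKi
        rw [← hp, hιK, hs, hιI]
        rfl
      refine (congrArg (fun v => EK (1 ⊗ₜ v)) hsm).trans ?_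
      show EK (1 ⊗ₜ (m - m₂)) = _
      rw [TensorProduct.tmul_sub, map_sub, hm₂, sub_zero]
    · rintro ⟨w₀, rfl⟩
      obtain ⟨V, hV, t, rfl⟩ := exists_gm_pullSect j (Omega.conormal f) y hb w₀
      obtain ⟨U, hU, s', hs'⟩ := exists_gm_pullSect f (ClSub.idealMod f.ker) (j y) ha
        (gm _ V (j y) hV t)
      letI := (j.stalkMap y).hom.toAlgebra
      obtain ⟨EP, hEP⟩ := exists_pullback_stalk_equiv j (Omega.conormal f) y
      obtain ⟨s, hs⟩ := exists_idealSect_app (𝟙 X) (j ≫ f).ker f.ker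
        (by rw [Scheme.IdealSheafData.map_id]; exact j.le_ker_comp f) U s'
      rw [← hEP]
      refine (congrArg ((DerSch.stalkFunctor Y' y).map c) (congrArg ((DerSch.stalkFunctor Y' y).map φ₁)
        ((congrArg (fun v => EP (1 ⊗ₜ v)) hs'.symm).trans (hEP _ hU _)))).trans ?_
      refine (congrArg ((DerSch.stalkFunctor Y' y).map c) (conormalMap_gm hφ₁ U s' s hs y hU hU)).trans ?_
      refine (congrArg ((DerSch.stalkFunctor Y' y).map c) (hEK _ hU s).symm).trans ?_
      obtain ⟨n, hn, hcn⟩ := hcval (gm (ClSub.idealMod (j ≫ f).ker) ((𝟙 X : X ⟶ X) ⁻¹ᵁ U) ((j ≫ f) y) hU s)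
      have hn0 : n = 0 := by
        apply hιJi
        rw [map_zero, hn, hιK, hs]
        exact (mem_range_idealStalkMap f (j y) hιI _).1 ⟨gm _ U _ hU s', hιI U hU s'⟩
      refine hcn.trans ?_
      rw [hn0, TensorProduct.tmul_zero, map_zero]
    · obtain ⟨U, hU, t, rfl⟩ := exists_gm_pullSect j _ y hb z
      obtain ⟨m, hm⟩ := hJlift (gm _ U (j y) hU t)
      obtain ⟨n, hn, hcn⟩ := hcval m
      refine ⟨EK (1 ⊗ₜ m), hcn.trans ?_⟩
      rw [hιJi (hn.trans hm)]
      exact hEJ U hU t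
  refine ⟨?_, image_eq_kernel_of_stalks φ₁ c fun y => (key y).1⟩
  haveI : Epi c := epi_of_stalks_surjective c fun y => (key y).2
  exact epi_of_epi ((Scheme.Modules.pullbackId Y').inv.app (Omega.conormal (j ≫ f))) φ₂

end Groth.Agent.S5974
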