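import Groth.Statements.S5975
import Groth.Agent.OmegaLib.StalkLocal

set_option autoImplicit false
set_option backward.isDefEq.respectTransparency.types false
set_option backward.isDefEq.respectTransparency false
set_option linter.style.haveILetI false
universe u
open CategoryTheory CategoryTheory.Limits AlgebraicGeometry TopologicalSpace
open Nrm16
open scoped TensorProduct

namespace Groth.Agent.S5975

open OmegaLib

theorem result {X Y Z : Scheme.{u}} (f : X ⟶ Y) (g : Y ⟶ Z)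
    (ΩY : Y.Modules) (dY : OmegaSh.Der g ΩY) (hY : OmegaSh.IsUniversal dY)
    (ΩX : X.Modules) (dX : OmegaSh.Der (f ≫ g) ΩX) (hX : OmegaSh.IsUniversal dX)
    (ΩXY : X.Modules) (dXY : OmegaSh.Der f ΩXY) (hXY : OmegaSh.IsUniversal dXY)
    (c₁ : (Scheme.Modules.pullback f).obj ΩY ⟶ ΩX) (hc₁ : OmegaSh.IsDiffCompat f dY dX c₁)
    (c₂ : (Scheme.Modules.pullback (𝟙 X)).obj ΩX ⟶ ΩXY) (hc₂ : OmegaSh.IsDiffCompat (𝟙 X) dX dXY c₂) :
    Epi c₂ ∧
      imageSubobject c₁ = kernelSubobject ((Scheme.Modules.pullbackId X).inv.app ΩX ≫ c₂) := by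
  let c : ΩX ⟶ ΩXY := (Scheme.Modules.pullbackId X).inv.app ΩX ≫ c₂
  have hc : ∀ (U : X.Opens) (s : Γ(X, U)), c.app U (dX.app U s) = dXY.app U s := by
    intro U s
    show c₂.app U (((Scheme.Modules.pullbackId X).inv.app ΩX).app U (dX.app U s)) = _
    exact (congrArg (c₂.app U) (pullbackId_inv_app ΩX U (dX.app U s))).trans (hc₂ U s)
  have key : ∀ x : X, Function.Exact ((DerSch.stalkFunctor X x).map c₁) ((DerSch.stalkFunctor X x).map c) ∧
      Function.Surjective ((DerSch.stalkFunctor X x).map c) := by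
    intro x
    obtain ⟨T, hT, hxT, -⟩ := Opens.isBasis_iff_nbhd.mp Z.isBasis_affineOpens (Opens.mem_top (g (f x)))
    letI := (f.stalkMap x).hom.toAlgebra
    letI : Algebra Γ(Z, T) (Y.presheaf.stalk (f x)) :=
      (Z.presheaf.germ T (g (f x)) hxT ≫ g.stalkMap (f x)).hom.toAlgebra
    letI : Algebra Γ(Z, T) (X.presheaf.stalk x) :=
      ((Z.presheaf.germ T (g (f x)) hxT ≫ g.stalkMap (f x)) ≫ f.stalkMap x).hom.toAlgebra
    haveI : IsScalarTower Γ(Z, T) (Y.presheaf.stalk (f x)) (X.presheaf.stalk x) :=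
      IsScalarTower.of_algebraMap_eq fun _ => rfl
    obtain ⟨E₂, hE₂⟩ := exists_stalk_equiv hX hT x hxT fun r => by
      show f.stalkMap x (g.stalkMap (f x) (Z.presheaf.germ T (g (f x)) hxT r)) = _
      rw [Scheme.Hom.stalkMap_comp]
      rfl
    obtain ⟨E₁, hE₁⟩ := exists_stalk_compat hY hc₁ hT x hxT (fun _ => rfl) E₂ hE₂
    obtain ⟨E₃, hE₃⟩ := exists_stalk_equiv_local hXY x
    let μ := KaehlerDifferential.map Γ(Z, T) (Y.presheaf.stalk (f x)) (X.presheaf.stalk x) (X.presheaf.stalk x)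
    let cl : (DerSch.stalkFunctor X x).obj ΩX →ₗ[X.presheaf.stalk x] (DerSch.stalkFunctor X x).obj ΩXY :=
      ((DerSch.stalkFunctor X x).map c).hom
    have hμ : cl ∘ₗ E₂.toLinearMap = E₃.toLinearMap ∘ₗ μ := kaehler_stalk_hom_ext fun U hx s => by
      show cl (E₂ _) = E₃ (μ _)
      rw [hE₂, KaehlerDifferential.map_D]
      show (DerSch.stalkFunctor X x).map c _ = _
      rw [map_gm, hc]
      exact (hE₃ U hx s).symm
    have hex := KaehlerDifferential.exact_mapBaseChange_map Γ(Z, T) (Y.presheaf.stalk (f x))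
      (X.presheaf.stalk x)
    refine ⟨fun y => ?_, fun z => ?_⟩
    · obtain ⟨w, rfl⟩ := E₂.surjective y
      show cl (E₂ w) = 0 ↔ _
      rw [show cl (E₂ w) = E₃ (μ w) from LinearMap.congr_fun hμ w, LinearEquiv.map_eq_zero_iff, hex w]
      constructor
      · rintro ⟨t, rfl⟩
        exact ⟨E₁ t, hE₁ t⟩
      · rintro ⟨a, ha⟩
        obtain ⟨t, rfl⟩ := E₁.surjective a
        exact ⟨t, E₂.injective ((hE₁ t).symm.trans ha)⟩
    · obtain ⟨w, rfl⟩ := E₃.surjective z
      obtain ⟨v, rfl⟩ := KaehlerDifferential.map_surjective Γ(Z, T) (Y.presheaf.stalk (f x)) (X.presheaf.stalk x) w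
      exact ⟨E₂ v, LinearMap.congr_fun hμ v⟩
  refine ⟨?_, image_eq_kernel_of_stalks c₁ c fun x => (key x).1⟩
  haveI : Epi c := epi_of_stalks_surjective c fun x => (key x).2
  exact epi_of_epi ((Scheme.Modules.pullbackId X).inv.app ΩX) c₂

end Groth.Agent.S5975
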