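import Groth.Statements.S5977
import Groth.Agent.PrinLib.Generate

set_option backward.isDefEq.respectTransparency.types false
set_option backward.isDefEq.respectTransparency false

set_option autoImplicit false
universe u
open CategoryTheory CategoryTheory.Limits AlgebraicGeometry TopologicalSpace Opposite
open Nrm16
open Opposite

namespace Groth.Agent.S5977

/-- Let f : Y ⟶ Z be a morphism and j : X ⟶ Y a closed immersion, and let φ : j^* P^n_{Y/Z} ⟶ P^n_{X/Z}
be the canonical O_X-linear map of sheaves of principal parts of order n, the one sending the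
pullback of d^n b to d^n (j♯ b). Then φ is an epimorphism. (The published statement also identifies
the kernel of φ as the ideal generated by the pullback of d^n of the ideal of j; this row states the
surjectivity.) -/
theorem result {X Y Z : Scheme.{u}} (f : Y ⟶ Z) (j : X ⟶ Y) [IsClosedImmersion j] (n : ℕ)
    (φ : (Scheme.Modules.pullback j).obj (PrinPart.P f n) ⟶ PrinPart.P (j ≫ f) n)
    (hφ : PrinPart.IsPMap f (j ≫ f) j n φ) :
    Epi φ := by
  refine PrinLib.epi_of_dn (j ≫ f) n φ fun W b x hx => ?_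
  obtain ⟨O, hO, hOW⟩ := j.isEmbedding.toIsInducing.isOpen_iff.1 W.isOpen
  have hxO : j x ∈ (⟨O, hO⟩ : Y.Opens) := by
    show x ∈ j ⁻¹' O
    rw [hOW]; exact hx
  obtain ⟨V, hV, hxV, hVO⟩ := Opens.isBasis_iff_nbhd.mp Y.isBasis_affineOpens hxO
  have hVW : j ⁻¹ᵁ V ≤ W := fun y hy => by
    have h1 : y ∈ j ⁻¹' O := hVO hy
    rwa [hOW] at h1
  obtain ⟨c, hc⟩ := j.app_surjective V hV (X.presheaf.map (homOfLE hVW).op b)
  refine ⟨j ⁻¹ᵁ V, hVW, hxV, OmegaSh.pullSect j (PrinPart.P f n) V (PrinPart.dn f n V c), ?_⟩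
  refine (hφ V c).trans ?_
  rw [hc]
  exact PrinPart.dP_map (j ≫ f) n (Coh.structureModule X) hVW (OmegaSh.strSect X W b)

end Groth.Agent.S5977
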