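import Groth.Statements.S5978
import Groth.Agent.OmegaLib.DOmega
import Groth.Agent.PrinLib.DiffCriterion

set_option linter.style.haveILetI false
set_option backward.isDefEq.respectTransparency.types false
set_option backward.isDefEq.respectTransparency false

set_option autoImplicit false
universe u
open CategoryTheory CategoryTheory.Limits AlgebraicGeometry TopologicalSpace Opposite
open Nrm16

namespace Groth.Agent.S5978

/-- Let f : X ⟶ S be a quasi-separated morphism, Ω_{X/S} its sheaf of differentials (the conormal sheaf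
of the diagonal) with its derivation d, e : O_X ⟶ P^1_{X/S} the O_X-linear map s ↦ s·1 and ι :
Ω_{X/S} ⟶ P^1_{X/S} the O_X-linear map with ι(d s) = d^1 s − s·1 for every local function s. Then
the map O_X ⊕ Ω_{X/S} ⟶ P^1_{X/S} induced by e and ι is an isomorphism of O_X-modules for the left
structure of P^1_{X/S}; in other words Ω_{X/S} is identified with the augmentation ideal of
P^1_{X/S} and d s = d^1 s − s. (The published text takes this as the definition of Ω_{X/S} for every
f; here Ω_{X/S} is the conormal sheaf of the diagonal, formed for quasi-separated f, and the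
identification is stated.) -/
theorem result {X S : Scheme.{u}} (f : X ⟶ S) [QuasiSeparated f]
    (e : Coh.structureModule X ⟶ PrinPart.P f 1)
    (he : ∀ (U : X.Opens) (s : Γ(X, U)), e.app U (OmegaSh.strSect X U s) = s • PrinPart.dn f 1 U 1)
    (ι : Omega.sheaf f ⟶ PrinPart.P f 1)
    (hι : ∀ (U : X.Opens) (s : Γ(X, U)),
      ι.app U ((OmegaSh.dOmega f).app U s) = PrinPart.dn f 1 U s - s • PrinPart.dn f 1 U 1) :
    IsIso (coprod.desc e ι) := by
  let O := Coh.structureModule X
  let Ω := Omega.sheaf f
  let C := O ⨿ Ω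
  let i₁ : O ⟶ C := coprod.inl
  let i₂ : Ω ⟶ C := coprod.inr
  let δ := OmegaSh.dOmega f
  let D : O.presheaf ⟶ C.presheaf :=
    { app := fun U => AddCommGrpCat.ofHom (AddMonoidHom.mk'
        (fun t : Γ(O, U.unop) => i₁.app U.unop t + i₂.app U.unop (δ.app U.unop (OmegaSh.fnSect X U.unop t)))
        fun a b => by simp only [map_add]; abel)
      naturality := fun U V j => by
        ext t
        show i₁.app V.unop (O.presheaf.map j t) + i₂.app V.unop (δ.app V.unop (X.presheaf.map j (OmegaSh.fnSect X U.unop t))) =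
          C.presheaf.map j (i₁.app U.unop t + i₂.app U.unop (δ.app U.unop (OmegaSh.fnSect X U.unop t)))
        rw [map_add]
        congr 1
        · exact congr($(i₁.mapPresheaf.naturality j) t)
        · refine (congrArg (i₂.app V.unop) (δ.d_map j _)).trans ?_
          exact congr($(i₂.mapPresheaf.naturality j) _) }
  have hDa : ∀ (U : X.Opens) (t : Γ(X, U)),
      D.app (op U) (OmegaSh.strSect X U t) = i₁.app U (OmegaSh.strSect X U t) + i₂.app U (δ.app U t) :=
    fun U t => rfl
  have hstr : ∀ (U : X.Opens) (a b : Γ(X, U)),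
      i₁.app U (OmegaSh.strSect X U (a * b)) = a • i₁.app U (OmegaSh.strSect X U b) := fun U a b =>
    Scheme.Modules.Hom.app_smul i₁ a (OmegaSh.strSect X U b)
  have hDmul : ∀ (U : X.Opens) (a b : Γ(X, U)), D.app (op U) (OmegaSh.strSect X U (a * b)) =
      a • D.app (op U) (OmegaSh.strSect X U b) + b • i₂.app U (δ.app U a) := fun U a b => by
    rw [hDa, hDa, hstr, OmegaLib.app_mul, map_add, Scheme.Modules.Hom.app_smul, Scheme.Modules.Hom.app_smul,
      smul_add]
    abel
  obtain ⟨ψ, hψ⟩ := PrinLib.isDiffOpLE_of_altSumZero f 1 (F := O) (G := C) (D := D)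
    (fun V s U hU t => by
      show D.app (op U) (OmegaSh.strSect X U (X.presheaf.map (homOfLE hU).op (f.app V s) * OmegaSh.fnSect X U t)) = _
      rw [hDmul, OmegaLib.app_map δ hU, OmegaLib.app_app, map_zero, map_zero, smul_zero, add_zero]
      rfl)
    (fun U a t => by
      rw [show (Finset.univ : Finset (Finset (Fin (1 + 1)))) = {∅, {0}, {1}, {0, 1}} by decide,
        Finset.sum_insert (by decide), Finset.sum_insert (by decide), Finset.sum_insert (by decide),
        Finset.sum_singleton,
        show (∅ : Finset (Fin (1 + 1)))ᶜ = {0, 1} by decide, show ({0} : Finset (Fin (1 + 1)))ᶜ = {1} by decide,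
        show ({1} : Finset (Fin (1 + 1)))ᶜ = {0} by decide, show ({0, 1} : Finset (Fin (1 + 1)))ᶜ = ∅ by decide,
        Finset.prod_pair (by decide), Finset.prod_empty, Finset.prod_singleton, Finset.prod_singleton,
        Finset.card_empty, Finset.card_singleton, Finset.card_singleton, Finset.card_pair (by decide)]
      simp only [pow_zero, pow_one, pow_two, neg_mul, mul_neg, one_mul, neg_neg, one_smul, neg_smul]
      generalize a 0 = p
      generalize a 1 = q
      show D.app (op U) (OmegaSh.strSect X U (p * q * OmegaSh.fnSect X U t)) +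
        (-(p • D.app (op U) (OmegaSh.strSect X U (q * OmegaSh.fnSect X U t))) +
          (-(q • D.app (op U) (OmegaSh.strSect X U (p * OmegaSh.fnSect X U t))) +
            (p * q) • D.app (op U) t)) = 0
      rw [mul_assoc p q, hDmul, hDmul, hDmul, show OmegaSh.strSect X U (OmegaSh.fnSect X U t) = t from rfl]
      simp only [smul_add, smul_smul]
      rw [mul_comm q p]
      abel)
  have hψd : ∀ (U : X.Opens) (t : Γ(X, U)),
      ψ.app U (PrinPart.dn f 1 U t) = i₁.app U (OmegaSh.strSect X U t) + i₂.app U (δ.app U t) := fun U t =>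
    (hψ U (OmegaSh.strSect X U t)).symm.trans (hDa U t)
  have hψ1 : ∀ U : X.Opens, ψ.app U (PrinPart.dn f 1 U 1) = i₁.app U (OmegaSh.strSect X U 1) := fun U => by
    rw [hψd, OmegaLib.app_one, map_zero, add_zero]
  refine ⟨ψ, coprod.hom_ext ?_ ?_, PrinLib.hom_ext_dP f 1 fun U t => ?_⟩
  · rw [coprod.inl_desc_assoc, Category.comp_id]
    refine Scheme.Modules.hom_ext _ _ fun U => ?_
    ext s
    show ψ.app U (e.app U (OmegaSh.strSect X U (OmegaSh.fnSect X U s))) =
      i₁.app U (OmegaSh.strSect X U (OmegaSh.fnSect X U s))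
    rw [he, Scheme.Modules.Hom.app_smul, hψ1, ← hstr, mul_one]
  · rw [coprod.inr_desc_assoc, Category.comp_id]
    refine OmegaLib.hom_ext_dOmega f fun U s => ?_
    show ψ.app U (ι.app U (δ.app U s)) = i₂.app U (δ.app U s)
    rw [hι, map_sub, Scheme.Modules.Hom.app_smul, hψd, hψ1, ← hstr, mul_one, add_sub_cancel_left]
  · show (coprod.desc e ι).app U (ψ.app U (PrinPart.dn f 1 U (OmegaSh.fnSect X U t))) =
      PrinPart.dn f 1 U (OmegaSh.fnSect X U t)
    generalize OmegaSh.fnSect X U t = s
    rw [hψd, map_add,
      show (coprod.desc e ι).app U (i₁.app U (OmegaSh.strSect X U s)) = e.app U (OmegaSh.strSect X U s) from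
        congr($(congrArg (fun φ : O ⟶ PrinPart.P f 1 => φ.app U) (coprod.inl_desc e ι)) _),
      show (coprod.desc e ι).app U (i₂.app U (δ.app U s)) = ι.app U (δ.app U s) from
        congr($(congrArg (fun φ : Ω ⟶ PrinPart.P f 1 => φ.app U) (coprod.inr_desc e ι)) _),
      he, hι, add_sub_cancel]

end Groth.Agent.S5978
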