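import Groth.Statements.S5980
import Groth.Agent.OmegaLib.ConormalMap
import Mathlib.RingTheory.Nakayama
import Mathlib.RingTheory.FinitePresentation
import Mathlib.AlgebraicGeometry.Morphisms.Immersion
import Mathlib.AlgebraicGeometry.Morphisms.FinitePresentation

set_option backward.isDefEq.respectTransparency.types false
set_option backward.isDefEq.respectTransparency false

set_option autoImplicit false
universe u
open CategoryTheory CategoryTheory.Limits AlgebraicGeometry TopologicalSpace Opposite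
open Nrm16

open scoped TensorProduct
open Groth.Agent.OmegaLib

namespace Groth.Agent.S5980

variable {Y X : Scheme.{u}} (j : Y ⟶ X) [IsImmersion j]

theorem surjective_app_and_isAffineOpen {V : X.Opens} (hV : IsAffineOpen V) (hVW : V ≤ j.coborderRange) :
    Function.Surjective (j.app V) ∧ IsAffineOpen (j ⁻¹ᵁ V) := by
  have hle : V ≤ j.coborderRange.ι.opensRange := by rwa [Scheme.Opens.opensRange_ι]
  have hV' : IsAffineOpen (j.coborderRange.ι ⁻¹ᵁ V) :=
    hV.preimage_of_isOpenImmersion _ hle
  have h1 : IsAffineOpen (j.liftCoborder ⁻¹ᵁ (j.coborderRange.ι ⁻¹ᵁ V)) := hV'.preimage _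
  have h2 : Function.Surjective (j.liftCoborder.app (j.coborderRange.ι ⁻¹ᵁ V)) :=
    j.liftCoborder.app_surjective _ hV'
  haveI : IsIso (j.coborderRange.ι.app V) := j.coborderRange.ι.isIso_app V hle
  have h3 : Function.Surjective ((j.liftCoborder ≫ j.coborderRange.ι).app V) := by
    rw [Scheme.Hom.comp_app]
    exact h2.comp (ConcreteCategory.bijective_of_isIso (j.coborderRange.ι.app V)).2
  rw [Scheme.Hom.liftCoborder_ι] at h3
  refine ⟨h3, ?_⟩
  rwa [← Scheme.Hom.comp_preimage, Scheme.Hom.liftCoborder_ι] at h1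

theorem fg_ker_app [LocallyOfFinitePresentation j] {V : X.Opens} (hV : IsAffineOpen V)
    (hVW : V ≤ j.coborderRange) : (RingHom.ker (j.app V).hom).FG := by
  obtain ⟨hs, hA⟩ := surjective_app_and_isAffineOpen j hV hVW
  have h := j.finitePresentation_appLE hV hA le_rfl
  rw [← Scheme.Hom.app_eq_appLE] at h
  let _ := (j.app V).hom.toAlgebra
  have : Algebra.FinitePresentation Γ(X, V) Γ(Y, j ⁻¹ᵁ V) := h
  exact Algebra.FinitePresentation.ker_fG_of_surjective (Algebra.ofId Γ(X, V) Γ(Y, j ⁻¹ᵁ V)) hs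

/-- Consider a point y of Y and an immersion j : Y ⟶ X that is quasi-compact and locally of finite
presentation. The stalk at y of the conormal sheaf N_{Y/X} = I/I² is zero exactly when y has an open
neighbourhood U in Y on which the restriction of j is an open immersion. (The published statement
covers every immersion locally of finite presentation. Here j is additionally assumed quasi-compact,
since in that case the conormal sheaf used here is the one attached to j.) -/
theorem result {Y X : Scheme.{u}} (j : Y ⟶ X) [IsImmersion j]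
    [QuasiCompact j] [LocallyOfFinitePresentation j] (y : Y) :
    (∃ U : Y.Opens, y ∈ U ∧ IsOpenImmersion (U.ι ≫ j)) ↔
      Subsingleton ((Omega.conormal j).presheaf.stalk y) := by
  letI := (j.stalkMap y).hom.toAlgebra
  obtain ⟨E, hE⟩ := exists_pullback_stalk_equiv j (ClSub.idealMod j.ker) y
  obtain ⟨ι, hιi, hι⟩ := exists_idealStalkMap j.ker (j y)
  have hker : ∀ a, a ∈ LinearMap.range ι ↔ j.stalkMap y a = 0 := mem_range_idealStalkMap j y hι
  constructor
  · rintro ⟨U, hyU, hopen⟩
    haveI := hopen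
    have hinj : Function.Injective (j.stalkMap y) := by
      have h1 : IsIso ((U.ι ≫ j).stalkMap ⟨y, hyU⟩) := inferInstance
      rw [Scheme.Hom.stalkMap_comp] at h1
      haveI : IsIso (j.stalkMap (U.ι ⟨y, hyU⟩)) :=
        IsIso.of_isIso_comp_right (j.stalkMap (U.ι ⟨y, hyU⟩)) (U.ι.stalkMap ⟨y, hyU⟩)
      exact (ConcreteCategory.bijective_of_isIso (j.stalkMap (U.ι ⟨y, hyU⟩))).1
    refine subsingleton_of_forall_eq 0 fun z => ?_
    obtain ⟨U', hU', s, hs⟩ := exists_gm_pullSect j (ClSub.idealMod j.ker) y (j.stalkMap_surjective y) z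
    rw [← hs, ← hE U' hU' s]
    have h0 : gm (ClSub.idealMod j.ker) U' (j y) hU' s = 0 := by
      apply hιi
      rw [map_zero]
      exact hinj (((hker _).1 ⟨_, rfl⟩).trans (map_zero _).symm)
    exact (congrArg E ((congrArg ((1 : Y.presheaf.stalk y) ⊗ₜ ·) h0).trans
      (TensorProduct.tmul_zero _ _))).trans (map_zero E)
  · intro hsub
    haveI : Subsingleton ((DerSch.stalkFunctor Y y).obj
      ((Scheme.Modules.pullback j).obj (ClSub.idealMod j.ker))) := hsub
    have hyW : j y ∈ j.coborderRange := subset_coborder ⟨y, rfl⟩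
    obtain ⟨V, hV, hyV, hVW⟩ := Opens.isBasis_iff_nbhd.mp X.isBasis_affineOpens hyW
    let A := X.presheaf.stalk (j y)
    let K : Ideal A := RingHom.ker (j.stalkMap y).hom
    let g : Γ(X, V) →+* A := (X.presheaf.germ V (j y) hyV).hom
    have hKmap : K = (j.ker.ideal ⟨V, hV⟩).map g := by
      refine le_antisymm (fun a ha => ?_) (Ideal.map_le_iff_le_comap.2 fun r hr => ?_)
      · obtain ⟨m, rfl⟩ := (hker a).2 ha
        obtain ⟨U', hU', s, rfl⟩ := exists_gm _ m
        obtain ⟨V', hV', hyV', hle⟩ := Opens.isBasis_iff_nbhd.mp X.isBasis_affineOpens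
          (show j y ∈ U' ⊓ V from ⟨hU', hyV⟩)
        rw [← gm_res _ hU' (hle.trans inf_le_left) hyV', hι]
        have hmem := idealSect_mem j.ker hV'
          ((ClSub.idealMod j.ker).presheaf.map (homOfLE (hle.trans inf_le_left)).op s)
        rw [← j.ker.map_ideal (U := ⟨V', hV'⟩) (V := ⟨V, hV⟩) (hle.trans inf_le_right)] at hmem
        have h2 := Ideal.mem_map_of_mem (X.presheaf.germ V' (j y) hyV').hom hmem
        rw [Ideal.map_map] at h2
        rw [← CommRingCat.hom_comp] at h2
        have e := (X.presheaf.germ_res (homOfLE (hle.trans inf_le_right)) (j y) hyV')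
        convert h2 using 3
        exact e.symm
      · obtain ⟨s, hs⟩ := exists_idealSect j.ker hV hr
        exact (hker _).1 ⟨gm _ V (j y) hyV s, (hι V hyV s).trans (congrArg g hs)⟩
    have hfg : (j.ker.ideal ⟨V, hV⟩).FG := by
      rw [Scheme.Hom.ker_apply]
      exact fg_ker_app j hV hVW
    have hKsq : K ≤ K • K := by
      intro a ha
      obtain ⟨m, rfl⟩ := (hker a).2 ha
      have h0 : (1 : Y.presheaf.stalk y) ⊗ₜ[A] m = 0 :=
        E.injective (Subsingleton.elim _ _)
      have hm := mem_ker_smul_of_one_tmul_eq_zero (j.stalkMap_surjective y) h0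
      refine Submodule.smul_induction_on (p := fun q => ι q ∈ K • K) hm (fun r hr q _ => ?_) fun p q hp hq => ?_
      · rw [map_smul]
        exact Submodule.smul_mem_smul hr ((hker _).1 ⟨q, rfl⟩)
      · rw [map_add]
        exact add_mem hp hq
    have hK0 : K = ⊥ := by
      refine Submodule.eq_bot_of_le_smul_of_le_jacobson_bot K K (hKmap ▸ hfg.map g) hKsq ?_
      rw [IsLocalRing.jacobson_eq_maximalIdeal ⊥ bot_ne_top]
      exact IsLocalRing.le_maximalIdeal (RingHom.ker_ne_top _)
    obtain ⟨S, hS⟩ := hfg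
    have hgerm : ∀ r ∈ S, ∃ O : X.Opens, j y ∈ O ∧ ∃ h : O ≤ V, X.presheaf.map (homOfLE h).op r = 0 := by
      intro r hr
      have h1 : g r = 0 := by
        have : g r ∈ K := hKmap ▸ Ideal.mem_map_of_mem g (hS ▸ Ideal.subset_span hr)
        rwa [hK0] at this
      obtain ⟨O, hO, i, k, he⟩ := X.presheaf.germ_eq (j y) hyV hyV r 0 (h1.trans (map_zero g).symm)
      exact ⟨O, hO, i.le, he.trans (map_zero _)⟩
    choose O hyO hOV hO0 using hgerm
    obtain ⟨V1, hV1, hyV1, hV1le⟩ := Opens.isBasis_iff_nbhd.mp X.isBasis_affineOpens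
      (show j y ∈ V ⊓ S.attach.inf (fun r => O r.1 r.2) from ⟨hyV, by
        rw [Opens.coe_finset_inf, Finset.inf_set_eq_iInter]
        exact Set.mem_iInter₂.2 fun r _ => hyO r.1 r.2⟩)
    have hbot : j.ker.ideal ⟨V1, hV1⟩ = ⊥ := by
      rw [← j.ker.map_ideal (U := ⟨V1, hV1⟩) (V := ⟨V, hV⟩) (hV1le.trans inf_le_left), ← hS,
        Ideal.map_span, Ideal.span_eq_bot]
      rintro _ ⟨r, hr, rfl⟩
      have hle : V1 ≤ O r hr :=
        (hV1le.trans inf_le_right).trans (Finset.inf_le (f := fun r : S => O r.1 r.2) (Finset.mem_attach S ⟨r, hr⟩))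
      show X.presheaf.map (homOfLE (hle.trans (hOV r hr))).op r = 0
      rw [← homOfLE_comp hle (hOV r hr), op_comp, Functor.map_comp, CommRingCat.comp_apply, hO0, map_zero]
    obtain ⟨hsurj, hA⟩ := surjective_app_and_isAffineOpen j hV1 ((hV1le.trans inf_le_left).trans hVW)
    have hinj : Function.Injective (j.app V1) := by
      rw [RingHom.injective_iff_ker_eq_bot (j.app V1).hom, ← Scheme.Hom.ker_apply j ⟨V1, hV1⟩]
      exact hbot
    haveI : IsIso (j.app V1) := (ConcreteCategory.isIso_iff_bijective _).2 ⟨hinj, hsurj⟩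
    haveI : IsAffine (Scheme.Opens.toScheme V1) := hV1
    haveI : IsAffine (Scheme.Opens.toScheme (j ⁻¹ᵁ V1)) := hA
    haveI : IsIso (j ∣_ V1) := by
      refine (HasAffineProperty.iff_of_isAffine (P := MorphismProperty.isomorphisms Scheme.{u})).2 ⟨hA, ?_⟩
      show IsIso ((j ∣_ V1).app ⊤)
      rw [morphismRestrict_app]
      haveI : IsIso (j.app ((Scheme.Opens.ι V1) ''ᵁ ⊤)) := by rw [Scheme.Opens.ι_image_top]; infer_instance
      infer_instance
    refine ⟨j ⁻¹ᵁ V1, hyV1, ?_⟩
    rw [← morphismRestrict_ι]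
    infer_instance

end Groth.Agent.S5980
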