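import Groth.Statements.S5985
import Groth.Agent.FlatMor12.ElemNbhd

set_option autoImplicit false
set_option backward.isDefEq.respectTransparency.types false
universe u
open CategoryTheory AlgebraicGeometry
open Unram

namespace Groth.Agent.S5985

/-- Let f : X ⟶ Y be separated and locally of finite type, and y a point of Y whose fibre f⁻¹(y) is
finite (hence discrete). Then there are an étale morphism g : Y' ⟶ Y, a point y' of Y' with g(y') =
y inducing an isomorphism of residue fields κ(y) ≅ κ(y'), and two complementary open subschemes V, W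
of X' = X ×_Y Y' such that V ⟶ Y' is finite and W contains no point of X' lying over y'. -/
theorem result {X Y : Scheme.{u}} (f : X ⟶ Y)
    [LocallyOfFiniteType f] [IsSeparated f] (y : Y) (hfin : (f ⁻¹' {y}).Finite) :
    ∃ (Y' : Scheme.{u}) (g : Y' ⟶ Y) (y' : Y'), Etale g ∧ g y' = y ∧
      IsIso (g.residueFieldMap y') ∧
      ∃ (V W : (Limits.pullback f g).Opens), IsCompl V W ∧
        IsFinite (V.ι ≫ Limits.pullback.snd f g) ∧
        ∀ x : ↥(Limits.pullback f g), Limits.pullback.snd f g x = y' → x ∈ V := by
  haveI hfs : Finite ↥(f.fiber y) := by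
    haveI := hfin.to_subtype
    refine Finite.of_injective (fun z => (⟨f.fiberι y z, ?_⟩ : f ⁻¹' {y})) fun a b h => ?_
    · rw [← Scheme.Hom.range_fiberι f y]; exact ⟨z, rfl⟩
    · exact (f.fiberι y).isEmbedding.injective (congrArg Subtype.val h)
  obtain ⟨U, g, u, hnb, V, hV, hVfin, hiso⟩ := FlatMor12.exists_split_isolated f y (Set.toFinite _)
  obtain ⟨φ, hφ, -⟩ := FlatMor12.exists_fiber_iso f hnb
  obtain ⟨het, hgu, hb⟩ := hnb
  haveI := hφ
  haveI : Finite ↥((Limits.pullback.snd f g).fiber u) :=
    Finite.of_injective φ (Scheme.homeoOfIso (asIso φ)).injective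
  haveI : LocallyOfFiniteType ((Limits.pullback.snd f g).fiberToSpecResidueField u) :=
    MorphismProperty.pullback_snd _ _ inferInstance
  haveI : JacobsonSpace ↥((Limits.pullback.snd f g).fiber u) :=
    LocallyOfFiniteType.jacobsonSpace ((Limits.pullback.snd f g).fiberToSpecResidueField u)
  haveI : DiscreteTopology ↥((Limits.pullback.snd f g).fiber u) := inferInstance
  refine ⟨U, g, u, het, hgu, (ConcreteCategory.isIso_iff_bijective _).2 hb, V, ⟨(V : Set _)ᶜ, hV.1.isOpen_compl⟩,
    ?_, hVfin, fun x hx => ?_⟩
  · refine IsCompl.of_eq (TopologicalSpace.Opens.ext ?_) (TopologicalSpace.Opens.ext ?_)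
    · exact Set.inter_compl_self _
    · exact Set.union_compl_self _
  · by_contra hxV
    subst hx
    exact hiso ((Limits.pullback.snd f g).asFiber x) (by rwa [Scheme.Hom.fiberι_asFiber]) (isOpen_discrete _)

end Groth.Agent.S5985
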