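import Groth.Statements.S5987
import Groth.Agent.CAlgH3.Parameters
import Mathlib
-- import your own Groth.Agent.* helpers here

set_option autoImplicit false
universe u
open EGA418

namespace Groth.Agent.S5987

theorem coset_avoid {A : Type*} [CommRing A] (C : Ideal A) (y : A) (F : Set (Ideal A)) (hF : F.Finite)
    (hp : ∀ Q ∈ F, Q.IsPrime) (hanti : ∀ Q ∈ F, ∀ Q' ∈ F, Q' ≤ Q → Q' = Q)
    (h : ∀ Q ∈ F, C ≤ Q → y ∉ Q) : ∃ c ∈ C, ∀ Q ∈ F, y + c ∉ Q := by
  classical
  let G := hF.toFinset
  let T := G.filter fun Q => y ∈ Q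
  let D : Ideal A := C ⊓ (G.filter fun Q => y ∉ Q).inf id
  have hD : ¬ ((D : Set A) ⊆ ⋃ Q ∈ (T : Set (Ideal A)), (Q : Set A)) := by
    rw [Ideal.subset_union_prime (f := fun Q : Ideal A => Q) ⊥ ⊥ (fun Q hQ _ _ => hp Q (by simpa [G, T] using (Finset.mem_filter.1 hQ).1))]
    rintro ⟨Q, hQ, hle⟩
    obtain ⟨hQG, hyQ⟩ := Finset.mem_filter.1 hQ
    have hQF : Q ∈ F := hF.mem_toFinset.1 hQG
    rcases (hp Q hQF).inf_le.1 hle with h1 | h1
    · exact h Q hQF h1 hyQ
    · obtain ⟨Q', hQ', hle'⟩ := (hp Q hQF).inf_le'.1 h1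
      obtain ⟨hQ'G, hyQ'⟩ := Finset.mem_filter.1 hQ'
      exact hyQ' (hanti Q hQF Q' (hF.mem_toFinset.1 hQ'G) hle' ▸ hyQ)
  obtain ⟨c, hcD, hc⟩ := Set.not_subset.1 hD
  refine ⟨c, hcD.1, fun Q hQ hmem => ?_⟩
  by_cases hyQ : y ∈ Q
  · refine hc (Set.mem_biUnion (show Q ∈ (T : Set (Ideal A)) from Finset.mem_filter.2 ⟨hF.mem_toFinset.2 hQ, hyQ⟩) ?_)
    simpa using Q.sub_mem hmem hyQ
  · have hcQ : c ∈ Q :=
      (Finset.inf_le (f := id) (Finset.mem_filter.2 ⟨hF.mem_toFinset.2 hQ, hyQ⟩) : _ ≤ Q) hcD.2
    exact hyQ (by simpa using Q.sub_mem hmem hcQ)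

theorem notMem_minimal_of_regular {R : Type*} [CommRing R] [IsNoetherianRing R] {J : Ideal R} {t : R}
    (h : IsSMulRegular (R ⧸ J) t) {Q : Ideal R} (hQ : Q ∈ J.minimalPrimes) : t ∉ Q := by
  intro ht
  have hass := Module.associatedPrimes.minimalPrimes_annihilator_subset_associatedPrimes R (R ⧸ J)
    (by rwa [Ideal.annihilator_quotient])
  exact (Set.mem_compl_iff _ _).1 (biUnion_associatedPrimes_eq_compl_regular R (R ⧸ J) ▸
    Set.mem_biUnion hass ht) h

/-- Let A be a Noetherian local ring and p a prime ideal of A such that the local ring A_p is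
Cohen–Macaulay, of dimension s; let t_1, …, t_s be a system of parameters of A_p (elements of its
maximal ideal such that A_p/(t_1, …, t_s) has dimension 0). Then there are elements x_1, …, x_s of p
which form part of a system of parameters of A, in the sense that dim A/(x_1, …, x_s) + s = dim A,
and elements a_1, …, a_s of A outside p, such that for every i the image of x_i in A_p is congruent
to a_i t_i modulo the ideal (t_1, …, t_{i-1}) A_p. (The published statement asks for the image of
x_i to be congruent to t_i itself; this row allows the factor a_i outside p, which is what the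
published proof gives, since it first multiplies each t_i by a unit of A_p to bring it into the
image of A. The published form fails already for s = 1: for A the localization of k[X, Y] at (X, Y),
p = (X) and t_1 = X/Y, the congruence modulo the zero ideal asks for an element of A with image X/Y
in A_p, and there is none.) -/
theorem result (A : Type u) [CommRing A]
    [IsNoetherianRing A] [IsLocalRing A] (p : Ideal A) [p.IsPrime]
    [LocCoh.IsCohenMacaulayLocalRing (Localization.AtPrime p)] (s : ℕ)
    (hs : ringKrullDim (Localization.AtPrime p) = s) (t : Fin s → Localization.AtPrime p)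
    (ht : ∀ i, t i ∈ IsLocalRing.maximalIdeal (Localization.AtPrime p))
    (hsop : ringKrullDim (Localization.AtPrime p ⧸ Ideal.span (Set.range t)) = 0) :
    ∃ x a : Fin s → A, (∀ i, x i ∈ p) ∧ (∀ i, a i ∉ p) ∧
      ringKrullDim (A ⧸ Ideal.span (Set.range x)) + (s : WithBot ℕ∞) = ringKrullDim A ∧
      ∀ i : Fin s, algebraMap A (Localization.AtPrime p) (x i) -
          algebraMap A (Localization.AtPrime p) (a i) * t i ∈
        Ideal.span (t '' {j : Fin s | j < i}) := by
  classical
  let ι' := algebraMap A (Localization.AtPrime p)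
  let T : ℕ → Ideal (Localization.AtPrime p) := fun i => Ideal.span (t '' {j : Fin s | (j : ℕ) < i})
  suffices H : ∀ i ≤ s, ∃ x a : Fin s → A, (∀ j : Fin s, (j : ℕ) < i → x j ∈ p) ∧ (∀ j, a j ∉ p) ∧
      (∀ j : Fin s, (j : ℕ) < i → ι' (x j) - ι' (a j) * t j ∈ T j) ∧
      Module.supportDim A (A ⧸ Ideal.span (x '' {j : Fin s | (j : ℕ) < i})) + (i : ℕ) = ringKrullDim A ∧
      (Ideal.span (x '' {j : Fin s | (j : ℕ) < i})).map ι' = T i by
    obtain ⟨x, a, hx, ha, hc, hd, -⟩ := H s le_rfl
    refine ⟨x, a, fun j => hx j j.2, ha, ?_, fun j => hc j j.2⟩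
    rw [show {j : Fin s | (j : ℕ) < s} = Set.univ from Set.eq_univ_of_forall fun j => j.2, Set.image_univ,
      Module.supportDim_quotient_eq_ringKrullDim] at hd
    exact hd
  intro i hi
  induction i with
  | zero =>
    refine ⟨0, 1, fun j hj => absurd hj (by omega), fun j => ?_, fun j hj => absurd hj (by omega), ?_, ?_⟩
    · exact (Ideal.ne_top_iff_one p).1 ‹p.IsPrime›.ne_top
    · rw [Module.supportDim_quotient_eq_ringKrullDim]
      rw [show {j : Fin s | (j : ℕ) < 0} = ∅ by ext; simp, Set.image_empty, Ideal.span_empty, Nat.cast_zero, add_zero]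
      exact ringKrullDim_eq_of_ringEquiv (RingEquiv.quotientBot A)
    · simp [T]
  | succ i ih =>
    obtain ⟨x, a, hx, ha, hc, hd, hmap⟩ := ih (by omega)
    let j0 : Fin s := ⟨i, hi⟩
    have hreg : IsSMulRegular (Localization.AtPrime p ⧸ T i) (t j0) := by
      have := Groth.Agent.CAlgH3.isSMulRegular_of_isSystemOfParameters t ht (by rw [hs, Fintype.card_fin]) hsop
        (Finset.univ.filter fun j : Fin s => (j : ℕ) < i) j0 (by simp [j0])
      rwa [Finset.coe_filter, show {x : Fin s | x ∈ Finset.univ ∧ (x : ℕ) < i} = {j : Fin s | (j : ℕ) < i} by simp] at this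
    obtain ⟨⟨y, a0⟩, hy⟩ := IsLocalization.surj p.primeCompl (t j0)
    have hyp : y ∈ p := by
      rw [← IsLocalization.AtPrime.to_map_mem_maximal_iff (Localization.AtPrime p) p, ← hy]
      exact Ideal.mul_mem_right _ _ (ht j0)
    set I := Ideal.span (x '' {j : Fin s | (j : ℕ) < i}) with hI
    have hIp : I ≤ p := Ideal.span_le.2 (by rintro _ ⟨j, hj, rfl⟩; exact hx j hj)
    let C := p ⊓ (T i).comap ι'
    have key : ∀ Q ∈ I.minimalPrimes, C ≤ Q → y ∉ Q := by
      intro Q hQ hCQ hyQ
      haveI := hQ.1.1
      have hQp : Q ≤ p := by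
        rcases hQ.1.1.inf_le.1 hCQ with h | h
        · exact hQ.2 ⟨inferInstance, hIp⟩ h
        · obtain ⟨q, hq, hqQ⟩ := Ideal.exists_minimalPrimes_le h
          obtain ⟨P, hP, rfl⟩ := Ideal.exists_minimalPrimes_comap_eq ι' q hq
          haveI := hP.1.1
          have hIle : I ≤ P.comap ι' := Ideal.map_le_iff_le_comap.1 (hmap.le.trans hP.1.2)
          refine (hQ.2 ⟨Ideal.IsPrime.comap ι', hIle⟩ hqQ).trans (fun z hz => ?_)
          rw [← IsLocalization.AtPrime.to_map_mem_maximal_iff (Localization.AtPrime p) p]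
          exact IsLocalRing.le_maximalIdeal hP.1.1.ne_top hz
      have hdisj : Disjoint (p.primeCompl : Set A) (Q : Set A) :=
        Set.disjoint_left.2 fun z hz hz' => hz (hQp hz')
      have hmin : Q.map ι' ∈ (T i).minimalPrimes := by
        rw [← hmap, IsLocalization.minimalPrimes_map p.primeCompl (Localization.AtPrime p) I, Set.mem_preimage,
          IsLocalization.comap_map_of_isPrime_disjoint p.primeCompl (Localization.AtPrime p) inferInstance hdisj]
        exact hQ
      refine notMem_minimal_of_regular hreg hmin ?_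
      refine (Ideal.mul_unit_mem_iff_mem _ (IsLocalization.map_units (Localization.AtPrime p) a0)).1 (hy ▸ Ideal.mem_map_of_mem ι' hyQ)
    obtain ⟨c, hcC, hcQ⟩ := coset_avoid C y I.minimalPrimes (I.finite_minimalPrimes_of_isNoetherianRing A)
      (fun Q hQ => hQ.1.1) (fun Q hQ Q' hQ' hle => le_antisymm hle (hQ.2 hQ'.1 hle)) key
    refine ⟨Function.update x j0 (y + c), Function.update a j0 a0, fun j hj => ?_, fun j => ?_, fun j hj => ?_, ?_, ?_⟩
    · rcases eq_or_ne j j0 with rfl | hne
      · rw [Function.update_self]; exact p.add_mem hyp hcC.1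
      · rw [Function.update_of_ne hne]
        refine hx j ?_
        have : (j : ℕ) ≠ i := fun h => hne (Fin.ext h)
        omega
    · rcases eq_or_ne j j0 with rfl | hne
      · rw [Function.update_self]; exact a0.2
      · rw [Function.update_of_ne hne]; exact ha j
    · rcases eq_or_ne j j0 with rfl | hne
      · rw [Function.update_self, Function.update_self, map_add, show ι' y = t j0 * ι' a0 from hy.symm,
          show t j0 * ι' a0 + ι' c - ι' a0 * t j0 = ι' c by ring]
        exact hcC.2
      · rw [Function.update_of_ne hne, Function.update_of_ne hne]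
        refine hc j ?_
        have : (j : ℕ) ≠ i := fun h => hne (Fin.ext h)
        omega
    all_goals
      have hset : {j : Fin s | (j : ℕ) < i + 1} = insert j0 {j : Fin s | (j : ℕ) < i} := by
        ext j
        simp only [Set.mem_setOf_eq, Set.mem_insert_iff, Fin.ext_iff, j0]
        omega
      have himg : Function.update x j0 (y + c) '' {j : Fin s | (j : ℕ) < i + 1} =
          insert (y + c) (x '' {j : Fin s | (j : ℕ) < i}) := by
        have e : Function.update x j0 (y + c) '' {j : Fin s | (j : ℕ) < i} = x '' {j : Fin s | (j : ℕ) < i} :=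
          Set.image_congr fun j hj => Function.update_of_ne (fun h : j = j0 => lt_irrefl i (h ▸ hj : (j0 : ℕ) < i)) _ _
        rw [hset, Set.image_insert_eq, Function.update_self, e]
      rw [himg, Ideal.span_insert, ← hI]
    · have e := (Groth.Agent.CAlgH3.quotSMulTopQuotient I (y + c)).trans (Submodule.quotEquivOfEq _ _ (sup_comm _ _))
      rw [← Module.supportDim_eq_of_equiv e, Nat.cast_add, Nat.cast_one, add_comm ((i : ℕ) : WithBot ℕ∞) 1, ← add_assoc,
        Module.supportDim_quotSMulTop_succ_eq_of_notMem_minimalPrimes_of_mem_maximalIdeal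
          (by rw [Ideal.annihilator_quotient]; exact hcQ)
          (IsLocalRing.le_maximalIdeal ‹p.IsPrime›.ne_top (p.add_mem hyp hcC.1)), hd]
    · rw [Ideal.map_sup, hmap, Ideal.map_span, Set.image_singleton, map_add]
      simp only [T]
      rw [hset, Set.image_insert_eq, Ideal.span_insert]
      have hcT : ι' c ∈ T i := hcC.2
      obtain ⟨u, hu⟩ := IsLocalization.map_units (Localization.AtPrime p) a0
      rw [show ι' y = t j0 * ι' a0 from hy.symm]
      refine le_antisymm (sup_le ?_ le_sup_right) (sup_le ?_ le_sup_right)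
      · rw [Ideal.span_singleton_le_iff_mem]
        exact add_mem (Ideal.mem_sup_left (Ideal.mul_mem_right _ _ (Ideal.mem_span_singleton_self _)))
          (Ideal.mem_sup_right hcT)
      · rw [Ideal.span_singleton_le_iff_mem]
        refine (Ideal.mul_unit_mem_iff_mem _ (IsLocalization.map_units (Localization.AtPrime p) a0)).1 ?_
        have h1 : t j0 * ι' a0 + ι' c ∈ Ideal.span {t j0 * ι' a0 + ι' c} ⊔ T i :=
          Ideal.mem_sup_left (Ideal.mem_span_singleton_self _)
        have := Ideal.sub_mem _ h1 (Ideal.mem_sup_right hcT)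
        rw [add_sub_cancel_right] at this
        exact this

end Groth.Agent.S5987
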