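import Groth.Statements.S5988
import Groth.Agent.CommAlg6.ImperfectionDim

set_option autoImplicit false
universe u
open scoped TensorProduct
open EGA418

namespace Groth.Agent.S5988

/-- Let k be a field of characteristic p > 0, C a complete Noetherian local k-algebra which is an
integral domain whose residue field is a finite extension of k, n the dimension of C and L a
fraction field of C. Let Υ be the module of imperfection of L over k, namely the kernel of the
canonical map L ⊗_k Ω_k ⟶ Ω_L on absolute differentials. Then Υ is a finite-dimensional L-vector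
space and dim_L Ω_{L/k} ≥ n + dim_L Υ, the dimension of Ω_{L/k} being taken as a cardinal. (The
published statement also asserts that Ω_{L/k} is finite-dimensional; this row does not, since that
fails when k has infinite degree over its subfield of p-th powers: for k = F_p(t_1, t_2, …) and C =
k[[T]] the L-vector space Ω_{L/k} is infinite-dimensional. The published proof establishes exactly
the finiteness of Υ and the inequality, through a power-series subalgebra k[[T_1, …, T_n]] of C over
which C is finite.) -/
theorem result (p : ℕ) [Fact p.Prime]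
    (k C L : Type u) [Field k] [CharP k p] [CommRing C] [IsDomain C] [IsNoetherianRing C] [IsLocalRing C]
    [Algebra k C] [IsAdicComplete (IsLocalRing.maximalIdeal C) C]
    [Module.Finite k (IsLocalRing.ResidueField C)] (n : ℕ) (hn : ringKrullDim C = n)
    [Field L] [Algebra C L] [IsFractionRing C L] [Algebra k L] [IsScalarTower k C L] :
    Module.Finite L (LinearMap.ker (KaehlerDifferential.mapBaseChange ℤ k L)) ∧
      (n : Cardinal.{u}) + Module.rank L (LinearMap.ker (KaehlerDifferential.mapBaseChange ℤ k L)) ≤
        Module.rank L (Ω[L⁄k]) := by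
  obtain ⟨φ, hC, hfin, hinj, -⟩ := CommAlg6.exists_mvPowerSeries_algebra_injective k C n hn
  haveI : IsRegularLocalRing (MvPowerSeries (Fin n) k) := (CAlgH.isRegularLocalRing_mvPowerSeries k n).1
  haveI : IsDomain (MvPowerSeries (Fin n) k) := CAlgH3.isDomain_of_isRegularLocalRing _
  letI : Algebra (MvPowerSeries (Fin n) k) C := φ.toAlgebra
  haveI : IsScalarTower k (MvPowerSeries (Fin n) k) C := .of_algebraMap_eq fun c => (RingHom.congr_fun hC c).symm
  haveI : Module.Finite (MvPowerSeries (Fin n) k) C := hfin
  haveI : FaithfulSMul (MvPowerSeries (Fin n) k) C := (faithfulSMul_iff_algebraMap_injective _ C).2 hinj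
  letI : Algebra (MvPowerSeries (Fin n) k) L := ((algebraMap C L).comp φ).toAlgebra
  haveI : IsScalarTower (MvPowerSeries (Fin n) k) C L := .of_algebraMap_eq fun _ => rfl
  haveI : IsScalarTower k (MvPowerSeries (Fin n) k) L := .of_algebraMap_eq fun c => by
    rw [IsScalarTower.algebraMap_apply k C L, IsScalarTower.algebraMap_apply k (MvPowerSeries (Fin n) k) C]
    rfl
  haveI : FaithfulSMul (MvPowerSeries (Fin n) k) L := (faithfulSMul_iff_algebraMap_injective _ L).2
    ((IsFractionRing.injective C L).comp hinj)
  letI : Algebra (FractionRing (MvPowerSeries (Fin n) k)) L := FractionRing.liftAlgebra (MvPowerSeries (Fin n) k) L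
  haveI : IsScalarTower (MvPowerSeries (Fin n) k) (FractionRing (MvPowerSeries (Fin n) k)) L :=
    FractionRing.isScalarTower_liftAlgebra _ _
  haveI : IsScalarTower k (FractionRing (MvPowerSeries (Fin n) k)) L := .of_algebraMap_eq fun c => by
    rw [IsScalarTower.algebraMap_apply k (MvPowerSeries (Fin n) k) (FractionRing (MvPowerSeries (Fin n) k)),
      ← IsScalarTower.algebraMap_apply (MvPowerSeries (Fin n) k) (FractionRing (MvPowerSeries (Fin n) k)) L,
      ← IsScalarTower.algebraMap_apply k (MvPowerSeries (Fin n) k) L]
  haveI : FiniteDimensional (FractionRing (MvPowerSeries (Fin n) k)) L := by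
    haveI : Algebra.IsIntegral (MvPowerSeries (Fin n) k) C := Algebra.IsIntegral.of_finite _ _
    let M := Algebra.algebraMapSubmonoid C (nonZeroDivisors (MvPowerSeries (Fin n) k))
    have hM : M ≤ nonZeroDivisors C := by
      rintro _ ⟨r, hr, rfl⟩
      exact mem_nonZeroDivisors_of_ne_zero ((map_ne_zero_iff _ hinj).2 (nonZeroDivisors.ne_zero hr))
    haveI : IsLocalization (nonZeroDivisors C) (Localization M) := IsLocalization.of_le_of_exists_dvd M _ hM fun c hc => by
      have hne : Ideal.comap (algebraMap (MvPowerSeries (Fin n) k) C) (Ideal.span {c}) ≠ ⊥ :=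
        Ideal.comap_ne_bot_of_integral_mem (nonZeroDivisors.ne_zero hc) (Ideal.mem_span_singleton_self c)
          (Algebra.IsIntegral.isIntegral c)
      obtain ⟨r, hr, hr0⟩ := Submodule.exists_mem_ne_zero_of_ne_bot hne
      exact ⟨_, ⟨r, mem_nonZeroDivisors_of_ne_zero hr0, rfl⟩, Ideal.mem_span_singleton.1 hr⟩
    haveI : IsLocalization M L :=
      IsLocalization.isLocalization_of_algEquiv M (IsLocalization.algEquiv (nonZeroDivisors C) (Localization M) L)
    exact Module.Finite.of_isLocalization (MvPowerSeries (Fin n) k) C (nonZeroDivisors (MvPowerSeries (Fin n) k))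
  have hinjL := CommAlg6.injective_mapBaseChange_fractionRing k n (FractionRing (MvPowerSeries (Fin n) k))
  exact CommAlg6.imperfection_of_finite_extension (L₀ := FractionRing (MvPowerSeries (Fin n) k)) n hinjL
    (CommAlg6.exists_surjective_kaehler_fractionRing k n _)

end Groth.Agent.S5988
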