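import Groth.Statements.S5991
import Groth.Agent.AdicRing.Basic
import Mathlib.RingTheory.AdicCompletion.Exactness
import Mathlib.RingTheory.AdicCompletion.Completeness
import Mathlib.RingTheory.Kaehler.Basic

set_option autoImplicit false
universe u
open scoped TensorProduct
open EGA418

namespace Groth.Agent.S5991

open IsLocalRing TensorProduct

/-- The completion of a module with finite reduction is finite. -/
theorem finite_adicCompletion_of_quotient {S M : Type u} [CommRing S] [IsNoetherianRing S] [IsLocalRing S]
    [IsAdicComplete (maximalIdeal S) S] [AddCommGroup M] [Module S M]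
    [Module.Finite S (M ⧸ maximalIdeal S • (⊤ : Submodule S M))] :
    Module.Finite S (AdicCompletion (maximalIdeal S) M) := by
  let m := maximalIdeal S
  have hfg : m.FG := IsNoetherian.noetherian m
  haveI : IsAdicComplete m (AdicCompletion m M) := AdicCompletion.isAdicComplete hfg
  refine AdicRing.finite_of_finite_quotient (I := m) (AdicCompletion m M) ?_
  let φ : M →ₗ[S] AdicCompletion m M ⧸ m • (⊤ : Submodule S (AdicCompletion m M)) :=
    (Submodule.mkQ _).comp (AdicCompletion.of m M)
  have hker : m • (⊤ : Submodule S M) ≤ LinearMap.ker φ := Submodule.smul_le.2 fun a ha x _ => by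
    rw [LinearMap.mem_ker, map_smul]
    show Submodule.mkQ _ (a • AdicCompletion.of m M x) = 0
    rw [Submodule.mkQ_apply, Submodule.Quotient.mk_eq_zero]
    exact Submodule.smul_mem_smul ha trivial
  refine Module.Finite.of_surjective ((m • (⊤ : Submodule S M)).liftQ φ hker) fun y => ?_
  obtain ⟨x, rfl⟩ := Submodule.mkQ_surjective _ y
  obtain ⟨w, hw⟩ := Submodule.Quotient.mk_surjective _ (AdicCompletion.eval m M 1 x)
  refine ⟨Submodule.Quotient.mk w, ((Submodule.Quotient.eq _).2 ?_).symm⟩
  have : x - AdicCompletion.of m M w ∈ m ^ 1 • (⊤ : Submodule S (AdicCompletion m M)) := by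
    rw [AdicCompletion.pow_smul_top_eq_ker_eval hfg, LinearMap.mem_ker, map_sub, AdicCompletion.eval_of, ← hw,
      Submodule.mkQ_apply, sub_self]
  rwa [pow_one] at this


/-- Let k be a field, R and S complete Noetherian local k-algebras such that the module of differentials
of the residue field of S over k is finite-dimensional, and let S be a finite R-algebra through a
k-algebra homomorphism R → S. Write m for the maximal ideal of S and complete m-adically. Then the
S-module Ω_{S/R} is m-adically complete (it is its own completion), and the sequence of completed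
modules (S ⊗_R Ω_{R/k})^ ⟶ (Ω_{S/k})^ ⟶ (Ω_{S/R})^ ⟶ 0, induced by the canonical maps S ⊗_R Ω_{R/k}
⟶ Ω_{S/k} ⟶ Ω_{S/R}, is exact: the second map is surjective and its kernel is the image of the
first. -/
theorem result (k R S : Type u) [Field k] [CommRing R] [IsNoetherianRing R]
    [IsLocalRing R] [Algebra k R] [IsAdicComplete (IsLocalRing.maximalIdeal R) R]
    [CommRing S] [IsNoetherianRing S] [IsLocalRing S] [Algebra k S]
    [IsAdicComplete (IsLocalRing.maximalIdeal S) S] [Algebra R S] [IsScalarTower k R S]
    [Module.Finite R S] [Module.Finite (IsLocalRing.ResidueField S) (Ω[IsLocalRing.ResidueField S⁄k])] :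
    IsAdicComplete (IsLocalRing.maximalIdeal S) (Ω[S⁄R]) ∧
      Function.Surjective (AdicCompletion.map (IsLocalRing.maximalIdeal S) (KaehlerDifferential.map k R S S)) ∧
      LinearMap.range (AdicCompletion.map (IsLocalRing.maximalIdeal S) (KaehlerDifferential.mapBaseChange k R S)) =
        LinearMap.ker (AdicCompletion.map (IsLocalRing.maximalIdeal S) (KaehlerDifferential.map k R S S)) := by
  let m := maximalIdeal S
  let g := KaehlerDifferential.map k R S S
  let f := KaehlerDifferential.mapBaseChange k R S
  have hg : Function.Surjective g := KaehlerDifferential.map_surjective k R S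
  have hex : Function.Exact f g := KaehlerDifferential.exact_mapBaseChange_map k R S
  have hgf : g.comp f = 0 := hex.linearMap_comp_eq_zero
  refine ⟨AdicRing.isAdicComplete_of_finite m _, AdicCompletion.map_surjective m hg, le_antisymm ?_ ?_⟩
  · rintro _ ⟨x, rfl⟩
    rw [LinearMap.mem_ker]
    show AdicCompletion.map m g (AdicCompletion.map m f x) = 0
    refine AdicCompletion.ext fun n => ?_
    obtain ⟨w, hw⟩ := Submodule.Quotient.mk_surjective _ (x.val n)
    show (LinearMap.reduceModIdeal (m ^ n) g) ((LinearMap.reduceModIdeal (m ^ n) f) (x.val n)) = 0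
    rw [← hw]
    show Submodule.Quotient.mk (g (f w)) = _
    rw [hex.apply_apply_eq_zero]; rfl
  · intro x hx
    haveI : Module.Finite S (ResidueField S) := Module.Finite.of_surjective (Algebra.linearMap S _) residue_surjective
    haveI : Module.Finite S Ω[ResidueField S⁄k] := Module.Finite.trans (ResidueField S) _
    haveI : Module.Finite S (Ω[S⁄k] ⧸ m • (⊤ : Submodule S Ω[S⁄k])) := by
      let κ := ResidueField S
      let c := KaehlerDifferential.kerCotangentToTensor k S κ
      let d := (KaehlerDifferential.mapBaseChange k S κ).restrictScalars S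
      have hd : Function.Exact c d :=
        KaehlerDifferential.exact_kerCotangentToTensor_mapBaseChange k S κ residue_surjective
      haveI : Module.Finite S (κ ⊗[S] Ω[S⁄k]) := by
        haveI : Module.Finite S (RingHom.ker (algebraMap S κ)).Cotangent :=
          Module.Finite.of_surjective (Ideal.toCotangent _) (Ideal.toCotangent_surjective _)
        haveI : Module.Finite S (LinearMap.ker d) := by
          rw [LinearMap.exact_iff.1 hd]
          exact Module.Finite.range c
        refine ⟨Submodule.fg_of_fg_map_of_fg_inf_ker d ?_ ?_⟩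
        · exact IsNoetherian.noetherian _
        · rw [top_inf_eq]; exact Module.Finite.iff_fg.1 inferInstance
      haveI : Module.Finite S ((S ⧸ m) ⊗[S] Ω[S⁄k]) := ‹Module.Finite S (κ ⊗[S] Ω[S⁄k])›
      exact Module.Finite.of_surjective (TensorProduct.quotTensorEquivQuotSMul Ω[S⁄k] m).toLinearMap
        (LinearEquiv.surjective _)
    haveI := finite_adicCompletion_of_quotient (S := S) (M := Ω[S⁄k])
    let P : Submodule S (AdicCompletion m Ω[S⁄k]) := (LinearMap.range (AdicCompletion.map m f)).restrictScalars S
    suffices hP : x ∈ P from hP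
    have key : ∀ n, P.mkQ x ∈ m ^ n • (⊤ : Submodule S (AdicCompletion m Ω[S⁄k] ⧸ P)) := fun n => by
      obtain ⟨w, hw⟩ := Submodule.Quotient.mk_surjective _ (x.val n)
      have hgw : g w ∈ (m ^ n • ⊤ : Submodule S Ω[S⁄k]).map g := by
        rw [Submodule.map_smul'', Submodule.map_top, LinearMap.range_eq_top.2 hg, ← Submodule.Quotient.mk_eq_zero]
        have h0 : (AdicCompletion.map m g x).val n = 0 := by rw [LinearMap.mem_ker.1 hx]; rfl
        rw [← h0]
        show _ = (LinearMap.reduceModIdeal (m ^ n) g) (x.val n)
        rw [← hw]; rfl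
      obtain ⟨z, hz, hzw⟩ := Submodule.mem_map.1 hgw
      obtain ⟨l, hl⟩ := (hex (w - z)).1 (by rw [map_sub, hzw, sub_self])
      have hdiff : x - AdicCompletion.map m f (AdicCompletion.of m _ l) ∈
          m ^ n • (⊤ : Submodule S (AdicCompletion m Ω[S⁄k])) := by
        rw [AdicCompletion.pow_smul_top_eq_ker_eval (IsNoetherian.noetherian m), LinearMap.mem_ker, map_sub,
          AdicCompletion.map_of, AdicCompletion.eval_of, hl, sub_eq_zero]
        show x.val n = _
        rw [← hw, Submodule.mkQ_apply, Submodule.Quotient.eq, sub_sub_cancel]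
        exact hz
      have h1 := Submodule.mem_map_of_mem (f := P.mkQ) hdiff
      rw [Submodule.map_smul'', map_sub, show P.mkQ (AdicCompletion.map m f (AdicCompletion.of m _ l)) = 0 from
        (Submodule.Quotient.mk_eq_zero _).2 ⟨_, rfl⟩, sub_zero] at h1
      exact Submodule.smul_mono le_rfl le_top h1
    have h0 : P.mkQ x = 0 := IsHausdorff.haus
      (IsHausdorff.of_le_jacobson (M := AdicCompletion m Ω[S⁄k] ⧸ P) m (IsLocalRing.maximalIdeal_le_jacobson _))
      _ fun n => SModEq.zero.2 (key n)
    exact (Submodule.Quotient.mk_eq_zero _).1 h0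

end Groth.Agent.S5991
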