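import Groth.Statements.S5992
import Groth.Agent.CommAlg6.InsepReduced
import Groth.Agent.CommAlg6.CompletedKaehlerRegularGen
import Groth.Agent.CommAlg6.PowerSeriesBase
import Groth.Agent.CommAlg6.CTensorBasic
import Groth.Agent.DimLib.Algebra
import Groth.Agent.S3850
import Groth.Agent.S9256
import Groth.Agent.CAlgH.FiniteCompletion

set_option autoImplicit false
universe u
open scoped TensorProduct
open EGA418

namespace Groth.Agent.S5992

open IsLocalRing
set_option linter.style.haveILetI false
attribute [local instance] Algebra.TensorProduct.rightAlgebra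

/-- The power series field stays reduced over purely inseparable extensions. -/
theorem isReduced_tensor_fractionRing {k P : Type u} [Field k] [Field P] [Algebra k P] [Algebra.IsAlgebraic k P]
    (n : ℕ) [IsDomain (MvPowerSeries (Fin n) k)] :
    IsReduced (FractionRing (MvPowerSeries (Fin n) k) ⊗[k] P) := by
  let R := MvPowerSeries (Fin n) k
  let L := FractionRing R
  refine IsReduced.tensorProduct_of_flat_of_forall_fg fun B hB => ?_
  haveI : Algebra.FiniteType k B := B.fg_iff_finiteType.mp hB
  haveI : Algebra.IsIntegral k B := ⟨fun x => (isIntegral_algHom_iff B.val Subtype.val_injective).1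
    (Algebra.IsAlgebraic.isAlgebraic (R := k) (x : P)).isIntegral⟩
  haveI : Module.Finite k B := Algebra.IsIntegral.finite
  haveI : IsNoetherianRing B := IsNoetherianRing.of_finite k B
  haveI : IsReduced (B ⊗[k] R) :=
    isReduced_of_injective _ (CommAlg6.mvPowerSeriesBaseChangeEquiv (Fin n) k B).injective
  let f : B ⊗[k] R →ₐ[k] L ⊗[k] B :=
    (Algebra.TensorProduct.map (IsScalarTower.toAlgHom k R L) (AlgHom.id k B)).comp
      (Algebra.TensorProduct.comm k B R).toAlgHom
  have hf : Function.Injective f :=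
    (Module.Flat.rTensor_preserves_injective_linearMap (M := B) (IsScalarTower.toAlgHom k R L).toLinearMap
      (IsFractionRing.injective R L)).comp (Algebra.TensorProduct.comm k B R).injective
  have hden : ∀ x : L ⊗[k] B, ∃ r : R, r ≠ 0 ∧ (algebraMap R L r) ⊗ₜ[k] (1 : B) * x ∈ f.range := by
    intro x
    induction x using TensorProduct.induction_on with
    | zero => exact ⟨1, one_ne_zero, by simp⟩
    | tmul l b =>
      obtain ⟨⟨a, r⟩, hr⟩ := IsLocalization.surj (nonZeroDivisors R) l
      refine ⟨r, nonZeroDivisors.ne_zero r.2, b ⊗ₜ a, ?_⟩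
      show algebraMap R L a ⊗ₜ[k] b = _
      rw [Algebra.TensorProduct.tmul_mul_tmul, one_mul, mul_comm, hr]
    | add x y hx hy =>
      obtain ⟨r, hr, u, hu⟩ := hx
      obtain ⟨r', hr', v, hv⟩ := hy
      refine ⟨r * r', mul_ne_zero hr hr', ((1 : B) ⊗ₜ[k] r') * u + ((1 : B) ⊗ₜ[k] r) * v, ?_⟩
      have h1 : ∀ s : R, f ((1 : B) ⊗ₜ[k] s) = algebraMap R L s ⊗ₜ[k] (1 : B) := fun s => rfl
      show f _ = _
      rw [map_add, map_mul, map_mul, h1, h1,
        show f u = _ from hu, show f v = _ from hv, map_mul,
        show (algebraMap R L r * algebraMap R L r') ⊗ₜ[k] (1 : B) =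
          (algebraMap R L r ⊗ₜ[k] (1 : B)) * (algebraMap R L r' ⊗ₜ[k] (1 : B)) by
            rw [Algebra.TensorProduct.tmul_mul_tmul, one_mul]]
      ring
  refine ⟨fun x hx => ?_⟩
  obtain ⟨r, hr, u, hu⟩ := hden x
  have h0 : u = 0 := ((IsNilpotent.map_iff hf).1 (by
    show IsNilpotent (f u)
    rw [show f u = _ from hu]
    exact (Commute.all _ _).isNilpotent_mul_left hx)).eq_zero
  rw [h0] at hu
  have hunit : IsUnit (algebraMap R L r ⊗ₜ[k] (1 : B)) :=
    (isUnit_iff_ne_zero.2 (IsFractionRing.to_map_ne_zero_of_mem_nonZeroDivisors (mem_nonZeroDivisors_of_ne_zero hr))).map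
      (Algebra.TensorProduct.includeLeft : L →ₐ[k] L ⊗[k] B)
  exact hunit.mul_right_eq_zero.1 (hu.symm.trans (map_zero f))

/-- The nilradical over the perfect closure is finitely generated. -/
theorem fg_nilradical_perfect {k A P : Type u} [Field k] [CommRing A] [IsDomain A] [Algebra k A] [Field P]
    [Algebra k P] [IsPurelyInseparable k P] (n : ℕ) [IsDomain (MvPowerSeries (Fin n) k)]
    [Algebra (MvPowerSeries (Fin n) k) A] [IsScalarTower k (MvPowerSeries (Fin n) k) A]
    [Module.Finite (MvPowerSeries (Fin n) k) A] [FaithfulSMul (MvPowerSeries (Fin n) k) A] :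
    (nilradical (P ⊗[k] FractionRing A)).FG := by
  let R := MvPowerSeries (Fin n) k
  let L := FractionRing R
  let K := FractionRing A
  letI : Algebra L K := FractionRing.liftAlgebra R K
  haveI : IsScalarTower R L K := FractionRing.isScalarTower_liftAlgebra R K
  haveI : IsScalarTower k L K := .of_algebraMap_eq fun c => by
    rw [IsScalarTower.algebraMap_apply k R L, ← IsScalarTower.algebraMap_apply R L K,
      ← IsScalarTower.algebraMap_apply k R K]
  haveI : FiniteDimensional L K := inferInstance
  haveI : Algebra.IsAlgebraic k P := inferInstance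
  haveI := isReduced_tensor_fractionRing (k := k) (P := P) n
  haveI hF : IsNoetherianRing (L ⊗[k] P) := by
    have h1 : IsReduced (P ⊗[k] L) :=
      isReduced_of_injective _ (Algebra.TensorProduct.comm k P L).injective
    haveI := h1
    have h := CommAlg6.isArtinianRing_of_fg_nilradical (k := k) (k' := P) (K := L) (by
      rw [nilradical_eq_zero]; exact Submodule.fg_bot)
    haveI := h
    exact isNoetherianRing_of_ringEquiv (P ⊗[k] L) (Algebra.TensorProduct.comm k P L).toRingEquiv
  haveI : Module.Finite (L ⊗[k] P) ((L ⊗[k] P) ⊗[L] K) := inferInstance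
  haveI : IsNoetherianRing ((L ⊗[k] P) ⊗[L] K) := IsNoetherianRing.of_finite (L ⊗[k] P) ((L ⊗[k] P) ⊗[L] K)
  haveI : IsNoetherianRing (P ⊗[k] K) := isNoetherianRing_of_ringEquiv ((L ⊗[k] P) ⊗[L] K)
    (((Algebra.TensorProduct.comm L (L ⊗[k] P) K).toRingEquiv.trans
      (Algebra.TensorProduct.cancelBaseChange k L L K P).toRingEquiv).trans
      (Algebra.TensorProduct.comm k K P).toRingEquiv)
  exact IsNoetherian.noetherian _

/-- The reduced base change is a complete local domain of the same dimension. -/
theorem reduced_baseChange_facts {k k' A : Type u} [Field k] [Field k'] [Algebra k k'] [Module.Finite k k']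
    [IsPurelyInseparable k k'] [CommRing A] [IsDomain A] [IsNoetherianRing A] [IsLocalRing A] [Algebra k A]
    [IsAdicComplete (maximalIdeal A) A] [Module.Finite k (ResidueField A)] (n : ℕ) (hn : ringKrullDim A = n)
    (hA : ¬ IsField A) :
    ∃ (_ : IsDomain ((k' ⊗[k] A) ⧸ nilradical (k' ⊗[k] A)))
      (_ : IsLocalRing ((k' ⊗[k] A) ⧸ nilradical (k' ⊗[k] A))),
      IsNoetherianRing ((k' ⊗[k] A) ⧸ nilradical (k' ⊗[k] A)) ∧
      IsAdicComplete (maximalIdeal ((k' ⊗[k] A) ⧸ nilradical (k' ⊗[k] A))) ((k' ⊗[k] A) ⧸ nilradical (k' ⊗[k] A)) ∧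
      Module.Finite k' (ResidueField ((k' ⊗[k] A) ⧸ nilradical (k' ⊗[k] A))) ∧
      ringKrullDim ((k' ⊗[k] A) ⧸ nilradical (k' ⊗[k] A)) = n ∧ ¬ IsField ((k' ⊗[k] A) ⧸ nilradical (k' ⊗[k] A)) := by
  let S := k' ⊗[k] A
  let D := S ⧸ nilradical S
  have hinjS : Function.Injective (algebraMap A S) :=
    Algebra.TensorProduct.includeRight_injective (A := k') (B := A) (algebraMap k k').injective
  have hinj : Function.Injective (algebraMap A D) := by
    rw [injective_iff_map_eq_zero]
    intro a ha
    rw [IsScalarTower.algebraMap_apply A S D, Ideal.Quotient.algebraMap_eq, Ideal.Quotient.eq_zero_iff_mem,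
      mem_nilradical, IsNilpotent.map_iff hinjS] at ha
    exact ha.eq_zero
  haveI : Nontrivial S := hinjS.nontrivial
  have hprime : (nilradical S).IsPrime := by
    refine ⟨fun h => one_ne_zero (α := S) ?_, fun {x y} hxy => ?_⟩
    · exact absurd (mem_nilradical.1 (h ▸ Submodule.mem_top)) not_isNilpotent_one
    obtain ⟨i, hi, a, ha⟩ := CommAlg6.exists_pow_eq_includeRight x
    obtain ⟨j, hj, b, hb⟩ := CommAlg6.exists_pow_eq_includeRight y
    have h1 : IsNilpotent (x ^ (i * j) * y ^ (i * j)) := by
      rw [← mul_pow]; exact (mem_nilradical.1 hxy).pow_of_pos (Nat.mul_pos hi hj).ne'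
    rw [pow_mul x, ha, mul_comm i j, pow_mul y, hb, Algebra.TensorProduct.tmul_pow, one_pow,
      Algebra.TensorProduct.tmul_pow, one_pow, Algebra.TensorProduct.tmul_mul_tmul, one_mul] at h1
    rcases mul_eq_zero.1 ((IsNilpotent.map_iff hinjS).1 h1).eq_zero with h | h
    · exact Or.inl (mem_nilradical.2 ⟨i * j, by rw [pow_mul, ha, Algebra.TensorProduct.tmul_pow, h, TensorProduct.tmul_zero]⟩)
    · exact Or.inr (mem_nilradical.2 ⟨j * i, by rw [pow_mul, hb, Algebra.TensorProduct.tmul_pow, h, TensorProduct.tmul_zero]⟩)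
  haveI := hprime
  haveI : IsDomain D := Ideal.Quotient.isDomain _
  haveI : IsLocalRing S := IsLocalRing.of_isUnit_or_isUnit_one_sub_self fun x => by
    obtain ⟨p, hp⟩ := ExpChar.exists k
    obtain ⟨e, a, ha⟩ := IsPurelyInseparable.exists_pow_pow_mem_range_tensorProduct_of_expChar p
      (Algebra.TensorProduct.comm k k' A x)
    have hx : x ^ p ^ e = algebraMap A S a := (Algebra.TensorProduct.comm k k' A).injective (by
      rw [map_pow, ← ha]; rfl)
    haveI : ExpChar S p := expChar_of_injective_ringHom (algebraMap k S).injective p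
    rcases IsLocalRing.isUnit_or_isUnit_one_sub_self a with h | h
    · exact Or.inl ((isUnit_pow_iff (expChar_pow_pos k p e).ne').1 (hx ▸ h.map _))
    · refine Or.inr ((isUnit_pow_iff (expChar_pow_pos k p e).ne').1 ?_)
      rw [sub_pow_expChar_pow, one_pow, hx, ← map_one (algebraMap A S), ← map_sub]
      exact h.map _
  haveI : IsLocalRing D := .of_surjective' _ Ideal.Quotient.mk_surjective
  haveI : Module.Finite A S := CommAlg6.finite_right_tensor
  haveI : Module.Finite A D := Module.Finite.of_surjective (Ideal.Quotient.mkₐ A (nilradical S)).toLinearMap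
    Ideal.Quotient.mk_surjective
  haveI : IsNoetherianRing D := IsNoetherianRing.of_finite A D
  haveI : IsLocalHom (algebraMap A D) :=
    ⟨fun a ha => RingHom.IsIntegral.isLocalHom (algebraMap_isIntegral_iff.2 inferInstance) hinj |>.map_nonunit a ha⟩
  haveI : Module.Finite k (ResidueField D) := Module.Finite.trans (ResidueField A) _
  refine ⟨inferInstance, inferInstance, inferInstance, CAlgH.isAdicComplete_maximal_of_finite A D,
    Module.Finite.of_restrictScalars_finite k k' _, ?_, fun h => ?_⟩
  · rw [← DimLib.ringKrullDim_eq_of_isIntegral hinj, hn]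
  · exact hA (isField_of_isIntegral_of_isField hinj h)

/-- A finite unramified power series subring from freeness at the generic point. -/
theorem exists_unramified {k D : Type u} [Field k] [CommRing D] [IsDomain D] [IsLocalRing D] [IsNoetherianRing D]
    [Algebra k D] [IsAdicComplete (maximalIdeal D) D] [Module.Finite k (ResidueField D)] (hD : ¬ IsField D) (n : ℕ)
    (hn : ringKrullDim D = n)
    (hfree : Module.Free (Localization.AtPrime (⊥ : Ideal D)) (LocalizedModule (⊥ : Ideal D).primeCompl (CommAlg6.CKaehler k D)) ∧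
      Module.finrank (Localization.AtPrime (⊥ : Ideal D)) (LocalizedModule (⊥ : Ideal D).primeCompl (CommAlg6.CKaehler k D)) = n) :
    ∃ (_ : Algebra (MvPowerSeries (Fin n) k) D) (_ : IsScalarTower k (MvPowerSeries (Fin n) k) D),
      IsLocalHom (algebraMap (MvPowerSeries (Fin n) k) D) ∧
        Function.Injective (algebraMap (MvPowerSeries (Fin n) k) D) ∧
        Module.Finite (MvPowerSeries (Fin n) k) D ∧
        Algebra.IsUnramifiedAt (MvPowerSeries (Fin n) k) (⊥ : Ideal D) := by
  have hbot : (⊥ : Ideal D) ≠ maximalIdeal D := fun h => hD (IsLocalRing.isField_iff_maximalIdeal_eq.2 h.symm)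
  have hq : ∃ q ∈ minimalPrimes D, q ≤ (⊥ : Ideal D) ∧ ringKrullDim (D ⧸ q) = n := by
    refine ⟨⊥, ?_, le_rfl, by rw [ringKrullDim_eq_of_ringEquiv (RingEquiv.quotientBot D), hn]⟩
    rw [IsDomain.minimalPrimes_eq_singleton_bot]
    rfl
  obtain ⟨alg, tow, hl, hf, het⟩ := (Groth.Agent.S3850.result k D n hn ⊥ hbot hq).1 hfree
  haveI := hl
  haveI := hf
  haveI := het
  refine ⟨alg, tow, hl, ?_, hf, inferInstance⟩
  let R := MvPowerSeries (Fin n) k
  haveI : IsRegularLocalRing R := (CAlgH.isRegularLocalRing_mvPowerSeries k n).1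
  haveI : IsDomain R := CAlgH3.isDomain_of_isRegularLocalRing R
  rw [RingHom.injective_iff_ker_eq_bot]
  by_contra hker
  let I := RingHom.ker (algebraMap R D)
  letI : Algebra (R ⧸ I) D := (RingHom.kerLift (algebraMap R D)).toAlgebra
  haveI : Algebra.IsIntegral R D := Algebra.IsIntegral.of_finite _ _
  haveI : Algebra.IsIntegral (R ⧸ I) D := algebraMap_isIntegral_iff.1
    (RingHom.IsIntegral.tower_top (Ideal.Quotient.mk I) (algebraMap (R ⧸ I) D)
      (algebraMap_isIntegral_iff.2 ‹Algebra.IsIntegral R D›))
  have h1 : ringKrullDim (R ⧸ I) = n := by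
    rw [DimLib.ringKrullDim_eq_of_isIntegral (S := D) (RingHom.kerLift_injective _), hn]
  obtain ⟨z, hz, hz0⟩ := Submodule.exists_mem_ne_zero_of_ne_bot hker
  have h2 := ringKrullDim_quotient_succ_le_of_nonZeroDivisor (mem_nonZeroDivisors_of_ne_zero hz0)
  have h3 : ringKrullDim (R ⧸ I) ≤ ringKrullDim (R ⧸ Ideal.span {z}) :=
    ringKrullDim_le_of_surjective (Ideal.Quotient.factor ((Ideal.span_singleton_le_iff_mem I).2 hz))
      (Ideal.Quotient.factor_surjective _)
  rw [h1] at h3
  have h5 : (n : WithBot ℕ∞) + 1 ≤ n :=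
    ((add_le_add_left h3 1).trans h2).trans (CommAlg6.ringKrullDim_mvPowerSeries_field k n)
  norm_cast at h5
  omega

theorem finite_frobenius_of_finite {k k' : Type u} [Field k] [Field k'] [Algebra k k'] [Module.Finite k k'] (p : ℕ)
    [ExpChar k p] [ExpChar k' p] (hk : (frobenius k p).Finite) : (frobenius k' p).Finite := by
  have h : ((algebraMap k k').comp (frobenius k p)).Finite :=
    (RingHom.finite_algebraMap.2 inferInstance).comp hk
  rw [RingHom.frobenius_comm] at h
  exact RingHom.Finite.of_comp_finite h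

theorem geomRegular_bot {k D X : Type u} [Field k] [CommRing D] [IsDomain D] [Algebra k D] [CommRing X] [Algebra k X]
    (f : D →ₐ[k] X) (hf : Function.Injective f) (hX : IsField X) [Algebra.IsGeometricallyReduced k X] :
    CAlg.IsGeometricallyRegular k (Localization.AtPrime (⊥ : Ideal D)) := by
  letI := hX.toField
  haveI : IsFractionRing D (Localization.AtPrime (⊥ : Ideal D)) := by
    show IsLocalization (nonZeroDivisors D) _
    rw [show nonZeroDivisors D = (⊥ : Ideal D).primeCompl by
      ext x; simp [Ideal.primeCompl, mem_nonZeroDivisors_iff_ne_zero]]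
    infer_instance
  letI : Field (Localization.AtPrime (⊥ : Ideal D)) := IsFractionRing.toField D
  haveI : Algebra.IsGeometricallyReduced k (Localization.AtPrime (⊥ : Ideal D)) :=
    Algebra.IsGeometricallyReduced.of_injective (IsFractionRing.liftAlgHom (g := f) hf) (RingHom.injective _)
  exact (CAlgH.isRegularHom_field_iff k _).1 ((Groth.Agent.S9256.result k _).2 inferInstance)

theorem dim_quotient_bot (D : Type u) [CommRing D] : ringKrullDim (D ⧸ (⊥ : Ideal D)) = ringKrullDim D :=
  ringKrullDim_eq_of_ringEquiv (RingEquiv.quotientBot D)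

theorem regular_bot (D : Type u) [CommRing D] [IsDomain D] :
    IsRegularLocalRing (Localization.AtPrime (⊥ : Ideal D)) := by
  haveI : IsFractionRing D (Localization.AtPrime (⊥ : Ideal D)) := by
    show IsLocalization (nonZeroDivisors D) _
    rw [show nonZeroDivisors D = (⊥ : Ideal D).primeCompl by
      ext x; simp [Ideal.primeCompl, mem_nonZeroDivisors_iff_ne_zero]]
    infer_instance
  letI : Field (Localization.AtPrime (⊥ : Ideal D)) := IsFractionRing.toField D
  infer_instance

/-- The reduction of `k' ⊗ A` inside that of `k' ⊗ K`. -/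
theorem exists_embedding {k k' A K : Type u} [Field k] [Field k'] [Algebra k k'] [IsPurelyInseparable k k']
    [CommRing A] [IsDomain A] [Algebra k A] [Field K] [Algebra A K] [IsFractionRing A K] [Algebra k K]
    [IsScalarTower k A K] :
    IsField ((k' ⊗[k] K) ⧸ nilradical (k' ⊗[k] K)) ∧
      ∃ f : ((k' ⊗[k] A) ⧸ nilradical (k' ⊗[k] A)) →ₐ[k'] ((k' ⊗[k] K) ⧸ nilradical (k' ⊗[k] K)),
        Function.Injective f := by
  constructor
  · haveI : Nontrivial (k' ⊗[k] K) :=
      (Algebra.TensorProduct.includeRight_injective (A := k') (B := K) (algebraMap k k').injective).nontrivial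
    obtain ⟨M, hM⟩ := Ideal.exists_maximal (k' ⊗[k] K)
    haveI := hM.isPrime
    rw [CommAlg6.eq_nilradical_of_isPrime M] at hM
    exact (Ideal.Quotient.maximal_ideal_iff_isField_quotient _).1 hM
  · let g : k' ⊗[k] A →ₐ[k'] k' ⊗[k] K := Algebra.TensorProduct.map (AlgHom.id k' k') (IsScalarTower.toAlgHom k A K)
    have hg : Function.Injective g :=
      Module.Flat.lTensor_preserves_injective_linearMap (M := k') (IsScalarTower.toAlgHom k A K).toLinearMap
        (IsFractionRing.injective A K)
    let h : k' ⊗[k] A →ₐ[k'] (k' ⊗[k] K) ⧸ nilradical (k' ⊗[k] K) := (Ideal.Quotient.mkₐ k' _).comp g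
    refine ⟨Ideal.Quotient.liftₐ (nilradical (k' ⊗[k] A)) h fun x hx =>
      Ideal.Quotient.eq_zero_iff_mem.2 (IsNilpotent.map hx g), ?_⟩
    rw [injective_iff_map_eq_zero]
    intro x hx
    obtain ⟨x, rfl⟩ := Ideal.Quotient.mk_surjective x
    rw [Ideal.Quotient.eq_zero_iff_mem]
    exact (IsNilpotent.map_iff hg).1 (Ideal.Quotient.eq_zero_iff_mem.1 (show Ideal.Quotient.mk _ (g x) = 0 from hx))


/-- Let k be a field of characteristic exponent p such that k is finite over its subfield k^p (the
Frobenius endomorphism of k is a finite ring map), and A a complete Noetherian local k-algebra which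
is an integral domain, not a field, whose residue field is a finite extension of k; let n = dim A.
Then there is a finite purely inseparable extension k' of k such that, A' denoting the reduction of
k' ⊗_k A modulo its nilradical, A' is a local domain and there is a local k'-algebra homomorphism
from the power series ring k'[[T_1, …, T_n]] to A' which is injective, makes A' a finite algebra,
and is unramified at the zero ideal of A' (so the fraction field of A' is a finite separable
extension of that of k'[[T_1, …, T_n]]). -/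
theorem result (p : ℕ) (k A : Type u) [Field k]
    [ExpChar k p] (hk : (frobenius k p).Finite) [CommRing A] [IsDomain A] [IsNoetherianRing A] [IsLocalRing A]
    [Algebra k A] [IsAdicComplete (IsLocalRing.maximalIdeal A) A]
    [Module.Finite k (IsLocalRing.ResidueField A)] (hA : ¬ IsField A) (n : ℕ) (hn : ringKrullDim A = n) :
    ∃ (k' : Type u) (_ : Field k') (_ : Algebra k k'), Module.Finite k k' ∧ IsPurelyInseparable k k' ∧
      ∃ (_ : IsDomain ((k' ⊗[k] A) ⧸ nilradical (k' ⊗[k] A)))
        (_ : IsLocalRing ((k' ⊗[k] A) ⧸ nilradical (k' ⊗[k] A)))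
        (_ : Algebra (MvPowerSeries (Fin n) k') ((k' ⊗[k] A) ⧸ nilradical (k' ⊗[k] A)))
        (_ : IsScalarTower k' (MvPowerSeries (Fin n) k') ((k' ⊗[k] A) ⧸ nilradical (k' ⊗[k] A))),
        IsLocalHom (algebraMap (MvPowerSeries (Fin n) k') ((k' ⊗[k] A) ⧸ nilradical (k' ⊗[k] A))) ∧
        Function.Injective (algebraMap (MvPowerSeries (Fin n) k') ((k' ⊗[k] A) ⧸ nilradical (k' ⊗[k] A))) ∧
        Module.Finite (MvPowerSeries (Fin n) k') ((k' ⊗[k] A) ⧸ nilradical (k' ⊗[k] A)) ∧
        Algebra.IsUnramifiedAt (MvPowerSeries (Fin n) k') (⊥ : Ideal ((k' ⊗[k] A) ⧸ nilradical (k' ⊗[k] A))) := by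
  cases ‹ExpChar k p› with
  | zero =>
    obtain ⟨_, _, h1, h2, h3, h4, h5⟩ := reduced_baseChange_facts (k := k) (k' := k) (A := A) n hn hA
    haveI := h1
    haveI := h2
    haveI := h3
    haveI : PerfectField k := inferInstance
    have hreg := regular_bot ((k ⊗[k] A) ⧸ nilradical (k ⊗[k] A))
    obtain ⟨a1, a2, a3⟩ := exists_unramified h5 n h4 (CommAlg6.free_of_regular_of_perfect k
      ((k ⊗[k] A) ⧸ nilradical (k ⊗[k] A)) ⊥ hreg ⊥
      (by rw [IsDomain.minimalPrimes_eq_singleton_bot]; rfl) le_rfl n
      ((dim_quotient_bot _).trans h4))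
    exact ⟨k, inferInstance, inferInstance, inferInstance, inferInstance, inferInstance, inferInstance, a1, a2, a3⟩
  | prime hp =>
    haveI := Fact.mk hp
    obtain ⟨φ, hC, hfin, hinj, -⟩ := CommAlg6.exists_mvPowerSeries_algebra_injective k A n hn
    haveI : IsRegularLocalRing (MvPowerSeries (Fin n) k) := (CAlgH.isRegularLocalRing_mvPowerSeries k n).1
    haveI : IsDomain (MvPowerSeries (Fin n) k) := CAlgH3.isDomain_of_isRegularLocalRing _
    letI : Algebra (MvPowerSeries (Fin n) k) A := φ.toAlgebra
    haveI : IsScalarTower k (MvPowerSeries (Fin n) k) A := .of_algebraMap_eq fun c => (RingHom.congr_fun hC c).symm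
    haveI : Module.Finite (MvPowerSeries (Fin n) k) A := hfin
    haveI : FaithfulSMul (MvPowerSeries (Fin n) k) A := (faithfulSMul_iff_algebraMap_injective _ A).2 hinj
    obtain ⟨k', ik', ak', hk'fin, hk'pi, hred⟩ := CommAlg6.exists_finite_geomReduced
      (P := perfectClosure k (AlgebraicClosure k)) (K := FractionRing A)
      (fg_nilradical_perfect (k := k) (A := A) (P := perfectClosure k (AlgebraicClosure k)) n)
    letI := ik'
    letI := ak'
    haveI := hk'fin
    haveI := hk'pi
    haveI := hred
    haveI : CharP k' p := charP_of_injective_algebraMap (algebraMap k k').injective p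
    obtain ⟨_, _, h1, h2, h3, h4, h5⟩ := reduced_baseChange_facts (k := k) (k' := k') (A := A) n hn hA
    haveI := h1
    haveI := h2
    haveI := h3
    obtain ⟨hX, f, hf⟩ := exists_embedding (k := k) (k' := k') (A := A) (K := FractionRing A)
    haveI : ExpChar k' p := ExpChar.prime hp
    obtain ⟨a1, a2, a3⟩ := exists_unramified h5 n h4 (CommAlg6.free_of_geomRegular_charP p k'
      ((k' ⊗[k] A) ⧸ nilradical (k' ⊗[k] A)) (finite_frobenius_of_finite p hk) ⊥ (geomRegular_bot f hf hX) ⊥
      (by rw [IsDomain.minimalPrimes_eq_singleton_bot]; rfl) le_rfl n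
      ((dim_quotient_bot _).trans h4))
    exact ⟨k', inferInstance, inferInstance, hk'fin, hk'pi, inferInstance, inferInstance, a1, a2, a3⟩

end Groth.Agent.S5992
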