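import Groth.Statements.S5997
import Groth.Agent.LiftObs29.Rigid
import Groth.Agent.EulerPn5.TangentHyp
import Groth.Agent.Dual22Lib.ProjSmooth
import Groth.Agent.Coherent.ProjSpaceBase
import Groth.Agent.Coherent.CohBC.HomSheaf
import Groth.Agent.S3581
-- import your own Groth.Agent.* helpers here

set_option autoImplicit false
set_option backward.isDefEq.respectTransparency.types false
set_option backward.isDefEq.respectTransparency false
set_option linter.style.haveILetI false
universe u
open SGA1

namespace Groth.Agent.S5997

open AlgebraicGeometry CategoryTheory CategoryTheory.Limits Groth.Agent.Coherent Groth.Agent.AmpleLib Groth.Agent.PicLib in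
/-- Projective space over a field is rigid. -/
theorem subsingleton_ext_one (k : Type u) [Field k] (n : ℕ) [HasExt.{u} (CohB1.ProjSpace n k).Modules] :
    Subsingleton (Abelian.Ext.{u} (Omega.sheaf (CohB1.ProjSpace.toSpec n k))
      (Coh.structureModule (CohB1.ProjSpace n k)) 1) := by
  haveI : Smooth (CohB1.ProjSpace.toSpec n k) := Dual22Lib.ProjSmooth.smooth_toSpec (n := n) (K := k)
  let P := CohB1.ProjSpace n k
  let E := Omega.sheaf (CohB1.ProjSpace.toSpec n k)
  let N := Coh.structureModule P
  have hE : FlatMod.IsFinLocFree E := LiftObs29.isFinLocFree_omega _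
  have hH : Subsingleton (Coh.HH P (internalHom E N) 1) := by
    rcases Nat.eq_zero_or_pos n with rfl | hn
    · haveI := S3581.result k
      haveI : IsAffine P := isAffine_of_isAffineHom (CohB1.ProjSpace.toSpec 0 k)
      haveI : Coh.IsQCoh (internalHom E N) := CohBC.isQCoh_internalHom hE (CohBC.isFinLocFree_structureModule _)
      exact subsingleton_HH_of_isAffine _ 1 one_pos
    · haveI : DCoh.HasSheafHom E := Coherent.hasSheafHom E
      obtain ⟨L, -, hL⟩ := EulerPn5.exists_omegaPow (n := n) (A := k) (n - 1)
      obtain ⟨eT⟩ := EulerPn5.nonempty_tangent_iso (p := n - 1) (by omega) hL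
      exact CAlgH3.ModCohSeq.V_of_iso ((sheafHomIso E).app N)
        (CAlgH3.ModCohSeq.V_of_iso eT.symm (EulerPn5.V_pos (by omega) (n + 1) (n - 1) (by omega) hL 1 one_pos))
  obtain ⟨a⟩ := ExtLF.nonempty_ext_internalHom E hE ((freeModOn P).obj ⊤) N 1
  let v : CohB1.tensorMod E ((freeModOn P).obj ⊤) ≅ E :=
    (tensE E).mapIso (DQCoh.topStructIso P) ≪≫ tensorComm _ _ ≪≫ unitTensorIso E
  let e := (ExtLF.extCongrLeft v N 1).symm.trans (a.symm.trans (SerreDual.extHH (internalHom E N) 1))
  exact e.toEquiv.subsingleton

open AlgebraicGeometry CategoryTheory CategoryTheory.Limits in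
/-- Suppose A is a Noetherian local ring, complete for its maximal ideal, whose residue field we call k,
and consider a proper flat A-scheme X such that the closed fibre X ×_A k is isomorphic over k to
P^r_k. Then X is isomorphic over A to P^r_A. (For ordinary schemes the published statement leaves
out flatness, yet the proof relies on it; dropping it, P^r_k regarded as an A-scheme via the closed
point gives a counterexample as soon as A fails to be a field. This row therefore assumes f is
flat.) -/
theorem result (A : Type u) [CommRing A] [IsLocalRing A]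
    [IsNoetherianRing A] [IsAdicComplete (IsLocalRing.maximalIdeal A) A] (r : ℕ) {X : Scheme.{u}}
    (f : X ⟶ Spec (CommRingCat.of A)) [IsProper f] [Flat f]
    (e₀ : pullback f (Spec.map (CommRingCat.ofHom (IsLocalRing.residue A))) ≅
      CohB1.ProjSpace r (IsLocalRing.ResidueField A))
    (he₀ : e₀.hom ≫ CohB1.ProjSpace.toSpec r (IsLocalRing.ResidueField A) = pullback.snd f _) :
    ∃ e : X ≅ CohB1.ProjSpace r A, e.hom ≫ CohB1.ProjSpace.toSpec r A = f := by
  let k := IsLocalRing.ResidueField A
  let P₀ := CohB1.ProjSpace r k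
  haveI : Smooth (CohB1.ProjSpace.toSpec r k) := Dual22Lib.ProjSmooth.smooth_toSpec (n := r) (K := k)
  haveI : HasExt.{u} P₀.Modules := Coherent.hasExtMod P₀
  haveI : IsProper (CohB1.ProjSpace.toSpec r A) := Coherent.isProper_projSpace_toSpec r A
  have h' : IsPullback _ (CohB1.ProjSpace.toSpec r k) (CohB1.ProjSpace.toSpec r A)
      (Spec.map (CommRingCat.ofHom (IsLocalRing.residue A))) := Coherent.isPullback_projSpace r A k
  have h : IsPullback (e₀.inv ≫ pullback.fst f _) (CohB1.ProjSpace.toSpec r k) f
      (Spec.map (CommRingCat.ofHom (IsLocalRing.residue A))) :=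
    (IsPullback.of_hasPullback f _).of_iso e₀ (Iso.refl _) (Iso.refl _) (Iso.refl _)
      (by simp) (by rw [Iso.refl_hom, Category.comp_id, he₀]) (by simp) (by simp)
  exact LiftObs29.exists_iso_of_rigid (CohB1.ProjSpace.toSpec r k) (subsingleton_ext_one k r) f
    (CohB1.ProjSpace.toSpec r A) _ _ h h'

end Groth.Agent.S5997
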