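import Groth.Statements.S5999
import Groth.Agent.SmoothLib.Quotient

set_option autoImplicit false
set_option backward.isDefEq.respectTransparency.types false
universe u
open SGA1

namespace Groth.Agent.S5999

open TensorProduct in
theorem aux {R A : Type u} [CommRing R] [CommRing A] [Algebra R A] [Algebra.FiniteType R A]
    (F : A) (P : Ideal (A ⧸ Ideal.span ({F} : Set A))) [P.IsPrime] (q : Ideal A) [q.IsPrime]
    (hq : q = P.comap (Ideal.Quotient.mk (Ideal.span ({F} : Set A)))) [Algebra.IsSmoothAt R q] :
    Algebra.IsSmoothAt R P ↔ algebraMap A (Localization.AtPrime q) F = 0 ∨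
      (1 : q.ResidueField) ⊗ₜ[A] KaehlerDifferential.D R A F ≠ 0 := by
  refine (SmoothLib.isSmoothAt_quotient_iff (Ideal.span {F}) ⟨{F}, by simp⟩ P q hq).trans ?_
  have hFq : F ∈ q := by
    rw [hq, Ideal.mem_comap, Ideal.Quotient.eq_zero_iff_mem.mpr (Ideal.mem_span_singleton_self F)]
    exact P.zero_mem
  constructor
  · rintro ⟨s, hs, hgen, hli⟩
    by_contra hc
    push Not at hc
    rcases s.eq_empty_or_nonempty with rfl | ⟨g, hg⟩
    · refine hc.1 ?_
      have : algebraMap A (Localization.AtPrime q) F ∈ (Ideal.span {F}).map (algebraMap A (Localization.AtPrime q)) :=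
        Ideal.mem_map_of_mem _ (Ideal.mem_span_singleton_self F)
      rw [hgen] at this
      simpa using this
    · obtain ⟨c, hcg⟩ := Ideal.mem_span_singleton'.mp (hs hg)
      refine hli.ne_zero ⟨g, hg⟩ ?_
      show (1 : q.ResidueField) ⊗ₜ[A] KaehlerDifferential.D R A g = 0
      have hF0 : F • (1 : q.ResidueField) = 0 := by
        rw [Algebra.smul_def, Ideal.algebraMap_residueField_eq_zero.mpr hFq, zero_mul]
      rw [← hcg, Derivation.leibniz, TensorProduct.tmul_add, TensorProduct.tmul_smul, TensorProduct.tmul_smul,
        hc.2, smul_zero, TensorProduct.smul_tmul', hF0, TensorProduct.zero_tmul, add_zero]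
  · rintro (h | h)
    · exact ⟨∅, by simp, by simp [Ideal.map_span, h], linearIndependent_empty_type⟩
    · refine ⟨{F}, by simp, by simp [Ideal.map_span], ?_⟩
      haveI : Subsingleton ↥({F} : Finset A) := ⟨fun a b => Subtype.ext ((Finset.mem_singleton.mp a.2).trans (Finset.mem_singleton.mp b.2).symm)⟩
      refine LinearIndependent.of_subsingleton ⟨F, Finset.mem_singleton_self F⟩ ?_
      exact h


open TensorProduct in
/-- Let R be a Noetherian ring, A an R-algebra of finite type, F an element of A, P a prime ideal of
A/(F) and q its preimage in A, and suppose A is smooth over R at q. Then the hypersurface A/(F) is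
smooth over R at P if and only if either F is zero in the local ring A_q (F vanishes on a
neighbourhood of q) or the image dF(q) of the differential of F in κ(q) ⊗_A Ω_{A/R} is nonzero. -/
theorem result
    (R A : Type u) [CommRing R] [CommRing A] [IsNoetherianRing R] [Algebra R A] [Algebra.FiniteType R A]
    (F : A) (P : Ideal (A ⧸ Ideal.span ({F} : Set A))) [P.IsPrime]
    (hX : Algebra.IsSmoothAt R (P.comap (Ideal.Quotient.mk (Ideal.span ({F} : Set A))))) :
    letI q : Ideal A := P.comap (Ideal.Quotient.mk (Ideal.span ({F} : Set A)))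
    Algebra.IsSmoothAt R P ↔ algebraMap A (Localization.AtPrime q) F = 0 ∨
      (1 : q.ResidueField) ⊗ₜ[A] KaehlerDifferential.D R A F ≠ 0 := by
  haveI := hX
  exact aux F P _ rfl

end Groth.Agent.S5999
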