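import Groth.Statements.S6001
import Groth.Agent.CAlgH.ReducedFormalFibres
import Groth.Agent.HenselLib.EtaleReduced
import Groth.Agent.S2640
import Groth.Agent.S2643
import Groth.Agent.CommAlg6.CompletionMap
import Groth.Agent.CommAlg6.CompletionEquidim
-- import your own Groth.Agent.* helpers here

set_option autoImplicit false
universe u
open SGA1

namespace Groth.Agent.S6001

open TensorProduct IsLocalRing

/-- A complete Noetherian local ring has geometrically reduced formal fibres. -/
theorem hasGeomReducedFormalFibres_complete (R : Type u) [CommRing R] [IsLocalRing R] [IsNoetherianRing R]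
    [IsAdicComplete (maximalIdeal R) R] : EGA4.HasGeomReducedFormalFibres R := by
  refine _root_.Groth.Agent.CAlgH.ReducedFibres.hasGeomReducedFormalFibres_of_tensor R fun D _ _ _ _ => ?_
  let e0 : R ≃ₐ[R] EGA4.Cpl R :=
    AlgEquiv.ofBijective (Algebra.ofId R _) (AdicCompletion.of_bijective (maximalIdeal R) R)
  let e : EGA4.Cpl R ⊗[R] D ≃ₐ[R] D :=
    (Algebra.TensorProduct.congr e0.symm AlgEquiv.refl).trans (Algebra.TensorProduct.lid R D)
  exact isReduced_of_injective e.toRingEquiv.toRingHom e.injective

/-- Let A be a Noetherian local ring which is analytically reduced (its completion has no nonzero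
nilpotents), and let B be the local ring at a prime q, lying over the maximal ideal of A, of an
A-algebra C of finite type that is etale over A at q (an etale local homomorphism A ⟶ B). Then B is
analytically reduced, and in particular reduced. -/
theorem result (A C : Type u) [CommRing A] [IsLocalRing A]
    [IsNoetherianRing A] [CommRing C] [Algebra A C] [Algebra.FiniteType A C] (q : Ideal C) [q.IsPrime]
    (hq : Ideal.comap (algebraMap A C) q = IsLocalRing.maximalIdeal A) (hC : Algebra.IsEtaleAt A q)
    (hA : IsReduced (AdicCompletion (IsLocalRing.maximalIdeal A) A)) :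
    IsReduced (AdicCompletion (IsLocalRing.maximalIdeal (Localization.AtPrime q)) (Localization.AtPrime q)) ∧
      IsReduced (Localization.AtPrime q) := by
  haveI := hC
  haveI : Algebra.FinitePresentation A C := Algebra.FinitePresentation.of_finiteType.1 inferInstance
  obtain ⟨f, hf, _⟩ := Algebra.exists_etale_of_isEtaleAt (R := A) q
  let C' := Localization.Away f
  have hd : Disjoint (Submonoid.powers f : Set C) (q : Set C) := by
    rw [Set.disjoint_left]
    rintro _ ⟨k, rfl⟩ h
    exact hf (‹q.IsPrime›.mem_of_pow_mem k h)
  let q' : Ideal C' := q.map (algebraMap C C')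
  haveI : q'.IsPrime := IsLocalization.isPrime_of_isPrime_disjoint _ C' q inferInstance hd
  have hq' : q'.comap (algebraMap C C') = q := IsLocalization.comap_map_of_isPrime_disjoint _ C' inferInstance hd
  haveI : IsNoetherianRing C := Algebra.FiniteType.isNoetherianRing A C
  let Ah := EGA4.Cpl A
  haveI : IsNoetherianRing Ah := _root_.Groth.Agent.Matlis6.isNoetherianRing_adicCompletion _
  haveI : Module.Flat A Ah := AdicCompletion.flat_of_isNoetherian _
  haveI : IsLocalHom (algebraMap A Ah) := _root_.Groth.Agent.CommAlg6.isLocalHom_completion A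
  haveI : Module.FaithfullyFlat A Ah := Module.FaithfullyFlat.of_flat_of_isLocalHom
  haveI : IsReduced Ah := hA
  let E := Ah ⊗[A] C'
  haveI : IsReduced E := _root_.Groth.Agent.HenselLib.isReduced_of_etale Ah E
  letI : Algebra C' E := Algebra.TensorProduct.rightAlgebra
  haveI : Module.FaithfullyFlat C' E :=
    Module.FaithfullyFlat.of_linearEquiv C' (C' ⊗[A] Ah) (Algebra.TensorProduct.commRight A C' Ah).toLinearEquiv.symm
  obtain ⟨⟨n, hn⟩, hnq⟩ := PrimeSpectrum.comap_surjective_of_faithfullyFlat (A := C') (B := E) ⟨q', inferInstance⟩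
  haveI := hn
  let φ : C →+* E := (algebraMap C' E).comp (algebraMap C C')
  have hφ : n.comap φ = q := by
    rw [← Ideal.comap_comap, show n.comap (algebraMap C' E) = q' from congrArg PrimeSpectrum.asIdeal hnq, hq']
  have hflat : φ.Flat := RingHom.Flat.comp
    (RingHom.flat_algebraMap_iff.2 (IsLocalization.flat C' (Submonoid.powers f)))
    (RingHom.flat_algebraMap_iff.2 inferInstance)
  let B := Localization.AtPrime q
  let D := Localization.AtPrime n
  haveI : IsReduced D := isReduced_localizationPreserves n.primeCompl D inferInstance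
  haveI : IsNoetherianRing E := Algebra.FiniteType.isNoetherianRing Ah E
  haveI : IsNoetherianRing D := IsLocalization.isNoetherianRing n.primeCompl _ inferInstance
  haveI : IsNoetherianRing B := IsLocalization.isNoetherianRing q.primeCompl _ inferInstance
  haveI : Algebra.EssFiniteType E D := Algebra.EssFiniteType.of_isLocalization D n.primeCompl
  haveI : Algebra.EssFiniteType Ah D := Algebra.EssFiniteType.comp Ah E D
  have hD : EGA4.HasGeomReducedFormalFibres D :=
    _root_.Groth.Agent.S2640.result Ah (hasGeomReducedFormalFibres_complete Ah) D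
  haveI : IsReduced (EGA4.Cpl D) := (_root_.Groth.Agent.S2643.result D hD).1 inferInstance
  let g := Localization.localRingHom q n φ hφ.symm
  letI : Algebra B D := g.toAlgebra
  haveI : IsLocalHom (algebraMap B D) := Localization.isLocalHom_localRingHom _ _ _ _
  haveI : Module.Flat B D := RingHom.flat_algebraMap_iff.1 (RingHom.Flat.localRingHom hflat n q hφ.symm)
  obtain ⟨_, _, _⟩ := _root_.Groth.Agent.CommAlg6.exists_algebra_completion B D
  haveI hB : IsReduced (EGA4.Cpl B) :=
    isReduced_of_injective (algebraMap (EGA4.Cpl B) (EGA4.Cpl D)) (FaithfulSMul.algebraMap_injective _ _)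
  refine ⟨hB, ?_⟩
  haveI : IsLocalHom (algebraMap B (EGA4.Cpl B)) := _root_.Groth.Agent.CommAlg6.isLocalHom_completion B
  haveI : Module.Flat B (EGA4.Cpl B) := AdicCompletion.flat_of_isNoetherian _
  haveI : Module.FaithfullyFlat B (EGA4.Cpl B) := Module.FaithfullyFlat.of_flat_of_isLocalHom
  exact isReduced_of_injective (algebraMap B (EGA4.Cpl B)) (FaithfulSMul.algebraMap_injective _ _)

end Groth.Agent.S6001
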