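import Groth.Statements.S6005
import Groth.Agent.CAlgH3.FpqcTorsorLocal
-- import your own Groth.Agent.* helpers here

set_option autoImplicit false
universe u
open CategoryTheory AlgebraicGeometry
open SGA1

namespace Groth.Agent.S6005

/-- Every principal homogeneous bundle under the multiplicative group over S (a pseudo-torsor which
acquires sections on the members of some fpqc covering family of S) is locally trivial, i.e. is a
torsor for the Zariski topology: S is covered by open subschemes over which it acquires sections.
(The published statement covers every S-group isomorphic to the general linear group of any rank;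
this row is the rank-one case.) -/
theorem result {S : Scheme.{u}} (X : Over S)
    (a : AlgGrp.Action (Red.Gm S) X) (h : NonAbH1.IsTorsorFor Scheme.fpqcPrecoverage a) :
    NonAbH1.IsTorsorFor Scheme.zariskiPrecoverage a := by
  refine CAlgH3.FpqcTorsorLocal.isTorsorFor_zariski h.1 fun x => ?_
  obtain ⟨V, hV, hxV, -⟩ := exists_isAffineOpen_mem_and_subset (X := S) (x := x) (U := ⊤) trivial
  obtain ⟨p, hp⟩ : x ∈ Set.range hV.fromSpec := hV.range_fromSpec.symm ▸ hxV
  obtain ⟨f, hf, hs⟩ := CAlgH3.FpqcTorsorLocal.exists_section_gm hV.fromSpec h p
  haveI : IsOpenImmersion (Spec.map (CommRingCat.ofHom (algebraMap Γ(S, V) (Localization.Away f)))) :=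
    IsOpenImmersion.of_isLocalization f
  obtain ⟨q, hq⟩ : p ∈ Set.range (PrimeSpectrum.comap (algebraMap Γ(S, V) (Localization.Away f))) := by
    rw [PrimeSpectrum.localization_away_comap_range (Localization.Away f) f]
    exact hf
  refine ⟨_, _, inferInstance, ⟨q, ?_⟩, hs⟩
  rw [Scheme.Hom.comp_apply]
  exact (congrArg hV.fromSpec hq).trans hp

end Groth.Agent.S6005
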