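import Groth.Statements.S6006
import Groth.Agent.CAlgH3.FpqcTorsorLocal
-- import your own Groth.Agent.* helpers here

set_option autoImplicit false
universe u
open CategoryTheory AlgebraicGeometry
open SGA1

namespace Groth.Agent.S6006

/-- Every principal homogeneous bundle under the additive group over S (a pseudo-torsor which acquires
sections on the members of some fpqc covering family of S) is locally trivial, i.e. is a torsor for
the Zariski topology: S is covered by open subschemes over which it acquires sections. -/
theorem result {S : Scheme.{u}} (X : Over S)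
    (a : AlgGrp.Action (Red.Ga S) X) (h : NonAbH1.IsTorsorFor Scheme.fpqcPrecoverage a) :
    NonAbH1.IsTorsorFor Scheme.zariskiPrecoverage a := by
  refine CAlgH3.FpqcTorsorLocal.isTorsorFor_zariski h.1 fun x => ?_
  obtain ⟨V, hV, hxV, -⟩ := exists_isAffineOpen_mem_and_subset (X := S) (x := x) (U := ⊤) trivial
  exact ⟨_, hV.fromSpec, inferInstance, hV.range_fromSpec.symm ▸ hxV,
    CAlgH3.FpqcTorsorLocal.hasSection_ga hV.fromSpec h⟩

end Groth.Agent.S6006
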