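import Groth.Statements.S6008
import Groth.Agent.ASFpqc.Basic
import Mathlib.FieldTheory.Finite.Basic
import Mathlib.Algebra.Algebra.ZMod

set_option linter.style.haveILetI false
-- import your own Groth.Agent.* helpers here

set_option autoImplicit false
universe u
open CategoryTheory AlgebraicGeometry MonoidalCategory CartesianMonoidalCategory MonObj GrpObj
open SGA1t

open CategoryTheory.Limits

set_option backward.isDefEq.respectTransparency.types false
set_option backward.isDefEq.respectTransparency false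
set_option maxHeartbeats 1000000
set_option synthInstance.maxHeartbeats 400000

namespace Groth.Agent.S6008

/-- Let p be a prime and S a scheme of characteristic p (p = 0 in the ring of global functions). Let F
be the Frobenius endomorphism of the additive group over S, the S-endomorphism which raises the
coordinate function of every point to the p-th power, and let P be the difference of the identity
and F in the group of endomorphisms (on points x ↦ x − x^p). Let G' be the constant S-group (Z/p)_S: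
an S-group together with an isomorphism of S-schemes e from G' to the disjoint union of copies of S
indexed by Z/p, under which the S-points of indices m and n multiply to the S-point of index m + n;
and let i : G' → G_a be the homomorphism of S-groups which sends the S-point of index 1 to the point
whose coordinate is the unit global function. Then the Artin-Schreier sequence 1 → (Z/p)_S → G_a →
G_a → 1 is exact for the fpqc topology: i and P are homomorphisms with trivial composite, (x, g) ↦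
(x, x + i(g)) identifies G_a ×_S G' with the fibre product of P with itself (so that i is a kernel
of P), and P acquires sections on the members of some fpqc covering family of its target. -/
theorem result (p : ℕ) [Fact p.Prime] {S : Scheme.{u}}
    (hp : (p : Γ(S, ⊤)) = 0) (F : Red.Ga S ⟶ Red.Ga S)
    (hF : ∀ (T : Over S) (x : T ⟶ Red.Ga S), Red.gaFn (x ≫ F) = Red.gaFn x ^ p)
    {G' : Over S} [GrpObj G'] (e : G' ≅ TwC.const S (Multiplicative (ZMod p)))
    (he : TwC.IsConstGrp (Multiplicative (ZMod p)) G' e)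
    (i : G' ⟶ Red.Ga S) [IsMonHom i]
    (hi : Red.gaFn (TwC.pt S (Multiplicative (ZMod p)) (Multiplicative.ofAdd 1) ≫ e.inv ≫ i) = 1) :
    NonAbH1.IsExactSeq Scheme.fpqcPrecoverage i (𝟙 (Red.Ga S) * F⁻¹) := by
  classical
  have hp1 : 1 < p := (Fact.out : p.Prime).one_lt
  let P : Red.Ga S ⟶ Red.Ga S := 𝟙 (Red.Ga S) * F⁻¹
  have hP : ∀ (W : Over S) (x : W ⟶ Red.Ga S), Red.gaFn (x ≫ P) = Red.gaFn x - Red.gaFn x ^ p := fun W x => by
    show Red.gaFn (x ≫ (𝟙 (Red.Ga S) * F⁻¹)) = _
    rw [MonObj.comp_mul, GrpObj.comp_inv, Category.comp_id, Groth.Agent.SGA3cLib.gaFn_mul,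
      Groth.Agent.SGA3cLib.gaFn_inv, hF, sub_eq_add_neg]
  have hchar : ∀ W : Over S, (p : Γ(W.left, ⊤)) = 0 := fun W => by
    rw [← map_natCast (W.hom.appTop).hom p, hp, map_zero]
  have hadd : ∀ (W : Over S) (a b : Γ(W.left, ⊤)), (a + b) ^ p = a ^ p + b ^ p := fun W a b => by
    rcases subsingleton_or_nontrivial Γ(W.left, ⊤) with hW | hW
    · exact Subsingleton.elim _ _
    haveI : CharP Γ(W.left, ⊤) p := (CharP.charP_iff_prime_eq_zero Fact.out).2 (hchar W)
    exact add_pow_char a b p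
  have hPhom : IsMonHom P := by
    constructor
    · refine Groth.Agent.SGA3cLib.gaFn_injective ?_
      rw [hP, show (η[Red.Ga S] : 𝟙_ (Over S) ⟶ Red.Ga S) = 1 from (MonObj.one_eq_one (M := Red.Ga S)).symm ▸ rfl,
        Groth.Agent.SGA3cLib.gaFn_one, zero_pow (by omega), sub_zero]
    · refine Groth.Agent.SGA3cLib.gaFn_injective ?_
      have hμ : (μ[Red.Ga S] : Red.Ga S ⊗ Red.Ga S ⟶ Red.Ga S) = fst _ _ * snd _ _ := MonObj.mul_eq_mul _
      have hcomp : (P ⊗ₘ P) ≫ μ[Red.Ga S] = (fst _ _ ≫ P) * (snd _ _ ≫ P) := by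
        rw [Hom.mul_def, ← tensorHom_fst P P, ← tensorHom_snd P P, ← comp_lift, lift_fst_snd, Category.comp_id]
      rw [hP, hcomp, hμ, Groth.Agent.SGA3cLib.gaFn_mul, Groth.Agent.SGA3cLib.gaFn_mul, hP, hP, hadd]
      ring
  have hpt : ∀ m : ZMod p, Red.gaFn (TwC.pt S (Multiplicative (ZMod p)) (Multiplicative.ofAdd m) ≫ e.inv ≫ i) =
      (m.val : Γ((𝟙_ (Over S)).left, ⊤)) := by
    have h0 : TwC.pt S (Multiplicative (ZMod p)) (Multiplicative.ofAdd 0) ≫ e.inv = 1 := by
      have := he 1 1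
      rw [_root_.one_mul, mul_eq_left] at this
      exact this
    have hk : ∀ k : ℕ, Red.gaFn (TwC.pt S (Multiplicative (ZMod p)) (Multiplicative.ofAdd (k : ZMod p)) ≫ e.inv ≫ i) = k := by
      intro k
      induction k with
      | zero => rw [Nat.cast_zero, ← Category.assoc, h0, MonObj.one_comp i, Groth.Agent.SGA3cLib.gaFn_one, Nat.cast_zero]
      | succ k ih =>
        rw [Nat.cast_succ, ofAdd_add, ← Category.assoc, ← he, MonObj.mul_comp _ _ i, Category.assoc, Category.assoc,
          Groth.Agent.SGA3cLib.gaFn_mul, ih, hi, Nat.cast_succ]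
    intro m
    have := hk m.val
    rwa [ZMod.natCast_zmod_val] at this
  let C : Multiplicative (ZMod p) → (TwC.const S (Multiplicative (ZMod p))).left.Opens := fun m =>
    (Sigma.ι (fun _ : Multiplicative (ZMod p) => S) m).opensRange
  have hfac : ∀ (W : Over S) (q : W ⟶ G') (m : Multiplicative (ZMod p)) (V : W.left.Opens),
      V ≤ (q ≫ e.hom).left ⁻¹ᵁ C m →
      Over.homMk V.ι (by rfl) ≫ q = toUnit (Over.mk (V.ι ≫ W.hom)) ≫ TwC.pt S _ m ≫ e.inv := by
    intro W q m V hV
    rw [← cancel_mono e.hom, Category.assoc, Category.assoc, Category.assoc, e.inv_hom_id, Category.comp_id]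
    refine Over.OverMorphism.ext ?_
    show V.ι ≫ (q ≫ e.hom).left = _ ≫ Sigma.ι (fun _ : Multiplicative (ZMod p) => S) m
    have hrange : Set.range (V.ι ≫ (q ≫ e.hom).left) ⊆ Set.range (Sigma.ι (fun _ : Multiplicative (ZMod p) => S) m) := by
      rintro _ ⟨v, rfl⟩
      exact hV v.2
    rw [← IsOpenImmersion.lift_fac (Sigma.ι (fun _ : Multiplicative (ZMod p) => S) m) (V.ι ≫ (q ≫ e.hom).left) hrange]
    congr 1
    have h1 := congrArg (· ≫ Sigma.desc fun _ : Multiplicative (ZMod p) => 𝟙 S)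
      (IsOpenImmersion.lift_fac (Sigma.ι (fun _ : Multiplicative (ZMod p) => S) m) (V.ι ≫ (q ≫ e.hom).left) hrange)
    simp only [Category.assoc, colimit.ι_desc, Cofan.mk_ι_app, Category.comp_id] at h1
    rw [h1]
    exact congrArg (V.ι ≫ ·) (Over.w (q ≫ e.hom))
  have hval : ∀ (W : Over S) (q : W ⟶ G') (m : ZMod p) (V : W.left.Opens),
      V ≤ (q ≫ e.hom).left ⁻¹ᵁ C (Multiplicative.ofAdd m) →
      Red.gaFn ((Over.homMk V.ι (by rfl) : Over.mk (V.ι ≫ W.hom) ⟶ W) ≫ q ≫ i) = (m.val : Γ((Over.mk (V.ι ≫ W.hom)).left, ⊤)) := by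
    intro W q m V hV
    rw [← Category.assoc, hfac W q _ V hV, Category.assoc, Category.assoc, Groth.Agent.SGA3cLib.gaFn_comp, hpt, map_natCast]
  have hcov : ∀ (W : Over S) (q : W ⟶ G') (z : W.left), ∃ m : ZMod p, z ∈ (q ≫ e.hom).left ⁻¹ᵁ C (Multiplicative.ofAdd m) := by
    intro W q z
    obtain ⟨m, y, hy⟩ := (sigmaOpenCover (fun _ : Multiplicative (ZMod p) => S)).exists_eq ((q ≫ e.hom).left z)
    exact ⟨m.toAdd, y, hy⟩
  have hmono : ∀ (W : Over S) (q q' : W ⟶ G'), q ≫ i = q' ≫ i → q = q' := by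
    intro W q q' hqq
    refine Over.OverMorphism.ext ?_
    have hcov' : ∀ z : W.left, ∃ m : ZMod p, z ∈ (q ≫ e.hom).left ⁻¹ᵁ C (Multiplicative.ofAdd m) ⊓
        (q' ≫ e.hom).left ⁻¹ᵁ C (Multiplicative.ofAdd m) := by
      intro z
      obtain ⟨m, hm⟩ := hcov W q z
      obtain ⟨m', hm'⟩ := hcov W q' z
      let V := (q ≫ e.hom).left ⁻¹ᵁ C (Multiplicative.ofAdd m) ⊓ (q' ≫ e.hom).left ⁻¹ᵁ C (Multiplicative.ofAdd m')
      have h1 := hval W q m V inf_le_left
      rw [hqq, hval W q' m' V inf_le_right] at h1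
      haveI : Nonempty V.toScheme := ⟨⟨z, hm, hm'⟩⟩
      haveI : CharP Γ((Over.mk (V.ι ≫ W.hom)).left, ⊤) p := by
        haveI : Nontrivial Γ((Over.mk (V.ι ≫ W.hom)).left, ⊤) :=
          (V.toScheme.presheaf.germ ⊤ (⟨z, hm, hm'⟩ : V.toScheme) trivial).hom.domain_nontrivial
        exact (CharP.charP_iff_prime_eq_zero Fact.out).2 (hchar _)
      rw [CharP.natCast_eq_natCast _ p, ← ZMod.natCast_eq_natCast_iff, ZMod.natCast_zmod_val, ZMod.natCast_zmod_val] at h1
      subst h1
      exact ⟨_, hm, hm'⟩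
    choose m hm using hcov'
    refine (W.left.openCoverOfIsOpenCover (fun z => (q ≫ e.hom).left ⁻¹ᵁ C (Multiplicative.ofAdd (m z)) ⊓
      (q' ≫ e.hom).left ⁻¹ᵁ C (Multiplicative.ofAdd (m z))) (TopologicalSpace.IsOpenCover.mk (eq_top_iff.2 fun z _ =>
        TopologicalSpace.Opens.mem_iSup.2 ⟨z, hm z⟩))).hom_ext _ _ fun z => ?_
    exact congrArg CommaMorphism.left ((hfac W q _ _ inf_le_left).trans (hfac W q' _ _ inf_le_right).symm)
  have hex : ∀ (W : Over S) (w : W ⟶ Red.Ga S), Red.gaFn w ^ p = Red.gaFn w → ∃ q : W ⟶ G', q ≫ i = w := by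
    intro W w hw
    set f := Red.gaFn w with hf
    let U : ZMod p → W.left.Opens := fun m => W.left.basicOpen (1 - (f - (m.val : Γ(W.left, ⊤))) ^ (p - 1))
    have hidem : ∀ m : ZMod p, (f - (m.val : Γ(W.left, ⊤))) * (1 - (f - (m.val : Γ(W.left, ⊤))) ^ (p - 1)) = 0 := by
      intro m
      have hpow : ∀ k : ℕ, (k : Γ(W.left, ⊤)) ^ p = k := fun k => by
        induction k with
        | zero => rw [Nat.cast_zero, zero_pow (by omega)]
        | succ k ih => rw [Nat.cast_succ, hadd, ih, one_pow]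
      rw [mul_sub, _root_.mul_one, ← pow_succ', Nat.sub_add_cancel (by omega : 1 ≤ p)]
      have := hadd W (f - (m.val : Γ(W.left, ⊤))) (m.val : Γ(W.left, ⊤))
      rw [sub_add_cancel, hw, hpow] at this
      linear_combination this
    have hfU : ∀ (m : ZMod p) (V : W.left.Opens), V ≤ U m → V.ι.appTop f = (m.val : Γ(V.toScheme, ⊤)) := by
      intro m V hV
      have hu : IsUnit (V.ι.appTop (1 - (f - (m.val : Γ(W.left, ⊤))) ^ (p - 1))) := by
        refine V.toScheme.toRingedSpace.isUnit_of_isUnit_germ ⊤ _ fun v hv => ?_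
        refine (V.toScheme.mem_basicOpen _ v hv).1 ?_
        rw [← Scheme.preimage_basicOpen_top]
        exact hV v.2
      have h0 := congrArg V.ι.appTop (hidem m)
      rw [map_mul, map_zero] at h0
      have h1 := hu.mul_left_eq_zero.1 h0
      rwa [map_sub, map_natCast, sub_eq_zero] at h1
    have hUcov : ∀ z : W.left, ∃ m, z ∈ U m := by
      intro z
      by_contra! hno
      let ev : Γ(W.left, ⊤) →+* W.left.residueField z := (W.left.evaluation ⊤ z trivial).hom
      haveI : CharP (W.left.residueField z) p :=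
        (CharP.charP_iff_prime_eq_zero Fact.out).2 (by rw [← map_natCast ev, hchar, map_zero])
      have hz : ∀ m : ZMod p, ev f ≠ (m.val : W.left.residueField z) := fun m hm => by
        have h1 : ev (1 - (f - (m.val : Γ(W.left, ⊤))) ^ (p - 1)) = 0 :=
          (W.left.evaluation_eq_zero_iff_notMem_basicOpen (U := ⊤) z trivial _).2 (hno m)
        rw [map_sub, map_one, map_pow, map_sub, map_natCast, hm, sub_self, zero_pow (by omega), sub_zero] at h1
        exact one_ne_zero h1
      have hroot : ev f ^ p = ev f := by rw [← map_pow, hw]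
      letI : Algebra (ZMod p) (W.left.residueField z) := ZMod.algebra _ p
      have hne : (Polynomial.X ^ p - Polynomial.X : Polynomial (W.left.residueField z)) ≠ 0 :=
        FiniteField.X_pow_card_sub_X_ne_zero _ hp1
      let T := (Finset.univ : Finset (ZMod p)).image fun m => (m.val : W.left.residueField z)
      have hinj : Function.Injective fun m : ZMod p => (m.val : W.left.residueField z) := fun a b hab => by
        simp only at hab
        rw [CharP.natCast_eq_natCast _ p, ← ZMod.natCast_eq_natCast_iff, ZMod.natCast_zmod_val, ZMod.natCast_zmod_val] at hab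
        exact hab
      have hle : T ⊆ (Polynomial.X ^ p - Polynomial.X : Polynomial (W.left.residueField z)).roots.toFinset := fun a ha => by
        obtain ⟨m, -, rfl⟩ := Finset.mem_image.1 ha
        rw [Multiset.mem_toFinset, Polynomial.mem_roots hne]
        simp only [Polynomial.IsRoot.def, Polynomial.eval_sub, Polynomial.eval_pow, Polynomial.eval_X, sub_eq_zero]
        rw [← frobenius_def, map_natCast]
      have hcard : (Polynomial.X ^ p - Polynomial.X : Polynomial (W.left.residueField z)).roots.toFinset.card ≤ T.card := by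
        rw [Finset.card_image_of_injective _ hinj, Finset.card_univ, ZMod.card]
        exact (Multiset.toFinset_card_le _).trans ((Polynomial.card_roots' _).trans
          (FiniteField.X_pow_card_sub_X_natDegree_eq _ hp1).le)
      have hmem : ev f ∈ T := by
        rw [Finset.eq_of_subset_of_card_le hle hcard, Multiset.mem_toFinset, Polynomial.mem_roots hne]
        simp [hroot]
      obtain ⟨m, -, hm⟩ := Finset.mem_image.1 hmem
      exact hz m hm.symm
    choose m hm using hUcov
    let 𝒰 := W.left.openCoverOfIsOpenCover (fun z => U (m z)) (TopologicalSpace.IsOpenCover.mk (eq_top_iff.2 fun z _ =>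
        TopologicalSpace.Opens.mem_iSup.2 ⟨z, hm z⟩))
    have hcompat : ∀ (x y : W.left) {T : Scheme.{u}} (a : T ⟶ (U (m x)).toScheme) (b : T ⟶ (U (m y)).toScheme),
        a ≫ (U (m x)).ι = b ≫ (U (m y)).ι → Nonempty T → m x = m y := by
      intro x y T a b hab hT
      have h1 := hfU (m x) (U (m x)) le_rfl
      have h2 := hfU (m y) (U (m y)) le_rfl
      have h3 : (a ≫ (U (m x)).ι).appTop f = (b ≫ (U (m y)).ι).appTop f := by rw [hab]
      rw [Scheme.Hom.comp_appTop, Scheme.Hom.comp_appTop, ConcreteCategory.comp_apply, ConcreteCategory.comp_apply,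
        h1, h2, map_natCast, map_natCast] at h3
      haveI : Nontrivial Γ(T, ⊤) := (T.presheaf.germ ⊤ hT.some trivial).hom.domain_nontrivial
      haveI : CharP Γ(T, ⊤) p := (CharP.charP_iff_prime_eq_zero Fact.out).2
        (by rw [← map_natCast (a ≫ (U (m x)).ι).appTop.hom p, hchar, map_zero])
      rw [CharP.natCast_eq_natCast _ p, ← ZMod.natCast_eq_natCast_iff, ZMod.natCast_zmod_val, ZMod.natCast_zmod_val] at h3
      exact h3
    let g : ∀ z : W.left, (U (m z)).toScheme ⟶ G'.left := fun z =>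
      ((U (m z)).ι ≫ W.hom) ≫ (Sigma.ι (fun _ : Multiplicative (ZMod p) => S) (Multiplicative.ofAdd (m z))) ≫ e.inv.left
    let q₀ : W.left ⟶ G'.left := 𝒰.glueMorphisms g (fun x y => by
      rcases isEmpty_or_nonempty ↥(pullback (𝒰.f x) (𝒰.f y)) with hE | hE
      · exact (isInitialOfIsEmpty).hom_ext _ _
      have hxy := hcompat x y (pullback.fst (𝒰.f x) (𝒰.f y)) (pullback.snd (𝒰.f x) (𝒰.f y)) pullback.condition hE
      simp only [g, hxy, ← Category.assoc]
      congr 3
      exact pullback.condition)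
    have hq₀ : ∀ z, (U (m z)).ι ≫ q₀ = g z := fun z => 𝒰.ι_glueMorphisms _ _ z
    have hw' : q₀ ≫ G'.hom = W.hom := 𝒰.hom_ext _ _ fun z => by
      show (U (m z)).ι ≫ q₀ ≫ G'.hom = (U (m z)).ι ≫ W.hom
      rw [reassoc_of% hq₀]
      simp only [g, Category.assoc, Over.w e.inv]
      rw [show Sigma.ι (fun _ : Multiplicative (ZMod p) => S) (Multiplicative.ofAdd (m z)) ≫
        (TwC.const S (Multiplicative (ZMod p))).hom = 𝟙 S from Sigma.ι_desc _ _]
      simp
    refine ⟨Over.homMk q₀ hw', Over.OverMorphism.ext (𝒰.hom_ext _ _ fun z => ?_)⟩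
    let k : Over.mk ((U (m z)).ι ≫ W.hom) ⟶ W := Over.homMk (U (m z)).ι rfl
    suffices k ≫ Over.homMk q₀ hw' ≫ i = k ≫ w from congrArg CommaMorphism.left this
    refine Groth.Agent.SGA3cLib.gaFn_injective ?_
    have hk : k ≫ Over.homMk q₀ hw' = toUnit _ ≫ TwC.pt S _ (Multiplicative.ofAdd (m z)) ≫ e.inv :=
      Over.OverMorphism.ext (hq₀ z)
    rw [← Category.assoc, hk, Category.assoc, Category.assoc, Groth.Agent.SGA3cLib.gaFn_comp, hpt, map_natCast,
      Groth.Agent.SGA3cLib.gaFn_comp]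
    exact (hfU (m z) _ le_rfl).symm
  have hone : ∀ W : Over S, (1 : W ⟶ Red.Ga S) ≫ P = 1 := fun W => MonObj.one_comp P
  haveI : IsMonHom P := hPhom
  have hiP : i ≫ P = 1 := by
    refine Groth.Agent.SGA3cLib.gaFn_injective ?_
    rw [hP, Groth.Agent.SGA3cLib.gaFn_one, sub_eq_zero]
    have hz : ∀ z : G'.left, ∃ m : ZMod p, z ∈ (𝟙 G' ≫ e.hom).left ⁻¹ᵁ C (Multiplicative.ofAdd m) := hcov G' (𝟙 G')
    choose m hm using hz
    refine Groth.Agent.SGA3cLib.exists_gaFn (X := G') (Red.gaFn i ^ p) |>.elim fun x hx => ?_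
    rw [← hx]
    refine congrArg Red.gaFn (Over.OverMorphism.ext ((G'.left.openCoverOfIsOpenCover
      (fun z => (𝟙 G' ≫ e.hom).left ⁻¹ᵁ C (Multiplicative.ofAdd (m z))) (TopologicalSpace.IsOpenCover.mk (eq_top_iff.2 fun z _ =>
        TopologicalSpace.Opens.mem_iSup.2 ⟨z, hm z⟩))).hom_ext _ _ fun z => ?_)).symm
    let k : Over.mk (((𝟙 G' ≫ e.hom).left ⁻¹ᵁ C (Multiplicative.ofAdd (m z))).ι ≫ G'.hom) ⟶ G' :=
      Over.homMk ((𝟙 G' ≫ e.hom).left ⁻¹ᵁ C (Multiplicative.ofAdd (m z))).ι rfl
    suffices k ≫ x = k ≫ i from congrArg CommaMorphism.left this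
    refine Groth.Agent.SGA3cLib.gaFn_injective ?_
    have hki : Red.gaFn (k ≫ i) = ((m z).val : Γ(((𝟙 G' ≫ e.hom).left ⁻¹ᵁ C (Multiplicative.ofAdd (m z))).toScheme, ⊤)) := by
      have h := hval G' (𝟙 G') (m z) _ le_rfl
      rwa [Category.id_comp] at h
    rw [Groth.Agent.SGA3cLib.gaFn_comp, hx, map_pow, ← Groth.Agent.SGA3cLib.gaFn_comp, hki]
    have hpow : ∀ (W : Over S) (n : ℕ), (n : Γ(W.left, ⊤)) ^ p = n := fun W n => by
      induction n with
      | zero => rw [Nat.cast_zero, zero_pow (by omega)]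
      | succ n ih => rw [Nat.cast_succ, hadd, ih, one_pow]
    exact hpow _ _
  obtain ⟨hfl, hsurj, hfp⟩ := Groth.Agent.ASFpqc.asMap_props (S := S) p hp1
  have hPas : P = Groth.Agent.ASFpqc.asMap p S := Groth.Agent.SGA3cLib.gaFn_injective (by
    have h1 := hP _ (𝟙 (Red.Ga S))
    have h2 := Groth.Agent.ASFpqc.gaFn_asMap p (𝟙 (Red.Ga S))
    rw [Category.id_comp] at h1 h2
    rw [h1, h2])
  refine ⟨inferInstance, hPhom, hiP, ?_, ?_⟩
  · have hr : (Red.Ga S ◁ i) ≫ μ[Red.Ga S] = fst _ _ * (snd _ _ ≫ i) := by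
      rw [Hom.mul_def]
      congr 1
    have hl : ∀ {W : Over S} (a : W ⟶ Red.Ga S) (b : W ⟶ G'),
        lift a b ≫ ((Red.Ga S ◁ i) ≫ μ[Red.Ga S]) = a * (b ≫ i) := fun a b => by
      rw [hr, MonObj.comp_mul, lift_fst, ← Category.assoc, lift_snd]
    have hcomm : fst (Red.Ga S) G' ≫ P = ((Red.Ga S ◁ i) ≫ μ[Red.Ga S]) ≫ P := by
      rw [hr, MonObj.mul_comp _ _ P, Category.assoc, hiP, MonObj.comp_one, _root_.mul_one]
    have hq : ∀ s : Limits.PullbackCone P P, ∃ q : s.pt ⟶ G', q ≫ i = s.fst⁻¹ * s.snd := fun s => by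
      refine hex _ _ ?_
      have h := congrArg Red.gaFn s.condition
      rw [hP, hP] at h
      rw [Groth.Agent.SGA3cLib.gaFn_mul, Groth.Agent.SGA3cLib.gaFn_inv]
      have hn := hadd s.pt (-Red.gaFn s.fst + Red.gaFn s.snd) (Red.gaFn s.fst)
      rw [neg_add_cancel_comm] at hn
      linear_combination h - hn
    choose q hq using hq
    refine ⟨⟨hcomm⟩, ⟨Limits.PullbackCone.IsLimit.mk hcomm (fun s => lift s.fst (q s))
      (fun s => lift_fst _ _) (fun s => ?_) (fun s m h1 h2 => ?_)⟩⟩
    · rw [hl, hq, mul_inv_cancel_left]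
    · apply CartesianMonoidalCategory.hom_ext
      · rw [lift_fst, h1]
      · rw [lift_snd]
        refine hmono _ _ _ ?_
        have hm : lift (m ≫ fst _ _) (m ≫ snd _ _) = m := by rw [← comp_lift, lift_fst_snd, Category.comp_id]
        rw [← hm, hl, h1] at h2
        rw [hq, ← h2, inv_mul_cancel_left]
  · haveI := hfl
    haveI := hsurj
    haveI := hfp
    rw [show (𝟙 (Red.Ga S) * F⁻¹) = Groth.Agent.ASFpqc.asMap p S from hPas]
    refine ⟨Presieve.singleton (Groth.Agent.ASFpqc.asMap p S).left,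
      Scheme.fppfPrecoverage_le_fpqcPrecoverage _ (Scheme.Hom.singleton_mem_fppfPrecoverage _), ?_⟩
    rintro S' g ⟨⟩
    exact ⟨𝟙 _, Category.id_comp _⟩

end Groth.Agent.S6008
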