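import Groth.Statements.S6009
import Groth.Agent.TorsSeq.Basic

set_option linter.style.haveILetI false
-- import your own Groth.Agent.* helpers here

set_option autoImplicit false
universe u
open CategoryTheory AlgebraicGeometry MonoidalCategory CartesianMonoidalCategory MonObj GrpObj
open SGA1

namespace Groth.Agent.S6009

/-- Exactness of the cohomology sequence at H^1(S, G'): let u : G' → G and v : G → G'' be homomorphisms
of affine commutative S-groups forming a sequence 1 → G' → G → G'' → 1 which is exact for the fpqc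
topology, and let Q be a principal homogeneous bundle under G' (fpqc torsor). Then the bundle
deduced from Q by extension of the structure group along u is trivial, in the sense that Q admits a
u-equivariant S-morphism to G acting on itself by left translation, if and only if Q is the boundary
of some section f of G'' over S: there is a morphism i : Q → G making Q the inverse image of f under
v, with G' acting through right translation by inverses. -/
theorem result {S : Scheme.{u}}
    {G G' G'' : Over S} [GrpObj G] [GrpObj G'] [GrpObj G'']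
    [IsCommMonObj G] [IsCommMonObj G'] [IsCommMonObj G'']
    [IsAffineHom G.hom] [IsAffineHom G'.hom] [IsAffineHom G''.hom]
    (u : G' ⟶ G) (v : G ⟶ G'') (hex : NonAbH1.IsExactSeq Scheme.fpqcPrecoverage u v)
    (Q : NonAbH1.TorsorSch G' Scheme.fpqcPrecoverage) :
    NonAbH1.IsPushforwardAlongSch u Q.act (NonAbH1.trivialAction G) ↔
      ∃ (f : 𝟙_ (Over S) ⟶ G'') (i : Q.X ⟶ G), NonAbH1.IsPullbackTorsor u v f i Q.act := by
  obtain ⟨hu, hv, huv, hpb, hloc⟩ := id hex
  haveI := hu
  haveI := hv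
  constructor
  · rintro ⟨φ, hφ⟩
    have hφ' : ∀ ⦃T : Over S⦄ (g : T ⟶ G') (p : T ⟶ Q.X), NonAbLib.actPt Q.act g p ≫ φ = (g ≫ u) * (p ≫ φ) := by
      intro T g p
      rw [NonAbLib.actPt, Category.assoc, hφ, comp_lift_assoc, ← Category.assoc, lift_fst, ← Category.assoc,
        lift_snd, Hom.mul_def]
      rfl
    have hi : ∀ ⦃T : Over S⦄ (g : T ⟶ G') (p : T ⟶ Q.X),
        NonAbLib.actPt Q.act g p ≫ φ⁻¹ = (p ≫ φ⁻¹) * (g ≫ u)⁻¹ := by
      intro T g p
      rw [comp_inv, comp_inv, hφ', _root_.mul_inv_rev]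
    have hgu : ∀ ⦃T : Over S⦄ (g : T ⟶ G'), g ≫ u ≫ v = 1 := fun T g => by rw [huv, MonObj.comp_one]
    obtain ⟨f, hf⟩ := TorsSeq.exists_desc Q.isTorsor (φ⁻¹ ≫ v) fun T g p => by
      rw [← Category.assoc, hi, MonObj.mul_comp _ _ v, GrpObj.inv_comp (g ≫ u) v, Category.assoc g u v, hgu, _root_.inv_one,
        _root_.mul_one, Category.assoc]
    refine ⟨f, φ⁻¹, hu, hv, ⟨⟨hf.symm⟩, ⟨?_⟩⟩, fun T g p => ?_⟩
    swap
    · have := hi g p
      rwa [NonAbLib.actPt, Category.assoc] at this
    have huniq : ∀ ⦃T : Over S⦄ (p p' : T ⟶ Q.X), p ≫ φ⁻¹ = p' ≫ φ⁻¹ → p = p' := by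
      intro T p p' h
      obtain ⟨g, hg, -⟩ := NonAbLib.existsUnique_actPt Q.isTorsor.1 p p'
      have h1 := hi g p
      rw [hg, ← h, eq_comm, mul_eq_left, inv_eq_one] at h1
      have : g = 1 := TorsSeq.mono_u hex g 1 (by rw [h1, MonObj.one_comp u])
      rw [← hg, this, NonAbLib.actPt_one]
    have hex' : ∀ s : Limits.PullbackCone v f, ∃ q : s.pt ⟶ Q.X, q ≫ φ⁻¹ = s.fst := by
      intro s
      have hmem := TorsSeq.locSieve_mem Q.isTorsor.2 s.pt.hom
      obtain ⟨q, hq⟩ := TorsSeq.exists_glue hmem (fun T q z => z ≫ φ⁻¹ = q ≫ s.fst)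
        (fun T q hT => by
          obtain ⟨p, -⟩ := TorsSeq.exists_point q hT
          have h1 : (p ≫ φ⁻¹) ≫ v = (q ≫ s.fst) ≫ v := by
            rw [Category.assoc, Category.assoc, ← hf, s.condition, ← Category.assoc, ← Category.assoc,
              toUnit_unique (p ≫ toUnit Q.X) (q ≫ s.snd)]
          obtain ⟨g, hg⟩ := TorsSeq.exists_eq_mul hex _ _ h1
          exact ⟨NonAbLib.actPt Q.act g⁻¹ p, by rw [hi, GrpObj.inv_comp g u, _root_.inv_inv, hg]⟩)
        (fun T q z z' h h' => huniq z z' (h.trans h'.symm))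
        (fun T T' k q z h => by rw [Category.assoc, h, Category.assoc])
      refine ⟨q, TorsSeq.hom_ext hmem fun T k hk => ?_⟩
      rw [← Category.assoc]
      exact hq k hk
    choose q hq using hex'
    exact Limits.PullbackCone.IsLimit.mk hf.symm q hq (fun s => toUnit_unique _ _)
      (fun s m h1 _ => huniq _ _ (h1.trans (hq s).symm))
  · rintro ⟨f, i, -, -, -, hi⟩
    refine ⟨i⁻¹, ?_⟩
    show Q.act.act ≫ i⁻¹ = lift (fst G' Q.X ≫ u) (snd G' Q.X ≫ i⁻¹) ≫ μ[G]
    have h := hi _ (fst G' Q.X) (snd G' Q.X)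
    rw [lift_fst_snd, Category.id_comp] at h
    rw [← Hom.mul_def, comp_inv, comp_inv, h, _root_.mul_inv_rev, _root_.inv_inv]

end Groth.Agent.S6009
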