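import Groth.Statements.S6010
import Groth.Agent.TorsSeq.Basic

set_option linter.style.haveILetI false
-- import your own Groth.Agent.* helpers here

set_option autoImplicit false
universe u
open CategoryTheory AlgebraicGeometry MonoidalCategory CartesianMonoidalCategory MonObj GrpObj
open SGA1

namespace Groth.Agent.S6010

/-- Exactness of the cohomology sequence at H^1(S, G): let u : G' → G and v : G → G'' be homomorphisms
of affine commutative S-groups forming a sequence 1 → G' → G → G'' → 1 which is exact for the fpqc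
topology, and let P be a principal homogeneous bundle under G (fpqc torsor). Then the bundle deduced
from P by extension of the structure group along v is trivial, in the sense that P admits a
v-equivariant S-morphism to G'' acting on itself by left translation, if and only if P comes from
G': there is a principal homogeneous bundle Q under G' with a u-equivariant S-morphism Q → P. -/
theorem result {S : Scheme.{u}}
    {G G' G'' : Over S} [GrpObj G] [GrpObj G'] [GrpObj G'']
    [IsCommMonObj G] [IsCommMonObj G'] [IsCommMonObj G'']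
    [IsAffineHom G.hom] [IsAffineHom G'.hom] [IsAffineHom G''.hom]
    (u : G' ⟶ G) (v : G ⟶ G'') (hex : NonAbH1.IsExactSeq Scheme.fpqcPrecoverage u v)
    (P : NonAbH1.TorsorSch G Scheme.fpqcPrecoverage) :
    NonAbH1.IsPushforwardAlongSch v P.act (NonAbH1.trivialAction G'') ↔
      ∃ Q : NonAbH1.TorsorSch G' Scheme.fpqcPrecoverage, NonAbH1.IsPushforwardAlongSch u Q.act P.act := by
  obtain ⟨hu, hv, huv, hpb, hloc⟩ := id hex
  haveI := hu
  haveI := hv
  constructor
  · rintro ⟨φ, hφ⟩
    have hφ' : ∀ ⦃T : Over S⦄ (g : T ⟶ G) (x : T ⟶ P.X), NonAbLib.actPt P.act g x ≫ φ = (g ≫ v) * (x ≫ φ) := by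
      intro T g x
      rw [NonAbLib.actPt, Category.assoc, hφ, comp_lift_assoc, ← Category.assoc, lift_fst, ← Category.assoc,
        lift_snd, Hom.mul_def]
      rfl
    let X : Over S := Limits.pullback φ η[G'']
    let j : X ⟶ P.X := Limits.pullback.fst φ η[G'']
    haveI : Mono (η[G'']) := ⟨fun a b _ => toUnit_unique a b⟩
    haveI : Mono j := inferInstanceAs (Mono (Limits.pullback.fst φ η[G'']))
    have hj : ∀ ⦃T : Over S⦄ (q : T ⟶ X), (q ≫ j) ≫ φ = 1 := fun T q => by
      rw [Category.assoc, Limits.pullback.condition, ← Category.assoc, Hom.one_def,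
        toUnit_unique (q ≫ Limits.pullback.snd φ η[G'']) (toUnit T)]
    have hguv : ∀ ⦃T : Over S⦄ (g : T ⟶ G'), (g ≫ u) ≫ v = 1 := fun T g => by
      rw [Category.assoc, huv, MonObj.comp_one]
    have hlift : NonAbLib.actPt P.act (fst G' X ≫ u) (snd G' X ≫ j) ≫ φ = toUnit _ ≫ η[G''] := by
      rw [hφ', hj, hguv, _root_.mul_one, Hom.one_def]
    let act : G' ⊗ X ⟶ X := Limits.pullback.lift _ _ hlift
    have hact : ∀ ⦃T : Over S⦄ (g : T ⟶ G') (q : T ⟶ X),
        (lift g q ≫ act) ≫ j = NonAbLib.actPt P.act (g ≫ u) (q ≫ j) := by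
      intro T g q
      rw [Category.assoc, show act ≫ j = _ from Limits.pullback.lift_fst _ _ _, NonAbLib.comp_actPt, ← Category.assoc,
        lift_fst, ← Category.assoc, lift_snd]
    have hactj : act ≫ j = NonAbLib.actPt P.act (fst G' X ≫ u) (snd G' X ≫ j) := Limits.pullback.lift_fst _ _ _
    let a : AlgGrp.Action G' X :=
      { act := act
        one_act := by
          rw [← cancel_mono j, Category.assoc, hactj, NonAbLib.comp_actPt, ← Category.assoc, whiskerRight_fst,
            Category.assoc (fst (𝟙_ (Over S)) X), IsMonHom.one_hom u,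
            ← Category.assoc (η[G'] ▷ X), whiskerRight_snd, toUnit_unique (fst (𝟙_ (Over S)) X) (toUnit _), ← Hom.one_def,
            NonAbLib.actPt_one, CartesianMonoidalCategory.leftUnitor_hom]
        mul_act := by
          have h1 : μ[G'] ▷ X ≫ fst G' X = (fst (G' ⊗ G') X ≫ fst G' G') * (fst (G' ⊗ G') X ≫ snd G' G') := by
            rw [whiskerRight_fst, MonObj.mul_eq_mul, MonObj.comp_mul]
          have h2 : ((α_ G' G' X).hom ≫ G' ◁ act) ≫ fst G' X = fst (G' ⊗ G') X ≫ fst G' G' := by simp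
          have h3 : (((α_ G' G' X).hom ≫ G' ◁ act) ≫ snd G' X) =
              lift (fst (G' ⊗ G') X ≫ snd G' G') (snd (G' ⊗ G') X) ≫ act := by
            rw [Category.assoc, whiskerLeft_snd, ← Category.assoc]
            congr 1
            apply CartesianMonoidalCategory.hom_ext <;> simp
          rw [← cancel_mono j, Category.assoc, hactj, NonAbLib.comp_actPt, ← Category.assoc, h1, MonObj.mul_comp _ _ u,
            ← Category.assoc (α_ G' G' X).hom, Category.assoc ((α_ G' G' X).hom ≫ G' ◁ act) act j, hactj,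
            NonAbLib.comp_actPt, NonAbLib.actPt_mul]
          simp only [← Category.assoc]
          rw [h2, h3, hact, whiskerRight_snd] }
    have htrans : ∀ ⦃T : Over S⦄ (q q' : T ⟶ X), ∃ g : T ⟶ G', lift g q ≫ act = q' := by
      intro T q q'
      obtain ⟨g, hg, -⟩ := NonAbLib.existsUnique_actPt P.isTorsor.1 (q ≫ j) (q' ≫ j)
      have hgv : (1 : T ⟶ G) ≫ v = g ≫ v := by
        have h := congrArg (· ≫ φ) hg
        simp only [hφ', hj, _root_.mul_one] at h
        rw [MonObj.one_comp v, h]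
      obtain ⟨h, hh⟩ := TorsSeq.exists_eq_mul hex 1 g hgv
      rw [_root_.one_mul] at hh
      exact ⟨h, by rw [← cancel_mono j, hact, hh, hg]⟩
    have hfree : ∀ ⦃T : Over S⦄ (g g' : T ⟶ G') (q : T ⟶ X), lift g q ≫ act = lift g' q ≫ act → g = g' := by
      intro T g g' q h
      have h' := congrArg (· ≫ j) h
      simp only [hact] at h'
      exact TorsSeq.mono_u hex g g' ((NonAbLib.existsUnique_actPt P.isTorsor.1 (q ≫ j) _).unique rfl h'.symm)
    have hpt : NonAbH1.IsPseudoTorsorSch a := by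
      obtain ⟨d, hd⟩ := htrans (snd X X) (fst X X)
      have hc : lift act (snd G' X) ≫ lift d (snd X X) = 𝟙 _ := by
        rw [comp_lift, lift_snd, ← lift_fst_snd]
        congr 1
        refine hfree _ _ (snd G' X) ?_
        have h := congrArg (lift act (snd G' X) ≫ ·) hd
        simp only [← Category.assoc, comp_lift, lift_snd, lift_fst] at h
        rw [h, lift_fst_snd, Category.id_comp]
      refine ⟨⟨lift d (snd X X), hc, ?_⟩⟩
      show lift d (snd X X) ≫ lift act (snd G' X) = _
      rw [comp_lift, hd, lift_snd, lift_fst_snd]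
    have hX : NonAbH1.IsLocallyTrivialFor Scheme.fpqcPrecoverage X := by
      obtain ⟨R, hR, hle⟩ := (Precoverage.mem_toGrothendieck_iff_of_isStableUnderComposition).1
        (show TorsSeq.locSieve X (𝟙 S) ∈ Scheme.fpqcTopology S from by
          refine Scheme.fpqcTopology.transitive (TorsSeq.locSieve_mem P.isTorsor.2 (𝟙 S)) _ ?_
          rintro W g ⟨s, hs⟩
          rw [Category.comp_id] at hs
          let T : Over S := Over.mk g
          let x : T ⟶ P.X := Over.homMk s hs
          refine Scheme.fpqcTopology.superset_covering ?_ (TorsSeq.locSieve_mem hloc (x ≫ φ).left)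
          intro W' k hk
          obtain ⟨b, hb⟩ := hk
          let T' : Over S := Over.mk (k ≫ g)
          let k' : T' ⟶ T := Over.homMk k rfl
          change b ≫ v.left = k ≫ (x ≫ φ).left at hb
          let b' : T' ⟶ G := Over.homMk b (by
            show b ≫ G.hom = k ≫ g
            rw [← Over.w v, reassoc_of% hb, Over.w (x ≫ φ)]
            rfl)
          have hbv : b' ≫ v = k' ≫ x ≫ φ := Over.OverMorphism.ext hb
          refine ⟨(Limits.pullback.lift (NonAbLib.actPt P.act b'⁻¹ (k' ≫ x)) (toUnit T') ?_ : T' ⟶ X).left, ?_⟩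
          · rw [hφ', GrpObj.inv_comp b' v, hbv, Category.assoc, inv_mul_cancel, Hom.one_def]
          · rw [Category.comp_id]
            exact Over.w _)
      refine ⟨R, hR, fun W f hf => ?_⟩
      obtain ⟨s, hs⟩ := hle _ _ hf
      exact ⟨s, hs.trans (Category.comp_id _)⟩
    refine ⟨⟨X, a, hpt, hX⟩, j, ?_⟩
    exact hactj
  · rintro ⟨Q, ψ, hψ⟩
    have hψ' : ∀ ⦃T : Over S⦄ (g : T ⟶ G') (q : T ⟶ Q.X),
        NonAbLib.actPt Q.act g q ≫ ψ = NonAbLib.actPt P.act (g ≫ u) (q ≫ ψ) := by
      intro T g q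
      rw [NonAbLib.actPt, Category.assoc, hψ, comp_lift_assoc, ← Category.assoc, lift_fst, ← Category.assoc,
        lift_snd]
      rfl
    have huniq : ∀ ⦃T : Over S⦄ (g g' : T ⟶ G) (q q' : T ⟶ Q.X),
        NonAbLib.actPt P.act g (q ≫ ψ) = NonAbLib.actPt P.act g' (q' ≫ ψ) → g ≫ v = g' ≫ v := by
      intro T g g' q q' h
      obtain ⟨d, hd, -⟩ := NonAbLib.existsUnique_actPt Q.isTorsor.1 q q'
      rw [← hd, hψ', ← NonAbLib.actPt_mul] at h
      rw [(NonAbLib.existsUnique_actPt P.isTorsor.1 (q ≫ ψ) _).unique rfl h.symm, MonObj.mul_comp _ _ v,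
        Category.assoc d u v, huv, MonObj.comp_one, _root_.mul_one]
    obtain ⟨φ, hφ⟩ := TorsSeq.exists_glue (TorsSeq.locSieve_mem Q.isTorsor.2 P.X.hom)
      (fun T x z => ∃ (g : T ⟶ G) (q : T ⟶ Q.X), NonAbLib.actPt P.act g (q ≫ ψ) = x ∧ g ≫ v = z)
      (fun T x hx => by
        obtain ⟨q, -⟩ := TorsSeq.exists_point x hx
        obtain ⟨g, hg, -⟩ := NonAbLib.existsUnique_actPt P.isTorsor.1 (q ≫ ψ) x
        exact ⟨g ≫ v, g, q, hg, rfl⟩)
      (fun T x z z' => by
        rintro ⟨g, q, hg, rfl⟩ ⟨g', q', hg', rfl⟩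
        exact huniq g g' q q' (hg.trans hg'.symm))
      (fun T T' k x z => by
        rintro ⟨g, q, hg, rfl⟩
        exact ⟨k ≫ g, k ≫ q, by rw [← hg, NonAbLib.comp_actPt, Category.assoc], Category.assoc _ _ _⟩)
    refine ⟨φ, TorsSeq.hom_ext (TorsSeq.locSieve_mem Q.isTorsor.2 (G ⊗ P.X).hom) fun T x hx => ?_⟩
    obtain ⟨q, -⟩ := TorsSeq.exists_point x hx
    obtain ⟨g₁, q₁, h₁, h₁'⟩ := hφ (x ≫ snd G P.X) (TorsSeq.locSieve_of_point _ q)
    obtain ⟨g₂, q₂, h₂, h₂'⟩ := hφ (x ≫ P.act.act) (TorsSeq.locSieve_of_point _ q)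
    have h3 : NonAbLib.actPt P.act g₂ (q₂ ≫ ψ) = NonAbLib.actPt P.act ((x ≫ fst G P.X) * g₁) (q₁ ≫ ψ) := by
      rw [h₂, NonAbLib.actPt_mul, h₁, NonAbLib.actPt, lift_comp_fst_snd]
    show x ≫ P.act.act ≫ φ = x ≫ lift (fst G P.X ≫ v) (snd G P.X ≫ φ) ≫ μ[G'']
    rw [← Category.assoc, ← h₂', huniq _ _ _ _ h3, MonObj.mul_comp _ _ v, h₁', ← Hom.mul_def, MonObj.comp_mul,
      Category.assoc, Category.assoc]

end Groth.Agent.S6010
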