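import Groth.Statements.S6011

set_option autoImplicit false
set_option backward.isDefEq.respectTransparency.types false
universe u
open CategoryTheory AlgebraicGeometry
open SGA1

namespace Groth.Agent.S6011

/-- An S-scheme X with an action of the S-group G is trivial — equivariantly isomorphic over S to G
acting on itself by translation — if and only if it is formally principal homogeneous (a
pseudo-torsor) and admits a section over S. -/
theorem result {S : Scheme.{u}}
    (G X : Over S) [GrpObj G] (a : AlgGrp.Action G X) :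
    Nonempty (NonAbH1.EquivIso (NonAbH1.trivialAction G) a) ↔
      (NonAbH1.IsPseudoTorsorSch a ∧ NonAbH1.HasSectionOver X (𝟙 S)) := by
  open MonoidalCategory CartesianMonoidalCategory MonObj in
  constructor
  · rintro ⟨⟨e, he⟩⟩
    change μ[G] ≫ e.hom = (G ◁ e.hom) ≫ a.act at he
    refine ⟨?_, (η[G] ≫ e.hom).left, ?_⟩
    · have h0 : IsIso (lift μ[G] (snd G G)) := NonAbH1.isPseudoTorsorSch_trivialAction (G := G)
      have key : lift μ[G] (snd G G) ≫ (e.hom ⊗ₘ e.hom) = (G ◁ e.hom) ≫ lift a.act (snd G X) := by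
        refine CartesianMonoidalCategory.hom_ext _ _ ?_ ?_
        · simp [he]
        · simp
      show IsIso (lift a.act (snd G X))
      rw [← IsIso.inv_hom_id_assoc (G ◁ e.hom) (lift a.act (snd G X)), ← key]
      infer_instance
    · exact Over.w _
  · rintro ⟨hpt, s₀, hs₀⟩
    haveI : IsIso (lift a.act (snd G X)) := hpt
    let s : 𝟙_ (Over S) ⟶ X := Over.homMk s₀ hs₀
    let z : X ⟶ G ⊗ X := lift (𝟙 X) (toUnit X ≫ s) ≫ inv (lift a.act (snd G X))
    have hz : z ≫ lift a.act (snd G X) = lift (𝟙 X) (toUnit X ≫ s) := by simp [z, -comp_lift]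
    have hz1 : z ≫ a.act = 𝟙 X := by
      have h := congrArg (· ≫ fst X X) hz
      simpa [Category.assoc] using h
    have hz2 : z ≫ snd G X = toUnit X ≫ s := by
      have h := congrArg (· ≫ snd X X) hz
      simpa [Category.assoc] using h
    let φ : G ⟶ X := lift (𝟙 G) (toUnit G ≫ s) ≫ a.act
    have hz3 : lift (z ≫ fst G X) (toUnit X ≫ s) = z := by
      refine CartesianMonoidalCategory.hom_ext _ _ ?_ ?_ <;> simp [hz2]
    refine ⟨⟨⟨φ, z ≫ fst G X, ?_, ?_⟩, ?_⟩⟩
    · have h1 : φ ≫ z = lift (𝟙 G) (toUnit G ≫ s) := by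
        rw [← cancel_mono (lift a.act (snd G X)), Category.assoc, hz]
        refine CartesianMonoidalCategory.hom_ext _ _ ?_ ?_ <;> simp [φ]
      rw [← Category.assoc, h1, lift_fst]
    · have : (z ≫ fst G X) ≫ lift (𝟙 G) (toUnit G ≫ s) = z := by
        rw [comp_lift, Category.comp_id, ← Category.assoc, comp_toUnit, hz3]
      show (z ≫ fst G X) ≫ φ = 𝟙 X
      simp only [φ]
      rw [← Category.assoc, this, hz1]
    · show μ[G] ≫ φ = (G ◁ φ) ≫ a.act
      have h1 : μ[G] ≫ lift (𝟙 G) (toUnit G ≫ s) = lift (𝟙 (G ⊗ G)) (toUnit (G ⊗ G) ≫ s) ≫ (μ[G] ▷ X) := by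
        refine CartesianMonoidalCategory.hom_ext _ _ ?_ ?_ <;> simp
      have h2 : lift (𝟙 (G ⊗ G)) (toUnit (G ⊗ G) ≫ s) ≫ (α_ G G X).hom ≫ (G ◁ a.act) = G ◁ φ := by
        refine CartesianMonoidalCategory.hom_ext _ _ ?_ ?_
        · simp
        · have e : snd G X = snd G X := rfl
          have e1 : lift (𝟙 (G ⊗ G)) (toUnit (G ⊗ G) ≫ s) ≫ (α_ G G X).hom ≫ snd G (G ⊗ X) =
              lift (snd G G) (toUnit (G ⊗ G) ≫ s) := by
            refine CartesianMonoidalCategory.hom_ext _ _ ?_ ?_ <;> simp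
          simp only [φ, Category.assoc, whiskerLeft_snd]
          rw [reassoc_of% e1, ← Category.assoc (snd G G), comp_lift, Category.comp_id, ← Category.assoc (snd G G) (toUnit G),
            comp_toUnit]
      simp only [φ]
      rw [reassoc_of% h1, a.mul_act, reassoc_of% h2]

end Groth.Agent.S6011
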