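import Groth.Agent.S0271
import Mathlib

set_option autoImplicit false
set_option backward.isDefEq.respectTransparency false
set_option linter.all false
set_option maxHeartbeats 1000000
set_option synthInstance.maxHeartbeats 200000
universe u
namespace SGA1
end SGA1
open SGA1
open scoped Pointwise

namespace Groth.Agent.S6017

/-- consequences of being etale after inverting an element outside the prime -/
theorem local_props {C S : Type u} [CommRing C] [CommRing S] [Algebra C S] (g : S) (P : Ideal S) [P.IsPrime]
    (hg : g ∉ P) [Algebra.Etale C (Localization.Away g)] (p : Ideal C) [p.IsPrime] (hp : p = P.comap (algebraMap C S)) :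
    (∀ J : Ideal (Localization.AtPrime p), (J.map (Localization.localRingHom p P (algebraMap C S) hp)).comap
        (Localization.localRingHom p P (algebraMap C S) hp) = J) ∧
      (IsLocalRing.maximalIdeal (Localization.AtPrime p)).map (Localization.localRingHom p P (algebraMap C S) hp) =
        IsLocalRing.maximalIdeal (Localization.AtPrime P) := by
  let E := Localization.AtPrime P
  letI : Algebra (Localization.Away g) E :=
    (IsLocalization.Away.lift g (g := algebraMap S E) (IsLocalization.map_units E (⟨g, hg⟩ : P.primeCompl))).toAlgebra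
  haveI : IsScalarTower S (Localization.Away g) E :=
    .of_algebraMap_eq fun r => (IsLocalization.Away.lift_eq _ _ r).symm
  haveI : IsScalarTower C (Localization.Away g) E := .of_algebraMap_eq fun r => by
    rw [IsScalarTower.algebraMap_apply C S E, IsScalarTower.algebraMap_apply C S (Localization.Away g),
      ← IsScalarTower.algebraMap_apply S (Localization.Away g) E]
  haveI : IsLocalization (P.primeCompl.map (algebraMap S (Localization.Away g))) E :=
    IsLocalization.isLocalization_of_submonoid_le (Localization.Away g) E (Submonoid.powers g) P.primeCompl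
      (Submonoid.powers_le.2 hg)
  haveI : Module.Flat (Localization.Away g) E :=
    IsLocalization.flat E (P.primeCompl.map (algebraMap S (Localization.Away g)))
  haveI : Module.Flat C E := Module.Flat.trans C (Localization.Away g) E
  haveI : Algebra.FormallyEtale (Localization.Away g) E :=
    Algebra.FormallyEtale.of_isLocalization (P.primeCompl.map (algebraMap S (Localization.Away g)))
  haveI : Algebra.FormallyUnramified C E := Algebra.FormallyUnramified.comp C (Localization.Away g) E
  haveI : Algebra.EssFiniteType (Localization.Away g) E :=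
    Algebra.EssFiniteType.of_isLocalization E (P.primeCompl.map (algebraMap S (Localization.Away g)))
  haveI : Algebra.EssFiniteType C E := Algebra.EssFiniteType.comp C (Localization.Away g) E
  letI : Algebra (Localization.AtPrime p) E := (Localization.localRingHom p P (algebraMap C S) hp).toAlgebra
  haveI : IsScalarTower C (Localization.AtPrime p) E := .of_algebraMap_eq fun r =>
    ((Localization.localRingHom_to_map p P (algebraMap C S) hp r).trans (IsScalarTower.algebraMap_apply C S E r).symm).symm
  haveI : IsLocalHom (algebraMap (Localization.AtPrime p) E) :=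
    Localization.isLocalHom_localRingHom p P (algebraMap C S) hp
  haveI : Module.Flat (Localization.AtPrime p) E :=
    (Module.flat_iff_of_isLocalization (Localization.AtPrime p) p.primeCompl E).2 inferInstance
  haveI : Module.FaithfullyFlat (Localization.AtPrime p) E := Module.FaithfullyFlat.of_flat_of_isLocalHom
  haveI : Algebra.FormallyUnramified (Localization.AtPrime p) E :=
    Algebra.FormallyUnramified.of_restrictScalars C _ _
  haveI : Algebra.EssFiniteType (Localization.AtPrime p) E := Algebra.EssFiniteType.of_comp C _ _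
  exact ⟨fun J => Ideal.comap_map_eq_self_of_faithfullyFlat J, Algebra.FormallyUnramified.map_maximalIdeal⟩

theorem inertia_props {G R : Type u} [Group G] [Finite G] [CommRing R] [MulSemiringAction G R]
    (q : Ideal R) [q.IsPrime] (S : Subring R) (hS : S = FixedPoints.subring R (q.inertia G))
    (hle : FixedPoints.subring R G ≤ S) :
    (∀ J : Ideal (Localization.AtPrime ((q.comap S.subtype).comap (Subring.inclusion hle))), (J.map (Localization.localRingHom ((q.comap S.subtype).comap (Subring.inclusion hle))
        (q.comap S.subtype) (Subring.inclusion hle) rfl)).comap (Localization.localRingHom _ _ _ rfl) = J) ∧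
      (IsLocalRing.maximalIdeal _).map (Localization.localRingHom ((q.comap S.subtype).comap (Subring.inclusion hle))
        (q.comap S.subtype) (Subring.inclusion hle) rfl) = IsLocalRing.maximalIdeal _ := by
  subst hS
  obtain ⟨g, hg, hEt⟩ := Groth.Agent.S0271.result G R q
  haveI := hEt
  exact local_props (C := FixedPoints.subring R G) g (q.comap (FixedPoints.subring R (q.inertia G)).subtype) hg _ rfl

section residue

variable {G R : Type u} [Group G] [Finite G] [CommRing R] [MulSemiringAction G R]

theorem eq_of_smul_le (q : Ideal R) (g : G) (h : g • q ≤ q) : g • q = q := by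
  have hk : ∀ n : ℕ, g ^ n • q ≤ q := by
    intro n
    induction n with
    | zero => simp
    | succ n ih =>
      rw [pow_succ', mul_smul]
      exact ((Ideal.pointwise_smul_le_pointwise_smul_iff (a := g)).2 ih).trans h
  refine le_antisymm h ?_
  obtain ⟨n, hn, hn1⟩ := (isOfFinOrder_of_finite g).exists_pow_eq_one
  obtain ⟨m, rfl⟩ := Nat.exists_eq_add_of_le hn
  calc q = g ^ (1 + m) • q := by rw [hn1, one_smul]
    _ = g • (g ^ m • q) := by rw [pow_add, pow_one, mul_smul]
    _ ≤ g • q := (Ideal.pointwise_smul_le_pointwise_smul_iff (a := g)).2 (hk m)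

theorem residue_surj (q : Ideal R) [q.IsPrime] (x : R) (hx : ∀ g ∈ MulAction.stabilizer G q, g • x = x) :
    ∃ s t : FixedPoints.subring R G, (s : R) ∉ q ∧ (s : R) * x - t ∈ q := by
  classical
  haveI := Fintype.ofFinite G
  let D := MulAction.stabilizer G q
  have hex : ∀ g : G, g ∉ D → ∃ a, g • a ∈ q ∧ a ∉ q := fun g hg => by
    have hne : ¬ g⁻¹ • q ≤ q := fun h => hg (MulAction.mem_stabilizer_iff.2 (by
      conv_lhs => rw [← eq_of_smul_le q g⁻¹ h, smul_inv_smul]))
    obtain ⟨a, ha, haq⟩ := SetLike.not_le_iff_exists.1 hne
    exact ⟨a, Ideal.mem_inv_pointwise_smul_iff.1 ha, haq⟩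
  choose a ha haq using hex
  let e₀ := ∏ g : {g : G // g ∉ D}, a g.1 g.2
  have he₀ : e₀ ∉ q := fun h => by
    obtain ⟨g, -, hgq⟩ := (Ideal.IsPrime.prod_mem_iff).1 h
    exact haq g.1 g.2 hgq
  have he₀g : ∀ g : G, g ∉ D → g • e₀ ∈ q := fun g hg => by
    rw [Finset.smul_prod']
    exact Ideal.prod_mem _ (Finset.mem_univ ⟨g, hg⟩) (ha g hg)
  let e := ∏ d : D, (d : G) • e₀
  have he : e ∉ q := fun h => by
    obtain ⟨d, -, hd⟩ := (Ideal.IsPrime.prod_mem_iff).1 h
    rw [← MulAction.mem_stabilizer_iff.1 d.2] at hd
    exact he₀ (Ideal.smul_mem_pointwise_smul_iff.1 hd)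
  have heg : ∀ g : G, g ∉ D → g • e ∈ q := fun g hg => by
    rw [Finset.smul_prod']
    refine Ideal.prod_mem _ (Finset.mem_univ (1 : D)) ?_
    rw [OneMemClass.coe_one, one_smul]
    exact he₀g g hg
  have heD : ∀ d ∈ D, d • e = e := fun d hd => by
    rw [Finset.smul_prod']
    exact Fintype.prod_equiv (Equiv.mulLeft (⟨d, hd⟩ : D)) _ _ fun c => (mul_smul d (c : G) e₀).symm
  have key : ∀ z : R, (∀ d ∈ D, d • z = z) →
      ∃ t : FixedPoints.subring R G, (t : R) - e * z ∈ q := by
    intro z hz
    let F : G ⧸ D → R := fun c => Quotient.liftOn' c (fun g => g • (e * z)) fun g g' h => by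
      have hd := QuotientGroup.leftRel_apply.1 h
      calc g • (e * z) = g • ((g⁻¹ * g') • (e * z)) := by rw [smul_mul' (g⁻¹ * g'), heD _ hd, hz _ hd]
        _ = g' • (e * z) := by rw [← mul_smul, mul_inv_cancel_left]
    refine ⟨⟨∑ c, F c, fun g => ?_⟩, ?_⟩
    · rw [Finset.smul_sum]
      refine Fintype.sum_equiv (MulAction.toPerm g) _ _ fun c => ?_
      induction c using QuotientGroup.induction_on with
      | _ b => exact (mul_smul g b (e * z)).symm
    · show (∑ c, F c) - e * z ∈ q
      rw [Finset.sum_eq_add_sum_sdiff_singleton_of_mem (Finset.mem_univ ((1 : G) : G ⧸ D)),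
        show F ((1 : G) : G ⧸ D) = e * z from one_smul G _, add_sub_cancel_left]
      refine Ideal.sum_mem _ fun c hc => ?_
      induction c using QuotientGroup.induction_on with
      | _ b =>
        have hb : b ∉ D := fun h => by
          refine (Finset.mem_sdiff.1 hc).2 (Finset.mem_singleton.2 (QuotientGroup.eq.2 ?_))
          simpa using h
        show b • (e * z) ∈ q
        rw [smul_mul']
        exact Ideal.mul_mem_right _ _ (heg b hb)
  obtain ⟨s, hs⟩ := key 1 fun d _ => smul_one d
  obtain ⟨t, ht⟩ := key x hx
  rw [mul_one] at hs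
  refine ⟨s, t, fun h => he ?_, ?_⟩
  · simpa using q.sub_mem h hs
  · rw [show (s : R) * x - t = ((s : R) - e) * x - ((t : R) - e * x) by ring]
    exact q.sub_mem (Ideal.mul_mem_right _ _ hs) ht

end residue

/-- Stated in affine form, at the level of rings: let a finite group `G` act on a commutative ring `R`;
suppose the ring of invariants `B = R^G` is Noetherian and `R` is a finite `B`-module. Let `q` be a
prime of `R`, let `H` be a subgroup of `G` containing the stabilizer of `q` (the decomposition
group), and put `R' = R^H`, `q' = q ∩ R'`, `p = q ∩ B = q' ∩ B`. Then the local homomorphism `B_p →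
R'_{q'}` induces an isomorphism between the completions of these two Noetherian local rings;
equivalently, and this is the form stated, for every `n` the composite `B_p → R'_{q'} → R'_{q'} /
m_{q'}^n` is surjective and its kernel is exactly `m_p^n`. (The published statement concerns a
prescheme `X` finite over a locally Noetherian `Y = X/G` and the local rings of `Y` and `X/H` at the
images of a point `x`; the assertion is local on `Y` and `X` is affine over `Y`, so it is stated for
`X = Spec R`, `Y = Spec R^G`, `X/H = Spec R^H`. The hypothesis `hle` only records the inclusion `R^G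
⊆ R^H`, which always holds.) -/
theorem result
    (G R : Type u) [Group G] [Finite G] [CommRing R] [MulSemiringAction G R]
    [IsNoetherianRing (FixedPoints.subring R G)] [Module.Finite (FixedPoints.subring R G) R]
    (H : Subgroup G) (q : Ideal R) [q.IsPrime] (hD : MulAction.stabilizer G q ≤ H)
    (hle : FixedPoints.subring R G ≤ FixedPoints.subring R H) (n : ℕ) :
    let q' : Ideal (FixedPoints.subring R H) := Ideal.comap (FixedPoints.subring R H).subtype q
    let φ := Localization.localRingHom (Ideal.comap (Subring.inclusion hle) q') q' (Subring.inclusion hle) rfl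
    Function.Surjective ((Ideal.Quotient.mk (IsLocalRing.maximalIdeal (Localization.AtPrime q') ^ n)).comp φ) ∧
      Ideal.comap φ (IsLocalRing.maximalIdeal (Localization.AtPrime q') ^ n) =
        IsLocalRing.maximalIdeal (Localization.AtPrime (Ideal.comap (Subring.inclusion hle) q')) ^ n := by
  classical
  intro q' φ
  let B := FixedPoints.subring R G
  let R' := FixedPoints.subring R H
  let p : Ideal B := q'.comap (Subring.inclusion hle)
  show Function.Surjective ((Ideal.Quotient.mk _).comp φ) ∧ _
  let S := FixedPoints.subring R (q.inertia G)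
  have hI : q.inertia G ≤ H := fun g hg => hD (MulAction.mem_stabilizer_iff.2 (by
    refine le_antisymm ?_ ?_
    · intro x hx
      rw [Ideal.mem_pointwise_smul_iff_inv_smul_mem] at hx
      have := hg (g⁻¹ • x)
      rw [smul_inv_smul] at this
      simpa using q.add_mem this hx
    · intro x hx
      rw [Ideal.mem_pointwise_smul_iff_inv_smul_mem]
      have := hg (g⁻¹ • x)
      rw [smul_inv_smul] at this
      simpa using q.sub_mem hx this))
  have hS : S = FixedPoints.subring R (q.inertia H) := by
    ext x
    exact ⟨fun h g => h ⟨g.1.1, g.2⟩, fun h g => h ⟨⟨g.1, hI g.2⟩, g.2⟩⟩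
  have hBS : B ≤ S := fun x hx g => hx g.1
  have hRS : R' ≤ S := fun x hx g => hx ⟨g.1, hI g.2⟩
  let P : Ideal S := q.comap S.subtype
  let θ₁ := Localization.localRingHom p P (Subring.inclusion hBS) rfl
  let θ₂ := Localization.localRingHom q' P (Subring.inclusion hRS) rfl
  obtain ⟨h1c, h1m⟩ : (∀ J : Ideal (Localization.AtPrime p), (J.map θ₁).comap θ₁ = J) ∧
      (IsLocalRing.maximalIdeal _).map θ₁ = IsLocalRing.maximalIdeal _ := inertia_props q S rfl hBS
  obtain ⟨h2c, -⟩ : (∀ J : Ideal (Localization.AtPrime q'), (J.map θ₂).comap θ₂ = J) ∧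
      (IsLocalRing.maximalIdeal _).map θ₂ = IsLocalRing.maximalIdeal _ :=
    inertia_props (G := H) q S hS hRS
  have hcomp : θ₂.comp φ = θ₁ :=
    (Localization.localRingHom_comp p q' P (Subring.inclusion hle) rfl (Subring.inclusion hRS) rfl).symm
  have hmap : (IsLocalRing.maximalIdeal (Localization.AtPrime p)).map φ =
      IsLocalRing.maximalIdeal (Localization.AtPrime q') := by
    rw [← h2c ((IsLocalRing.maximalIdeal (Localization.AtPrime p)).map φ), Ideal.map_map, hcomp, h1m]
    haveI : IsLocalHom θ₂ := Localization.isLocalHom_localRingHom q' P (Subring.inclusion hRS) rfl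
    exact ((IsLocalRing.local_hom_TFAE θ₂).out 0 4 rfl rfl).1 inferInstance
  have hpow : ∀ m : ℕ, IsLocalRing.maximalIdeal (Localization.AtPrime q') ^ m =
      (IsLocalRing.maximalIdeal (Localization.AtPrime p) ^ m).map φ := fun m => by
    rw [Ideal.map_pow, hmap]
  -- the residue field does not grow
  have hres : ∀ y, ∃ x, y - φ x ∈ IsLocalRing.maximalIdeal (Localization.AtPrime q') := by
    intro y
    obtain ⟨r, s, rfl⟩ := IsLocalization.exists_mk'_eq q'.primeCompl y
    obtain ⟨u, t, hu, hut⟩ := residue_surj (G := G) q (r : R) fun g hg => r.2 ⟨g, hD hg⟩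
    obtain ⟨v, w, hv, hvw⟩ := residue_surj (G := G) q ((s : R') : R) fun g hg => (s : R').2 ⟨g, hD hg⟩
    have hw : (w : R) ∉ q := fun h => by
      have := q.add_mem hvw h
      rw [sub_add_cancel] at this
      rcases (‹q.IsPrime›).mem_or_mem this with h' | h'
      exacts [hv h', s.2 h']
    have huw : u * w ∈ p.primeCompl := fun h => by
      rcases (‹q.IsPrime›).mem_or_mem (show (u : R) * w ∈ q from h) with h' | h'
      exacts [hu h', hw h']
    refine ⟨IsLocalization.mk' _ (t * v) ⟨u * w, huw⟩, ?_⟩
    rw [Localization.localRingHom_mk', ← IsLocalization.mk'_sub (S := Localization.AtPrime q'), IsLocalization.AtPrime.mk'_mem_maximal_iff (Localization.AtPrime q') q']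
    show (r : R) * ((u : R) * w) - (t : R) * v * ((s : R') : R) ∈ q
    rw [show (r : R) * ((u : R) * w) - (t : R) * v * ((s : R') : R) =
      (w : R) * ((u : R) * r - t) - (t : R) * ((v : R) * ((s : R') : R) - w) by ring]
    exact q.sub_mem (Ideal.mul_mem_left _ _ hut) (Ideal.mul_mem_left _ _ hvw)
  have hsurj : ∀ (m : ℕ) y, ∃ x, y - φ x ∈ IsLocalRing.maximalIdeal (Localization.AtPrime q') ^ m := by
    intro m
    induction m with
    | zero => exact fun y => ⟨0, by simp⟩
    | succ m ih =>
      have hstep : ∀ z ∈ (IsLocalRing.maximalIdeal (Localization.AtPrime p) ^ m).map φ,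
          ∃ x, z - φ x ∈ IsLocalRing.maximalIdeal (Localization.AtPrime q') ^ (m + 1) := by
        intro z hz
        induction hz using Submodule.span_induction with
        | mem z hz => obtain ⟨x, -, rfl⟩ := hz; exact ⟨x, by rw [sub_self]; exact zero_mem _⟩
        | zero => exact ⟨0, by simp⟩
        | add a b _ _ ha hb =>
          obtain ⟨x, hx⟩ := ha
          obtain ⟨y, hy⟩ := hb
          exact ⟨x + y, by rw [map_add, add_sub_add_comm]; exact Ideal.add_mem _ hx hy⟩
        | smul c a ha' ha =>
          obtain ⟨x, hx⟩ := ha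
          obtain ⟨d, hd⟩ := hres c
          refine ⟨d * x, ?_⟩
          rw [smul_eq_mul, map_mul, show c * a - φ d * φ x = (c - φ d) * a + φ d * (a - φ x) by ring]
          refine Ideal.add_mem _ ?_ (Ideal.mul_mem_left _ _ hx)
          rw [pow_succ']
          exact Ideal.mul_mem_mul hd ((hpow m).ge ha')
      intro y
      obtain ⟨x, hx⟩ := ih y
      obtain ⟨x', hx'⟩ := hstep _ ((hpow m).le hx)
      exact ⟨x + x', by rwa [map_add, ← sub_sub]⟩
  refine ⟨fun y => ?_, ?_⟩
  · obtain ⟨y, rfl⟩ := Ideal.Quotient.mk_surjective y
    obtain ⟨x, hx⟩ := hsurj n y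
    exact ⟨x, (Ideal.Quotient.eq.2 hx).symm⟩
  · rw [hpow]
    refine le_antisymm (fun x hx => ?_) Ideal.le_comap_map
    rw [← h1c (IsLocalRing.maximalIdeal (Localization.AtPrime p) ^ n), Ideal.mem_comap]
    have := Ideal.mem_map_of_mem θ₂ (Ideal.mem_comap.1 hx)
    rw [Ideal.map_map, hcomp] at this
    rwa [← RingHom.comp_apply, hcomp] at this

end Groth.Agent.S6017
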