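import Groth.Statements.S6024
import Groth.Agent.CAlgH3.SupportIff
import Mathlib

set_option autoImplicit false
universe u
open CategoryTheory CategoryTheory.Limits TopologicalSpace
open LocCohZ

namespace Groth.Agent.S6024

/-- Consider a topological space X carrying a sheaf of abelian groups F, and assume that H^1_Z(X, F)
vanishes for each closed subset Z of X (writing Z = X − U with U open). Under this assumption, F is
flasque. -/
theorem result {X : TopCat.{u}} (F : CohTop.Ab X)
    (h : ∀ U : Opens X, Subsingleton (LocCohZ.HZc F 1 U)) : TopCat.Sheaf.IsFlasque F := by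
  refine ⟨fun {A B} i => ?_⟩
  rw [AddCommGrpCat.epi_iff_surjective]
  intro s
  haveI := h B.unop
  obtain ⟨y, hy⟩ := CategoryTheory.Abelian.Ext.contravariant_sequence_exact₁
    (LocCohZ.zqSeq_shortExact (le_top : B.unop ≤ ⊤)) F
    (CategoryTheory.Abelian.Ext.mk₀ (CohFree.ofSect (Opens.grothendieckTopology X) B.unop F s)) (n₁ := 1) (by omega)
    (@Subsingleton.elim (LocCohZ.HZc F 1 B.unop) (h B.unop) _ _)
  obtain ⟨φ, rfl⟩ := (CategoryTheory.Abelian.Ext.mk₀_bijective _ _).2 y
  rw [CategoryTheory.Abelian.Ext.mk₀_comp_mk₀] at hy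
  have hy' := (CategoryTheory.Abelian.Ext.mk₀_bijective _ _).1 hy
  refine ⟨F.obj.map (homOfLE (le_top : A.unop ≤ ⊤)).op
    (CohFree.evalGen (Opens.grothendieckTopology X) ⊤ F φ), ?_⟩
  refine Eq.trans ?_ (CohFree.evalGen_ofSect (Opens.grothendieckTopology X) B.unop F s)
  rw [← hy']
  refine Eq.trans ?_ (CohFree.evalGen_freeSheafMap_comp (Opens.grothendieckTopology X)
    (homOfLE (le_top : B.unop ≤ ⊤)) F φ).symm
  exact (ConcreteCategory.congr_hom (F.obj.map_comp (homOfLE (le_top : A.unop ≤ ⊤)).op i) _).symm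

end Groth.Agent.S6024
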