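import Groth.Statements.S6026
import Groth.Agent.CAlgH3.SupportRestrict
import Mathlib

set_option autoImplicit false
universe u
open CategoryTheory CategoryTheory.Limits TopologicalSpace
open LocCohZ

namespace Groth.Agent.S6026

/-- Let X be a topological space, W ⊆ V opens of X and Z = V − W. For every i there is an isomorphism
H^i_Z(X, F) ≅ H^i_Z(V, F|_V), natural in the abelian sheaf F on X, between cohomology with supports
in Z computed on X and computed on the open subspace V. (Existence of a natural family of
isomorphisms; the published statement has the canonical maps of cohomological functors.) -/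
theorem result {X : TopCat.{u}} {W V : Opens X} (h : W ≤ V) (i : ℕ) :
    ∃ e : ∀ F : CohTop.Ab X,
        LocCohZ.HZ F i h ≃+ LocCohZ.HZc (CohTop.restr F V) i ((Opens.map (CohCx.incl V)).obj W),
      ∀ (F G : CohTop.Ab X) (φ : F ⟶ G) (x : LocCohZ.HZ F i h),
        e G (LocCohZ.map φ i h x) =
          LocCohZ.map ((CohTop.restrFunctor V).map φ) i
            (le_top : (Opens.map (CohCx.incl V)).obj W ≤ ⊤) (e F x) := by
  have hW : W = (Groth.Agent.SiteCoh.opensIncl V).obj ((Opens.map (CohCx.incl V)).obj W) := by
    rw [CAlgH3.SupportSheaf.image_preimage]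
    exact (inf_eq_left.2 h).symm
  have hV : V = (Groth.Agent.SiteCoh.opensIncl V).obj ⊤ := (Groth.Agent.SiteCoh.opensIncl_top V).symm
  let h₂ := ((Groth.Agent.SiteCoh.opensIncl V).map (homOfLE (le_top : (Opens.map (CohCx.incl V)).obj W ≤ ⊤))).le
  refine ⟨fun F => (CAlgH3.SupportRestrict.HZCongr F i h h₂ hW hV).trans
    (CAlgH3.SupportRestrict.HZEquiv (j := CohCx.incl V) V.isOpenEmbedding (le_top : (Opens.map (CohCx.incl V)).obj W ≤ ⊤) F i),
    fun F G φ x => ?_⟩
  refine (congrArg (CAlgH3.SupportRestrict.HZEquiv (j := CohCx.incl V) V.isOpenEmbedding (le_top : (Opens.map (CohCx.incl V)).obj W ≤ ⊤) G i)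
    (CAlgH3.SupportRestrict.HZCongr_naturality φ i h h₂ hW hV x)).trans ?_
  exact CAlgH3.SupportRestrict.HZEquiv_naturality (j := CohCx.incl V) V.isOpenEmbedding _ φ i _

end Groth.Agent.S6026
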