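import Groth.Statements.S6028
import Groth.Agent.CAlgH3.SupportIff
import Mathlib

set_option autoImplicit false
set_option backward.isDefEq.respectTransparency.types false
universe u
open CategoryTheory CategoryTheory.Limits TopologicalSpace
open LocCohZ

namespace Groth.Agent.S6028

/-- Let X be a topological space and W ⊆ V ⊆ T opens of X; put Z = T − W, Z' = T − V and Z'' = V − W, so
that Z' is closed in Z with complement Z''. Then 0 → ℤ_{Z'',X} → ℤ_{Z,X} → ℤ_{Z',X} → 0 is a short
exact sequence of abelian sheaves on X, where ℤ_{Z,X} = ℤ_T/ℤ_W and the maps are the induced ones. -/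
theorem result {X : TopCat.{u}} {W V T : Opens X} (hWV : W ≤ V) (hVT : V ≤ T) :
    ∃ w : LocCohZ.zqMap (hWV.trans hVT) hWV le_rfl hVT ≫ LocCohZ.zqMap hVT (hWV.trans hVT) hWV le_rfl = 0,
      (ShortComplex.mk _ _ w).ShortExact := by
  have w : LocCohZ.zqMap (hWV.trans hVT) hWV le_rfl hVT ≫ LocCohZ.zqMap hVT (hWV.trans hVT) hWV le_rfl = 0 := by
    apply coequalizer.hom_ext
    simp [LocCohZ.zqMap, CohFree.freeSheafMap_id]
  have hmono : Mono (LocCohZ.zqMap (hWV.trans hVT) hWV le_rfl hVT) := by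
    refine Preadditive.mono_of_cancel_zero _ fun {A} x hx => ?_
    obtain ⟨A', p, hp, y, hy⟩ := surjective_up_to_refinements_of_epi
      (cokernel.π (CohCx.freeSheafMap (Opens.grothendieckTopology X) (homOfLE hWV))) x
    have hz : (y ≫ CohCx.freeSheafMap _ (homOfLE hVT)) ≫ (LocCohZ.zqSeq (hWV.trans hVT)).g = 0 := by
      change (y ≫ CohCx.freeSheafMap _ (homOfLE hVT)) ≫ cokernel.π _ = 0
      refine Eq.trans ?_ (((congrArg (fun m => p ≫ m) hx).trans comp_zero))
      rw [← Category.assoc, hy]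
      simp [LocCohZ.zqMap]
    haveI : Mono (LocCohZ.zqSeq (hWV.trans hVT)).f := (LocCohZ.zqSeq_shortExact _).mono_f
    let z : A' ⟶ CohCx.freeSheaf (Opens.grothendieckTopology X) W :=
      (LocCohZ.zqSeq_shortExact (hWV.trans hVT)).exact.lift (y ≫ CohCx.freeSheafMap _ (homOfLE hVT)) hz
    have hz' : z ≫ CohCx.freeSheafMap _ (homOfLE (hWV.trans hVT)) = y ≫ CohCx.freeSheafMap _ (homOfLE hVT) :=
      ShortComplex.Exact.lift_f _ _ _
    haveI : Mono (CohCx.freeSheafMap (Opens.grothendieckTopology X) (homOfLE hVT)) :=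
      (LocCohZ.zqSeq_shortExact hVT).mono_f
    have hy' : y = z ≫ CohCx.freeSheafMap _ (homOfLE hWV) := by
      rw [← cancel_mono (CohCx.freeSheafMap (Opens.grothendieckTopology X) (homOfLE hVT)), Category.assoc,
        ← CohFree.freeSheafMap_comp]
      exact hz'.symm
    rw [← cancel_epi p, comp_zero, hy, hy', Category.assoc, cokernel.condition, comp_zero]
  have hepi : Epi (LocCohZ.zqMap hVT (hWV.trans hVT) hWV le_rfl) := by
    refine ⟨fun {P} a b hab => ?_⟩
    apply coequalizer.hom_ext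
    have := congrArg (fun m => cokernel.π _ ≫ m) hab
    simpa [LocCohZ.zqMap, CohFree.freeSheafMap_id] using this
  refine ⟨w, { exact := ?_, mono_f := hmono, epi_g := hepi }⟩
  refine ShortComplex.exact_of_g_is_cokernel _ ?_
  refine CokernelCofork.IsColimit.ofπ _ _
    (fun {P} k hk => cokernel.desc _ (cokernel.π _ ≫ k) ?_) (fun {P} k hk => ?_) (fun {P} k hk m hm => ?_)
  · have := congrArg (fun m => cokernel.π _ ≫ m) hk
    simpa [LocCohZ.zqMap] using this
  · apply coequalizer.hom_ext
    simp [LocCohZ.zqMap, CohFree.freeSheafMap_id]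
  · apply coequalizer.hom_ext
    simp [LocCohZ.zqMap, CohFree.freeSheafMap_id, ← hm]

end Groth.Agent.S6028
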