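import Groth.Statements.S6029
import Groth.Agent.CAlgH3.SupportSS
import Mathlib

set_option autoImplicit false
universe u
open CategoryTheory CategoryTheory.Limits TopologicalSpace
open LocCohZ

namespace Groth.Agent.S6029

/-- For a closed subset Z = X − U of a topological space X and an abelian sheaf F on X: there is an E₂
spectral sequence of abelian groups with E₂^{p,q} ≅ H^p(X, ℋ^q_Z(F)) for p, q ≥ 0 (and 0 otherwise),
bounded, abutting with finite filtrations to H^n_Z(X, F) (n ≥ 0; 0 for n < 0). (Existence only: the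
E₂ identifications and the abutment isomorphisms are some isomorphisms, not the canonical maps of a
construction, so edge maps and low-degree exact sequences are not part of this statement.) -/
theorem result {X : TopCat.{u}} (F : CohTop.Ab X) (U : Opens X) :
    ∃ (E : E₂CohomologicalSpectralSequence AddCommGrpCat.{u})
      (a : SpSeq.Abutment E (fun n : ℤ =>
        if 0 ≤ n then AddCommGrpCat.of (LocCohZ.HZc F n.toNat U) else AddCommGrpCat.of PUnit.{u + 1})),
      (∀ n : ℤ, a.IsFinite n) ∧ SpSeq.IsBounded E ∧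
      ∀ p q : ℤ, Nonempty ((E.page 2 le_rfl).X (p, q) ≅
        (if 0 ≤ p ∧ 0 ≤ q then AddCommGrpCat.of (CohTop.HU ((LocCohZ.HZsh U q.toNat).obj F) p.toNat ⊤)
          else AddCommGrpCat.of PUnit.{u + 1})) := by
  refine Groth.Agent.SpecSeq.exists_composite (LocCohZ.sectSuppF U)
    (Groth.Agent.SpecSeq.sectionsFunctor (Opens.grothendieckTopology X) ⊤)
    (fun Q hQ q hq => ?_) F (fun n => ?_) (fun n hn => ?_) (fun p q => ?_) (fun p q h => ?_)
  · obtain ⟨k, rfl⟩ : ∃ k, q = k + 1 := ⟨q - 1, by omega⟩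
    haveI := Groth.Agent.SiteCoh.isFlasque_of_injective Q
    haveI := CAlgH3.SupportSS.isFlasque_sectSupp U Q
    refine IsZero.of_iso ?_ (Groth.Agent.SpecSeq.sectionsFunctorDerivedIso (Opens.grothendieckTopology X) ⊤ (k + 1) _)
    haveI : Subsingleton (CohTop.HU ((LocCohZ.sectSuppF U).obj Q) (k + 1) ⊤) :=
      Groth.Agent.SiteCoh.subsingleton_HU_of_isFlasque _ ⊤ k
    exact AddCommGrpCat.isZero_of_subsingleton _
  · exact Groth.Agent.SpecSeq.nonempty_iso_if (by omega)
      ((Groth.Agent.SiteCoh.rightDerivedCongr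
        (G := LocCohZ.sectSuppF U ⋙ Groth.Agent.SpecSeq.sectionsFunctor (Opens.grothendieckTopology X) ⊤)
        (G' := LocCohZ.gammaZF U) (Iso.refl _) n).app F ≪≫ CAlgH3.SupportSS.rhzObjIso U n F)
  · exact Groth.Agent.SpecSeq.isZero_if (by omega) (AddCommGrpCat.isZero_of_subsingleton _)
  · exact Groth.Agent.SpecSeq.nonempty_iso_if ⟨by omega, by omega⟩
      (Groth.Agent.SpecSeq.sectionsFunctorDerivedIso (Opens.grothendieckTopology X) ⊤ p _)
  · exact Groth.Agent.SpecSeq.isZero_if h (AddCommGrpCat.isZero_of_subsingleton _)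

end Groth.Agent.S6029
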