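import Groth.Statements.S6031
import Groth.Agent.Coherent.Vanishing
import Groth.Agent.CAlgH3.SupportIff
import Mathlib

set_option autoImplicit false
universe u
open CategoryTheory CategoryTheory.Limits TopologicalSpace AlgebraicGeometry
open LocCohZ

namespace Groth.Agent.S6031

/-- Let Y be an affine scheme, U an open subset with closed complement Z and M a quasi-coherent
O_Y-module with underlying abelian sheaf F. Then 0 → H^0_Z(Y, F) → H^0(Y, F) → H^0(U, F) → H^1_Z(Y,
F) → 0 is exact, i.e. the connecting map H^0(U, F) → H^1_Z(Y, F) is surjective, and the connecting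
maps H^i(U, F) → H^{i+1}_Z(Y, F) are bijective for all i ≥ 1. (The published statement assumes U
quasi-compact; the printed proof of these two assertions only uses the vanishing of the higher
cohomology of F on the affine scheme Y, so U is an arbitrary open here.) -/
theorem result (Y : Scheme.{u}) [IsAffine Y] (M : Y.Modules)
    (hM : Coh.IsQCoh M) (U : Y.Opens) :
    Function.Surjective (LocCohZ.delta (X := Y.carrier) (Coh.toAb M) 0 (le_top : U ≤ ⊤)) ∧
      ∀ i : ℕ, 1 ≤ i →
        Function.Bijective (LocCohZ.delta (X := Y.carrier) (Coh.toAb M) i (le_top : U ≤ ⊤)) := by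
  haveI := hM
  have hv : ∀ n, 1 ≤ n → Subsingleton (CohTop.HU (X := Y.carrier) (Coh.toAb M) n ⊤) := fun n hn =>
    Groth.Agent.Coherent.subsingleton_H'_qcoh_pos M (isAffineOpen_top Y) hn
  refine ⟨fun z => ?_, fun i hi => ⟨?_, fun z => ?_⟩⟩
  · exact Abelian.Ext.contravariant_sequence_exact₃
      (LocCohZ.zqSeq_shortExact (X := Y.carrier) (le_top : U ≤ ⊤)) _ z
      (@Subsingleton.elim (CohTop.HU (X := Y.carrier) (Coh.toAb M) 1 ⊤) (hv 1 le_rfl) _ _) (by omega)
  · rw [injective_iff_map_eq_zero]
    intro x hx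
    obtain ⟨y, rfl⟩ := Abelian.Ext.contravariant_sequence_exact₁
      (LocCohZ.zqSeq_shortExact (X := Y.carrier) (le_top : U ≤ ⊤)) _ x (by omega) hx
    rw [@Subsingleton.elim (CohTop.HU (X := Y.carrier) (Coh.toAb M) i ⊤) (hv i hi) y 0]
    exact ((Abelian.Ext.mk₀ (LocCohZ.zqSeq (X := Y.carrier) (le_top : U ≤ ⊤)).f).precomp _ (zero_add i)).map_zero
  · exact Abelian.Ext.contravariant_sequence_exact₃
      (LocCohZ.zqSeq_shortExact (X := Y.carrier) (le_top : U ≤ ⊤)) _ z
      (@Subsingleton.elim (CohTop.HU (X := Y.carrier) (Coh.toAb M) (i + 1) ⊤) (hv (i + 1) (by omega)) _ _) (by omega)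

end Groth.Agent.S6031
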