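import Groth.Statements.S6033
import Groth.Agent.S6032
import Groth.Agent.CAlgH3.SupportVanish
import Mathlib

set_option autoImplicit false
universe u
open CategoryTheory CategoryTheory.Limits TopologicalSpace AlgebraicGeometry
open LocCohZ

namespace Groth.Agent.S6033

/-- Let A be a commutative ring such that the underlying space of X = Spec A is Noetherian. Then M~ is
flasque for every injective A-module M if and only if colim_n H^1(f^n, M) = 0 (direct limit of
Koszul cohomology of the powers) for every finite family f of elements of A and every injective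
A-module M; and in that case colim_n H^i(f^n, M) = 0 for all i > 0 as well. -/
theorem result (A : Type u) [CommRing A]
    [NoetherianSpace (PrimeSpectrum A)] :
    ((∀ (M : Type u) [AddCommGroup M] [Module A M], Module.Injective A M →
        TopCat.Sheaf.IsFlasque (Coh.toAb (AlgebraicGeometry.tilde (R := CommRingCat.of A) (ModuleCat.of A M)))) ↔
      ∀ (fs : List A) (M : Type u) [AddCommGroup M] [Module A M], Module.Injective A M →
        Subsingleton (CohIII.koszulHLim fs (ModuleCat.of A M) 1)) ∧
    ((∀ (M : Type u) [AddCommGroup M] [Module A M], Module.Injective A M →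
        TopCat.Sheaf.IsFlasque (Coh.toAb (AlgebraicGeometry.tilde (R := CommRingCat.of A) (ModuleCat.of A M)))) →
      ∀ (fs : List A) (M : Type u) [AddCommGroup M] [Module A M], Module.Injective A M →
        ∀ i : ℕ, 0 < i → Subsingleton (CohIII.koszulHLim fs (ModuleCat.of A M) i)) := by
  have hzero : ∀ (M : Type u) [AddCommGroup M] [Module A M],
      TopCat.Sheaf.IsFlasque (Coh.toAb (AlgebraicGeometry.tilde (R := CommRingCat.of A) (ModuleCat.of A M))) →
      ∀ (fs : List A) (i : ℕ), 0 < i → Subsingleton (CohIII.koszulHLim fs (ModuleCat.of A M) i) := by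
    intro M _ _ hf fs i hi
    obtain ⟨e⟩ := Groth.Agent.S6032.result A fs M i
    haveI := CAlgH3.SupportVanish.subsingleton_HZ_of_isFlasque (X := (Spec (CommRingCat.of A)).carrier)
      (Coh.toAb (AlgebraicGeometry.tilde (R := CommRingCat.of A) (ModuleCat.of A M)))
      (le_top : LocCoh.puncturedOpen A (Ideal.span {a | a ∈ fs}) ≤ ⊤) i hi
    exact e.toEquiv.subsingleton
  refine ⟨⟨fun h fs M _ _ hM => hzero M (h M hM) fs 1 Nat.one_pos, fun h M _ _ hM => ?_⟩,
    fun h fs M _ _ hM i hi => hzero M (h M hM) fs i hi⟩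
  let F := Coh.toAb (AlgebraicGeometry.tilde (R := CommRingCat.of A) (ModuleCat.of A M))
  refine ⟨fun {W W'} g => ?_⟩
  have hspan : ∀ T : (Spec (CommRingCat.of A)).Opens, ∃ fs : List A,
      LocCoh.puncturedOpen A (Ideal.span {a | a ∈ fs}) = T := by
    intro T
    have hc : IsCompact (T.1 : Set (PrimeSpectrum A)) := NoetherianSpace.isCompact (α := PrimeSpectrum A) _
    obtain ⟨s, hs⟩ := (PrimeSpectrum.isCompact_isOpen_iff.1 ⟨hc, T.2⟩)
    refine ⟨s.toList, ?_⟩
    apply Opens.ext
    show (PrimeSpectrum.zeroLocus ((Ideal.span {a | a ∈ s.toList} : Ideal A) : Set A))ᶜ = T.1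
    rw [← hs, PrimeSpectrum.zeroLocus_span]
    simp only [Finset.mem_toList]
    rfl
  have hsurj : ∀ T : (Spec (CommRingCat.of A)).Opens,
      Function.Surjective (F.obj.map (homOfLE (le_top : T ≤ ⊤)).op).hom := by
    intro T
    obtain ⟨fs, hfs⟩ := hspan T
    haveI := h fs M hM
    obtain ⟨e⟩ := Groth.Agent.S6032.result A fs M 1
    have hz : Subsingleton (LocCohZ.HZc (X := (Spec (CommRingCat.of A)).carrier) F 1 T) := by
      rw [← hfs]
      exact e.symm.toEquiv.subsingleton
    obtain ⟨d⟩ := CAlgH3.SupportLES.nonempty_one (X := (Spec (CommRingCat.of A)).carrier) F (le_top : T ≤ ⊤)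
      (Groth.Agent.Coherent.subsingleton_H'_qcoh_pos _ (isAffineOpen_top _) le_rfl)
    haveI := hz
    haveI := d.toEquiv.subsingleton
    intro x
    have hx : QuotientAddGroup.mk' (F.obj.map (homOfLE (le_top : T ≤ ⊤)).op).hom.range x = 0 := Subsingleton.elim _ _
    exact (QuotientAddGroup.eq_zero_iff x).1 hx
  rw [AddCommGrpCat.epi_iff_surjective]
  intro x
  obtain ⟨y, rfl⟩ := hsurj W'.unop x
  refine ⟨F.obj.map (homOfLE (le_top : W.unop ≤ ⊤)).op y, ?_⟩
  exact (ConcreteCategory.congr_hom (F.obj.map_comp (homOfLE (le_top : W.unop ≤ ⊤)).op g) y).symm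

end Groth.Agent.S6033
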