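import Groth.Statements.S6037
import Groth.Agent.CAlgH3.SupportSS
import Mathlib

set_option autoImplicit false
universe u
open CategoryTheory CategoryTheory.Limits TopologicalSpace
open LocCohZ

namespace Groth.Agent.S6037

/-- Let f : X → Y be a continuous map of topological spaces, Y' a closed subset of Y with open
complement V, X' = f⁻¹(Y') and F an abelian sheaf on X. There is an E₂ spectral sequence of abelian
groups with E₂^{p,q} ≅ H^p_{Y'}(Y, R^q f_* F) for p, q ≥ 0 (0 otherwise), bounded, abutting with
finite filtrations to H^n_{X'}(X, F). (The published statement is for a morphism of ringed spaces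
and records module structures over the global sections of O_Y; here only abelian groups. Existence
only: the E₂ identifications and abutment isomorphisms are some isomorphisms, not the canonical
ones.) -/
theorem result {X Y : TopCat.{u}} (f : X ⟶ Y)
    (V : Opens Y) (F : CohTop.Ab X) :
    ∃ (E : E₂CohomologicalSpectralSequence AddCommGrpCat.{u})
      (a : SpSeq.Abutment E (fun n : ℤ =>
        if 0 ≤ n then AddCommGrpCat.of (LocCohZ.HZc F n.toNat ((Opens.map f).obj V))
          else AddCommGrpCat.of PUnit.{u + 1})),
      (∀ n : ℤ, a.IsFinite n) ∧ SpSeq.IsBounded E ∧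
      ∀ p q : ℤ, Nonempty ((E.page 2 le_rfl).X (p, q) ≅
        (if 0 ≤ p ∧ 0 ≤ q then AddCommGrpCat.of (LocCohZ.HZc ((CohTop.Rpush f q.toNat).obj F) p.toNat V)
          else AddCommGrpCat.of PUnit.{u + 1})) := by
  haveI : (CohTop.push f).Additive := {}
  refine Groth.Agent.SpecSeq.exists_composite (CohTop.push f) (LocCohZ.gammaZF V)
    (fun Q hQ q hq => ?_) F (fun n => ?_) (fun n hn => ?_) (fun p q => ?_) (fun p q h => ?_)
  · haveI := Groth.Agent.SiteCoh.injective_push f Q
    exact Groth.Agent.SpecSeq.isZero_rightDerived_injective _ _ hq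
  · exact Groth.Agent.SpecSeq.nonempty_iso_if (by omega)
      ((Groth.Agent.SiteCoh.rightDerivedCongr
        (G := CohTop.push f ⋙ LocCohZ.gammaZF V) (CAlgH3.SupportSS.gammaPushIso f V) n).app F ≪≫
        CAlgH3.SupportSS.rhzObjIso _ n F)
  · exact Groth.Agent.SpecSeq.isZero_if (by omega) (AddCommGrpCat.isZero_of_subsingleton _)
  · exact Groth.Agent.SpecSeq.nonempty_iso_if ⟨by omega, by omega⟩ (CAlgH3.SupportSS.rhzObjIso V p _)
  · exact Groth.Agent.SpecSeq.isZero_if h (AddCommGrpCat.isZero_of_subsingleton _)

end Groth.Agent.S6037
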