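import Mathlib.CategoryTheory.Sites.CartesianMonoidal
import Mathlib.CategoryTheory.Sites.Sheafification
import Mathlib.CategoryTheory.Sites.Limits
import Mathlib.CategoryTheory.EquivalenceRelation
import Mathlib.CategoryTheory.Limits.Shapes.Pullback.IsPullback.Defs
import Groth.Agent.ShfCat16.Basic

set_option autoImplicit false
namespace CategoryTheory
end CategoryTheory
namespace CategoryTheory.Limits
end CategoryTheory.Limits
namespace MonoidalCategory
end MonoidalCategory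
open CategoryTheory CategoryTheory.Limits MonoidalCategory
universe w v₁ u₁
namespace ShfCat
end ShfCat
open ShfCat

namespace Groth.Agent.S6048

open CartesianMonoidalCategory SemiCartesianMonoidalCategory in
/-- For sheaves of sets on a site with sheafification: let `p₁, p₂ : R ⇉ X` be an equivalence relation
of sheaves with universally effective quotient `π : X ⟶ X/R` and `Y` a sheaf. (a) A subsheaf `Z ⊆ X
× Y` stable under `R × Y`, covering `Y`, and any two of whose points over the same point of `Y` are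
`R`-related, is the pullback of `π` along exactly one `f : Y ⟶ X/R`; (b) every `f : Y ⟶ X/R` arises
in this way. -/
theorem result {C : Type u₁} [Category.{v₁} C]
    (J : GrothendieckTopology C) [HasSheafify J (Type w)]
    {R X : Sheaf J (Type w)} {p₁ p₂ : R ⟶ X}
    (e : UniversallyEffectiveEquivalenceRelation p₁ p₂) (Y : Sheaf J (Type w)) :
    (∀ (Z : Sheaf J (Type w)) (ι : Z ⟶ X ⊗ Y), Mono ι →
      (∀ (W : Sheaf J (Type w)) (r : W ⟶ R) (y : W ⟶ Y),
        (∃ z : W ⟶ Z, z ≫ ι = lift (r ≫ p₁) y) ↔ (∃ z : W ⟶ Z, z ≫ ι = lift (r ≫ p₂) y)) →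
      Epi (ι ≫ snd X Y) →
      (∀ (W : Sheaf J (Type w)) (z₁ z₂ : W ⟶ Z), z₁ ≫ ι ≫ snd X Y = z₂ ≫ ι ≫ snd X Y →
        ∃ r : W ⟶ R, r ≫ p₁ = z₁ ≫ ι ≫ fst X Y ∧ r ≫ p₂ = z₂ ≫ ι ≫ fst X Y) →
      ∃! f : Y ⟶ e.B, IsPullback (ι ≫ fst X Y) (ι ≫ snd X Y) e.π f) ∧
    (∀ f : Y ⟶ e.B, ∃ (Z : Sheaf J (Type w)) (ι : Z ⟶ X ⊗ Y), Mono ι ∧
      (∀ (W : Sheaf J (Type w)) (r : W ⟶ R) (y : W ⟶ Y),
        (∃ z : W ⟶ Z, z ≫ ι = lift (r ≫ p₁) y) ↔ (∃ z : W ⟶ Z, z ≫ ι = lift (r ≫ p₂) y)) ∧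
      Epi (ι ≫ snd X Y) ∧
      (∀ (W : Sheaf J (Type w)) (z₁ z₂ : W ⟶ Z), z₁ ≫ ι ≫ snd X Y = z₂ ≫ ι ≫ snd X Y →
        ∃ r : W ⟶ R, r ≫ p₁ = z₁ ≫ ι ≫ fst X Y ∧ r ≫ p₂ = z₂ ≫ ι ≫ fst X Y) ∧
      IsPullback (ι ≫ fst X Y) (ι ≫ snd X Y) e.π f) := by
  haveI := Groth.Agent.ShfCat16.uee_epi e
  refine ⟨fun Z ι hι hst hep hrel => ?_, fun f => ?_⟩
  · haveI := hι
    haveI := hep
    haveI := Groth.Agent.ShfCat16.effectiveEpi_of_epi (ι ≫ snd X Y)
    have hcomp : ∀ {W : Sheaf J (Type w)} (z₁ z₂ : W ⟶ Z), z₁ ≫ (ι ≫ snd X Y) = z₂ ≫ (ι ≫ snd X Y) →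
        z₁ ≫ (ι ≫ fst X Y ≫ e.π) = z₂ ≫ (ι ≫ fst X Y ≫ e.π) := by
      intro W z₁ z₂ h
      obtain ⟨r, h₁, h₂⟩ := hrel W z₁ z₂ h
      have := r ≫= e.isKernelPair.w
      rw [← Category.assoc, ← Category.assoc, h₁, h₂] at this
      simpa only [Category.assoc] using this
    refine ⟨EffectiveEpi.desc (ι ≫ snd X Y) (ι ≫ fst X Y ≫ e.π) hcomp, ?_, fun f' hf' => ?_⟩
    · have hfac : (ι ≫ snd X Y) ≫ EffectiveEpi.desc (ι ≫ snd X Y) (ι ≫ fst X Y ≫ e.π) hcomp = (ι ≫ fst X Y) ≫ e.π :=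
        (EffectiveEpi.fac _ _ _).trans (Category.assoc _ _ _).symm
      generalize EffectiveEpi.desc (ι ≫ snd X Y) (ι ≫ fst X Y ≫ e.π) hcomp = f at hfac ⊢
      have hkey : ∀ (W : Sheaf J (Type w)) (x : W ⟶ X) (y : W ⟶ Y), x ≫ e.π = y ≫ f →
          ∃ l : W ⟶ Z, l ≫ ι = lift x y := by
        intro W x y hxy0
        obtain ⟨W', c, z, hc, hz⟩ := Groth.Agent.ShfCat16.exists_cover (ι ≫ snd X Y) y
        have hxy : (z ≫ ι ≫ fst X Y) ≫ e.π = (c ≫ x) ≫ e.π := by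
          rw [Category.assoc, ← hfac, ← Category.assoc z, hz, Category.assoc, Category.assoc c x, hxy0]
        obtain ⟨z', hz'⟩ := (hst W' (e.isKernelPair.lift _ _ hxy) (c ≫ y)).1 ⟨z, by
          ext
          · rw [lift_fst, e.isKernelPair.lift_fst, Category.assoc]
          · rw [lift_snd, ← hz, Category.assoc]⟩
        rw [e.isKernelPair.lift_snd, ← comp_lift] at hz'
        exact Groth.Agent.ShfCat16.exists_lift c ι (lift x y) z' hz'
      refine ⟨⟨hfac.symm⟩, ⟨PullbackCone.isLimitAux' _ fun s => ?_⟩⟩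
      let l := hkey _ s.fst s.snd s.condition
      refine ⟨l.choose, ?_, ?_, fun {m} h₁ h₂ => ?_⟩
      · show l.choose ≫ ι ≫ fst X Y = s.fst
        rw [← Category.assoc, l.choose_spec, lift_fst]
      · show l.choose ≫ ι ≫ snd X Y = s.snd
        rw [← Category.assoc, l.choose_spec, lift_snd]
      · have h₁' : (show s.pt ⟶ Z from m) ≫ ι ≫ fst X Y = s.fst := h₁
        have h₂' : (show s.pt ⟶ Z from m) ≫ ι ≫ snd X Y = s.snd := h₂
        show (show s.pt ⟶ Z from m) = l.choose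
        refine (cancel_mono ι).1 (Eq.trans ?_ l.choose_spec.symm)
        apply CartesianMonoidalCategory.hom_ext
        · rw [lift_fst, Category.assoc]; exact h₁'
        · rw [lift_snd, Category.assoc]; exact h₂'
    · rw [← cancel_epi (ι ≫ snd X Y), EffectiveEpi.fac, ← hf'.w, Category.assoc]
  · let ι : pullback e.π f ⟶ X ⊗ Y := lift (pullback.fst e.π f) (pullback.snd e.π f)
    have h₁ : ι ≫ fst X Y = pullback.fst e.π f := lift_fst _ _
    have h₂ : ι ≫ snd X Y = pullback.snd e.π f := lift_snd _ _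
    have hmem : ∀ {W : Sheaf J (Type w)} (x : W ⟶ X) (y : W ⟶ Y),
        (∃ z, z ≫ ι = lift x y) ↔ x ≫ e.π = y ≫ f := by
      intro W x y
      refine ⟨?_, fun h => ⟨pullback.lift x y h, by rw [comp_lift, pullback.lift_fst, pullback.lift_snd]⟩⟩
      rintro ⟨z, hz⟩
      have hx : z ≫ ι ≫ fst X Y = x := by rw [← Category.assoc, hz, lift_fst]
      have hy : z ≫ ι ≫ snd X Y = y := by rw [← Category.assoc, hz, lift_snd]
      rw [h₁] at hx; rw [h₂] at hy
      rw [← hx, ← hy, Category.assoc, Category.assoc, pullback.condition]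
    refine ⟨_, ι, ⟨fun a b h => ?_⟩, fun W r y => ?_, ?_, fun W z₁ z₂ h => ?_, ?_⟩
    · apply pullback.hom_ext
      · rw [← h₁, ← Category.assoc, h, Category.assoc]
      · rw [← h₂, ← Category.assoc, h, Category.assoc]
    · rw [hmem, hmem, Category.assoc, Category.assoc, e.isKernelPair.w]
    · rw [h₂]; exact Groth.Agent.ShfCat16.epi_of_isPullback (IsPullback.of_hasPullback e.π f)
    · rw [h₂] at h
      rw [h₁]
      refine ⟨e.isKernelPair.lift (z₁ ≫ pullback.fst e.π f) (z₂ ≫ pullback.fst e.π f) ?_,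
        e.isKernelPair.lift_fst .., e.isKernelPair.lift_snd ..⟩
      rw [Category.assoc, Category.assoc, pullback.condition, ← Category.assoc, h, Category.assoc]
    · rw [h₁, h₂]; exact IsPullback.of_hasPullback e.π f

end Groth.Agent.S6048
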