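import Groth.Statements.S6056
import Groth.Agent.RedQuotLib.Criterion

set_option autoImplicit false
open CategoryTheory CategoryTheory.Limits AlgebraicGeometry MonoidalCategory
universe u
open RedSub

namespace Groth.Agent.S6056

open MonObj CartesianMonoidalCategory SemiCartesianMonoidalCategory in
/-- For group schemes and fppf quotients: let `K ⊆ G` be a subgroup scheme and `H ⊆ K` a subgroup scheme
normal in `K`; suppose `G/H` is represented by `q_H : G ⟶ Q_H` and `K/H` by a homomorphism `K ⟶ K'`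
of group schemes, and let `act : Q_H ×_S K' ⟶ Q_H` be the right action induced by the multiplication
of `G`. Then: (i) if `G/K` is represented by `q_K : G ⟶ Q_K`, the map `Q_H ⟶ Q_K` under `G` is an
fppf covering whose kernel pair is `Q_H ×_S K' ⇉ Q_H` (projection, action), i.e. `Q_K =
(G/H)/(K/H)`; (ii) conversely, if `p : Q_H ⟶ Y` is an fppf covering with that kernel pair, then `q_H
≫ p` represents `G/K`. -/
theorem result {S : Scheme.{u}} {H K G QH Kb : Over S}
    [hH : GrpObj H] [hK : GrpObj K] [hG : GrpObj G] [hKb : GrpObj Kb]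
    (h : H ⟶ K) (k : K ⟶ G) [Mono h] [Mono k] [IsMonHom h] [IsMonHom k]
    (hn : AlgGrp.IsNormalHom h)
    (qH : G ⟶ QH) (hqH : RedSub.IsQuotient (h ≫ k) qH)
    (qKb : K ⟶ Kb) [IsMonHom qKb] (hqKb : RedSub.IsQuotient h qKb)
    (act : QH ⊗ Kb ⟶ QH) (hact : (qH ⊗ₘ qKb) ≫ act = (G ◁ k) ≫ μ[G] ≫ qH) :
    (∀ (QK : Over S) (qK : G ⟶ QK), RedSub.IsQuotient k qK →
      ∀ qbar : QH ⟶ QK, qH ≫ qbar = qK →
        Surjective qbar.left ∧ Flat qbar.left ∧ LocallyOfFinitePresentation qbar.left ∧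
          IsPullback (fst QH Kb) act qbar qbar) ∧
    (∀ (Y : Over S) (p : QH ⟶ Y),
      Surjective p.left → Flat p.left → LocallyOfFinitePresentation p.left →
      IsPullback (fst QH Kb) act p p → RedSub.IsQuotient k (qH ≫ p)) := by
  open Groth.Agent.RedQuotLib in
  open CartesianMonoidalCategory MonObj in
  have hcH := IsFppfCov.of_isQuotient hqH
  have hcK := IsFppfCov.of_isQuotient hqKb
  have hactp : ∀ {W : Over S} (a : W ⟶ G) (m : W ⟶ K),
      CartesianMonoidalCategory.lift (a ≫ qH) (m ≫ qKb) ≫ act = (a * (m ≫ k)) ≫ qH := by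
    intro W a m
    have e := CartesianMonoidalCategory.lift a m ≫= hact
    rw [← lift_map, Category.assoc, e, lift_whiskerLeft_assoc, Hom.mul_def, Category.assoc]
  refine ⟨fun QK qK hqK qbar hqbar => ?_, fun Y p hs hf hp hP => ?_⟩
  · have hb : IsFppfCov qbar := hcH.of_comp (by rw [hqbar]; exact IsFppfCov.of_isQuotient hqK)
    refine ⟨hb.1, hb.2.1, hb.2.2, isPullback_of_local ?_ ?_ ?_⟩
    · haveI := (hcH.tensor hcK).epi
      rw [← cancel_epi (qH ⊗ₘ qKb), tensorHom_fst_assoc, hqbar, reassoc_of% hact, hqbar]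
      have e := act_eq (i := k) (𝟙 (G ⊗ K))
      rw [Category.id_comp] at e
      rw [← reassoc_of% e.symm, mul_comp_eq hqK]
    · intro W u v h₁ h₂
      refine CartesianMonoidalCategory.hom_ext _ _ h₁ ?_
      obtain ⟨W₁, p₁, x, hp₁, hx⟩ := hcH.exists_lift (u ≫ fst QH Kb)
      obtain ⟨W₂, p₂, m, hp₂, hm⟩ := hcK.exists_lift (p₁ ≫ u ≫ snd QH Kb)
      obtain ⟨W₃, p₃, m', hp₃, hm'⟩ := hcK.exists_lift (p₂ ≫ p₁ ≫ v ≫ snd QH Kb)
      haveI := hp₁.epi
      haveI := hp₂.epi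
      haveI := hp₃.epi
      rw [← cancel_epi p₁, ← cancel_epi p₂, ← cancel_epi p₃, ← hm, ← hm']
      have eu : p₃ ≫ p₂ ≫ p₁ ≫ u =
          CartesianMonoidalCategory.lift ((p₃ ≫ p₂ ≫ x) ≫ qH) ((p₃ ≫ m) ≫ qKb) := by
        ext
        · simp [hx]
        · simp [hm]
      have ev : p₃ ≫ p₂ ≫ p₁ ≫ v =
          CartesianMonoidalCategory.lift ((p₃ ≫ p₂ ≫ x) ≫ qH) (m' ≫ qKb) := by
        ext
        · simp [hx, h₁]
        · simp [hm']
      have e2 := p₃ ≫= p₂ ≫= p₁ ≫= h₂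
      simp only [← Category.assoc] at e2
      simp only [Category.assoc p₃ p₂ p₁, Category.assoc p₃ (p₂ ≫ p₁), Category.assoc p₂ p₁,
        eu, ev, hactp] at e2
      obtain ⟨h₀, he⟩ := (comp_eq_iff hqH _ _).1 e2
      have e3 : m' = (p₃ ≫ m) * (h₀ ≫ h) := by
        rw [← cancel_mono k, MonObj.mul_comp, Category.assoc (h₀) h k]
        rw [_root_.mul_assoc] at he
        exact mul_left_cancel he
      rw [e3, mul_comp_eq hqKb, Category.assoc]
    · intro W a b e
      obtain ⟨W₁, p₁, x, hp₁, hx⟩ := hcH.exists_lift a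
      obtain ⟨W₂, p₂, y, hp₂, hy⟩ := hcH.exists_lift (p₁ ≫ b)
      obtain ⟨m, hm⟩ := (comp_eq_iff hqK (p₂ ≫ x) y).1 (by
        rw [← hqbar, Category.assoc, reassoc_of% hx, reassoc_of% hy, e])
      refine ⟨W₂, p₂ ≫ p₁, CartesianMonoidalCategory.lift ((p₂ ≫ x) ≫ qH) (m ≫ qKb),
        hp₂.comp hp₁, ?_, ?_⟩
      · rw [lift_fst, Category.assoc, hx, Category.assoc]
      · rw [hactp, ← hm, hy, Category.assoc]
  · have hc : IsFppfCov p := ⟨hs, hf, hp⟩
    refine isQuotient_of_local (hcH.comp hc) ?_ ?_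
    · intro W a m
      rw [← Category.assoc, ← hactp, Category.assoc, ← hP.w, lift_fst_assoc, Category.assoc]
    · intro W a b e
      simp only [← Category.assoc] at e
      obtain ⟨z, hz₁, hz₂⟩ := hP.exists_lift _ _ e
      obtain ⟨W₁, p₁, m, hp₁, hm⟩ := hcK.exists_lift (z ≫ snd QH Kb)
      obtain ⟨h₀, he⟩ := (comp_eq_iff hqH ((p₁ ≫ a) * (m ≫ k)) (p₁ ≫ b)).1 (by
        rw [← hactp, hm, Category.assoc, ← hz₁, ← comp_lift, Category.assoc,
          Category.assoc p₁ b, ← hz₂]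
        rw [show CartesianMonoidalCategory.lift (z ≫ fst QH Kb) (z ≫ snd QH Kb) = z from by
          ext <;> simp])
      refine ⟨W₁, p₁, m * (h₀ ≫ h), hp₁, ?_⟩
      rw [he, MonObj.mul_comp, Category.assoc h₀ h k, _root_.mul_assoc]

end Groth.Agent.S6056
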