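import Groth.Prelude.Def_W4sga3iivvp2RelPsh
import Mathlib.CategoryTheory.Sites.Over
import Mathlib.CategoryTheory.Sites.SheafOfTypes
import Mathlib.CategoryTheory.Sites.Over

set_option autoImplicit false
namespace CategoryTheory
end CategoryTheory
open CategoryTheory Opposite
universe v₁ u₁
namespace ShfCat
end ShfCat
open ShfCat

namespace Groth.Agent.S6057

/-- Let `S` be an object whose representable presheaf is a sheaf for `J` and `φ : F ⟶ h_S` a morphism of
presheaves of sets. The relative presheaf on `C/S` (sections of `F` over `T` lying over the given `T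
⟶ S`) is separated (resp. a sheaf) for the induced topology on `C/S` if and only if `F` is separated
(resp. a sheaf). -/
theorem result {C : Type u₁} [Category.{v₁} C] (J : GrothendieckTopology C)
    {S : C} (hS : Presieve.IsSheaf J (yoneda.obj S)) {F : Cᵒᵖ ⥤ Type v₁} (φ : F ⟶ yoneda.obj S) :
    (Presieve.IsSeparated (J.over S) (ShfCat.relPsh φ) ↔ Presieve.IsSeparated J F) ∧
    (Presieve.IsSheaf (J.over S) (ShfCat.relPsh φ) ↔ Presieve.IsSheaf J F) := by
  have key : ∀ (T : Over S) (R : Sieve T), R ∈ J.over S T → Sieve.overEquiv T R ∈ J T.left := fun T R h =>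
    (J.mem_over_iff R).1 h
  have key' : ∀ (T : Over S) (R : Sieve T.left), R ∈ J T.left → (Sieve.overEquiv T).symm R ∈ J.over S T :=
    fun T R h => (J.mem_over_iff _).2 (by convert h; exact (Sieve.overEquiv T).apply_symm_apply R)
  -- gluing of the structure morphisms
  have nat : ∀ {X Y : C} (g : Y ⟶ X) (a : F.obj (op X)), φ.app (op Y) (F.map g.op a) = g ≫ φ.app (op X) a :=
    fun g a => NatTrans.naturality_apply φ g.op a
  have sep : Presieve.IsSeparated (J.over S) (ShfCat.relPsh φ) ↔ Presieve.IsSeparated J F := by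
    constructor
    · intro h X R hR x t₁ t₂ h₁ h₂
      have e : φ.app (op X) t₁ = φ.app (op X) t₂ := by
        refine (hS R hR).isSeparatedFor.ext fun Y g hg => ?_
        change g ≫ φ.app (op X) t₁ = g ≫ φ.app (op X) t₂
        rw [← nat, ← nat, h₁ g hg, h₂ g hg]
      let T : Over S := Over.mk (φ.app (op X) t₁)
      let a₁ : (ShfCat.relPsh φ).obj (op T) := ⟨t₁, rfl⟩
      let a₂ : (ShfCat.relPsh φ).obj (op T) := ⟨t₂, e.symm⟩
      have := (h ((Sieve.overEquiv T).symm R) (key' T R hR)).ext (t₁ := a₁) (t₂ := a₂) fun V g hg => by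
        rw [Sieve.overEquiv_symm_iff] at hg
        exact Subtype.ext ((h₁ g.left hg).trans (h₂ g.left hg).symm)
      exact congrArg Subtype.val this
    · intro h T R hR x t₁ t₂ h₁ h₂
      refine Subtype.ext ((h _ (key T R hR)).ext fun Y g hg => ?_)
      rw [Sieve.overEquiv_iff] at hg
      have a := congrArg Subtype.val (h₁ _ hg)
      have b := congrArg Subtype.val (h₂ _ hg)
      exact a.trans b.symm
  refine ⟨sep, fun h X R hR x hx => ?_, fun h T R hR x hx => ?_⟩
  · have hy : Presieve.FamilyOfElements.Compatible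
        (fun Y g hg => φ.app (op Y) (x g hg) : Presieve.FamilyOfElements (yoneda.obj S) R.arrows) := by
      intro Y₁ Y₂ Z g₁ g₂ f₁ f₂ k₁ k₂ e
      change g₁ ≫ φ.app (op Y₁) (x f₁ k₁) = g₂ ≫ φ.app (op Y₂) (x f₂ k₂)
      rw [← nat, ← nat, hx g₁ g₂ k₁ k₂ e]
    obtain ⟨m, hm, -⟩ := hS R hR _ hy
    let T : Over S := Over.mk m
    have hmem : ∀ {V : Over S} (g : V ⟶ T) (hg : R g.left), φ.app (op V.left) (x g.left hg) = V.hom :=
      fun {V} g hg => (hm g.left hg).symm.trans (Over.w g)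
    let x' : Presieve.FamilyOfElements (ShfCat.relPsh φ) ((Sieve.overEquiv T).symm R).arrows := fun V g hg =>
      ⟨x g.left ((Sieve.overEquiv_symm_iff R g).1 hg), hmem g _⟩
    have hx' : x'.Compatible := fun Y₁ Y₂ Z g₁ g₂ f₁ f₂ k₁ k₂ e =>
      Subtype.ext (hx g₁.left g₂.left _ _ congr($(e).left))
    obtain ⟨t, ht, -⟩ := h _ (key' T R hR) x' hx'
    have ht' : ∀ Y g (hg : R.arrows g), F.map g.op t.1 = x (Y := Y) g hg := fun Y g hg => by
      let k : Over.mk (g ≫ m) ⟶ T := Over.homMk g rfl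
      exact congrArg Subtype.val (ht k ((Sieve.overEquiv_symm_iff R k).2 hg))
    exact ⟨t.1, ht', fun t' ht'' => (sep.1 h.isSeparated R hR).ext fun Y g hg =>
      (ht'' g hg).trans (ht' Y g hg).symm⟩
  · let x₀ : Presieve.FamilyOfElements F (Sieve.overEquiv T R).arrows := fun Y g hg =>
      (x (Over.homMk g rfl : Over.mk (g ≫ T.hom) ⟶ T) ((Sieve.overEquiv_iff R g).1 hg)).1
    have hx₀ : x₀.Compatible := by
      intro Y₁ Y₂ Z g₁ g₂ f₁ f₂ k₁ k₂ e
      exact congrArg Subtype.val (hx (Over.homMk g₁ rfl : Over.mk (g₁ ≫ f₁ ≫ T.hom) ⟶ Over.mk (f₁ ≫ T.hom))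
        (Over.homMk g₂ (by change g₂ ≫ f₂ ≫ T.hom = g₁ ≫ f₁ ≫ T.hom; rw [← Category.assoc, ← e, Category.assoc]) :
          Over.mk (g₁ ≫ f₁ ≫ T.hom) ⟶ Over.mk (f₂ ≫ T.hom))
        ((Sieve.overEquiv_iff R f₁).1 k₁) ((Sieve.overEquiv_iff R f₂).1 k₂) (by ext; exact e))
    obtain ⟨t, ht, hu⟩ := h _ (key T R hR) x₀ hx₀
    have hval : ∀ {V : Over S} (g : V ⟶ T) (hg : R g), F.map g.left.op t = (x g hg).1 := fun {V} g hg => by
      have hg' : Sieve.overEquiv T R g.left := by
        rw [Sieve.overEquiv_iff]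
        have := R.downward_closed hg (Over.homMk (𝟙 _) (by simp) : Over.mk (g.left ≫ T.hom) ⟶ V)
        convert this using 1
        ext
        simp
      refine (ht g.left hg').trans ?_
      let i : V ⟶ Over.mk (g.left ≫ T.hom) := Over.homMk (𝟙 _) (by simp)
      have := congrArg Subtype.val (hx i (𝟙 V) ((Sieve.overEquiv_iff R g.left).1 hg') hg (by ext; simp [i]))
      change F.map (𝟙 V.left).op _ = F.map (𝟙 V.left).op _ at this
      simpa [x₀] using this
    have hφ : φ.app (op T.left) t = T.hom := by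
      refine (hS _ (key T R hR)).isSeparatedFor.ext fun Y g hg => ?_
      change g ≫ φ.app (op T.left) t = g ≫ T.hom
      rw [← nat, ht g hg]
      exact (x (Over.homMk g rfl : Over.mk (g ≫ T.hom) ⟶ T) ((Sieve.overEquiv_iff R g).1 hg)).2
    exact ⟨⟨t, hφ⟩, fun V g hg => Subtype.ext (hval g hg),
      fun t' ht' => Subtype.ext (hu t'.1 fun Y g hg => congrArg Subtype.val
        (ht' (Over.homMk g rfl : Over.mk (g ≫ T.hom) ⟶ T) ((Sieve.overEquiv_iff R g).1 hg)))⟩

end Groth.Agent.S6057
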