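import Groth.Statements.S6058
import Groth.Agent.IsoTriv.TorsionClopen

set_option autoImplicit false
universe u
open TensorProduct SGA3b
open SGA3b

namespace Groth.Agent.S6058

/-- Let A be a Noetherian ring, separated and complete for the I-adic topology, and H = Spec C a
commutative affine A-group (C cocommutative) with C flat and of finite type over A, such that the
reduction H₀ = Spec ((A/I) ⊗ C) is an isotrivial (A/I)-group of multiplicative type and such that
for every n > 0 the kernel ₙH = Spec (C/Jₙ) of the n-th power map is finite over A (Jₙ the ideal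
generated by the image of the augmentation ideal under the n-th power endomorphism). Then H is an
isotrivial A-group of multiplicative type. (Affine group schemes over an affine base are taken in
Hopf-algebra form; base change is the tensor product.) -/
theorem result (A : Type u) [CommRing A] [IsNoetherianRing A] (I : Ideal A) [IsAdicComplete I A]
    (C : Type u) [CommRing C] [HopfAlgebra A C] [Coalgebra.IsCocomm A C] [Module.Flat A C] (hft : Algebra.FiniteType A C)
    (h0 : IsIsotrivial (A ⧸ I) ((A ⧸ I) ⊗[A] C))
    (hfin : ∀ n : ℕ, 0 < n → Module.Finite A (C ⧸ torsionIdeal A C n)) :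
    IsIsotrivial A C := by
  obtain ⟨e, A', _, _, N, _, he, hspan, het, hfin', hff, -, Φ, hΦ, hK⟩ :=
    Groth.Agent.IsoTriv.exists_clopen_isotrivial I hft (fun n => inferInstance) h0
  have := het
  have := hfin'
  have := hff
  have := hft
  have heI : e ∈ I.map (algebraMap A C) := by
    have h1 : e ∈ Groth.Agent.IsoTriv.formalIdeal I C := hspan ▸ Ideal.mem_span_singleton_self e
    have h2 := (Groth.Agent.IsoTriv.mem_formalIdeal I).mp h1 1
    rwa [pow_one] at h2
  have h0e : e = 0 := Groth.Agent.IsoTriv.eq_zero_of_torsion A' Φ hΦ he hK fun n hn => by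
    have := hfin n hn
    exact Groth.Agent.IsoTriv.mem_of_finite_quotient I (IsAdicComplete.le_jacobson_bot I) _ he heI
  refine ⟨A', inferInstance, inferInstance, het, inferInstance, hff, N, inferInstance, ⟨BialgEquiv.ofBijective Φ
    ⟨(RingHom.injective_iff_ker_eq_bot (Φ : A' ⊗[A] C →ₐ[A'] MonoidAlgebra A' N).toRingHom).mpr ?_, hΦ⟩⟩⟩
  refine hK.trans ?_
  rw [h0e, Ideal.span_singleton_eq_bot.mpr rfl, Ideal.map_bot]

end Groth.Agent.S6058
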