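import Groth.Statements.S6059
import Groth.Agent.SGA3cLib.MonoNhd

set_option autoImplicit false
open CategoryTheory MonoidalCategory CartesianMonoidalCategory MonObj GrpObj AlgebraicGeometry
universe u
open SGA3x

namespace Groth.Agent.S6059

/-- Let u : H ⟶ G be a homomorphism of S-groups, with H of multiplicative type and of finite type and G
separated over S, and suppose S locally Noetherian or G locally of finite presentation over S. If s
∈ S is a point such that u_s : H_s ⟶ G_s is a monomorphism, then there is an open neighbourhood U of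
s such that the homomorphism H|_U ⟶ G|_U induced above U is a monomorphism. -/
theorem result {S : Scheme.{u}} (H G : Over S) [GrpObj H] [GrpObj G]
    (hH : SGA3x.IsMultTypeFT H) [IsSeparated G.hom] (hG : IsLocallyNoetherian S ∨ LocallyOfFinitePresentation G.hom)
    (u : H ⟶ G) [IsMonHom u] (s : S)
    (hs : Mono ((Over.pullback (S.fromSpecResidueField s)).map u).left) :
    ∃ U : S.Opens, s ∈ U ∧ Mono ((Over.pullback U.ι).map u).left := by
  obtain ⟨U, hU, hUT⟩ := Agent.SGA3cLib.MonoNhd.exists_open u hH
  exact ⟨U, (hU s).mpr (Agent.SGA3cLib.MonoNhd.kTriv_of_mono u _ hs), Agent.SGA3cLib.MonoNhd.mono_of_kTriv u _ hUT⟩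

end Groth.Agent.S6059
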