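import Groth.Statements.S6060
import Groth.Agent.SGA3cLib.NearOpen

set_option autoImplicit false
open CategoryTheory MonoidalCategory CartesianMonoidalCategory MonObj GrpObj AlgebraicGeometry
universe u
open SGA3x

namespace Groth.Agent.S6060

/-- Let G be an S-group, suppose S locally Noetherian or G of finite presentation over S, and let i₁ :
H₁ ⟶ G, i₂ : H₂ ⟶ G be two sub-group-schemes (homomorphisms which are immersions) of multiplicative
type and of finite type. Let s ∈ S be a point such that the fibre (H₁)_s is central in G_s (every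
point of G_s commutes with every point of (H₁)_s) and (H₁)_s = (H₂)_s as subgroups of G_s (an
isomorphism of the fibres compatible with the inclusions). Then there is an open neighbourhood U of
s such that H₁|_U = H₂|_U as subgroups of G|_U. -/
theorem result {S : Scheme.{u}} (G H₁ H₂ : Over S) [GrpObj G] [GrpObj H₁] [GrpObj H₂]
    (hG : IsLocallyNoetherian S ∨ (LocallyOfFinitePresentation G.hom ∧ QuasiCompact G.hom ∧ QuasiSeparated G.hom))
    (h₁ : SGA3x.IsMultTypeFT H₁) (h₂ : SGA3x.IsMultTypeFT H₂)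
    (i₁ : H₁ ⟶ G) [IsMonHom i₁] [IsImmersion i₁.left] (i₂ : H₂ ⟶ G) [IsMonHom i₂] [IsImmersion i₂.left] (s : S)
    (hc : ∀ (X : Over (Spec (S.residueField s))) (g : X ⟶ Red.bc (S.fromSpecResidueField s) G)
      (h : X ⟶ Red.bc (S.fromSpecResidueField s) H₁),
      g * (h ≫ (Over.pullback (S.fromSpecResidueField s)).map i₁) = (h ≫ (Over.pullback (S.fromSpecResidueField s)).map i₁) * g)
    (hs : ∃ ψ : Red.bc (S.fromSpecResidueField s) H₁ ≅ Red.bc (S.fromSpecResidueField s) H₂,
      ψ.hom ≫ (Over.pullback (S.fromSpecResidueField s)).map i₂ = (Over.pullback (S.fromSpecResidueField s)).map i₁) :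
    ∃ U : S.Opens, s ∈ U ∧ ∃ ψ : Red.bc U.ι H₁ ≅ Red.bc U.ι H₂,
      ψ.hom ≫ (Over.pullback U.ι).map i₂ = (Over.pullback U.ι).map i₁ := by
  haveI : Mono i₁.left := inferInstance
  haveI : Mono i₂.left := inferInstance
  obtain ⟨U, hsU, hU⟩ := Groth.Agent.SGA3cLib.Near.exists_open_good i₁ i₂
    (hG.imp id fun ⟨h, _, hq⟩ => ⟨@AlgebraicGeometry.instLocallyOfFiniteTypeOfLocallyOfFinitePresentation _ _ _ h, hq⟩)
    h₁ h₂ s (fun Y p g h => Groth.Agent.SGA3cLib.CentralFib.commute_of_bc i₁ _ hc (𝟙 _) (Category.id_comp _) Y p g h)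
    ((Groth.Agent.SGA3cLib.CentralEq.good_iff i₁ i₂ _).mpr hs)
  exact ⟨U, hsU, (Groth.Agent.SGA3cLib.CentralEq.good_iff i₁ i₂ _).mp hU⟩

end Groth.Agent.S6060
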