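import Groth.Statements.S6061
import Groth.Agent.SGA3cLib.HomTwConst
import Groth.Agent.SGA3cLib.GrpBC

set_option autoImplicit false
open CategoryTheory MonoidalCategory CartesianMonoidalCategory MonObj GrpObj AlgebraicGeometry
universe u
open SGA3x

namespace Groth.Agent.S6061


open CategoryTheory.Limits

/-- Representability; the twisted-constant structure is asserted at the level of S-schemes: Let H and G
be quasi-isotrivial S-groups of multiplicative type — etale-locally on S isomorphic, as group
schemes, to diagonalisable groups D(M), with M finitely generated in the case of G (G of finite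
type). Then the functor of group homomorphisms from H to G is representable, by an S-scheme which is
a quasi-isotrivial twisted constant S-scheme (etale-locally constant). The character groups M range
over Type 0, as in the prelude's D_S(M). (The published statement also asserts that the representing
object is a twisted constant group of type Hom(M, N), M and N the types of G and H respectively;
this row asserts only the scheme-level twisted constant structure, without the group structure or
the type.) -/
theorem result {S : Scheme.{u}} (H G : Over S) [GrpObj H] [GrpObj G]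
    (hH : TwC.Locally S TwC.Topology.etale (fun S' f => ∃ (M : Type) (_ : AddCommGroup M),
      Nonempty (Grp.mk (Red.bc f H) ≅ Grp.mk (Red.DS S' M))))
    (hG : TwC.Locally S TwC.Topology.etale (fun S' f => ∃ (M : Type) (_ : AddCommGroup M),
      AddGroup.FG M ∧ Nonempty (Grp.mk (Red.bc f G) ≅ Grp.mk (Red.DS S' M)))) :
    ∃ (A : Over S) (υ : H ⊗ A ⟶ G), AutFam.RepresentsHom H G A υ ∧ TwC.IsTwConst TwC.Topology.etale A := by
  refine SGA3cLib.HomTwConst.exists_twConst (fun s => ?_)
  obtain ⟨U₁, q₁, hq₁, ⟨u₁, hu₁⟩, M, _, ⟨e₁⟩⟩ := hH s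
  obtain ⟨U₂, q₂, hq₂, ⟨u₂, hu₂⟩, N, _, hN, ⟨e₂⟩⟩ := hG s
  obtain ⟨t, ht, -⟩ := Scheme.Pullback.exists_preimage_pullback (f := q₁) (g := q₂) u₁ u₂ (hu₁.trans hu₂.symm)
  let q := pullback.fst q₁ q₂ ≫ q₁
  obtain ⟨e, he, -⟩ := SGA3cLib.GrpBC.nonempty_iso_restrict q₁ (pullback.fst q₁ q₂) q rfl H e₁
  obtain ⟨d, hd, -⟩ := SGA3cLib.GrpBC.nonempty_iso_restrict q₂ (pullback.snd q₁ q₂) q pullback.condition.symm G e₂
  haveI : Etale (pullback.fst q₁ q₂) := MorphismProperty.pullback_fst (P := @Etale) _ _ hq₂
  exact ⟨_, q, MorphismProperty.comp_mem @Etale _ _ inferInstance hq₁, ⟨t, by rw [← hu₁, ← ht]; rfl⟩, M, N, _, _, hN,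
    e, d, he, hd⟩

end Groth.Agent.S6061
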