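import Groth.Statements.S6063
import Groth.Agent.EGA43.Separating.ModNilp
import Groth.Agent.EGA43.Separating.DominantBC

set_option autoImplicit false
set_option linter.style.haveILetI false
set_option backward.isDefEq.respectTransparency.types false
universe u
open CategoryTheory AlgebraicGeometry
open TensorProduct
open SGA3x
open CategoryTheory.Limits

namespace Groth.Agent.S6063

open CategoryTheory.Limits in
/-- Over an affine base with free successive quotients. Let A be a ring, J a nilpotent ideal of A such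
that every quotient J^k/J^(k+1) is a free (A/J)-module, p : X ⟶ Spec A a flat morphism and (v_i :
Z_i ⟶ X) a family of subschemes of X (immersions) with every Z_i flat over Spec A. If the family of
reductions Z_i ×_A (A/J) ⟶ X ×_A (A/J) is schematically dense, i.e. a section of the structure sheaf
of X ×_A (A/J) over an open subset whose pullback to every member vanishes is zero, then the family
(v_i) is schematically dense in X in the same sense. (The published statement has an arbitrary base
S and a nilpotent quasi-coherent ideal of the structure sheaf whose successive quotients are locally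
free modulo the ideal; the assertion is local on S and on X, and this row is the case of an affine
base with free successive quotients.) -/
theorem result {X : Scheme.{u}} (A : CommRingCat.{u}) (p : X ⟶ Spec A) [Flat p]
    (J : Ideal ↑A) (hJ : IsNilpotent J) (hfree : ∀ k : ℕ, Module.Free (↑A ⧸ J) ((↑A ⧸ J) ⊗[↑A] ↥(J ^ k)))
    {ι : Type u} (Z : ι → Scheme.{u}) (v : ∀ i, Z i ⟶ X) [∀ i, IsImmersion (v i)] [∀ i, Flat (v i ≫ p)]
    (h0 : ∀ (V : (pullback p (Spec.map (CommRingCat.ofHom (Ideal.Quotient.mk J)))).Opens) (t : Γ(pullback p (Spec.map (CommRingCat.ofHom (Ideal.Quotient.mk J))), V)),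
      (∀ i, (pullback.map (v i ≫ p) (Spec.map (CommRingCat.ofHom (Ideal.Quotient.mk J))) p (Spec.map (CommRingCat.ofHom (Ideal.Quotient.mk J))) (v i) (𝟙 _) (𝟙 _)
        (Category.comp_id _) ((Category.comp_id _).trans (Category.id_comp _).symm)).app V t = 0) → t = 0) :
    ∀ (V : X.Opens) (t : Γ(X, V)), (∀ i, (v i).app V t = 0) → t = 0 := by
  intro V t ht
  refine Agent.EGA43.Separating.eq_zero_of_locally t fun x hx => ?_
  obtain ⟨U, hU, hxU, hUV₀⟩ := exists_isAffineOpen_mem_and_subset (X := X) (x := x) (U := V) hx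
  have hUV : U ≤ V := hUV₀
  let R := Γ(X, U)
  let a : Spec (.of R) ⟶ X := hU.fromSpec
  letI : Algebra A R := (Spec.preimage (a ≫ p)).hom.toAlgebra
  have ha : a ≫ p = Spec.map (CommRingCat.ofHom (algebraMap A R)) ≫ 𝟙 (Spec A) := by
    exact (Spec.map_preimage (a ≫ p)).symm.trans (Category.comp_id _).symm
  let κ : ι → Type u := fun i => {W : (Z i).affineOpens // W.1 ≤ v i ⁻¹ᵁ U}
  let C : (Σ i, κ i) → Type u := fun j => Γ(Z j.1, j.2.1.1)
  letI : ∀ j : Σ i, κ i, Algebra R (C j) := fun j => ((v j.1).appLE U j.2.1.1 j.2.2).hom.toAlgebra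
  letI : ∀ j : Σ i, κ i, Algebra A (C j) := fun j => ((algebraMap R (C j)).comp (algebraMap A R)).toAlgebra
  haveI : ∀ j : Σ i, κ i, IsScalarTower A R (C j) := fun j => .of_algebraMap_eq fun _ => rfl
  let w : ∀ j : Σ i, κ i, Spec (.of (C j)) ⟶ Z j.1 := fun j => j.2.1.2.fromSpec
  have hw : ∀ j, w j ≫ v j.1 = Spec.map (CommRingCat.ofHom (algebraMap R (C j))) ≫ a := fun j =>
    (hU.SpecMap_appLE_fromSpec (v j.1) j.2.1.2 j.2.2).symm
  have hrange : Set.range a = (U : Set X) := hU.range_fromSpec
  have hcov : ∀ i (z : Z i), v i z ∈ Set.range a → ∃ k : κ i, z ∈ Set.range (w ⟨i, k⟩) := fun i z hz => by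
    rw [hrange] at hz
    obtain ⟨W, hW, hzW, hWle⟩ := exists_isAffineOpen_mem_and_subset (X := Z i) (x := z) (U := v i ⁻¹ᵁ U) hz
    refine ⟨⟨⟨W, hW⟩, hWle⟩, ?_⟩
    show z ∈ Set.range hW.fromSpec
    rw [hW.range_fromSpec]
    exact hzW
  haveI : ∀ j : Σ i, κ i, Module.Flat A (C j) := fun j => by
    haveI : Flat (v j.1 ≫ p) := inferInstance
    have e : Spec.map (CommRingCat.ofHom (algebraMap A (C j))) = w j ≫ v j.1 ≫ p := by
      rw [← Category.assoc, hw, Category.assoc, ha]
      refine Eq.trans ?_ (congrArg (Spec.map (CommRingCat.ofHom (algebraMap R (C j))) ≫ ·) (Category.comp_id _)).symm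
      exact Spec.map_comp _ _
    haveI : Flat (Spec.map (CommRingCat.ofHom (algebraMap A (C j)))) := by rw [e]; infer_instance
    exact RingHom.flat_algebraMap_iff.1 ((HasRingHomProperty.Spec_iff (P := @Flat)).1 inferInstance)
  have hb : 𝟙 (Spec (CommRingCat.of (↑A ⧸ J))) ≫ Spec.map (CommRingCat.ofHom (Ideal.Quotient.mk J)) =
      Spec.map (CommRingCat.ofHom (algebraMap A (↑A ⧸ J))) ≫ 𝟙 (Spec A) := by
    exact (Category.id_comp _).trans (Category.comp_id _).symm
  have h1 := Agent.EGA43.Separating.sepAt_of_schDom p (Spec.map (CommRingCat.ofHom (Ideal.Quotient.mk J))) v a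
    (𝟙 _) (𝟙 _) ha hb w hw hcov h0
  have hsep := (Agent.EGA43.Separating.sep_iff_mul C).1 (Agent.EGA43.Separating.sep_of_sepAt_quot J hJ hfree h1)
  refine ⟨U, hUV, hxU, ?_⟩
  have hD : a ⁻¹ᵁ U = (Spec (.of R)).basicOpen (Agent.EGA43.Separating.gs (1 : R)) := by
    rw [show Agent.EGA43.Separating.gs (1 : R) = 1 from map_one _, Scheme.basicOpen_of_isUnit _ isUnit_one]
    exact hU.fromSpec_preimage_self
  let s : Γ(Spec (.of R), (Spec (.of R)).basicOpen (Agent.EGA43.Separating.gs (1 : R))) :=
    (Spec (.of R)).presheaf.map (eqToHom hD.symm).op (a.app U (X.presheaf.map (homOfLE hUV).op t))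
  have hs : s = 0 := by
    refine Agent.EGA43.Separating.eq_zero_of_sep R C hsep 1 s fun j => ?_
    have h2 : (v j.1).app U (X.presheaf.map (homOfLE hUV).op t) = 0 := by
      rw [Agent.EGA43.app_map, ht j.1, map_zero]
    have h3 : (Spec.map (CommRingCat.ofHom (algebraMap R (C j))) ≫ a).app U (X.presheaf.map (homOfLE hUV).op t) = 0 := by
      rw [← hw]
      exact Agent.EGA43.Separating.app_comp_eq_zero _ _ _ h2
    rw [Agent.EGA43.Separating.app_app] at h3
    show (Spec.map (CommRingCat.ofHom (algebraMap R (C j)))).app _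
      ((Spec (.of R)).presheaf.map (eqToHom hD.symm).op (a.app U (X.presheaf.map (homOfLE hUV).op t))) = 0
    rw [← CommRingCat.comp_apply, Scheme.Hom.naturality, CommRingCat.comp_apply, h3]
    exact map_zero _
  haveI := a.isIso_app U hU.opensRange_fromSpec.ge
  apply (ConcreteCategory.bijective_of_isIso (a.app U)).1
  rw [map_zero]
  exact (ConcreteCategory.bijective_of_isIso ((Spec (.of R)).presheaf.map (eqToHom hD.symm).op)).1
    (hs.trans (map_zero _).symm)

end Groth.Agent.S6063
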