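import Groth.Statements.S6065
import Groth.Agent.Dense26.PowerKernel

set_option autoImplicit false
set_option linter.style.haveILetI false
set_option backward.isDefEq.respectTransparency.types false
open CategoryTheory MonoidalCategory CartesianMonoidalCategory MonObj GrpObj AlgebraicGeometry
universe u
open SGA3x
open CategoryTheory.Limits

namespace Groth.Agent.S6065

/-- Let S be a locally Noetherian scheme, H a commutative S-group which is of finite type over S, and E
a nonempty set of integers n > 0 stable under multiplication, such that: a) for every n ∈ E the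
kernel ₙH of the n-th power map of H (the pullback of the unit section along that map) is finite and
flat over S; b) for every s ∈ S the family of fibres (ₙH)_s ⟶ H_s, n ∈ E, is schematically dense in
H_s (a section of the structure sheaf of H_s over an open subset whose pullback to every (ₙH)_s
vanishes is zero). Let Y be a closed subscheme of H. Then the functor on S-schemes whose value at S'
⟶ S is a point when H ×_S S' ⟶ H factors through Y and empty otherwise is representable by a closed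
subscheme T of S; and if S is Noetherian there is n ∈ E such that, for every S' ⟶ S, H ×_S S' ⟶ H
factors through Y if and only if ₙH ×_S S' ⟶ H does. -/
theorem result {S : Scheme.{u}} [IsLocallyNoetherian S]
    (H : Over S) [GrpObj H] [IsCommMonObj H] [LocallyOfFiniteType H.hom] [QuasiCompact H.hom]
    (E : Set ℕ) (hE : E.Nonempty) (hE0 : ∀ n ∈ E, 0 < n) (hEmul : ∀ m ∈ E, ∀ n ∈ E, m * n ∈ E)
    (ha : ∀ n ∈ E, IsFinite ((pullback.snd η[H].left (𝟙 H ^ n : H ⟶ H).left) ≫ H.hom) ∧ Flat ((pullback.snd η[H].left (𝟙 H ^ n : H ⟶ H).left) ≫ H.hom))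
    (hb : ∀ (s : S) (V : (H.hom.fiber s).Opens) (t : Γ(H.hom.fiber s, V)),
      (∀ n ∈ E, (MoreMor.fiberMap (pullback.snd η[H].left (𝟙 H ^ n : H ⟶ H).left) H.hom s).app V t = 0) → t = 0)
    (Y : Scheme.{u}) (y : Y ⟶ H.left) [IsClosedImmersion y] :
    (∃ (T : Scheme.{u}) (t : T ⟶ S), IsClosedImmersion t ∧
      ∀ (S' : Scheme.{u}) (g : S' ⟶ S), (∃ g' : S' ⟶ T, g' ≫ t = g) ↔
        ∃ l : pullback H.hom g ⟶ Y, l ≫ y = pullback.fst H.hom g) ∧
    (AlgebraicGeometry.IsNoetherian S → ∃ n ∈ E, ∀ (S' : Scheme.{u}) (g : S' ⟶ S),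
      (∃ l : pullback H.hom g ⟶ Y, l ≫ y = pullback.fst H.hom g) ↔
        ∃ l : pullback ((pullback.snd η[H].left (𝟙 H ^ n : H ⟶ H).left) ≫ H.hom) g ⟶ Y,
          l ≫ y = pullback.fst ((pullback.snd η[H].left (𝟙 H ^ n : H ⟶ H).left) ≫ H.hom) g ≫ (pullback.snd η[H].left (𝟙 H ^ n : H ⟶ H).left)) := by
  haveI := LocallyOfFiniteType.isLocallyNoetherian H.hom
  let f := fun i : ULift.{u} E => Agent.Dense26.powKerι H i.down.1
  let y' := pullback.snd y (pullback.fst H.hom (𝟙 S))
  haveI : IsClosedImmersion y' := MorphismProperty.pullback_snd (P := @IsClosedImmersion) _ _ inferInstance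
  obtain ⟨T, t, ht, hT, hN⟩ := Agent.Dense26.exists_locus (p := H.hom) (q := 𝟙 S) (y := y') (f := f)
    (fun i => (ha _ i.down.2).1) (fun i => (ha _ i.down.2).2)
    (fun i => by
      haveI := (ha _ i.down.2).1
      exact LocallyOfFinitePresentation.iff_locallyOfFiniteType.2 inferInstance)
    (fun g => Agent.Dense26.schDom_powKer ha hb g)
  have hAll : ∀ {S' : Scheme.{u}} (x g : S' ⟶ S), x ≫ 𝟙 S = g →
      (Agent.Dense26.AllIn H.hom (𝟙 S) y' x ↔ ∃ l : pullback H.hom g ⟶ Y, l ≫ y = pullback.fst H.hom g) := by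
    rintro S' x _ rfl
    constructor
    · rintro ⟨l, hl⟩
      refine ⟨l ≫ pullback.fst _ _, ?_⟩
      rw [Category.assoc, pullback.condition, reassoc_of% hl]
      exact pullback.lift_fst _ _ _
    · rintro ⟨l, hl⟩
      exact ⟨pullback.lift l (Agent.Dense26.can _ _ x) (hl.trans (pullback.lift_fst _ _ _).symm), pullback.lift_snd _ _ _⟩
  have hPiece : ∀ (i : ULift.{u} E) {S' : Scheme.{u}} (x g : S' ⟶ S), x ≫ 𝟙 S = g →
      (Agent.Dense26.PieceIn H.hom (𝟙 S) y' f i x ↔ ∃ l : pullback (f i ≫ H.hom) g ⟶ Y,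
        l ≫ y = pullback.fst (f i ≫ H.hom) g ≫ f i) := by
    rintro i S' x _ rfl
    have e : (Agent.EGA43.Separating.bcFam H.hom (x ≫ 𝟙 S) f i ≫ Agent.Dense26.can H.hom (𝟙 S) x) ≫
        pullback.fst H.hom (𝟙 S) = pullback.fst (f i ≫ H.hom) (x ≫ 𝟙 S) ≫ f i := by
      simp only [Agent.Dense26.can, Agent.EGA43.Separating.bcFam, Category.assoc, pullback.lift_fst]
    constructor
    · rintro ⟨l, hl⟩
      refine ⟨l ≫ pullback.fst _ _, ?_⟩
      rw [Category.assoc, pullback.condition, reassoc_of% hl]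
      simpa only [Category.assoc] using e
    · rintro ⟨l, hl⟩
      exact ⟨pullback.lift l _ (hl.trans e.symm), pullback.lift_snd _ _ _⟩
  refine ⟨⟨T, t, ht, fun S' g => (hT S' g).trans (hAll g g (Category.comp_id g))⟩, fun hN' => ?_⟩
  obtain ⟨n₀, hn₀⟩ := hE
  obtain ⟨i, hi⟩ := hN hN' ⟨⟨⟨n₀, hn₀⟩⟩⟩ fun a b =>
    ⟨⟨⟨a.down.1 * b.down.1, hEmul _ a.down.2 _ b.down.2⟩⟩, Agent.Dense26.exists_le _ _, by
      show ∃ r, r ≫ Agent.Dense26.powKerι H (a.down.1 * b.down.1) = Agent.Dense26.powKerι H b.down.1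
      rw [Nat.mul_comm]
      exact Agent.Dense26.exists_le _ _⟩
  exact ⟨i.down.1, i.down.2, fun S' g =>
    ((hAll g g (Category.comp_id g)).symm.trans (hi S' g)).trans (hPiece i g g (Category.comp_id g))⟩

end Groth.Agent.S6065
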