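import Groth.Statements.S6066
import Groth.Agent.Dense26.PowerKernel

set_option autoImplicit false
set_option linter.style.haveILetI false
set_option backward.isDefEq.respectTransparency.types false
open CategoryTheory MonoidalCategory CartesianMonoidalCategory MonObj GrpObj AlgebraicGeometry
universe u
open SGA3x
open CategoryTheory.Limits

namespace Groth.Agent.S6066

open CategoryTheory.Limits in
/-- Let S be a locally Noetherian scheme, H a commutative S-group which is of finite type over S, and E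
a nonempty set of integers n > 0 stable under multiplication such that a) every kernel ₙH of the
n-th power map (n ∈ E; the pullback of the unit section along that map) is finite and flat over S
and b) for every s ∈ S the family of fibres (ₙH)_s ⟶ H_s, n ∈ E, is schematically dense in H_s. Let
u : H ⟶ G be a homomorphism into an S-group G locally of finite type over S and k : K ⟶ G a closed
sub-group-scheme. Then the transporter of u into K — the subfunctor of G of those points g, with
values in an S-scheme X, such that for every X' ⟶ X and every X'-valued point h of H the point g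
u(h) g⁻¹ lies in K — is representable by a closed subscheme of G; and if the scheme G is Noetherian
there is n ∈ E such that a point g of G lies in the transporter if and only if g u(h) g⁻¹ lies in K
for all points h of H with h^n = 1. (The published statement is over an arbitrary base S and also
asserts that the transporter is smooth over S when G is smooth, K is smooth or of multiplicative
type and the ₙH, n ∈ E, are of multiplicative type; this row assumes S locally Noetherian, the
setting in which the printed argument through the base G applies, and does not state the smoothness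
assertion.) -/
theorem result {S : Scheme.{u}} [IsLocallyNoetherian S]
    (H : Over S) [GrpObj H] [IsCommMonObj H] [LocallyOfFiniteType H.hom] [QuasiCompact H.hom]
    (E : Set ℕ) (hE : E.Nonempty) (hE0 : ∀ n ∈ E, 0 < n) (hEmul : ∀ m ∈ E, ∀ n ∈ E, m * n ∈ E)
    (ha : ∀ n ∈ E, IsFinite ((pullback.snd η[H].left (𝟙 H ^ n : H ⟶ H).left) ≫ H.hom) ∧ Flat ((pullback.snd η[H].left (𝟙 H ^ n : H ⟶ H).left) ≫ H.hom))
    (hb : ∀ (s : S) (V : (H.hom.fiber s).Opens) (t : Γ(H.hom.fiber s, V)),
      (∀ n ∈ E, (MoreMor.fiberMap (pullback.snd η[H].left (𝟙 H ^ n : H ⟶ H).left) H.hom s).app V t = 0) → t = 0)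
    (G K : Over S) [GrpObj G] [GrpObj K] [LocallyOfFiniteType G.hom] (u : H ⟶ G) [IsMonHom u]
    (k : K ⟶ G) [IsMonHom k] [IsClosedImmersion k.left] :
    (∃ (T : Over S) (j : T ⟶ G), IsClosedImmersion j.left ∧
      ∀ (X : Over S) (g : X ⟶ G), (∃ t : X ⟶ T, t ≫ j = g) ↔
        ∀ (X' : Over S) (x : X' ⟶ X) (h : X' ⟶ H), ∃ κ : X' ⟶ K, (x ≫ g) * (h ≫ u) * (x ≫ g)⁻¹ = κ ≫ k) ∧
    (AlgebraicGeometry.IsNoetherian G.left → ∃ n ∈ E, ∀ (X : Over S) (g : X ⟶ G),
      (∀ (X' : Over S) (x : X' ⟶ X) (h : X' ⟶ H), ∃ κ : X' ⟶ K, (x ≫ g) * (h ≫ u) * (x ≫ g)⁻¹ = κ ≫ k) ↔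
        ∀ (X' : Over S) (x : X' ⟶ X) (h : X' ⟶ H), h ^ n = 1 → ∃ κ : X' ⟶ K, (x ≫ g) * (h ≫ u) * (x ≫ g)⁻¹ = κ ≫ k) := by
  haveI := LocallyOfFiniteType.isLocallyNoetherian H.hom
  let f := fun i : ULift.{u} E => Agent.Dense26.powKerι H i.down.1
  let φ : H ⊗ G ⟶ G := snd H G * (fst H G ≫ u) * (snd H G)⁻¹
  have hφ : ∀ (X' : Over S) (h : X' ⟶ H) (g : X' ⟶ G), lift h g ≫ φ = g * (h ≫ u) * g⁻¹ := fun X' h g => by
    simp only [φ, MonObj.comp_mul, GrpObj.comp_inv, lift_snd, lift_fst_assoc]
  let y : pullback φ.left k.left ⟶ pullback H.hom G.hom := pullback.fst φ.left k.left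
  haveI : IsClosedImmersion y := MorphismProperty.pullback_fst (P := @IsClosedImmersion) _ _ inferInstance
  obtain ⟨T, t, ht, hT, hN⟩ := Agent.Dense26.exists_locus (p := H.hom) (q := G.hom) (y := y) (f := f)
    (fun i => (ha _ i.down.2).1) (fun i => (ha _ i.down.2).2)
    (fun i => by
      haveI := (ha _ i.down.2).1
      exact LocallyOfFinitePresentation.iff_locallyOfFiniteType.2 inferInstance)
    (fun g => Agent.Dense26.schDom_powKer ha hb g)
  -- a point of `H` over a lift of `g` lands in `K` if its classifying map to the total space does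
  have land : ∀ (X : Over S) (g : X ⟶ G) (X' : Over S) (x : X' ⟶ X) (h : X' ⟶ H)
      (w : X'.left ⟶ pullback φ.left k.left), w ≫ y = (lift h (x ≫ g)).left →
      ∃ κ : X' ⟶ K, (x ≫ g) * (h ≫ u) * (x ≫ g)⁻¹ = κ ≫ k := by
    intro X g X' x h w hw
    have hw' : (w ≫ pullback.snd φ.left k.left) ≫ k.left = (lift h (x ≫ g) ≫ φ).left := by
      rw [Category.assoc, ← pullback.condition, Over.comp_left, ← hw, Category.assoc]
    refine ⟨Over.homMk (w ≫ pullback.snd φ.left k.left) ?_, ?_⟩
    · rw [← Over.w k, ← Category.assoc, hw', Over.w]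
    · rw [← hφ]
      exact Over.OverMorphism.ext hw'.symm
  have take : ∀ (X : Over S) (g : X ⟶ G) (X' : Over S) (x : X' ⟶ X) (h : X' ⟶ H),
      (∃ κ : X' ⟶ K, (x ≫ g) * (h ≫ u) * (x ≫ g)⁻¹ = κ ≫ k) →
      ∃ w : X'.left ⟶ pullback φ.left k.left, w ≫ y = (lift h (x ≫ g)).left := by
    rintro X g X' x h ⟨κ, hκ⟩
    refine ⟨pullback.lift (lift h (x ≫ g)).left κ.left ?_, pullback.lift_fst _ _ _⟩
    rw [← Over.comp_left, hφ, hκ, Over.comp_left]
  have hAll : ∀ (X : Over S) (g : X ⟶ G), Agent.Dense26.AllIn H.hom G.hom y g.left ↔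
      ∀ (X' : Over S) (x : X' ⟶ X) (h : X' ⟶ H), ∃ κ : X' ⟶ K, (x ≫ g) * (h ≫ u) * (x ≫ g)⁻¹ = κ ≫ k := by
    intro X g
    refine ⟨fun ⟨l, hl⟩ X' x h => ?_, fun hall => ?_⟩
    · refine land X g X' x h (pullback.lift h.left x.left (by rw [Over.w h, Over.w g, Over.w x]) ≫ l) ?_
      rw [Category.assoc, hl]
      apply pullback.hom_ext
      · simp only [Agent.Dense26.can, Category.assoc, Over.lift_left, Over.comp_left]
        erw [pullback.lift_fst, pullback.lift_fst, pullback.lift_fst]
      · simp only [Agent.Dense26.can, Category.assoc, Over.lift_left, Over.comp_left]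
        erw [pullback.lift_snd, pullback.lift_snd_assoc, pullback.lift_snd]
    · let X' : Over S := Over.mk (pullback.fst H.hom (g.left ≫ G.hom) ≫ H.hom)
      let h : X' ⟶ H := Over.homMk (pullback.fst H.hom (g.left ≫ G.hom)) rfl
      let x : X' ⟶ X := Over.homMk (pullback.snd H.hom (g.left ≫ G.hom)) (by
        show _ ≫ X.hom = pullback.fst H.hom (g.left ≫ G.hom) ≫ H.hom
        rw [pullback.condition, Over.w g])
      obtain ⟨w, hw⟩ := take X g X' x h (hall X' x h)
      refine ⟨w, hw.trans ?_⟩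
      apply pullback.hom_ext <;> simp [Agent.Dense26.can, h, x]
  refine ⟨⟨Over.mk (t ≫ G.hom), Over.homMk t rfl, ht, fun X g => ?_⟩, fun hN' => ?_⟩
  · refine Iff.trans ⟨fun ⟨z, hz⟩ => ⟨z.left, congrArg Over.Hom.left hz⟩, fun ⟨z, hz⟩ => ?_⟩
      ((hT X.left g.left).trans (hAll X g))
    exact ⟨Over.homMk z (by show z ≫ t ≫ G.hom = X.hom; rw [reassoc_of% hz, Over.w g]), Over.OverMorphism.ext hz⟩
  obtain ⟨n₀, hn₀⟩ := hE
  obtain ⟨i, hi⟩ := hN hN' ⟨⟨⟨n₀, hn₀⟩⟩⟩ fun a b =>
    ⟨⟨⟨a.down.1 * b.down.1, hEmul _ a.down.2 _ b.down.2⟩⟩, Agent.Dense26.exists_le _ _, by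
      show ∃ r, r ≫ Agent.Dense26.powKerι H (a.down.1 * b.down.1) = Agent.Dense26.powKerι H b.down.1
      rw [Nat.mul_comm]
      exact Agent.Dense26.exists_le _ _⟩
  refine ⟨i.down.1, i.down.2, fun X g => ⟨fun h X' x a _ => h X' x a, fun hn => (hAll X g).1 ((hi _ _).2 ?_)⟩⟩
  let X' : Over S := Over.mk (pullback.fst (f i ≫ H.hom) (g.left ≫ G.hom) ≫ f i ≫ H.hom)
  let h : X' ⟶ H := Over.homMk (pullback.fst (f i ≫ H.hom) (g.left ≫ G.hom) ≫ f i) (Category.assoc _ _ _)
  let x : X' ⟶ X := Over.homMk (pullback.snd (f i ≫ H.hom) (g.left ≫ G.hom)) (by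
    show _ ≫ X.hom = pullback.fst (f i ≫ H.hom) (g.left ≫ G.hom) ≫ f i ≫ H.hom
    rw [pullback.condition, Over.w g])
  have hpow : h ^ i.down.1 = 1 := by
    let z : X' ⟶ Agent.Dense26.powKerOver H i.down.1 := Over.homMk (pullback.fst (f i ≫ H.hom) (g.left ≫ G.hom)) rfl
    have e : h = z ≫ Agent.Dense26.powKerHom H i.down.1 := Over.OverMorphism.ext rfl
    rw [e, ← MonObj.comp_pow, Agent.Dense26.powKerHom_pow, MonObj.comp_one]
  obtain ⟨w, hw⟩ := take X g X' x h (hn X' x h hpow)
  refine ⟨w, hw.trans ?_⟩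
  apply pullback.hom_ext
  · simp only [Agent.Dense26.can, Agent.EGA43.Separating.bcFam, pullback.map, Category.assoc, Over.lift_left, Over.comp_left]
    erw [pullback.lift_fst, pullback.lift_fst, pullback.lift_fst]
    rfl
  · simp only [Agent.Dense26.can, Agent.EGA43.Separating.bcFam, pullback.map, Category.assoc, Over.lift_left, Over.comp_left]
    erw [pullback.lift_snd, pullback.lift_snd, pullback.lift_snd_assoc, Category.comp_id]
    rfl

end Groth.Agent.S6066
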