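import Groth.Statements.S6067
import Groth.Agent.SGA3cLib.GroupCut

set_option autoImplicit false
open CategoryTheory MonoidalCategory CartesianMonoidalCategory MonObj GrpObj AlgebraicGeometry
universe u
open SGA3x

namespace Groth.Agent.S6067

/-- Transporter: Let G be an S-group locally of finite type and quasi-separated over S, H an S-group
which is smooth and of finite presentation over S with connected fibres, i : H ⟶ G a homomorphism
which is a monomorphism, and j : K ⟶ G a homomorphism of S-groups which is a monomorphism of finite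
presentation. Then the transporter of H into K — the subfunctor of G of those points g, with values
in an S-scheme X, such that for every X' ⟶ X and every X'-valued point h of H the point g i(h) g⁻¹
lies in K — is representable by a closed subscheme of G whose immersion into G is of finite
presentation. -/
theorem result {S : Scheme.{u}} (G H K : Over S) [GrpObj G] [GrpObj H] [GrpObj K]
    [LocallyOfFiniteType G.hom] [QuasiSeparated G.hom] [Smooth H.hom] [QuasiCompact H.hom] [QuasiSeparated H.hom]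
    (hconn : ∀ s : S, ConnectedSpace ↥(Limits.pullback H.hom (S.fromSpecResidueField s)))
    (i : H ⟶ G) [IsMonHom i] [Mono i] (j : K ⟶ G) [IsMonHom j] [Mono j]
    [LocallyOfFinitePresentation j.left] [QuasiCompact j.left] [QuasiSeparated j.left] :
    ∃ (T : Over S) (t : T ⟶ G), IsClosedImmersion t.left ∧ LocallyOfFinitePresentation t.left ∧
      ∀ (X : Over S) (g : X ⟶ G), (∃ x : X ⟶ T, x ≫ t = g) ↔
        ∀ (X' : Over S) (x : X' ⟶ X) (h : X' ⟶ H), ∃ κ : X' ⟶ K, (x ≫ g) * (h ≫ i) * (x ≫ g)⁻¹ = κ ≫ j := by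
  obtain ⟨D, e, _, _, he⟩ := SGA3cLib.GroupLocus.exists_cut ((snd H G) * (fst H G ≫ i) * (snd H G)⁻¹) j
  have hmem : ∀ (Y : Over S) (g : Y ⟶ G) (h : Y ⟶ H),
      SGA3cLib.GroupLocus.Mem e h g ↔ ∃ κ : Y ⟶ K, g * (h ≫ i) * g⁻¹ = κ ≫ j := fun Y g h => (he Y _).trans (by
    simp only [MonObj.comp_mul, GrpObj.comp_inv, ← Category.assoc, lift_fst, lift_snd, eq_comm])
  obtain ⟨T, t, ht, ht', hT⟩ := SGA3cLib.GroupLocus.exists_locus hconn e
    (fun Y g => (hmem _ _ _).2 ⟨1, by rw [MonObj.one_comp, MonObj.one_comp]; group⟩)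
    (fun Y g h h' a b => by
      obtain ⟨κ, hκ⟩ := (hmem _ _ _).1 a
      obtain ⟨κ', hκ'⟩ := (hmem _ _ _).1 b
      exact (hmem _ _ _).2 ⟨κ * κ', by rw [MonObj.mul_comp, MonObj.mul_comp, ← hκ, ← hκ']; group⟩)
    (fun Y g h a => by
      obtain ⟨κ, hκ⟩ := (hmem _ _ _).1 a
      exact (hmem _ _ _).2 ⟨κ⁻¹, by rw [GrpObj.inv_comp, GrpObj.inv_comp, ← hκ]; group⟩)
  simp only [hmem] at hT
  exact ⟨T, t, ht, ht', hT⟩

end Groth.Agent.S6067
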