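import Groth.Statements.S6070
import Groth.Agent.SGA3Power26.MultSubLift
import Groth.Agent.S5273
import Mathlib.RingTheory.Spectrum.Prime.Topology

set_option autoImplicit false
set_option linter.style.haveILetI false
set_option backward.isDefEq.respectTransparency.types false
open CategoryTheory MonoidalCategory CartesianMonoidalCategory MonObj GrpObj AlgebraicGeometry
universe u
open SGA3x CategoryTheory.Limits Groth.Agent Groth.Agent.SGA3Power26 Groth.Agent.SGA3cLib

namespace Groth.Agent.S6070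

/-- In lifting form: what formal smoothness of the morphism H ↦ ₙH of the functor of multiplicative
subgroups means. Let S = Spec R be affine, J a nilpotent ideal of R, S₀ = Spec (R/J), n a natural
number and G an S-group which is smooth over S. Let j₀ : H₀ ⟶ G₀ = G ×_S S₀ be a sub-group-scheme (a
homomorphism which is an immersion) of multiplicative type (fpqc-locally isomorphic, as a group, to
diagonalisable groups D(M), M allowed to vary and taken in Type 0), and l : L ⟶ G a sub-group-scheme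
of multiplicative type whose base change to S₀ is the n-torsion of H₀ inside G₀: a point of G₀
factors through L ×_S S₀ if and only if it is j₀(h) for a point h of H₀ with h^n = 1. Then there is
a sub-group-scheme j : H ⟶ G of multiplicative type whose base change to S₀ coincides with H₀ as a
subgroup of G₀ (an isomorphism compatible with the maps to G₀) and whose n-torsion is L: a point of
G factors through L if and only if it is j(h) for a point h of H with h^n = 1. -/
theorem result {R : Type u} [CommRing R] (J : Ideal R) (hJ : IsNilpotent J) (n : ℕ)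
    (G : Over (Spec (CommRingCat.of R))) [GrpObj G] (hG : Smooth G.hom)
    (H₀ : Over (Spec (CommRingCat.of (R ⧸ J)))) [GrpObj H₀]
    (hH₀ : TwC.Locally (Spec (CommRingCat.of (R ⧸ J))) TwC.Topology.fpqc (fun S' f => ∃ (M : Type) (_ : AddCommGroup M), Nonempty (Grp.mk (Red.bc f H₀) ≅ Grp.mk (Red.DS S' M))))
    (j₀ : H₀ ⟶ Red.bc (Spec.map (CommRingCat.ofHom (Ideal.Quotient.mk J))) G) [IsMonHom j₀] [IsImmersion j₀.left]
    (L : Over (Spec (CommRingCat.of R))) [GrpObj L] (hL : TwC.Locally (Spec (CommRingCat.of R)) TwC.Topology.fpqc (fun S' f => ∃ (M : Type) (_ : AddCommGroup M), Nonempty (Grp.mk (Red.bc f L) ≅ Grp.mk (Red.DS S' M))))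
    (l : L ⟶ G) [IsMonHom l] [IsImmersion l.left]
    (hL0 : ∀ (X : Over (Spec (CommRingCat.of (R ⧸ J)))) (g : X ⟶ Red.bc (Spec.map (CommRingCat.ofHom (Ideal.Quotient.mk J))) G),
      (∃ y : X ⟶ Red.bc (Spec.map (CommRingCat.ofHom (Ideal.Quotient.mk J))) L, y ≫ (Over.pullback (Spec.map (CommRingCat.ofHom (Ideal.Quotient.mk J)))).map l = g) ↔
        ∃ h : X ⟶ H₀, h ^ n = 1 ∧ h ≫ j₀ = g) :
    ∃ (H : Over (Spec (CommRingCat.of R))) (_ : GrpObj H) (j : H ⟶ G), IsMonHom j ∧ IsImmersion j.left ∧
      TwC.Locally (Spec (CommRingCat.of R)) TwC.Topology.fpqc (fun S' f => ∃ (M : Type) (_ : AddCommGroup M), Nonempty (Grp.mk (Red.bc f H) ≅ Grp.mk (Red.DS S' M))) ∧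
      (∃ φ : Red.bc (Spec.map (CommRingCat.ofHom (Ideal.Quotient.mk J))) H ≅ H₀, φ.hom ≫ j₀ = (Over.pullback (Spec.map (CommRingCat.ofHom (Ideal.Quotient.mk J)))).map j) ∧
      ∀ (X : Over (Spec (CommRingCat.of R))) (g : X ⟶ G),
        (∃ y : X ⟶ L, y ≫ l = g) ↔ ∃ h : X ⟶ H, h ^ n = 1 ∧ h ≫ j = g := by
  let q := HomLiftMult.thick J
  obtain ⟨H, _, j, hj, hji, hHft, φ, hφm, hφ⟩ := MultSubLift.exists_subgroup_lift J hJ G H₀ hH₀ j₀
  have hHmt := HomLiftMult.isMT_of_multTypeFT hHft
  haveI : LocallyOfFiniteType L.hom := by rw [← Over.w l]; infer_instance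
  haveI := SGA3cLib.HomGroup.flat_of_multTypeFT L (MultSubLift.multTypeFT_of_isMT L hL)
  haveI := HomLiftMult.isAffineHom_of_isMT L hL
  haveI : IsAffine L.left := isAffine_of_isAffineHom L.hom
  haveI := HomLiftMult.isAffineHom_of_isMT H hHmt
  haveI : IsAffine H.left := isAffine_of_isAffineHom H.hom
  haveI : Mono j := SubgroupConj.mono_of_isImmersion j
  haveI : IsImmersion ((Over.pullback q).map j).left := by rw [← hφ, Over.comp_left]; infer_instance
  haveI : Mono ((Over.pullback q).map j) := SubgroupConj.mono_of_isImmersion _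
  obtain ⟨h₀, hh₀, hh₀'⟩ := (hL0 _ ((Over.pullback q).map l)).1 ⟨𝟙 _, Category.id_comp _⟩
  have hψ0 : (h₀ ≫ φ.inv) ≫ (Over.pullback q).map j = (Over.pullback q).map l := by
    rw [← hφ, Category.assoc, Iso.inv_hom_id_assoc, hh₀']
  obtain ⟨φ₀, hφ₀⟩ := SubgroupConj.exists_factor_of_bc q l j (h₀ ≫ φ.inv) hψ0
    (fst (MultSubLift.PQ J) L) (snd (MultSubLift.PQ J) L)
  have hφ₀' : ∀ (X : Over (Spec (CommRingCat.of R))) (p : X ⟶ MultSubLift.PQ J) (x : X ⟶ L),
      (lift p x ≫ φ₀) ≫ j = x ≫ l := fun X p x => by rw [Category.assoc, hφ₀, lift_snd_assoc]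
  obtain ⟨ψ, hψm, hψ⟩ := MultHomLift.exists_hom J hJ hL hHmt φ₀ (fun X p x y =>
    (cancel_mono j).1 ((hφ₀' X p (x * y)).trans ((MonObj.mul_comp x y l).trans
      (((congrArg₂ (· * ·) (hφ₀' X p x) (hφ₀' X p y)).symm.trans (MonObj.mul_comp _ _ j).symm)))))
  have key : ∀ (X : Over (Spec (CommRingCat.of R))) (_ : X ⟶ MultSubLift.PQ J) (x : X ⟶ L),
      x ≫ ψ ≫ j = x ≫ l := fun X p x =>
    (Category.assoc x ψ j).symm.trans ((congrArg (· ≫ j) (hψ X p x)).trans (hφ₀' X p x))
  have hmapψ : (Over.pullback q).map ψ = h₀ ≫ φ.inv := by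
    rw [← cancel_mono ((Over.pullback q).map j), hψ0, ← Functor.map_comp]
    exact MultSubLift.map_eq_of_forall key
  obtain ⟨g, hg, hconj⟩ := S5273.result J hJ L G hL hG l (ψ ≫ j) 1 (fun X p x => by
    rw [key X p x, MonObj.comp_one, inv_one, _root_.one_mul, _root_.mul_one])
  let c : G ⟶ G := (toUnit G ≫ g)⁻¹ * 𝟙 G * (toUnit G ≫ g)
  let c' : G ⟶ G := (toUnit G ≫ g) * 𝟙 G * (toUnit G ≫ g)⁻¹
  have hc : ∀ {X : Over (Spec (CommRingCat.of R))} (x : X ⟶ G),
      x ≫ c = (toUnit X ≫ g)⁻¹ * x * (toUnit X ≫ g) := fun x => by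
    simp only [c, MonObj.comp_mul, GrpObj.comp_inv, comp_toUnit_assoc, Category.comp_id]
  have hc' : ∀ {X : Over (Spec (CommRingCat.of R))} (x : X ⟶ G),
      x ≫ c' = (toUnit X ≫ g) * x * (toUnit X ≫ g)⁻¹ := fun x => by
    simp only [c', MonObj.comp_mul, GrpObj.comp_inv, comp_toUnit_assoc, Category.comp_id]
  let ci : G ≅ G := ⟨c, c', by rw [hc']; simp only [c]; group, by rw [hc]; simp only [c']; group⟩
  haveI : IsIso c := ci.isIso_hom
  haveI : IsMonHom c := BCPoints.isMonHom_of_mul c fun X x y => by rw [hc, hc, hc]; group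
  have hcmap : (Over.pullback q).map c = 𝟙 _ := by
    rw [← (Over.pullback q).map_id]
    refine MultSubLift.map_eq_of_forall fun X p x => ?_
    rw [hc, Category.comp_id, ← comp_toUnit_assoc p, hg, MonObj.comp_one, inv_one, _root_.one_mul, _root_.mul_one]
  let j' : H ⟶ G := j ≫ c
  haveI : IsIso c.left := inferInstanceAs (IsIso ((Over.forget _).map c))
  haveI : IsImmersion j'.left := by rw [Over.comp_left]; infer_instance
  haveI : Mono j' := SubgroupConj.mono_of_isImmersion j'
  have hψj : ψ ≫ j' = l := by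
    have h1 := hconj L (𝟙 L)
    rw [Category.id_comp, Category.id_comp] at h1
    rw [← Category.assoc, hc, h1]
    group
  have hpowm : IsMonHom (ψ ^ n) := BCPoints.isMonHom_of_mul _ fun X x y => by
    rw [MonObj.comp_pow, MonObj.comp_pow, MonObj.comp_pow, MonObj.mul_comp]
    exact (show Commute (x ≫ ψ) (y ≫ ψ) from IsoTriv.mul_comm_of_multTypeFT hHft _ _).mul_pow n
  haveI : IsMonHom (1 : L ⟶ H) := BCPoints.isMonHom_of_mul _ fun X x y => by
    rw [MonObj.comp_one, MonObj.comp_one, MonObj.comp_one, _root_.one_mul]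
  have hψn : ψ ^ n = 1 := MultHomLift.hom_ext J hJ hL hHmt _ _ fun X p x =>
    (MultSubLift.ptA_bijective (J := J) p H).injective (by
      rw [MonObj.comp_pow, MonObj.comp_one, MultSubLift.ptA_pow, MultSubLift.ptA_one, MultSubLift.ptA_comp, hmapψ,
        ← Category.assoc, ← MonObj.pow_comp, ← MonObj.comp_pow, hh₀, MonObj.comp_one, MonObj.one_comp])
  let pw : H ⟶ H := 𝟙 H ^ n
  let T : Over (Spec (CommRingCat.of R)) := Over.mk (pullback.snd η[H].left pw.left ≫ H.hom)
  let a : T ⟶ 𝟙_ (Over (Spec (CommRingCat.of R))) := Over.homMk (pullback.fst η[H].left pw.left) (by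
    show pullback.fst η[H].left pw.left ≫ (𝟙_ (Over (Spec (CommRingCat.of R)))).hom = pullback.snd η[H].left pw.left ≫ H.hom
    rw [← Over.w η[H], ← Category.assoc, pullback.condition, Category.assoc, Over.w pw])
  let b : T ⟶ H := Over.homMk (pullback.snd η[H].left pw.left) rfl
  have hab : IsPullback a b η[H] pw := IsPullback.of_map (Over.forget _)
    (Over.OverMorphism.ext pullback.condition) (IsPullback.of_hasPullback η[H].left pw.left)
  haveI : IsClosedImmersion η[H].left := by
    have : IsClosedImmersion (η[H].left ≫ H.hom) := by rw [Over.w η[H]]; exact inferInstanceAs (IsClosedImmersion (𝟙 _))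
    exact IsClosedImmersion.of_comp η[H].left H.hom
  haveI : IsClosedImmersion b.left := inferInstanceAs (IsClosedImmersion (pullback.snd η[H].left pw.left))
  haveI : IsAffine T.left := isAffine_of_isAffineHom b.left
  haveI : Mono b := SubgroupConj.mono_of_isImmersion b
  let m : L ⟶ T := hab.lift (toUnit L) ψ (by
    rw [MonObj.comp_pow, Category.comp_id, hψn, Hom.one_def])
  have hm : m ≫ b = ψ := hab.lift_snd _ _ _
  haveI : IsImmersion ψ.left := by
    have : IsImmersion (ψ.left ≫ j'.left) := by rw [← Over.comp_left, hψj]; infer_instance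
    exact IsImmersion.of_comp ψ.left j'.left
  haveI : IsImmersion m.left := by
    have : IsImmersion (m.left ≫ b.left) := by rw [← Over.comp_left, hm]; infer_instance
    exact IsImmersion.of_comp m.left b.left
  have hfac : ∀ (X : Over (Spec (CommRingCat.of R))) (_ : X ⟶ MultSubLift.PQ J) (t : X ⟶ T),
      ∃ y : X ⟶ L, y ≫ m = t := fun X p t => by
    have ht : (t ≫ b) ^ n = 1 := by
      have h1 : (t ≫ a) ≫ η[H] = (t ≫ b) ≫ pw := by rw [Category.assoc, Category.assoc, hab.w]
      rw [MonObj.comp_pow, Category.comp_id] at h1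
      rw [← h1, toUnit_unique (t ≫ a) (toUnit X), Hom.one_def]
    obtain ⟨y₀, hy₀⟩ := (hL0 _ ((MultSubLift.ptA p (t ≫ b) ≫ φ.hom) ≫ j₀)).2
      ⟨_, by rw [← MonObj.pow_comp, ← MultSubLift.ptA_pow, ht, MultSubLift.ptA_one, MonObj.one_comp], rfl⟩
    obtain ⟨y, rfl⟩ := (MultSubLift.ptA_bijective p L).surjective y₀
    rw [Category.assoc, hφ, ← MultSubLift.ptA_comp, ← MultSubLift.ptA_comp] at hy₀
    have h1 := (MultSubLift.ptA_bijective p G).injective hy₀
    refine ⟨y, ?_⟩
    rw [← cancel_mono b, Category.assoc, hm, ← cancel_mono j', Category.assoc, hψj, h1, ← Category.assoc]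
    exact ((MultSubLift.comp_eq_of_map_eq (J := J) (a := c) (b := 𝟙 G) (hcmap.trans ((Over.pullback q).map_id G).symm) p _).trans (Category.comp_id _)).symm
  haveI : Surjective m.left := by
    let X := (Over.map q).obj (Red.bc q T)
    obtain ⟨y, hy⟩ := hfac X (Over.homMk (Red.bc q T).hom rfl) (Over.homMk (pullback.fst T.hom q) pullback.condition)
    haveI : IsClosedImmersion q := IsClosedImmersion.spec_of_surjective _ Ideal.Quotient.mk_surjective
    haveI : Surjective q := ⟨fun x => by
      obtain ⟨k, hk⟩ := hJ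
      have : (x : PrimeSpectrum R) ∈ Set.range (PrimeSpectrum.comap (Ideal.Quotient.mk J)) := by
        rw [range_comap_of_surjective _ _ Ideal.Quotient.mk_surjective, Ideal.mk_ker]
        exact fun r hr => nilradical_le_prime _ (⟨k, by simpa [hk] using Ideal.pow_mem_pow hr k⟩ : IsNilpotent r)
      exact this⟩
    haveI : Surjective (y.left ≫ m.left) := by
      rw [← Over.comp_left, hy]
      exact MorphismProperty.pullback_fst T.hom q inferInstance
    exact Surjective.of_comp y.left m.left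
  haveI : IsClosedImmersion m.left := IsClosedImmersion.of_isPreimmersion m.left
    (by rw [Set.range_eq_univ.2 m.left.surjective]; exact isClosed_univ)
  haveI : IsIso m := MultSubLift.isIso_of_factor hJ m hfac
  refine ⟨H, inferInstance, j', inferInstance, inferInstance, hHmt, ⟨φ, ?_⟩, fun X x => ⟨?_, ?_⟩⟩
  · rw [Functor.map_comp, hcmap, Category.comp_id, hφ]
  · rintro ⟨y, rfl⟩
    exact ⟨y ≫ ψ, by rw [← MonObj.comp_pow, hψn, MonObj.comp_one], by rw [Category.assoc, hψj]⟩
  · rintro ⟨h, hh, rfl⟩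
    let t : X ⟶ T := hab.lift (toUnit X) h (by rw [MonObj.comp_pow, Category.comp_id, hh, Hom.one_def])
    refine ⟨t ≫ inv m, ?_⟩
    rw [← hψj, ← hm, Category.assoc, Category.assoc, IsIso.inv_hom_id_assoc, ← Category.assoc, hab.lift_snd]

end Groth.Agent.S6070
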