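import Groth.Statements.S6072
import Groth.Agent.IsoTriv.LiftMultType
import Groth.Agent.IsoTriv.FieldSplit
import Groth.Agent.IsoTriv.Henselian

set_option autoImplicit false
universe u
open TensorProduct SGA3b
open SGA3b

namespace Groth.Agent.S6072

/-- Let R be a henselian local ring with residue field k and H₀ = Spec C₀ a k-group of multiplicative
type which is finite over k. Then H₀ lifts to R: there is an R-group H = Spec C of multiplicative
type, finite over R and isotrivial, together with an isomorphism of k-groups H ×_R k ≅ H₀, i.e. a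
bialgebra isomorphism k ⊗_R C ≅ C₀ (existence of an isomorphism; the lift is determined up to
isomorphism only). (Affine group schemes over an affine base are taken in Hopf-algebra form; base
change is the tensor product.) -/
theorem result (R : Type u) [CommRing R] [HenselianLocalRing R]
    (C₀ : Type u) [CommRing C₀] [HopfAlgebra (IsLocalRing.ResidueField R) C₀] [Module.Finite (IsLocalRing.ResidueField R) C₀]
    (h₀ : IsMultType (IsLocalRing.ResidueField R) C₀) :
    ∃ (C : Type u) (_ : CommRing C) (_ : HopfAlgebra R C), Module.Finite R C ∧ IsIsotrivial R C ∧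
      Nonempty ((IsLocalRing.ResidueField R ⊗[R] C) ≃ₐc[IsLocalRing.ResidueField R] C₀) := by
  obtain ⟨k', _, _, hfin, hsep, N, _, -, ⟨e⟩⟩ := IsoTriv.exists_splitting
    (A := C₀) (inferInstance : Algebra.FiniteType (IsLocalRing.ResidueField R) C₀) (IsoTriv.isMultTypeConst_of_isLocalRing h₀)
  have := hfin
  have := hsep
  have : Algebra.Etale (IsLocalRing.ResidueField R) k' := Algebra.FormallyEtale.iff_isSeparable _ _ |>.mpr hsep |> fun h => ⟨h, Algebra.FinitePresentation.of_finiteType.mp inferInstance⟩
  let k := R ⧸ IsLocalRing.maximalIdeal R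
  have h0 : SGA3b.IsIsotrivial (IsLocalRing.ResidueField R) C₀ :=
    ⟨k', inferInstance, inferInstance, inferInstance, inferInstance, inferInstance, N, inferInstance, ⟨e⟩⟩
  obtain ⟨A, _, _, hiso, ⟨ε⟩⟩ : ∃ (A : Type u) (_ : CommRing A) (_ : HopfAlgebra R A),
      SGA3b.IsIsotrivial R A ∧ Nonempty (IsLocalRing.ResidueField R ⊗[R] A ≃ₐc[IsLocalRing.ResidueField R] C₀) := by
    letI : Algebra (R ⧸ IsLocalRing.maximalIdeal R) C₀ := inferInstanceAs (Algebra (IsLocalRing.ResidueField R) C₀)
    letI : HopfAlgebra (R ⧸ IsLocalRing.maximalIdeal R) C₀ := ‹HopfAlgebra (IsLocalRing.ResidueField R) C₀›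
    exact IsoTriv.exists_isotrivial_lift (IsLocalRing.maximalIdeal R) h0
  refine ⟨A, inferInstance, inferInstance, ?_, hiso, ⟨ε⟩⟩
  obtain ⟨T, _, _, het, hTf, hff, M, _, ⟨eT⟩⟩ := hiso
  have := hTf
  have := hff
  have : Finite M := by
    have : Module.Finite (IsLocalRing.ResidueField R) (IsLocalRing.ResidueField R ⊗[R] A) :=
      Module.Finite.equiv (ε : IsLocalRing.ResidueField R ⊗[R] A ≃ₐc[IsLocalRing.ResidueField R] C₀).toAlgEquiv.symm.toLinearEquiv
    let U := IsLocalRing.ResidueField R ⊗[R] T
    have : Nontrivial U := (TensorProduct.comm R (IsLocalRing.ResidueField R) T).toEquiv.nontrivial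
    let : Algebra T U := Algebra.TensorProduct.rightAlgebra
    have : Module.Finite U (U ⊗[R] A) := Module.Finite.equiv
      (SGA3bLib.cancelBC (R := R) (IsLocalRing.ResidueField R) U A).toAlgEquiv.toLinearEquiv
    have : Module.Finite U (MonoidAlgebra U M) := Module.Finite.equiv (IsoTriv.bcTriv (T' := U) eT).toAlgEquiv.toLinearEquiv
    exact Module.Finite.finite_basis (MonoidAlgebra.basis M U)
  have : Module.Finite T (T ⊗[R] A) := Module.Finite.equiv eT.symm.toAlgEquiv.toLinearEquiv
  exact Module.Finite.of_finite_tensorProduct_of_faithfullyFlat T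

end Groth.Agent.S6072
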