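import Groth.Statements.S6075
import Groth.Agent.SGA3Word26.Words
import Groth.Agent.SGA3Bounded26.Points

set_option autoImplicit false
set_option linter.style.haveILetI false
set_option backward.isDefEq.respectTransparency.types false
universe u
open CategoryTheory CategoryTheory.Limits MonoidalCategory CartesianMonoidalCategory MonObj GrpObj AlgebraicGeometry
open SGA3

namespace Groth.Agent.S6075

/-- Let k be an algebraically closed field, G a group scheme locally of finite type over k, X a
geometrically reduced k-scheme locally of finite type, and f : X → G a k-morphism. Consider the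
k-points g of G whose underlying point lies under a word in f: there are a k-scheme T, a point p of
T, n ≥ 0, T-valued points x_1, …, x_n of X and signs such that the T-valued point f(x_1)^{±1} ⋯
f(x_n)^{±1} of G maps p to the point of g. These k-points form exactly the subgroup of G(k)
generated by the k-points of G whose underlying point lies in the image of f. (Words of length zero
are allowed here, so that the unit is on both sides when X is empty; for nonempty X this changes
nothing, while the published statement, with words of positive length only, fails for empty X.) -/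
theorem result (k : Type u) [Field k] [IsAlgClosed k]
    (G X : Over (Spec (CommRingCat.of k))) [GrpObj G] [LocallyOfFiniteType G.hom]
    [LocallyOfFiniteType X.hom] [GeometricallyReduced X.hom] (f : X ⟶ G) :
    {g : 𝟙_ (Over (Spec (CommRingCat.of k))) ⟶ G | ∃ (n : ℕ) (T : Over (Spec (CommRingCat.of k))) (p : T.left) (p₀ : (𝟙_ (Over (Spec (CommRingCat.of k)))).left)
        (x : Fin n → (T ⟶ X)) (ε : Fin n → Bool), ((List.ofFn fun j : Fin n => if ε j then x j ≫ f else (x j ≫ f)⁻¹).prod : T ⟶ G).left.base p = g.left.base p₀} =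
      ((Subgroup.closure {g : 𝟙_ (Over (Spec (CommRingCat.of k))) ⟶ G | ∃ p₀ : (𝟙_ (Over (Spec (CommRingCat.of k)))).left, g.left.base p₀ ∈ Set.range f.left.base} :
        Subgroup (𝟙_ (Over (Spec (CommRingCat.of k))) ⟶ G)) : Set (𝟙_ (Over (Spec (CommRingCat.of k))) ⟶ G)) := by
  classical
  set pI : (𝟙_ (Over (Spec (CommRingCat.of k))) ⟶ G) → G.left := SGA3Bounded26.pImg G
  haveI : Subsingleton ↥(𝟙_ (Over (Spec (CommRingCat.of k)))).left :=
    inferInstanceAs (Subsingleton (PrimeSpectrum k))
  have hpt : ∀ (g : 𝟙_ (Over (Spec (CommRingCat.of k))) ⟶ G) p₀, g.left.base p₀ = pI g := fun g p₀ =>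
    congrArg g.left.base (Subsingleton.elim _ _)
  -- a point of G in the image of a morphism of finite type schemes comes from a rational point
  have hlift : ∀ (P : Over (Spec (CommRingCat.of k))) (w : P ⟶ G), LocallyOfFiniteType P.hom →
      ∀ g : 𝟙_ (Over (Spec (CommRingCat.of k))) ⟶ G, pI g ∈ Set.range w.left.base →
      ∃ a : 𝟙_ (Over (Spec (CommRingCat.of k))) ⟶ P, a ≫ w = g := by
    intro P w hP g ⟨q, hq⟩
    haveI := hP
    haveI : JacobsonSpace P.left := LocallyOfFiniteType.jacobsonSpace P.hom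
    obtain ⟨z, hz, hzc⟩ := nonempty_inter_closedPoints (Z := w.left.base ⁻¹' {pI g}) ⟨q, hq⟩
      ((SGA3Bounded26.isClosed_pImg G g).preimage w.left.continuous).isLocallyClosed
    obtain ⟨a, ha⟩ := SGA3Bounded26.exists_pImg P z hzc
    refine ⟨a, SGA3Bounded26.pImg_injective G ?_⟩
    show w.left.base (SGA3Bounded26.pImg P a) = pI g
    rw [ha]
    exact hz
  ext g
  constructor
  · rintro ⟨n, T, p, p₀, x, ε, hp⟩
    obtain ⟨l, -, hm⟩ := (SGA3Word26.mem_words_iff f n _).mp ⟨T, p, x, ε, hp⟩
    rw [hpt] at hm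
    obtain ⟨a, ha⟩ := hlift _ _ (SGA3Word26.lft_wObj X l) g hm
    clear hm hp
    induction l generalizing g with
    | nil =>
      have : g = 1 := by rw [← ha]; exact MonObj.comp_one a
      rw [this]
      exact Subgroup.one_mem _
    | cons b l ih =>
      revert a
      intro (a : 𝟙_ (Over (Spec (CommRingCat.of k))) ⟶ X ⊗ SGA3Word26.wObj X l) ha
      have h1 : ((a ≫ (fst X (SGA3Word26.wObj X l) : X ⊗ SGA3Word26.wObj X l ⟶ X)) ≫ f) ∈
          ((Subgroup.closure {g : 𝟙_ (Over (Spec (CommRingCat.of k))) ⟶ G | ∃ p₀ : (𝟙_ (Over (Spec (CommRingCat.of k)))).left, g.left.base p₀ ∈ Set.range f.left.base}) :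
            Subgroup (𝟙_ (Over (Spec (CommRingCat.of k))) ⟶ G)) :=
        Subgroup.subset_closure ⟨p₀, _, rfl⟩
      have h2 := ih _ (a ≫ (snd X (SGA3Word26.wObj X l) : X ⊗ SGA3Word26.wObj X l ⟶ _)) rfl
      have e : g = (if b then (a ≫ fst X (SGA3Word26.wObj X l)) ≫ f else ((a ≫ fst X (SGA3Word26.wObj X l)) ≫ f)⁻¹) *
          ((a ≫ snd X (SGA3Word26.wObj X l)) ≫ SGA3Word26.wMap f l) := by
        rw [← ha]
        show a ≫ (_ * _) = _
        rw [MonObj.comp_mul, Category.assoc]
        cases b <;> simp [GrpObj.comp_inv]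
      rw [e]
      exact Subgroup.mul_mem _ (by cases b; exacts [Subgroup.inv_mem _ h1, h1]) h2
  · intro hg
    suffices h : ∃ l : List Bool, pI g ∈ Set.range (SGA3Word26.wMap f l).left.base by
      obtain ⟨l, hl⟩ := h
      obtain ⟨T, p, x, ε, hp⟩ := (SGA3Word26.mem_words_iff f l.length _).mpr ⟨l, rfl, hl⟩
      exact ⟨l.length, T, p, IsLocalRing.closedPoint k, x, ε, hp.trans (hpt g _).symm⟩
    have hg' : g ∈ (Subgroup.closure {g : 𝟙_ (Over (Spec (CommRingCat.of k))) ⟶ G | ∃ p₀ : (𝟙_ (Over (Spec (CommRingCat.of k)))).left, g.left.base p₀ ∈ Set.range f.left.base}).toSubmonoid :=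
      SetLike.mem_coe.mp hg
    rw [Subgroup.closure_toSubmonoid] at hg'
    obtain ⟨L, hL, rfl⟩ := Submonoid.exists_list_of_mem_closure hg'
    suffices h : ∀ L : List (𝟙_ (Over (Spec (CommRingCat.of k))) ⟶ G),
        (∀ y ∈ L, (∃ p₀, y.left.base p₀ ∈ Set.range f.left.base) ∨ ∃ p₀, (y⁻¹).left.base p₀ ∈ Set.range f.left.base) →
        ∃ (l : List Bool) (a : 𝟙_ (Over (Spec (CommRingCat.of k))) ⟶ SGA3Word26.wObj X l),
          a ≫ SGA3Word26.wMap f l = L.prod by
      obtain ⟨l, a, ha⟩ := h L hL
      exact ⟨l, a.left.base (IsLocalRing.closedPoint k), by rw [← ha]; rfl⟩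
    intro L
    induction L with
    | nil => intro _; exact ⟨[], 𝟙 _, (Category.id_comp _).trans rfl⟩
    | cons y L ih =>
      intro h
      obtain ⟨l, a, ha⟩ := ih fun z hz => h z (List.mem_cons_of_mem _ hz)
      obtain ⟨b, c, hbc⟩ : ∃ (b : Bool) (c : 𝟙_ (Over (Spec (CommRingCat.of k))) ⟶ X),
          (if b then c ≫ f else (c ≫ f)⁻¹) = y := by
        rcases h y (List.mem_cons_self ..) with ⟨q, hq⟩ | ⟨q, hq⟩
        · obtain ⟨c, hc⟩ := hlift X f inferInstance y (hpt y q ▸ hq)
          exact ⟨true, c, hc⟩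
        · obtain ⟨c, hc⟩ := hlift X f inferInstance y⁻¹ (hpt y⁻¹ q ▸ hq)
          exact ⟨false, c, by simp [hc]⟩
      refine ⟨b :: l, (lift c a : 𝟙_ _ ⟶ X ⊗ SGA3Word26.wObj X l), ?_⟩
      show lift c a ≫ (_ * _) = _
      rw [MonObj.comp_mul, lift_snd_assoc, ha, List.prod_cons, ← hbc]
      cases b <;> simp [GrpObj.comp_inv]

end Groth.Agent.S6075
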