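import Groth.Statements.S6076
import Groth.Agent.SGA3Word26.Words
import Groth.Agent.EGA43.Limit.Basic
import Groth.Agent.H8ProCons.ConsTopology

set_option autoImplicit false
set_option linter.style.haveILetI false
set_option backward.isDefEq.respectTransparency.types false
universe u
open CategoryTheory CategoryTheory.Limits MonoidalCategory CartesianMonoidalCategory MonObj GrpObj AlgebraicGeometry
open SGA3

namespace Groth.Agent.S6076

/-- (iii) ⟹ (iv): let S be a scheme, X an S-scheme which is flat and locally of finite presentation over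
S, H an S-group scheme locally of finite presentation over S with reduced fibres and quasi-compact
underlying space, and f : X → H an S-morphism. Say that a point h of H lies under a word of length n
in f when there are an S-scheme T, a point p of T, T-valued points x_1, …, x_n of X and signs such
that the T-valued point f(x_1)^{±1} ⋯ f(x_n)^{±1} of H maps p to h. If every point of H lies under
some word in f, then there is a natural number n such that every point of H lies under a word of
length at most n. (The published statement concludes with words of one fixed length n and an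
fppf-covering word morphism; for the constant group of order two over a field and f the non-trivial
point, the points under words of length n alternate between the two points of H, so only the bound
on the length is stated here, and the covering assertion is not stated.) -/
theorem result (S : Scheme.{u}) (X H : Over S) [GrpObj H]
    [Flat X.hom] [LocallyOfFinitePresentation X.hom] [LocallyOfFinitePresentation H.hom]
    (hred : ∀ s : S, IsReduced (H.hom.fiber s)) [CompactSpace H.left] (f : X ⟶ H)
    (hsurj : ∀ h : H.left, ∃ (n : ℕ) (T : Over S) (p : T.left) (x : Fin n → (T ⟶ X)) (ε : Fin n → Bool),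
      ((List.ofFn fun j : Fin n => if ε j then x j ≫ f else (x j ≫ f)⁻¹).prod : T ⟶ H).left.base p = h) :
    ∃ n : ℕ, ∀ h : H.left, ∃ (m : ℕ) (_ : m ≤ n) (T : Over S) (p : T.left) (x : Fin m → (T ⟶ X)) (ε : Fin m → Bool),
      ((List.ofFn fun j : Fin m => if ε j then x j ≫ f else (x j ≫ f)⁻¹).prod : T ⟶ H).left.base p = h := by
  classical
  have key : ∀ V : H.left.Opens, IsAffineOpen V → ∃ n : ℕ, ∀ h ∈ V, ∃ l : List Bool,
      l.length ≤ n ∧ h ∈ Set.range (SGA3Word26.wMap f l).left.base := by
    intro V hV
    have hl : ∀ h : (V : Scheme.{u}), ∃ l : List Bool, h.1 ∈ Set.range (SGA3Word26.wMap f l).left.base := by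
      intro h
      obtain ⟨n, T, p, x, ε, hp⟩ := hsurj h.1
      obtain ⟨l, -, hm⟩ := (SGA3Word26.mem_words_iff f n h.1).mp ⟨T, p, x, ε, hp⟩
      exact ⟨l, hm⟩
    choose l hl using hl
    have hC : ∀ h : (V : Scheme.{u}), ∃ C : Set (V : Scheme.{u}), Topology.IsConstructible C ∧ h ∈ C ∧
        ∀ y ∈ C, y.1 ∈ Set.range (SGA3Word26.wMap f (l h)).left.base := by
      intro h
      obtain ⟨p, hp⟩ := hl h
      set w := SGA3Word26.wMap f (l h)
      obtain ⟨W, hW, hpW, hWV⟩ := exists_isAffineOpen_mem_and_subset (x := p) (U := w.left ⁻¹ᵁ V)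
        (show w.left.base p ∈ V from hp ▸ h.2)
      haveI := SGA3Word26.lfp_wObj X (l h)
      haveI : LocallyOfFinitePresentation (w.left ≫ H.hom) := by rw [Over.w w]; infer_instance
      haveI : LocallyOfFinitePresentation w.left := EGA43.Limit.locallyOfFinitePresentation_of_comp _ H.hom
      haveI : IsAffine (V : Scheme.{u}) := hV
      haveI : IsAffine (W : Scheme.{u}) := hW
      let g := w.left.resLE V W hWV
      have hg : ∀ q, (g.base q).1 = w.left.base q.1 := fun q => by
        have e := congr($(Scheme.Hom.resLE_comp_ι w.left hWV).base q)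
        exact e
      refine ⟨g.base '' Set.univ, g.isConstructible_image Topology.IsConstructible.univ,
        ⟨⟨p, hpW⟩, trivial, Subtype.ext ((hg _).trans hp)⟩, ?_⟩
      rintro _ ⟨q, -, rfl⟩
      exact ⟨q.1, (hg q).symm⟩
    choose C hC hmem hsub using hC
    haveI : IsAffine (V : Scheme.{u}) := hV
    obtain ⟨σ, hσ⟩ := @IsCompact.elim_finite_subcover _ (constructibleTopology (V : Scheme.{u})) Set.univ _
      (H8ProCons.isCompact_cons (@isClosed_univ _ (constructibleTopology (V : Scheme.{u})))) C
      (fun h => H8ProCons.isOpen_cons_of_isConstructible (hC h)) (fun h _ => Set.mem_iUnion.mpr ⟨h, hmem h⟩)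
    refine ⟨σ.sup fun h => (l h).length, fun h hh => ?_⟩
    obtain ⟨i, hi, hiC⟩ := Set.mem_iUnion₂.mp (hσ (Set.mem_univ (⟨h, hh⟩ : (V : Scheme.{u}))))
    exact ⟨l i, Finset.le_sup (f := fun h => (l h).length) hi, hsub i _ hiC⟩
  have hcov : ∀ h : H.left, ∃ V : H.left.Opens, IsAffineOpen V ∧ h ∈ V := fun h => by
    obtain ⟨V, hV, hm, -⟩ := exists_isAffineOpen_mem_and_subset (x := h) (U := ⊤) trivial
    exact ⟨V, hV, hm⟩
  choose V hV hm using hcov
  obtain ⟨σ, hσ⟩ := isCompact_univ.elim_finite_subcover (fun h => (V h : Set H.left)) (fun h => (V h).2)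
    (fun h _ => Set.mem_iUnion.mpr ⟨h, hm h⟩)
  choose n hn using fun h => key (V h) (hV h)
  refine ⟨σ.sup n, fun h => ?_⟩
  obtain ⟨i, hi, hiV⟩ := Set.mem_iUnion₂.mp (hσ (Set.mem_univ h))
  obtain ⟨l, hl, hr⟩ := hn i h hiV
  obtain ⟨T, p, x, ε, hp⟩ := (SGA3Word26.mem_words_iff f l.length h).mpr ⟨l, rfl, hr⟩
  exact ⟨l.length, hl.trans (Finset.le_sup hi), T, p, x, ε, hp⟩

end Groth.Agent.S6076
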