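import Groth.Statements.S6078
import Groth.Agent.SGA3cLib.CommutatorSpread
import Groth.Agent.SGA3cLib.LiftOpen

set_option autoImplicit false
set_option linter.style.haveILetI false
set_option backward.isDefEq.respectTransparency.types false
universe u
open CategoryTheory CategoryTheory.Limits MonoidalCategory CartesianMonoidalCategory MonObj GrpObj AlgebraicGeometry
open SGA3

namespace Groth.Agent.S6078

/-- Case (G, H) = H: let S be an integral scheme with generic point η, G an S-group scheme and h : H → G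
a normal subgroup scheme of G, with G and H of finite presentation over S and with smooth generic
fibres G_η, H_η. Suppose that (G_η, H_η) = H_η: the subgroup H_η is contained in every closed
subgroup scheme of G_η through which the morphism G_η ×_{κ(η)} H_η → G_η, (g, x) ↦ g h(x) g⁻¹
h(x)⁻¹, factors (H_η itself is such a subgroup since H is normal). Then there is a nonempty open
subset U of S such that for every s ∈ U the same holds on the fibre at s: H_s is contained in every
closed subgroup scheme of G_s through which G_s ×_{κ(s)} H_s → G_s, (g, x) ↦ g h(x) g⁻¹ h(x)⁻¹,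
factors. -/
theorem result (S : Scheme.{u}) [IsIntegral S] (G H : Over S) [GrpObj G] [GrpObj H]
    [LocallyOfFinitePresentation G.hom] [QuasiCompact G.hom] [QuasiSeparated G.hom]
    [LocallyOfFinitePresentation H.hom] [QuasiCompact H.hom] [QuasiSeparated H.hom]
    (h : H ⟶ G) [IsMonHom h] [IsImmersion h.left] (hN : AlgGrp.IsNormalHom h)
    (hsmG : Smooth (Red.bc (S.fromSpecResidueField (genericPoint S)) G).hom) (hsmH : Smooth (Red.bc (S.fromSpecResidueField (genericPoint S)) H).hom)
    (hgen : (∀ (K : Over (Spec (S.residueField (genericPoint S)))) (_ : GrpObj K) (j : K ⟶ (Red.bc (S.fromSpecResidueField (genericPoint S)) G)), IsMonHom j → IsClosedImmersion j.left →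
        (∃ c : (Red.bc (S.fromSpecResidueField (genericPoint S)) G) ⊗ (Red.bc (S.fromSpecResidueField (genericPoint S)) H) ⟶ K, c ≫ j = (((fst (Red.bc (S.fromSpecResidueField (genericPoint S)) G) (Red.bc (S.fromSpecResidueField (genericPoint S)) H)) * ((snd (Red.bc (S.fromSpecResidueField (genericPoint S)) G) (Red.bc (S.fromSpecResidueField (genericPoint S)) H)) ≫ ((Over.pullback (S.fromSpecResidueField (genericPoint S))).map h)) * (fst (Red.bc (S.fromSpecResidueField (genericPoint S)) G) (Red.bc (S.fromSpecResidueField (genericPoint S)) H))⁻¹ * ((snd (Red.bc (S.fromSpecResidueField (genericPoint S)) G) (Red.bc (S.fromSpecResidueField (genericPoint S)) H)) ≫ ((Over.pullback (S.fromSpecResidueField (genericPoint S))).map h))⁻¹ : (Red.bc (S.fromSpecResidueField (genericPoint S)) G) ⊗ (Red.bc (S.fromSpecResidueField (genericPoint S)) H) ⟶ (Red.bc (S.fromSpecResidueField (genericPoint S)) G)))) → ∃ m : (Red.bc (S.fromSpecResidueField (genericPoint S)) H) ⟶ K, m ≫ j = ((Over.pullback (S.fromSpecResidueField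 (genericPoint S))).map h))) :
    ∃ U : S.Opens, (U : Set S).Nonempty ∧ ∀ s : U,
      (∀ (K : Over (Spec (S.residueField (s : S)))) (_ : GrpObj K) (j : K ⟶ (Red.bc (S.fromSpecResidueField (s : S)) G)), IsMonHom j → IsClosedImmersion j.left →
        (∃ c : (Red.bc (S.fromSpecResidueField (s : S)) G) ⊗ (Red.bc (S.fromSpecResidueField (s : S)) H) ⟶ K, c ≫ j = (((fst (Red.bc (S.fromSpecResidueField (s : S)) G) (Red.bc (S.fromSpecResidueField (s : S)) H)) * ((snd (Red.bc (S.fromSpecResidueField (s : S)) G) (Red.bc (S.fromSpecResidueField (s : S)) H)) ≫ ((Over.pullback (S.fromSpecResidueField (s : S))).map h)) * (fst (Red.bc (S.fromSpecResidueField (s : S)) G) (Red.bc (S.fromSpecResidueField (s : S)) H))⁻¹ * ((snd (Red.bc (S.fromSpecResidueField (s : S)) G) (Red.bc (S.fromSpecResidueField (s : S)) H)) ≫ ((Over.pullback (S.fromSpecResidueField (s : S))).map h))⁻¹ : (Red.bc (S.fromSpecResidueField (s : S)) G) ⊗ (Red.bc (S.fromSpecResidueField (s : S)) H) ⟶ (Red.bc (S.fromSpecResidueField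 (s : S)) G)))) → ∃ m : (Red.bc (S.fromSpecResidueField (s : S)) H) ⟶ K, m ≫ j = ((Over.pullback (S.fromSpecResidueField (s : S))).map h)) := by
  haveI : IsImmersion (𝟙 G : G ⟶ G).left := inferInstanceAs (IsImmersion (𝟙 G.left))
  have hN1 : AlgGrp.IsNormalHom (𝟙 G : G ⟶ G) := fun T g n => ⟨g * n * g⁻¹, by simp⟩
  obtain ⟨U, hU, D, gD, d, N, hd, hdc, hfp, hqc, hqs, hsm, -, -, ⟨z, hz⟩, hW⟩ :=
    SGA3cLib.CommSpread.main S G G H (𝟙 G) h hsmG hsmH (Or.inr ⟨hN1, hN⟩)
  haveI := hd; haveI := hdc
  have hηU : genericPoint S ∈ U := (genericPoint_specializes hU.some).mem_open U.isOpen hU.some_mem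
  let sη := S.fromSpecResidueField (genericPoint S)
  have hr : Set.range sη ⊆ Set.range U.ι := by
    rintro _ ⟨x, rfl⟩
    rw [Scheme.Opens.range_ι, S.fromSpecResidueField_apply]
    exact hηU
  let t := IsOpenImmersion.lift U.ι sη hr
  have ht : t ≫ U.ι = sη := IsOpenImmersion.lift_fac _ _ _
  let hU' : Red.bc U.ι H ⟶ Red.bc U.ι G := (Over.pullback U.ι).map h
  -- the generic fibre
  let κ := GrpLim26.cmp ht G
  let j : Red.bc t D ⟶ Red.bc sη G := (Over.pullback t).map d ≫ κ.hom
  haveI : IsMonHom j := inferInstanceAs (IsMonHom ((Over.pullback t).map d ≫ κ.hom))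
  haveI : IsClosedImmersion j.left := by
    haveI : IsIso κ.hom.left := inferInstanceAs (IsIso ((Over.forget _).map κ.hom))
    haveI : IsClosedImmersion ((Over.pullback t).map d).left :=
      MorphismProperty.of_isPullback (P := @IsClosedImmersion) (SGA3UnitSec.isPullback_map_left t d) hdc
    exact inferInstanceAs (IsClosedImmersion (((Over.pullback t).map d).left ≫ κ.hom.left))
  obtain ⟨m, hm⟩ := hgen (Red.bc t D) inferInstance j inferInstance inferInstance (by
    refine ⟨inv ((GrpLim26.cmp ht G).hom ⊗ₘ (GrpLim26.cmp ht H).hom) ≫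
      Functor.LaxMonoidal.μ (Over.pullback t) (Red.bc U.ι G) (Red.bc U.ι H) ≫ (Over.pullback t).map z, ?_⟩
    rw [Category.assoc, Category.assoc, IsIso.inv_comp_eq, ← Functor.map_comp_assoc, hz]
    have e := SGA3cLib.CommSpread.map_cMap_cmp ht (𝟙 G) h
    refine e.trans (congrArg (_ ≫ ·) ?_)
    show _ * _ * _⁻¹ * _⁻¹ = _
    rw [(Over.pullback sη).map_id, Category.comp_id])
  -- spread the inclusion
  haveI : LocallyOfFinitePresentation (Red.bc U.ι G).hom :=
    inferInstanceAs (LocallyOfFinitePresentation (pullback.snd G.hom U.ι))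
  haveI : QuasiCompact (Red.bc U.ι H).hom := inferInstanceAs (QuasiCompact (pullback.snd H.hom U.ι))
  haveI : QuasiSeparated (Red.bc U.ι H).hom := inferInstanceAs (QuasiSeparated (pullback.snd H.hom U.ι))
  haveI : Nonempty (U : Scheme.{u}) := ⟨⟨_, hηU⟩⟩
  haveI : IsIntegral (U : Scheme.{u}) := inferInstance
  have hfac : ∃ y : Red.bc t (Red.bc U.ι H) ⟶ Red.bc t D, y ≫ (Over.pullback t).map d = (Over.pullback t).map hU' := by
    refine ⟨(GrpLim26.cmp ht H).hom ≫ m, ?_⟩
    rw [← cancel_mono κ.hom, Category.assoc, Category.assoc, show m ≫ (Over.pullback t).map d ≫ κ.hom = _ from hm]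
    exact (GrpLim26.cmp_natural ht h).symm
  obtain ⟨φ, hφ⟩ := SGA3cLib.LiftOpen.exists_factor_residue U
  have hsU : φ ≫ t = (U : Scheme.{u}).fromSpecStalk (genericPoint (U : Scheme.{u})) := by
    rw [← cancel_mono U.ι, Category.assoc, ht]
    exact hφ
  obtain ⟨V, hV, hz'⟩ := SGA3cLib.LiftOpen.exists_open (S := (U : Scheme.{u})) d hU'
    (SGA3cLib.CommSpread.fac_of_comp hsU hfac)
  refine ⟨U.ι ''ᵁ V, ⟨_, ⟨_, hV, rfl⟩⟩, fun s => ?_⟩
  obtain ⟨x, hxV, hx⟩ := s.2
  let v := S.fromSpecResidueField s.1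
  have hr' : Set.range v ⊆ Set.range (V.ι ≫ U.ι) := by
    rintro _ ⟨p, rfl⟩
    rw [S.fromSpecResidueField_apply]
    exact ⟨⟨x, hxV⟩, hx⟩
  let w' := IsOpenImmersion.lift (V.ι ≫ U.ι) v hr'
  let w := w' ≫ V.ι
  have hw : w ≫ U.ι = v := by rw [Category.assoc]; exact IsOpenImmersion.lift_fac _ _ _
  obtain ⟨y₁, hy₁⟩ := SGA3cLib.CommSpread.fac_of_comp (rfl : w' ≫ V.ι = w) hz'
  intro K gK i hi hci hc
  haveI := hi; haveI := hci
  obtain ⟨c, hc⟩ := hc
  let κs := GrpLim26.cmp hw G
  let is : Red.bc w D ⟶ Red.bc v G := (Over.pullback w).map d ≫ κs.hom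
  have hc' : c ≫ i = SGA3Word26.Comm.cMap (G := Red.bc v G) ((Over.pullback v).map (𝟙 G)) ((Over.pullback v).map h) := by
    refine hc.trans ?_
    show _ = _ * _ * _⁻¹ * _⁻¹
    rw [(Over.pullback v).map_id, Category.comp_id]
  have hsub : Set.range is.left.base ⊆ Set.range i.left.base := by
    refine Set.Subset.trans ?_ (SGA3Word26.WordsBC.wordsUpTo_le_of_factor _ c i hc' N)
    rintro _ ⟨p, rfl⟩
    rw [SGA3Word26.WordsBC.wordsUpTo_cMap_bc]
    show pullback.fst G.hom v (is.left.base p) ∈ SGA3Word26.Comm.wordsUpTo (SGA3Word26.Comm.cMap (𝟙 G) h) N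
    have e : is.left ≫ pullback.fst G.hom v = pullback.fst D.hom w ≫ d.left ≫ pullback.fst G.hom U.ι := by
      rw [Over.comp_left, Category.assoc, GrpLim26.cmp_hom_fst, GrpLim26.map_left_fst_assoc]
    have e' := congrArg (fun q => q.base p) e
    simp only [Scheme.Hom.comp_apply] at e'
    rw [e']
    have h1 := hW ⟨pullback.fst D.hom w p, rfl⟩
    rw [SGA3Word26.WordsBC.wordsUpTo_cMap_bc] at h1
    exact h1
  haveI : Smooth (Red.bc w D).hom := MorphismProperty.pullback_snd (P := @Smooth) _ _ hsm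
  haveI : IsReduced (Red.bc w D).left := AbSchLib.isReduced_of_smooth (Red.bc w D).hom
  obtain ⟨l, hl⟩ := RedSepLib.exists_lift_of_range_subset is.left i.left hsub
  let l' : Red.bc w D ⟶ K := Over.homMk l (by rw [← Over.w i, ← Category.assoc, hl]; exact Over.w is)
  refine ⟨(GrpLim26.cmp hw H).inv ≫ y₁ ≫ l', ?_⟩
  rw [Category.assoc, Category.assoc, show l' ≫ i = is from Over.OverMorphism.ext hl, Iso.inv_comp_eq,
    ← GrpLim26.cmp_natural hw h, ← Category.assoc, hy₁]

end Groth.Agent.S6078
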