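import Groth.Statements.S6079
import Groth.Agent.SGA3cLib.CommutatorSpread

set_option autoImplicit false
set_option linter.style.haveILetI false
set_option backward.isDefEq.respectTransparency.types false
universe u
open CategoryTheory CategoryTheory.Limits MonoidalCategory CartesianMonoidalCategory MonObj GrpObj AlgebraicGeometry
open SGA3

namespace Groth.Agent.S6079

/-- Existence of D' and its fibres: let S be an integral scheme with generic point η, G an S-group
scheme of finite presentation over S, and a : A → G, b : B → G two subgroup schemes of G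
(homomorphisms which are immersions) of finite presentation over S whose generic fibres A_η, B_η are
smooth. Suppose that either (a) A_η is connected, or (b) A and B are normal in G. Then there are a
nonempty open subset U of S and a closed subgroup scheme d : D → G|_U, of finite presentation over U
with smooth fibres, having connected fibres in case (a) and normal in G|_U in case (b), such that
for every s ∈ U the fibre D_s → G_s is the commutator subgroup scheme (A_s, B_s): the smallest
closed subgroup scheme of G_s through which A_s ×_{κ(s)} B_s → G_s, (x, y) ↦ a(x) b(y) a(x)⁻¹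
b(y)⁻¹, factors. (The published statement also asserts that D represents the fppf sheaf associated
to the presheaf of commutator subgroups of A|_U and B|_U in G|_U; that assertion is not stated
here.) -/
theorem result (S : Scheme.{u}) [IsIntegral S] (G A B : Over S) [GrpObj G] [GrpObj A] [GrpObj B]
    [LocallyOfFinitePresentation G.hom] [QuasiCompact G.hom] [QuasiSeparated G.hom]
    [LocallyOfFinitePresentation A.hom] [QuasiCompact A.hom] [QuasiSeparated A.hom]
    [LocallyOfFinitePresentation B.hom] [QuasiCompact B.hom] [QuasiSeparated B.hom]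
    (a : A ⟶ G) [IsMonHom a] [IsImmersion a.left] (b : B ⟶ G) [IsMonHom b] [IsImmersion b.left]
    (hsmA : Smooth (Red.bc (S.fromSpecResidueField (genericPoint S)) A).hom) (hsmB : Smooth (Red.bc (S.fromSpecResidueField (genericPoint S)) B).hom)
    (hcase : ConnectedSpace (Red.bc (S.fromSpecResidueField (genericPoint S)) A).left ∨ (AlgGrp.IsNormalHom a ∧ AlgGrp.IsNormalHom b)) :
    ∃ U : S.Opens, (U : Set S).Nonempty ∧
      ∃ (D : Over (U : Scheme.{u})) (_ : GrpObj D) (d : D ⟶ (Red.bc U.ι G)), IsMonHom d ∧ IsClosedImmersion d.left ∧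
        LocallyOfFinitePresentation D.hom ∧ QuasiCompact D.hom ∧ QuasiSeparated D.hom ∧
        (∀ s : (U : Scheme.{u}), Smooth (D.hom.fiberToSpecResidueField s)) ∧
        (ConnectedSpace (Red.bc (S.fromSpecResidueField (genericPoint S)) A).left → ∀ s : (U : Scheme.{u}), ConnectedSpace (D.hom.fiber s)) ∧
        (AlgGrp.IsNormalHom a ∧ AlgGrp.IsNormalHom b → AlgGrp.IsNormalHom d) ∧
        ∀ s : (U : Scheme.{u}),
          (∃ c : (Red.bc ((U : Scheme.{u}).fromSpecResidueField s) (Red.bc U.ι A)) ⊗ (Red.bc ((U : Scheme.{u}).fromSpecResidueField s) (Red.bc U.ι B)) ⟶ (Red.bc ((U : Scheme.{u}).fromSpecResidueField s) D), c ≫ ((Over.pullback ((U : Scheme.{u}).fromSpecResidueField s)).map d) = (((fst (Red.bc ((U : Scheme.{u}).fromSpecResidueField s) (Red.bc U.ι A)) (Red.bc ((U : Scheme.{u}).fromSpecResidueField s) (Red.bc U.ι B))) ≫ ((Over.pullback ((U : Scheme.{u}).fromSpecResidueField s)).map ((Over.pullback U.ι).map a))) * ((snd (Red.bc ((U : Scheme.{u}).fromSpecResidueField s) (Red.bc U.ι A)) (Red.bc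 ((U : Scheme.{u}).fromSpecResidueField s) (Red.bc U.ι B))) ≫ ((Over.pullback ((U : Scheme.{u}).fromSpecResidueField s)).map ((Over.pullback U.ι).map b))) * ((fst (Red.bc ((U : Scheme.{u}).fromSpecResidueField s) (Red.bc U.ι A)) (Red.bc ((U : Scheme.{u}).fromSpecResidueField s) (Red.bc U.ι B))) ≫ ((Over.pullback ((U : Scheme.{u}).fromSpecResidueField s)).map ((Over.pullback U.ι).map a)))⁻¹ * ((snd (Red.bc ((U : Scheme.{u}).fromSpecResidueField s) (Red.bc U.ι A)) (Red.bc ((U : Scheme.{u}).fromSpecResidueField s) (Red.bc U.ι B))) ≫ ((Over.pullback ((U : Scheme.{u}).fromSpecResidueField s)).map ((Over.pullback U.ι).map b)))⁻¹)) ∧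
          ∀ (Γ' : Over (Spec ((U : Scheme.{u}).residueField s))) (_ : GrpObj Γ') (i' : Γ' ⟶ (Red.bc ((U : Scheme.{u}).fromSpecResidueField s) (Red.bc U.ι G))), IsMonHom i' → IsClosedImmersion i'.left →
            (∃ c' : (Red.bc ((U : Scheme.{u}).fromSpecResidueField s) (Red.bc U.ι A)) ⊗ (Red.bc ((U : Scheme.{u}).fromSpecResidueField s) (Red.bc U.ι B)) ⟶ Γ', c' ≫ i' = (((fst (Red.bc ((U : Scheme.{u}).fromSpecResidueField s) (Red.bc U.ι A)) (Red.bc ((U : Scheme.{u}).fromSpecResidueField s) (Red.bc U.ι B))) ≫ ((Over.pullback ((U : Scheme.{u}).fromSpecResidueField s)).map ((Over.pullback U.ι).map a))) * ((snd (Red.bc ((U : Scheme.{u}).fromSpecResidueField s) (Red.bc U.ι A)) (Red.bc ((U : Scheme.{u}).fromSpecResidueField s) (Red.bc U.ι B))) ≫ ((Over.pullback ((U : Scheme.{u}).fromSpecResidueField s)).map ((Over.pullback U.ι).map b))) * ((fst (Red.bc ((U : Scheme.{u}).fromSpecResidueField s) (Red.bc U.ι A)) (Red.bc ((U : Scheme.{u}).fromSpecResidueField s) (Red.bc U.ι B))) ≫ ((Over.pullback ((U : Scheme.{u}).fromSpecResidueField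 s)).map ((Over.pullback U.ι).map a)))⁻¹ * ((snd (Red.bc ((U : Scheme.{u}).fromSpecResidueField s) (Red.bc U.ι A)) (Red.bc ((U : Scheme.{u}).fromSpecResidueField s) (Red.bc U.ι B))) ≫ ((Over.pullback ((U : Scheme.{u}).fromSpecResidueField s)).map ((Over.pullback U.ι).map b)))⁻¹)) → ∃ j : (Red.bc ((U : Scheme.{u}).fromSpecResidueField s) D) ⟶ Γ', j ≫ i' = ((Over.pullback ((U : Scheme.{u}).fromSpecResidueField s)).map d) := by
  obtain ⟨U, hU, D, gD, d, N, hd, hdc, hfp, hqc, hqs, hsm, hconn, hn, ⟨z, hz⟩, hW⟩ :=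
    SGA3cLib.CommSpread.main S G A B a b hsmA hsmB hcase
  haveI := hd
  refine ⟨U, hU, D, gD, d, hd, hdc, hfp, hqc, hqs, fun s => MorphismProperty.pullback_snd (P := @Smooth) _ _ hsm,
    hconn, hn, fun s => ?_⟩
  let v := (U : Scheme.{u}).fromSpecResidueField s
  let F := Over.pullback v
  let c₁ := SGA3Word26.Comm.cMap (G := Red.bc U.ι G) (A := Red.bc U.ι A) (B := Red.bc U.ι B)
    ((Over.pullback U.ι).map a) ((Over.pullback U.ι).map b)
  refine ⟨⟨Functor.LaxMonoidal.μ F (Red.bc U.ι A) (Red.bc U.ι B) ≫ F.map z, ?_⟩, ?_⟩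
  · show (_ ≫ F.map z) ≫ F.map d = SGA3Word26.Comm.cMap (G := Red.bc v (Red.bc U.ι G)) (F.map ((Over.pullback U.ι).map a))
      (F.map ((Over.pullback U.ι).map b))
    rw [Category.assoc, ← F.map_comp, hz]
    exact SGA3Word26.WordsBC.μ_map_cMap v _ _
  rintro Γ' gΓ' i' hi' hci' ⟨c', hc'⟩
  haveI := hi'
  haveI := hci'
  have hsub : Set.range (F.map d).left.base ⊆ Set.range i'.left.base := by
    rintro _ ⟨x, rfl⟩
    have h1 : (F.map d).left.base x ∈ SGA3Word26.Comm.wordsUpTo (SGA3Word26.Comm.cMap (G := Red.bc v (Red.bc U.ι G))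
        (F.map ((Over.pullback U.ι).map a)) (F.map ((Over.pullback U.ι).map b))) N := by
      rw [SGA3Word26.WordsBC.wordsUpTo_cMap_bc]
      show pullback.fst (Red.bc U.ι G).hom v ((F.map d).left.base x) ∈ SGA3Word26.Comm.wordsUpTo c₁ N
      have e := congrArg (fun q => q.base x) (GrpLim26.map_left_fst v d)
      simp only [Scheme.Hom.comp_apply] at e
      rw [e]
      exact hW ⟨_, rfl⟩
    exact SGA3Word26.WordsBC.wordsUpTo_le_of_factor _ c' i' hc' N h1
  haveI : Smooth (Red.bc v D).hom := MorphismProperty.pullback_snd (P := @Smooth) _ _ hsm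
  haveI : IsReduced (Red.bc v D).left := AbSchLib.isReduced_of_smooth (Red.bc v D).hom
  obtain ⟨j, hj⟩ := RedSepLib.exists_lift_of_range_subset (F.map d).left i'.left hsub
  exact ⟨Over.homMk j (by rw [← Over.w i', ← Category.assoc, hj]; exact Over.w (F.map d)), Over.OverMorphism.ext hj⟩

end Groth.Agent.S6079
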