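import Groth.Statements.S6080
import Groth.Agent.SGA3Union.DualComod

set_option autoImplicit false
universe u
open TensorProduct
open SGA3

namespace Groth.Agent.S6080

/-- Let R be a Noetherian regular ring of Krull dimension at most 2 and A a commutative Hopf algebra
over R which is flat as an R-module, so that G = Spec A is an affine flat R-group scheme, not
necessarily of finite type. Then every finite subset F of A is contained in a finite-type
sub-Hopf-algebra of the following form: there are a natural number d and a d × d matrix (a_ij) of
elements of A with Δ(a_ij) = Σ_l a_il ⊗ a_lj and ε(a_ij) = δ_ij (a matrix corepresentation, i.e. a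
homomorphism G → GL_{d,R}) whose determinant is a unit, such that F lies in the R-subalgebra
generated by the entries a_ij together with the inverse of det(a_ij) (the affine algebra of the
schematic image of G in GL_{d,R}). Consequently A is the directed union of finite-type
sub-Hopf-algebras each of which is a quotient of the Hopf algebra of some GL_{d,R}. (The published
statement asserts that A is a filtered union of sub-Hopf-algebras of finite type which are moreover
flat over R. The published proof produces the sub-Hopf-algebras described here, as coefficient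
algebras of finite projective subcomodules, and does not address their flatness; they need not be
flat: for the additive group over R = k[x, y], so A = R[s] with s primitive, and the subcomodule
spanned by 1, x s and y s, the construction gives the subalgebra R[x s, y s], which as an R-module
is the direct sum of the powers of the ideal (x, y) and is not flat. Flatness of the
sub-Hopf-algebras is therefore not asserted here. The published statement is over a Noetherian
regular scheme of dimension at most 2; this row is the affine case.) -/
theorem result (R : Type u) [CommRing R] [IsRegularRing R]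
    (hdim : ringKrullDim R ≤ 2) (A : Type u) [CommRing A] [HopfAlgebra R A] [Module.Flat R A] (F : Finset A) :
    ∃ (d : ℕ) (a : Matrix (Fin d) (Fin d) A),
      (∀ i j, CoalgebraStruct.comul (R := R) (a i j) = ∑ l, a i l ⊗ₜ[R] a l j) ∧
      (∀ i j, CoalgebraStruct.counit (R := R) (a i j) = if i = j then 1 else 0) ∧
      ∃ u : A, u * a.det = 1 ∧ (↑F : Set A) ⊆ Algebra.adjoin R (Set.range (fun p : Fin d × Fin d => a p.1 p.2) ∪ {u}) := by
  classical
  obtain ⟨M, hfg, hFM, hM⟩ := Groth.Agent.SGA3Union.exists_fg_subcomodule (R := R) F
  have : Module.Finite R M := Module.Finite.iff_fg.mpr hfg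
  have := Groth.Agent.SGA3Union.projective_dual hdim M
  obtain ⟨d, E, C, hE, hEC, hCE, hcm, hcu, hspan⟩ := Groth.Agent.SGA3Union.exists_corep M hfg hM
  let K : Matrix (Fin d) (Fin d) R := 1 - E
  let a : Matrix (Fin d) (Fin d) A := fun k l => C k l + algebraMap R A (K k l)
  have hKE : ∀ k l, ∑ r, K k r • C r l = 0 := fun k l => by
    simp [K, Matrix.one_apply, sub_smul, Finset.sum_sub_distrib, hEC, ite_smul]
  have hEK : ∀ k l, ∑ r, K r l • C k r = 0 := fun k l => by
    simp [K, Matrix.one_apply, sub_smul, Finset.sum_sub_distrib, hCE, ite_smul]
  have hKK : ∀ k l, ∑ r, K k r * K r l = K k l := fun k l => by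
    have h : K * K = K := by
      have : E * E = E := Matrix.ext hE
      simp [K, mul_sub, sub_mul, this]
    exact congrFun (congrFun h k) l
  have hΔ : ∀ i j, Coalgebra.comul (R := R) (a i j) = ∑ l, a i l ⊗ₜ[R] a l j := by
    intro i j
    have e1 : ∑ l, C i l ⊗ₜ[R] algebraMap R A (K l j) = 0 := by
      simp only [Algebra.algebraMap_eq_smul_one, ← TensorProduct.smul_tmul, ← TensorProduct.sum_tmul,
        hEK, TensorProduct.zero_tmul]
    have e2 : ∑ l, algebraMap R A (K i l) ⊗ₜ[R] C l j = 0 := by
      simp only [Algebra.algebraMap_eq_smul_one, TensorProduct.smul_tmul, ← TensorProduct.tmul_sum,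
        hKE, TensorProduct.tmul_zero]
    have e3 : ∑ l, algebraMap R A (K i l) ⊗ₜ[R] algebraMap R A (K l j) =
        Coalgebra.comul (algebraMap R A (K i j)) := by
      conv_rhs => rw [← hKK i j]
      simp only [Algebra.algebraMap_eq_smul_one, map_smul, Bialgebra.comul_one, Algebra.TensorProduct.one_def,
        TensorProduct.smul_tmul, smul_smul, TensorProduct.tmul_smul, ← Finset.sum_smul]
      simp only [mul_comm]
    simp only [a, map_add, hcm, TensorProduct.add_tmul, TensorProduct.tmul_add, Finset.sum_add_distrib,
      e1, e2, e3, add_zero, zero_add]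
  have hε : ∀ i j, Coalgebra.counit (R := R) (a i j) = if i = j then 1 else 0 := by
    intro i j
    simp [a, K, hcu, Matrix.one_apply, Algebra.algebraMap_eq_smul_one]
  have hinv : a * a.map (HopfAlgebra.antipode R) = 1 := by
    ext i j
    have := HopfAlgebra.mul_antipode_lTensor_comul_apply (R := R) (a i j)
    rw [hΔ, hε] at this
    simpa [Matrix.mul_apply, Matrix.one_apply, apply_ite (algebraMap R A)] using this
  obtain ⟨w, hw⟩ := Matrix.isUnit_det_of_right_inverse hinv
  refine ⟨d, a, hΔ, hε, (↑w⁻¹ : A), by rw [← hw, Units.inv_mul], hFM.trans (hspan.trans ?_)⟩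
  let S := Algebra.adjoin R (Set.range (fun p : Fin d × Fin d => a p.1 p.2) ∪ {(↑w⁻¹ : A)})
  refine (Submodule.span_le (p := Subalgebra.toSubmodule S)).mpr ?_
  rintro x ⟨⟨k, l⟩, rfl⟩
  have : C k l = a k l - algebraMap R A (K k l) := by simp [a]
  simp only [this]
  exact S.sub_mem (Algebra.subset_adjoin (Or.inl ⟨(k, l), rfl⟩)) (S.algebraMap_mem _)

end Groth.Agent.S6080
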