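import Groth.Statements.S6081
import Groth.Agent.SGA3Union.SubComod

set_option autoImplicit false
universe u
open TensorProduct
open SGA3

namespace Groth.Agent.S6081

/-- Let R be a Noetherian ring and A a commutative Hopf algebra over R which is flat and of finite type
as an R-algebra, so that G = Spec A is an affine flat R-group scheme of finite type. Suppose that
the pair (G, Spec R) has the equivariant resolution property: for every A-comodule F which is
finitely generated as an R-module there are an A-comodule E which is finitely generated and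
projective as an R-module and a surjective R-linear map E → F compatible with the coactions. Then
there are a natural number d and a d × d matrix (a_ij) of elements of A with Δ(a_ij) = Σ_l a_il ⊗
a_lj and ε(a_ij) = δ_ij (a matrix corepresentation, i.e. a homomorphism G → GL_{d,R}) whose
determinant is a unit, such that A is generated as an R-algebra by the entries a_ij together with
the inverse of det(a_ij): G is a closed subgroup scheme of GL_{d,R}. (The published statement is
over a Noetherian scheme S, with G-equivariant coherent modules; this row is its assertion (ii), the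
case S affine, in Hopf-algebra form.) -/
theorem result (R : Type u) [CommRing R] [IsNoetherianRing R]
    (A : Type u) [CommRing A] [HopfAlgebra R A] [Module.Flat R A] [Algebra.FiniteType R A]
    (hRE : ∀ (F : Type u) [AddCommGroup F] [Module R F] [HopfRep.Comod R A F] [Module.Finite R F],
      ∃ (E : Type u) (_ : AddCommGroup E) (_ : Module R E) (_ : HopfRep.Comod R A E) (π : E →ₗ[R] F),
        Module.Finite R E ∧ Module.Projective R E ∧ Function.Surjective π ∧
        HopfRep.Comod.coact (k := R) (A := A) ∘ₗ π = π.rTensor A ∘ₗ HopfRep.Comod.coact (k := R) (A := A) (V := E)) :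
    ∃ (d : ℕ) (a : Matrix (Fin d) (Fin d) A),
      (∀ i j, CoalgebraStruct.comul (R := R) (a i j) = ∑ l, a i l ⊗ₜ[R] a l j) ∧
      (∀ i j, CoalgebraStruct.counit (R := R) (a i j) = if i = j then 1 else 0) ∧
      ∃ u : A, u * a.det = 1 ∧ Algebra.adjoin R (Set.range (fun p : Fin d × Fin d => a p.1 p.2) ∪ {u}) = ⊤ := by
  classical
  obtain ⟨S, hS⟩ := (inferInstance : Algebra.FiniteType R A).out
  obtain ⟨M, hfg, hSM, hM⟩ := Groth.Agent.SGA3Union.exists_fg_isSubcomod (R := R) (A := A) (V := A) S
  have : Module.Finite R M := Module.Finite.iff_fg.mpr hfg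
  let cM : HopfRep.Comod R A M := ComodSub.Comod.restr (inferInstance : HopfRep.Comod R A A) M hM
  obtain ⟨E, iA, iM, iC, π, hEf, hEp, hπ, hπc⟩ := @hRE M _ _ cM _
  obtain ⟨d, Em, C, hE, hEC, hCE, hcm, hcu, hspan⟩ :=
    Groth.Agent.SGA3Union.exists_coef_matrix (R := R) (A := A) (V := E)
  obtain ⟨a, hΔ, hε, hC⟩ := Groth.Agent.SGA3Union.corep_of_idem Em C hE hEC hCE hcm hcu
  obtain ⟨w, hw⟩ := Groth.Agent.SGA3Union.isUnit_det_corep hΔ hε
  refine ⟨d, a, hΔ, hε, (↑w⁻¹ : A), by rw [← hw, Units.inv_mul], ?_⟩
  rw [← top_le_iff, ← hS]
  refine Algebra.adjoin_le fun x hx => ?_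
  obtain ⟨e, he⟩ := hπ ⟨x, hSM hx⟩
  refine Algebra.adjoin_mono Set.subset_union_left ?_
  let f : E →ₗ[R] R := (CoalgebraStruct.counit (R := R) (A := A)) ∘ₗ M.subtype ∘ₗ π
  have h1 : Groth.Agent.HopfLib.sliceL f (iC.coact e) = x := by
    have h2 : ∀ z : E ⊗[R] A, Groth.Agent.HopfLib.sliceL f z =
        TensorProduct.lid R A (LinearMap.rTensor A CoalgebraStruct.counit
          (LinearMap.rTensor A M.subtype (LinearMap.rTensor A π z))) := by
      intro z
      induction z using TensorProduct.induction_on with
      | zero => simp
      | tmul p q => simp [f]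
      | add p q hp hq => simp [hp, hq]
    have h3 : LinearMap.rTensor A π (iC.coact e) = cM.coact (π e) := (LinearMap.congr_fun hπc e).symm
    have h4 : LinearMap.rTensor A M.subtype (cM.coact (π e)) = CoalgebraStruct.comul (R := R) (π e : A) :=
      ComodSub.restr_coact_coe _ M hM (π e)
    rw [h2, h3, h4, he, Coalgebra.rTensor_counit_comul, TensorProduct.lid_tmul, one_smul]
  rw [← h1]
  have hle : Submodule.span R (Set.range fun p : Fin d × Fin d => C p.1 p.2) ≤
      Subalgebra.toSubmodule (Algebra.adjoin R (Set.range fun p : Fin d × Fin d => a p.1 p.2)) :=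
    Submodule.span_le.mpr (Set.range_subset_iff.mpr fun p => hC p.1 p.2)
  exact hle (hspan f e)

end Groth.Agent.S6081
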