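import Groth.Statements.S6082
import Groth.Agent.SGA3Union.ProjCover

set_option autoImplicit false
universe u
open TensorProduct
open SGA3

namespace Groth.Agent.S6082

/-- Let R be a Noetherian regular ring of Krull dimension at most 2, C a (coassociative, counital)
R-coalgebra which is projective as an R-module, and F a right C-comodule which is finitely generated
as an R-module. Then F is a quotient of a C-comodule which is finitely generated and projective as
an R-module: there are such a comodule V and a surjective R-linear map V → F compatible with the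
coactions. -/
theorem result (R : Type u) [CommRing R] [IsRegularRing R]
    (hdim : ringKrullDim R ≤ 2) (C : Type u) [AddCommGroup C] [Module R C] [Coalgebra R C] [Module.Projective R C]
    (F : Type u) [AddCommGroup F] [Module R F] [HopfRep.Comod R C F] [Module.Finite R F] :
    ∃ (V : Type u) (_ : AddCommGroup V) (_ : Module R V) (_ : HopfRep.Comod R C V) (φ : V →ₗ[R] F),
      Module.Finite R V ∧ Module.Projective R V ∧ Function.Surjective φ ∧ HopfRep.Comod.coact (k := R) (A := C) ∘ₗ φ = φ.rTensor C ∘ₗ HopfRep.Comod.coact (k := R) (A := C) (V := V) := by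
  classical
  obtain ⟨n, q, hq⟩ := Module.Finite.exists_fin' R F
  let cP := Groth.Agent.SGA3Union.cofree (R := R) (C := C) (Fin n → R)
  obtain ⟨W, hfg, hW, hle, hsurj⟩ := Groth.Agent.SGA3Union.exists_cover (C := C) hq
  let cW : HopfRep.Comod R C W := ComodSub.Comod.restr cP W hW
  have : Module.Finite R W := Module.Finite.iff_fg.mpr hfg
  have hπ1 := Groth.Agent.SGA3Union.isComodHom_coverMap hW hle
  obtain ⟨m, q', hq'⟩ := Module.Finite.exists_fin' R W
  obtain ⟨s, hs⟩ := (inferInstance : Module.Projective R ((Fin n → R) ⊗[R] C)).out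
  let cP' := Groth.Agent.SGA3Union.cofree (R := R) (C := C) (Fin m → R)
  obtain ⟨S, hSf, hSp, hS, hSle, hSsurj⟩ :=
    @Groth.Agent.SGA3Union.exists_projective_cover R _ C _ _ _ W _ _ cW m q' _ _ hdim _ hq' _
      (s ∘ₗ W.subtype) (hs.injective.comp W.injective_subtype)
  have hπ2 := @Groth.Agent.SGA3Union.isComodHom_coverMap R _ C _ _ _ W _ _ cW m q' _ S hS hSle
  let cS : HopfRep.Comod R C S := ComodSub.Comod.restr cP' S hS
  refine ⟨S, inferInstance, inferInstance, cS,
    (Groth.Agent.SGA3Union.coverMap F q ∘ₗ W.subtype) ∘ₗ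
      (@Groth.Agent.SGA3Union.coverMap R _ C _ _ _ W _ _ m q' ∘ₗ S.subtype), hSf, hSp, fun f => ?_, ?_⟩
  · obtain ⟨x, hx, hf⟩ := hsurj f
    obtain ⟨y, hy, hy'⟩ := hSsurj ⟨x, hx⟩
    exact ⟨⟨y, hy⟩, (congrArg (fun z : W => Groth.Agent.SGA3Union.coverMap F q (z : (Fin n → R) ⊗[R] C)) hy').trans hf⟩
  · exact Groth.Agent.HopfLib.IsComodHom.comp (A := C) hπ1 hπ2

end Groth.Agent.S6082
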