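import Groth.Statements.S6083
import Groth.Agent.SGA3Homog26.UnivOpenQF

set_option autoImplicit false
set_option linter.style.haveILetI false
set_option backward.isDefEq.respectTransparency.types false
universe u
open CategoryTheory CategoryTheory.Limits MonoidalCategory CartesianMonoidalCategory MonObj GrpObj AlgebraicGeometry
open SGA3

namespace Groth.Agent.S6083

/-- Let f : X → S be a morphism locally of finite presentation, s a point of S, x a point of the fibre
X_s = f⁻¹(s), n the local dimension of X_s at x, q : 𝔸^n_S → S the affine n-space over S and u : X →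
𝔸^n_S a locally quasi-finite morphism with u q = f. Suppose that f is universally open at the
generic point z of an irreducible component Z of X_s which contains x and has dimension n. Then u is
universally open at x. -/
theorem result (X S : Scheme.{u}) (f : X ⟶ S) [LocallyOfFinitePresentation f]
    (s : S) (x : X) (hxs : f.base x = s) (n : ℕ)
    (u : X ⟶ 𝔸(ULift.{u} (Fin n); S)) [LocallyQuasiFinite u] (hu : u ≫ (𝔸(ULift.{u} (Fin n); S) ↘ S) = f)
    (Z : Set ↥(f.base ⁻¹' {s})) (hZ : Z ∈ irreducibleComponents ↥(f.base ⁻¹' {s})) (hxZ : x ∈ (Subtype.val '' Z))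
    (z : X) (hz : z ∈ Subtype.val '' Z ∧ Subtype.val '' Z ⊆ closure {z}) (hopen : EGA43.IsUnivOpenAt f z)
    (hdimZ : topologicalKrullDim ↥Z = n) (hdimx : FlatMor.localDim ↥(f.base ⁻¹' {s}) ⟨x, hxs⟩ = n) :
    EGA43.IsUnivOpenAt u x := by
  have hcl : IsClosed Z := isClosed_of_mem_irreducibleComponents Z hZ
  obtain ⟨⟨⟨z₀, hz₀⟩, hzZ, rfl⟩, hzsub⟩ := hz
  have hval : Subtype.val '' Z = closure {z₀} ∩ f.base ⁻¹' {s} := by
    refine Set.Subset.antisymm (fun w hw => ⟨hzsub hw, ?_⟩) fun w hw => ?_
    · obtain ⟨⟨w', hw'⟩, -, rfl⟩ := hw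
      exact hw'
    · refine ⟨⟨w, hw.2⟩, hcl.closure_subset_iff.2 (Set.singleton_subset_iff.2 hzZ) ?_, rfl⟩
      rw [Topology.IsInducing.subtypeVal.closure_eq_preimage_closure_image]
      simpa using hw.1
  have hmax : ∀ w, w ⤳ z₀ → f w = f z₀ → w = z₀ := by
    intro w hw hwe
    have hw' : w ∈ f.base ⁻¹' {s} := hwe.trans hz₀
    let w' : ↥(f.base ⁻¹' {s}) := ⟨w, hw'⟩
    have hsub : Z ⊆ closure {w'} := fun a ha => by
      rw [Topology.IsInducing.subtypeVal.closure_eq_preimage_closure_image]
      simp only [Set.image_singleton, Set.mem_preimage]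
      exact (specializes_iff_closure_subset.1 hw) (hzsub ⟨a, ha, rfl⟩)
    have hmem : w' ∈ Z := by
      have hirr : IsIrreducible (closure {w'}) := isIrreducible_singleton.closure
      exact hZ.2 hirr hsub (subset_closure rfl)
    exact (hw.antisymm (specializes_iff_mem_closure.2 (hzsub ⟨w', hmem, rfl⟩))).eq
  have hdim : EGA43.DimFormula.trdAt f z₀ = n := by
    have h1 := EGA43.Chevalley.topologicalKrullDim_closure_inter_fibre f z₀
    have e : f.base ⁻¹' {f z₀} = f.base ⁻¹' {s} := congrArg (fun t => f.base ⁻¹' {t}) (show f z₀ = s from hz₀)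
    rw [e, ← hval,
      ← (Topology.IsEmbedding.subtypeVal.homeomorphImage Z).isHomeomorph.topologicalKrullDim_eq, hdimZ] at h1
    exact_mod_cast h1.symm
  obtain ⟨x₀, hx₀Z, hx₀⟩ := hxZ
  have hzx : z₀ ⤳ x := specializes_iff_mem_closure.2 (hzsub ⟨x₀, hx₀Z, hx₀⟩)
  exact SGA3Homog26.isUnivOpenAt_of_generic f u hu hzx (hz₀.trans hxs.symm) hmax hdim hopen

end Groth.Agent.S6083
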