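import Groth.Statements.S6084
import Groth.Agent.AlgSpLib.FppfSource
import Mathlib.AlgebraicGeometry.Morphisms.QuasiFinite
import Mathlib.AlgebraicGeometry.Limits
import Mathlib.AlgebraicGeometry.ResidueField

set_option autoImplicit false
set_option linter.style.haveILetI false
set_option backward.isDefEq.respectTransparency.types false
universe u
open CategoryTheory CategoryTheory.Limits MonoidalCategory CartesianMonoidalCategory MonObj GrpObj AlgebraicGeometry
open SGA3

namespace Groth.Agent.S6084

/-- Let k be a perfect field, G a group scheme locally of finite type over k and u : F → G a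
homomorphism of k-group schemes which is a closed immersion and surjective on underlying spaces,
with F reduced (so F is G_red with its group structure). Let p : G → X be a k-morphism which is
flat, surjective and locally of finite presentation and makes the square formed by (f, g) ↦ u(f) ·
g, the second projection F ×_k G → G and p (twice) cartesian (X is the quotient of G by F acting by
left translations). Then X is the spectrum of a finite local k-algebra with residue field k: X is
affine, its underlying space is a single point at which the structure morphism induces an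
isomorphism of residue fields, and the ring of global sections of X is finite over k. -/
theorem result (k : Type u) [Field k] [PerfectField k]
    (F G : Over (Spec (CommRingCat.of k))) [GrpObj F] [GrpObj G] [LocallyOfFiniteType G.hom] [IsReduced F.left]
    (u : F ⟶ G) [IsMonHom u] [IsClosedImmersion u.left] [Surjective u.left]
    (X : Over (Spec (CommRingCat.of k))) (p : G ⟶ X) [Flat p.left] [Surjective p.left] [LocallyOfFinitePresentation p.left]
    (hp : IsPullback ((u ▷ G) ≫ μ[G]) (snd F G) p p) :
    IsAffine X.left ∧ (∃ x : X.left, (Set.univ : Set X.left) = {x} ∧ IsIso (X.hom.residueFieldMap x)) ∧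
      ((Scheme.ΓSpecIso (CommRingCat.of k)).inv ≫ X.hom.appTop).hom.Finite := by
  let e : 𝟙_ (Over (Spec (CommRingCat.of k))) ⟶ X := η[G] ≫ p
  haveI : Subsingleton ↥(𝟙_ (Over (Spec (CommRingCat.of k)))).left :=
    inferInstanceAs (Subsingleton ↥(Spec (CommRingCat.of k)))
  let p₀ : (𝟙_ (Over (Spec (CommRingCat.of k)))).left := IsLocalRing.closedPoint k
  have hall : ∀ x : X.left, x = e.left p₀ := by
    intro x
    obtain ⟨y, rfl⟩ := p.left.surjective x
    obtain ⟨f, rfl⟩ := u.left.surjective y
    let T : Over (Spec (CommRingCat.of k)) := Over.mk (F.left.fromSpecResidueField f ≫ F.hom)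
    let q : T ⟶ F := Over.homMk (F.left.fromSpecResidueField f) rfl
    have h := congrArg (fun m => lift q (1 : T ⟶ G) ≫ m) hp.w
    simp only [Category.assoc] at h
    rw [lift_snd_assoc, lift_whiskerRight_assoc, ← reassoc_of% (Hom.mul_def (q ≫ u) (1 : T ⟶ G)),
      _root_.mul_one, Hom.one_def] at h
    have h2 : ((q ≫ u) ≫ p).left (IsLocalRing.closedPoint _) = ((toUnit T ≫ η[G]) ≫ p).left (IsLocalRing.closedPoint _) :=
      congrArg (fun m : T ⟶ X => m.left (IsLocalRing.closedPoint _)) (by simpa only [Category.assoc] using h)
    have hf : q.left (IsLocalRing.closedPoint _) = f := Scheme.fromSpecResidueField_apply _ _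
    change p.left (u.left (q.left (IsLocalRing.closedPoint _))) = e.left ((toUnit T).left (IsLocalRing.closedPoint _)) at h2
    rw [hf] at h2
    rw [h2]
    exact congrArg e.left (Subsingleton.elim _ _)
  haveI : Subsingleton X.left := ⟨fun a b => (hall a).trans (hall b).symm⟩
  haveI : IsAffine X.left := inferInstance
  haveI : LocallyOfFiniteType X.hom := AlgSpLib.lft_of_comp_fppf p.left X.hom (by rw [Over.w p]; infer_instance)
  haveI : LocallyQuasiFinite X.hom := by
    rw [locallyQuasiFinite_iff_isDiscrete_preimage_singleton]
    exact fun y => (Set.subsingleton_of_subsingleton).isDiscrete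
  haveI : IsFinite X.hom := IsFinite.of_locallyQuasiFinite _
  refine ⟨inferInstance, ⟨e.left p₀, Set.ext fun x => ⟨fun _ => hall x, fun _ => trivial⟩, ?_⟩, ?_⟩
  · have h1 : e.left ≫ X.hom = 𝟙 _ := Over.w e
    haveI h2 : IsIso (X.hom.residueFieldMap (e.left p₀) ≫ e.left.residueFieldMap p₀) := by
      rw [← Scheme.residueFieldMap_comp]
      have key : ∀ {A B : Scheme.{u}} (f g : A ⟶ B) (a : A), f = g → IsIso (g.residueFieldMap a) → IsIso (f.residueFieldMap a) := by
        rintro A B f g a rfl h; exact h
      refine key _ (𝟙 _) p₀ h1 ?_
      rw [Scheme.residueFieldMap_id]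
      exact IsIso.id _
    have h3 := ConcreteCategory.bijective_of_isIso (X.hom.residueFieldMap (e.left p₀) ≫ e.left.residueFieldMap p₀)
    have hg : Function.Injective (e.left.residueFieldMap p₀).hom := RingHom.injective _
    rw [ConcreteCategory.isIso_iff_bijective]
    have h3' : Function.Bijective ((e.left.residueFieldMap p₀).hom ∘ (X.hom.residueFieldMap (e.left p₀)).hom) := h3
    exact ⟨h3'.1.of_comp, fun z => by
      obtain ⟨w, hw⟩ := h3'.2 ((e.left.residueFieldMap p₀).hom z)
      exact ⟨w, hg hw⟩⟩
  · exact (X.hom.finite_appTop).comp
      (RingHom.Finite.of_surjective _ (ConcreteCategory.bijective_of_isIso (Scheme.ΓSpecIso (CommRingCat.of k)).inv).2)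

end Groth.Agent.S6084
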