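import Groth.Statements.S6087
import Groth.Agent.GrpLim26.Quotient

set_option autoImplicit false
set_option linter.style.haveILetI false
set_option backward.isDefEq.respectTransparency.types false
universe u
open CategoryTheory CategoryTheory.Limits MonoidalCategory CartesianMonoidalCategory MonObj GrpObj AlgebraicGeometry
open SGA3

namespace Groth.Agent.S6087

/-- Let S be the limit of a cofiltered system (S_i) of quasi-compact quasi-separated schemes with affine
transition morphisms, j an index, G_j an S_j-group scheme of finite presentation over S_j and u_j :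
G'_j → G_j a subgroup scheme (a homomorphism which is a monomorphism) with G'_j flat and of finite
presentation over S_j. For a base change G, G' of G_j, G'_j say that G/G' is representable when
there are Q and a morphism p : G → Q which is flat, surjective and locally of finite presentation
and makes the square formed by (g, h) ↦ g · u(h), the first projection G × G' → G and p (twice)
cartesian. Then G/G' is representable over S for the base changes to S if and only if there is an
index i over j such that G_i/G'_i is representable over S_i for the base changes to S_i. (The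
published statement is for representability of the fpqc quotient sheaf; with G' flat of finite
presentation this is the same as the existence of such a p. The published setting takes all S_i
affine over a fixed quasi-compact quasi-separated S_0.) -/
theorem result {I : Type u} [SmallCategory I] [IsCofiltered I]
    (D : I ⥤ Scheme.{u}) (c : Limits.Cone D) (hc : Limits.IsLimit c)
    [∀ (i i' : I) (f : i ⟶ i'), IsAffineHom (D.map f)] [∀ i, CompactSpace (D.obj i)] [∀ i, QuasiSeparatedSpace (D.obj i)]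
    (j : I) (Gj G'j : Over (D.obj j)) [GrpObj Gj] [GrpObj G'j]
    [LocallyOfFinitePresentation Gj.hom] [QuasiCompact Gj.hom] [QuasiSeparated Gj.hom]
    [Flat G'j.hom] [LocallyOfFinitePresentation G'j.hom] [QuasiCompact G'j.hom] [QuasiSeparated G'j.hom]
    (uj : G'j ⟶ Gj) [IsMonHom uj] [Mono uj] :
    (∃ (Q : Over c.pt) (p : (Red.bc (c.π.app j) Gj) ⟶ Q), Flat p.left ∧ Surjective p.left ∧ LocallyOfFinitePresentation p.left ∧
        IsPullback (((Red.bc (c.π.app j) Gj) ◁ ((Over.pullback (c.π.app j)).map uj)) ≫ μ[(Red.bc (c.π.app j) Gj)]) (fst (Red.bc (c.π.app j) Gj) (Red.bc (c.π.app j) G'j)) p p) ↔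
    ∃ (i : I) (f : i ⟶ j), ∃ (Q : Over (D.obj i)) (p : (Red.bc (D.map f) Gj) ⟶ Q), Flat p.left ∧ Surjective p.left ∧ LocallyOfFinitePresentation p.left ∧
        IsPullback (((Red.bc (D.map f) Gj) ◁ ((Over.pullback (D.map f)).map uj)) ≫ μ[(Red.bc (D.map f) Gj)]) (fst (Red.bc (D.map f) Gj) (Red.bc (D.map f) G'j)) p p := by
  haveI : ∀ {i i' : I} (f : i ⟶ i'), IsAffineHom (D.map f) := fun {i i'} f => inferInstance
  constructor
  swap
  · rintro ⟨i, f, h⟩
    exact (GrpLim26.HasQuot.bc (c.π.app i) (G := Red.bc (D.map f) Gj) h).of_iso (GrpLim26.cmp (c.w f) Gj)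
      (GrpLim26.cmp (c.w f) G'j) (GrpLim26.cmp_natural (c.w f) uj)
  rintro ⟨Q, p, h1, h2, h3, sq⟩
  haveI : LocallyOfFinitePresentation (Red.bc (c.π.app j) Gj).hom := inferInstanceAs (LocallyOfFinitePresentation (pullback.snd Gj.hom _))
  haveI : QuasiCompact (Red.bc (c.π.app j) Gj).hom := inferInstanceAs (QuasiCompact (pullback.snd Gj.hom _))
  haveI : QuasiSeparated (Red.bc (c.π.app j) Gj).hom := inferInstanceAs (QuasiSeparated (pullback.snd Gj.hom _))
  haveI : QuasiCompact (Red.bc (c.π.app j) G'j).hom := inferInstanceAs (QuasiCompact (pullback.snd G'j.hom _))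
  obtain ⟨_, _, _⟩ := GrpLim26.fp_quot p sq
  obtain ⟨j', Z, hZ, qZ, _, _, _, hqZ⟩ := H8Lim.exists_stage_scheme hc Q.hom
  let i := IsCofiltered.min j j'
  let f : i ⟶ j := IsCofiltered.minToLeft j j'
  let f' : i ⟶ j' := IsCofiltered.minToRight j j'
  let X : Over (D.obj i) := Red.bc (D.map f') (Over.mk hZ)
  let Gi : Over (D.obj i) := Red.bc (D.map f) Gj
  let Hi : Over (D.obj i) := Red.bc (D.map f) G'j
  let ui : Hi ⟶ Gi := (Over.pullback (D.map f)).map uj
  haveI : LocallyOfFinitePresentation X.hom := inferInstanceAs (LocallyOfFinitePresentation (pullback.snd hZ _))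
  haveI : QuasiCompact X.hom := inferInstanceAs (QuasiCompact (pullback.snd hZ _))
  haveI : QuasiSeparated X.hom := inferInstanceAs (QuasiSeparated (pullback.snd hZ _))
  haveI : LocallyOfFinitePresentation Gi.hom := inferInstanceAs (LocallyOfFinitePresentation (pullback.snd Gj.hom _))
  haveI : QuasiCompact Gi.hom := inferInstanceAs (QuasiCompact (pullback.snd Gj.hom _))
  haveI : QuasiSeparated Gi.hom := inferInstanceAs (QuasiSeparated (pullback.snd Gj.hom _))
  let εQ : Q ≅ Red.bc (c.π.app i) X :=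
    (Over.isoMk hqZ.isoPullback hqZ.isoPullback_hom_snd : Q ≅ Red.bc (c.π.app j') (Over.mk hZ)) ≪≫
      (GrpLim26.cmp (c.w f') (Over.mk hZ)).symm
  let p₁ : Red.bc (c.π.app i) Gi ⟶ Red.bc (c.π.app i) X := (GrpLim26.cmp (c.w f) Gj).hom ≫ p ≫ εQ.hom
  have hu : (Over.pullback (c.π.app j)).map uj ≫ (GrpLim26.cmp (c.w f) Gj).symm.hom =
      (GrpLim26.cmp (c.w f) G'j).symm.hom ≫ (Over.pullback (c.π.app i)).map ui := by
    rw [Iso.symm_hom, Iso.symm_hom, Iso.comp_inv_eq, Category.assoc, GrpLim26.cmp_natural, Iso.inv_hom_id_assoc]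
  haveI : IsMonHom (GrpLim26.cmp (c.w f) Gj).symm.hom := inferInstanceAs (IsMonHom (GrpLim26.cmp (c.w f) Gj).inv)
  obtain ⟨a1, a2, a3⟩ := GrpLim26.quot_transport (G := Red.bc (c.π.app j) Gj) (GrpLim26.cmp (c.w f) Gj).symm
    (GrpLim26.cmp (c.w f) G'j).symm εQ hu h1 h2 sq (p' := p₁) (by simp [p₁])
  -- a model of the projection
  obtain ⟨k₁, g₁, a, ha⟩ := GrpLim26.exists_hom hc p₁
  have hma := GrpLim26.IsModel.map_eq ha
  let G₁ : Over (D.obj k₁) := Red.bc (D.map g₁) Gi
  let H₁ : Over (D.obj k₁) := Red.bc (D.map g₁) Hi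
  let u₁ : H₁ ⟶ G₁ := (Over.pullback (D.map g₁)).map ui
  let Λ := Over.pullback (c.π.app k₁)
  haveI : IsMonHom (GrpLim26.cmp (c.w g₁) Gi).symm.hom := inferInstanceAs (IsMonHom (GrpLim26.cmp (c.w g₁) Gi).inv)
  have hu₁ : (Over.pullback (c.π.app i)).map ui ≫ (GrpLim26.cmp (c.w g₁) Gi).symm.hom =
      (GrpLim26.cmp (c.w g₁) Hi).symm.hom ≫ Λ.map u₁ := by
    rw [Iso.symm_hom, Iso.symm_hom, Iso.comp_inv_eq, Category.assoc, GrpLim26.cmp_natural, Iso.inv_hom_id_assoc]
  obtain ⟨b1, b2, b3⟩ := GrpLim26.quot_transport (G := Red.bc (c.π.app i) Gi) (GrpLim26.cmp (c.w g₁) Gi).symm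
    (GrpLim26.cmp (c.w g₁) Hi).symm (GrpLim26.cmp (c.w g₁) X).symm hu₁ a1 a2 a3 (p' := Λ.map a)
    (by rw [Iso.symm_hom, Iso.symm_hom, Iso.comp_inv_eq, Category.assoc, hma, Iso.inv_hom_id_assoc])
  have b3' := (GrpLim26.isPullback_act_iff (c.π.app k₁) u₁ _).1 b3
  -- commutation at a stage
  haveI : LocallyOfFinitePresentation G₁.hom := inferInstanceAs (LocallyOfFinitePresentation (pullback.snd Gi.hom _))
  haveI : QuasiCompact G₁.hom := inferInstanceAs (QuasiCompact (pullback.snd Gi.hom _))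
  haveI : QuasiSeparated G₁.hom := inferInstanceAs (QuasiSeparated (pullback.snd Gi.hom _))
  haveI : LocallyOfFinitePresentation H₁.hom := inferInstanceAs (LocallyOfFinitePresentation (pullback.snd (pullback.snd G'j.hom _) _))
  haveI : QuasiCompact H₁.hom := inferInstanceAs (QuasiCompact (pullback.snd (pullback.snd G'j.hom _) _))
  haveI : QuasiSeparated H₁.hom := inferInstanceAs (QuasiSeparated (pullback.snd (pullback.snd G'j.hom _) _))
  obtain ⟨_, _, _⟩ := GrpLim26.fp_tensor (G := G₁) (H := H₁)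
  haveI : LocallyOfFinitePresentation (Red.bc (D.map g₁) X).hom := inferInstanceAs (LocallyOfFinitePresentation (pullback.snd X.hom _))
  haveI : QuasiCompact (Red.bc (D.map g₁) X).hom := inferInstanceAs (QuasiCompact (pullback.snd X.hom _))
  haveI : QuasiSeparated (Red.bc (D.map g₁) X).hom := inferInstanceAs (QuasiSeparated (pullback.snd X.hom _))
  obtain ⟨k₂, g₂, hw⟩ := GrpLim26.exists_eq hc (((G₁ ◁ u₁) ≫ μ[G₁]) ≫ a) (fst G₁ H₁ ≫ a)
    ((Functor.map_comp _ _ _).trans (b3'.w.trans (Functor.map_comp _ _ _).symm))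
  let Ψ := Over.pullback (D.map g₂)
  haveI : LocallyOfFinitePresentation (Ψ.obj G₁).hom := inferInstanceAs (LocallyOfFinitePresentation (pullback.snd G₁.hom _))
  haveI : QuasiCompact (Ψ.obj G₁).hom := inferInstanceAs (QuasiCompact (pullback.snd G₁.hom _))
  haveI : QuasiSeparated (Ψ.obj G₁).hom := inferInstanceAs (QuasiSeparated (pullback.snd G₁.hom _))
  haveI : LocallyOfFinitePresentation (Ψ.obj (Red.bc (D.map g₁) X)).hom := inferInstanceAs (LocallyOfFinitePresentation (pullback.snd (Red.bc (D.map g₁) X).hom _))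
  haveI : QuasiCompact (Ψ.obj (Red.bc (D.map g₁) X)).hom := inferInstanceAs (QuasiCompact (pullback.snd (Red.bc (D.map g₁) X).hom _))
  haveI : QuasiSeparated (Ψ.obj (Red.bc (D.map g₁) X)).hom := inferInstanceAs (QuasiSeparated (pullback.snd (Red.bc (D.map g₁) X).hom _))
  haveI : LocallyOfFinitePresentation (Ψ.obj (G₁ ⊗ H₁)).hom := inferInstanceAs (LocallyOfFinitePresentation (pullback.snd (G₁ ⊗ H₁).hom _))
  haveI : QuasiCompact (Ψ.obj (G₁ ⊗ H₁)).hom := inferInstanceAs (QuasiCompact (pullback.snd (G₁ ⊗ H₁).hom _))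
  haveI : QuasiSeparated (Ψ.obj (G₁ ⊗ H₁)).hom := inferInstanceAs (QuasiSeparated (pullback.snd (G₁ ⊗ H₁).hom _))
  have e₂ : Over.pullback (D.map g₂) ⋙ Over.pullback (c.π.app k₂) ≅ Λ := GrpLim26.cmpNat (c.w g₂)
  obtain ⟨k₃, g₃, h₃⟩ := GrpLim26.exists_isPullback hc (Ψ.map ((G₁ ◁ u₁) ≫ μ[G₁])) (Ψ.map (fst G₁ H₁)) (Ψ.map a)
    (by rw [← Functor.map_comp, ← Functor.map_comp]; exact hw)
    (GrpLim26.isPullback_natIso e₂.symm b3')
  obtain ⟨k₄, g₄, h₄, h₄'⟩ := GrpLim26.exists_flat_surjective hc (Ψ.map a)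
    (GrpLim26.prop_natIso (P := @Flat) e₂.symm (f := a) b1) (GrpLim26.prop_natIso (P := @Surjective) e₂.symm (f := a) b2)
  obtain ⟨k, r₃, r₄, hr⟩ := IsCofiltered.cospan g₃ g₄
  let r : k ⟶ k₁ := (r₃ ≫ g₃) ≫ g₂
  let E : (Ψ ⋙ Over.pullback (D.map g₃)) ⋙ Over.pullback (D.map r₃) ≅ Over.pullback (D.map r) :=
    Functor.associator _ _ _ ≪≫ Functor.isoWhiskerLeft Ψ (GrpLim26.cmpNat (D.map_comp r₃ g₃).symm) ≪≫
      GrpLim26.cmpNat (D.map_comp (r₃ ≫ g₃) g₂).symm
  let E' : (Ψ ⋙ Over.pullback (D.map g₄)) ⋙ Over.pullback (D.map r₄) ≅ Over.pullback (D.map r) :=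
    Functor.associator _ _ _ ≪≫ Functor.isoWhiskerLeft Ψ (GrpLim26.cmpNat (by rw [hr, D.map_comp])) ≪≫
      GrpLim26.cmpNat (D.map_comp (r₃ ≫ g₃) g₂).symm
  have hsq := GrpLim26.isPullback_natIso E (h₃.map (Over.pullback (D.map r₃)))
  have hfl : Flat ((Over.pullback (D.map r)).map a).left := GrpLim26.prop_natIso (P := @Flat) E' (f := a)
    (MorphismProperty.of_isPullback (P := @Flat) (SGA3UnitSec.isPullback_map_left (D.map r₄) _) h₄)
  have hsu : Surjective ((Over.pullback (D.map r)).map a).left := GrpLim26.prop_natIso (P := @Surjective) E' (f := a)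
    (MorphismProperty.of_isPullback (P := @Surjective) (SGA3UnitSec.isPullback_map_left (D.map r₄) _) h₄')
  haveI : LocallyOfFinitePresentation (a.left ≫ (Red.bc (D.map g₁) X).hom) := by rw [Over.w a]; infer_instance
  haveI := EGA43.Limit.locallyOfFinitePresentation_of_comp a.left (Red.bc (D.map g₁) X).hom
  have hlfp : LocallyOfFinitePresentation ((Over.pullback (D.map r)).map a).left :=
    MorphismProperty.of_isPullback (P := @LocallyOfFinitePresentation) (SGA3UnitSec.isPullback_map_left (D.map r) a) ‹_›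
  have hq : GrpLim26.HasQuot ((Over.pullback (D.map r)).map u₁ : Red.bc (D.map r) H₁ ⟶ Red.bc (D.map r) G₁) :=
    ⟨_, _, hfl, hsu, hlfp, (GrpLim26.isPullback_act_iff (D.map r) u₁ _).2 hsq⟩
  have hq' := hq.of_iso (GrpLim26.cmp (D.map_comp r g₁).symm Gi) (GrpLim26.cmp (D.map_comp r g₁).symm Hi)
    (GrpLim26.cmp_natural (D.map_comp r g₁).symm ui)
  exact ⟨k, (r ≫ g₁) ≫ f, hq'.of_iso (GrpLim26.cmp (D.map_comp (r ≫ g₁) f).symm Gj)
    (GrpLim26.cmp (D.map_comp (r ≫ g₁) f).symm G'j) (GrpLim26.cmp_natural (D.map_comp (r ≫ g₁) f).symm uj)⟩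

end Groth.Agent.S6087
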