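import Groth.Statements.S6088
import Groth.Agent.GrpLim26.Normal

set_option autoImplicit false
set_option linter.style.haveILetI false
set_option backward.isDefEq.respectTransparency.types false
universe u
open CategoryTheory CategoryTheory.Limits MonoidalCategory CartesianMonoidalCategory MonObj GrpObj AlgebraicGeometry
open SGA3

namespace Groth.Agent.S6088

/-- Let S be the limit of a cofiltered system (S_i) of quasi-compact quasi-separated schemes with affine
transition morphisms, j an index and u_j : H_j → G_j a homomorphism of S_j-group schemes of finite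
presentation over S_j; write u and u_i for its base changes to S and to S_i. Then u is a
monomorphism with H normal in G (for every S-scheme T, conjugates of T-points of H by T-points of G
are T-points of H) if and only if there is an index i over j such that u_i is a monomorphism with
H_i normal in G_i; and u is a monomorphism with H central in G (every T-point of H commutes with
every T-point of G) if and only if there is an index i over j with the same property for u_i. (The
published statement starts from a homomorphism u of S-groups of finite presentation and first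
descends it to some u_j; this row starts from u_j. The published setting takes all S_i affine over a
fixed quasi-compact quasi-separated S_0.) -/
theorem result {I : Type u} [SmallCategory I] [IsCofiltered I]
    (D : I ⥤ Scheme.{u}) (c : Limits.Cone D) (hc : Limits.IsLimit c)
    [∀ (i i' : I) (f : i ⟶ i'), IsAffineHom (D.map f)] [∀ i, CompactSpace (D.obj i)] [∀ i, QuasiSeparatedSpace (D.obj i)]
    (j : I) (Gj Hj : Over (D.obj j)) [GrpObj Gj] [GrpObj Hj]
    [LocallyOfFinitePresentation Gj.hom] [QuasiCompact Gj.hom] [QuasiSeparated Gj.hom]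
    [LocallyOfFinitePresentation Hj.hom] [QuasiCompact Hj.hom] [QuasiSeparated Hj.hom]
    (uj : Hj ⟶ Gj) [IsMonHom uj] :
    ((Mono ((Over.pullback (c.π.app j)).map uj) ∧ AlgGrp.IsNormalHom ((Over.pullback (c.π.app j)).map uj)) ↔
      ∃ (i : I) (f : i ⟶ j), Mono ((Over.pullback (D.map f)).map uj) ∧ AlgGrp.IsNormalHom ((Over.pullback (D.map f)).map uj)) ∧
    ((Mono ((Over.pullback (c.π.app j)).map uj) ∧ (∀ (T : Over c.pt) (g : T ⟶ (Red.bc (c.π.app j) Gj)) (n : T ⟶ (Red.bc (c.π.app j) Hj)), g * (n ≫ ((Over.pullback (c.π.app j)).map uj)) = (n ≫ ((Over.pullback (c.π.app j)).map uj)) * g)) ↔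
      ∃ (i : I) (f : i ⟶ j), Mono ((Over.pullback (D.map f)).map uj) ∧ (∀ (T : Over (D.obj i)) (g : T ⟶ (Red.bc (D.map f) Gj)) (n : T ⟶ (Red.bc (D.map f) Hj)), g * (n ≫ ((Over.pullback (D.map f)).map uj)) = (n ≫ ((Over.pullback (D.map f)).map uj)) * g)) := by
  obtain ⟨-, _, _⟩ := GrpLim26.fp_tensor (G := Gj) (H := Hj)
  constructor
  · constructor
    · rintro ⟨hm, hn⟩
      obtain ⟨i₁, f₁, h₁⟩ := GrpLim26.exists_mono hc uj hm
      obtain ⟨i₂, f₂, h₂⟩ := GrpLim26.exists_lift hc uj (GrpLim26.conjMor uj) ((GrpLim26.normal_bc_iff _ uj).1 hn)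
      obtain ⟨i₃, g₁, g₂, hg⟩ := IsCofiltered.cospan f₁ f₂
      refine ⟨i₃, g₁ ≫ f₁, GrpLim26.mono_mono g₁ h₁, ?_⟩
      rw [hg]
      exact (GrpLim26.normal_bc_iff _ uj).2 (GrpLim26.lift_mono g₂ h₂)
    · rintro ⟨i, f, hm, hn⟩
      exact ⟨GrpLim26.mono_limit hm,
        (GrpLim26.normal_bc_iff _ uj).2 (GrpLim26.lift_limit ((GrpLim26.normal_bc_iff _ uj).1 hn))⟩
  · constructor
    · rintro ⟨hm, hn⟩
      obtain ⟨i₁, f₁, h₁⟩ := GrpLim26.exists_mono hc uj hm
      obtain ⟨i₂, f₂, h₂⟩ := GrpLim26.exists_eq hc _ _ ((GrpLim26.central_bc_iff _ uj).1 hn)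
      obtain ⟨i₃, g₁, g₂, hg⟩ := IsCofiltered.cospan f₁ f₂
      refine ⟨i₃, g₁ ≫ f₁, GrpLim26.mono_mono g₁ h₁, ?_⟩
      rw [hg]
      exact (GrpLim26.central_bc_iff _ uj).2 (GrpLim26.map_eq_mono g₂ h₂)
    · rintro ⟨i, f, hm, hn⟩
      exact ⟨GrpLim26.mono_limit hm,
        (GrpLim26.central_bc_iff _ uj).2 (GrpLim26.map_eq_limit ((GrpLim26.central_bc_iff _ uj).1 hn))⟩

end Groth.Agent.S6088
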