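import Groth.Statements.S6089
import Groth.Agent.SGA3Homog26.Fibrewise
import Groth.Agent.AlgGrpLib.ConnComp
import Groth.Agent.FlatLocal.Descent
import Groth.Agent.CAlgH.CIMorphism
import Groth.Agent.AlgSpLib.OnePointFlat
import Groth.Agent.VarietyLib.AffineNhd
import Groth.Agent.SGA3cLib.ArtinComponent
import Mathlib.AlgebraicGeometry.Morphisms.FlatDescent

set_option autoImplicit false
set_option linter.style.haveILetI false
set_option backward.isDefEq.respectTransparency.types false
universe u
open CategoryTheory CategoryTheory.Limits MonoidalCategory CartesianMonoidalCategory MonObj GrpObj AlgebraicGeometry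
open SGA3

namespace Groth.Agent.S6089

theorem lfp_of_lft {k : Type u} [Field k] {F G : Over (Spec (CommRingCat.of k))} [LocallyOfFiniteType F.hom]
    [LocallyOfFiniteType G.hom] (u : F ⟶ G) : LocallyOfFinitePresentation u.left := by
  haveI : IsLocallyNoetherian G.left := LocallyOfFiniteType.isLocallyNoetherian G.hom
  haveI : LocallyOfFiniteType (u.left ≫ G.hom) := by rw [Over.w u]; infer_instance
  haveI : LocallyOfFiniteType u.left := locallyOfFiniteType_of_comp _ G.hom
  infer_instance

theorem isPullback_whiskerLeft {C : Type*} [Category C] [CartesianMonoidalCategory C] {W X Y : C} (u : X ⟶ Y) :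
    IsPullback (snd W X) (W ◁ u) u (snd W Y) := by
  refine IsPullback.of_isLimit' ⟨(whiskerLeft_snd _ _).symm⟩ (PullbackCone.IsLimit.mk _
    (fun s => lift (s.snd ≫ fst W Y) s.fst) (fun s => lift_snd _ _) (fun s => ?_) fun s m h1 h2 => ?_)
  · ext
    · simp
    · simpa using s.condition
  · ext
    · simp [← h2]
    · simp [← h1]

theorem isPullback_whiskerRight {C : Type*} [Category C] [CartesianMonoidalCategory C] {W X Y : C} (u : X ⟶ Y) :
    IsPullback (fst X W) (u ▷ W) u (fst Y W) := by
  refine IsPullback.of_isLimit' ⟨(whiskerRight_fst _ _).symm⟩ (PullbackCone.IsLimit.mk _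
    (fun s => lift s.fst (s.snd ≫ snd Y W)) (fun s => lift_fst _ _) (fun s => ?_) fun s m h1 h2 => ?_)
  · ext
    · simpa using s.condition
    · simp
  · ext
    · simp [← h1]
    · simp [← h2]

/-- Let k be a perfect field and u : F → G a homomorphism of k-group schemes locally of finite type over
k. Let a : F' → F and b : G' → G be homomorphisms which are closed immersions, surjective on
underlying spaces, with F' and G' reduced (the subgroups F_red and G_red), let p : F → X and q : G →
Y be k-morphisms which are flat, surjective and locally of finite presentation and make the squares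
formed by (f', f) ↦ a(f') · f, the second projection, p, p (and likewise for b, q) cartesian (the
quotients of F and G by the left actions of F_red and G_red), and let v : X → Y satisfy p v = u q.
Then u is flat if and only if (ii) holds: the neutral component of G (the connected component of the
unit point) is contained in the closure of the image under u of the neutral component of F, and v is
flat. -/
theorem result (k : Type u) [Field k] [PerfectField k]
    (F G F' G' : Over (Spec (CommRingCat.of k))) [GrpObj F] [GrpObj G] [GrpObj F'] [GrpObj G']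
    [LocallyOfFiniteType F.hom] [LocallyOfFiniteType G.hom] (u : F ⟶ G) [IsMonHom u]
    [IsReduced F'.left] (a : F' ⟶ F) [IsMonHom a] [IsClosedImmersion a.left] [Surjective a.left]
    [IsReduced G'.left] (b : G' ⟶ G) [IsMonHom b] [IsClosedImmersion b.left] [Surjective b.left]
    (X Y : Over (Spec (CommRingCat.of k))) (p : F ⟶ X) [Flat p.left] [Surjective p.left] [LocallyOfFinitePresentation p.left]
    (hp : IsPullback ((a ▷ F) ≫ μ[F]) (snd F' F) p p)
    (q : G ⟶ Y) [Flat q.left] [Surjective q.left] [LocallyOfFinitePresentation q.left]
    (hq : IsPullback ((b ▷ G) ≫ μ[G]) (snd G' G) q q)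
    (v : X ⟶ Y) (hv : p ≫ v = u ≫ q) :
    Flat u.left ↔
      ((∀ p₀ : (𝟙_ (Over (Spec (CommRingCat.of k)))).left, connectedComponent ((η[G] : (𝟙_ (Over (Spec (CommRingCat.of k)))) ⟶ G).left.base p₀) ⊆
          closure (u.left.base '' connectedComponent ((η[F] : (𝟙_ (Over (Spec (CommRingCat.of k)))) ⟶ F).left.base p₀))) ∧
        Flat v.left) := by
  haveI : IsLocallyNoetherian G.left := LocallyOfFiniteType.isLocallyNoetherian G.hom
  haveI : IsLocallyNoetherian F.left := LocallyOfFiniteType.isLocallyNoetherian F.hom
  haveI : Subsingleton ↥(𝟙_ (Over (Spec (CommRingCat.of k)))).left := inferInstanceAs (Subsingleton ↥(Spec (CommRingCat.of k)))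
  have hu1 : η[F] ≫ u = η[G] := IsMonHom.one_hom u
  have hue : ∀ p₀, u.left (η[F].left p₀) = η[G].left p₀ := fun p₀ => congrArg (fun f => f.left p₀) hu1
  have hsub : ∀ p₀, u.left '' connectedComponent (η[F].left p₀) ⊆ connectedComponent (η[G].left p₀) := fun p₀ =>
    hue p₀ ▸ u.left.continuous.image_connectedComponent_subset _
  constructor
  · intro hu
    refine ⟨fun p₀ => ?_, ?_⟩
    · haveI := hu
      haveI : LocallyOfFinitePresentation u.left := lfp_of_lft u
      have hopen : IsOpen (u.left '' connectedComponent (η[F].left p₀)) :=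
        u.left.isOpenMap _ (SGA3cLib.isOpen_connectedComponent _)
      have hirr : IsPreirreducible (connectedComponent (η[G].left p₀)) := by
        have hp : p₀ = IsLocalRing.closedPoint k := Subsingleton.elim _ _
        rw [hp]
        change IsPreirreducible (connectedComponent (AlgGrpLib.ConnComp.e₀ G))
        rw [AlgGrpLib.ConnComp.connectedComponent_eq G]
        exact isIrreducible_irreducibleComponent.isPreirreducible
      intro y hy
      refine mem_closure_iff.2 fun O hO hyO => ?_
      obtain ⟨z, -, hz1, hz2⟩ := hirr O _ hO hopen ⟨y, hy, hyO⟩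
        ⟨η[G].left p₀, mem_connectedComponent, ⟨_, mem_connectedComponent, hue p₀⟩⟩
      exact ⟨z, hz1, hz2⟩
    · haveI := hu
      haveI : Flat (p.left ≫ v.left) := by
        rw [← Over.comp_left, hv, Over.comp_left]; infer_instance
      exact FlatLocal.flat_of_comp p.left v.left
  rintro ⟨hdense, hvflat⟩
  -- the induced homomorphism on the reduced groups
  let t := pullback.snd b.left (a.left ≫ u.left)
  haveI : IsClosedImmersion t := MorphismProperty.pullback_snd b.left _ inferInstance
  haveI : Surjective t := MorphismProperty.pullback_snd b.left _ inferInstance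
  haveI : IsIso t := isIso_of_isClosedImmersion_of_surjective t
  have hfac : (CategoryTheory.inv t ≫ pullback.fst b.left (a.left ≫ u.left)) ≫ b.left = a.left ≫ u.left := by
    rw [Category.assoc, pullback.condition, IsIso.inv_hom_id_assoc]
  let u' : F' ⟶ G' := Over.homMk (CategoryTheory.inv t ≫ pullback.fst b.left (a.left ≫ u.left)) (by
    rw [← Over.w b, ← Category.assoc, hfac, Category.assoc, Over.w, Over.w])
  have hu' : u' ≫ b = a ≫ u := Over.OverMorphism.ext hfac
  haveI : Mono b.left := inferInstance
  haveI : Mono b := Over.mono_of_mono_left b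
  haveI : IsMonHom u' := ⟨by
      rw [← cancel_mono b, Category.assoc, hu', ← Category.assoc, IsMonHom.one_hom a, IsMonHom.one_hom u,
        IsMonHom.one_hom b], by
      rw [← cancel_mono b, Category.assoc, hu', ← Category.assoc, IsMonHom.mul_hom a, Category.assoc,
        IsMonHom.mul_hom u, Category.assoc, IsMonHom.mul_hom b, tensorHom_comp_tensorHom_assoc,
        tensorHom_comp_tensorHom_assoc, hu']⟩
  haveI : LocallyOfFiniteType F'.hom := by rw [← Over.w a]; infer_instance
  haveI : LocallyOfFiniteType G'.hom := by rw [← Over.w b]; infer_instance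
  haveI : Flat u'.left := by
    let p₀ : Spec (CommRingCat.of k) := IsLocalRing.closedPoint k
    obtain ⟨θ, hθ, -⟩ := DimLib.exists_genericPoint_of_mem_components
      (irreducibleComponent_mem_irreducibleComponents (AlgGrpLib.ConnComp.e₀ F))
    have hθ' : IsGenericPoint θ (connectedComponent (η[F].left p₀)) :=
      (AlgGrpLib.ConnComp.connectedComponent_eq F).symm ▸ hθ
    obtain ⟨ξ, hξ, hξe⟩ := VarietyLib.exists_genericPoints_specializes (η[G].left p₀)
    have hξc : ξ ∈ connectedComponent (η[G].left p₀) := by
      rw [connectedComponent_eq_iff_mem.2 (isPreconnected_singleton.closure.subset_connectedComponent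
        (subset_closure rfl) (specializes_iff_mem_closure.1 hξe))]
      exact mem_connectedComponent
    have hθξ : u.left θ ⤳ ξ := by
      refine specializes_iff_mem_closure.2 (closure_minimal ?_ isClosed_closure (hdense p₀ hξc))
      rintro _ ⟨y, hy, rfl⟩
      exact ((hθ'.specializes hy).map u.left.continuous).mem_closure
    have hmax : ∀ q, q ⤳ ξ → q = ξ := fun q hq => by
      have h1 : closure {ξ} ⊆ closure {q} := specializes_iff_closure_subset.1 hq
      exact IsGenericPoint.eq isGenericPoint_closure
        (show IsGenericPoint ξ (closure {q}) from h1.antisymm (hξ.2 isGenericPoint_closure.isIrreducible h1))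
    obtain ⟨g, hg⟩ := a.left.surjective θ
    have hfld := AlgSpLib.isField_stalk_of_maximal (u'.left g) fun q hq => by
      refine b.left.isEmbedding.injective (?_ : b.left q = b.left (u'.left g))
      have e : b.left (u'.left g) = ξ := by
        rw [← Scheme.Hom.comp_apply, ← Over.comp_left, hu', Over.comp_left, Scheme.Hom.comp_apply, hg, hmax _ hθξ]
      rw [e]
      exact hmax _ (e ▸ hq.map b.left.continuous)
    refine SGA3Homog26.flat_field k F' G' u' ⟨g, ?_⟩
    letI := hfld.toField
    algebraize [(u'.left.stalkMap g).hom]
    exact inferInstanceAs (Module.Flat (G'.left.presheaf.stalk (u'.left g)) (F'.left.presheaf.stalk g))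
  -- descent along the quotient maps
  let U := Over.forget (Spec (CommRingCat.of k))
  let m₁ := (a ▷ F) ≫ μ[F]
  let m₂ := (b ⊗ₘ u) ≫ μ[G]
  have sqG : IsPullback (snd G' F) m₂ (u ≫ q) q := by
    have h1 : IsPullback (snd G' F) (G' ◁ u) u (snd G' G) := isPullback_whiskerLeft u
    have h2 := h1.paste_vert hq.flip
    have e : (G' ◁ u) ≫ (b ▷ G) ≫ μ[G] = m₂ := by
      show _ = (b ⊗ₘ u) ≫ _
      rw [tensorHom_def', Category.assoc]
    rwa [e] at h2
  have sqP := IsPullback.of_hasPullback v.left q.left
  let w : F.left ⟶ pullback v.left q.left := pullback.lift p.left u.left (congrArg (fun f => f.left) hv)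
  let r : (G' ⊗ F).left ⟶ pullback v.left q.left := pullback.lift ((snd G' F).left ≫ p.left) m₂.left
    ((Category.assoc _ _ _).trans ((congrArg (fun f => (snd G' F).left ≫ f.left) hv).trans
      (congrArg (fun f => f.left) sqG.w)))
  have sqr : IsPullback (snd G' F).left r p.left (pullback.fst v.left q.left) := by
    refine IsPullback.of_bot ?_ (pullback.lift_fst _ _ _).symm sqP
    rw [pullback.lift_snd, ← Over.comp_left, hv]
    exact sqG.map U
  haveI : Surjective r := MorphismProperty.of_isPullback (P := @Surjective) sqr ‹_›
  haveI : Flat r := MorphismProperty.of_isPullback (P := @Flat) sqr ‹_›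
  haveI : LocallyOfFinitePresentation r := MorphismProperty.of_isPullback (P := @LocallyOfFinitePresentation) sqr ‹_›
  have sqw : IsPullback (u' ▷ F).left m₁.left r w := by
    refine IsPullback.of_right ?_ ?_ sqr
    · have e : (u' ▷ F).left ≫ (snd G' F).left = (snd F' F).left := by
        rw [← Over.comp_left, whiskerRight_snd]
      rw [e, pullback.lift_fst]
      exact hp.flip.map U
    · refine pullback.hom_ext ?_ ?_
      · rw [Category.assoc, Category.assoc, pullback.lift_fst, pullback.lift_fst]
        refine Eq.trans ?_ (congrArg (fun f => f.left) hp.w.symm)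
        show ((u' ▷ F) ≫ snd G' F ≫ p).left = _
        rw [whiskerRight_snd_assoc]
      · rw [Category.assoc, Category.assoc, pullback.lift_snd, pullback.lift_snd]
        show ((u' ▷ F) ≫ m₂).left = (m₁ ≫ u).left
        congr 1
        simp only [m₁, m₂, Category.assoc, IsMonHom.mul_hom]
        rw [← tensorHom_id a F, tensorHom_comp_tensorHom_assoc, ← tensorHom_id u' F,
          tensorHom_comp_tensorHom_assoc, Category.id_comp, hu']
  haveI : Flat (u' ▷ F).left :=
    MorphismProperty.of_isPullback (P := @Flat) ((isPullback_whiskerRight u').map U) ‹Flat u'.left›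
  haveI : Flat w := by
    haveI := CAlgH.CIMorphism.descends_flat.{u}
    exact MorphismProperty.of_isPullback_of_descendsAlong (P := @Flat)
      (Q := @Surjective ⊓ @Flat ⊓ @LocallyOfFinitePresentation) sqw ⟨⟨‹_›, ‹_›⟩, ‹_›⟩ ‹Flat (u' ▷ F).left›
  haveI : Flat v.left := hvflat
  have e : w ≫ pullback.snd v.left q.left = u.left := pullback.lift_snd _ _ _
  rw [← e]
  infer_instance

end Groth.Agent.S6089
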