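import Groth.Statements.S6090
import Groth.Agent.SGA3cLib.DerivedSpread

set_option autoImplicit false
set_option linter.style.haveILetI false
set_option backward.isDefEq.respectTransparency.types false
universe u
open CategoryTheory CategoryTheory.Limits MonoidalCategory CartesianMonoidalCategory MonObj GrpObj AlgebraicGeometry
open SGA3

namespace Groth.Agent.S6090

/-- Let S be an integral scheme, G an S-group scheme of finite presentation over S all of whose fibres
are smooth, and n ≥ 1 an integer. Then there are a nonempty open subset U of S and a normal closed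
subgroup scheme d : D → G|_U, of finite presentation over U with smooth fibres, such that for every
s ∈ U the fibre D_s → G_s is the n-th derived subgroup scheme of G_s: there are closed subgroup
schemes K⁰, …, Kⁿ of G_s with K⁰ = G_s, each K^p (p ≥ 1) the smallest closed subgroup scheme of G_s
through which K^{p-1} ×_{κ(s)} K^{p-1} → G_s, (x, y) ↦ x y x⁻¹ y⁻¹, factors, and D_s = Kⁿ as
subgroup schemes of G_s. (The published statement also treats the lower central series (G, K^{p-1});
that variant is not stated here.) -/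
theorem result (S : Scheme.{u}) [IsIntegral S] (G : Over S) [GrpObj G]
    [LocallyOfFinitePresentation G.hom] [QuasiCompact G.hom] [QuasiSeparated G.hom]
    (hsm : ∀ s : S, Smooth (G.hom.fiberToSpecResidueField s)) (n : ℕ) (hn : 1 ≤ n) :
    ∃ U : S.Opens, (U : Set S).Nonempty ∧
      ∃ (D : Over (U : Scheme.{u})) (_ : GrpObj D) (d : D ⟶ Red.bc U.ι G), IsMonHom d ∧ IsClosedImmersion d.left ∧
        AlgGrp.IsNormalHom d ∧ LocallyOfFinitePresentation D.hom ∧ QuasiCompact D.hom ∧ QuasiSeparated D.hom ∧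
        (∀ s : (U : Scheme.{u}), Smooth (D.hom.fiberToSpecResidueField s)) ∧
        ∀ s : (U : Scheme.{u}),
          ∃ (K : Fin (n + 1) → Over (Spec ((U : Scheme.{u}).residueField s))) (_ : ∀ p, GrpObj (K p)) (emb : ∀ p, K p ⟶ (Red.bc ((U : Scheme.{u}).fromSpecResidueField s) (Red.bc U.ι G))),
            (∀ p, IsMonHom (emb p) ∧ IsClosedImmersion (emb p).left) ∧ IsIso (emb 0) ∧
            (∀ p : Fin n,
              (∃ c : (K p.castSucc) ⊗ (K p.castSucc) ⟶ (K p.succ), c ≫ emb p.succ = (((fst (K p.castSucc) (K p.castSucc)) ≫ emb p.castSucc) * ((snd (K p.castSucc) (K p.castSucc)) ≫ emb p.castSucc) * ((fst (K p.castSucc) (K p.castSucc)) ≫ emb p.castSucc)⁻¹ * ((snd (K p.castSucc) (K p.castSucc)) ≫ emb p.castSucc)⁻¹)) ∧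
              ∀ (Γ' : Over (Spec ((U : Scheme.{u}).residueField s))) (_ : GrpObj Γ') (i' : Γ' ⟶ (Red.bc ((U : Scheme.{u}).fromSpecResidueField s) (Red.bc U.ι G))), IsMonHom i' → IsClosedImmersion i'.left →
                (∃ c' : (K p.castSucc) ⊗ (K p.castSucc) ⟶ Γ', c' ≫ i' = (((fst (K p.castSucc) (K p.castSucc)) ≫ emb p.castSucc) * ((snd (K p.castSucc) (K p.castSucc)) ≫ emb p.castSucc) * ((fst (K p.castSucc) (K p.castSucc)) ≫ emb p.castSucc)⁻¹ * ((snd (K p.castSucc) (K p.castSucc)) ≫ emb p.castSucc)⁻¹)) → ∃ j : (K p.succ) ⟶ Γ', j ≫ i' = emb p.succ) ∧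
            ∃ e : (Red.bc ((U : Scheme.{u}).fromSpecResidueField s) D) ≅ K (Fin.last n), e.hom ≫ emb (Fin.last n) = ((Over.pullback ((U : Scheme.{u}).fromSpecResidueField s)).map d) := by
  obtain ⟨U, hU, K, hK0, hK⟩ := SGA3cLib.DerivedSpread.main G hsm n
  let L := K (Fin.last n)
  refine ⟨U, hU, L.obj, inferInstance, L.hom, L.isMonHom, L.closed, L.normal, L.lfp, L.qc, L.qs,
    fun s => MorphismProperty.pullback_snd (P := @Smooth) _ _ L.smooth, fun s => ?_⟩
  let v := (U : Scheme.{u}).fromSpecResidueField s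
  refine ⟨fun p => Red.bc v (K p).obj, fun p => inferInstance, fun p => (Over.pullback v).map (K p).hom,
    fun p => ⟨((K p).bc v).isMonHom, ((K p).bc v).closed⟩, ?_, fun p => ⟨?_, ?_⟩, Iso.refl _, Category.id_comp _⟩
  · haveI := hK0
    exact inferInstanceAs (IsIso ((Over.pullback v).map (K 0).hom))
  · obtain ⟨⟨z, hz⟩, -⟩ := SGA3cLib.DerivedSpread.isStep_bc v (hK p)
    exact ⟨z, hz⟩
  · intro Γ' gΓ' i' hi' hci' hc
    haveI := hi'
    haveI := hci'
    exact @SGA3cLib.DerivedSpread.isStep_fibre _ ((U : Scheme.{u}).residueField s) _ v _ _ _ _ (hK p) Γ' gΓ' i' hi' hci' hc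

end Groth.Agent.S6090
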