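import Groth.Statements.S6091
import Groth.Agent.GrpLim26.EffQuot

set_option autoImplicit false
set_option linter.style.haveILetI false
set_option backward.isDefEq.respectTransparency.types false
universe u
open CategoryTheory CategoryTheory.Limits MonoidalCategory CartesianMonoidalCategory MonObj GrpObj AlgebraicGeometry
open SGA3

namespace Groth.Agent.S6091

/-- Let S be the limit of a cofiltered system (S_i) of quasi-compact quasi-separated schemes with affine
transition morphisms, j an index, X_j an S_j-scheme of finite presentation over S_j, and s_j, t_j :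
R_j → X_j two S_j-morphisms (an equivalence relation on X_j) such that (s_j, t_j) : R_j → X_j
×_{S_j} X_j is a monomorphism and s_j is flat with R_j of finite presentation over S_j. Say that the
quotient of a base change X by the base change R is representable when there are Y and a morphism p
: X → Y which is flat, surjective and locally of finite presentation such that the square s, t, p, p
is cartesian (R = X ×_Y X). Then the quotient is representable over S for the base changes to S if
and only if there is an index i over j such that it is representable over S_i for the base changes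
to S_i. (The published statement is for representability of the fppf or fpqc quotient sheaf X/R; for
R flat of finite presentation over X this is the existence of such a p. The published setting takes
all S_i affine over a fixed quasi-compact quasi-separated S_0.) -/
theorem result {I : Type u} [SmallCategory I] [IsCofiltered I]
    (D : I ⥤ Scheme.{u}) (c : Limits.Cone D) (hc : Limits.IsLimit c)
    [∀ (i i' : I) (f : i ⟶ i'), IsAffineHom (D.map f)] [∀ i, CompactSpace (D.obj i)] [∀ i, QuasiSeparatedSpace (D.obj i)]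
    (j : I) (Xj Rj : Over (D.obj j))
    [LocallyOfFinitePresentation Xj.hom] [QuasiCompact Xj.hom] [QuasiSeparated Xj.hom]
    [LocallyOfFinitePresentation Rj.hom] [QuasiCompact Rj.hom] [QuasiSeparated Rj.hom]
    (sj tj : Rj ⟶ Xj) [Mono (lift sj tj)] [Flat sj.left] :
    (∃ (Y : Over c.pt) (p : (Red.bc (c.π.app j) Xj) ⟶ Y), Flat p.left ∧ Surjective p.left ∧ LocallyOfFinitePresentation p.left ∧ IsPullback ((Over.pullback (c.π.app j)).map sj) ((Over.pullback (c.π.app j)).map tj) p p) ↔
    ∃ (i : I) (f : i ⟶ j), ∃ (Y : Over (D.obj i)) (p : (Red.bc (D.map f) Xj) ⟶ Y), Flat p.left ∧ Surjective p.left ∧ LocallyOfFinitePresentation p.left ∧ IsPullback ((Over.pullback (D.map f)).map sj) ((Over.pullback (D.map f)).map tj) p p := by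
  haveI : ∀ {i i' : I} (f : i ⟶ i'), IsAffineHom (D.map f) := fun {i i'} f => inferInstance
  constructor
  swap
  · rintro ⟨i, f, h⟩
    exact (GrpLim26.HasEff.bc (c.π.app i) h).of_iso (GrpLim26.cmp (c.w f) Xj) (GrpLim26.cmp (c.w f) Rj)
      (GrpLim26.cmp_natural (c.w f) sj) (GrpLim26.cmp_natural (c.w f) tj)
  rintro ⟨Q, p, h1, h2, h3, sq⟩
  haveI : LocallyOfFinitePresentation (Red.bc (c.π.app j) Xj).hom := inferInstanceAs (LocallyOfFinitePresentation (pullback.snd Xj.hom _))
  haveI : QuasiCompact (Red.bc (c.π.app j) Xj).hom := inferInstanceAs (QuasiCompact (pullback.snd Xj.hom _))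
  haveI : QuasiSeparated (Red.bc (c.π.app j) Xj).hom := inferInstanceAs (QuasiSeparated (pullback.snd Xj.hom _))
  haveI : QuasiCompact (Red.bc (c.π.app j) Rj).hom := inferInstanceAs (QuasiCompact (pullback.snd Rj.hom _))
  obtain ⟨_, _, _⟩ := GrpLim26.fp_eff p sq
  obtain ⟨j', Z, hZ, qZ, _, _, _, hqZ⟩ := H8Lim.exists_stage_scheme hc Q.hom
  let i := IsCofiltered.min j j'
  let f : i ⟶ j := IsCofiltered.minToLeft j j'
  let f' : i ⟶ j' := IsCofiltered.minToRight j j'
  let X : Over (D.obj i) := Red.bc (D.map f') (Over.mk hZ)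
  let Gi : Over (D.obj i) := Red.bc (D.map f) Xj
  let Hi : Over (D.obj i) := Red.bc (D.map f) Rj
  let si : Hi ⟶ Gi := (Over.pullback (D.map f)).map sj
  let ti : Hi ⟶ Gi := (Over.pullback (D.map f)).map tj
  haveI : LocallyOfFinitePresentation X.hom := inferInstanceAs (LocallyOfFinitePresentation (pullback.snd hZ _))
  haveI : QuasiCompact X.hom := inferInstanceAs (QuasiCompact (pullback.snd hZ _))
  haveI : QuasiSeparated X.hom := inferInstanceAs (QuasiSeparated (pullback.snd hZ _))
  haveI : LocallyOfFinitePresentation Gi.hom := inferInstanceAs (LocallyOfFinitePresentation (pullback.snd Xj.hom _))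
  haveI : QuasiCompact Gi.hom := inferInstanceAs (QuasiCompact (pullback.snd Xj.hom _))
  haveI : QuasiSeparated Gi.hom := inferInstanceAs (QuasiSeparated (pullback.snd Xj.hom _))
  let εQ : Q ≅ Red.bc (c.π.app i) X :=
    (Over.isoMk hqZ.isoPullback hqZ.isoPullback_hom_snd : Q ≅ Red.bc (c.π.app j') (Over.mk hZ)) ≪≫
      (GrpLim26.cmp (c.w f') (Over.mk hZ)).symm
  let p₁ : Red.bc (c.π.app i) Gi ⟶ Red.bc (c.π.app i) X := (GrpLim26.cmp (c.w f) Xj).hom ≫ p ≫ εQ.hom
  have hu : ∀ m : Rj ⟶ Xj, (Over.pullback (c.π.app j)).map m ≫ (GrpLim26.cmp (c.w f) Xj).symm.hom =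
      (GrpLim26.cmp (c.w f) Rj).symm.hom ≫ (Over.pullback (c.π.app i)).map ((Over.pullback (D.map f)).map m) := fun m => by
    rw [Iso.symm_hom, Iso.symm_hom, Iso.comp_inv_eq, Category.assoc, GrpLim26.cmp_natural, Iso.inv_hom_id_assoc]
  obtain ⟨a1, a2, a3⟩ := GrpLim26.eff_transport (GrpLim26.cmp (c.w f) Xj).symm
    (GrpLim26.cmp (c.w f) Rj).symm εQ (hu sj) (hu tj) h1 h2 sq (p' := p₁) (by simp [p₁])
  -- a model of the projection
  obtain ⟨k₁, g₁, a, ha⟩ := GrpLim26.exists_hom hc p₁
  have hma := GrpLim26.IsModel.map_eq ha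
  let G₁ : Over (D.obj k₁) := Red.bc (D.map g₁) Gi
  let H₁ : Over (D.obj k₁) := Red.bc (D.map g₁) Hi
  let s₁ : H₁ ⟶ G₁ := (Over.pullback (D.map g₁)).map si
  let t₁ : H₁ ⟶ G₁ := (Over.pullback (D.map g₁)).map ti
  let Λ := Over.pullback (c.π.app k₁)
  have hu₁ : ∀ m : Hi ⟶ Gi, (Over.pullback (c.π.app i)).map m ≫ (GrpLim26.cmp (c.w g₁) Gi).symm.hom =
      (GrpLim26.cmp (c.w g₁) Hi).symm.hom ≫ Λ.map ((Over.pullback (D.map g₁)).map m) := fun m => by
    rw [Iso.symm_hom, Iso.symm_hom, Iso.comp_inv_eq, Category.assoc, GrpLim26.cmp_natural, Iso.inv_hom_id_assoc]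
  obtain ⟨b1, b2, b3'⟩ := GrpLim26.eff_transport (GrpLim26.cmp (c.w g₁) Gi).symm
    (GrpLim26.cmp (c.w g₁) Hi).symm (GrpLim26.cmp (c.w g₁) X).symm (hu₁ si) (hu₁ ti) a1 a2 a3 (p' := Λ.map a)
    (by rw [Iso.symm_hom, Iso.symm_hom, Iso.comp_inv_eq, Category.assoc, hma, Iso.inv_hom_id_assoc])
  -- commutation at a stage
  haveI : LocallyOfFinitePresentation G₁.hom := inferInstanceAs (LocallyOfFinitePresentation (pullback.snd Gi.hom _))
  haveI : QuasiCompact G₁.hom := inferInstanceAs (QuasiCompact (pullback.snd Gi.hom _))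
  haveI : QuasiSeparated G₁.hom := inferInstanceAs (QuasiSeparated (pullback.snd Gi.hom _))
  haveI : LocallyOfFinitePresentation H₁.hom := inferInstanceAs (LocallyOfFinitePresentation (pullback.snd (pullback.snd Rj.hom _) _))
  haveI : QuasiCompact H₁.hom := inferInstanceAs (QuasiCompact (pullback.snd (pullback.snd Rj.hom _) _))
  haveI : QuasiSeparated H₁.hom := inferInstanceAs (QuasiSeparated (pullback.snd (pullback.snd Rj.hom _) _))
  haveI : LocallyOfFinitePresentation (Red.bc (D.map g₁) X).hom := inferInstanceAs (LocallyOfFinitePresentation (pullback.snd X.hom _))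
  haveI : QuasiCompact (Red.bc (D.map g₁) X).hom := inferInstanceAs (QuasiCompact (pullback.snd X.hom _))
  haveI : QuasiSeparated (Red.bc (D.map g₁) X).hom := inferInstanceAs (QuasiSeparated (pullback.snd X.hom _))
  obtain ⟨k₂, g₂, hw⟩ := GrpLim26.exists_eq hc (s₁ ≫ a) (t₁ ≫ a)
    ((Functor.map_comp _ _ _).trans (b3'.w.trans (Functor.map_comp _ _ _).symm))
  let Ψ := Over.pullback (D.map g₂)
  haveI : LocallyOfFinitePresentation (Ψ.obj G₁).hom := inferInstanceAs (LocallyOfFinitePresentation (pullback.snd G₁.hom _))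
  haveI : QuasiCompact (Ψ.obj G₁).hom := inferInstanceAs (QuasiCompact (pullback.snd G₁.hom _))
  haveI : QuasiSeparated (Ψ.obj G₁).hom := inferInstanceAs (QuasiSeparated (pullback.snd G₁.hom _))
  haveI : LocallyOfFinitePresentation (Ψ.obj (Red.bc (D.map g₁) X)).hom := inferInstanceAs (LocallyOfFinitePresentation (pullback.snd (Red.bc (D.map g₁) X).hom _))
  haveI : QuasiCompact (Ψ.obj (Red.bc (D.map g₁) X)).hom := inferInstanceAs (QuasiCompact (pullback.snd (Red.bc (D.map g₁) X).hom _))
  haveI : QuasiSeparated (Ψ.obj (Red.bc (D.map g₁) X)).hom := inferInstanceAs (QuasiSeparated (pullback.snd (Red.bc (D.map g₁) X).hom _))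
  haveI : LocallyOfFinitePresentation (Ψ.obj H₁).hom := inferInstanceAs (LocallyOfFinitePresentation (pullback.snd H₁.hom _))
  haveI : QuasiCompact (Ψ.obj H₁).hom := inferInstanceAs (QuasiCompact (pullback.snd H₁.hom _))
  haveI : QuasiSeparated (Ψ.obj H₁).hom := inferInstanceAs (QuasiSeparated (pullback.snd H₁.hom _))
  have e₂ : Over.pullback (D.map g₂) ⋙ Over.pullback (c.π.app k₂) ≅ Λ := GrpLim26.cmpNat (c.w g₂)
  obtain ⟨k₃, g₃, h₃⟩ := GrpLim26.exists_isPullback hc (Ψ.map s₁) (Ψ.map t₁) (Ψ.map a)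
    (by rw [← Functor.map_comp, ← Functor.map_comp]; exact hw)
    (GrpLim26.isPullback_natIso e₂.symm b3')
  obtain ⟨k₄, g₄, h₄, h₄'⟩ := GrpLim26.exists_flat_surjective hc (Ψ.map a)
    (GrpLim26.prop_natIso (P := @Flat) e₂.symm (f := a) b1) (GrpLim26.prop_natIso (P := @Surjective) e₂.symm (f := a) b2)
  obtain ⟨k, r₃, r₄, hr⟩ := IsCofiltered.cospan g₃ g₄
  let r : k ⟶ k₁ := (r₃ ≫ g₃) ≫ g₂
  let E : (Ψ ⋙ Over.pullback (D.map g₃)) ⋙ Over.pullback (D.map r₃) ≅ Over.pullback (D.map r) :=
    Functor.associator _ _ _ ≪≫ Functor.isoWhiskerLeft Ψ (GrpLim26.cmpNat (D.map_comp r₃ g₃).symm) ≪≫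
      GrpLim26.cmpNat (D.map_comp (r₃ ≫ g₃) g₂).symm
  let E' : (Ψ ⋙ Over.pullback (D.map g₄)) ⋙ Over.pullback (D.map r₄) ≅ Over.pullback (D.map r) :=
    Functor.associator _ _ _ ≪≫ Functor.isoWhiskerLeft Ψ (GrpLim26.cmpNat (by rw [hr, D.map_comp])) ≪≫
      GrpLim26.cmpNat (D.map_comp (r₃ ≫ g₃) g₂).symm
  have hsq := GrpLim26.isPullback_natIso E (h₃.map (Over.pullback (D.map r₃)))
  have hfl : Flat ((Over.pullback (D.map r)).map a).left := GrpLim26.prop_natIso (P := @Flat) E' (f := a)
    (MorphismProperty.of_isPullback (P := @Flat) (SGA3UnitSec.isPullback_map_left (D.map r₄) _) h₄)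
  have hsu : Surjective ((Over.pullback (D.map r)).map a).left := GrpLim26.prop_natIso (P := @Surjective) E' (f := a)
    (MorphismProperty.of_isPullback (P := @Surjective) (SGA3UnitSec.isPullback_map_left (D.map r₄) _) h₄')
  haveI : LocallyOfFinitePresentation (a.left ≫ (Red.bc (D.map g₁) X).hom) := by rw [Over.w a]; infer_instance
  haveI := EGA43.Limit.locallyOfFinitePresentation_of_comp a.left (Red.bc (D.map g₁) X).hom
  have hlfp : LocallyOfFinitePresentation ((Over.pullback (D.map r)).map a).left :=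
    MorphismProperty.of_isPullback (P := @LocallyOfFinitePresentation) (SGA3UnitSec.isPullback_map_left (D.map r) a) ‹_›
  have hq : GrpLim26.HasEff ((Over.pullback (D.map r)).map s₁) ((Over.pullback (D.map r)).map t₁) :=
    ⟨_, _, hfl, hsu, hlfp, hsq⟩
  have hq' := hq.of_iso (GrpLim26.cmp (D.map_comp r g₁).symm Gi) (GrpLim26.cmp (D.map_comp r g₁).symm Hi)
    (GrpLim26.cmp_natural (D.map_comp r g₁).symm si) (GrpLim26.cmp_natural (D.map_comp r g₁).symm ti)
  exact ⟨k, (r ≫ g₁) ≫ f, hq'.of_iso (GrpLim26.cmp (D.map_comp (r ≫ g₁) f).symm Xj)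
    (GrpLim26.cmp (D.map_comp (r ≫ g₁) f).symm Rj) (GrpLim26.cmp_natural (D.map_comp (r ≫ g₁) f).symm sj)
    (GrpLim26.cmp_natural (D.map_comp (r ≫ g₁) f).symm tj)⟩

end Groth.Agent.S6091
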