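import Groth.Statements.S6100
import Groth.Agent.MaxTorImg10.Radical

set_option backward.isDefEq.respectTransparency false
set_option synthInstance.maxHeartbeats 400000
set_option maxHeartbeats 1600000

set_option autoImplicit false
open CategoryTheory MonoidalCategory CartesianMonoidalCategory MonObj GrpObj AlgebraicGeometry
universe u
open RedSub

namespace Groth.Agent.S6100

/-- Let G be a reductive S-group, H ⟶ G a subgroup of type (R) which is a reductive S-group, rad(H) ⟶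
Z(H) ⟶ H its radical, z : Z ⟶ G the centraliser of rad(H) in G, Z(Z) ⟶ Z the centre of Z and rad(Z)
⟶ Z(Z) a maximal torus. Then H ⊆ Centr_G(rad H), and rad(Centr_G(rad H)) = rad(H) as subgroups of G,
so that rad(H) is a C-critical torus (the radical of its own centraliser). -/
theorem result {S : Scheme.{u}} {G H ZH R Z ZZ RZ : Over S} [GrpObj G] [GrpObj H]
    [GrpObj ZH] [GrpObj R] [GrpObj Z] [GrpObj ZZ] [GrpObj RZ] (hG : Red.IsReductive G)
    (i : H ⟶ G) (hi : RedSub.IsTypeR i) (hH : Red.IsReductive H)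
    (jz : ZH ⟶ H) (hZH : Red.IsCentre jz) (r : R ⟶ ZH) (hR : Red.IsMaximalTorus r)
    (z : Z ⟶ G) (hZ : Red.IsCentralizerOf (r ≫ jz ≫ i) z)
    (jzz : ZZ ⟶ Z) (hZZ : Red.IsCentre jzz) (rz : RZ ⟶ ZZ) (hRZ : Red.IsMaximalTorus rz) :
    (∃ k : H ⟶ Z, k ≫ z = i) ∧ ∃ e : R ≅ RZ, e.hom ≫ rz ≫ jzz ≫ z = r ≫ jz ≫ i := by
  haveI := hi.1.1
  haveI := hZH.1
  haveI := hZH.2.1
  haveI := hR.1
  haveI := hR.2.1
  haveI := hZ.1
  haveI := hZ.2.1
  haveI := hZZ.1
  haveI := hZZ.2.1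
  haveI := hRZ.1
  haveI := hRZ.2.1
  haveI : IsImmersion i.left := hi.1.2
  haveI : Mono i := (Over.forget S).mono_of_mono_map (inferInstanceAs (Mono i.left))
  haveI : IsAffineHom G.hom := hG.1
  haveI : Smooth G.hom := hG.2.1
  haveI : IsMonHom (r ≫ jz ≫ i) := inferInstance
  haveI : IsMonHom (rz ≫ jzz ≫ z) := inferInstance
  obtain ⟨hs, hl⟩ := MaxTorImg10.CentralTorus.centralizer_sep hR.2.2.1 (r ≫ jz ≫ i) hZ
  haveI := hs
  haveI := hl
  obtain ⟨k, hk⟩ := (hZ.2.2 H i).2 fun X x t => by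
    have h1 := (hZH.2.2 ZH jz).1 ⟨𝟙 ZH, Category.id_comp jz⟩ X (t ≫ r) x
    rw [Category.comp_id] at h1
    have h2 := congrArg (· ≫ i) h1
    simp only [MonObj.mul_comp, Category.assoc] at h2
    exact h2.symm
  refine ⟨⟨k, hk⟩, ?_⟩
  obtain ⟨b, hb⟩ := MaxTorImg10.Radical.le_radical_of_commute hG hi hZH hR hRZ.2.2.1 (rz ≫ jzz ≫ z) fun X h t => by
    have h1 := (hZZ.2.2 ZZ jzz).1 ⟨𝟙 ZZ, Category.id_comp jzz⟩ X (t ≫ rz) (h ≫ k)
    rw [Category.comp_id] at h1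
    have h2 := congrArg (· ≫ z) h1
    simp only [MonObj.mul_comp, Category.assoc, hk] at h2
    exact h2.symm
  obtain ⟨r₀, hr₀⟩ := (hZ.2.2 R (r ≫ jz ≫ i)).2 fun X x t => by
    rw [← MonObj.mul_comp, ← MonObj.mul_comp, SGA3cLib.torus_mul_comm hR.2.2.1]
  haveI : IsMonHom r₀ := SGA3cLib.BCPoints.isMonHom_of_mul r₀ fun X x y => by
    rw [← cancel_mono z, Category.assoc, hr₀, MonObj.mul_comp, MonObj.mul_comp]
    simp only [Category.assoc, hr₀]
  obtain ⟨a, ha⟩ := MaxTorImg10.CentralTorus.le_radical hZZ hRZ hR.2.2.1 r₀ fun X c t => by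
    rw [← cancel_mono z, MonObj.mul_comp, MonObj.mul_comp, Category.assoc, hr₀]
    have h := (hZ.2.2 X (c ≫ z)).1 ⟨c, rfl⟩ X (𝟙 X) t
    rwa [Category.id_comp] at h
  have ha' : a ≫ rz ≫ jzz ≫ z = r ≫ jz ≫ i := by rw [← hr₀, ← ha]; simp only [Category.assoc]
  refine ⟨⟨a, b, ?_, ?_⟩, ha'⟩
  · rw [← cancel_mono (r ≫ jz ≫ i), Category.assoc, hb, ha', Category.id_comp]
  · rw [← cancel_mono (rz ≫ jzz ≫ z), Category.assoc, ha', hb, Category.id_comp]

end Groth.Agent.S6100
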