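import Groth.Statements.S6106
import Groth.Agent.MaxTorImg10.CentralTorus

set_option backward.isDefEq.respectTransparency false
set_option synthInstance.maxHeartbeats 400000
set_option maxHeartbeats 1600000

set_option autoImplicit false
open CategoryTheory MonoidalCategory CartesianMonoidalCategory MonObj GrpObj AlgebraicGeometry
universe u
open RedSub

namespace Groth.Agent.S6106

/-- Let G be a reductive S-group, q : Q ⟶ G a subtorus, Z = Centr_G(Q), Z(Z) its centre and rad(Z) ⟶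
Z(Z) a maximal torus. If q' : Q' ⟶ G is a subtorus containing Q which is C-critical (Q' is the
radical of its centraliser Z': it factors through the centre Z(Z') as a maximal torus of Z(Z')),
then rad(Centr_G(Q)) ⊆ Q' as subgroups of G. Since rad(Centr_G(Q)) contains Q and is itself
C-critical, this says it is the smallest C-critical torus of G containing Q. -/
theorem result {S : Scheme.{u}} {G Q Z ZZ RZ Q' Z' ZZ' : Over S} [GrpObj G]
    [GrpObj Q] [GrpObj Z] [GrpObj ZZ] [GrpObj RZ] [GrpObj Q'] [GrpObj Z'] [GrpObj ZZ'] (hG : Red.IsReductive G)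
    (q : Q ⟶ G) [IsMonHom q] [Mono q] (hQ : Red.IsTorus Q) (z : Z ⟶ G) (hZ : Red.IsCentralizerOf q z)
    (jzz : ZZ ⟶ Z) (hZZ : Red.IsCentre jzz) (rz : RZ ⟶ ZZ) (hRZ : Red.IsMaximalTorus rz)
    (q' : Q' ⟶ G) [IsMonHom q'] [Mono q'] (hQ' : Red.IsTorus Q') (k : Q ⟶ Q') (hk : k ≫ q' = q)
    (z' : Z' ⟶ G) (hZ' : Red.IsCentralizerOf q' z') (jzz' : ZZ' ⟶ Z') (hZZ' : Red.IsCentre jzz')
    (m' : Q' ⟶ ZZ') (hm' : m' ≫ jzz' ≫ z' = q') (hcrit : Red.IsMaximalTorus m') :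
    ∃ l : RZ ⟶ Q', l ≫ q' = rz ≫ jzz ≫ z := by
  haveI := hZ.1
  haveI := hZ.2.1
  haveI := hZ'.1
  haveI := hZ'.2.1
  haveI := hZZ.1
  haveI := hRZ.1
  haveI : IsAffineHom G.hom := hG.1
  haveI : Smooth G.hom := hG.2.1
  obtain ⟨hs, hl⟩ := MaxTorImg10.CentralTorus.centralizer_sep hQ' q' hZ'
  haveI := hs
  haveI := hl
  haveI : IsMonHom (rz ≫ jzz ≫ z) := inferInstance
  -- `rad Z` commutes with everything commuting with `Q`
  have hc : ∀ {X : Over S} (g : X ⟶ G) (t : X ⟶ RZ),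
      (∀ (X' : Over S) (x : X' ⟶ X) (h : X' ⟶ Q), (x ≫ g) * (h ≫ q) = (h ≫ q) * (x ≫ g)) →
      g * (t ≫ rz ≫ jzz ≫ z) = (t ≫ rz ≫ jzz ≫ z) * g := fun {X} g t h => by
    obtain ⟨w, rfl⟩ := (hZ.2.2 X g).2 h
    have h1 := (hZZ.2.2 ZZ jzz).1 ⟨𝟙 ZZ, Category.id_comp jzz⟩ X (t ≫ rz) w
    rw [Category.comp_id] at h1
    have h' := congrArg (· ≫ z) h1
    simp only [MonObj.mul_comp, Category.assoc] at h'
    exact h'.symm
  have hQc : ∀ {X : Over S} (u : X ⟶ Q') (X' : Over S) (x : X' ⟶ X) (h : X' ⟶ Q),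
      (x ≫ u ≫ q') * (h ≫ q) = (h ≫ q) * (x ≫ u ≫ q') := fun u X' x h => by
    rw [← hk, ← Category.assoc x u q', ← Category.assoc h k q', ← MonObj.mul_comp, ← MonObj.mul_comp,
      SGA3cLib.torus_mul_comm hQ']
  obtain ⟨l₀, hl₀⟩ := (hZ'.2.2 RZ (rz ≫ jzz ≫ z)).2 fun X x u => (hc (u ≫ q') x (hQc u)).symm
  haveI : IsMonHom l₀ := SGA3cLib.BCPoints.isMonHom_of_mul l₀ fun X x y => by
    rw [← cancel_mono z', Category.assoc, hl₀, MonObj.mul_comp, MonObj.mul_comp]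
    simp only [Category.assoc, hl₀]
  obtain ⟨f, hf⟩ := MaxTorImg10.CentralTorus.le_radical hZZ' hcrit hRZ.2.2.1 l₀ fun X c t => by
    rw [← cancel_mono z', MonObj.mul_comp, MonObj.mul_comp, Category.assoc, hl₀]
    refine hc (c ≫ z') t fun X' x h => ?_
    have h1 := (hZ'.2.2 X (c ≫ z')).1 ⟨c, rfl⟩ X' x (h ≫ k)
    rwa [Category.assoc h k q', hk] at h1
  exact ⟨f, by rw [← hl₀, ← hf, ← hm']; simp only [Category.assoc]⟩

end Groth.Agent.S6106
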