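import Groth.Statements.S6119
import Groth.Agent.RedQuotLib.Criterion

set_option autoImplicit false
open CategoryTheory MonoidalCategory CartesianMonoidalCategory MonObj GrpObj AlgebraicGeometry
universe u
open RedSub

namespace Groth.Agent.S6119

/-- The identification G/H ≅ corad(G)/corad(H): let G be a reductive S-group, d : D ⟶ G its derived
group and f₀ : G ⟶ C its coradical (C commutative, D = Ker f₀, f₀ the fppf quotient G/D, D killed by
every homomorphism to a commutative S-group scheme). Let t : T'' ⟶ C be a subtorus, H = G x_C T''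
its preimage under f₀ (with projections k : H ⟶ G and g : H ⟶ T''), and q : G ⟶ Q the fppf quotient
of G by H. Then q factors uniquely as f₀ followed by q' : C ⟶ Q, and q' exhibits Q as the fppf
quotient of C by T''. -/
theorem result {S : Scheme.{u}} {G D C T'' H Q : Over S} [GrpObj G] [GrpObj D]
    [GrpObj C] [GrpObj T''] [GrpObj H] (hG : Red.IsReductive G) (d : D ⟶ G) [IsMonHom d]
    (f₀ : G ⟶ C) [IsMonHom f₀] (hC : ∀ (X : Over S) (a b : X ⟶ C), a * b = b * a) (hker : AlgGrp.IsKernel d f₀)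
    (hquot : RedSub.IsQuotient d f₀) (hkill : RedSub.KilledByCommutative d)
    (t : T'' ⟶ C) [IsMonHom t] [Mono t] (hT'' : Red.IsTorus T'') (k : H ⟶ G) [IsMonHom k] (g : H ⟶ T'') [IsMonHom g]
    (hsq : IsPullback k g f₀ t) (q : G ⟶ Q) (hq : RedSub.IsQuotient k q) :
    ∃! q' : C ⟶ Q, f₀ ≫ q' = q ∧ RedSub.IsQuotient t q' := by
  open Groth.Agent.RedQuotLib in
  open CartesianMonoidalCategory MonObj in
  have hc := IsFppfCov.of_isQuotient hquot
  have hd : ∀ {W : Over S} (x : W ⟶ D), ∃ e : W ⟶ H, e ≫ k = x ≫ d := by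
    intro W x
    have w : (x ≫ d) ≫ f₀ = (toUnit W ≫ η[T'']) ≫ t := by
      rw [Category.assoc, hker.w, ← Category.assoc, toUnit_unique (x ≫ toUnit D) (toUnit W),
        Category.assoc, IsMonHom.one_hom]
    exact ⟨hsq.lift _ _ w, hsq.lift_fst _ _ w⟩
  obtain ⟨q', hq'⟩ := exists_desc hquot q fun a x => by
    obtain ⟨e, he⟩ := hd x
    rw [← he, mul_comp_eq hq]
  haveI := hc.epi
  refine ⟨q', ⟨hq', ?_⟩, fun y hy => (cancel_epi f₀).1 (hy.1.trans hq'.symm)⟩
  refine isQuotient_of_local (hc.of_comp (by rw [hq']; exact IsFppfCov.of_isQuotient hq)) ?_ ?_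
  · intro W a h
    obtain ⟨W₁, p₁, y, hp₁, hy⟩ := hc.exists_lift a
    obtain ⟨W₂, p₂, z, hp₂, hz⟩ := hc.exists_lift (p₁ ≫ h ≫ t)
    haveI := hp₁.epi
    haveI := hp₂.epi
    have w : z ≫ f₀ = (p₂ ≫ p₁ ≫ h) ≫ t := by rw [hz]; simp only [Category.assoc]
    obtain ⟨m, hm, hm'⟩ := hsq.exists_lift z (p₂ ≫ p₁ ≫ h) w
    rw [← cancel_epi p₁, ← cancel_epi p₂]
    have e1 : p₂ ≫ p₁ ≫ a = (p₂ ≫ y) ≫ f₀ := by rw [Category.assoc, hy]
    rw [← Category.assoc p₁ (a * (h ≫ t)), MonObj.comp_mul, ← Category.assoc p₂, MonObj.comp_mul,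
      ← hz, e1, ← MonObj.mul_comp, Category.assoc _ f₀, hq', ← hm, mul_comp_eq hq,
      ← Category.assoc p₁, ← Category.assoc p₂, e1, Category.assoc _ f₀, hq']
  · intro W a b e
    obtain ⟨W₁, p₁, y, hp₁, hy⟩ := hc.exists_lift a
    obtain ⟨W₂, p₂, z, hp₂, hz⟩ := hc.exists_lift (p₁ ≫ b)
    obtain ⟨h, hh⟩ := (comp_eq_iff hq (p₂ ≫ y) z).1 (by
      rw [← hq', Category.assoc, reassoc_of% hy, reassoc_of% hz, e])
    refine ⟨W₂, p₂ ≫ p₁, h ≫ g, hp₂.comp hp₁, ?_⟩
    rw [Category.assoc, Category.assoc, ← hz, ← hy, hh, MonObj.mul_comp, Category.assoc,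
      Category.assoc, hsq.w, Category.assoc]

end Groth.Agent.S6119
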