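import Mathlib.CategoryTheory.Limits.Shapes.Products
import Mathlib.CategoryTheory.Limits.Shapes.BinaryProducts
import Mathlib.CategoryTheory.Limits.HasLimits
import Mathlib.CategoryTheory.Limits.Shapes.Equalizers
import Mathlib.CategoryTheory.Limits.Shapes.BinaryProducts
import Mathlib.CategoryTheory.Limits.Shapes.Equalizers
import Mathlib.CategoryTheory.Limits.Shapes.Products

set_option autoImplicit false
namespace CategoryTheory
end CategoryTheory
namespace CategoryTheory.Limits
end CategoryTheory.Limits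
namespace Opposite
end Opposite
open CategoryTheory CategoryTheory.Limits Opposite
universe w v₁ v₂ u₁ u₂
namespace SGA4
end SGA4
open SGA4

namespace Groth.Agent.S6120

/-- Let `I` be a category with a family of objects `i α` (`α : A`) such that every binary product `i α ⨯
i β` exists in `I` and every object of `I` admits a morphism to some `i α`. Let `F : Iᵒᵖ ⥤ C` be a
functor, and assume that `C` has equalizers and that the products `∏ F (i α)` and `∏ F (i α ⨯ i β)`
exist in `C`. Then the limit of `F` exists, the canonical map `lim F ⟶ ∏ F (i α)` is a monomorphism,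
and a map `t : T ⟶ ∏ F (i α)` factors through `lim F` exactly when its composites with the two maps
`∏ F (i α) ⇉ ∏ F (i α ⨯ i β)` induced by the two projections agree: `lim F` is the equalizer of that
pair. (The published statement assumes that `C` has all limits of the size of `A`; only equalizers
and the two products named are assumed here, which is what the equalizer construction uses.) -/
theorem result
    {I : Type u₁} [Category.{v₁} I] {C : Type u₂} [Category.{v₂} C] {A : Type w} (i : A → I)
    [∀ α β, HasBinaryProduct (i α) (i β)]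
    (hcov : ∀ j : I, ∃ α, Nonempty (j ⟶ i α))
    (F : Iᵒᵖ ⥤ C) [HasEqualizers C]
    [HasProduct (fun α => F.obj (op (i α)))]
    [HasProduct (fun p : A × A => F.obj (op (i p.1 ⨯ i p.2)))] :
    HasLimit F ∧ ∀ [HasLimit F],
      Mono (Pi.lift (fun α => limit.π F (op (i α)))) ∧
      ∀ (T : C) (t : T ⟶ ∏ᶜ (fun α => F.obj (op (i α)))),
        (∃ s : T ⟶ limit F, s ≫ Pi.lift (fun α => limit.π F (op (i α))) = t) ↔
        t ≫ Pi.lift (fun p : A × A =>
            Pi.π (fun α => F.obj (op (i α))) p.1 ≫ F.map (prod.fst : i p.1 ⨯ i p.2 ⟶ i p.1).op) =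
        t ≫ Pi.lift (fun p : A × A =>
            Pi.π (fun α => F.obj (op (i α))) p.2 ≫ F.map (prod.snd : i p.1 ⨯ i p.2 ⟶ i p.2).op) := by
  let P := ∏ᶜ fun α => F.obj (op (i α))
  let a : P ⟶ _ := Pi.lift (fun p : A × A =>
      Pi.π (fun α => F.obj (op (i α))) p.1 ≫ F.map (prod.fst : i p.1 ⨯ i p.2 ⟶ i p.1).op)
  let b : P ⟶ _ := Pi.lift (fun p : A × A =>
      Pi.π (fun α => F.obj (op (i α))) p.2 ≫ F.map (prod.snd : i p.1 ⨯ i p.2 ⟶ i p.2).op)
  choose al hal using hcov
  let u : ∀ j, j ⟶ i (al j) := fun j => (hal j).some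
  have key : ∀ {T : C} (t : T ⟶ P), t ≫ a = t ≫ b →
      ∀ {j : I} {x y : A} (f : j ⟶ i x) (g : j ⟶ i y),
        (t ≫ Pi.π _ x) ≫ F.map f.op = (t ≫ Pi.π _ y) ≫ F.map g.op := by
    intro T t ht j x y f g
    have := congrArg (fun s => (s ≫ Pi.π _ (x, y)) ≫ F.map (prod.lift f g).op) ht
    simp only [a, b, Category.assoc, Pi.lift_π_assoc, ← F.map_comp, ← op_comp, prod.lift_fst,
      prod.lift_snd] at this
    simpa only [Category.assoc] using this
  let mkCone : ∀ {T : C} (t : T ⟶ P), t ≫ a = t ≫ b → Cone F := fun {T} t ht =>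
    { pt := T
      π :=
        { app := fun j => (t ≫ Pi.π _ (al j.unop)) ≫ F.map (u j.unop).op
          naturality := fun j k f => by
            show 𝟙 T ≫ _ = ((t ≫ Pi.π _ (al j.unop)) ≫ F.map (u j.unop).op) ≫ F.map f
            rw [Category.id_comp, Category.assoc _ (F.map (u j.unop).op), ← F.map_comp]
            exact key t ht (u k.unop) (f.unop ≫ u j.unop) } }
  have hcone : ∀ {T : C} (t : T ⟶ P) (ht : t ≫ a = t ≫ b) (x : A),
      (mkCone t ht).π.app (op (i x)) = t ≫ Pi.π _ x := fun t ht x => by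
    refine (key t ht (u (i x)) (𝟙 (i x))).trans ?_
    rw [op_id, F.map_id, Category.comp_id]
  have hcomp : ∀ (c : Cone F),
      Pi.lift (fun x => c.π.app (op (i x))) ≫ a = Pi.lift (fun x => c.π.app (op (i x))) ≫ b := by
    intro c
    refine Pi.hom_ext _ _ fun p => ?_
    simp only [a, b, Category.assoc, Pi.lift_π, Pi.lift_π_assoc]
    rw [c.w, c.w]
  have hw : ∀ (c : Cone F) (j : Iᵒᵖ),
      c.π.app (op (i (al j.unop))) ≫ F.map (u j.unop).op = c.π.app j := fun c j => c.w _
  let lim : IsLimit (mkCone (equalizer.ι a b) (equalizer.condition a b)) :=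
    { lift := fun c => equalizer.lift (Pi.lift fun x => c.π.app (op (i x))) (hcomp c)
      fac := fun c j => by
        show equalizer.lift _ (hcomp c) ≫ (equalizer.ι a b ≫ Pi.π _ _) ≫ F.map _ = _
        rw [Category.assoc (equalizer.ι a b), equalizer.lift_ι_assoc, Pi.lift_π_assoc]
        exact hw c j
      uniq := fun c m hm => by
        refine equalizer.hom_ext (Pi.hom_ext _ _ fun x => ?_)
        rw [equalizer.lift_ι, Pi.lift_π, ← hm (op (i x)), hcone _ (equalizer.condition a b), Category.assoc] }
  refine ⟨⟨⟨⟨_, lim⟩⟩⟩, fun {_} => ⟨⟨fun {T} g g' h => ?_⟩, fun T t => ⟨?_, fun ht => ?_⟩⟩⟩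
  · apply limit.hom_ext
    intro j
    rw [← limit.w F (u j.unop).op]
    have := congrArg (fun s => (s ≫ Pi.π _ (al j.unop)) ≫ F.map (u j.unop).op) h
    simpa only [Category.assoc, Pi.lift_π_assoc] using this
  · rintro ⟨s, rfl⟩
    have := hcomp (limit.cone F)
    rw [Category.assoc, Category.assoc]
    exact congrArg (s ≫ ·) this
  · refine ⟨limit.lift F (mkCone t ht), Pi.hom_ext _ _ fun x => ?_⟩
    rw [Category.assoc, Pi.lift_π, limit.lift_π, hcone t ht]

end Groth.Agent.S6120
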