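import Mathlib.CategoryTheory.FiberedCategory.Fibered
import Mathlib.CategoryTheory.FiberedCategory.Fiber
import Mathlib.CategoryTheory.Groupoid
import Mathlib.CategoryTheory.Functor.ReflectsIso.Basic
import Mathlib.CategoryTheory.FiberedCategory.Fibered
import Mathlib.CategoryTheory.FiberedCategory.Fiber

set_option autoImplicit false
namespace CategoryTheory
end CategoryTheory
open CategoryTheory
universe v₁ v₂ u₁ u₂
namespace SGA4
end SGA4
open SGA4

namespace Groth.Agent.S6121

/-- For a fibered functor `p : E ⥤ B` (every morphism of `B` has a cartesian lift with prescribed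
codomain, and cartesian morphisms compose), `p` reflects isomorphisms if and only if every fibre
category of `p` (objects over `b`, morphisms lying over the identity of `b`) is a groupoid. -/
theorem result
    {B : Type u₁} [Category.{v₁} B] {E : Type u₂} [Category.{v₂} E] (p : E ⥤ B) [p.IsFibered] :
    p.ReflectsIsomorphisms ↔ ∀ b : B, IsGroupoid (p.Fiber b) := by
  refine ⟨fun _ S => ⟨fun {x y} φ => ?_⟩, fun h => ⟨fun {a b} f hf => ?_⟩⟩
  · haveI := φ.2
    haveI : IsIso (p.map φ.1) := by
      rw [IsHomLift.fac' p (𝟙 S) φ.1]; infer_instance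
    haveI : IsIso φ.1 := isIso_of_reflects_iso φ.1 p
    exact ⟨⟨inv φ.1, inferInstance⟩, Functor.Fiber.hom_ext (IsIso.hom_inv_id φ.1),
      Functor.Fiber.hom_ext (IsIso.inv_hom_id φ.1)⟩
  · let ψ := Functor.IsPreFibered.pullbackMap (p := p) (rfl : p.obj b = p.obj b) (p.map f)
    haveI : IsIso ψ := Functor.IsStronglyCartesian.isIso_of_base_isIso p (p.map f) ψ
    let g := Functor.IsCartesian.map p (p.map f) ψ f
    haveI := (h (p.obj a)).all_isIso (Functor.Fiber.homMk p (p.obj a) g)
    haveI : IsIso g :=
      inferInstanceAs (IsIso (Functor.Fiber.fiberInclusion.map (Functor.Fiber.homMk p (p.obj a) g)))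
    rw [← Functor.IsCartesian.fac p (p.map f) ψ f]
    infer_instance

end Groth.Agent.S6121
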