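import Mathlib.CategoryTheory.FiberedCategory.Fibered
import Mathlib.CategoryTheory.FiberedCategory.Fiber
import Mathlib.CategoryTheory.FiberedCategory.Fibered
import Mathlib.CategoryTheory.FiberedCategory.Fiber

set_option autoImplicit false
namespace CategoryTheory
end CategoryTheory
open CategoryTheory
universe v₁ v₂ u₁ u₂
namespace SGA4
end SGA4
open SGA4

namespace Groth.Agent.S6122

/-- For a fibered functor `p : E ⥤ B` (every morphism of `B` has a cartesian lift with prescribed
codomain, and cartesian morphisms compose), `p` is faithful if and only if every fibre category of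
`p` (objects over `b`, morphisms lying over the identity of `b`) has at most one morphism between
any two objects. -/
theorem result
    {B : Type u₁} [Category.{v₁} B] {E : Type u₂} [Category.{v₂} E] (p : E ⥤ B) [p.IsFibered] :
    p.Faithful ↔ ∀ (b : B) (x y : p.Fiber b), Subsingleton (x ⟶ y) := by
  refine ⟨fun _ S x y => ⟨fun φ ψ => ?_⟩, fun h => ⟨fun {a b} f g hfg => ?_⟩⟩
  · haveI := φ.2
    haveI := ψ.2
    exact Functor.Fiber.hom_ext (p.map_injective
      ((IsHomLift.fac' p (𝟙 S) φ.1).trans (IsHomLift.fac' p (𝟙 S) ψ.1).symm))
  · let ψ := Functor.IsPreFibered.pullbackMap (p := p) (rfl : p.obj b = p.obj b) (p.map f)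
    haveI : p.IsHomLift (p.map f) g := by rw [hfg]; infer_instance
    have : Functor.IsCartesian.map p (p.map f) ψ f = Functor.IsCartesian.map p (p.map f) ψ g :=
      congrArg Subtype.val ((h (p.obj a) _ _).elim
        (Functor.Fiber.homMk p (p.obj a) (Functor.IsCartesian.map p (p.map f) ψ f))
        (Functor.Fiber.homMk p (p.obj a) (Functor.IsCartesian.map p (p.map f) ψ g)))
    rw [← Functor.IsCartesian.fac p (p.map f) ψ f, this, Functor.IsCartesian.fac]

end Groth.Agent.S6122
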