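import Mathlib.CategoryTheory.Limits.Shapes.Pullback.HasPullback
import Mathlib.CategoryTheory.Limits.Preserves.Basic
import Mathlib.CategoryTheory.Functor.ReflectsIso.Basic
import Mathlib.CategoryTheory.Limits.Constructions.EpiMono
import Mathlib.CategoryTheory.Limits.Shapes.Pullback.IsPullback.Basic

set_option autoImplicit false
namespace CategoryTheory
end CategoryTheory
namespace CategoryTheory.Limits
end CategoryTheory.Limits
namespace Opposite
end Opposite
open CategoryTheory CategoryTheory.Limits Opposite
universe w v₁ v₂ u₁ u₂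
namespace SGA4
end SGA4
open SGA4

namespace Groth.Agent.S6123

/-- For a single functor. Let `E` have pullbacks and let `φ : E ⥤ F` preserve them. If every
monomorphism `u` of `E` with `φ u` invertible is invertible, then `φ` reflects all isomorphisms. -/
theorem result
    {E : Type u₁} [Category.{v₁} E] {F : Type u₂} [Category.{v₂} F] (φ : E ⥤ F)
    [HasPullbacks E] [PreservesLimitsOfShape WalkingCospan φ]
    (h : ∀ ⦃X Y : E⦄ (u : X ⟶ Y), Mono u → IsIso (φ.map u) → IsIso u) :
    φ.ReflectsIsomorphisms := by
  constructor
  intro X Y u hu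
  let d : X ⟶ pullback u u := pullback.lift (𝟙 X) (𝟙 X) rfl
  haveI : Mono d := mono_of_mono_fac (pullback.lift_fst _ _ _ : d ≫ pullback.fst u u = 𝟙 X)
  have hp : IsPullback (φ.map (pullback.fst u u)) (φ.map (pullback.snd u u)) (φ.map u) (φ.map u) :=
    (IsPullback.of_hasPullback u u).map φ
  haveI : IsIso (φ.map (pullback.fst u u)) := hp.isIso_fst_of_isIso
  haveI : IsIso (φ.map d) := by
    have : φ.map d ≫ φ.map (pullback.fst u u) = 𝟙 _ := by
      rw [← φ.map_comp, pullback.lift_fst, φ.map_id]
    exact IsIso.of_isIso_fac_right this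
  haveI : IsIso d := h d inferInstance inferInstance
  have he : pullback.fst u u = pullback.snd u u := by
    rw [← cancel_epi d, pullback.lift_fst, pullback.lift_snd]
  exact h u ⟨fun a b hab => by
    rw [← pullback.lift_fst a b hab, he, pullback.lift_snd]⟩ hu

end Groth.Agent.S6123
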