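import Mathlib.CategoryTheory.Generator.Basic
import Mathlib.CategoryTheory.Subobject.Lattice
import Mathlib.CategoryTheory.Limits.Shapes.Pullback.HasPullback
import Mathlib.CategoryTheory.Limits.Preserves.Basic
import Mathlib.CategoryTheory.Generator.Basic
import Mathlib.CategoryTheory.Limits.Shapes.Pullback.IsPullback.Basic
import Mathlib.CategoryTheory.Limits.Constructions.EpiMono

set_option autoImplicit false
namespace CategoryTheory
end CategoryTheory
namespace CategoryTheory.Limits
end CategoryTheory.Limits
namespace Opposite
end Opposite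
open CategoryTheory CategoryTheory.Limits Opposite
universe w v₁ v₂ u₁ u₂
namespace SGA4
end SGA4
open SGA4

namespace Groth.Agent.S6124

/-- Let `E` have pullbacks, let `P` be a detecting family of objects of `E` (a morphism `f` is
invertible as soon as every map out of an object of `P` factors uniquely through `f`), and let `φ i
: E ⥤ E' i` be functors preserving pullbacks. Then the `φ i` jointly reflect isomorphisms if and
only if, for every `X` with `P X` and every subobject `X'` of `X` other than `⊤`, some `φ i` takes
the inclusion `X' ⟶ X` to a morphism that is not invertible. -/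
theorem result
    {E : Type u₁} [Category.{v₁} E] [HasPullbacks E] (P : ObjectProperty E) (hP : P.IsDetecting)
    {κ : Type w} {E' : κ → Type u₂} [∀ k, Category.{v₂} (E' k)] (φ : ∀ k, E ⥤ E' k)
    [∀ k, PreservesLimitsOfShape WalkingCospan (φ k)] :
    (∀ ⦃X Y : E⦄ (f : X ⟶ Y), (∀ k, IsIso ((φ k).map f)) → IsIso f) ↔
      ∀ (X : E), P X → ∀ (X' : Subobject X), X' ≠ ⊤ → ∃ k, ¬ IsIso ((φ k).map X'.arrow) := by
  constructor
  · intro h X _ X' hX'
    by_contra hh
    push_neg at hh
    exact hX' ((Subobject.isIso_arrow_iff_eq_top X').1 (h _ hh))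
  · intro h X Y f hf
    have hmono : ∀ ⦃A B : E⦄ (u : A ⟶ B) [Mono u], (∀ k, IsIso ((φ k).map u)) → IsIso u := by
      intro A B u _ hu
      refine hP u fun G hG g => ?_
      suffices ∃ g', g' ≫ u = g from
        this.elim fun g' hg' => ⟨g', hg', fun y hy => (cancel_mono u).1 (hy.trans hg'.symm)⟩
      have htop : Subobject.mk (pullback.fst g u) = ⊤ := by
        by_contra hne
        obtain ⟨k, hk⟩ := h G hG _ hne
        refine hk ?_
        haveI := hu k
        haveI : IsIso ((φ k).map (pullback.fst g u)) :=
          ((IsPullback.of_hasPullback g u).map (φ k)).isIso_fst_of_isIso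
        rw [← Subobject.underlyingIso_hom_comp_eq_mk (pullback.fst g u), Functor.map_comp]
        infer_instance
      haveI : IsIso (pullback.fst g u) := (Subobject.isIso_iff_mk_eq_top _).2 htop
      exact ⟨inv (pullback.fst g u) ≫ pullback.snd g u, by
        rw [Category.assoc, ← pullback.condition, IsIso.inv_hom_id_assoc]⟩
    let d : X ⟶ pullback f f := pullback.lift (𝟙 X) (𝟙 X) rfl
    haveI : Mono d := mono_of_mono_fac (pullback.lift_fst _ _ _ : d ≫ pullback.fst f f = 𝟙 X)
    haveI : IsIso d := hmono d fun k => by
      haveI := hf k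
      haveI : IsIso ((φ k).map (pullback.fst f f)) :=
        ((IsPullback.of_hasPullback f f).map (φ k)).isIso_fst_of_isIso
      have : (φ k).map d ≫ (φ k).map (pullback.fst f f) = 𝟙 _ := by
        rw [← Functor.map_comp, pullback.lift_fst, CategoryTheory.Functor.map_id]
      exact IsIso.of_isIso_fac_right this
    have he : pullback.fst f f = pullback.snd f f := by
      rw [← cancel_epi d, pullback.lift_fst, pullback.lift_snd]
    haveI : Mono f := ⟨fun a b hab => by
      rw [← pullback.lift_fst a b hab, he, pullback.lift_snd]⟩
    exact hmono f hf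

end Groth.Agent.S6124
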