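import Mathlib.CategoryTheory.Generator.Basic
import Mathlib.CategoryTheory.Preadditive.Injective.Basic
import Mathlib.CategoryTheory.EffectiveEpi.Basic
import Mathlib.CategoryTheory.Limits.Shapes.BinaryProducts
import Mathlib.CategoryTheory.EffectiveEpi.Basic
import Mathlib.CategoryTheory.Preadditive.Injective.Basic
import Mathlib.CategoryTheory.Generator.Basic

set_option autoImplicit false
namespace CategoryTheory
end CategoryTheory
namespace CategoryTheory.Limits
end CategoryTheory.Limits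
open CategoryTheory CategoryTheory.Limits
universe v₁ u₁
namespace SGA4
end SGA4
open SGA4

namespace Groth.Agent.S6126

/-- Let `E` be a category with `v₁`-small hom-sets admitting a separating family of objects `G t`
indexed by a `v₁`-small type, in which every object admits a monomorphism into an injective object.
Assume that each coproduct `G t ⨿ G t` exists and that every morphism out of `G t ⨿ G t` factors as
an effective epimorphism followed by a monomorphism. Then `E` admits a coseparating family of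
injective objects indexed by a `v₁`-small type. (The published statement moreover bounds the size of
this family in terms of the hom-sets `Hom (G t', G t ⨿ G t)`; only existence is stated here. The
published statement speaks of generating and cogenerating families; its proof uses and produces
joint faithfulness of maps out of, resp. into, the family, which is the sense taken here.) -/
theorem result
    {E : Type u₁} [Category.{v₁} E] {ι : Type v₁} (G : ι → E)
    (hG : (ObjectProperty.ofObj G).IsSeparating)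
    [EnoughInjectives E] [∀ t, HasBinaryCoproduct (G t) (G t)]
    (hfac : ∀ (t : ι) (X : E) (f : G t ⨿ G t ⟶ X),
      ∃ (Y : E) (e : G t ⨿ G t ⟶ Y) (m : Y ⟶ X), EffectiveEpi e ∧ Mono m ∧ e ≫ m = f) :
    ∃ (κ : Type v₁) (H : κ → E),
      (∀ k, Injective (H k)) ∧ (ObjectProperty.ofObj H).IsCoseparating := by
  classical
  let K : ∀ (t : ι) {Y : E} (_ : G t ⨿ G t ⟶ Y), Set (Σ s, (G s ⟶ G t ⨿ G t) × (G s ⟶ G t ⨿ G t)) :=
    fun t Y e => {p | p.2.1 ≫ e = p.2.2 ≫ e}
  let κ : Type v₁ := Σ t, {S : Set (Σ s, (G s ⟶ G t ⨿ G t) × (G s ⟶ G t ⨿ G t)) //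
    ∃ (Y : E) (e : G t ⨿ G t ⟶ Y), EffectiveEpi e ∧ K t e = S}
  let Y₀ : κ → E := fun k => k.2.2.choose
  refine ⟨κ, fun k => Injective.under (Y₀ k), fun k => inferInstance, ?_⟩
  intro X X' f g hfg
  refine hG f g fun P hP a => ?_
  obtain ⟨t⟩ := hP
  obtain ⟨Y, e, m, he, hm, hem⟩ := hfac t X' (coprod.desc (a ≫ f) (a ≫ g))
  let k : κ := ⟨t, K t e, Y, e, he, rfl⟩
  obtain ⟨e₀, he₀, hK⟩ := k.2.2.choose_spec
  change G t ⨿ G t ⟶ Y₀ k at e₀
  have key : ∀ {Z Z' : E} (a : G t ⨿ G t ⟶ Z) (b : G t ⨿ G t ⟶ Z'), K t a ⊆ K t b →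
      ∀ {W : E} (g₁ g₂ : W ⟶ G t ⨿ G t), g₁ ≫ a = g₂ ≫ a → g₁ ≫ b = g₂ ≫ b := by
    intro Z Z' a b hab W g₁ g₂ h
    refine hG _ _ fun P hP c => ?_
    obtain ⟨s⟩ := hP
    have := hab (show (⟨s, c ≫ g₁, c ≫ g₂⟩ : Σ s, (G s ⟶ G t ⨿ G t) × (G s ⟶ G t ⨿ G t)) ∈ K t a
      by show (c ≫ g₁) ≫ a = (c ≫ g₂) ≫ a; rw [Category.assoc, h, Category.assoc])
    simpa [K] using this
  let d : Y ⟶ Y₀ k := EffectiveEpi.desc e e₀ (key e e₀ hK.ge)
  let d' : Y₀ k ⟶ Y := EffectiveEpi.desc e₀ e (key e₀ e hK.le)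
  haveI : Epi e := inferInstance
  have hd : d ≫ d' = 𝟙 Y := by
    rw [← cancel_epi e]; simp [d, d']
  haveI : IsSplitMono d := IsSplitMono.mk' ⟨d', hd⟩
  let φ : X' ⟶ Injective.under (Y₀ k) := Injective.factorThru (d ≫ Injective.ι (Y₀ k)) m
  have hφ : m ≫ φ = d ≫ Injective.ι (Y₀ k) := Injective.comp_factorThru _ _
  have h := hfg _ ⟨k⟩ φ
  have h1 : coprod.inl ≫ e ≫ m = a ≫ f := by rw [hem]; exact coprod.inl_desc _ _
  have h2 : coprod.inr ≫ e ≫ m = a ≫ g := by rw [hem]; exact coprod.inr_desc _ _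
  have h3 : (coprod.inl ≫ e) ≫ d ≫ Injective.ι (Y₀ k) = (coprod.inr ≫ e) ≫ d ≫ Injective.ι (Y₀ k) := by
    rw [← hφ, Category.assoc, ← Category.assoc e, ← Category.assoc coprod.inl, h1,
      Category.assoc coprod.inr, ← Category.assoc e, ← Category.assoc coprod.inr, h2,
      Category.assoc, Category.assoc, h]
  rw [cancel_mono] at h3
  rw [← h1, ← h2, ← Category.assoc, h3, Category.assoc]

end Groth.Agent.S6126
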