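import Mathlib.CategoryTheory.Adjunction.Reflective
import Mathlib.CategoryTheory.Sites.SheafOfTypes
import Mathlib.CategoryTheory.ObjectProperty.FullSubcategory
import Mathlib.CategoryTheory.ObjectProperty.ClosedUnderIsomorphisms
import Mathlib.CategoryTheory.Limits.Preserves.Finite
import Mathlib.CategoryTheory.Sites.IsSheafFor
import Mathlib.CategoryTheory.Adjunction.Reflective
import Mathlib.CategoryTheory.Limits.Shapes.Pullback.IsPullback.Basic
import Mathlib.CategoryTheory.Limits.Types.Pullbacks
import Mathlib.CategoryTheory.Limits.FunctorCategory.EpiMono
import Mathlib.CategoryTheory.Limits.Constructions.EpiMono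
import Mathlib.CategoryTheory.Sites.SheafOfTypes

set_option autoImplicit false
namespace CategoryTheory
end CategoryTheory
namespace CategoryTheory.Limits
end CategoryTheory.Limits
namespace Opposite
end Opposite
open CategoryTheory CategoryTheory.Limits Opposite
universe u
namespace SGA4
end SGA4
open SGA4

namespace Groth.Agent.S6127

open CategoryTheory CategoryTheory.Limits Opposite in
/-- the sieve of maps along which a section of `B` lifts to `A` -/
def liftSieve {C : Type u} [SmallCategory C] {A B : Cᵒᵖ ⥤ Type u} (m : A ⟶ B) {X : C}
    (z : B.obj (op X)) : Sieve X where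
  arrows Y f := ∃ a : A.obj (op Y), m.app (op Y) a = B.map f.op z
  downward_closed {Y Z f} hf g := by
    obtain ⟨a, ha⟩ := hf
    refine ⟨A.map g.op a, ?_⟩
    rw [NatTrans.naturality_apply m g.op a, ha, op_comp, B.map_comp]
    rfl

open CategoryTheory CategoryTheory.Limits Opposite in
lemma isIso_map_liftSieve {C : Type u} [SmallCategory C] {D : Type*} [Category D]
    (R : (Cᵒᵖ ⥤ Type u) ⥤ D) [PreservesLimitsOfShape WalkingCospan R] {A B : Cᵒᵖ ⥤ Type u} (m : A ⟶ B)
    [Mono m] [IsIso (R.map m)] {X : C} (z : B.obj (op X)) :
    IsIso (R.map (liftSieve m z).functorInclusion) := by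
  have hinj : ∀ W, Function.Injective (m.app W) := fun W =>
    (CategoryTheory.mono_iff_injective (m.app W)).1 inferInstance
  let l : (liftSieve m z).functor ⟶ A :=
    { app := fun W => ↾fun f => f.2.choose
      naturality := fun W W' g => by
        apply ConcreteCategory.hom_ext
        intro f
        apply hinj
        refine (Exists.choose_spec ((liftSieve m z).functor.map g f).2).trans ?_
        refine Eq.trans ?_ (NatTrans.naturality_apply m g f.2.choose).symm
        refine Eq.trans ?_ (congrArg (B.map g) f.2.choose_spec).symm
        show B.map (g.unop ≫ f.1).op z = B.map g (B.map f.1.op z)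
        rw [op_comp, Quiver.Hom.op_unop, B.map_comp]
        rfl }
  have sq : IsPullback l (liftSieve m z).functorInclusion m (yonedaEquiv.symm z) := by
    refine IsPullback.of_forall_isPullback_app fun W => ?_
    rw [Types.isPullback_iff]
    refine ⟨?_, fun f g h => Subtype.ext h.2, fun a f h => ⟨⟨f, a, h⟩, ?_, rfl⟩⟩
    · apply ConcreteCategory.hom_ext
      intro f
      exact f.2.choose_spec
    · apply hinj
      exact (Exists.choose_spec (⟨f, a, h⟩ : { g : W.unop ⟶ X // (liftSieve m z) g }).2).trans h.symm
  exact (sq.map R).isIso_snd_of_isIso


/-- Let `C` be a small category and `P` a strictly full subcategory of the category of presheaves of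
sets on `C` whose inclusion admits a left adjoint (a reflector) preserving finite limits. Call a
sieve `S` on `X` covering when the reflector inverts the inclusion of `S`, viewed as a subpresheaf,
into the presheaf represented by `X`. Then these covering sieves form a Grothendieck topology `J` on
`C`, and a presheaf lies in `P` if and only if it is a sheaf for `J`. (This is the half of the
correspondence between topologies on `C` and such reflective subcategories that produces the
topology; the topology is pinned down by its covering sieves.) -/
theorem result
    {C : Type u} [SmallCategory C] (P : ObjectProperty (Cᵒᵖ ⥤ Type u))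
    [P.IsClosedUnderIsomorphisms] [Reflective P.ι] [PreservesFiniteLimits (reflector P.ι)] :
    ∃ J : GrothendieckTopology C,
      (∀ (X : C) (S : Sieve X), S ∈ J X ↔ IsIso ((reflector P.ι).map S.functorInclusion)) ∧
      ∀ F : Cᵒᵖ ⥤ Type u, P F ↔ Presieve.IsSheaf J F := by
  let R : (Cᵒᵖ ⥤ Type u) ⥤ P.FullSubcategory := reflector P.ι
  let adj : R ⊣ P.ι := reflectorAdjunction P.ι
  haveI : PreservesLimitsOfShape WalkingCospan R :=
    inferInstanceAs (PreservesLimitsOfShape WalkingCospan (reflector P.ι))
  haveI : P.ι.IsRightAdjoint := adj.isRightAdjoint
  let J : GrothendieckTopology C :=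
    { sieves := fun X => {S | IsIso (R.map S.functorInclusion)}
      top_mem' := fun X => by
        show IsIso _
        haveI : IsIso (⊤ : Sieve X).functorInclusion := inferInstance
        infer_instance
      pullback_stable' := fun X Y S f hS => by
        haveI : IsIso (R.map S.functorInclusion) := hS
        let l : (S.pullback f).functor ⟶ S.functor :=
          { app := fun W => ↾fun g => ⟨g.1 ≫ f, g.2⟩
            naturality := fun W W' h => by
              apply ConcreteCategory.hom_ext
              intro g
              exact Subtype.ext (Category.assoc _ _ _) }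
        have sq : IsPullback l (S.pullback f).functorInclusion S.functorInclusion (yoneda.map f) := by
          refine IsPullback.of_forall_isPullback_app fun W => ?_
          rw [Types.isPullback_iff]
          refine ⟨rfl, fun a b h => Subtype.ext h.2, fun a g h => ?_⟩
          have h' : a.1 = g ≫ f := h
          exact ⟨⟨g, show S.arrows (g ≫ f) from h' ▸ a.2⟩, Subtype.ext h'.symm, rfl⟩
        exact (sq.map R).isIso_snd_of_isIso
      transitive' := fun X S hS S' h' => by
        haveI : IsIso (R.map S.functorInclusion) := hS
        let m := R.map S'.functorInclusion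
        haveI : Mono S'.functorInclusion := inferInstance
        haveI hm : Mono m := inferInstance
        let η := adj.unit
        have hex : ∀ (W : Cᵒᵖ) (f : S.functor.obj W), ∃ e : (P.ι.obj (R.obj S'.functor)).obj W,
            (P.ι.map m).app W e = (η.app (yoneda.obj X)).app W f.1 := by
          intro W f
          haveI : IsIso (R.map (S'.pullback f.1).functorInclusion) := h' f.2
          let l : (S'.pullback f.1).functor ⟶ S'.functor :=
            { app := fun V => ↾fun g => ⟨g.1 ≫ f.1, g.2⟩
              naturality := fun V V' h => by
                apply ConcreteCategory.hom_ext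
                intro g
                exact Subtype.ext (Category.assoc _ _ _) }
          let e' : R.obj (yoneda.obj W.unop) ⟶ R.obj S'.functor :=
            inv (R.map (S'.pullback f.1).functorInclusion) ≫ R.map l
          have he : e' ≫ m = R.map (yoneda.map f.1) := by
            rw [Category.assoc, IsIso.inv_comp_eq, ← R.map_comp, ← R.map_comp]
            rfl
          refine ⟨yonedaEquiv (η.app _ ≫ P.ι.map e'), ?_⟩
          refine ((yonedaEquiv_comp _ (P.ι.map m)).symm.trans ?_).trans
            (NatTrans.naturality_apply (η.app (yoneda.obj X)) f.1.op (𝟙 X) |>.symm.trans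
              (congrArg ((η.app (yoneda.obj X)).app W) (Category.comp_id f.1)))
          rw [Category.assoc, ← P.ι.map_comp, he]
          have hn := η.naturality (yoneda.map f.1)
          refine (congrArg yonedaEquiv hn.symm).trans ?_
          exact (yonedaEquiv_naturality (η.app (yoneda.obj X)) f.1).symm
        have hinj : ∀ W, Function.Injective ((P.ι.map m).app W) := fun W =>
          (CategoryTheory.mono_iff_injective _).1 inferInstance
        let e : S.functor ⟶ P.ι.obj (R.obj S'.functor) :=
          { app := fun W => ↾fun f => (hex W f).choose
            naturality := fun W W' g => by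
              apply ConcreteCategory.hom_ext
              intro f
              apply hinj
              refine ((hex W' _).choose_spec).trans ?_
              refine Eq.trans ?_ (NatTrans.naturality_apply (P.ι.map m) g (hex W f).choose).symm
              refine Eq.trans ?_ (congrArg ((P.ι.obj (R.obj (yoneda.obj X))).map g)
                (hex W f).choose_spec).symm
              exact NatTrans.naturality_apply (η.app (yoneda.obj X)) g f.1 }
        have he : e ≫ P.ι.map m = S.functorInclusion ≫ η.app (yoneda.obj X) := by
          ext W f
          exact (hex W f).choose_spec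
        let e₁ := (adj.homEquiv _ _).symm e
        have he₁ : e₁ ≫ m = R.map S.functorInclusion := by
          apply (adj.homEquiv _ _).injective
          rw [adj.homEquiv_naturality_right, Equiv.apply_symm_apply, he]
          exact (adj.unit.naturality S.functorInclusion).trans rfl
        haveI : IsSplitEpi m := IsSplitEpi.mk'
          { section_ := inv (R.map S.functorInclusion) ≫ e₁
            id := by rw [Category.assoc, he₁, IsIso.inv_hom_id] }
        exact isIso_of_mono_of_isSplitEpi m }
  have hsheaf : ∀ F, P F → Presieve.IsSheaf J F := by
    intro F hF X S hS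
    haveI : IsIso (R.map S.functorInclusion) := hS
    rw [Presieve.isSheafFor_iff_yonedaSheafCondition]
    intro g
    let G : P.FullSubcategory := ⟨F, hF⟩
    refine ⟨(adj.homEquiv _ G) (inv (R.map S.functorInclusion) ≫ (adj.homEquiv _ G).symm g), ?_,
      fun t ht => ?_⟩
    · refine (adj.homEquiv_naturality_left _ _).symm.trans ?_
      rw [IsIso.hom_inv_id_assoc, Equiv.apply_symm_apply]
    · apply (adj.homEquiv _ G).symm.injective
      rw [Equiv.symm_apply_apply, IsIso.eq_inv_comp]
      exact (adj.homEquiv_naturality_left_symm _ _).symm.trans (congrArg _ ht)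
  refine ⟨J, fun X S => Iff.rfl, fun F => ⟨hsheaf F, fun hF => ?_⟩⟩
  let u := adj.unit.app F
  haveI hu : IsIso (R.map u) := by
    haveI : IsIso (adj.counit.app (R.obj F)) := inferInstance
    haveI : IsIso (𝟙 (R.obj F)) := IsIso.id _
    exact IsIso.of_isIso_fac_right (adj.left_triangle_components F)
  let d : F ⟶ pullback u u := pullback.lift (𝟙 F) (𝟙 F) rfl
  haveI : Mono d := mono_of_mono_fac (pullback.lift_fst _ _ _ : d ≫ pullback.fst u u = 𝟙 F)
  haveI : IsIso (R.map d) := by
    haveI : IsIso (R.map (pullback.fst u u)) :=
      ((IsPullback.of_hasPullback u u).map R).isIso_fst_of_isIso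
    have : R.map d ≫ R.map (pullback.fst u u) = 𝟙 _ := by
      rw [← R.map_comp, pullback.lift_fst, R.map_id]
    exact IsIso.of_isIso_fac_right this
  have hinj : ∀ W : Cᵒᵖ, Function.Injective (u.app W) := by
    intro W x y hxy
    obtain ⟨w, hw1, hw2⟩ := Types.exists_of_isPullback ((IsPullback.of_hasPullback u u).app W) x y hxy
    refine (hF (liftSieve d w) (isIso_map_liftSieve R d w)).isSeparatedFor.ext fun Y f ⟨a, ha⟩ => ?_
    have h1 : a = F.map f.op x := by
      refine ((ConcreteCategory.congr_hom (NatTrans.congr_app
        (pullback.lift_fst _ _ _ : d ≫ pullback.fst u u = 𝟙 F) (op Y)) a).symm.trans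
          (congrArg ((pullback.fst u u).app (op Y)) ha)).trans ?_
      exact (NatTrans.naturality_apply (pullback.fst u u) f.op w).trans (congrArg (F.map f.op) hw1)
    have h2 : a = F.map f.op y := by
      refine ((ConcreteCategory.congr_hom (NatTrans.congr_app
        (pullback.lift_snd _ _ _ : d ≫ pullback.snd u u = 𝟙 F) (op Y)) a).symm.trans
          (congrArg ((pullback.snd u u).app (op Y)) ha)).trans ?_
      exact (NatTrans.naturality_apply (pullback.snd u u) f.op w).trans (congrArg (F.map f.op) hw2)
    exact h1.symm.trans h2
  haveI : Mono u := by
    haveI : ∀ W, Mono (u.app W) := fun W => (CategoryTheory.mono_iff_injective _).2 (hinj W)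
    exact NatTrans.mono_of_mono_app u
  haveI : IsIso u := by
    haveI : ∀ W, IsIso (u.app W) := fun W => by
      rw [isIso_iff_bijective]
      refine ⟨hinj W, fun z => ?_⟩
      have hT : liftSieve u z ∈ J W.unop := isIso_map_liftSieve R u (X := W.unop) z
      let fam : Presieve.FamilyOfElements F (liftSieve u z).arrows := fun Y f hf => hf.choose
      have hfam : fam.Compatible := by
        intro Y₁ Y₂ Z g₁ g₂ f₁ f₂ h₁ h₂ hcomm
        apply hinj
        refine (NatTrans.naturality_apply u g₁.op _).trans (Eq.trans ?_ (NatTrans.naturality_apply u g₂.op _).symm)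
        refine (congrArg ((P.ι.obj (R.obj F)).map g₁.op) h₁.choose_spec).trans
          (Eq.trans ?_ (congrArg ((P.ι.obj (R.obj F)).map g₂.op) h₂.choose_spec).symm)
        exact ((ConcreteCategory.congr_hom ((P.ι.obj (R.obj F)).map_comp f₁.op g₁.op) z).symm.trans
          (congrArg (fun k => (P.ι.obj (R.obj F)).map k.op z) hcomm)).trans
          (ConcreteCategory.congr_hom ((P.ι.obj (R.obj F)).map_comp f₂.op g₂.op) z)
      refine ⟨(hF _ hT).amalgamate fam hfam, ?_⟩
      refine (hsheaf _ (R.obj F).property _ hT).isSeparatedFor.ext fun Y f hf => ?_
      refine (NatTrans.naturality_apply u f.op _).symm.trans ?_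
      refine (congrArg (u.app (op Y)) ((hF _ hT).valid_glue hfam f hf)).trans ?_
      exact hf.choose_spec
    exact NatIso.isIso_of_isIso_app u
  exact P.prop_of_iso (asIso u).symm (R.obj F).property

end Groth.Agent.S6127
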