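import Mathlib.CategoryTheory.Sites.CoverLifting
import Mathlib.CategoryTheory.Sites.CoverLifting
import Mathlib.CategoryTheory.Sites.LocallyBijective
import Mathlib.CategoryTheory.Sites.Localization

set_option autoImplicit false
namespace CategoryTheory
end CategoryTheory
open CategoryTheory
universe u
namespace SGA4
end SGA4
open SGA4

namespace Groth.Agent.S6128

/-- Let `u : C ⥤ C'` be a functor between small sites. If the right Kan extension along `u` of the
underlying presheaf of every sheaf of sets on `C` is a sheaf on `C'`, then `u` is cocontinuous: for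
every object `Y` of `C` and every covering sieve `R` of `u Y`, the sieve of morphisms `g : Z ⟶ Y`
with `u g ∈ R` covers `Y`. -/
theorem result
    {C : Type u} [SmallCategory C] {C' : Type u} [SmallCategory C']
    (J : GrothendieckTopology C) (J' : GrothendieckTopology C') (u : C ⥤ C')
    (h : ∀ G : Sheaf J (Type u), Presheaf.IsSheaf J' ((u.op.ran).obj G.obj)) :
    u.IsCocontinuous J J' := by
  refine ⟨fun {U S} hS => ?_⟩
  let L := (Functor.whiskeringLeft Cᵒᵖ C'ᵒᵖ (Type u)).obj u.op
  have hW : J.W (L.map S.functorInclusion) := by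
    intro G hG
    have hb : Function.Bijective (fun t : yoneda.obj (u.obj U) ⟶ u.op.ran.obj G =>
        S.functorInclusion ≫ t) := by
      have hsh := (isSheaf_iff_isSheaf_of_type J' _).1 (h ⟨G, hG⟩) S hS
      rw [Presieve.isSheafFor_iff_yonedaSheafCondition] at hsh
      exact ⟨fun a b hab => (hsh (S.functorInclusion ≫ b)).unique hab rfl,
        fun t => (hsh t).exists⟩
    let adj := u.op.ranAdjunction (Type u)
    have hn : ∀ t : L.obj (yoneda.obj (u.obj U)) ⟶ G,
        adj.homEquiv _ _ (L.map S.functorInclusion ≫ t) = S.functorInclusion ≫ adj.homEquiv _ _ t :=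
      fun t => adj.homEquiv_naturality_left _ _
    refine ⟨fun a b hab => (adj.homEquiv _ _).injective (hb.1 ?_), fun t => ?_⟩
    · exact (hn a).symm.trans ((congrArg _ hab).trans (hn b))
    · obtain ⟨a, ha⟩ := hb.2 (adj.homEquiv _ _ t)
      exact ⟨(adj.homEquiv _ _).symm a, (adj.homEquiv _ _).injective
        ((hn _).trans (by rw [Equiv.apply_symm_apply]; exact ha))⟩
  obtain ⟨-, hs⟩ := (J.W_iff_isLocallyBijective _).1 hW
  refine J.superset_covering ?_ (Presheaf.imageSieve_mem J (L.map S.functorInclusion)
    (U := Opposite.op U) (𝟙 (u.obj U)))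
  rintro Y g ⟨⟨t, ht⟩, e⟩
  have e' : t = u.map g ≫ 𝟙 _ := e
  rw [Category.comp_id] at e'
  show S (u.map g)
  rw [← e']
  exact ht

end Groth.Agent.S6128
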