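import Mathlib.CategoryTheory.Functor.KanExtension.Adjunction
import Mathlib.CategoryTheory.Comma.Over.Basic
import Mathlib.CategoryTheory.Limits.Shapes.Pullback.IsPullback.Basic
import Mathlib.CategoryTheory.Limits.Types.Colimits
import Groth.Agent.SGA4Ind16.LanUnit
import Mathlib.CategoryTheory.Subfunctor.Image
import Mathlib.CategoryTheory.Limits.Types.Pullbacks
import Mathlib.CategoryTheory.Limits.Shapes.Pullback.IsPullback.Basic

set_option autoImplicit false
namespace CategoryTheory
end CategoryTheory
namespace CategoryTheory.Limits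
end CategoryTheory.Limits
open CategoryTheory CategoryTheory.Limits
universe u
namespace SGA4
end SGA4
open SGA4

namespace Groth.Agent.S6129

open Opposite SGA4Ind16

variable {C : Type u} [SmallCategory C] {C' : Type u} [SmallCategory C'] (u : C ⥤ C')

lemma cmp {D : Type u} [SmallCategory D] (H : Dᵒᵖ ⥤ Type u) {X Y Z : D} (a : X ⟶ Y) (b : Y ⟶ Z)
    (z : H.obj (op Z)) : H.map (a ≫ b).op z = H.map a.op (H.map b.op z) := by simp

/-- Elements of `u_! H` of the form "an arrow and an element". -/
def genSub (H : Cᵒᵖ ⥤ Type u) : Subfunctor ((ext u).obj H) where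
  obj W := {z | ∃ (Y : C) (g : W.unop ⟶ u.obj Y) (x : H.obj (op Y)),
    z = ((ext u).obj H).map g.op (((adj u).unit.app H).app (op Y) x)}
  map {V W} i z hz := by
    obtain ⟨Y, g, x, rfl⟩ := hz
    refine ⟨Y, i.unop ≫ g, x, ?_⟩
    exact (Functor.map_comp_apply ((ext u).obj H) g.op i _).symm

lemma exists_rep (H : Cᵒᵖ ⥤ Type u) (W : C'ᵒᵖ) (z : ((ext u).obj H).obj W) :
    ∃ (Y : C) (g : W.unop ⟶ u.obj Y) (x : H.obj (op Y)),
      z = ((ext u).obj H).map g.op (((adj u).unit.app H).app (op Y) x) := by
  let S := genSub u H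
  let η' : H ⟶ (res u).obj S.toFunctor :=
    { app := fun c => ↾ fun x => ⟨((adj u).unit.app H).app c x, ⟨c.unop, 𝟙 _, x, by simp⟩⟩
      naturality := fun c d f => by
        refine ConcreteCategory.hom_ext _ _ fun x => Subtype.ext ?_
        exact NatTrans.naturality_apply ((adj u).unit.app H) f x }
  let l := ((adj u).homEquiv _ _).symm η'
  have hl : l ≫ S.ι = 𝟙 _ := by
    refine ((adj u).homEquiv _ _).injective ?_
    rw [Adjunction.homEquiv_naturality_right, Equiv.apply_symm_apply, Adjunction.homEquiv_id]
    rfl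
  have h : (l.app W z).1 = z := by
    have h' := ConcreteCategory.congr_hom (congrArg (fun t => NatTrans.app t W) hl) z
    exact h'
  exact h ▸ (l.app W z).2

open scoped Classical in
/-- The invariant of a representative. -/
noncomputable def inv' {H : Cᵒᵖ ⥤ Type u} {X Y : C} (k : u.obj X ⟶ u.obj Y) (x : H.obj (op Y)) :
    Option (H.obj (op X)) :=
  if h : ∃ f : X ⟶ Y, u.map f = k then some (H.map h.choose.op x) else none

variable [u.Faithful]

lemma inv'_map {H : Cᵒᵖ ⥤ Type u} {X Y : C} (f : X ⟶ Y) (x : H.obj (op Y)) :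
    inv' u (u.map f) x = some (H.map f.op x) := by
  have h : ∃ g : X ⟶ Y, u.map g = u.map f := ⟨f, rfl⟩
  rw [inv', dif_pos h, u.map_injective h.choose_spec]

variable (hu : ∀ X : C, (Over.post (X := X) u).Full ∧ (Over.post (X := X) u).Faithful)

include hu in
lemma inv'_comp {H : Cᵒᵖ ⥤ Type u} {X Y Y' : C} (k : u.obj X ⟶ u.obj Y) (h : Y ⟶ Y')
    (x : H.obj (op Y')) : inv' u k (H.map h.op x) = inv' u (k ≫ u.map h) x := by
  by_cases hk : ∃ f : X ⟶ Y, u.map f = k
  · obtain ⟨f, rfl⟩ := hk
    rw [← u.map_comp, inv'_map, inv'_map]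
    exact congrArg some (cmp H f h x).symm
  · have hk' : ¬ ∃ f : X ⟶ Y', u.map f = k ≫ u.map h := by
      rintro ⟨f, hf⟩
      haveI := (hu Y').1
      obtain ⟨m, hm⟩ := (Over.post (X := Y') u).map_surjective
        (Over.homMk k hf.symm : (Over.post (X := Y') u).obj (Over.mk f) ⟶
          (Over.post (X := Y') u).obj (Over.mk h))
      exact hk ⟨m.left, congrArg CommaMorphism.left hm⟩
    rw [inv', inv', dif_neg hk, dif_neg hk']

/-- The presheaf receiving the invariant. -/
def invPsh (H : Cᵒᵖ ⥤ Type u) (X : C) : C'ᵒᵖ ⥤ Type u where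
  obj W := (u.obj X ⟶ W.unop) → Option (H.obj (op X))
  map {V W} m := ↾ fun φ k => φ (k ≫ m.unop)
  map_id W := by
    refine ConcreteCategory.hom_ext _ _ fun φ => funext fun k => ?_
    exact congrArg φ (Category.comp_id k)
  map_comp {U V W} a b := by
    refine ConcreteCategory.hom_ext _ _ fun φ => funext fun k => ?_
    exact congrArg φ (Category.assoc k b.unop a.unop).symm

include hu in
lemma inv'_eq_of_eq {H : Cᵒᵖ ⥤ Type u} {X Y Y' : C} (g : u.obj X ⟶ u.obj Y)
    (g' : u.obj X ⟶ u.obj Y') (x : H.obj (op Y)) (x' : H.obj (op Y'))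
    (e : ((ext u).obj H).map g.op (((adj u).unit.app H).app (op Y) x) =
      ((ext u).obj H).map g'.op (((adj u).unit.app H).app (op Y') x')) :
    inv' u g x = inv' u g' x' := by
  let θ : H ⟶ (res u).obj (invPsh u H X) :=
    { app := fun c => ↾ fun x k => inv' u k x
      naturality := fun c d f => by
        refine ConcreteCategory.hom_ext _ _ fun x => funext fun k => ?_
        exact inv'_comp u hu k f.unop x }
  let l := ((adj u).homEquiv _ _).symm θ
  have hl : (adj u).unit.app H ≫ (res u).map l = θ :=
    ((adj u).homEquiv_unit _ _ _).symm.trans (((adj u).homEquiv _ _).apply_symm_apply θ)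
  have key : ∀ (Y : C) (g : u.obj X ⟶ u.obj Y) (x : H.obj (op Y)),
      l.app (op (u.obj X)) (((ext u).obj H).map g.op (((adj u).unit.app H).app (op Y) x)) (𝟙 _) =
        inv' u g x := by
    intro Y g x
    rw [NatTrans.naturality_apply l g.op]
    have h1 := ConcreteCategory.congr_hom (congrArg (fun t => NatTrans.app t (op Y)) hl) x
    refine (congrFun (congrArg ((invPsh u H X).map g.op) h1) (𝟙 _)).trans ?_
    exact congrArg (fun k => inv' u k x) (Category.id_comp g)
  rw [← key, ← key, e]

include hu in
lemma unit_injective (H : Cᵒᵖ ⥤ Type u) (c : Cᵒᵖ) :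
    Function.Injective (((adj u).unit.app H).app c) := by
  intro x y e
  have h := inv'_eq_of_eq u hu (u.map (𝟙 c.unop)) (u.map (𝟙 c.unop)) x y
    (congrArg (fun w => ((ext u).obj H).map (u.map (𝟙 c.unop)).op w) e)
  rw [inv'_map, inv'_map] at h
  simpa using Option.some.inj h

include hu in
lemma cartesian (H K : Cᵒᵖ ⥤ Type u) (α : H ⟶ K) :
    IsPullback ((adj u).unit.app H) α ((res u).map ((ext u).map α)) ((adj u).unit.app K) := by
  refine IsPullback.of_forall_isPullback_app fun c => ?_
  rw [Types.isPullback_iff]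
  refine ⟨congrArg (fun t => NatTrans.app t c) ((adj u).unit.naturality α).symm,
    fun x y h => unit_injective u hu H c h.1, fun z a e => ?_⟩
  obtain ⟨Y, g, x, rfl⟩ := exists_rep u H (op (u.obj c.unop)) z
  have e' : ((ext u).obj K).map g.op (((adj u).unit.app K).app (op Y) (α.app (op Y) x)) =
      ((ext u).obj K).map (u.map (𝟙 c.unop)).op (((adj u).unit.app K).app c a) := by
    refine Eq.trans ?_ (e.trans (by simp))
    refine Eq.trans ?_ (NatTrans.naturality_apply ((ext u).map α) g.op _).symm
    exact congrArg (((ext u).obj K).map g.op) (unit_natural_apply u α (op Y) x)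
  have h := inv'_eq_of_eq u hu g (u.map (𝟙 c.unop)) (α.app (op Y) x) a e'
  rw [inv'_map] at h
  unfold inv' at h
  split_ifs at h with hg
  have ha := Option.some.inj h
  refine ⟨H.map hg.choose.op x, ?_, ?_⟩
  · refine (NatTrans.naturality_apply ((adj u).unit.app H) hg.choose.op x).trans ?_
    exact congrArg (fun k : u.obj c.unop ⟶ u.obj Y => ((ext u).obj H).map k.op _) hg.choose_spec
  · exact (NatTrans.naturality_apply α hg.choose.op x).trans (ha.trans (show K.map (𝟙 c.unop).op a = a by simp))

/-- Let `u : C ⥤ C'` be a faithful functor between small categories such that for every object `X` of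
`C` the induced functor on over-categories `C/X ⥤ C'/u X` is full and faithful. Then the left Kan
extension functor `u_!` on presheaves of sets is faithful, the unit `H ⟶ u^* u_! H` of the
adjunction `u_! ⊣ u^*` is a monomorphism for every presheaf `H`, and for every morphism of
presheaves `α : H ⟶ K` the naturality square of the unit at `α` (with sides `α` and `u^* u_! α`) is
cartesian. (The published statement assumes only the condition on the slice functors, and its proof
uses that `u` is faithful; the slice condition alone does not suffice: for a nontrivial group viewed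
as a one-object category mapping to the point every slice functor is an equivalence, while `u_!` is
the orbit-set functor on `G`-sets, which is not faithful, and the unit `G ⟶ G/G` is not a
monomorphism. So `u` is taken faithful here.) -/
theorem result
    {C : Type u} [SmallCategory C] {C' : Type u} [SmallCategory C'] (u : C ⥤ C') [u.Faithful]
    (hu : ∀ X : C, (Over.post (X := X) u).Full ∧ (Over.post (X := X) u).Faithful) :
    (u.op.lan : (Cᵒᵖ ⥤ Type u) ⥤ (C'ᵒᵖ ⥤ Type u)).Faithful ∧
    (∀ H : Cᵒᵖ ⥤ Type u, Mono ((u.op.lanAdjunction (Type u)).unit.app H)) ∧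
    ∀ (H K : Cᵒᵖ ⥤ Type u) (α : H ⟶ K),
      IsPullback ((u.op.lanAdjunction (Type u)).unit.app H) α
        (((Functor.whiskeringLeft Cᵒᵖ C'ᵒᵖ (Type u)).obj u.op).map (u.op.lan.map α))
        ((u.op.lanAdjunction (Type u)).unit.app K) := by
  have hm : ∀ H : Cᵒᵖ ⥤ Type u, Mono ((u.op.lanAdjunction (Type u)).unit.app H) := fun H => by
    haveI : ∀ c, Mono (((SGA4Ind16.adj u).unit.app H).app c) := fun c =>
      (mono_iff_injective _).2 (unit_injective u hu H c)
    exact NatTrans.mono_of_mono_app _
  haveI := hm
  exact ⟨(u.op.lanAdjunction (Type u)).faithful_L_of_mono_unit_app, hm, fun H K α => cartesian u hu H K α⟩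

end Groth.Agent.S6129
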