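import Mathlib.CategoryTheory.Sites.Sheafification
import Mathlib.CategoryTheory.Sites.Limits
import Mathlib.CategoryTheory.Limits.Shapes.IsTerminal
import Mathlib.CategoryTheory.Sites.LeftExact
import Mathlib.CategoryTheory.Sites.LocallySurjective
import Mathlib.CategoryTheory.Sites.Sheafification

set_option autoImplicit false
namespace CategoryTheory
end CategoryTheory
namespace CategoryTheory.Limits
end CategoryTheory.Limits
open CategoryTheory CategoryTheory.Limits
universe u
namespace SGA4
end SGA4
open SGA4

namespace Groth.Agent.S6131

/-- For a small site `(C, J)` and an object `X` of `C`, the sheaf associated to the presheaf represented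
by `X` is an initial object of the category of sheaves of sets if and only if the empty sieve covers
`X`. -/
theorem result
    {C : Type u} [SmallCategory C] (J : GrothendieckTopology C) (X : C) :
    Nonempty (IsInitial ((presheafToSheaf J (Type u)).obj (yoneda.obj X))) ↔ (⊥ : Sieve X) ∈ J X := by
  constructor
  · rintro ⟨hI⟩
    let E₀ : Cᵒᵖ ⥤ Type u := (Functor.const _).obj PEmpty
    let s : (yoneda.obj X) ⟶ ((presheafToSheaf J (Type u)).obj E₀).obj :=
      (sheafificationAdjunction J (Type u)).homEquiv _ _ (hI.to _)
    have := Presheaf.imageSieve_mem J (toSheafify J E₀) (s.app (Opposite.op X) (𝟙 X))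
    refine J.superset_covering ?_ this
    rintro Y f ⟨t, -⟩
    exact PEmpty.elim t
  · intro h
    refine ⟨IsInitial.ofUniqueHom (fun F => ?_) fun F m => ?_⟩
    · exact ((sheafificationAdjunction J (Type u)).homEquiv _ _).symm (yonedaEquiv.symm
        ((((isSheaf_iff_isSheaf_of_type J F.obj).1 F.property) ⊥ h).amalgamate
          (fun _ _ hf => hf.elim) (fun _ _ _ _ _ _ _ hf => hf.elim)))
    · apply ((sheafificationAdjunction J (Type u)).homEquiv _ _).injective
      rw [Equiv.apply_symm_apply]
      apply yonedaEquiv.injective
      rw [Equiv.apply_symm_apply]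
      exact (((isSheaf_iff_isSheaf_of_type J F.obj).1 F.property) ⊥ h).isSeparatedFor.ext
        fun _ _ hf => hf.elim

end Groth.Agent.S6131
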