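import Mathlib.CategoryTheory.Generator.Basic
import Mathlib.CategoryTheory.Subobject.Basic
import Mathlib.CategoryTheory.Limits.Shapes.RegularMono
import Mathlib.CategoryTheory.Generator.Basic
import Mathlib.CategoryTheory.Limits.Shapes.RegularMono

set_option autoImplicit false
namespace CategoryTheory
end CategoryTheory
namespace CategoryTheory.Limits
end CategoryTheory.Limits
open CategoryTheory CategoryTheory.Limits
universe v₁ u₁
namespace SGA4
end SGA4
open SGA4

namespace Groth.Agent.S6133

/-- Let `C` be a separating family of objects of `E` and let `i' : X' ⟶ X`, `i'' : X'' ⟶ X` be regular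
monomorphisms (equalizers of pairs). If for every `T` with `C T` a morphism `T ⟶ X` factors through
`i'` exactly when it factors through `i''`, then `i'` and `i''` define the same subobject of `X`: a
regular subobject is determined by the morphisms from objects of `C` that it contains. (The
published statement is for strict subobjects, of which regular ones are a special case, and for a
generating family in the sense of jointly reflecting isomorphisms, while the published proof uses
joint faithfulness; the row takes `C` separating.) -/
theorem result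
    {E : Type u₁} [Category.{v₁} E] {C : ObjectProperty E} (hC : C.IsSeparating)
    {X X' X'' : E} (i' : X' ⟶ X) (i'' : X'' ⟶ X) [IsRegularMono i'] [IsRegularMono i'']
    (h : ∀ (T : E), C T → ∀ (g : T ⟶ X),
      (∃ g' : T ⟶ X', g' ≫ i' = g) ↔ (∃ g'' : T ⟶ X'', g'' ≫ i'' = g)) :
    Subobject.mk i' = Subobject.mk i'' := by
  have key : ∀ {A B : E} (a : A ⟶ X) (b : B ⟶ X) [IsRegularMono b],
      (∀ (T : E), C T → ∀ g : T ⟶ X, (∃ g', g' ≫ a = g) → ∃ g'', g'' ≫ b = g) →
      ∃ k : A ⟶ B, k ≫ b = a := by
    intro A B a b _ hab
    let r : RegularMono b := (IsRegularMono.regularMono (f := b)).some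
    have : a ≫ r.left = a ≫ r.right := hC _ _ fun T hT t => by
      obtain ⟨t', ht'⟩ := hab T hT (t ≫ a) ⟨t, rfl⟩
      rw [← Category.assoc, ← Category.assoc, ← ht', Category.assoc, Category.assoc, r.w]
    obtain ⟨k, hk⟩ := Fork.IsLimit.lift' r.isLimit a this
    exact ⟨k, hk⟩
  obtain ⟨k, hk⟩ := key i' i'' fun T hT g hg => (h T hT g).1 hg
  obtain ⟨l, hl⟩ := key i'' i' fun T hT g hg => (h T hT g).2 hg
  exact Subobject.mk_eq_mk_of_comm i' i'' ⟨k, l,
    by rw [← cancel_mono i', Category.assoc, hl, hk, Category.id_comp],
    by rw [← cancel_mono i'', Category.assoc, hk, hl, Category.id_comp]⟩ hk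

end Groth.Agent.S6133
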