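import Mathlib.CategoryTheory.Limits.Indization.IndObject
import Mathlib.CategoryTheory.Limits.Preserves.Basic
import Mathlib.CategoryTheory.Yoneda
import Mathlib.CategoryTheory.Adjunction.AdjointFunctorTheorems

set_option autoImplicit false
namespace CategoryTheory
end CategoryTheory
namespace CategoryTheory.Limits
end CategoryTheory.Limits
open CategoryTheory CategoryTheory.Limits
universe v u
namespace SGA4
end SGA4
open SGA4

namespace Groth.Agent.S6137

/-- Let `C` be a category with `v`-small hom-sets admitting all `v`-small limits, and `F : C ⥤ Type v` a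
functor. Then `F` is corepresentable if and only if it is pro-representable (viewed as a presheaf on
`Cᵒᵖ` it is an ind-object, i.e. a small filtered colimit of corepresentable functors) and preserves
all `v`-small limits. -/
theorem result
    {C : Type u} [Category.{v} C] [HasLimitsOfSize.{v, v} C] (F : C ⥤ Type v) :
    F.IsCorepresentable ↔
      IsIndObject (unopUnop C ⋙ F) ∧ PreservesLimitsOfSize.{v, v} F := by
  constructor
  · intro h
    obtain ⟨X, ⟨e⟩⟩ := h.has_corepresentation
    refine ⟨?_, ?_⟩
    · refine (isIndObject_yoneda (C := Cᵒᵖ) (Opposite.op X)).map (NatIso.ofComponents (fun Y =>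
        ((opEquiv Y.unop (Opposite.op X)).trans e.homEquiv).toIso) (fun {Y Y'} g => ?_)).hom
      refine ConcreteCategory.hom_ext _ _ fun f => ?_
      exact e.homEquiv_comp g.unop.unop f.unop
    · exact preservesLimits_of_natIso (Functor.CorepresentableBy.toIso e)
  · rintro ⟨⟨⟨P⟩⟩, hlim⟩
    haveI := hlim
    let B : P.I → StructuredArrow PUnit.{v + 1} F := fun i =>
      StructuredArrow.mk (Y := (P.F.obj i).unop)
        (↾ fun _ => ((P.cocone.ι.app i).app (Opposite.op (P.F.obj i)) (𝟙 (P.F.obj i)) : F.obj (P.F.obj i).unop))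
    have hB : ∀ A : StructuredArrow PUnit.{v + 1} F, ∃ i, Nonempty (B i ⟶ A) := by
      intro A
      have hc := isColimitOfPreserves ((evaluation _ (Type v)).obj (Opposite.op (Opposite.op A.right))) P.coconeIsColimit
      obtain ⟨i, g, hg⟩ := Types.jointly_surjective _ hc (A.hom PUnit.unit : F.obj A.right)
      refine ⟨i, ⟨StructuredArrow.homMk (Quiver.Hom.unop (g : Opposite.op A.right ⟶ P.F.obj i)) ?_⟩⟩
      refine ConcreteCategory.hom_ext _ _ fun x => ?_
      cases x
      refine Eq.trans ?_ hg
      change F.map (g : Opposite.op A.right ⟶ P.F.obj i).unop ((P.cocone.ι.app i).app (Opposite.op (P.F.obj i)) (𝟙 _)) =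
        (P.cocone.ι.app i).app (Opposite.op (Opposite.op A.right)) g
      have := ConcreteCategory.congr_hom
        ((P.cocone.ι.app i).naturality (Quiver.Hom.op (g : Opposite.op A.right ⟶ P.F.obj i))) (𝟙 (P.F.obj i))
      refine this.symm.trans ?_
      exact congrArg ((P.cocone.ι.app i).app (Opposite.op (Opposite.op A.right))) (Category.comp_id (g : Opposite.op A.right ⟶ P.F.obj i))
    haveI : HasProducts.{v} (StructuredArrow PUnit.{v + 1} F) := fun J => inferInstance
    obtain ⟨T, hT⟩ := has_weakly_initial_of_weakly_initial_set_and_hasProducts hB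
    haveI := hasInitial_of_weakly_initial_and_hasWideEqualizers hT
    let T₀ := ⊥_ (StructuredArrow PUnit.{v + 1} F)
    let mk : ∀ {Y : C}, F.obj Y → StructuredArrow PUnit.{v + 1} F := fun {Y} y =>
      StructuredArrow.mk (Y := Y) (↾ fun _ => y)
    have hb : ∀ Y : C, Function.Bijective
        (fun f : T₀.right ⟶ Y => F.map f (T₀.hom PUnit.unit)) := fun Y => by
      refine ⟨fun f f' h => ?_, fun y => ⟨(initial.to (mk y)).right, ?_⟩⟩
      · let φ : T₀ ⟶ mk (F.map f (T₀.hom PUnit.unit)) := StructuredArrow.homMk f rfl
        let φ' : T₀ ⟶ mk (F.map f (T₀.hom PUnit.unit)) := StructuredArrow.homMk f'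
          (ConcreteCategory.hom_ext _ _ fun _ => h.symm)
        exact congrArg CommaMorphism.right (initial.hom_ext φ φ')
      · exact ConcreteCategory.congr_hom (StructuredArrow.w (initial.to (mk y))) PUnit.unit
    exact (Functor.CorepresentableBy.isCorepresentable
      { homEquiv := fun {Y} => Equiv.ofBijective _ (hb Y)
        homEquiv_comp := fun g f => Functor.map_comp_apply F f g _ })

end Groth.Agent.S6137
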