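import Mathlib.CategoryTheory.Sites.Canonical
import Mathlib.CategoryTheory.Limits.Shapes.IsTerminal
import Mathlib.CategoryTheory.Sites.Canonical
import Mathlib.CategoryTheory.Limits.Shapes.IsTerminal

set_option autoImplicit false
namespace CategoryTheory
end CategoryTheory
namespace CategoryTheory.Limits
end CategoryTheory.Limits
open CategoryTheory CategoryTheory.Limits
universe v u
namespace SGA4
end SGA4
open SGA4

namespace Groth.Agent.S6139

/-- For an object `X` of a category `C`, the empty sieve on `X` is covering for the canonical topology
of `C` (the finest topology for which every representable presheaf is a sheaf) if and only if `X` is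
a strict initial object: `X` is initial and every morphism with target `X` is an isomorphism. (The
source phrases the first condition as: for some topology coarser than the canonical one the
associated sheaf of `h_X` is initial; that sheaf is initial exactly when the empty sieve covers `X`,
and coverage by the empty sieve passes to the finer canonical topology.) -/
theorem result
    {C : Type u} [Category.{v} C] (X : C) :
    (⊥ : Sieve X) ∈ Sheaf.canonicalTopology C X ↔
      (Nonempty (IsInitial X) ∧ ∀ (Y : C) (f : Y ⟶ X), IsIso f) := by
  constructor
  · intro h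
    have hinit : ∀ (W : C), (⊥ : Sieve W) ∈ Sheaf.canonicalTopology C W →
        ∀ Z : C, ∃! _g : W ⟶ Z, True := by
      intro W hW Z
      have := Sheaf.isSheaf_yoneda_obj Z _ hW (fun _ _ hf => hf.elim) (fun _ _ _ _ _ _ _ hf => hf.elim)
      obtain ⟨t, -, ht⟩ := this
      exact ⟨t, trivial, fun y _ => ht y (fun _ _ hf => hf.elim)⟩
    refine ⟨⟨IsInitial.ofUniqueHom (fun Z => (hinit X h Z).choose)
      fun Z m => (hinit X h Z).choose_spec.2 m trivial⟩, fun Y f => ?_⟩
    have hY : (⊥ : Sieve Y) ∈ Sheaf.canonicalTopology C Y := by
      have : (⊥ : Sieve X).pullback f = ⊥ := by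
        ext Z g; exact Iff.rfl
      exact this ▸ (Sheaf.canonicalTopology C).pullback_stable f h
    exact ⟨(hinit X h Y).choose, (hinit Y hY Y).unique trivial trivial,
      (hinit X h X).unique trivial trivial⟩
  · rintro ⟨⟨hX⟩, hiso⟩
    refine Sheaf.mem_finestTopology_of_forall_isSheafFor ?_
    rintro _ ⟨Z, rfl⟩ Y f
    haveI := hiso Y f
    intro x _
    refine ⟨f ≫ hX.to Z, fun W g hg => hg.elim, fun t _ => ?_⟩
    have : inv f ≫ t = hX.to Z := hX.hom_ext _ _
    rw [← this, IsIso.hom_inv_id_assoc]

end Groth.Agent.S6139
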