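import Groth.Prelude.Def_SGA4a
import Mathlib.CategoryTheory.Sites.Canonical
import Mathlib.CategoryTheory.Sites.Sheafification
import Groth.Agent.Giraud16.Conservative
import Mathlib.CategoryTheory.Sites.Subcanonical
import Mathlib.CategoryTheory.Sites.EffectiveEpimorphic

set_option autoImplicit false
namespace CategoryTheory
end CategoryTheory
namespace CategoryTheory.Limits
end CategoryTheory.Limits
open CategoryTheory CategoryTheory.Limits
universe u
namespace SGA4
end SGA4
open SGA4

namespace Groth.Agent.S6140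

open Opposite

variable {C : Type u} [SmallCategory C]

lemma singleton_isSheafFor_iff {X B : C} (π : X ⟶ B) :
    (∀ Z, Presieve.IsSheafFor (yoneda.obj Z) (Presieve.singleton π)) ↔ EffectiveEpi π := by
  constructor
  · intro h
    refine ⟨⟨{
      desc := fun {W} e he => ((Presieve.isSheafFor_singleton).1 (h W) e (fun p₁ p₂ hp => he p₁ p₂ hp)).choose
      fac := fun {W} e he => ((Presieve.isSheafFor_singleton).1 (h W) e (fun p₁ p₂ hp => he p₁ p₂ hp)).choose_spec.1
      uniq := fun {W} e he m hm => ((Presieve.isSheafFor_singleton).1 (h W) e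
        (fun p₁ p₂ hp => he p₁ p₂ hp)).choose_spec.2 m hm }⟩⟩
  · intro hπ Z
    rw [Presieve.isSheafFor_singleton]
    intro x hx
    haveI : EffectiveEpi π.op.unop := hπ
    exact ⟨EffectiveEpi.desc π x (fun g₁ g₂ h => hx g₁ g₂ h), EffectiveEpi.fac _ _ _,
      fun y hy => EffectiveEpi.uniq π x _ y hy⟩

variable [HasPullbacks C]

lemma pullback_generate_singleton {X B B' : C} (π : X ⟶ B) (g : B' ⟶ B) :
    (Sieve.generate (Presieve.singleton π)).pullback g =
      Sieve.generate (Presieve.singleton (pullback.snd π g)) := by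
  ext W k
  constructor
  · rintro ⟨_, a, _, ⟨⟩, e⟩
    exact ⟨_, pullback.lift a k e, _, Presieve.singleton_self _, pullback.lift_snd _ _ _⟩
  · rintro ⟨_, a, _, ⟨⟩, rfl⟩
    exact ⟨_, a ≫ pullback.fst π g, π, Presieve.singleton_self _, by
      rw [Category.assoc, pullback.condition, Category.assoc]⟩

lemma mem_canonical_iff {X B : C} (π : X ⟶ B) :
    Sieve.generate (Presieve.singleton π) ∈ Sheaf.canonicalTopology C B ↔
      ∀ (B' : C) (g : B' ⟶ B), EffectiveEpi (pullback.snd π g) := by
  constructor
  · intro h B' g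
    rw [← singleton_isSheafFor_iff]
    intro Z
    rw [Presieve.isSheafFor_iff_generate, ← pullback_generate_singleton]
    exact Sheaf.isSheaf_yoneda_obj Z _ ((Sheaf.canonicalTopology C).pullback_stable g h)
  · intro h
    refine Sheaf.mem_finestTopology_of_forall_isSheafFor ?_
    rintro _ ⟨Z, rfl⟩ Y g
    rw [pullback_generate_singleton]
    exact (Presieve.isSheafFor_iff_generate _).1 ((singleton_isSheafFor_iff _).2 (h Y g) Z)

lemma mem_iff_locallySurjective (J : GrothendieckTopology C) {X B : C} (π : X ⟶ B) :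
    Sieve.generate (Presieve.singleton π) ∈ J B ↔ Presheaf.IsLocallySurjective J (yoneda.map π) := by
  have key : ∀ {U : C} (s : U ⟶ B), Presheaf.imageSieve (yoneda.map π) s =
      (Sieve.generate (Presieve.singleton π)).pullback s := by
    intro U s
    ext W k
    constructor
    · rintro ⟨t, ht⟩
      exact ⟨_, t, π, Presieve.singleton_self _, ht⟩
    · rintro ⟨_, a, _, ⟨⟩, e⟩
      exact ⟨a, e⟩
  refine ⟨fun h => ⟨fun {U} s => ?_⟩, fun h => ?_⟩
  · rw [key]; exact J.pullback_stable s h
  · have := Presheaf.imageSieve_mem J (yoneda.map π) (U := op B) (𝟙 B)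
    rwa [key, Sieve.pullback_id] at this

/-- Let `C` be a small category with pullbacks, `p₁ p₂ : R ⇉ X` an equivalence relation in `C` admitting
a coequalizer cofork `c`, and `ε` the canonical functor to sheaves of sets for the canonical
topology of `C`. Then the equivalence relation is effective and universal (`R` is the kernel pair of
the quotient map, which is a coequalizer all of whose base changes are effective epimorphisms) if
and only if `ε` takes `c` to a coequalizer of `ε p₁, ε p₂`. (For a small category every topology has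
a small topologically generating family, so both implications of the published statement apply. The
published statement asks only that the quotient map have all base changes; this row assumes that `C`
has all pullbacks.) -/
theorem result
    {C : Type u} [SmallCategory C] [HasPullbacks C] {R X : C} (p₁ p₂ : R ⟶ X)
    (hR : SGA4.IsEquivRel p₁ p₂) (c : Cofork p₁ p₂) (hc : IsColimit c) :
    SGA4.IsEffectiveUniversalEquivRel p₁ p₂ ↔
      Nonempty (IsColimit ((yoneda ⋙ presheafToSheaf (Sheaf.canonicalTopology C) (Type u)).mapCocone c)) := by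
  let K := Sheaf.canonicalTopology C
  let ε := yoneda ⋙ presheafToSheaf K (Type u)
  have hε : ∀ (B : C) (π : X ⟶ B), Epi (ε.map π) ↔
      ∀ (B' : C) (g : B' ⟶ B), EffectiveEpi (pullback.snd π g) := by
    intro B π
    rw [← mem_canonical_iff, mem_iff_locallySurjective, ← Sheaf.isLocallySurjective_iff_epi]
    exact Presheaf.isLocallySurjective_presheafToSheaf_map_iff K (yoneda.map π)
  haveI : ∀ {A B W : C} (f : A ⟶ W) (g : B ⟶ W), PreservesLimit (cospan f g) ε :=
    fun f g => inferInstanceAs (PreservesLimit (cospan f g) (yoneda ⋙ presheafToSheaf K (Type u)))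
  constructor
  · rintro ⟨B, π, hpb, hpo, hst⟩
    let e : c.pt ⟶ B := hc.desc (Cofork.ofπ π hpb.w)
    haveI : IsIso e := by
      refine ⟨hpo.desc c.π c.π c.condition, ?_, ?_⟩
      · refine Cofork.IsColimit.hom_ext hc ?_
        rw [← Category.assoc, Cofork.IsColimit.π_desc hc, Category.comp_id]
        exact hpo.inl_desc _ _ _
      · refine hpo.hom_ext ?_ ?_ <;>
          rw [← Category.assoc] <;>
          simp [e, Cofork.IsColimit.π_desc hc]
    haveI : Epi (ε.map π) := (hε B π).2 hst
    haveI : IsRegularEpi (ε.map π) := IsRegularEpiCategory.regularEpiOfEpi _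
    have h := isColimitCoforkOfEffectiveEpi (ε.map π) _ (hpb.map ε).isLimit
    refine ⟨(isColimitMapCoconeCoforkEquiv ε c.condition).symm ?_ |>.ofIsoColimit
      ((Cocone.functoriality _ ε).mapIso (Cofork.ext (Iso.refl _) : Cofork.ofπ c.π c.condition ≅ c))⟩
    refine h.ofIsoColimit (Cofork.ext (ε.mapIso (asIso e)).symm ?_)
    change ε.map π ≫ (ε.mapIso (asIso e)).inv = ε.map c.π
    rw [Iso.comp_inv_eq, Functor.mapIso_hom, ← ε.map_comp]
    refine congrArg ε.map ?_
    symm
    exact Cofork.IsColimit.π_desc hc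
  · rintro ⟨h⟩
    let hc' := isColimitMapCoconeCoforkEquiv ε c.condition (h.ofIsoColimit
      ((Cocone.functoriality _ ε).mapIso (Cofork.ext (Iso.refl _) : c ≅ Cofork.ofπ c.π c.condition)))
    haveI : Epi (ε.map c.π) := ⟨fun a b e => Cofork.IsColimit.hom_ext hc' e⟩
    obtain ⟨δ, hδ₁, hδ₂⟩ := (hR X).2.refl (𝟙 X)
    have hpo : IsPushout p₁ p₂ c.π c.π := by
      refine ⟨⟨c.condition⟩, ⟨PushoutCocone.IsColimit.mk c.condition
        (fun s => hc.desc (Cofork.ofπ s.inl (by
          have : s.inl = s.inr := by
            simpa [reassoc_of% hδ₁, reassoc_of% hδ₂] using congrArg (δ ≫ ·) s.condition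
          exact s.condition.trans (by rw [this]))))
        (fun s => Cofork.IsColimit.π_desc hc)
        (fun s => ?_) (fun s m h₁ _ => Cofork.IsColimit.hom_ext hc ?_)⟩⟩
      · refine (Cofork.IsColimit.π_desc hc).trans ?_
        simpa [reassoc_of% hδ₁, reassoc_of% hδ₂] using congrArg (δ ≫ ·) s.condition
      · refine h₁.trans ?_
        symm
        exact Cofork.IsColimit.π_desc hc
    refine ⟨c.pt, c.π, ?_, hpo, (hε _ _).1 inferInstance⟩
    have hy : SGA4.IsEquivRel (yoneda.map p₁) (yoneda.map p₂) := by
      intro T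
      refine ⟨fun f g e => NatTrans.ext (funext fun W => ConcreteCategory.hom_ext _ _ fun t => ?_),
        fun a => ⟨a ≫ yoneda.map δ, by rw [Category.assoc, ← yoneda.map_comp, hδ₁, yoneda.map_id, Category.comp_id],
          by rw [Category.assoc, ← yoneda.map_comp, hδ₂, yoneda.map_id, Category.comp_id]⟩, ?_, ?_⟩
      · exact (hR W.unop).1 (Prod.ext (ConcreteCategory.congr_hom (congrArg (fun φ => NatTrans.app φ W) (congrArg Prod.fst e)) t)
          (ConcreteCategory.congr_hom (congrArg (fun φ => NatTrans.app φ W) (congrArg Prod.snd e)) t))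
      · obtain ⟨s, hs₁, hs₂⟩ := (hR R).2.symm ⟨𝟙 R, Category.id_comp p₁, Category.id_comp p₂⟩
        rintro a b ⟨f, rfl, rfl⟩
        exact ⟨f ≫ yoneda.map s, by rw [Category.assoc, ← yoneda.map_comp, hs₁],
          by rw [Category.assoc, ← yoneda.map_comp, hs₂]⟩
      · obtain ⟨t, ht₁, ht₂⟩ := (hR (pullback p₂ p₁)).2.trans
          ⟨pullback.fst p₂ p₁, rfl, rfl⟩ ⟨pullback.snd p₂ p₁, pullback.condition.symm, rfl⟩
        rintro a b d ⟨f, rfl, rfl⟩ ⟨g, hg, rfl⟩
        have hP := (IsPullback.of_hasPullback p₂ p₁).map yoneda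
        refine ⟨hP.lift f g hg.symm ≫ yoneda.map t, ?_, ?_⟩
        · rw [Category.assoc, ← yoneda.map_comp, ht₁, yoneda.map_comp, hP.lift_fst_assoc]
        · rw [Category.assoc, ← yoneda.map_comp, ht₂, yoneda.map_comp, hP.lift_snd_assoc]
    have hr : SGA4.IsEquivRel (ε.map p₁) (ε.map p₂) :=
      Groth.Agent.Giraud16.isEquivRel_map (J := fun _ : PUnit.{1} => K)
        (fun _ => presheafToSheaf K (Type u)) hy PUnit.unit
    obtain ⟨B₀, π₀, hpb₀, hpo₀, -⟩ := (Groth.Agent.S3081.result K).2 _ _ _ _ hr
    have hw : ε.map p₁ ≫ ε.map c.π = ε.map p₂ ≫ ε.map c.π := by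
      rw [← ε.map_comp, ← ε.map_comp, c.condition]
    haveI : IsIso (hpo₀.desc (ε.map c.π) (ε.map c.π) hw) := by
      refine ⟨hc'.desc (Cofork.ofπ π₀ hpo₀.w), hpo₀.hom_ext ?_ ?_, Cofork.IsColimit.hom_ext hc' ?_⟩
      · rw [hpo₀.inl_desc_assoc, Category.comp_id]; exact Cofork.IsColimit.π_desc hc'
      · rw [hpo₀.inr_desc_assoc, Category.comp_id]; exact Cofork.IsColimit.π_desc hc'
      · rw [← Category.assoc, Cofork.IsColimit.π_desc hc']
        exact (hpo₀.inl_desc _ _ _).trans (Category.comp_id _).symm
    have hpb : IsPullback (ε.map p₁) (ε.map p₂) (ε.map c.π) (ε.map c.π) :=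
      hpb₀.of_iso (Iso.refl _) (Iso.refl _) (Iso.refl _) (asIso (hpo₀.desc (ε.map c.π) (ε.map c.π) hw))
        (by simp) (by simp) (by simp) (by simp)
    let q : R ⟶ pullback c.π c.π := pullback.lift p₁ p₂ c.condition
    haveI : IsIso (ε.map q) := by
      have hk := (IsPullback.of_hasPullback c.π c.π).map ε
      have e : ε.map q = (hpb.isoIsPullback _ _ hk).hom := hk.hom_ext
        (by rw [← ε.map_comp, pullback.lift_fst, IsPullback.isoIsPullback_hom_fst])
        (by rw [← ε.map_comp, pullback.lift_snd, IsPullback.isoIsPullback_hom_snd])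
      rw [e]; infer_instance
    haveI : IsIso q := by
      let i : ε ≅ K.yoneda := NatIso.ofComponents
        (fun A => asIso ((sheafificationAdjunction K (Type u)).counit.app (K.yoneda.obj A)))
        (fun f => (sheafificationAdjunction K (Type u)).counit.naturality (K.yoneda.map f))
      haveI : IsIso (K.yoneda.map q) := (NatIso.isIso_map_iff i q).1 inferInstance
      exact isIso_of_fully_faithful K.yoneda q
    exact IsPullback.of_iso_pullback ⟨c.condition⟩ (asIso q) (pullback.lift_fst _ _ _) (pullback.lift_snd _ _ _)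

end Groth.Agent.S6140
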