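import Mathlib.CategoryTheory.Sites.Pullback
import Mathlib.CategoryTheory.Sites.CoverLifting
import Mathlib.CategoryTheory.Sites.LeftExact
import Mathlib.CategoryTheory.Sites.CoverLifting
import Mathlib.CategoryTheory.Adjunction.Triple
import Mathlib.CategoryTheory.Sites.Pullback

set_option autoImplicit false
namespace CategoryTheory
end CategoryTheory
open CategoryTheory
universe u
namespace SGA4
end SGA4
open SGA4

namespace Groth.Agent.S6141

/-- Let `u : C ⥤ C'` be a functor between small sites which is continuous and cocontinuous. If `u` is
full and faithful, then the left adjoint `u_!` of the restriction functor `u^*` on sheaves of sets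
is full and faithful. -/
theorem result
    {C : Type u} [SmallCategory C] {C' : Type u} [SmallCategory C']
    (J : GrothendieckTopology C) (K : GrothendieckTopology C') (u : C ⥤ C')
    [u.IsContinuous J K] [u.IsCocontinuous J K] [u.Full] [u.Faithful] :
    (u.sheafPullback (Type u) J K).Full ∧ (u.sheafPullback (Type u) J K).Faithful := by
  let adj₂ := u.sheafAdjunctionCocontinuous (Type u) J K
  haveI : IsIso adj₂.counit := by
    haveI : ∀ F, IsIso (adj₂.counit.app F) := fun F => by
      haveI : IsIso ((sheafToPresheaf J (Type u)).map (adj₂.counit.app F)) := by
        show IsIso ((adj₂.counit.app F).hom)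
        rw [u.sheafAdjunctionCocontinuous_counit_app_hom]
        have hc : IsIso (u.op.ranCounit.app F.obj) := inferInstance
        rw [Functor.ranAdjunction_counit]
        exact hc
      exact isIso_of_reflects_iso _ (sheafToPresheaf J (Type u))
    exact NatIso.isIso_of_isIso_app _
  let t : Adjunction.Triple (u.sheafPullback (Type u) J K) (u.sheafPushforwardContinuous (Type u) J K)
      (u.sheafPushforwardCocontinuous (Type u) J K) :=
    ⟨u.sheafAdjunctionContinuous (Type u) J K, adj₂⟩
  have h := t.fullyFaithfulEquiv.symm adj₂.fullyFaithfulROfIsIsoCounit
  exact ⟨h.full, h.faithful⟩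

end Groth.Agent.S6141
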