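import Mathlib.CategoryTheory.Sites.Pullback
import Mathlib.CategoryTheory.Sites.CoverLifting
import Mathlib.CategoryTheory.Sites.LeftExact
import Mathlib.CategoryTheory.Sites.Canonical
import Mathlib.CategoryTheory.Sites.Subcanonical

set_option autoImplicit false
namespace CategoryTheory
end CategoryTheory
open CategoryTheory
universe u
namespace SGA4
end SGA4
open SGA4

namespace Groth.Agent.S6142

/-- Let `u : C ⥤ C'` be a continuous and cocontinuous functor between small sites whose topologies are
subcanonical. If the left adjoint `u_!` of the restriction functor `u^*` on sheaves of sets is full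
and faithful, then `u` is full and faithful. -/
theorem result
    {C : Type u} [SmallCategory C] {C' : Type u} [SmallCategory C']
    (J : GrothendieckTopology C) (K : GrothendieckTopology C') [J.Subcanonical] [K.Subcanonical]
    (u : C ⥤ C') [u.IsContinuous J K] [u.IsCocontinuous J K]
    (h : (u.sheafPullback (Type u) J K).Full ∧ (u.sheafPullback (Type u) J K).Faithful) :
    u.Full ∧ u.Faithful := by
  obtain ⟨hF, hf⟩ := h
  let P := u.sheafPullback (Type u) J K
  let R := u.sheafPushforwardContinuous (Type u) J K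
  let adj : P ⊣ R := u.sheafAdjunctionContinuous (Type u) J K
  haveI : P.Full := hF
  haveI : P.Faithful := hf
  have key : ∀ X Y : C, Function.Bijective (fun f : X ⟶ Y => u.map f) := by
    intro X Y
    let ψ : J.yoneda.obj Y ⟶ R.obj (K.yoneda.obj (u.obj Y)) := J.yonedaEquiv.symm (𝟙 (u.obj Y))
    let θ : P.obj (J.yoneda.obj Y) ⟶ K.yoneda.obj (u.obj Y) := (adj.homEquiv _ _).symm ψ
    have hθ : adj.unit.app _ ≫ R.map θ = ψ :=
      (adj.homEquiv_unit _ _ _).symm.trans ((adj.homEquiv _ _).apply_symm_apply ψ)
    have hcorep : ∀ (F : Sheaf K (Type u)) (φ : K.yoneda.obj (u.obj Y) ⟶ F),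
        J.yonedaEquiv (adj.homEquiv _ _ (θ ≫ φ)) = K.yonedaEquiv φ := by
      intro F φ
      rw [adj.homEquiv_naturality_right, Equiv.apply_symm_apply]
      change φ.hom.app _ (ψ.hom.app _ (𝟙 Y)) = φ.hom.app _ (𝟙 (u.obj Y))
      congr 1
      exact (J.yonedaEquiv (X := Y) (F := R.obj (K.yoneda.obj (u.obj Y)))).apply_symm_apply (𝟙 (u.obj Y))
    haveI hiso : IsIso θ := by
      refine CategoryTheory.isIso_of_coyoneda_map_bijective θ fun F => ?_
      have hb := (K.yonedaEquiv (X := u.obj Y) (F := F)).bijective
      have : (fun φ => J.yonedaEquiv (adj.homEquiv _ _ (θ ≫ φ))) = (K.yonedaEquiv (X := u.obj Y) (F := F) : _ → _) :=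
        funext (hcorep F)
      rw [← this] at hb
      exact (((adj.homEquiv _ F).trans J.yonedaEquiv).bijective.of_comp_iff' _).1 hb
    haveI hψ : IsIso ψ := by rw [← hθ]; infer_instance
    have hb : Function.Bijective (ψ.hom.app (Opposite.op X)) := by
      haveI : IsIso (ψ.hom.app (Opposite.op X)) :=
        inferInstanceAs (IsIso (((sheafToPresheaf J _).map ψ).app (Opposite.op X)))
      exact (isIso_iff_bijective _).1 inferInstance
    have : (fun f : X ⟶ Y => u.map f) = (ψ.hom.app (Opposite.op X) : _ → _) := by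
      funext f
      change u.map f = (((J.yonedaEquiv (X := Y) (F := R.obj (K.yoneda.obj (u.obj Y)))).symm (𝟙 (u.obj Y))).hom.app _ f)
      erw [J.yonedaEquiv_symm_app_apply]
      change u.map f = u.map f ≫ 𝟙 (u.obj Y)
      simp
    rw [this]; exact hb
  exact ⟨⟨fun {X Y} => (key X Y).2⟩, ⟨fun {X Y} => fun _ _ e => (key X Y).1 e⟩⟩

end Groth.Agent.S6142
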