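import Mathlib.CategoryTheory.Sites.Canonical
import Mathlib.CategoryTheory.Sites.Sheafification
import Mathlib.CategoryTheory.Sites.LeftExact
import Mathlib.CategoryTheory.Limits.Shapes.DisjointCoproduct
import Mathlib.CategoryTheory.Limits.VanKampen
import Mathlib.CategoryTheory.Limits.Shapes.Pullback.HasPullback
import Groth.Agent.SGA416.Coprod
import Groth.Agent.S6139
import Mathlib.CategoryTheory.Limits.Shapes.DisjointCoproduct
import Mathlib.CategoryTheory.Limits.VanKampen
import Mathlib.CategoryTheory.Sites.Canonical

set_option autoImplicit false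
namespace CategoryTheory
end CategoryTheory
namespace CategoryTheory.Limits
end CategoryTheory.Limits
open CategoryTheory CategoryTheory.Limits
universe u
namespace SGA4
end SGA4
open SGA4

namespace Groth.Agent.S6143

open CategoryTheory CategoryTheory.Limits Opposite in
lemma colimit_of_bijective {C : Type u} [Category.{u} C] {ι : Type u} {X : C} (Y : ι → C)
    (s : ∀ i, Y i ⟶ X) (h : ∀ Z : C, Function.Bijective (fun (m : X ⟶ Z) (i : ι) => s i ≫ m)) :
    Nonempty (IsColimit (Cofan.mk X s)) :=
  ⟨mkCofanColimit _ (fun c => ((h c.pt).2 fun i => c.inj i).choose)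
    (fun c i => congrFun ((h c.pt).2 fun i => c.inj i).choose_spec i)
    (fun c m hm => (h c.pt).1 (funext fun i => (hm i).trans
      (congrFun ((h c.pt).2 fun i => c.inj i).choose_spec i).symm))⟩

open CategoryTheory CategoryTheory.Limits in
lemma isColimit_of_disjoint_cover {C : Type u} [SmallCategory C] {ι : Type u} {X : C} (Y : ι → C)
    (s : ∀ i, Y i ⟶ X) (hcov : Sieve.ofArrows Y s ∈ Sheaf.canonicalTopology C X)
    (hmono : ∀ i, Mono (s i))
    (hdisj : ∀ i j, i ≠ j → ∀ {W : C} (a : W ⟶ Y i) (b : W ⟶ Y j), a ≫ s i = b ≫ s j →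
      (⊥ : Sieve W) ∈ Sheaf.canonicalTopology C W) :
    Nonempty (IsColimit (Cofan.mk X s)) := by
  refine colimit_of_bijective Y s fun Z => ?_
  exact Groth.Agent.SGA416.bijective_of_cover (Sheaf.canonicalTopology C) Y s hcov
    (fun i W a b hab G x => by haveI := hmono i; rw [(cancel_mono (s i)).1 hab])
    (fun i j hij W a b hab G => Groth.Agent.SGA416.subsingleton_of_bot _ (hdisj i j hij a b hab) G)
    ⟨yoneda.obj Z, (isSheaf_iff_isSheaf_of_type _ _).2 (Sheaf.isSheaf_yoneda_obj Z)⟩


/-- Let `C` be a small category, `X` an object and `s i : Y i ⟶ X` a family of morphisms all of whose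
base changes exist. Then the associated sheaf of `h_X` for the canonical topology, with the maps
induced by the `s i`, is a coproduct of the associated sheaves of the `h_{Y i}` (in sheaves of sets
for the canonical topology) if and only if `X` is a disjoint universal coproduct of the `Y i` in
`C`: the cofan `(X, s)` is a colimit, the injections of a coproduct of the family are monomorphisms
with pairwise pullbacks initial, and the colimit is stable under base change. (The source asks for
the coproduct decomposition after sheafification for some topology coarser than the canonical one;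
this is equivalent to asking it for the canonical topology itself.) -/
theorem result
    {C : Type u} [SmallCategory C] {X : C} {ι : Type u} (Y : ι → C) (s : ∀ i, Y i ⟶ X)
    [∀ (i : ι) (Z : C) (g : Z ⟶ X), HasPullback (s i) g] :
    Nonempty (IsColimit (Cofan.mk
        ((presheafToSheaf (Sheaf.canonicalTopology C) (Type u)).obj (yoneda.obj X))
        (fun i => (presheafToSheaf (Sheaf.canonicalTopology C) (Type u)).map (yoneda.map (s i))))) ↔
      (Nonempty (IsColimit (Cofan.mk X s)) ∧ CoproductDisjoint Y ∧
        IsUniversalColimit (Cofan.mk X s)) := by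
  let K := Sheaf.canonicalTopology C
  rw [Groth.Agent.SGA416.isColimit_shCofan_iff K Y s]
  constructor
  · intro h
    have hcov := Groth.Agent.SGA416.mem_of_bijective K Y s h
    have hc : Nonempty (IsColimit (Cofan.mk X s)) := colimit_of_bijective Y s fun Z =>
      h ⟨yoneda.obj Z, (isSheaf_iff_isSheaf_of_type _ _).2 (Sheaf.isSheaf_yoneda_obj Z)⟩
    haveI : K.Subcanonical := inferInstance
    have hmono : ∀ i, Mono (s i) := fun i => by
      haveI := Groth.Agent.SGA416.isIso_diagonal K Y s h i
      refine ⟨fun {W} a b hab => ?_⟩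
      let G : Sheaf K (Type u) := ⟨yoneda.obj (Y i), (isSheaf_iff_isSheaf_of_type _ _).2 (Sheaf.isSheaf_yoneda_obj (Y i))⟩
      have key : pullback.fst (yoneda.map (s i)) (yoneda.map (s i)) =
          pullback.snd (yoneda.map (s i)) (yoneda.map (s i)) := by
        apply (((sheafificationAdjunction K (Type u)).homEquiv _ G).symm).injective
        rw [← cancel_epi ((presheafToSheaf K (Type u)).map (pullback.diagonal (yoneda.map (s i)))),
          ← (sheafificationAdjunction K (Type u)).homEquiv_naturality_left_symm,
          ← (sheafificationAdjunction K (Type u)).homEquiv_naturality_left_symm,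
          pullback.diagonal_fst, pullback.diagonal_snd]
      apply yoneda.map_injective
      rw [← pullback.lift_fst (yoneda.map a) (yoneda.map b)
        (by rw [← yoneda.map_comp, ← yoneda.map_comp, hab] : yoneda.map a ≫ yoneda.map (s i) = _),
        key, pullback.lift_snd]
    have hbot : ∀ i j, i ≠ j → ∀ {W : C} (a : W ⟶ Y i) (b : W ⟶ Y j), a ≫ s i = b ≫ s j →
        (⊥ : Sieve W) ∈ K W := by
      intro i j hij W a b hab
      obtain ⟨hI⟩ := Groth.Agent.SGA416.isInitial_pullback K Y s h hij
      let p : yoneda.obj W ⟶ pullback (yoneda.map (s i)) (yoneda.map (s j)) :=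
        pullback.lift (yoneda.map a) (yoneda.map b) (by rw [← yoneda.map_comp, ← yoneda.map_comp, hab])
      let E₀ : Cᵒᵖ ⥤ Type u := (Functor.const _).obj PEmpty
      let t : yoneda.obj W ⟶ ((presheafToSheaf K (Type u)).obj E₀).obj :=
        (sheafificationAdjunction K (Type u)).homEquiv _ _
          ((presheafToSheaf K (Type u)).map p ≫ hI.to _)
      refine K.superset_covering ?_
        (Presheaf.imageSieve_mem K (toSheafify K E₀) (t.app (Opposite.op W) (𝟙 W)))
      rintro V f ⟨e, -⟩
      exact PEmpty.elim e
    obtain ⟨hc⟩ := hc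
    refine ⟨⟨hc⟩, ?_, ?_⟩
    · haveI : ∀ i, Mono ((Cofan.mk X s).inj i) := hmono
      exact CoproductDisjoint.of_cofan hc (fun {i j} _ => PullbackCone.mk (pullback.fst (s i) (s j)) (pullback.snd (s i) (s j)) pullback.condition)
        (fun {i j} _ => pullbackIsPullback (s i) (s j))
        (fun {i j} hij => ((Groth.Agent.S6139.result _).1
          (hbot i j hij (pullback.fst (s i) (s j)) (pullback.snd _ _) pullback.condition)).1.some)
    · intro F' c' α f hw _ hpb
      let t : ∀ i, F'.obj ⟨i⟩ ⟶ c'.pt := fun i => c'.ι.app ⟨i⟩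
      let a : ∀ i, F'.obj ⟨i⟩ ⟶ Y i := fun i => α.app ⟨i⟩
      have hp : ∀ i, IsPullback (t i) (a i) f (s i) := fun i => hpb ⟨i⟩
      have hcov' : Sieve.ofArrows (fun i => F'.obj ⟨i⟩) t ∈ K c'.pt := by
        refine K.superset_covering ?_ (K.pullback_stable f hcov)
        rintro W g ⟨_, e, _, ⟨i⟩, he⟩
        exact ⟨_, (hp i).lift g e he.symm, _, ⟨i⟩, (hp i).lift_fst g e he.symm⟩
      obtain ⟨hc'⟩ := isColimit_of_disjoint_cover (fun i => F'.obj ⟨i⟩) t hcov'
        (fun i => ⟨fun {W} x y hxy => by
          haveI := hmono i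
          refine (hp i).hom_ext hxy ((cancel_mono (s i)).1 ?_)
          rw [Category.assoc, ← (hp i).w, Category.assoc, ← (hp i).w, ← Category.assoc, hxy,
            Category.assoc]⟩)
        (fun i j hij W x y hxy => hbot i j hij (x ≫ a i) (y ≫ a j) (by
          rw [Category.assoc, ← (hp i).w, Category.assoc, ← (hp j).w, ← Category.assoc, hxy,
            Category.assoc]))
      exact ⟨IsColimit.ofIsoColimit ((IsColimit.precomposeHomEquiv Discrete.natIsoFunctor _).symm hc')
        (Cocone.ext (Iso.refl _) fun ⟨i⟩ => by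
          simp [t, Discrete.natIsoFunctor])⟩
  · rintro ⟨⟨hc⟩, hd, hu⟩
    have hmono : ∀ i, Mono (s i) := fun i => hd.mono_inj hc i
    have hcol : ∀ {W : C} (g : W ⟶ X), Nonempty (IsColimit
        (Cofan.mk W fun i => pullback.snd (s i) g)) := fun {W} g =>
      hu (Cofan.mk W fun i => pullback.snd (s i) g) (Discrete.natTrans fun i => pullback.fst (s i.as) g)
        g (by ext i; exact pullback.condition) (NatTrans.equifibered_of_discrete _)
        (fun i => (IsPullback.of_hasPullback (s i.as) g).flip)
    have hcov : Sieve.ofArrows Y s ∈ K X := by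
      refine Sheaf.mem_finestTopology_of_forall_isSheafFor ?_
      rintro _ ⟨Z, rfl⟩ W g
      obtain ⟨hW⟩ := hcol g
      have e : (Sieve.ofArrows Y s).pullback g =
          Sieve.ofArrows (fun i => pullback (s i) g) (fun i => pullback.snd (s i) g) := by
        ext V k
        constructor
        · rintro ⟨_, p, _, ⟨i⟩, hi⟩
          exact ⟨_, pullback.lift p k hi, _, ⟨i⟩, pullback.lift_snd _ _ _⟩
        · rintro ⟨_, p, _, ⟨i⟩, rfl⟩
          exact ⟨_, p ≫ pullback.fst (s i) g, _, ⟨i⟩, by
            rw [Category.assoc, pullback.condition, Category.assoc]⟩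
      rw [e]
      refine (Presieve.isSheafFor_iff_generate _).1 ?_
      rw [Presieve.isSheafFor_arrows_iff]
      intro x _
      exact ⟨Cofan.IsColimit.desc hW x, fun i => Cofan.IsColimit.fac hW x i,
        fun m hm => Cofan.IsColimit.hom_ext hW _ _ fun i =>
          (hm i).trans (Cofan.IsColimit.fac hW x i).symm⟩
    intro G
    refine Groth.Agent.SGA416.bijective_of_cover K Y s hcov
      (fun i W a b hab G x => by haveI := hmono i; rw [(cancel_mono (s i)).1 hab])
      (fun i j hij W a b hab G => ?_) G
    refine Groth.Agent.SGA416.subsingleton_of_bot K ?_ G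
    obtain ⟨hP⟩ := hd.nonempty_isInitial_of_ne hc hij _ (pullbackIsPullback (s i) (s j))
    let g := a ≫ s i
    obtain ⟨hW⟩ := hcol g
    haveI := hmono i
    haveI := hmono j
    have hiso : ∀ (k : ι) [Mono (s k)] (c : W ⟶ Y k), c ≫ s k = g → IsIso (pullback.snd (s k) g) :=
      fun k _ c hck => by
        refine ⟨pullback.lift c (𝟙 W) (hck.trans (Category.id_comp g).symm), ?_, pullback.lift_snd _ _ _⟩
        rw [← cancel_mono (pullback.snd (s k) g), Category.assoc, pullback.lift_snd, Category.comp_id,
          Category.id_comp]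
    haveI := hiso i a rfl
    haveI := hiso j b hab.symm
    have uniq : ∀ {T : C} (φ ψ : W ⟶ T), φ = ψ := fun {T} φ ψ => by
      classical
      let fam : ∀ k, pullback (s k) g ⟶ T := fun k =>
        pullback.snd (s k) g ≫ (if k = j then ψ else φ)
      let χ := Cofan.IsColimit.desc hW fam
      have e1 : pullback.snd (s i) g ≫ χ = pullback.snd (s i) g ≫ φ := by
        rw [show pullback.snd (s i) g ≫ χ = fam i from Cofan.IsColimit.fac hW fam i]
        simp only [fam, if_neg hij]
      have e2 : pullback.snd (s j) g ≫ χ = pullback.snd (s j) g ≫ ψ := by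
        rw [show pullback.snd (s j) g ≫ χ = fam j from Cofan.IsColimit.fac hW fam j]
        simp only [fam, if_true]
      rw [cancel_epi] at e1 e2
      rw [← e1, e2]
    have hWI : IsInitial W :=
      IsInitial.ofUniqueHom (fun T => pullback.lift a b hab ≫ hP.to T) fun T m => uniq _ _
    refine Sheaf.mem_finestTopology_of_forall_isSheafFor ?_
    rintro _ ⟨Z, rfl⟩ V f
    intro x _
    refine ⟨f ≫ hWI.to Z, fun _ _ hf => hf.elim, fun t _ => ?_⟩
    let gV := f ≫ g
    obtain ⟨hV⟩ := hcol gV
    have hisoV : ∀ (k : ι) [Mono (s k)] (c : V ⟶ Y k), c ≫ s k = gV → IsIso (pullback.snd (s k) gV) :=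
      fun k _ c hck => by
        refine ⟨pullback.lift c (𝟙 V) (hck.trans (Category.id_comp gV).symm), ?_, pullback.lift_snd _ _ _⟩
        rw [← cancel_mono (pullback.snd (s k) gV), Category.assoc, pullback.lift_snd, Category.comp_id,
          Category.id_comp]
    haveI := hisoV i (f ≫ a) (Category.assoc _ _ _)
    haveI := hisoV j (f ≫ b) ((Category.assoc _ _ _).trans (congrArg (f ≫ ·) hab.symm))
    classical
    let fam : ∀ k, pullback (s k) gV ⟶ Z := fun k =>
      pullback.snd (s k) gV ≫ (if k = j then t else f ≫ hWI.to Z)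
    let χ := Cofan.IsColimit.desc hV fam
    have e1 : pullback.snd (s i) gV ≫ χ = pullback.snd (s i) gV ≫ f ≫ hWI.to Z := by
      rw [show pullback.snd (s i) gV ≫ χ = fam i from Cofan.IsColimit.fac hV fam i]
      simp only [fam, if_neg hij]
    have e2 : pullback.snd (s j) gV ≫ χ = pullback.snd (s j) gV ≫ t := by
      rw [show pullback.snd (s j) gV ≫ χ = fam j from Cofan.IsColimit.fac hV fam j]
      simp only [fam, if_true]
    rw [cancel_epi] at e1 e2
    exact e2.symm.trans e1

end Groth.Agent.S6143
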