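import Mathlib.CategoryTheory.Generator.Basic
import Mathlib.Logic.Small.Set
import Mathlib.CategoryTheory.Limits.Shapes.Pullback.HasPullback
import Mathlib.Logic.Small.Basic
import Mathlib.CategoryTheory.Generator.Basic
import Mathlib.Logic.Small.Set
import Mathlib.CategoryTheory.Limits.Constructions.EpiMono

set_option autoImplicit false
namespace CategoryTheory
end CategoryTheory
namespace CategoryTheory.Limits
end CategoryTheory.Limits
open CategoryTheory CategoryTheory.Limits
universe w v u
namespace SGA4
end SGA4
open SGA4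

namespace Groth.Agent.S6144

/-- Let `E` be a category with `v`-small hom-sets and pullbacks, admitting a detecting family of objects
indexed by a `v`-small type (maps out of the family jointly reflect isomorphisms). Then every
detecting family `Y : I → E`, indexed by an arbitrary type, contains a detecting subfamily indexed
by a `v`-small subset of `I`. -/
theorem result
    {E : Type u} [Category.{v} E] [HasPullbacks E] {κ : Type v} (G : κ → E)
    (hG : (ObjectProperty.ofObj G).IsDetecting) {I : Type w} (Y : I → E)
    (hY : (ObjectProperty.ofObj Y).IsDetecting) :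
    ∃ J : Set I, Small.{v} J ∧ (ObjectProperty.ofObj (fun j : J => Y j)).IsDetecting := by
  haveI : WellPowered.{v} E := wellPowered_of_isDetecting hG
  have hproper : ∀ (k : κ) (P : Subobject (G k)), P ≠ ⊤ →
      ∃ (j : I) (f : Y j ⟶ G k), ¬ P.Factors f := by
    intro k P hP
    by_contra hh
    push_neg at hh
    refine hP (Subobject.eq_of_isDetecting hY P ⊤ fun A hA f => ⟨fun _ => Subobject.top_factors f, fun _ => ?_⟩)
    rcases hA with ⟨j⟩
    exact hh j f
  classical
  choose jj ff hff using hproper
  let J : Set I := Set.range fun q : Σ k : κ, {P : Subobject (G k) // P ≠ ⊤} => jj q.1 q.2.1 q.2.2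
  refine ⟨J, small_range _, ?_⟩
  have hmono : ∀ ⦃A B : E⦄ (u : A ⟶ B) [Mono u],
      (∀ j : J, ∀ h : Y j ⟶ B, ∃ h', h' ≫ u = h) → IsIso u := by
    intro A B u _ hu
    refine hG u ?_
    intro _ hA g
    rcases hA with ⟨k⟩
    suffices ∃ g', g' ≫ u = g from
      this.elim fun g' hg' => ⟨g', hg', fun y hy => (cancel_mono u).1 (hy.trans hg'.symm)⟩
    let P := Subobject.mk (pullback.fst g u)
    by_cases hP : P = ⊤
    · haveI : IsIso (pullback.fst g u) := (Subobject.isIso_iff_mk_eq_top _).2 hP
      exact ⟨inv (pullback.fst g u) ≫ pullback.snd g u, by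
        rw [Category.assoc, ← pullback.condition, IsIso.inv_hom_id_assoc]⟩
    · obtain ⟨h', hh'⟩ := hu ⟨jj k P hP, ⟨k, P, hP⟩, rfl⟩ (ff k P hP ≫ g)
      exact (hff k P hP ((Subobject.mk_factors_iff (pullback.fst g u) _).2
        ⟨pullback.lift (ff k P hP) h' hh'.symm, pullback.lift_fst _ _ _⟩)).elim
  intro A B f hf
  let d : A ⟶ pullback f f := pullback.lift (𝟙 A) (𝟙 A) rfl
  haveI : Mono d := mono_of_mono_fac (pullback.lift_fst _ _ _ : d ≫ pullback.fst f f = 𝟙 A)
  haveI : IsIso d := hmono d fun j h => by
    have he : h ≫ pullback.fst f f = h ≫ pullback.snd f f :=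
      (hf (Y j) ⟨j⟩ (h ≫ pullback.fst f f ≫ f)).unique (Category.assoc _ _ _)
        (by rw [Category.assoc, pullback.condition])
    refine ⟨h ≫ pullback.fst f f, pullback.hom_ext ?_ ?_⟩
    · rw [Category.assoc, pullback.lift_fst, Category.comp_id]
    · rw [Category.assoc, pullback.lift_snd, Category.comp_id, he]
  have he : pullback.fst f f = pullback.snd f f := by
    rw [← cancel_epi d, pullback.lift_fst, pullback.lift_snd]
  haveI : Mono f := ⟨fun a b hab => by
    rw [← pullback.lift_fst a b hab, he, pullback.lift_snd]⟩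
  exact hmono f fun j h => (hf (Y j) ⟨j⟩ h).exists

end Groth.Agent.S6144
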