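import Groth.Prelude.Def_ModSite
import Groth.Agent.SiteHom16.Basic
import Groth.Agent.DerCompLib.SiteFree

set_option autoImplicit false
universe u
namespace CategoryTheory
end CategoryTheory
open CategoryTheory
namespace ModSite
end ModSite
open ModSite

namespace Groth.Agent.S6152

theorem isSeparating_freeOn {C : Type u} [SmallCategory C] {J : GrothendieckTopology C}
    (O : Sheaf J CommRingCat.{u}) (G : Set C)
    (hG : ∀ X : C, ∃ (ι : Type u) (Y : ι → C) (f : ∀ i, Y i ⟶ X), Sieve.ofArrows Y f ∈ J X ∧ ∀ i, Y i ∈ G) :
    (ObjectProperty.ofObj fun X : G => ModSite.freeOn O (X : C)).IsSeparating := by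
  intro M N a b h
  apply SheafOfModules.hom_ext
  apply PresheafOfModules.hom_ext
  intro V
  refine ModuleCat.hom_ext (LinearMap.ext fun (x : DerCompLib.Sec M V.unop) => ?_)
  obtain ⟨ι, Ys, f, hcov, hY⟩ := hG V.unop
  refine DerCompLib.sec_ext N _ hcov _ _ fun W g hg => ?_
  obtain ⟨Z, k, f', ⟨i⟩, rfl⟩ := hg
  have hk : DerCompLib.secMap a (Ys i) (DerCompLib.secRes M (f i) x) =
      DerCompLib.secMap b (Ys i) (DerCompLib.secRes M (f i) x) := by
    obtain ⟨φ, hφ⟩ := (DerCompLib.secEquiv (Ys i) M).surjective (DerCompLib.secRes M (f i) x)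
    rw [← hφ, ← DerCompLib.secEquiv_comp, ← DerCompLib.secEquiv_comp,
      h _ (ObjectProperty.ofObj_apply _ (⟨Ys i, hY i⟩ : G)) φ]
  rw [DerCompLib.secMap_secRes, DerCompLib.secMap_secRes] at hk
  exact (DerCompLib.secRes_comp N k (f i) _).symm.trans
    ((congrArg (DerCompLib.secRes N k) hk).trans (DerCompLib.secRes_comp N k (f i) _))

/-- Second assertion (ringed topos of sheaves on a small site (C, J) with commutative structure sheaf
O): if G is a topologically generating family of objects (every object of C admits a covering family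
by members of G), then the free O-modules A_X = j_{X!}(O|X), X in G, form a generating family of the
category of O-modules; stated as: this family detects isomorphisms and is separating. -/
theorem result {C : Type u} [SmallCategory C] {J : GrothendieckTopology C}
    (O : Sheaf J CommRingCat.{u}) (G : Set C)
    (hG : ∀ X : C, ∃ (ι : Type u) (Y : ι → C) (f : ∀ i, Y i ⟶ X), Sieve.ofArrows Y f ∈ J X ∧ ∀ i, Y i ∈ G) :
    (ObjectProperty.ofObj fun X : G => ModSite.freeOn O (X : C)).IsDetecting ∧
    (ObjectProperty.ofObj fun X : G => ModSite.freeOn O (X : C)).IsSeparating := by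
  exact ⟨(isSeparating_freeOn O G hG).isDetecting, isSeparating_freeOn O G hG⟩

end Groth.Agent.S6152
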