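import Groth.Prelude.Def_ModSite
import Groth.Agent.SiteHom16.Basic

set_option autoImplicit false
universe u
namespace CategoryTheory
end CategoryTheory
open CategoryTheory
namespace ModSite
end ModSite
open ModSite

namespace Groth.Agent.S6153

/-- An isomorphism from a natural bijection of maps out of two objects. -/
theorem nonempty_iso_of_natural {A : Type*} [Category A] {X Y : A}
    (α : ∀ N, (X ⟶ N) ≃ (Y ⟶ N)) (h : ∀ {N N'} (φ : X ⟶ N) (g : N ⟶ N'), α N' (φ ≫ g) = α N φ ≫ g) :
    Nonempty (X ≅ Y) :=
  ⟨{ hom := (α Y).symm (𝟙 Y)
     inv := α X (𝟙 X)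
     hom_inv_id := (α X).injective (by rw [h, Equiv.apply_symm_apply, Category.id_comp])
     inv_hom_id := by rw [← h, Category.id_comp, Equiv.apply_symm_apply] }⟩

/-- Morphisms of ringed sites between small sites with commutative structure sheaves: for a morphism of
ringed sites f : (C, O_C) -> (D, O_D) given by a functor u : D -> C and every object X of D, the
inverse image f^*(A'_X) of the free O_D-module on X is isomorphic to the free O_C-module A_{u(X)} on
u(X). Existence of an isomorphism of modules only (the source's isomorphism is the canonical one). -/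
theorem result {C D : Type u} [SmallCategory C] [SmallCategory D] {J : GrothendieckTopology C}
    {K : GrothendieckTopology D} {O_C : Sheaf J CommRingCat.{u}} {O_D : Sheaf K CommRingCat.{u}}
    (f : ModSite.RMor O_C O_D) (X : D) :
    Nonempty (f.pull.obj (ModSite.freeOn O_D X) ≅ ModSite.freeOn O_C (f.fn.obj X)) := by
  refine nonempty_iso_of_natural (fun N => ((f.adj.homEquiv _ N).trans
    (DerCompLib.secEquiv X (f.push.obj N)).toEquiv).trans
      (DerCompLib.secEquiv (f.fn.obj X) N).symm.toEquiv) fun φ g => ?_
  apply (DerCompLib.secEquiv (f.fn.obj X) _).injective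
  simp only [Equiv.trans_apply, AddEquiv.toEquiv_eq_coe, AddEquiv.coe_toEquiv,
    DerCompLib.secEquiv_comp]
  rw [Adjunction.homEquiv_naturality_right, DerCompLib.secEquiv_comp]
  refine (AddEquiv.apply_symm_apply _ _).trans ?_
  refine Eq.trans ?_ (congrArg (DerCompLib.secMap g (f.fn.obj X)) (AddEquiv.apply_symm_apply _ _)).symm
  rfl

end Groth.Agent.S6153
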