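import Groth.Statements.S6155
import Groth.Agent.SiteTen.Proj

set_option autoImplicit false
universe u
open CategoryTheory
open ModSite

namespace Groth.Agent.S6155

open Groth.Agent

/-- Ringed topos of sheaves on a small site with commutative structure sheaf O; A_X the free O-module on
an object X: A_X (x)_O M is isomorphic to j_{X!} j_X^* M. Existence of an isomorphism only (the
source's is the canonical one). -/
theorem result {C : Type u} [SmallCategory C] {J : GrothendieckTopology C}
    (O : Sheaf J CommRingCat.{u}) (X : C) (M : ModSite.Mod O) :
    Nonempty (((ModSite.tensorBi O).obj (ModSite.freeOn O X)).obj M ≅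
      (ModSite.extZero O X).obj ((ModSite.restr O X).obj M)) := by
  exact ⟨(SiteTen.tenFreeOnIso X).app M⟩

end Groth.Agent.S6155
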