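import Groth.Prelude.Def_SGA4a
import Mathlib.CategoryTheory.Sites.Continuous
import Groth.Agent.CanonTopos16.Limits
import Mathlib.CategoryTheory.Limits.Preserves.Opposites

set_option autoImplicit false
universe u
namespace CategoryTheory
end CategoryTheory
open CategoryTheory
namespace SGA4
end SGA4
open SGA4

namespace Groth.Agent.S6159

open CategoryTheory.Limits in
/-- Sheaf topoi on small sites (C, J), (D, K), each with its canonical topology: a functor f from
sheaves of sets on C to sheaves of sets on D commutes with all u-small colimits if and only if it is
continuous, i.e. composition with f carries every sheaf of sets for the canonical topology of the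
target to a sheaf for the canonical topology of the source. (Continuity is Mathlib's
`Functor.IsContinuous`: on these large sites it tests sheaves with values in the next universe,
`Type (u+1)`, which is the source's choice of a larger universe for the test sheaves; the hom
universe is u. The equivalence of both conditions with f being a left adjoint is a separate result,
not stated here.) -/
theorem result {C D : Type u} [SmallCategory C] [SmallCategory D]
    (J : GrothendieckTopology C) (K : GrothendieckTopology D) (f : Sheaf J (Type u) ⥤ Sheaf K (Type u)) :
    PreservesColimitsOfSize.{u, u} f ↔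
      f.IsContinuous.{u} (Sheaf.canonicalTopology (Sheaf J (Type u))) (Sheaf.canonicalTopology (Sheaf K (Type u))) := by
  constructor
  · intro hf
    refine ⟨fun G => (isSheaf_iff_isSheaf_of_type _ _).1 ?_⟩
    haveI : PreservesLimitsOfSize.{u, u} G.obj := (CanonTopos16.isSheaf_canonical_iff _).1 G.property
    haveI : PreservesLimitsOfSize.{u, u} f.op := preservesLimitsOfSize_op f
    haveI : PreservesLimitsOfSize.{u, u} (f.op ⋙ G.obj) := comp_preservesLimits _ _
    exact (CanonTopos16.isSheaf_canonical_iff _).2 inferInstance
  · intro hf
    haveI : PreservesLimitsOfSize.{u, u} f.op := by
      refine (CanonTopos16.isSheaf_canonical_iff f.op).1 fun e => ?_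
      have hG : Presheaf.IsSheaf (Sheaf.canonicalTopology (Sheaf K (Type u))) (coyoneda.obj (Opposite.op e)) :=
        (CanonTopos16.isSheaf_canonical_iff _).2 inferInstance
      exact (isSheaf_iff_isSheaf_of_type _ _).1 (f.op_comp_isSheaf _ _ ⟨_, hG⟩)
    exact preservesColimitsOfSize_of_op f

end Groth.Agent.S6159
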