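import Groth.Prelude.Def_CohCx
import Mathlib.CategoryTheory.Sites.Adjunction
import Groth.Agent.SiteCoh.FreeNerve

set_option autoImplicit false
universe u
open CategoryTheory
open CohSite

namespace Groth.Agent.S6161

open CategoryTheory CategoryTheory.Limits AlgebraicTopology in
open scoped Simplicial in
lemma quasiIso_toSingle {A : Type*} [Category* A] [Abelian A] (K : ChainComplex A ℕ) (Z : A)
    (φ : K ⟶ (ChainComplex.single₀ A).obj Z) (p : K.X 0 ⟶ Z) (hp : φ.f 0 = p) (hep : Epi p)
    (w : K.d 1 0 ≫ p = 0) (h0 : (ShortComplex.mk _ _ w).Exact)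
    (hn : ∀ n, (ShortComplex.mk _ _ (K.d_comp_d (n + 2) (n + 1) n)).Exact) : QuasiIso φ where
  quasiIsoAt n := by
    cases n with
    | zero =>
      rw [ChainComplex.quasiIsoAt₀_iff, ShortComplex.quasiIso_iff_of_zeros']
      · refine (ShortComplex.exact_and_epi_g_iff_of_iso ?_).2 ⟨h0, inferInstance⟩
        exact ShortComplex.isoMk (Iso.refl _) (Iso.refl _) (Iso.refl _)
          ((Category.id_comp _).trans (Category.comp_id _).symm)
          ((Category.id_comp _).trans (hp.symm.trans (Category.comp_id _).symm))
      all_goals simp <;> rfl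
    | succ n =>
      rw [quasiIsoAt_iff_exactAt' _ _ (ChainComplex.exactAt_succ_single_obj _ _),
        K.exactAt_iff' (n + 2) (n + 1) n (by simp) (by simp)]
      exact hn n

open CategoryTheory.Limits in
/-- Case A = Z; topos of sheaves of sets on a small site: for an epimorphism K' -> K of sheaves of sets,
the chain complex of free abelian sheaves ... -> Z[K' x_K K'] -> Z[K'] (alternating sums of the face
maps of the Cech nerve), augmented to Z[K], is a resolution of Z[K]: the augmentation is a
quasi-isomorphism to Z[K] placed in degree 0. (An epimorphic family (U_i -> X) is replaced here by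
the single epimorphism from its coproduct, which gives the same complex.) -/
theorem result {C : Type u} [SmallCategory C] (J : GrothendieckTopology C)
    {K' K : Sheaf J (Type u)} (f : K' ⟶ K) [Epi f] :
    QuasiIso ((AlgebraicTopology.AlternatingFaceMapComplex.ε (C := Sheaf J AddCommGrpCat.{u})).app
      (((SimplicialObject.Augmented.whiskering _ _).obj (Sheaf.composeAndSheafify J AddCommGrpCat.free.{u})).obj
        (Arrow.mk f).augmentedCechNerve)) := by
  exact quasiIso_toSingle _ _ _ (Groth.Agent.SiteCoh.Nerve.aug f)
    (AlgebraicTopology.AlternatingFaceMapComplex.ε_app_f_zero _)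
    (Groth.Agent.SiteCoh.Nerve.epi_aug f) (Groth.Agent.SiteCoh.Nerve.d_aug f)
    (Groth.Agent.SiteCoh.Nerve.exact_zero f) (Groth.Agent.SiteCoh.Nerve.exact_succ f)

end Groth.Agent.S6161
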