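import Groth.Prelude.Def_CohSite
import Groth.Prelude.Def_SpSeq
import Mathlib.CategoryTheory.Sites.Pullback
import Groth.Agent.SpecSeq.SheafSS

set_option autoImplicit false
universe u
open CategoryTheory
open CohSite

namespace Groth.Agent.S6162

open CategoryTheory.Limits in
/-- Existence form of the Leray spectral sequence; abelian sheaves on small sites: let u : D -> C be a
continuous functor between small sites whose pullback on sheaves of sets is exact (a morphism of
topoi), u_* M = M o u the direct image and R^q u_* its right derived functors. For an abelian sheaf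
M on C and an object V of D there is an E_2 spectral sequence of abelian groups, bounded, with
E_2^{p,q} isomorphic to H^p(V, R^q u_* M) for p, q >= 0 and zero otherwise, together with abutment
data whose filtrations are finite on H^n(u(V), M) (n >= 0; zero for n < 0). The E_2 identifications
and the abutment isomorphisms are asserted to exist only; they are not pinned to the canonical maps
of the construction, so edge maps and low-degree exact sequences are not part of this statement. -/
theorem result {C D : Type u} [SmallCategory C] [SmallCategory D]
    (J : GrothendieckTopology C) (K : GrothendieckTopology D) (u : D ⥤ C) [u.IsContinuous K J]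
    [PreservesFiniteLimits (u.sheafPullback (Type u) K J)] (M : Sheaf J AddCommGrpCat.{u}) (V : D) :
    ∃ (E : E₂CohomologicalSpectralSequence AddCommGrpCat.{u})
      (a : SpSeq.Abutment E (fun n : ℤ =>
        if 0 ≤ n then AddCommGrpCat.of (CohSite.HU M n.toNat (u.obj V)) else AddCommGrpCat.of PUnit.{u + 1})),
      (∀ n, a.IsFinite n) ∧ SpSeq.IsBounded E ∧
      ∀ p q : ℤ, Nonempty ((E.page 2 le_rfl).X (p, q) ≅
        (if 0 ≤ p ∧ 0 ≤ q then AddCommGrpCat.of (CohSite.HU ((CohSite.Rpush J K u q.toNat).obj M) p.toNat V)
         else AddCommGrpCat.of PUnit.{u + 1})) := by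
  have := Groth.Agent.SiteCoh.push_preservesInjectiveObjects J K u
  refine Groth.Agent.SpecSeq.exists_composite (CohSite.push J K u)
    (Groth.Agent.SpecSeq.sectionsFunctor K V)
    (fun Q hQ q hq => ?_) M (fun n => ?_) (fun n hn => ?_) (fun p q => ?_) (fun p q h => ?_)
  · have := (CohSite.push J K u).injective_obj_of_injective hQ
    exact Groth.Agent.SpecSeq.isZero_rightDerived_injective _ _ hq
  · exact Groth.Agent.SpecSeq.nonempty_iso_if (by omega)
      ((Groth.Agent.SiteCoh.rightDerivedCongr
        (G := CohSite.push J K u ⋙ Groth.Agent.SpecSeq.sectionsFunctor K V)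
        (G' := Groth.Agent.SpecSeq.sectionsFunctor J (u.obj V)) (Iso.refl _) n).app M ≪≫
        Groth.Agent.SpecSeq.sectionsFunctorDerivedIso J (u.obj V) n M)
  · exact Groth.Agent.SpecSeq.isZero_if (by omega) (AddCommGrpCat.isZero_of_subsingleton _)
  · exact Groth.Agent.SpecSeq.nonempty_iso_if ⟨by omega, by omega⟩
      (Groth.Agent.SpecSeq.sectionsFunctorDerivedIso K V p _)
  · exact Groth.Agent.SpecSeq.isZero_if h (AddCommGrpCat.isZero_of_subsingleton _)

end Groth.Agent.S6162
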