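import Groth.Prelude.Def_CohCx
import Groth.Prelude.Def_SpSeq
import Groth.Agent.SpecSeq.HZero
import Groth.Agent.SpecSeq.CochainFunctor
import Groth.Agent.SiteCoh.Criterion
import Groth.Agent.SiteCoh.CechAcyclic

set_option autoImplicit false
universe u
open CategoryTheory
open CohSite

namespace Groth.Agent.S6164

open CategoryTheory.Limits Groth.Agent

variable {C : Type u} [SmallCategory C] [HasPullbacks C] {J : GrothendieckTopology C}
  {X : C} {ι : Type u} (Y : ι → Over X)

/-- The Cech complex of a presheaf. -/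
noncomputable abbrev L : (Cᵒᵖ ⥤ AddCommGrpCat.{u}) ⥤ CochainComplex AddCommGrpCat.{u} ℕ :=
  (Functor.whiskeringLeft _ _ _).obj (Over.forget X).op ⋙
    FormalCoproduct.cochainComplexFunctor (FormalCoproduct.mk _ Y).cech

lemma map_eq_cxMap {P Q : (Over X)ᵒᵖ ⥤ AddCommGrpCat.{u}} (φ : P ⟶ Q) :
    (cechComplexFunctor Y).map φ = SiteCoh.Cech.cxMap Y φ := by
  ext p x
  refine SiteCoh.Cech.ext Q Y fun a => ?_
  refine Eq.trans ?_ (SiteCoh.Cech.ev_map Y φ x a).symm
  exact ConcreteCategory.congr_hom (Limits.Pi.map_π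
    (fun i : Fin (p + 1) → ι => φ.app (Opposite.op (SiteCoh.Cech.inter Y i))) a) x

/-- Sections are the zeroth Cech cohomology. -/
noncomputable def sectionsIso
    (hY : Sieve.ofArrows (fun i => (Y i).left) (fun i => (Y i).hom) ∈ J X) :
    SpecSeq.sectionsFunctor J X ≅
      (sheafToPresheaf J AddCommGrpCat.{u} ⋙ L Y) ⋙ SpecSeq.hZero AddCommGrpCat.{u} :=
  NatIso.ofComponents
    (fun F => SiteCoh.cechH0Iso (Over.forget X) Y (fun i => (Y i).hom)
      (fun Z i j f g => (Over.w f).trans (Over.w g).symm) hY
      (fun Z i j f g e => ⟨Over.mk (f ≫ (Y i).hom), 𝟙 Z, Over.homMk f rfl, Over.homMk g e.symm,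
        Category.id_comp _, Category.id_comp _⟩) F)
    (fun {F F'} φ => by
      change φ.hom.app (Opposite.op X) ≫ _ = _ ≫ HomologicalComplex.homologyMap
        ((cechComplexFunctor Y).map (Functor.whiskerLeft (Over.forget X).op φ.hom)) 0
      rw [map_eq_cxMap]
      exact SiteCoh.cechH0Iso_naturality _ _ _ _ _ _ φ)


open CategoryTheory.Limits in
/-- Existence form of the spectral sequence of a covering; abelian sheaves on a small site with fibre
products: for a covering family (U_i -> X) and an abelian sheaf M there is a bounded E_2 spectral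
sequence of abelian groups with E_2^{p,q} isomorphic to the Cech cohomology group H^p((U_i -> X),
H^q(M)) of the family with coefficients in the presheaf V |-> H^q(V, M), for p, q >= 0 and zero
otherwise, with abutment data whose filtrations are finite on H^n(X, M) (n >= 0; zero for n < 0).
The E_2 identifications and abutment isomorphisms are asserted to exist only, not pinned to the
canonical maps, so edge maps are not part of this statement. -/
theorem result {C : Type u} [SmallCategory C] [HasPullbacks C]
    (J : GrothendieckTopology C) (M : Sheaf J AddCommGrpCat.{u}) {X : C} {ι : Type u} (Y : ι → Over X)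
    (hY : Sieve.ofArrows (fun i => (Y i).left) (fun i => (Y i).hom) ∈ J X) :
    ∃ (E : E₂CohomologicalSpectralSequence AddCommGrpCat.{u})
      (a : SpSeq.Abutment E (fun n : ℤ =>
        if 0 ≤ n then AddCommGrpCat.of (CohSite.HU M n.toNat X) else AddCommGrpCat.of PUnit.{u + 1})),
      (∀ n, a.IsFinite n) ∧ SpSeq.IsBounded E ∧
      ∀ p q : ℤ, Nonempty ((E.page 2 le_rfl).X (p, q) ≅
        (if 0 ≤ p ∧ 0 ≤ q then CohCx.cechH (M.cohomologyPresheaf q.toNat) Y p.toNat
         else AddCommGrpCat.of PUnit.{u + 1})) := by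
  refine Groth.Agent.SpecSeq.exists_complexFunctor (sheafToPresheaf J AddCommGrpCat.{u} ⋙ L Y)
    (fun Q hQ q => Groth.Agent.SiteCoh.isZero_cechH_of_injective Q Y q) M
    (fun n => ?_) (fun n hn => ?_) (fun p q => ?_) (fun p q h => ?_)
  · exact Groth.Agent.SpecSeq.nonempty_iso_if (by omega)
      ((Groth.Agent.SiteCoh.rightDerivedCongr (sectionsIso Y hY).symm n).app M ≪≫
        Groth.Agent.SpecSeq.sectionsFunctorDerivedIso J X n M)
  · exact Groth.Agent.SpecSeq.isZero_if (by omega) (AddCommGrpCat.isZero_of_subsingleton _)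
  · exact Groth.Agent.SpecSeq.nonempty_iso_if ⟨by omega, by omega⟩
      ((HomologicalComplex.homologyFunctor _ _ p).mapIso
        ((Groth.Agent.SiteCoh.rightDerivedCompExactIso (sheafToPresheaf J AddCommGrpCat.{u}) (L Y) q).app M ≪≫
          (L Y).mapIso ((Groth.Agent.SiteCoh.sectionsDerivedIso J q).app M)))
  · exact Groth.Agent.SpecSeq.isZero_if h (AddCommGrpCat.isZero_of_subsingleton _)

end Groth.Agent.S6164
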