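import Groth.Prelude.Def_ModSite
import Mathlib.Algebra.Category.ModuleCat.Sheaf.Quasicoherent
import Groth.Agent.SiteHom16.LocalFree

set_option autoImplicit false
universe u
namespace CategoryTheory
end CategoryTheory
open CategoryTheory
namespace ModSite
end ModSite
open ModSite

namespace Groth.Agent.S6167

/-- Ringed site (C, O), small, with commutative structure sheaf: a morphism from an O-module of finite
presentation (Mathlib's notion: over some family of objects covering every object, a cokernel of a
map of finite free modules) to a flat O-module factors, locally on the site, through a finite free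
module: for every object X there is a covering family (Y_i -> X) and for each i a factorisation
F|Y_i -> (O|Y_i)^n -> H|Y_i of the restricted morphism. -/
theorem result {C : Type u} [SmallCategory C] {J : GrothendieckTopology C}
    (O : Sheaf J CommRingCat.{u}) (F H : ModSite.Mod O) [F.IsFinitePresentation] (hH : ModSite.IsFlat H)
    (φ : F ⟶ H) (X : C) :
    ∃ (ι : Type u) (Y : ι → C) (g : ∀ i, Y i ⟶ X), Sieve.ofArrows Y g ∈ J X ∧
      ∀ i, ∃ (n : ℕ) (a : (ModSite.restr O (Y i)).obj F ⟶ SheafOfModules.free (ULift.{u} (Fin n)))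
        (b : SheafOfModules.free (ULift.{u} (Fin n)) ⟶ (ModSite.restr O (Y i)).obj H),
        a ≫ b = (ModSite.restr O (Y i)).map φ := by
  obtain ⟨σ, hσ⟩ := SheafOfModules.IsFinitePresentation.exists_quasicoherentData (M := F)
  have key : ∀ i, ∃ S ∈ J (σ.X i), ∀ ⦃Z : C⦄ (g : Z ⟶ σ.X i), S g →
      ∃ (n : ℕ) (a : (ModSite.restr O Z).obj F ⟶ SheafOfModules.free (ULift.{u} (Fin n)))
        (b : SheafOfModules.free (ULift.{u} (Fin n)) ⟶ (ModSite.restr O Z).obj H),
        a ≫ b = (ModSite.restr O Z).map φ := fun i => by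
    haveI := hσ.isFinite_presentation i
    exact @SiteHom16.exists_local_factor _ _ _ _ _ _ _ hH φ (σ.presentation i) (hσ.isFinite_presentation i)
  choose S hS hfac using key
  let T : Sieve X :=
    { arrows := fun Y _ => ∃ (i : σ.I) (g : Y ⟶ σ.X i), S i g
      downward_closed := by
        rintro Y Z f ⟨i, g, hg⟩ k
        exact ⟨i, k ≫ g, (S i).downward_closed hg k⟩ }
  have hT : T ∈ J X := by
    refine J.transitive (σ.coversTop X) _ fun Y f hf => ?_
    obtain ⟨i, ⟨g⟩⟩ := hf
    exact J.superset_covering (fun W k hk => ⟨i, k ≫ g, hk⟩) (J.pullback_stable g (hS i))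
  refine ⟨Σ Y : C, {f : Y ⟶ X // T f}, fun p => p.1, fun p => p.2.1, J.superset_covering ?_ hT,
    fun p => ?_⟩
  · exact fun Y f hf => ⟨Y, 𝟙 Y, f, Presieve.ofArrows.mk (⟨Y, f, hf⟩ : Σ Y : C, {f : Y ⟶ X // T f}),
      Category.id_comp f⟩
  · obtain ⟨i, g, hg⟩ := p.2.2
    exact hfac i g hg

end Groth.Agent.S6167
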