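import Groth.Prelude.Def_SGA4a
import Mathlib.CategoryTheory.Sites.CartesianClosed
import Mathlib.CategoryTheory.Sites.Pullback
import Mathlib.CategoryTheory.Monoidal.Closed.FunctorToTypes
import Mathlib.CategoryTheory.Monoidal.Closed.Types
import Mathlib.CategoryTheory.Monoidal.Cartesian.Basic
import Mathlib.CategoryTheory.Adjunction.Unique

set_option autoImplicit false
universe u
namespace CategoryTheory
end CategoryTheory
open CategoryTheory
namespace SGA4
end SGA4
open SGA4

namespace Groth.Agent.S6171

open CategoryTheory.Limits MonoidalCategory in
/-- Sheaves of sets on small sites; internal homs of the cartesian closed topoi: for a morphism of topoi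
v : E -> E' given by a continuous functor u : D -> C between small sites with exact pullback (v_* =
composition with u, v^* = the pullback), a sheaf of sets X on C and a sheaf of sets Y on D, v_*
Hom_E(v^* Y, X) is isomorphic to Hom_{E'}(Y, v_* X). Existence of an isomorphism only (the source's
is canonical and bifunctorial). -/
theorem result {C D : Type u} [SmallCategory C] [SmallCategory D] (J : GrothendieckTopology C)
    (K : GrothendieckTopology D) (u : D ⥤ C) [u.IsContinuous K J] [PreservesFiniteLimits (u.sheafPullback (Type u) K J)]
    (X : Sheaf J (Type u)) (Y : Sheaf K (Type u)) :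
    Nonempty ((u.sheafPushforwardContinuous (Type u) K J).obj ((ihom ((u.sheafPullback (Type u) K J).obj Y)).obj X) ≅
      (ihom Y).obj ((u.sheafPushforwardContinuous (Type u) K J).obj X)) := by
  let P := u.sheafPullback (Type u) K J
  let R := u.sheafPushforwardContinuous (Type u) K J
  let adjP : P ⊣ R := u.sheafAdjunctionContinuous (Type u) K J
  let a₁ := (ihom.adjunction Y).comp adjP
  let a₂ := adjP.comp (ihom.adjunction (P.obj Y))
  let i : MonoidalCategory.tensorLeft Y ⋙ P ≅ P ⋙ MonoidalCategory.tensorLeft (P.obj Y) :=
    CartesianMonoidalCategory.prodComparisonNatIso P Y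
  exact ⟨(((a₁.ofNatIsoLeft i).rightAdjointUniq a₂).app X).symm⟩

end Groth.Agent.S6171
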