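import Groth.Prelude.Def_SGA4a
import Mathlib.CategoryTheory.Sites.CartesianClosed
import Mathlib.CategoryTheory.Comma.Over.Pullback
import Mathlib.CategoryTheory.Monoidal.Closed.FunctorToTypes
import Mathlib.CategoryTheory.Monoidal.Closed.Types
import Mathlib.CategoryTheory.Monoidal.Cartesian.Basic
import Mathlib.CategoryTheory.Adjunction.Unique

set_option autoImplicit false
universe u
namespace CategoryTheory
end CategoryTheory
open CategoryTheory
namespace SGA4
end SGA4
open SGA4

namespace Groth.Agent.S6172

open CategoryTheory.Limits MonoidalCategory in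
/-- Topos E of sheaves of sets on a small site, localised at an object Z: with j_Z : E/Z -> E the
localisation morphism, j_Z^* X = Z x X over Z, and j_{Z*} its right adjoint (taken as an instance
hypothesis, which holds in any topos), j_{Z*} j_Z^* Y is isomorphic to the internal hom Hom(Z, Y)
for every object Y. Existence of an isomorphism only (the source's is canonical). -/
theorem result {C : Type u} [SmallCategory C] (J : GrothendieckTopology C)
    (Z Y : Sheaf J (Type u)) [(Over.star Z).IsLeftAdjoint] :
    Nonempty (((Over.star Z).rightAdjoint).obj ((Over.star Z).obj Y) ≅ (ihom Z).obj Y) := by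
  let adj : Over.star Z ⋙ Over.forget Z ⊣ Over.star Z ⋙ (Over.star Z).rightAdjoint :=
    (Adjunction.ofIsLeftAdjoint (Over.star Z)).comp (Over.forgetAdjStar Z)
  let j : Over.star Z ⋙ Over.forget Z ≅ Limits.prod.functor.obj Z :=
    NatIso.ofComponents (fun A => Iso.refl (Z ⨯ A)) (fun {A B} f => by
      simp [Over.star, coalgebraToOver]
      rfl)
  let i := j ≪≫ (CartesianMonoidalCategory.tensorLeftIsoProd Z).symm
  exact ⟨((adj.ofNatIsoLeft i).rightAdjointUniq (ihom.adjunction Z)).app Y⟩

end Groth.Agent.S6172
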