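import Groth.Prelude.Def_SGA4a
import Mathlib.CategoryTheory.Sites.Point.Over
import Mathlib.CategoryTheory.Sites.CoversTop
import Mathlib.CategoryTheory.Sites.Point.Map
import Mathlib.CategoryTheory.Sites.Point.Conservative
import Mathlib.CategoryTheory.Sites.Over
import Mathlib.CategoryTheory.Sites.LocallyBijective

set_option autoImplicit false
universe u
namespace CategoryTheory
end CategoryTheory
open CategoryTheory
namespace SGA4
end SGA4
open SGA4

namespace Groth.Agent.S6173

/-- Second assertion (topos of sheaves on a small site (C, J); E/X_i the induced topoi, modelled by the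
sites (C/X_i, J/X_i); 'enough points' = a small conservative family of points, equivalently all
fibre functors together are conservative): if (X_i) is a family of objects covering the final object
and every E/X_i has enough points, then E has enough points. (The first assertion, that E/X inherits
enough points from E, is Mathlib's instance.) -/
theorem result {C : Type u} [SmallCategory C] (J : GrothendieckTopology C) {ι : Type u}
    (X : ι → C) (hX : J.CoversTop X) (h : ∀ i, GrothendieckTopology.HasEnoughPoints.{u} (J.over (X i))) :
    GrothendieckTopology.HasEnoughPoints.{u} J := by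
  classical
  choose P hPs hP using fun i => (h i).exists_objectProperty
  haveI : ∀ i, Small.{u} (Subtype (P i)) := hPs
  let Ψ : (Σ i, Shrink.{u} (Subtype (P i))) → GrothendieckTopology.Point.{u} J := fun p =>
    ((equivShrink.{u} (Subtype (P p.1))).symm p.2).1.map (Over.forget (X p.1)) J
  refine ⟨ObjectProperty.ofObj Ψ, inferInstance, ⟨⟨fun {F G} f hf => ?_⟩⟩⟩
  have hloc : ∀ i, IsIso ((J.overPullback (Type u) (X i)).map f) := by
    intro i
    haveI : ∀ Φ : (P i).FullSubcategory,
        IsIso (Φ.obj.sheafFiber.map ((J.overPullback (Type u) (X i)).map f)) := by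
      intro Φ
      obtain ⟨s, hs⟩ := (equivShrink.{u} (Subtype (P i))).symm.surjective ⟨Φ.obj, Φ.property⟩
      have hm : ObjectProperty.ofObj Ψ (Φ.obj.map (Over.forget (X i)) J) := by
        have := ObjectProperty.ofObj_apply Ψ ⟨i, s⟩
        simpa [Ψ, hs] using this
      exact (NatIso.isIso_map_iff (Φ.obj.sheafFiberMapIso (Over.forget (X i)) J (Type u)) f).1
        (hf ⟨_, hm⟩)
    exact (hP i).jointlyReflectIsomorphisms_type.isIso ((J.overPullback (Type u) (X i)).map f)
  have hb : ∀ {c : C} (i : ι) (g : c ⟶ X i), Function.Bijective (f.hom.app (Opposite.op c)) := by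
    intro c i g
    haveI := hloc i
    haveI : IsIso (((sheafToPresheaf _ _).map ((J.overPullback (Type u) (X i)).map f)).app
      (Opposite.op (Over.mk g))) := inferInstance
    exact (isIso_iff_bijective (((sheafToPresheaf _ _).map ((J.overPullback (Type u) (X i)).map f)).app
      (Opposite.op (Over.mk g)))).1 inferInstance
  haveI : Presheaf.IsLocallyInjective J f.hom := ⟨fun {c} a b hab => by
    refine J.superset_covering ?_ (hX c.unop)
    rintro d g ⟨i, ⟨t⟩⟩
    refine (hb i t).1 ?_
    rw [NatTrans.naturality_apply, NatTrans.naturality_apply, hab]⟩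
  haveI : Presheaf.IsLocallySurjective J f.hom := ⟨fun {c} y => by
    refine J.superset_covering ?_ (hX c)
    rintro d g ⟨i, ⟨t⟩⟩
    exact (hb i t).2 _⟩
  exact (Sheaf.isLocallyBijective_iff_isIso f).1 ⟨‹Presheaf.IsLocallyInjective J f.hom›,
    ‹Presheaf.IsLocallySurjective J f.hom›⟩

end Groth.Agent.S6173
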