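import Groth.Prelude.Def_SGA4a
import Mathlib.CategoryTheory.Comma.Over.Basic
import Mathlib.CategoryTheory.Limits.Preserves.Basic
set_option autoImplicit false
universe u
namespace CategoryTheory
end CategoryTheory
open CategoryTheory
namespace SGA4
end SGA4
open SGA4

namespace Groth.Agent.S6176

open CategoryTheory.Limits in
/-- The clause on products (topos of sheaves of sets on a small site; j : E/U -> E the open embedding
defined by an open U, i.e. a subobject of the final object, so that j_! is the forgetful functor
from objects over U): j_! commutes with products indexed by a nonempty u-small set. (Commutation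
with fibre products and cofiltered limits, the other clauses, holds for the forgetful functor of any
slice.) -/
theorem result {C : Type u} [SmallCategory C] (J : GrothendieckTopology C)
    (U : Sheaf J (Type u)) (hU : SGA4.IsOpen U) (I : Type u) [Nonempty I] :
    PreservesLimitsOfShape (Discrete I) (Over.forget U) := by
  haveI : Mono (terminal.from U) := hU
  constructor
  intro K
  constructor
  intro c hc
  have hU' : ∀ {Z : Sheaf J (Type u)} (a b : Z ⟶ U), a = b :=
    fun a b => (cancel_mono (terminal.from U)).1 (Subsingleton.elim _ _)
  obtain ⟨i₀⟩ := ‹Nonempty I›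
  let T : ∀ s : Cone (K ⋙ Over.forget U), Cone K := fun s =>
    { pt := Over.mk (s.π.app ⟨i₀⟩ ≫ (K.obj ⟨i₀⟩).hom)
      π := Discrete.natTrans fun j => Over.homMk (s.π.app j) (hU' _ _) }
  exact ⟨{
    lift := fun s => (hc.lift (T s)).left
    fac := fun s j => congrArg CommaMorphism.left (hc.fac (T s) j)
    uniq := fun s f hf => congrArg CommaMorphism.left
      (hc.uniq (T s) (Over.homMk f (hU' _ _)) fun j => Over.OverMorphism.ext (hf j)) }⟩

end Groth.Agent.S6176
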