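import Groth.Prelude.Def_SGA4a
import Groth.Agent.SGA4Open16.Closed

set_option autoImplicit false
universe u
namespace CategoryTheory
end CategoryTheory
open CategoryTheory
namespace SGA4
end SGA4
open SGA4

namespace Groth.Agent.S6177

open CategoryTheory.Limits in
/-- Topos of sheaves of sets on a small site; U an open, i.e. a subobject of the final object; X_CU the
pushout of U <- U x X -> X along the two projections: (ii) <=> (iii): the canonical map X -> X_CU is
an isomorphism if and only if the projection U x X -> U is an isomorphism (X belongs to the closed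
complement of U); and (i) => (iii): if X is isomorphic to Y_CU for some Y then X belongs to the
closed complement of U ((iii) => (i) with Y = X is then immediate from (ii)). -/
theorem result {C : Type u} [SmallCategory C] (J : GrothendieckTopology C)
    (U : Sheaf J (Type u)) (hU : SGA4.IsOpen U) (X : Sheaf J (Type u)) :
    (SGA4.closedCompl U X ↔ IsIso (pushout.inr (prod.fst : U ⨯ X ⟶ U) (prod.snd : U ⨯ X ⟶ X))) ∧
    ((∃ Y : Sheaf J (Type u), Nonempty (X ≅ pushout (prod.fst : U ⨯ Y ⟶ U) (prod.snd : U ⨯ Y ⟶ Y))) →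
      SGA4.closedCompl U X) := by
  have e : ∀ Y : Sheaf J (Type u), ((SGA4Open16.closedL U hU).obj Y).obj ≅
      pushout (prod.fst : U ⨯ Y ⟶ U) (prod.snd : U ⨯ Y ⟶ Y) :=
    fun Y => (SGA4Open16.isPushout_closed U hU Y).isoPushout
  haveI hiso : (SGA4.closedCompl U).IsClosedUnderIsomorphisms := ⟨fun {A B} i h => by
    rw [SGA4Open16.closedCompl_iff U hU] at h ⊢
    intro c hc
    let q := ((sheafToPresheaf J _).mapIso i).app c
    obtain ⟨⟨a⟩, hs⟩ := h c hc
    haveI : Subsingleton (((sheafToPresheaf J (Type u)).obj A).obj c) := hs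
    exact ⟨⟨q.hom a⟩, ⟨fun x y => q.symm.toEquiv.injective (Subsingleton.elim _ _)⟩⟩⟩
  have hinr : IsIso (pushout.inr (prod.fst : U ⨯ X ⟶ U) (prod.snd : U ⨯ X ⟶ X)) ↔
      IsIso ((SGA4Open16.closedAdj U hU).unit.app X) := by
    rw [SGA4Open16.closedAdj_unit,
      ← (SGA4Open16.isPushout_closed U hU X).inr_isoPushout_hom]
    exact isIso_comp_right_iff _ _
  refine ⟨⟨fun h => ?_, fun h => ?_⟩, fun ⟨Y, ⟨i⟩⟩ => ?_⟩
  · rw [hinr]
    exact (SGA4Open16.closedAdj U hU).isIso_unit_app_of_iso (Y := X) (X := ⟨X, h⟩) (Iso.refl _)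
  · haveI := h
    exact hiso.of_iso (e X ≪≫ (asIso (pushout.inr _ _)).symm) ((SGA4Open16.closedL U hU).obj X).property
  · exact hiso.of_iso (e Y ≪≫ i.symm) ((SGA4Open16.closedL U hU).obj Y).property

end Groth.Agent.S6177
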