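import Groth.Statements.S6181
import Groth.Agent.Et18.FiniteFibreStalk
import Mathlib.CategoryTheory.Limits.FunctorCategory.Shapes.Products

set_option autoImplicit false
open CategoryTheory CategoryTheory.Limits AlgebraicGeometry Opposite
universe u
open EtDesc

namespace Groth.Agent.S6181

/-- Let f : X -> Y be a finite morphism of schemes, Ω an algebraically closed field and η : Spec Ω -> Y
a geometric point. The functor F ↦ (f_* F)_η on etale sheaves of sets on X is isomorphic to the
product, over the geometric points ξ : Spec Ω -> X lying over η, of the fibre functors F ↦ F_ξ. (The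
published statement gives a canonical isomorphism and indexes the product by the points of the
geometric fibre over a separable closure of the residue field; this row asserts only that an
isomorphism of functors exists and indexes the product by the Ω-valued points of X over η, which for
Ω algebraically closed correspond to those points.) -/
theorem result {X Y : Scheme.{u}} (f : X ⟶ Y) [IsFinite f]
    {Ω : Type u} [Field Ω] [IsAlgClosed Ω] (η : Spec (CommRingCat.of Ω) ⟶ Y) :
    Nonempty (EtDesc.pushSh f ⋙ (Scheme.pointSmallEtale η).sheafFiber (A := Type (u + 1)) ≅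
      ∏ᶜ fun ξ : {ξ : Spec (CommRingCat.of Ω) ⟶ X // ξ ≫ f = η} =>
        ((Scheme.pointSmallEtale ξ.1).sheafFiber (A := Type (u + 1)) : EtDesc.Sh X ⥤ Type (u + 1))) := by
  let m := fun ξ : Groth.Agent.Et18.FibrePts f η => Groth.Agent.Et18.fibreNat f η (Type (u + 1)) ξ
  have : IsIso (Pi.lift m) := by
    have : ∀ G, IsIso ((Pi.lift m).app G) := fun G => by
      have h := Groth.Agent.Et18.isIso_piLift_of_bijective
        (fun ξ : Groth.Agent.Et18.FibrePts f η =>
          ((Scheme.pointSmallEtale ξ.1).sheafFiber (A := Type (u + 1))).obj G)
        (fun ξ => (m ξ).app G) (Groth.Agent.Et18.fibreNat_bijective f η (Type (u + 1)) G)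
      refine @IsIso.of_isIso_comp_right _ _ _ _ _ _ (piObjIso _ G).hom inferInstance ?_
      convert h using 1
      refine Pi.hom_ext _ _ fun ξ => ?_
      rw [Category.assoc, piObjIso_hom_comp_π, ← NatTrans.comp_app, Pi.lift_π]
      exact (Pi.lift_π (fun ξ => (m ξ).app G) ξ).symm
    exact NatIso.isIso_of_isIso_app _
  exact ⟨asIso (Pi.lift m)⟩

end Groth.Agent.S6181
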