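import Groth.Prelude.Def_SGA4c
import Mathlib.CategoryTheory.Sites.Pullback
import Mathlib.CategoryTheory.Limits.Filtered
import Mathlib.CategoryTheory.Limits.Types.Filtered
import Groth.Agent.ToposFinLib.Eps

set_option autoImplicit false
namespace CategoryTheory
end CategoryTheory
namespace CategoryTheory.Limits
end CategoryTheory.Limits
namespace Opposite
end Opposite
open CategoryTheory CategoryTheory.Limits Opposite
universe u
namespace ToposFin
end ToposFin
open ToposFin

namespace Groth.Agent.S6182

/-- Let (C, J) and (D, K) be small sites with fibre products in which every object is quasi-compact, and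
G : C -> D a continuous functor whose inverse-image functor on sheaves of sets f^* (the sheaf
pullback along G, from sheaves on C to sheaves on D) preserves finite limits, so that G is a
morphism of sites and f a morphism of topoi. Then f is coherent: f^* sends quasi-compact objects to
quasi-compact objects and quasi-separated objects to quasi-separated objects. -/
theorem result {C D : Type u} [SmallCategory C] [SmallCategory D]
    [HasPullbacks C] [HasPullbacks D] (J : GrothendieckTopology C) (K : GrothendieckTopology D)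
    (hC : ∀ X : C, ToposFin.IsQCSite J X) (hD : ∀ Y : D, ToposFin.IsQCSite K Y)
    (G : C ⥤ D) [Functor.IsContinuous G J K] [PreservesFiniteLimits (G.sheafPullback (Type u) J K)] :
    (∀ X : ToposFin.Sh J, ToposFin.IsQC X → ToposFin.IsQC ((G.sheafPullback (Type u) J K).obj X)) ∧
      (∀ X : ToposFin.Sh J, ToposFin.IsQS X → ToposFin.IsQS ((G.sheafPullback (Type u) J K).obj X)) := by
  have adj := G.sheafAdjunctionContinuous (Type u) J K
  have hcoh : ∀ X, ToposFin.IsCoherent ((G.sheafPullback (Type u) J K).obj (ToposFin.eps J X)) := fun X =>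
    ⟨Groth.Agent.ToposFinLib.isQC_of_iso (Groth.Agent.ToposFinLib.sheafPullbackEpsIso K G X).symm
      (Groth.Agent.ToposFinLib.isQC_eps hD _),
     Groth.Agent.ToposFinLib.isQS_of_mono (Groth.Agent.ToposFinLib.sheafPullbackEpsIso K G X).hom
      (Groth.Agent.ToposFinLib.isCoherent_eps hD _).2⟩
  have hqc : ∀ X : ToposFin.Sh J, ToposFin.IsQC X → ToposFin.IsQC ((G.sheafPullback (Type u) J K).obj X) := fun X hX => by
    obtain ⟨n, W, w, hw, hW⟩ := Groth.Agent.ToposFinLib.exists_fin_cover' Groth.Agent.ToposFinLib.gen_eps hX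
    refine Groth.Agent.ToposFinLib.isQC_of_efam (hw.map adj) fun k => ?_
    obtain ⟨V, hV⟩ := hW k
    exact hV ▸ (hcoh V).1
  refine ⟨hqc, fun X hX => ?_⟩
  obtain ⟨ι, F, π, hF, hπ⟩ := Groth.Agent.ToposFinLib.gen_eps (J := J) X
  have hE := Groth.Agent.ToposFinLib.gen_qc_eps hD
  have hqs : ∀ i, ToposFin.IsQS ((G.sheafPullback (Type u) J K).obj (F i)) := fun i => by
    obtain ⟨V, hV⟩ := hF i
    exact hV ▸ (hcoh V).2
  have hqcF : ∀ i, ToposFin.IsQC (F i) := fun i => by
    obtain ⟨V, hV⟩ := hF i
    exact hV ▸ Groth.Agent.ToposFinLib.isQC_eps hC V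
  refine Groth.Agent.ToposFinLib.isQS_of_cover hE (hπ.map adj) hqs fun i =>
    Groth.Agent.ToposFinLib.qc_of_pairwise hE (hπ.map adj) hqs (fun i j => ?_) i
  exact Groth.Agent.ToposFinLib.isQC_of_iso
    ((IsPullback.of_hasPullback (π i) (π j)).map (G.sheafPullback (Type u) J K)).isoPullback
    (hqc _ (hX _ _ _ _ (hqcF i) (hqcF j)))

end Groth.Agent.S6182
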