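import Groth.Statements.S6187
import Groth.Agent.FlatCx12.TorAmpComp
import Groth.Agent.EGA43.FibDepth.Unit

set_option autoImplicit false
set_option backward.isDefEq.respectTransparency false
set_option backward.defeqAttrib.useBackward true
universe u
open CategoryTheory CategoryTheory.Limits AlgebraicGeometry
attribute [local instance] HasDerivedCategory.standard
open KSix

namespace Groth.Agent.S6187

/-- Case of schemes: let f : X ⟶ Y and g : Y ⟶ Z be morphisms of schemes with composite h, let n be a
natural number such that g has tor dimension at most n (the structure sheaf of Y has tor amplitude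
in [-n, 0] relative to g, stalkwise), and let F be a cochain complex of O_X-modules with tor
amplitude in [a, b] relative to f (at every point x the complex of stalks F_x, over the local ring
of Y at f(x), is isomorphic in the derived category to a complex of flat modules placed in [a, b]).
Then F has tor amplitude in [a - n, b] relative to h. (The published statement is for a commutative
triangle of ringed topoi in which X has enough points; this row is the case of schemes, with tor
amplitude relative to a morphism in its stalkwise form.) -/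
theorem result {X Y Z : Scheme.{u}} (f : X ⟶ Y) (g : Y ⟶ Z) (h : X ⟶ Z)
    (w : f ≫ g = h) (n : ℕ) (hg : DerSch.HasTorDimLE g n) (F : CochainComplex X.Modules ℤ) (a b : ℤ)
    (hF : DerSch.HasTorAmplitude f a b F) :
    DerSch.HasTorAmplitude h (a - n) b F := by
  subst w
  intro x
  obtain ⟨E, hE, hEf, ⟨e⟩⟩ := hF x
  let y := f.base x
  let φ := (g.stalkMap y).hom
  let r := (ModuleCat.restrictScalars.{u} φ).mapHomologicalComplex (ComplexShape.up ℤ)
  have hB : DRing.HasTorAmplitudeIn (Z.presheaf.stalk (g.base y)) (-(n : ℤ)) 0
      (Dual.inD _ ((ModuleCat.restrictScalars.{u} φ).obj (ModuleCat.of (Y.presheaf.stalk y) (Y.presheaf.stalk y)))) := by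
    refine Groth.Agent.FlatCx12.TorAmpComp.amp_iso ?_ (hg y)
    let u₀ : (DerSch.stalkFunctor Y y).obj (Coh.structureModule Y) ≅
        ModuleCat.of (Y.presheaf.stalk y) (Y.presheaf.stalk y) :=
      (Groth.Agent.EGA43.FibDepth.unitStalkEquiv y).toModuleIso.symm
    exact DerivedCategory.Q.mapIso
        ((HomologicalComplex.singleMapHomologicalComplex (DerSch.stalkOver g y) (ComplexShape.up ℤ) 0).app _) ≪≫
      ((DerivedCategory.singleFunctorIsoCompQ _ 0).app _).symm ≪≫
      (DerivedCategory.singleFunctor _ 0).mapIso ((ModuleCat.restrictScalars.{u} φ).mapIso u₀)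
  refine Groth.Agent.FlatCx12.TorAmpComp.amp_iso ?_
    (Groth.Agent.FlatCx12.TorAmpComp.amp_restrict_cx φ hB E hE hEf)
  have hc : ((f ≫ g).stalkMap x).hom = (f.stalkMap x).hom.comp φ := by
    rw [Scheme.Hom.stalkMap_comp]
    rfl
  let η : DerSch.stalkOver f x ⋙ ModuleCat.restrictScalars.{u} φ ≅ DerSch.stalkOver (f ≫ g) x :=
    Functor.associator _ _ _ ≪≫ Functor.isoWhiskerLeft (DerSch.stalkFunctor X x)
      (ModuleCat.restrictScalarsComp' φ (f.stalkMap x).hom ((f ≫ g).stalkMap x).hom hc).symm
  let e' : r.obj ((DerSch.stalkCxOver f x).obj F) ≅ (DerSch.stalkCxOver (f ≫ g) x).obj F :=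
    HomologicalComplex.Hom.isoOfComponents (fun i => η.app (F.X i)) (fun p q _ => (η.hom.naturality (F.d p q)).symm)
  exact ((ModuleCat.restrictScalars.{u} φ).mapDerivedCategoryFactors.app E).symm ≪≫
    (ModuleCat.restrictScalars.{u} φ).mapDerivedCategory.mapIso e ≪≫
    (ModuleCat.restrictScalars.{u} φ).mapDerivedCategoryFactors.app _ ≪≫ DerivedCategory.Q.mapIso e'

end Groth.Agent.S6187
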