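import Groth.Statements.S6188
import Groth.Agent.FlatCx12.AmpTensor
import Groth.Agent.FlatCx12.AmpThick
import Groth.Agent.DCat.PullPerf
import Groth.Agent.ModStalk.Pullback
import Groth.Agent.EGA43.FibDepth.Unit

set_option backward.isDefEq.respectTransparency false
set_option backward.defeqAttrib.useBackward true
-- import your own Groth.Agent.* helpers here

set_option autoImplicit false
universe u
open CategoryTheory CategoryTheory.Limits AlgebraicGeometry
attribute [local instance] HasDerivedCategory.standard
open KSix

namespace Groth.Agent.S6188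

/-- Case of schemes: let f : X ⟶ Y and g : Y ⟶ Z be morphisms of schemes with composite h, let m be a
natural number such that f has tor dimension at most m (the structure sheaf of X has tor amplitude
in [-m, 0] relative to f, stalkwise), and let G be a cochain complex of O_Y-modules with tor
amplitude in [c, d] relative to g (stalkwise flat models placed in [c, d] over the local rings of
Z). Then, the derived pullback Lf^* being assumed to exist, Lf^* G has tor amplitude in [c - m, d]
relative to h: every cochain complex representing it has stalkwise flat models placed in [c - m, d]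
over the local rings of Z. (The published statement is for a commutative triangle of ringed topoi in
which X has enough points; this row is the case of schemes, with tor amplitude relative to a
morphism in its stalkwise form.) -/
theorem result {X Y Z : Scheme.{u}} (f : X ⟶ Y) (g : Y ⟶ Z) (h : X ⟶ Z)
    (w : f ≫ g = h) (m : ℕ) (hf : DerSch.HasTorDimLE f m) [DCoh.HasLpull f]
    (G : CochainComplex Y.Modules ℤ) (c d : ℤ) (hG : DerSch.HasTorAmplitude g c d G) :
    DerSch.HasTorAmplitudeD h (c - m) d ((DCoh.Lpull f).obj (DCoh.toD Y G)) := by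
  subst w
  intro F' hF' x
  obtain ⟨e⟩ := hF'
  obtain ⟨L, q, hLk, hLf, hq, -⟩ := Groth.Agent.DCat.exists_kflat_sheaf G
  haveI := hq
  let eG : DCoh.toD Y L ≅ DCoh.toD Y G := asIso (DerivedCategory.Q.map q)
  refine Groth.Agent.FlatCx12.AmpThick.amp_congr (f ≫ g) x
    ((Groth.Agent.DCat.PullPerf.lpullIso f hLk).symm ≪≫ (DCoh.Lpull f).mapIso eG ≪≫ e.symm) ?_
  let y := f.base x
  let φ := (g.stalkMap y).hom
  let σ := (f.stalkMap x).hom
  let C : ModuleCat.{u} (Y.presheaf.stalk y) :=
    (ModuleCat.restrictScalars.{u} σ).obj (ModuleCat.of (X.presheaf.stalk x) (X.presheaf.stalk x))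
  have hC : DRing.HasTorAmplitudeIn (Y.presheaf.stalk y) (-(m : ℤ)) 0 (Dual.inD _ C) := by
    refine Groth.Agent.FlatCx12.TorAmpComp.amp_iso ?_ (hf x)
    let u₀ : (DerSch.stalkFunctor X x).obj (Coh.structureModule X) ≅
        ModuleCat.of (X.presheaf.stalk x) (X.presheaf.stalk x) :=
      (Groth.Agent.EGA43.FibDepth.unitStalkEquiv x).toModuleIso.symm
    exact DerivedCategory.Q.mapIso
        ((HomologicalComplex.singleMapHomologicalComplex (DerSch.stalkOver f x) (ComplexShape.up ℤ) 0).app _) ≪≫
      ((DerivedCategory.singleFunctorIsoCompQ _ 0).app _).symm ≪≫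
      (DerivedCategory.singleFunctor _ 0).mapIso ((ModuleCat.restrictScalars.{u} σ).mapIso u₀)
  let K := ((DerSch.stalkFunctor Y y).mapHomologicalComplex (ComplexShape.up ℤ)).obj L
  have hK : DRing.TermwiseFlat K := fun n => hLf n y
  have hamp := Groth.Agent.FlatCx12.TorAmpComp.amp_iso
    (L := DRing.toD (((ModuleCat.restrictScalars.{u} φ).mapHomologicalComplex (ComplexShape.up ℤ)).obj K))
    (DerivedCategory.Q.mapIso (HomologicalComplex.Hom.isoOfComponents (fun i => Iso.refl _)
      (fun p q _ => (Category.id_comp _).trans (Category.comp_id _).symm)))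
    (Groth.Agent.FlatCx12.AmpThick.amp_congr g y eG.symm (hG y))
  refine Groth.Agent.FlatCx12.TorAmpComp.amp_iso (DerivedCategory.Q.mapIso ?_)
    (Groth.Agent.FlatCx12.AmpTensor.amp_tensor φ C
      (Groth.Agent.FlatCx12.TorAmpComp.D_of_amp m C hC) K hK hamp)
  have hc : ((f ≫ g).stalkMap x).hom = σ.comp φ := by
    rw [Scheme.Hom.stalkMap_comp]
    rfl
  letI := σ.toAlgebra
  let η₀ : MonoidalCategory.tensorLeft C ≅
      ModuleCat.extendScalars.{u, u, u} σ ⋙ ModuleCat.restrictScalars.{u} σ :=
    NatIso.ofComponents (fun M => LinearEquiv.toModuleIso (X₁ := (MonoidalCategory.tensorLeft C).obj M)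
        (X₂ := (ModuleCat.extendScalars.{u, u, u} σ ⋙ ModuleCat.restrictScalars.{u} σ).obj M)
        { AddEquiv.refl _ with
          map_smul' := fun r z => by
            induction z using TensorProduct.induction_on with
            | zero => exact (smul_zero _).trans (smul_zero _).symm
            | tmul a b => rfl
            | add u v hu hv => exact (congrArg _ rfl).trans ((smul_add _ u v).trans
                ((congrArg₂ (· + ·) hu hv).trans (smul_add _ u v).symm)) })
      (fun {M N} k => ModuleCat.hom_ext (LinearMap.ext fun z => rfl))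
  let η : DerSch.stalkFunctor Y y ⋙ MonoidalCategory.tensorLeft C ⋙ ModuleCat.restrictScalars.{u} φ ≅
      Scheme.Modules.pullback f ⋙ DerSch.stalkOver (f ≫ g) x :=
    Functor.isoWhiskerLeft _ (Functor.isoWhiskerRight η₀ _ ≪≫ Functor.associator _ _ _ ≪≫
      Functor.isoWhiskerLeft _ (ModuleCat.restrictScalarsComp' φ σ ((f ≫ g).stalkMap x).hom hc).symm) ≪≫
    (Functor.associator _ _ _).symm ≪≫
    Functor.isoWhiskerRight (Groth.Agent.ModStalk.pullbackStalkIso f x).symm _ ≪≫ Functor.associator _ _ _
  exact HomologicalComplex.Hom.isoOfComponents (fun i => η.app (L.X i))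
    (fun p q _ => (η.hom.naturality (L.d p q)).symm)

end Groth.Agent.S6188
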