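import Groth.Statements.S6193
import Groth.Agent.Dual22Lib.RelAmpPush
import Groth.Agent.S6200
import Groth.Agent.FlatCx12.PushStalk

set_option autoImplicit false
set_option backward.isDefEq.respectTransparency false
set_option backward.defeqAttrib.useBackward true
universe u
open CategoryTheory CategoryTheory.Limits AlgebraicGeometry
attribute [local instance] HasDerivedCategory.standard
open KSix

namespace Groth.Agent.S6193

open Groth.Agent.Dual22Lib.RelAmpStalk in
/-- Composition at a point: absolute amplitude and finite tor dimension give relative amplitude. -/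
theorem amp_comp {X Y : Scheme.{u}} (f : X ⟶ Y) (F : CochainComplex X.Modules ℤ) (x : X) {a b a' b' : ℤ}
    (hu : DerSch.HasTorAmplitudeAt f a' b' (DerSch.unitCx X) x) (hF : DerSch.HasTorAmplitudeAt (𝟙 X) a b F x) :
    DerSch.HasTorAmplitudeAt f (a - (-a').toNat) b F x := by
  have h0 : ∀ i : ℤ, 0 < i → ((DerSch.stalkCxOver f x).obj (DerSch.unitCx X)).ExactAt i := fun i hi =>
    HomologicalComplex.ExactAt.of_isZero ((DerSch.stalkOver f x).map_isZero
      (HomologicalComplex.isZero_single_obj_X _ _ _ _ (by omega)))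
  obtain ⟨T, hT, hTf, eT⟩ := amp_le _ hu h0
  have hu' : DerSch.HasTorAmplitudeAt f (-((-a').toNat : ℤ)) 0 (DerSch.unitCx X) x :=
    ⟨T, fun i hi => hT i (by omega), hTf, eT⟩
  let φ := (f.stalkMap x).hom
  have hB : DRing.HasTorAmplitudeIn (Y.presheaf.stalk (f.base x)) (-((-a').toNat : ℤ)) 0
      (Dual.inD _ ((ModuleCat.restrictScalars.{u} φ).obj (ModuleCat.of (X.presheaf.stalk x) (X.presheaf.stalk x)))) := by
    refine Groth.Agent.FlatCx12.TorAmpComp.amp_iso ?_ hu'
    let u₀ : (DerSch.stalkFunctor X x).obj (Coh.structureModule X) ≅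
        ModuleCat.of (X.presheaf.stalk x) (X.presheaf.stalk x) :=
      (Groth.Agent.EGA43.FibDepth.unitStalkEquiv x).toModuleIso.symm
    exact DerivedCategory.Q.mapIso
        ((HomologicalComplex.singleMapHomologicalComplex (DerSch.stalkOver f x) (ComplexShape.up ℤ) 0).app _) ≪≫
      ((DerivedCategory.singleFunctorIsoCompQ _ 0).app _).symm ≪≫
      (DerivedCategory.singleFunctor _ 0).mapIso ((ModuleCat.restrictScalars.{u} φ).mapIso u₀)
  obtain ⟨E, hE, hEf, ⟨e⟩⟩ := (Groth.Agent.S6200.amp_stalk_iff F a b x).1 hF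
  refine Groth.Agent.FlatCx12.TorAmpComp.amp_iso ?_
    (Groth.Agent.FlatCx12.TorAmpComp.amp_restrict_cx φ hB E hE hEf)
  exact ((ModuleCat.restrictScalars.{u} φ).mapDerivedCategoryFactors.app E).symm ≪≫
    (ModuleCat.restrictScalars.{u} φ).mapDerivedCategory.mapIso e ≪≫
    (ModuleCat.restrictScalars.{u} φ).mapDerivedCategoryFactors.app _ ≪≫
    DerivedCategory.Q.mapIso (HomologicalComplex.Hom.isoOfComponents (fun i => Iso.refl _)
      (fun p q _ => (Category.id_comp _).trans (Category.comp_id _).symm))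

open Groth.Agent.Dual22Lib.RelAmpStalk

/-- Let f : X ⟶ Y be quasi-compact, quasi-separated and locally of finite tor dimension (the structure
sheaf of X is locally of finite tor amplitude relative to f, stalkwise), the derived direct image
being assumed to exist, and let E ∈ D(O_X), given by a cochain complex F, have bounded
quasi-coherent cohomology. If E is locally of finite tor dimension in the absolute sense on X, then
Rf_* E is locally of finite tor dimension in the absolute sense on Y. -/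
theorem result {X Y : Scheme.{u}} (f : X ⟶ Y) [QuasiCompact f] [QuasiSeparated f]
    [DCoh.HasRpush f] (hf : DerSch.LocFiniteTorDim f) (F : CochainComplex X.Modules ℤ)
    (hqc : DCoh.IsQCohD (DCoh.toD X F)) (c d : ℤ) [(DCoh.toD X F).IsGE c] [(DCoh.toD X F).IsLE d]
    (hE : DCoh.LocHasFiniteTorDim (DCoh.toD X F)) :
    DCoh.LocHasFiniteTorDim ((DCoh.Rpush f).obj (DCoh.toD X F)) := by
  have hF : DerSch.LocFiniteTorAmplitude (f ≫ 𝟙 Y) F := fun x => by
    obtain ⟨V, a, b, hx, hV⟩ := hE x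
    obtain ⟨W, a', b', hxW, hW⟩ := hf x
    obtain ⟨C, hC, hCf, ⟨eC⟩⟩ := hV F ⟨Iso.refl _⟩
    refine ⟨V ⊓ W, a - (-a').toNat, b, ⟨hx, hxW⟩, fun x' hx' => amp_congr_hom (Category.comp_id f).symm ?_⟩
    refine amp_comp f F x' (hW x' hx'.2) ?_
    refine (amp_restrict_iff (𝟙 X) V.ι F a b ⟨x', hx'.1⟩).1 ?_
    refine amp_congr_hom ((Category.id_comp _).trans (Category.comp_id V.ι).symm) ((amp_post_iff (𝟙 _) V.ι _ a b _).2 ?_)
    exact Groth.Agent.FlatCx12.PushStalk.amp_of_flat_terms (𝟙 _) hC hCf eC _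
  intro y
  obtain ⟨G₀, ⟨eG₀⟩⟩ : ∃ G, Nonempty (DCoh.toD Y G ≅ (DCoh.Rpush f).obj (DCoh.toD X F)) :=
    ⟨DerivedCategory.Q.objPreimage _, ⟨DerivedCategory.Q.objObjPreimageIso _⟩⟩
  obtain ⟨U, a, b, hy, hU⟩ := Groth.Agent.Dual22Lib.RelAmpPush.locAmp_push (𝟙 Y) f F hqc hF G₀ eG₀ y
  refine ⟨U, a, b, hy, fun G ⟨eG⟩ => ?_⟩
  let G' := ((Scheme.Modules.restrictFunctor U.ι).mapHomologicalComplex (ComplexShape.up ℤ)).obj G
  have hG' : DerSch.HasTorAmplitude (𝟙 _) a b G' := fun u => by
    refine (amp_post_iff (𝟙 _) U.ι G' a b u).1 ?_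
    refine amp_congr_hom ((Category.comp_id U.ι).trans (Category.id_comp _).symm) ((amp_restrict_iff (𝟙 Y) U.ι G a b u).2 ?_)
    exact Groth.Agent.FlatCx12.AmpThick.amp_congr _ _ (eG₀ ≪≫ eG.symm) (hU _ u.2)
  haveI := Groth.Agent.Dual22Lib.RelAmpPush.isLE_of_amp _ G' hG'
  exact (Groth.Agent.S6200.result G' b a b).2 hG'

end Groth.Agent.S6193
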