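import Groth.Statements.S6195
import Groth.Agent.KSix16.StalkIsoNhd
-- import your own Groth.Agent.* helpers here

set_option linter.style.haveILetI false
set_option backward.isDefEq.respectTransparency false
set_option synthInstance.maxHeartbeats 100000
set_option autoImplicit false
universe u
open CategoryTheory CategoryTheory.Limits AlgebraicGeometry
attribute [local instance] HasDerivedCategory.standard
open KSix

namespace Groth.Agent.S6195

/-- Let X be a scheme, x ∈ X, and E, F cochain complexes of O_X-modules whose images in D(O_X) have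
bounded cohomology and are pseudo-coherent. If the complexes of stalks E_x and F_x are isomorphic in
the derived category of the local ring of X at x, then x has an open neighbourhood U over which the
restrictions of E and F become isomorphic in D(O_U). (The published statement is for a point of a
ringed topos; this row is the case of schemes.) -/
theorem result {X : Scheme.{u}} (x : X)
    (E F : CochainComplex X.Modules ℤ) (c d : ℤ) [(DCoh.toD X E).IsGE c] [(DCoh.toD X E).IsLE d]
    [(DCoh.toD X F).IsGE c] [(DCoh.toD X F).IsLE d]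
    (hE : ∀ m : ℤ, DCoh.IsPseudoCoherentD m (DCoh.toD X E)) (hF : ∀ m : ℤ, DCoh.IsPseudoCoherentD m (DCoh.toD X F))
    (hx : Nonempty (DRing.toD (((DerSch.stalkFunctor X x).mapHomologicalComplex (ComplexShape.up ℤ)).obj E) ≅ DRing.toD (((DerSch.stalkFunctor X x).mapHomologicalComplex (ComplexShape.up ℤ)).obj F))) :
    ∃ U : X.Opens, x ∈ U ∧
      Nonempty (DerivedCategory.Q.obj ((DCoh.restrictCx U).obj E) ≅ DerivedCategory.Q.obj ((DCoh.restrictCx U).obj F)) := by
  obtain ⟨ex⟩ := hx
  obtain ⟨U, hU, hxU, -⟩ := exists_isAffineOpen_mem_and_subset (x := x) (U := (⊤ : X.Opens)) trivial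
  let k : Spec Γ(X, U) ⟶ X := hU.fromSpec
  obtain ⟨y, hy⟩ : ∃ y, k y = x := by
    have : x ∈ Set.range hU.fromSpec := by rw [hU.range_fromSpec]; exact hxU
    exact this
  subst hy
  haveI := Groth.Agent.DCat.PullPerf.preservesFiniteLimits_restrict k
  let σ := (k.stalkMap y).hom
  have hσ : σ.Flat := RingHom.Flat.of_bijective (ConcreteCategory.bijective_of_isIso (k.stalkMap y))
  haveI := ModuleCat.preservesFiniteLimits_extendScalars_of_flat hσ
  let Fe := ModuleCat.extendScalars.{u, u, u} σ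
  haveI : PreservesColimitsOfSize.{0, 0} Fe :=
    (ModuleCat.extendRestrictScalarsAdj.{u, u, u} σ).leftAdjoint_preservesColimits
  let R := (Scheme.Modules.restrictFunctor k).mapHomologicalComplex (ComplexShape.up ℤ)
  let T := DerSch.stalkFunctor X (k y)
  let T' := DerSch.stalkFunctor (Spec Γ(X, U)) y
  have key : ∀ G : CochainComplex X.Modules ℤ, Nonempty (T'.mapDerivedCategory.obj
      ((Groth.Agent.DCat.PerfLocal.rd k).obj (DCoh.toD X G)) ≅
      Fe.mapDerivedCategory.obj (DRing.toD ((T.mapHomologicalComplex (ComplexShape.up ℤ)).obj G))) := fun G =>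
    ⟨T'.mapDerivedCategory.mapIso ((Scheme.Modules.restrictFunctor k).mapDerivedCategoryFactors.app G) ≪≫
      T'.mapDerivedCategoryFactors.app (R.obj G) ≪≫
      DerivedCategory.Q.mapIso ((NatIso.mapHomologicalComplex (Groth.Agent.KSix16.StalkIsoNhd.stalkRestrictIso k y)
        (ComplexShape.up ℤ)).app G) ≪≫
      (Fe.mapDerivedCategoryFactors.app ((T.mapHomologicalComplex (ComplexShape.up ℤ)).obj G)).symm⟩
  obtain ⟨a⟩ := key E
  obtain ⟨b⟩ := key F
  have hge : ∀ G : DCoh.D X, G.IsGE c → ((Groth.Agent.DCat.PerfLocal.rd k).obj G).IsGE c := fun G hG => by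
    rw [DerivedCategory.isGE_iff]
    exact fun i hi => ((Scheme.Modules.restrictFunctor k).map_isZero (DerivedCategory.isZero_of_isGE G c i hi)).of_iso
      (Groth.Agent.DCat.SuppOpen.hdMapIso _ G i)
  obtain ⟨W, j, _, ⟨w, hw⟩, ⟨e⟩⟩ := Groth.Agent.KSix16.StalkIsoNhd.exists_nhd_iso_affine y _ _ c d
    (hge _ inferInstance) (Groth.Agent.DCat.PerfLocal.isLE_rd k _ d inferInstance)
    (hge _ inferInstance) (Groth.Agent.DCat.PerfLocal.isLE_rd k _ d inferInstance)
    (fun m => Groth.Agent.DQCoh.psc_rd k (hE m)) (fun m => Groth.Agent.DQCoh.psc_rd k (hF m))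
    ⟨a ≪≫ Fe.mapDerivedCategory.mapIso ex ≪≫ b.symm⟩
  let U₂ : X.Opens := (j ≫ k).opensRange
  have hrange : Set.range U₂.ι ⊆ Set.range (j ≫ k) := by
    rintro _ ⟨⟨z, hz⟩, rfl⟩
    exact hz
  let l : U₂.toScheme ⟶ W := IsOpenImmersion.lift (j ≫ k) U₂.ι hrange
  have hl : l ≫ j ≫ k = U₂.ι := IsOpenImmersion.lift_fac (j ≫ k) U₂.ι hrange
  haveI : IsOpenImmersion l := @IsOpenImmersion.of_comp _ _ _ l (j ≫ k) _ (hl ▸ inferInstance)
  have conv : ∀ G : CochainComplex X.Modules ℤ, Nonempty ((Groth.Agent.DCat.PerfLocal.rd l).obj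
      ((Groth.Agent.DCat.PerfLocal.rd j).obj ((Groth.Agent.DCat.PerfLocal.rd k).obj (DCoh.toD X G))) ≅
      DerivedCategory.Q.obj ((DCoh.restrictCx U₂).obj G)) := fun G => by
    obtain ⟨c⟩ := Groth.Agent.Dual22Lib.RdComp.rd_congr (l ≫ j ≫ k) hl (DCoh.toD X G)
    exact ⟨(Groth.Agent.DCat.PerfLocal.rd l).mapIso ((Groth.Agent.Dual22Lib.RdComp.rdCompIso j k).app (DCoh.toD X G)) ≪≫
      (Groth.Agent.Dual22Lib.RdComp.rdCompIso l (j ≫ k)).app (DCoh.toD X G) ≪≫ c ≪≫
      (Scheme.Modules.restrictFunctor U₂.ι).mapDerivedCategoryFactors.app G⟩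
  obtain ⟨u⟩ := conv E
  obtain ⟨v⟩ := conv F
  exact ⟨U₂, ⟨w, by rw [Scheme.Hom.comp_apply, hw]⟩,
    ⟨u.symm ≪≫ (Groth.Agent.DCat.PerfLocal.rd l).mapIso e ≪≫ v⟩⟩

end Groth.Agent.S6195
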