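import Groth.Statements.S6197
import Groth.Agent.FlatCx12.AmpStalks
-- import your own Groth.Agent.* helpers here

set_option autoImplicit false
universe u
open CategoryTheory CategoryTheory.Limits AlgebraicGeometry
attribute [local instance] HasDerivedCategory.standard
open KSix

namespace Groth.Agent.S6197

/-- Let i : X ⟶ X' be a closed immersion, f' : X' ⟶ Y smooth, f = i ≫ f', and F a cochain complex of
O_X-modules. Then F is locally of finite tor amplitude relative to f (stalkwise form) if and only if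
the termwise direct image i_* F is locally of finite tor dimension in the absolute sense on X'. -/
theorem result {X X' Y : Scheme.{u}} (i : X ⟶ X')
    [IsClosedImmersion i] (f' : X' ⟶ Y) [Smooth f'] (F : CochainComplex X.Modules ℤ) :
    DerSch.LocFiniteTorAmplitude (i ≫ f') F ↔
      DCoh.LocHasFiniteTorDim (DCoh.toD X' (((Scheme.Modules.pushforward i).mapHomologicalComplex (ComplexShape.up ℤ)).obj F)) := by
  refine ⟨Groth.Agent.FlatCx12.AmpStalks.locHasFiniteTorDim_push i f' F, fun h x => ?_⟩
  obtain ⟨V, a, b, hxV, hV⟩ := h (i x)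
  obtain ⟨E, hE, hEf, ⟨e⟩⟩ := hV _ ⟨Iso.refl _⟩
  refine ⟨i ⁻¹ᵁ V, a, b, hxV, fun z hz =>
    (Groth.Agent.FlatCx12.PushStalk.amp_push_iff i f' F a b z).1 ?_⟩
  have h1 := Groth.Agent.FlatCx12.PushStalk.amp_of_flat_terms (V.ι ≫ f') hE hEf e ⟨i z, hz⟩
  exact Groth.Agent.FlatCx12.PushStalk.amp_of_restrict f' V.ι _ ⟨i z, hz⟩ h1

end Groth.Agent.S6197
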