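import Groth.Statements.S6199
import Groth.Agent.DQCoh.BettiPerf
-- import your own Groth.Agent.* helpers here

set_option autoImplicit false
universe u
open CategoryTheory CategoryTheory.Limits AlgebraicGeometry
attribute [local instance] HasDerivedCategory.standard
open KSix

set_option backward.isDefEq.respectTransparency false
set_option backward.defeqAttrib.useBackward true
set_option backward.isDefEq.respectTransparency.types false
set_option linter.all false
attribute [local instance] HasDerivedCategory.standard
open Groth.Agent.SiteDer16 Groth.Agent.DCat Groth.Agent.Coherent Groth.Agent.DQCoh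

namespace Groth.Agent.S6199

/-- Let X be a scheme, p an integer and E ∈ D⁻(O_X) a (p-1)-pseudo-coherent object. Then, the derived
pullbacks to the points Spec κ(x) ⟶ X being assumed to exist, the function x ↦ dim_{κ(x)} H^p(E ⊗^L
κ(x)) is upper semicontinuous: for every n the set where it is < n is open. (The published statement
also asserts that this function is constructible; that clause is not stated here.) -/
theorem result (X : Scheme.{u})
    [∀ x : X, DCoh.HasLpull (X.fromSpecResidueField x)] (E : DCoh.D X) (d : ℤ) [E.IsLE d] (p : ℤ)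
    (hE : DCoh.IsPseudoCoherentD (p - 1) E) (n : ℕ) :
    IsOpen {x : X | PerfD.betti E x p < n} := by
  rw [isOpen_iff_eventually]
  intro x hx
  obtain ⟨R, _, k, _, M, α, hxk, ⟨P, a, b, hP, hp', ⟨eP⟩⟩, hα⟩ := exists_affine_approx hE x
  obtain ⟨y, rfl⟩ := hxk
  have hformula := betti_formula E k hP hp' (p - 1) ((DCoh.tildeD R).map eP.hom ≫ α)
    ((PullPerf.apx_of_isIso _ _).comp hα) p (by omega)
  haveI := (hp' p).1
  haveI := (hp' (p + 1)).1
  haveI := (hp' (p + 1)).2
  haveI := Module.finitePresentation_of_projective R (P.X (p + 1))
  have h1 := FlatCxLib.upperSemicontinuous_fibreRank (A := R) (P.X p ⧸ LinearMap.range (P.d (p - 1) p).hom) y _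
    (Nat.lt_succ_self _)
  have h2 := FlatCxLib.upperSemicontinuous_fibreRank (A := R) (P.X (p + 1) ⧸ LinearMap.range (P.d p (p + 1)).hom) y _
    (Nat.lt_succ_self _)
  have h3 := (Module.isLocallyConstant_rankAtStalk (R := R) (M := P.X (p + 1))).eventually_eq y
  refine (k.isOpenEmbedding.map_nhds_eq y) ▸ Filter.eventually_map.2 ?_
  filter_upwards [h1, h2, h3] with z hz1 hz2 hz3
  have hy' := hformula y
  have hz' := hformula z
  show PerfD.betti E (k z) p < n
  have hx' : PerfD.betti E (k y) p < n := hx
  have hz3' : Module.rankAtStalk (P.X (p + 1)) z = Module.rankAtStalk (P.X (p + 1)) y := hz3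
  linarith [hy', hz', Nat.lt_succ_iff.1 hz1, Nat.lt_succ_iff.1 hz2, hz3', hx']

end Groth.Agent.S6199
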