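import Groth.Statements.S6203
import Groth.Agent.FlatCx12.RelPCRestrict
-- import your own Groth.Agent.* helpers here

set_option autoImplicit false
universe u
open CategoryTheory CategoryTheory.Limits AlgebraicGeometry
attribute [local instance] HasDerivedCategory.standard
open KSix

namespace Groth.Agent.S6203

open Groth.Agent Groth.Agent.DCat

set_option backward.isDefEq.respectTransparency false

/-- Let f : X ⟶ Y be locally of finite type, n an integer, E a cochain complex of O_X-modules, and (U i)
a family of opens of X with union X such that, for every i, the termwise restriction E|_{U i} is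
n-pseudo-coherent relative to U i ⟶ X ⟶ Y (chart form). Then E is n-pseudo-coherent relative to f. -/
theorem result {X Y : Scheme.{u}} (f : X ⟶ Y) [LocallyOfFiniteType f] (n : ℤ)
    (E : CochainComplex X.Modules ℤ) {ι : Type u} (U : ι → X.Opens) (hU : ⨆ i, U i = ⊤)
    (h : ∀ i : ι, DerSch.IsPseudoCoherentRel ((U i).ι ≫ f) n (DCoh.toD (U i : Scheme.{u}) ((DCoh.restrictCx (U i)).obj E))) :
    DerSch.IsPseudoCoherentRel f n (DCoh.toD X E) := by
  refine Groth.Agent.FlatCx12.RelPCRestrict.rel_of_cover f n _ (fun i => (U i).ι) (fun x => ?_) fun i => ?_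
  · obtain ⟨i, hi⟩ := TopologicalSpace.Opens.mem_iSup.1 ((hU ▸ trivial : x ∈ ⨆ i, U i))
    exact ⟨i, ⟨x, hi⟩, rfl⟩
  · let e : (PerfLocal.rd (U i).ι).obj (DCoh.toD X E) ≅
        DCoh.toD (U i : Scheme.{u}) ((DCoh.restrictCx (U i)).obj E) :=
      (Scheme.Modules.restrictFunctor (U i).ι).mapDerivedCategoryFactors.app E
    have h' := h i
    rw [Groth.Agent.FlatCx12.RelPCOps.rel_iff_chart] at h' ⊢
    exact fun c => PCTriangle.psc_iso (c.fn.mapIso e.symm) (h' c)

end Groth.Agent.S6203
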