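import Groth.Statements.S6207
import Groth.Agent.FlatCx12.RelPCTri
-- import your own Groth.Agent.* helpers here

set_option autoImplicit false
universe u
open CategoryTheory CategoryTheory.Limits AlgebraicGeometry
attribute [local instance] HasDerivedCategory.standard
open KSix

namespace Groth.Agent.S6207

open Groth.Agent Groth.Agent.DCat Groth.Agent.FlatCx12.RelPCOps

set_option backward.isDefEq.respectTransparency false

/-- Suppose g : Y ⟶ Z is locally of finite type and pseudo-coherent (meaning O_Y, placed in degree 0, is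
n-pseudo-coherent relative to g for each integer n). Fix an integer r and an object E of D(O_Y)
whose cohomology is bounded above. Then absolute r-pseudo-coherence of E on Y holds exactly when E
is r-pseudo-coherent relative to g (chart form). -/
theorem result {Y Z : Scheme.{u}} (g : Y ⟶ Z)
    [LocallyOfFiniteType g] (hg : ∀ n : ℤ, DerSch.IsNPseudoCoherent g n) (r b : ℤ) (E : DCoh.D Y) [E.IsLE b] :
    DCoh.IsPseudoCoherentD r E ↔ DerSch.IsPseudoCoherentRel g r E := by
  rw [rel_iff_chart]
  have key : ∀ c : Chart g, DCoh.IsPseudoCoherentD r (c.fn.obj E) ↔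
      DCoh.IsPseudoCoherentD r ((PerfLocal.rd (c.U : Y.Opens).ι).obj E) := fun c =>
    Groth.Agent.FlatCx12.EmbPush.psc_pd_iff c.imm c.imm.isClosedEmbedding (fun k =>
      PCTriangle.psc_iso
        (Groth.Agent.FlatCx12.RelPCTri.fnSingleIso c (Coh.structureModule Y) ≪≫
          (DerivedCategory.singleFunctor _ 0).mapIso ((Scheme.Modules.pushforward c.imm).mapIso
            (Scheme.Modules.restrictUnitIso (c.U : Y.Opens).ι)))
        ((rel_iff_chart k _).1 (hg k) c)) r _
  refine ⟨fun h c => (key c).2 (DQCoh.psc_rd _ h), fun h => DQCoh.psc_of_local _ fun x => ?_⟩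
  obtain ⟨U, V, hle, hxU⟩ := exists_affine_pair g x
  algebraize [(g.appLE V U hle).hom]
  obtain ⟨k, π, hπ⟩ := Algebra.FiniteType.iff_quotient_mvPolynomial''.1
    (show Algebra.FiniteType Γ(Z, V) Γ(Y, U) from g.finiteType_appLE V.2 U.2 hle)
  let c : Chart g := ⟨U, V, hle, k, π.toRingHom, hπ, RingHom.ext fun a => π.commutes a⟩
  exact ⟨_, U.1.ι, inferInstance, by simpa using hxU, (key c).1 (h c)⟩

end Groth.Agent.S6207
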