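import Groth.Statements.S6209
import Groth.Agent.FlatCx12.RelPCCompBound
import Groth.Agent.FlatCx12.RelPCFlatBCScheme

set_option autoImplicit false
universe u
open CategoryTheory CategoryTheory.Limits AlgebraicGeometry
attribute [local instance] HasDerivedCategory.standard
open KSix

namespace Groth.Agent.S6209

/-- Let f : X ⟶ Y and g : Y ⟶ Z be locally of finite type, with f r-pseudo-coherent and g
s-pseudo-coherent (O_X, resp. O_Y, placed in degree 0 is r-, resp. s-pseudo-coherent relative to f,
resp. g, in chart form). Then f ≫ g is max(r, s)-pseudo-coherent. -/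
theorem result {X Y Z : Scheme.{u}} (f : X ⟶ Y) (g : Y ⟶ Z)
    [LocallyOfFiniteType f] [LocallyOfFiniteType g] (r s : ℤ)
    (hf : DerSch.IsNPseudoCoherent f r) (hg : DerSch.IsNPseudoCoherent g s) :
    DerSch.IsNPseudoCoherent (f ≫ g) (max r s) := by
  haveI : (DCoh.toD X (DerSch.unitCx X)).IsLE 0 :=
    DerivedCategory.TStructure.t.isLE_of_iso
      ((DerivedCategory.singleFunctorIsoCompQ X.Modules 0).app (Coh.structureModule X)) 0
  exact Groth.Agent.FlatCx12.RelPCCompBound.rel_comp_bound (r := r) (b := 0) (s := s) f g hg (le_max_left r s)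
    (by have := le_max_right r s; omega) hf

end Groth.Agent.S6209
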