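import Groth.Statements.S6212
import Groth.Agent.KSix16.AmpNhd
-- import your own Groth.Agent.* helpers here

set_option linter.style.haveILetI false
set_option backward.isDefEq.respectTransparency false
set_option synthInstance.maxHeartbeats 100000
set_option autoImplicit false
universe u
open CategoryTheory CategoryTheory.Limits AlgebraicGeometry
attribute [local instance] HasDerivedCategory.standard
open KSix

namespace Groth.Agent.S6212

/-- Let f : X ⟶ Y be locally of finite type, F a cochain complex of O_X-modules, a and b integers and x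
a point of X. The following are equivalent: (i) on some open neighbourhood U of x, F|_U has perfect
amplitude in [a, b] relative to U ⟶ Y (pseudo-coherent relative to the morphism in chart form, and
of tor amplitude in [a, b] stalkwise over the local rings of Y); (ii) on some open neighbourhood U
of x, F|_U is (a-1)-pseudo-coherent relative to U ⟶ Y and its cohomology sheaves vanish outside [a,
b], and the complex of stalks F_x over the local ring of Y at f x has tor amplitude in [a, b]. -/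
theorem result {X Y : Scheme.{u}} (f : X ⟶ Y)
    [LocallyOfFiniteType f] (F : CochainComplex X.Modules ℤ) (a b : ℤ) (x : X) :
    (∃ U : X.Opens, x ∈ U ∧ DerSch.HasPerfAmplitudeRel (U.ι ≫ f) a b ((DCoh.restrictCx U).obj F)) ↔
      ((∃ U : X.Opens, x ∈ U ∧
          DerSch.IsPseudoCoherentRel (U.ι ≫ f) (a - 1) (DCoh.toD (U : Scheme.{u}) ((DCoh.restrictCx U).obj F)) ∧
          ∀ i : ℤ, i < a ∨ b < i → IsZero (DCoh.HD (DCoh.toD (U : Scheme.{u}) ((DCoh.restrictCx U).obj F)) i)) ∧
        DerSch.HasTorAmplitudeAt f a b F x) := by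
  have hloc : ∀ U : X.Opens, LocallyOfFiniteType (U.ι ≫ f) := fun U => inferInstance
  constructor
  · rintro ⟨U, hxU, hpc, hamp⟩
    refine ⟨⟨U, hxU, hpc (a - 1), fun i hi => ?_⟩,
      (Groth.Agent.Dual22Lib.RelAmpStalk.amp_restrict_iff f U.ι F a b ⟨x, hxU⟩).1 (hamp ⟨x, hxU⟩)⟩
    rcases hi with hi | hi
    · refine (Groth.Agent.DCat.isZero_HD_toD_iff _ i).2 (Groth.Agent.DCat.exactAt_iff_stalks.1 fun z => ?_)
      obtain ⟨E, hE, -, ⟨eE⟩⟩ := hamp z
      have h1 : ((DerSch.stalkCxOver (U.ι ≫ f) z).obj ((DCoh.restrictCx U).obj F)).ExactAt i := by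
        rw [← Groth.Agent.DCat.isZero_homology_toD_iff]
        refine IsZero.of_iso ?_ ((DerivedCategory.homologyFunctor _ i).mapIso eE.symm)
        rw [Groth.Agent.DCat.isZero_homology_toD_iff]
        exact HomologicalComplex.ExactAt.of_isZero (hE i (Or.inl hi))
      rw [HomologicalComplex.exactAt_iff] at h1 ⊢
      exact (ShortComplex.exact_map_iff_of_faithful _
        (ModuleCat.restrictScalars.{u} ((U.ι ≫ f).stalkMap z).hom)).1 h1
    · haveI : (DCoh.toD (U : Scheme.{u}) ((DCoh.restrictCx U).obj F)).IsLE b :=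
        Groth.Agent.Dual22Lib.RelAmpPush.isLE_of_amp _ _ hamp
      exact DerivedCategory.isZero_of_isLE _ b i hi
  · rintro ⟨⟨U, hxU, hpc, hH⟩, hamp⟩
    haveI := hloc U
    obtain ⟨W, j, _, ⟨w, hw⟩, hW, hWa⟩ := Groth.Agent.KSix16.AmpNhd.exists_nhd_perfAmpRel (U.ι ≫ f)
      ((DCoh.restrictCx U).obj F) hpc hH ⟨x, hxU⟩
      ((Groth.Agent.Dual22Lib.RelAmpStalk.amp_restrict_iff f U.ι F a b ⟨x, hxU⟩).2 hamp)
    let U₂ : X.Opens := (j ≫ U.ι).opensRange
    have hrange : Set.range U₂.ι ⊆ Set.range (j ≫ U.ι) := by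
      rintro _ ⟨⟨y, hy⟩, rfl⟩
      exact hy
    let l : U₂.toScheme ⟶ W := IsOpenImmersion.lift (j ≫ U.ι) U₂.ι hrange
    have hl : l ≫ j ≫ U.ι = U₂.ι := IsOpenImmersion.lift_fac (j ≫ U.ι) U₂.ι hrange
    haveI : IsOpenImmersion l := @IsOpenImmersion.of_comp _ _ _ l (j ≫ U.ι) _ (hl ▸ inferInstance)
    refine ⟨U₂, ⟨w, by rw [Scheme.Hom.comp_apply, hw]; rfl⟩, fun m => ?_, fun y => ?_⟩
    · have h1 := Groth.Agent.FlatCx12.RelPCRestrict.rel_restrict l (j ≫ U.ι ≫ f) m _ (hW m)
      have e : l ≫ j ≫ U.ι ≫ f = U₂.ι ≫ f := by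
        simp only [← Category.assoc]
        rw [Category.assoc l j U.ι, hl]
      rw [e] at h1
      let φ := (Scheme.Modules.restrictFunctor U.ι).mapDerivedCategoryFactors.app F
      let φ₂ := (Scheme.Modules.restrictFunctor U₂.ι).mapDerivedCategoryFactors.app F
      obtain ⟨c⟩ := Groth.Agent.Dual22Lib.RdComp.rd_congr (l ≫ j ≫ U.ι) hl (DCoh.toD X F)
      exact Groth.Agent.FlatCx12.RelPCFlatBC.rel_iso
        ((Groth.Agent.DCat.PerfLocal.rd l).mapIso ((Groth.Agent.DCat.PerfLocal.rd j).mapIso φ.symm ≪≫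
          (Groth.Agent.Dual22Lib.RdComp.rdCompIso j U.ι).app (DCoh.toD X F)) ≪≫
          (Groth.Agent.Dual22Lib.RdComp.rdCompIso l (j ≫ U.ι)).app (DCoh.toD X F) ≪≫ c ≪≫ φ₂) h1
    · obtain ⟨w', hw'⟩ := y.2
      refine (Groth.Agent.Dual22Lib.RelAmpStalk.amp_restrict_iff f U₂.ι F a b y).2 ?_
      have := (Groth.Agent.Dual22Lib.RelAmpStalk.amp_restrict_iff f U.ι F a b (j w')).1 (hWa w')
      convert this using 1
      exact hw'.symm

end Groth.Agent.S6212
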