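import Groth.Statements.S6213
import Groth.Agent.FlatCx12.RelPCFlatModule
import Groth.Agent.FlatCx12.RelPCFlatBCScheme

set_option autoImplicit false
universe u
open CategoryTheory CategoryTheory.Limits AlgebraicGeometry
attribute [local instance] HasDerivedCategory.standard
open KSix

namespace Groth.Agent.S6213

lemma flat_of_amp_single {R : Type u} [CommRing R] (C : DRing.Cx R) (M : ModuleCat.{u} R)
    (e : C ≅ (HomologicalComplex.single (ModuleCat.{u} R) (ComplexShape.up ℤ) 0).obj M)
    (h : DRing.HasTorAmplitudeIn R 0 0 (DRing.toD C)) : Module.Flat R M := by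
  obtain ⟨E, hE, hEf, ⟨i⟩⟩ := h
  have hz : ∀ n : ℤ, n ≠ 0 → IsZero (E.X n) := fun n hn => hE n (by omega)
  haveI : CochainComplex.IsStrictlyGE E 0 := (CochainComplex.isStrictlyGE_iff _ _).2 fun n hn => hz n (by omega)
  haveI : CochainComplex.IsStrictlyLE E 0 := (CochainComplex.isStrictlyLE_iff _ _).2 fun n hn => hz n (by omega)
  obtain ⟨N, ⟨j⟩⟩ := CochainComplex.exists_iso_single E 0
  haveI : Module.Flat R N :=
    haveI : Module.Flat R (E.X 0) := hEf 0
    let eA : E.X 0 ≅ N :=
      HomologicalComplex.Hom.isoApp j 0 ≪≫ HomologicalComplex.singleObjXSelf (ComplexShape.up ℤ) 0 N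
    Module.Flat.of_linearEquiv eA.toLinearEquiv.symm
  let k : (DerivedCategory.singleFunctor (ModuleCat.{u} R) 0).obj N ≅
      (DerivedCategory.singleFunctor (ModuleCat.{u} R) 0).obj M :=
    (DerivedCategory.singleFunctorIsoCompQ _ 0).app N ≪≫ DerivedCategory.Q.mapIso j.symm ≪≫ i ≪≫
      DerivedCategory.Q.mapIso e ≪≫ ((DerivedCategory.singleFunctorIsoCompQ _ 0).app M).symm
  exact Module.Flat.of_linearEquiv ((DerivedCategory.singleFunctor (ModuleCat.{u} R) 0).preimageIso k).toLinearEquiv.symm

/-- Let f : X ⟶ Y be locally of finite type and M an O_X-module. Then M placed in degree 0 has perfect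
amplitude in [0, 0] relative to f (pseudo-coherent relative to f in chart form and of stalkwise tor
amplitude in [0, 0] over the local rings of Y) if and only if M is flat over Y at every point of X
and M placed in degree 0 is (-1)-pseudo-coherent relative to f (that is, finitely presented relative
to f). -/
theorem result {X Y : Scheme.{u}} (f : X ⟶ Y)
    [LocallyOfFiniteType f] (M : X.Modules) :
    DerSch.HasPerfAmplitudeRel f 0 0 ((HomologicalComplex.single _ (ComplexShape.up ℤ) 0).obj M) ↔
      (FlatMod.IsFlatOver f M ∧ DerSch.IsPseudoCoherentRel f (-1) (DCoh.toD X ((HomologicalComplex.single _ (ComplexShape.up ℤ) 0).obj M))) := by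
  constructor
  · rintro ⟨hpc, hamp⟩
    refine ⟨fun x => ?_, hpc (-1)⟩
    exact flat_of_amp_single _ ((DerSch.stalkOver f x).obj M)
      ((HomologicalComplex.singleMapHomologicalComplex (DerSch.stalkOver f x) (ComplexShape.up ℤ) 0).app M) (hamp x)
  · rintro ⟨hfl, hfp⟩
    refine ⟨fun m => Groth.Agent.FlatCx12.RelPCFlatBC.rel_iso
      ((DerivedCategory.singleFunctorIsoCompQ X.Modules 0).app M)
      (Groth.Agent.FlatCx12.RelPCFlatModule.rel_all_of_flat f M hfl
        (Groth.Agent.FlatCx12.RelPCFlatBC.rel_iso
          ((DerivedCategory.singleFunctorIsoCompQ X.Modules 0).app M).symm hfp) m), fun x => ?_⟩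
    haveI : Module.Flat (Y.presheaf.stalk (f.base x)) ((DerSch.stalkOver f x).obj M) := hfl x
    refine ⟨(HomologicalComplex.single _ (ComplexShape.up ℤ) 0).obj ((DerSch.stalkOver f x).obj M),
      fun i hi => HomologicalComplex.isZero_single_obj_X _ _ _ _ (by omega), fun i => ?_,
      ⟨DerivedCategory.Q.mapIso
        ((HomologicalComplex.singleMapHomologicalComplex (DerSch.stalkOver f x) (ComplexShape.up ℤ) 0).app M).symm⟩⟩
    by_cases hi : i = 0
    · subst hi
      exact Module.Flat.of_linearEquiv
        (HomologicalComplex.singleObjXSelf (ComplexShape.up ℤ) 0 ((DerSch.stalkOver f x).obj M)).toLinearEquiv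
    · haveI := ModuleCat.subsingleton_of_isZero
        (HomologicalComplex.isZero_single_obj_X (ComplexShape.up ℤ) 0 ((DerSch.stalkOver f x).obj M) i hi)
      infer_instance

end Groth.Agent.S6213
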