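import Groth.Statements.S6225
import Groth.Agent.FlatCx12.RelPCModule
import Groth.Agent.Flatn12.RelFPScheme
import Groth.Agent.FlatCx12.RelDescScheme
import Groth.Agent.QCohLoc.Unit


set_option autoImplicit false
universe u
open CategoryTheory CategoryTheory.Limits AlgebraicGeometry
attribute [local instance] HasDerivedCategory.standard
open KSix

namespace Groth.Agent.S6225

open Opposite

open Groth.Agent.FlatCx12 in
lemma rel_iso {X Y : Scheme.{u}} {f : X ⟶ Y} [LocallyOfFiniteType f] {m : ℤ} {K L : DCoh.D X} (e : K ≅ L)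
    (h : DerSch.IsPseudoCoherentRel f m K) : DerSch.IsPseudoCoherentRel f m L := by
  rw [Groth.Agent.FlatCx12.RelPC.rel_iff] at h
  rw [Groth.Agent.FlatCx12.RelPC.rel_iff]
  exact fun U V hle => RelDescScheme.testOn_iso e U.2 (h U V hle)

lemma relFP_self_iff (R S : Type u) [CommRing R] [CommRing S] [Algebra R S] :
    FlatCA.RelFinitePresentation R S S ↔ Algebra.FinitePresentation R S := by
  constructor
  · rintro ⟨n, φ, hφ, h⟩
    letI : Module (MvPolynomial (Fin n) R) S := Module.compHom S φ.toRingHom
    let g : MvPolynomial (Fin n) R →ₗ[MvPolynomial (Fin n) R] S :=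
      { toFun := φ, map_add' := map_add φ, map_smul' := fun a b => map_mul φ a b }
    exact Algebra.FinitePresentation.of_surjective hφ (Module.FinitePresentation.fg_ker g hφ)
  · intro h
    obtain ⟨n, φ, hφ, hker⟩ := Algebra.FinitePresentation.out (R := R) (A := S)
    refine ⟨n, φ, hφ, ?_⟩
    letI : Module (MvPolynomial (Fin n) R) S := Module.compHom S φ.toRingHom
    let g : MvPolynomial (Fin n) R →ₗ[MvPolynomial (Fin n) R] S :=
      { toFun := φ, map_add' := map_add φ, map_smul' := fun a b => map_mul φ a b }
    exact Module.finitePresentation_of_surjective g hφ hker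

/-- Last assertion: a morphism f : X ⟶ Y locally of finite type is (-1)-pseudo-coherent (O_X placed in
degree 0 is (-1)-pseudo-coherent relative to f, in chart form) if and only if f is locally of finite
presentation. -/
theorem result {X Y : Scheme.{u}} (f : X ⟶ Y) [LocallyOfFiniteType f] :
    DerSch.IsNPseudoCoherent f (-1) ↔ LocallyOfFinitePresentation f := by
  have e := (DerivedCategory.singleFunctorIsoCompQ X.Modules 0).app (Coh.structureModule X)
  have hiso : DerSch.IsNPseudoCoherent f (-1) ↔
      DerSch.IsPseudoCoherentRel f (-1) (DCoh.inD X (Coh.structureModule X)) :=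
    ⟨rel_iso e.symm, rel_iso e⟩
  rw [hiso, (Groth.Agent.FlatCx12.RelPCModule.rel_module_iff f _).2.2]
  have := Groth.Agent.QCohLoc.isQCoh_structureModule X
  constructor
  · rintro ⟨_, h⟩
    rw [Groth.Agent.Flatn12.isRelFP_iff_forall f (Coh.structureModule X)] at h
    rw [HasRingHomProperty.iff_appLE (P := @LocallyOfFinitePresentation)]
    intro U V e
    letI := (f.appLE (U : Y.Opens) (V : X.Opens) e).hom.toAlgebra
    exact (relFP_self_iff Γ(Y, (U : Y.Opens)) Γ(X, (V : X.Opens))).1 (h V U e)
  · intro hf
    refine ⟨inferInstance, Groth.Agent.Flatn12.isRelFP_of_forall f _ fun U V h => ?_⟩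
    letI := (f.appLE (V : Y.Opens) (U : X.Opens) h).hom.toAlgebra
    exact (relFP_self_iff Γ(Y, (V : Y.Opens)) Γ(X, (U : X.Opens))).2
      (Groth.Agent.Flatn12.appLE_fp f U.2 V.2 h)

end Groth.Agent.S6225
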