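import Groth.Statements.S6214
import Groth.Agent.S6213
import Groth.Agent.S6225
import Groth.Agent.EGA43.FibDepth.Unit

set_option autoImplicit false
universe u
open CategoryTheory CategoryTheory.Limits AlgebraicGeometry
attribute [local instance] HasDerivedCategory.standard
open KSix

namespace Groth.Agent.S6214

/-- A morphism f : X ⟶ Y locally of finite type has perfect dimension at most 0 (O_X placed in degree 0
is pseudo-coherent relative to f in chart form and has stalkwise tor amplitude in [0, 0] over the
local rings of Y) if and only if f is flat and locally of finite presentation. -/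
theorem result {X Y : Scheme.{u}} (f : X ⟶ Y) [LocallyOfFiniteType f] :
    DerSch.HasPerfDimLE f 0 ↔ (Flat f ∧ LocallyOfFinitePresentation f) := by
  have key : FlatMod.IsFlatOver f (Coh.structureModule X) ↔ Flat f := by
    rw [Flat.iff_flat_stalkMap]
    exact forall_congr' fun x => Groth.Agent.EGA43.FibDepth.isFlatOverAt_structureModule f x
  have h := Groth.Agent.S6213.result f (Coh.structureModule X)
  have h' := Groth.Agent.S6225.result f
  unfold DerSch.HasPerfDimLE
  simp only [Nat.cast_zero, neg_zero]
  exact h.trans (and_congr key h')

end Groth.Agent.S6214
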