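import Groth.Statements.S6217
import Groth.Agent.FlatCx12.RelPCOps
import Groth.Agent.DQCoh.PerfectTor
import Groth.Agent.S6197
-- import your own Groth.Agent.* helpers here

set_option autoImplicit false
universe u
open CategoryTheory CategoryTheory.Limits AlgebraicGeometry
attribute [local instance] HasDerivedCategory.standard
open KSix
open Groth.Agent

namespace Groth.Agent.S6217

/-- Let i : X ⟶ Y be a closed immersion, g : Y ⟶ S smooth, and F a cochain complex of O_X-modules. Then
F is perfect relative to i ≫ g (pseudo-coherent relative to it in chart form, and locally on X of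
finite stalkwise tor amplitude over the local rings of S) if and only if the termwise direct image
i_* F, which computes Ri_* F, is perfect on Y in the absolute sense. -/
theorem result {X Y S : Scheme.{u}} (i : X ⟶ Y) [IsClosedImmersion i]
    (g : Y ⟶ S) [Smooth g] (F : CochainComplex X.Modules ℤ) :
    DerSch.IsPerfectRel (i ≫ g) F ↔ DCoh.IsPerfect (DCoh.toD Y (((Scheme.Modules.pushforward i).mapHomologicalComplex (ComplexShape.up ℤ)).obj F)) := by
  haveI := Groth.Agent.FlatCx12.RelPCChart.preservesFiniteColimits_iso i
  let e := (Scheme.Modules.pushforward i).mapDerivedCategoryFactors.app F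
  rw [DQCoh.isPerfect_iff_psc_torDim, DerSch.IsPerfectRel, Groth.Agent.S6197.result i g F]
  refine and_congr_left fun _ => forall_congr' fun m => ?_
  rw [FlatCx12.RelPCOps.rel_push_iff i g m, FlatCx12.RelPCOps.rel_iff_psc g m]
  exact ⟨DCat.PCTriangle.psc_iso e, DCat.PCTriangle.psc_iso e.symm⟩

end Groth.Agent.S6217
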