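import Groth.Statements.S6218
import Groth.Agent.FlatCx12.PushStalk
import Groth.Agent.DQCoh.PerfectTor
import Groth.Agent.FlatCx12.RelPCOps

set_option autoImplicit false
universe u
open CategoryTheory CategoryTheory.Limits AlgebraicGeometry
attribute [local instance] HasDerivedCategory.standard
open KSix

namespace Groth.Agent.S6218

/-- Let i : X ⟶ Y be a closed immersion, g : Y ⟶ S smooth, a and b integers, and F a cochain complex of
O_X-modules such that the termwise direct image i_* F has perfect amplitude in [a, b] on Y in the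
absolute sense (locally isomorphic in D to a complex of finite locally free modules placed in [a,
b]). Then F has perfect amplitude in [a, b] relative to i ≫ g (pseudo-coherent relative to it in
chart form, with stalkwise tor amplitude in [a, b] over the local rings of S). -/
theorem result {X Y S : Scheme.{u}} (i : X ⟶ Y) [IsClosedImmersion i]
    (g : Y ⟶ S) [Smooth g] (a b : ℤ) (F : CochainComplex X.Modules ℤ)
    (hF : KSix.HasPerfectAmplitudeIn a b (DCoh.toD Y (((Scheme.Modules.pushforward i).mapHomologicalComplex (ComplexShape.up ℤ)).obj F))) :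
    DerSch.HasPerfAmplitudeRel (i ≫ g) a b F := by
  haveI : PreservesFiniteColimits (Scheme.Modules.pushforward i) :=
    Groth.Agent.FlatCx12.RelPCChart.preservesFiniteColimits_iso i
  refine ⟨fun m => ?_, fun x => ?_⟩
  · have hp : DCoh.IsPerfect (DCoh.toD Y (((Scheme.Modules.pushforward i).mapHomologicalComplex
        (ComplexShape.up ℤ)).obj F)) := fun y => by
      obtain ⟨V, hy, hV⟩ := hF y
      refine ⟨V, hy, fun G hG => ?_⟩
      obtain ⟨C, hC, hf, hi⟩ := hV G hG
      exact ⟨C, ⟨⟨a, b, hC⟩, hf⟩, hi⟩
    refine (Groth.Agent.FlatCx12.RelPCOps.rel_push_iff i g m _).2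
      ((Groth.Agent.FlatCx12.RelPCOps.rel_iff_psc g m _).2 ?_)
    exact Groth.Agent.DCat.PCTriangle.psc_iso ((Scheme.Modules.pushforward i).mapDerivedCategoryFactors.app F).symm
      (Groth.Agent.DQCoh.psc_of_perfect hp m)
  · obtain ⟨V, hy, hV⟩ := hF (i.base x)
    obtain ⟨C, hC, hf, ⟨j⟩⟩ := hV _ ⟨Iso.refl _⟩
    exact (Groth.Agent.FlatCx12.PushStalk.amp_push_iff i g F a b x).1
      (Groth.Agent.FlatCx12.PushStalk.amp_of_restrict g V.ι _ ⟨i.base x, hy⟩
        (Groth.Agent.FlatCx12.PushStalk.amp_of_flat_terms (V.ι ≫ g) hC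
          (fun n => Groth.Agent.DCat.PullPerf.isFlat_of_finLocFree (hf n)) j.symm _))

end Groth.Agent.S6218
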