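import Groth.Statements.S6219
import Groth.Agent.S6190
import Groth.Agent.S4275
import Groth.Agent.FlatCx12.RelPCOps
-- import your own Groth.Agent.* helpers here

set_option autoImplicit false
universe u
open CategoryTheory CategoryTheory.Limits AlgebraicGeometry
attribute [local instance] HasDerivedCategory.standard
open KSix
open scoped ZeroObject

namespace Groth.Agent.S6219

/-- Let i : X ⟶ Y be a closed immersion, g : Y ⟶ S smooth of relative dimension at most d (every point
of Y has an open neighbourhood on which g is smooth of some relative dimension n ≤ d), a and b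
integers, and F a cochain complex of O_X-modules with perfect amplitude in [a, b] relative to i ≫ g
(pseudo-coherent relative to it in chart form, with stalkwise tor amplitude in [a, b] over the local
rings of S). Then the termwise direct image i_* F has perfect amplitude in [a - d, b] on Y in the
absolute sense (locally isomorphic in D to a complex of finite locally free modules placed in [a -
d, b]). -/
theorem result {X Y S : Scheme.{u}} (i : X ⟶ Y) [IsClosedImmersion i]
    (g : Y ⟶ S) [Smooth g] (d : ℕ)
    (hd : ∀ y : Y, ∃ (n : ℕ) (V : Y.Opens), n ≤ d ∧ y ∈ V ∧ SmoothOfRelativeDimension n (V.ι ≫ g))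
    (a b : ℤ) (F : CochainComplex X.Modules ℤ) (hF : DerSch.HasPerfAmplitudeRel (i ≫ g) a b F) :
    KSix.HasPerfectAmplitudeIn (a - d) b (DCoh.toD Y (((Scheme.Modules.pushforward i).mapHomologicalComplex (ComplexShape.up ℤ)).obj F)) := by
  haveI : PreservesFiniteColimits (Scheme.Modules.pushforward i) :=
    Groth.Agent.FlatCx12.RelPCChart.preservesFiniteColimits_iso i
  let G := ((Scheme.Modules.pushforward i).mapHomologicalComplex (ComplexShape.up ℤ)).obj F
  have hflat : DCoh.HasFlatAmplitudeIn (a - d) b (DCoh.toD Y G) := Groth.Agent.S6190.result i g d hd F a b hF.2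
  rcases lt_or_ge b (a - d) with hlt | hge
  · obtain ⟨P, hP, -, ⟨eP⟩⟩ := hflat
    have hz : IsZero (DCoh.toD Y G) := (DerivedCategory.Q.map_isZero
      (show IsZero P by rw [IsZero.iff_id_eq_zero]; ext n : 1; exact (hP n (by omega)).eq_of_src _ _)).of_iso eP.symm
    intro y
    refine ⟨⊤, trivial, fun H ⟨eH⟩ => ⟨0, fun j _ => (HomologicalComplex.eval _ _ j).map_isZero (isZero_zero _),
      fun j => Groth.Agent.DCat.PerfTensor.isFinLocFree_of_isZero
        ((HomologicalComplex.eval _ _ j).map_isZero (isZero_zero _)), ⟨?_⟩⟩⟩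
    exact (((Groth.Agent.DCat.PerfLocal.rd (⊤ : Y.Opens).ι).map_isZero (hz.of_iso eH)).of_iso
      ((Scheme.Modules.restrictFunctor (⊤ : Y.Opens).ι).mapDerivedCategoryFactors.app H).symm).iso
      (DerivedCategory.Q.map_isZero (isZero_zero _))
  refine (Groth.Agent.S4275.result Y _ (a - d) b hge).2 ⟨?_, hflat⟩
  exact Groth.Agent.DCat.PCTriangle.psc_iso ((Scheme.Modules.pushforward i).mapDerivedCategoryFactors.app F)
    ((Groth.Agent.FlatCx12.RelPCOps.rel_iff_psc g _ _).1
      ((Groth.Agent.FlatCx12.RelPCOps.rel_push_iff i g _ _).1 (hF.1 (a - d - 1))))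

end Groth.Agent.S6219
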