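import Groth.Statements.S6229
import Groth.Agent.S6188
import Groth.Agent.FlatCx12.RelDescScheme
import Groth.Agent.FlatCx12.RelPCQCoh
import Groth.Agent.FlatCx12.RelPCCompBound
import Groth.Agent.RelPC.BaseChange
import Groth.Agent.FlatCx12.RelPCFlatBCScheme
-- import your own Groth.Agent.* helpers here

set_option autoImplicit false
universe u
open CategoryTheory CategoryTheory.Limits AlgebraicGeometry
attribute [local instance] HasDerivedCategory.standard
open KSix
open Groth.Agent Groth.Agent.FlatCx12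

namespace Groth.Agent.S6229

/-- Let f : X ⟶ Y and g : Y ⟶ Z be locally of finite type, m a natural number with f of perfect
dimension at most m (O_X placed in degree 0 is pseudo-coherent relative to f in chart form, with
stalkwise tor amplitude in [-m, 0] over the local rings of Y), c and d integers, and G a cochain
complex of O_Y-modules with perfect amplitude in [c, d] relative to g. Then, the derived pullback
Lf^* being assumed to exist, Lf^* G has perfect amplitude in [c - m, d] relative to f ≫ g: every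
cochain complex representing it does. -/
theorem result {X Y Z : Scheme.{u}} (f : X ⟶ Y) (g : Y ⟶ Z)
    [LocallyOfFiniteType f] [LocallyOfFiniteType g] (m : ℕ) (hf : DerSch.HasPerfDimLE f m) [DCoh.HasLpull f] (c d : ℤ)
    (G : CochainComplex Y.Modules ℤ) (hG : DerSch.HasPerfAmplitudeRel g c d G) :
    ∀ F' : CochainComplex X.Modules ℤ, Nonempty (DCoh.toD X F' ≅ (DCoh.Lpull f).obj (DCoh.toD Y G)) →
      DerSch.HasPerfAmplitudeRel (f ≫ g) (c - m) d F' := by
  intro F' hF'
  obtain ⟨hf1, hf2⟩ := hf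
  obtain ⟨hG1, hG2⟩ := hG
  refine ⟨fun k => ?_, S6188.result f g (f ≫ g) rfl m hf2 G c d hG2 F' hF'⟩
  obtain ⟨e⟩ := hF'
  have hn : ∀ n : ℤ, DerSch.IsNPseudoCoherent f n := fun n =>
    RelPCFlatBC.rel_iso ((DerivedCategory.singleFunctorIsoCompQ X.Modules 0).app _).symm (hf1 n)
  have hq : DCoh.IsQCohD (DCoh.toD Y G) := fun i =>
    RelPCQCoh.isQCoh_HD_of_rel g (i - 1) _ (hG1 (i - 1)) i (by omega)
  refine RelPCFlatBC.rel_iso e.symm ?_
  have h := Groth.Agent.FlatCx12.RelPC.rel_iff.1 (hG1 k)
  refine Groth.Agent.FlatCx12.RelPC.rel_of_local fun x => ?_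
  obtain ⟨U, W, V, hUW, hWV, hx⟩ := RelPCCompBound.exists_affine_triple f g x
  have hpc : FlatMorPerfect.RingPC (f.appLE W U hUW).hom := by
    letI := (f.appLE W.1 U.1 hUW).hom.toAlgebra
    obtain ⟨n, π, hπ⟩ := Algebra.FiniteType.iff_quotient_mvPolynomial''.1
      (show Algebra.FiniteType Γ(Y, W.1) Γ(X, U.1) from f.finiteType_appLE W.2 U.2 hUW)
    exact FlatMorPerfect.pcHom_iff.2 ⟨n, π, hπ, Groth.Agent.RelPC.pcs_of_relModuleAll π hπ
      (RelPCComp.relModuleAll_of_nPC f hn U W hUW)⟩
  exact ⟨U, V, _, hx, RelDescScheme.testOn_Lpull f g hq W.2 V.2 U.2 hUW hpc (h W V hWV)⟩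

end Groth.Agent.S6229
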