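import Groth.Statements.S6231
import Groth.Agent.KSix16.ProjRel
import Groth.Agent.Dual22Lib.RelAmpPush
import Groth.Agent.S6235
import Groth.Agent.FlatCx12.RelPCFlatBCScheme
-- import your own Groth.Agent.* helpers here

set_option autoImplicit false
universe u
open CategoryTheory CategoryTheory.Limits AlgebraicGeometry
attribute [local instance] HasDerivedCategory.standard
open KSix

namespace Groth.Agent.S6231

/-- Case of a projective morphism: let S be a quasi-compact scheme, q : Y ⟶ S of finite type, i : X ⟶
P^r_Y a closed immersion with f : X ⟶ Y the composite with the projection, N a natural number such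
that R^i f_* M = 0 for every i above N and every quasi-coherent O_X-module M, a and b integers, and
F a cochain complex of O_X-modules whose class in D(O_X) has bounded cohomology and which has
perfect amplitude in [a, b] relative to f ≫ q : X ⟶ S. Then, Rf_* being assumed to exist, Rf_* F has
perfect amplitude in [a, b + N] relative to q: every cochain complex representing it does. (The
published statement allows any projective S-morphism, a closed immersion into P(M) with M
quasi-coherent of finite type on Y; this row takes M free of rank r + 1.) -/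
theorem result {X Y S : Scheme.{u}} [CompactSpace S]
    (q : Y ⟶ S) [LocallyOfFiniteType q] [QuasiCompact q] (r : ℕ) (i : X ⟶ CohB1.ProjSpaceOver r Y) [IsClosedImmersion i]
    [DCoh.HasRpush (i ≫ CohB1.ProjSpaceOver.toBase r Y)] (N : ℕ)
    (hN : ∀ M : X.Modules, Coh.IsQCoh M → ∀ j : ℤ, (N : ℤ) < j →
      IsZero (DCoh.HD ((DCoh.Rpush (i ≫ CohB1.ProjSpaceOver.toBase r Y)).obj (DCoh.inD X M)) j))
    (F : CochainComplex X.Modules ℤ) (c d : ℤ) [(DCoh.toD X F).IsGE c] [(DCoh.toD X F).IsLE d]
    (a b : ℤ) (hF : DerSch.HasPerfAmplitudeRel ((i ≫ CohB1.ProjSpaceOver.toBase r Y) ≫ q) a b F) :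
    ∀ F' : CochainComplex Y.Modules ℤ,
      Nonempty (DCoh.toD Y F' ≅ (DCoh.Rpush (i ≫ CohB1.ProjSpaceOver.toBase r Y)).obj (DCoh.toD X F)) →
        DerSch.HasPerfAmplitudeRel q a (b + N) F' := by
  rintro F' ⟨e⟩
  haveI := Groth.Agent.RelVALib.isProper_toBase r Y
  exact ⟨fun m => Groth.Agent.FlatCx12.RelPCFlatBC.rel_iso e.symm (Groth.Agent.KSix16.rel_Rpush_proj q r i _ hF.1 m),
    Groth.Agent.Dual22Lib.RelAmpPush.amp_push q (i ≫ CohB1.ProjSpaceOver.toBase r Y) N hN F
      (Groth.Agent.S6235.result _ _ hF.1) c a b hF.2 F' e⟩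

end Groth.Agent.S6231
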