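import Groth.Statements.S7175
import Groth.Agent.FlatCx12.PerfectModule
import Groth.Agent.FlatMorPerfect.Hom
import Groth.Agent.DQCoh.PerfectTor
import Groth.Agent.FlatCx12.RelPCModule

set_option autoImplicit false
set_option backward.isDefEq.respectTransparency false
set_option backward.isDefEq.respectTransparency.types false
set_option synthInstance.maxHeartbeats 400000
universe u
attribute [local instance] HasDerivedCategory.standard
open FlatMor

namespace Groth.Agent.S7175

open AlgebraicGeometry CategoryTheory Limits in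
/-- For a perfect closed immersion i : Z → X, the O_X-module i_* O_Z is a perfect object of D(O_X). -/
theorem result {Z X : Scheme.{u}} (i : Z ⟶ X) [IsClosedImmersion i]
    (hi : MoreMor.IsPerfectMor i) :
    DCoh.IsPerfect (DCoh.inD X ((Coh.push i).obj (Coh.structureModule Z))) := by
  refine Groth.Agent.DQCoh.isPerfect_of_local _ fun x => ?_
  obtain ⟨_, ⟨U, hU, rfl⟩, hxU, -⟩ :=
    X.isBasis_affineOpens.exists_subset_of_mem_open (Set.mem_univ x) isOpen_univ
  refine ⟨_, hU.fromSpec, inferInstance,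
    (by show x ∈ Set.range hU.fromSpec; rw [hU.range_fromSpec]; exact hxU), ?_⟩
  haveI := Groth.Agent.QCohLoc.isQCoh_structureModule Z
  haveI hq : Coh.IsQCoh ((Coh.push i).obj (Coh.structureModule Z)) := Groth.Agent.Coherent.isQCoh_push i _
  let M := (Coh.push i).obj (Coh.structureModule Z)
  haveI := Groth.Agent.Flatn12.isQCoh_restrict_fromSpec' M hU
  let N := moduleSpecΓFunctor.obj (M.restrict hU.fromSpec)
  haveI := Groth.Agent.AffSchLib.preservesFiniteLimits_tilde (R := Γ(X, U))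
  refine Groth.Agent.DCat.PCTriangle.perfect_iso (?_ : (DCoh.tildeD Γ(X, U)).obj (Dual.inD Γ(X, U) N) ≅ _) ?_
  · exact ((tilde.functor Γ(X, U)).mapDerivedCategorySingleFunctor 0).app _ ≪≫
      (DerivedCategory.singleFunctor _ 0).mapIso (asIso (M.restrict hU.fromSpec).fromTildeΓ) ≪≫
      (((Scheme.Modules.restrictFunctor hU.fromSpec).mapDerivedCategorySingleFunctor 0).app M).symm
  refine Groth.Agent.DQCoh.isPerfect_tildeD ?_
  have hperf : (letI := (i.appLE U (i ⁻¹ᵁ U) le_rfl).hom.toAlgebra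
      DRing.IsPerfectModule Γ(X, U) Γ(Z, i ⁻¹ᵁ U)) := by
    let := (i.appLE U (i ⁻¹ᵁ U) le_rfl).hom.toAlgebra
    have h1 := hi (i ⁻¹ᵁ U) U (hU.preimage i) hU le_rfl
    refine (Groth.Agent.FlatCx12.PerfectModule.isPerfectModule_iff _).2 ⟨?_, h1.2⟩
    have hs : Function.Surjective (algebraMap Γ(X, U) Γ(Z, i ⁻¹ᵁ U)) := by
      show Function.Surjective (i.appLE U (i ⁻¹ᵁ U) le_rfl)
      rw [← Scheme.Hom.app_eq_appLE]
      exact i.app_surjective U hU
    let φ : MvPolynomial (Fin 0) Γ(X, U) →ₐ[Γ(X, U)] Γ(Z, i ⁻¹ᵁ U) := MvPolynomial.aeval Fin.elim0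
    have hφ : Function.Surjective φ := fun y => by
      obtain ⟨a, ha⟩ := hs y
      exact ⟨MvPolynomial.C a, by simp [φ, ha]⟩
    have hp := Groth.Agent.FlatMorPerfect.pcHom_pcs h1.1 φ hφ
    have he := (Groth.Agent.FlatMorPerfect.pcs_equiv (MvPolynomial.isEmptyRingEquiv Γ(X, U) (Fin 0)).symm).comp hp
    refine Groth.Agent.FlatMorPerfect.pc'_iff_forall.2
      ((Groth.Agent.FlatMorPerfect.pcs_iff (φ := (φ.toRingHom.comp
        (MvPolynomial.isEmptyRingEquiv Γ(X, U) (Fin 0)).symm.toRingHom)) ?_).1 he)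
    ext a
    show algebraMap Γ(X, U) Γ(Z, i ⁻¹ᵁ U) a = φ (MvPolynomial.C a)
    simp [φ]
  let := (i.appLE U (i ⁻¹ᵁ U) le_rfl).hom.toAlgebra
  let E : Γ(M, U) ≃ₗ[Γ(X, U)] Γ(Z, i ⁻¹ᵁ U) :=
    { toFun := fun s => s, invFun := fun s => s, map_add' := fun _ _ => rfl
      map_smul' := fun a s => ?_, left_inv := fun _ => rfl, right_inv := fun _ => rfl }
  · exact Groth.Agent.DRingLib.perfect_of_iso ((DerivedCategory.singleFunctor (ModuleCat.{u} Γ(X, U)) 0).mapIso
      ((Groth.Agent.Flatn12.secEquiv hU M).trans E).toModuleIso.symm) hperf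
  · show (i.app U a) * _ = (i.appLE U (i ⁻¹ᵁ U) le_rfl a) * _
    rw [← Scheme.Hom.app_eq_appLE]

end Groth.Agent.S7175
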