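import Groth.Statements.S6241
import Groth.Agent.Dual22Lib.RelTorDim
import Groth.Agent.Dual22Lib.TenLocal
import Groth.Agent.Dual22Lib.ShSymm

set_option autoImplicit false
universe u
open CategoryTheory CategoryTheory.Limits AlgebraicGeometry
attribute [local instance] HasDerivedCategory.standard
open KSix

namespace Groth.Agent.S6241

open Groth.Agent Groth.Agent.DCat Groth.Agent.Dual22Lib


/-- Let f : X ⟶ Y be a morphism of schemes and F a cochain complex of O_X-modules with bounded above
cohomology and tor amplitude in [m, n] relative to f in the stalkwise sense (at every point x of X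
the complex of stalks F_x is isomorphic, in the derived category of the local ring of Y at f x, to a
complex of flat modules placed in [m, n]). Then for every open V of Y and every O_V-module M, the
derived pullback along the restriction f⁻¹(V) ⟶ V of f and the derived tensor product with the
restriction of F to f⁻¹(V) being assumed to exist, the cohomology sheaves of L(f|)^* M ⊗^L (F
restricted to f⁻¹(V)) vanish outside [m, n]. (The published statement is for a morphism of ringed
topoi whose source has enough points, with V an object of the target topos; this row is the case of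
schemes, V an open subscheme, and the derived tensor product taken with the restriction of F as the
fixed right-hand factor.) -/
theorem result {X Y : Scheme.{u}} (f : X ⟶ Y)
    (F : CochainComplex X.Modules ℤ) (e : ℤ) [(DCoh.toD X F).IsLE e] (m n : ℤ)
    (hF : DerSch.HasTorAmplitude f m n F) (V : Y.Opens) (M : (V : Scheme.{u}).Modules)
    [DCoh.HasLpull (f ∣_ V)] [DCoh.HasLTensorCx ((DCoh.restrictCx (f ⁻¹ᵁ V)).obj F)]
    (i : ℤ) (hi : i < m ∨ n < i) :
    IsZero (DCoh.HD ((DCoh.LTensorCx ((DCoh.restrictCx (f ⁻¹ᵁ V)).obj F)).obj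
      ((DCoh.Lpull (f ∣_ V)).obj (DCoh.inD (V : Scheme.{u}) M))) i) := by
  haveI := DCat.hasLpull f
  haveI := LTensorSheaf.hasLTensorCx F
  haveI := PullPerf.preservesFiniteLimits_restrict V.ι
  haveI := PullPerf.preservesFiniteLimits_restrict (f ⁻¹ᵁ V).ι
  let G : Y.Modules := (Scheme.Modules.pushforward V.ι).obj M
  obtain ⟨P, c, hP, hc⟩ := Dual22Lib.RelTorDim.exists_resolution G
  haveI := hc
  let K : DCoh.D Y := DerivedCategory.Q.obj P
  -- the global vanishing
  have hz : IsZero (DCoh.HD ((DCoh.LTensorCx F).obj ((DCoh.Lpull f).obj K)) i) := by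
    refine IsZero.of_iso ?_ ((DerivedCategory.homologyFunctor X.Modules i).mapIso
      ((DCoh.LTensorCx F).mapIso (PullPerf.lpullIso f hP) ≪≫
        LTensorSheaf.ltensorCxIso F (PullTot.isKFlatFor_pullback f hP) ≪≫
          DerivedCategory.Q.mapIso (ShSymm.symm _ F)))
    exact (DCat.isZero_HD_toD_iff _ i).2 (Dual22Lib.RelTorDim.exactAt_tot_pullback f F m n hF G hP c i hi)
  -- restriction
  obtain ⟨M', hM', ⟨eM'⟩, hres⟩ := Dual22Lib.TenLocal.nonempty_rd_LTensor (f ⁻¹ᵁ V).ι F
  haveI := hM'
  obtain ⟨e₁⟩ := hres ((DCoh.Lpull f).obj K)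
  obtain ⟨e₂⟩ := Dual22Lib.TenLocal.nonempty_rd_Lpull f V K
  obtain ⟨t⟩ := TensorCongr.nonempty_congr (E := M') (E' := (DCoh.restrictCx (f ⁻¹ᵁ V)).obj F)
    (eM' ≪≫ (Scheme.Modules.restrictFunctor (f ⁻¹ᵁ V).ι).mapDerivedCategoryFactors.app F)
  haveI : IsIso (Scheme.Modules.restrictAdjunction V.ι).counit := inferInstance
  let R := Scheme.Modules.restrictFunctor V.ι
  let e₃ : (DCat.PerfLocal.rd V.ι).obj K ≅ DCoh.inD (V : Scheme.{u}) M :=
    (DCat.PerfLocal.rd V.ι).mapIso (asIso (DerivedCategory.Q.map c) ≪≫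
      ((DerivedCategory.singleFunctorIsoCompQ Y.Modules 0).app G).symm) ≪≫
      (R.mapDerivedCategorySingleFunctor 0).app G ≪≫
      (DerivedCategory.singleFunctor _ 0).mapIso ((asIso (Scheme.Modules.restrictAdjunction V.ι).counit).app M)
  refine IsZero.of_iso ?_ ((DerivedCategory.homologyFunctor _ i).mapIso
    ((DCoh.LTensorCx ((DCoh.restrictCx (f ⁻¹ᵁ V)).obj F)).mapIso
      ((DCoh.Lpull (f ∣_ V)).mapIso e₃.symm ≪≫ e₂.symm) ≪≫ (t.app _).symm ≪≫ e₁.symm))
  exact ((Scheme.Modules.restrictFunctor (f ⁻¹ᵁ V).ι).map_isZero hz).of_iso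
    (DCat.SuppOpen.hdMapIso (Scheme.Modules.restrictFunctor (f ⁻¹ᵁ V).ι) _ i)

end Groth.Agent.S6241
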