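import Groth.Statements.S6242
import Groth.Agent.FlatCx12.TorDimBCScheme
import Groth.Agent.FlatCx12.AmpFlatBCScheme
import Groth.Agent.AmpleLib.Relative
import Groth.Agent.S6187
-- import your own Groth.Agent.* helpers here

set_option autoImplicit false
universe u
open CategoryTheory CategoryTheory.Limits AlgebraicGeometry
attribute [local instance] HasDerivedCategory.standard
open KSix

namespace Groth.Agent.S6242

/-- Flat second factor: let S be a scheme and, for i = 1, 2, f_i : X_i ⟶ Y_i a morphism of S-schemes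
(structure morphisms q_i : Y_i ⟶ S, and X_i over S through f_i ≫ q_i), with X₂ and Y₂ flat over S.
Let X = X₁ ×_S X₂ and Y = Y₁ ×_S Y₂, given by pullback squares, and f : X ⟶ Y the morphism
compatible with the two projections. If f₁ has tor dimension at most n₁ and f₂ has tor dimension at
most n₂ (stalkwise: the local ring of the source at each point is isomorphic, in the derived
category of the local ring of the target, to a complex of flat modules placed in [-n_i, 0]), then f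
has tor dimension at most n₁ + n₂; in particular f has finite tor dimension. (The published
statement assumes only that X₁, X₂ and Y₁, Y₂ are tor-independent over S; this row takes X₂ and Y₂
flat over S, which implies both conditions, and records the bound n₁ + n₂ that the published proof
gives.) -/
theorem result {S X₁ Y₁ X₂ Y₂ X Y : Scheme.{u}} (f₁ : X₁ ⟶ Y₁) (q₁ : Y₁ ⟶ S)
    (f₂ : X₂ ⟶ Y₂) (q₂ : Y₂ ⟶ S) [Flat q₂] [Flat (f₂ ≫ q₂)]
    (pX₁ : X ⟶ X₁) (pX₂ : X ⟶ X₂) (hX : IsPullback pX₁ pX₂ (f₁ ≫ q₁) (f₂ ≫ q₂))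
    (pY₁ : Y ⟶ Y₁) (pY₂ : Y ⟶ Y₂) (hY : IsPullback pY₁ pY₂ q₁ q₂)
    (f : X ⟶ Y) (hf₁ : f ≫ pY₁ = pX₁ ≫ f₁) (hf₂ : f ≫ pY₂ = pX₂ ≫ f₂)
    (n₁ n₂ : ℕ) (h₁ : DerSch.HasTorDimLE f₁ n₁) (h₂ : DerSch.HasTorDimLE f₂ n₂) :
    DerSch.HasTorDimLE f (n₁ + n₂) := by
  let u : X ⟶ pullback f₂ pY₂ := pullback.lift pX₂ f hf₂.symm
  have hW := IsPullback.of_hasPullback f₂ pY₂
  have hb : IsPullback (pullback.fst f₂ pY₂) (pullback.snd f₂ pY₂ ≫ pY₁) (f₂ ≫ q₂) q₁ :=
    hW.paste_vert hY.flip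
  haveI : Flat (pullback.snd f₂ pY₂ ≫ pY₁) := MorphismProperty.of_isPullback (P := @Flat) hb inferInstance
  have hu : IsPullback pX₁ u f₁ (pullback.snd f₂ pY₂ ≫ pY₁) := by
    refine IsPullback.of_bot ?_ ?_ hb.flip
    · rw [show u ≫ pullback.fst f₂ pY₂ = pX₂ from pullback.lift_fst _ _ _]
      exact hX
    · rw [pullback.lift_snd_assoc, hf₁]
  have hu1 : DerSch.HasTorDimLE u n₁ := by
    intro x
    obtain ⟨e⟩ := Groth.Agent.AmpleLib.exists_pullStructureIso pX₁
    exact Groth.Agent.FlatCx12.AmpThick.amp_congr u x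
      (DerivedCategory.Q.mapIso ((HomologicalComplex.singleMapHomologicalComplex (Scheme.Modules.pullback pX₁)
        (ComplexShape.up ℤ) 0).app _ ≪≫ (HomologicalComplex.single _ (ComplexShape.up ℤ) 0).mapIso e))
      (Groth.Agent.FlatCx12.AmpFlatBCScheme.amp_pullback f₁ u pX₁ _ hu (DerSch.unitCx X₁) x (h₁ _))
  have h := Groth.Agent.S6187.result u (pullback.snd f₂ pY₂) f (pullback.lift_snd _ _ _) n₂
    (Groth.Agent.FlatCx12.TorDimBCScheme.torDimLE_baseChange f₂ q₁ q₂ pY₁ pY₂ hY _ _ hW n₂ h₂)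
    (DerSch.unitCx X) (-(n₁ : ℤ)) 0 hu1
  show DerSch.HasTorAmplitude f (-((n₁ + n₂ : ℕ) : ℤ)) 0 (DerSch.unitCx X)
  rwa [show (-((n₁ + n₂ : ℕ) : ℤ)) = -(n₁ : ℤ) - n₂ by push_cast; omega]

end Groth.Agent.S6242
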