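import Groth.Statements.S6245
import Groth.Agent.KSix16.HpLocal
-- import your own Groth.Agent.* helpers here

set_option autoImplicit false
set_option backward.isDefEq.respectTransparency false
set_option backward.defeqAttrib.useBackward true
set_option synthInstance.maxHeartbeats 100000
universe u
open CategoryTheory CategoryTheory.Limits AlgebraicGeometry
attribute [local instance] HasDerivedCategory.standard
open KSix

namespace Groth.Agent.S6245

/-- Let X be a scheme, p an integer, x a point of X and E ∈ D⁻(O_X), given by a cochain complex F, a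
p-pseudo-coherent object; let F_x be the complex of stalks of F at x, a complex of modules over the
local ring O_{X,x}. The derived tensor products with F_x and with the restrictions of F to the opens
of X being assumed to exist: if the functor M ↦ H^p(M ⊗^L F_x) on O_{X,x}-modules is right exact,
then x has an open neighbourhood U such that the functor M ↦ H^p(M ⊗^L (F restricted to U)) from
O_U-modules to O_U-modules is right exact. (The published statement is for a point of a locally
ringed topos and writes the functors as M ↦ H^p(E_x ⊗^L M) and M ↦ H^p(E|_U ⊗^L M); this row is the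
case of a scheme, with the derived tensor products taken with the complex as the fixed right-hand
factor.) -/
theorem result {X : Scheme.{u}} (F : CochainComplex X.Modules ℤ)
    (e : ℤ) [(DCoh.toD X F).IsLE e] (p : ℤ) (hE : DCoh.IsPseudoCoherentD p (DCoh.toD X F)) (x : X)
    [DRing.HasLTensorCx (X.presheaf.stalk x) (((DerSch.stalkFunctor X x).mapHomologicalComplex (ComplexShape.up ℤ)).obj F)]
    [PreservesFiniteColimits (DerivedCategory.singleFunctor (ModuleCat.{u} (X.presheaf.stalk x)) 0 ⋙ DRing.LTensorCx (X.presheaf.stalk x) (((DerSch.stalkFunctor X x).mapHomologicalComplex (ComplexShape.up ℤ)).obj F) ⋙ DerivedCategory.homologyFunctor (ModuleCat.{u} (X.presheaf.stalk x)) p)]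
    [∀ U : X.Opens, DCoh.HasLTensorCx ((DCoh.restrictCx U).obj F)] :
    ∃ U : X.Opens, x ∈ U ∧ PreservesFiniteColimits (DerivedCategory.singleFunctor (U : Scheme.{u}).Modules 0 ⋙ DCoh.LTensorCx ((DCoh.restrictCx U).obj F) ⋙ DerivedCategory.homologyFunctor (U : Scheme.{u}).Modules p) := by
  obtain ⟨N, hN, hNf, ⟨eN⟩⟩ := Groth.Agent.KSix16.HpLocal.exists_rep F e
  obtain ⟨t⟩ := Groth.Agent.KSix16.HpLocal.nonempty_stalkG F x hN eN p
  haveI := preservesFiniteColimits_of_natIso t
  let C := ((DerSch.stalkFunctor X x).mapHomologicalComplex (ComplexShape.up ℤ)).obj N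
  haveI : ∀ i, Module.Flat (X.presheaf.stalk x) (C.X i) := fun i => hNf i x
  have key : ∀ q, q = p → Module.Flat (X.presheaf.stalk x) (C.X (p + 1) ⧸ LinearMap.range (C.d q (p + 1)).hom) := by
    rintro q rfl
    exact Groth.Agent.Dual22Lib.HpFlatAlg.flat_of_epi C q fun f hf => by
      haveI := hf
      exact inferInstanceAs (Epi ((Groth.Agent.KSix16.HpLocal.TH C q).map f))
  haveI := key (p + 1 - 1) (add_sub_cancel_right p 1)
  obtain ⟨U, hx, hU⟩ := Groth.Agent.KSix16.HpLocal.exists_left F e (p + 1) (by simpa using hE) x hN eN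
    fun f hf => by haveI := hf; exact Groth.Agent.Dual22Lib.HpConv.mono_of_flat C (p + 1) f
  refine ⟨U, hx, ?_⟩
  haveI := Groth.Agent.Dual22Lib.HpConv.additive_G ((DCoh.restrictCx U).obj F) p
  have h := (Functor.preservesFiniteColimits_tfae (Groth.Agent.Dual22Lib.HpExact.G ((DCoh.restrictCx U).obj F) p)).out 0 3
  exact h.1 fun S₀ hS => ⟨Groth.Agent.KSix16.HpLocal.exact_G _ p S₀ hS,
    Groth.Agent.KSix16.HpLocal.epi_G _ p S₀ hS (hU _ hS.mono_f)⟩

end Groth.Agent.S6245
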