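import Groth.Statements.S6253
import Groth.Agent.Dual22Lib.HpConv
import Groth.Agent.Dual22Lib.HpQCoh
-- import your own Groth.Agent.* helpers here

set_option autoImplicit false
set_option backward.isDefEq.respectTransparency false
set_option backward.defeqAttrib.useBackward true
set_option synthInstance.maxHeartbeats 100000
universe u
open CategoryTheory CategoryTheory.Limits AlgebraicGeometry
attribute [local instance] HasDerivedCategory.standard
open KSix

namespace Groth.Agent.S6253

open Groth.Agent.Dual22Lib Groth.Agent.DCat Pretriangulated in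
lemma additive_LTensor {X : Scheme.{u}} (F : CochainComplex X.Modules ℤ) [DCoh.HasLTensorCx F] :
    (DCoh.LTensorCx F).Additive := by
  obtain ⟨N, c, hN, -, hc, -⟩ := exists_kflat_sheaf F
  haveI := hc
  haveI := LTensorSheaf.hasLTensorCx N
  obtain ⟨t⟩ := TensorCongr.nonempty_congr (E := N) (E' := F) (asIso (DerivedCategory.Q.map c))
  haveI : ((DCoh.tensorCx (X := X)).flip.obj N).Additive := ⟨fun {K L} f g => by
    refine HomologicalComplex.hom_ext _ _ fun n => HomologicalComplex.mapBifunctor.hom_ext fun i j h => ?_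
    simp⟩
  haveI : (DerivedCategory.Q ⋙ DCoh.LTensorCx N).Additive :=
    Functor.additive_of_iso (F := (DCoh.tensorCx (X := X)).flip.obj N ⋙ DerivedCategory.Q) (TensorCongr.fac hN).symm
  haveI : (HomotopyCategory.quotient X.Modules (ComplexShape.up ℤ) ⋙ DerivedCategory.Qh ⋙ DCoh.LTensorCx N).Additive :=
    Functor.additive_of_iso (Functor.isoWhiskerRight (DerivedCategory.quotientCompQhIso X.Modules).symm (DCoh.LTensorCx N) ≪≫
      Functor.associator _ _ _)
  haveI : (DerivedCategory.Qh ⋙ DCoh.LTensorCx N).Additive :=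
    Functor.additive_of_full_essSurj_comp (HomotopyCategory.quotient X.Modules (ComplexShape.up ℤ)) _
  haveI : (DCoh.LTensorCx N).Additive :=
    (Localization.functor_additive_iff DerivedCategory.Qh
      (HomotopyCategory.quasiIso X.Modules (ComplexShape.up ℤ)) (DCoh.LTensorCx N)).2 inferInstance
  exact Functor.additive_of_iso t


/-- Let f : X ⟶ Y be a quasi-compact quasi-separated morphism of quasi-compact quasi-separated schemes,
E ∈ D^b(O_X), given by a cochain complex F, with quasi-coherent cohomology and of finite tor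
amplitude relative to f (stalkwise), and p an integer. The derived functors Lf^*, − ⊗^L F and Rf_*
being assumed to exist: the functor M ↦ R^p f_*(Lf^* M ⊗^L F) from quasi-coherent O_Y-modules to
O_Y-modules is right exact if and only if the functor M ↦ R^{p+1} f_*(Lf^* M ⊗^L F) on
quasi-coherent O_Y-modules is left exact. (The published statement writes E ⊗_Y^L M = E ⊗^L Lf^* M
and regards the functors as valued in quasi-coherent modules; this row takes the derived tensor
product with F as the fixed right-hand factor and values in all O_Y-modules.) -/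
theorem result {X Y : Scheme.{u}} [CompactSpace X]
    [QuasiSeparatedSpace X] [CompactSpace Y] [QuasiSeparatedSpace Y] (f : X ⟶ Y) [QuasiCompact f]
    [QuasiSeparated f] (F : CochainComplex X.Modules ℤ) (a b : ℤ) [(DCoh.toD X F).IsGE a]
    [(DCoh.toD X F).IsLE b] (hq : DCoh.IsQCohD (DCoh.toD X F)) (hF : DerSch.HasFiniteTorAmplitude f F)
    (p : ℤ) [DCoh.HasLpull f] [DCoh.HasLTensorCx F] [DCoh.HasRpush f] :
    PreservesFiniteColimits ((QCohCat.isQCoh Y).ι ⋙ DerivedCategory.singleFunctor Y.Modules 0 ⋙ DCoh.Lpull f ⋙ DCoh.LTensorCx F ⋙ DCoh.Rpush f ⋙ DerivedCategory.homologyFunctor Y.Modules p) ↔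
      PreservesFiniteLimits ((QCohCat.isQCoh Y).ι ⋙ DerivedCategory.singleFunctor Y.Modules 0 ⋙ DCoh.Lpull f ⋙ DCoh.LTensorCx F ⋙ DCoh.Rpush f ⋙ DerivedCategory.homologyFunctor Y.Modules (p + 1)) := by
  let L₀ := DCoh.Lpull f ⋙ DCoh.LTensorCx F ⋙ DCoh.Rpush f
  let H := fun q : ℤ => (QCohCat.isQCoh Y).ι ⋙ DerivedCategory.singleFunctor Y.Modules 0 ⋙ L₀ ⋙
    DerivedCategory.homologyFunctor Y.Modules q
  show PreservesFiniteColimits (H p) ↔ PreservesFiniteLimits (H (p + 1))
  have hL : Groth.Agent.Dual22Lib.WeakExact.TriExact L₀ :=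
    (Groth.Agent.Dual22Lib.TenLocal.triExact_Lpull f).comp
      ((Groth.Agent.Dual22Lib.TenLocal.triExact_LTensor F).comp (Groth.Agent.Dual22Lib.TenLocal.triExact_Rpush f))
  haveI : L₀.Additive := by
    obtain ⟨_, _⟩ := Groth.Agent.DCat.PullPerf.exists_commShift_Lpull f
    obtain ⟨_, _⟩ := Groth.Agent.DCat.exists_commShift_Rpush f
    haveI := additive_LTensor F
    infer_instance
  haveI := Groth.Agent.Dual22Lib.HpConv.preservesFiniteLimits_ι (X := Y)
  haveI := Groth.Agent.Dual22Lib.HpConv.preservesFiniteColimits_ι (X := Y)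
  have hq : ∀ (q : ℤ) (S₀ : ShortComplex (QCohCat.QCoh Y)), S₀.ShortExact →
      (S₀.map (H q)).Exact ∧ (Epi ((H q).map S₀.g) ↔ Mono ((H (q + 1)).map S₀.f)) := by
    intro q S₀ hS
    have hS' := hS.map_of_exact (QCohCat.isQCoh Y).ι
    obtain ⟨δ, hδ⟩ := hL _ hS'.singleTriangle_distinguished
    refine ⟨DerivedCategory.HomologySequence.exact₂ _ hδ q, fun h => ?_, fun h => ?_⟩
    · refine (DerivedCategory.HomologySequence.exact₁ _ hδ q (q + 1) rfl).mono_g ?_
      haveI : Epi ((DerivedCategory.homologyFunctor Y.Modules q).map (L₀.map hS'.singleTriangle.mor₂)) := h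
      refine (cancel_epi ((DerivedCategory.homologyFunctor Y.Modules q).map (L₀.map hS'.singleTriangle.mor₂))).1 ?_
      refine Eq.trans ?_ comp_zero.symm
      exact DerivedCategory.HomologySequence.comp_δ _ hδ q (q + 1) rfl
    · refine (DerivedCategory.HomologySequence.exact₃ _ hδ q (q + 1) rfl).epi_f ?_
      haveI : Mono ((DerivedCategory.homologyFunctor Y.Modules (q + 1)).map (L₀.map hS'.singleTriangle.mor₁)) := h
      refine (cancel_mono ((DerivedCategory.homologyFunctor Y.Modules (q + 1)).map (L₀.map hS'.singleTriangle.mor₁))).1 ?_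
      refine Eq.trans ?_ zero_comp.symm
      exact DerivedCategory.HomologySequence.δ_comp _ hδ q (q + 1) rfl
  haveI : ∀ q, (H q).Additive := fun q => inferInstance
  have e₁ := (Functor.preservesFiniteLimits_tfae (H (p + 1))).out 0 3
  have e₂ := (Functor.preservesFiniteColimits_tfae (H p)).out 0 3
  exact ⟨fun h => e₁.1 fun S₀ hS => ⟨(hq (p + 1) S₀ hS).1, (hq p S₀ hS).2.1 (e₂.2 h S₀ hS).2⟩,
    fun h => e₂.1 fun S₀ hS => ⟨(hq p S₀ hS).1, (hq p S₀ hS).2.2 (e₁.2 h S₀ hS).2⟩⟩

end Groth.Agent.S6253
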