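import Groth.Statements.S6263
import Mathlib.RingTheory.Ideal.MinimalPrime.Localization
-- import your own Groth.Agent.* helpers here

set_option autoImplicit false
set_option linter.all false
universe u
open CAlg

namespace Groth.Agent.S6263

/-- For a ring map R → S and a finite S-module N which is flat as an R-module, generalizations lift
along the map from the support of N (a subset of Spec S) to Spec R: if p ≤ p' are primes of R and q'
is a prime of S in the support of N whose inverse image in R is p', then some prime q ≤ q' of S lies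
in the support of N and has inverse image p. -/
theorem result {R S : Type u} [CommRing R] [CommRing S] [Algebra R S] (N : Type u) [AddCommGroup N] [Module S N] [Module R N] [IsScalarTower R S N] [Module.Finite S N] [Module.Flat R N] (p p' : Ideal R) [p.IsPrime] [p'.IsPrime] (hle : p ≤ p') (q' : PrimeSpectrum S) (hq' : q' ∈ Module.support S N) (hover : q'.asIdeal.under R = p') : ∃ q : PrimeSpectrum S, q ≤ q' ∧ q ∈ Module.support S N ∧ q.asIdeal.under R = p := by
  classical
  let J : Ideal S := p.map (algebraMap R S)
  let Q := N ⧸ (J • ⊤ : Submodule S N)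
  have hinj : ∀ a : R, a ∉ p → Function.Injective fun m : N ⧸ (p • ⊤ : Submodule R N) => a • m := by
    intro a ha
    have h1 : Function.Injective (LinearMap.lsmul R (R ⧸ p) a) := fun x y h => by
      simp only [LinearMap.lsmul_apply, Algebra.smul_def] at h
      refine mul_left_cancel₀ ?_ h
      rwa [Ideal.Quotient.algebraMap_eq, Ne, Ideal.Quotient.eq_zero_iff_mem]
    have h2 := Module.Flat.lTensor_preserves_injective_linearMap (M := N) _ h1
    intro x y h
    let e := TensorProduct.tensorQuotEquivQuotSMul N p
    apply e.symm.injective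
    apply h2
    have h3 : ∀ z, LinearMap.lTensor N (LinearMap.lsmul R (R ⧸ p) a) z = a • z := fun z => by
      induction z with
      | zero => simp
      | add u v hu hv => simp only [map_add, smul_add, hu, hv]
      | tmul u v => simp [TensorProduct.tmul_smul]
    rw [h3, h3, ← map_smul, ← map_smul]
    exact congrArg e.symm h
  have hres : (J • ⊤ : Submodule S N).restrictScalars R = (p • ⊤ : Submodule R N) := by
    rw [Ideal.smul_restrictScalars, Submodule.restrictScalars_top]
  have hJq : J ≤ q'.asIdeal := Ideal.map_le_iff_le_comap.mpr (by rw [← Ideal.under_def, hover]; exact hle)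
  have hQ : q' ∈ Module.support S Q := by
    rw [Module.support_quotient]
    exact ⟨hq', hJq⟩
  rw [Module.support_eq_zeroLocus] at hQ
  obtain ⟨q, hqmin, hqle⟩ := Ideal.exists_minimalPrimes_le (J := q'.asIdeal) hQ
  haveI : q.IsPrime := hqmin.1.1
  have hqQ : (⟨q, inferInstance⟩ : PrimeSpectrum S) ∈ Module.support S Q := by
    rw [Module.support_eq_zeroLocus]
    exact hqmin.1.2
  rw [Module.support_quotient] at hqQ
  refine ⟨⟨q, inferInstance⟩, hqle, hqQ.1, le_antisymm (fun a ha => ?_) (Ideal.map_le_iff_le_comap.mp hqQ.2)⟩
  by_contra hap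
  obtain ⟨y, hy, hxy⟩ := Ideal.exists_mul_mem_of_mem_minimalPrimes hqmin (show algebraMap R S a ∈ q from ha)
  obtain ⟨m, hm⟩ := not_forall.mp (Module.mem_annihilator.not.mp hy)
  obtain ⟨n, rfl⟩ := Submodule.Quotient.mk_surjective _ m
  have h4 := Module.mem_annihilator.mp hxy (Submodule.Quotient.mk n)
  rw [mul_smul, ← Submodule.Quotient.mk_smul, ← Submodule.Quotient.mk_smul, algebraMap_smul,
    Submodule.Quotient.mk_eq_zero] at h4
  apply hm
  rw [← Submodule.Quotient.mk_smul, Submodule.Quotient.mk_eq_zero]
  rw [← Submodule.restrictScalars_mem R, hres] at h4 ⊢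
  exact (Submodule.Quotient.mk_eq_zero _).mp (hinj a hap (a₂ := 0)
    (by simp only [← Submodule.Quotient.mk_smul, smul_zero]; exact (Submodule.Quotient.mk_eq_zero _).mpr h4))

end Groth.Agent.S6263
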