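import Mathlib.RingTheory.LocalRing.ResidueField.Ideal
import Mathlib.RingTheory.Spectrum.Prime.Topology
import Mathlib.Algebra.Module.Projective
import Mathlib.LinearAlgebra.Dimension.Finrank
import Mathlib.RingTheory.Nilpotent.Defs
import Mathlib.Topology.LocallyConstant.Basic
import Groth.Agent.FlatCxLib.DRank2
import Groth.Agent.CAlgMisc2.PureIdeal

set_option autoImplicit false
universe u
open scoped TensorProduct
namespace CAlg
end CAlg
open CAlg

namespace Groth.Agent.S6266

/-- Let R be a reduced ring and M an R-module. Then M is a finite projective R-module if and only if M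
is finitely generated and the function on Spec R sending a prime p to the dimension of κ(p) ⊗ M over
the residue field κ(p) is locally constant for the Zariski topology. -/
theorem result (R : Type u) [CommRing R] [IsReduced R] (M : Type u) [AddCommGroup M] [Module R M] : (Module.Finite R M ∧ Module.Projective R M) ↔ (Module.Finite R M ∧ IsLocallyConstant (fun p : PrimeSpectrum R => Module.finrank p.asIdeal.ResidueField (p.asIdeal.ResidueField ⊗[R] M))) := by
  constructor
  · rintro ⟨hf, hp⟩
    haveI := Module.finitePresentation_of_projective R M
    refine ⟨hf, ?_⟩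
    have h := Module.isLocallyConstant_rankAtStalk (R := R) (M := M)
    have e : (fun p : PrimeSpectrum R => Module.finrank p.asIdeal.ResidueField (p.asIdeal.ResidueField ⊗[R] M)) =
        Module.rankAtStalk (R := R) M := funext fun p => (Module.rankAtStalk_eq p).symm
    rw [e]
    exact h
  · rintro ⟨hf, hc⟩
    haveI := FlatCxLib.flat_of_isLocallyConstant_fibreRank M hc
    have e : (fun p : PrimeSpectrum R => Module.finrank p.asIdeal.ResidueField (p.asIdeal.ResidueField ⊗[R] M)) =
        Module.rankAtStalk (R := R) M := funext fun p => (Module.rankAtStalk_eq p).symm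
    haveI := CAlgMisc2.finitePresentation_of_isLocallyConstant (R := R) (M := M) (e ▸ hc)
    exact ⟨hf, Module.freeLocus_eq_univ_iff.1 Module.freeLocus_eq_univ⟩

end Groth.Agent.S6266
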