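import Groth.Prelude.Def_CAlgX
import Mathlib.RingTheory.TensorProduct.Basic
import Groth.Agent.CAlgML.UI

set_option autoImplicit false
universe u
namespace CAlg
end CAlg
open CAlg

namespace Groth.Agent.S6268

/-- Suppose the structure map R → S of an R-algebra S is universally injective as an R-linear map. Then
tensoring with S detects injectivity and surjectivity of R-linear maps (and hence reflects
isomorphisms): for an R-linear g : M → N, if S ⊗ g is injective then so is g, and if S ⊗ g is
surjective then so is g. -/
theorem result {R S : Type u} [CommRing R] [CommRing S] [Algebra R S] (hS : CAlgX.UniversallyInjective R (Algebra.linearMap R S)) {M N : Type u} [AddCommGroup M] [Module R M] [AddCommGroup N] [Module R N] (g : M →ₗ[R] N) : (Function.Injective (g.lTensor S) → Function.Injective g) ∧ (Function.Surjective (g.lTensor S) → Function.Surjective g) := by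
  have key : ∀ {X : Type u} [AddCommGroup X] [Module R X] (x : X),
      (1 : S) ⊗ₜ[R] x = 0 → x = 0 := by
    intro X _ _ x hx
    apply (TensorProduct.lid R X).symm.injective
    apply hS X
    simp [hx]
  constructor
  · intro h
    rw [← LinearMap.ker_eq_bot, LinearMap.ker_eq_bot']
    intro m hm
    refine key m (h ?_)
    simp [hm]
  · intro h
    rw [← LinearMap.range_eq_top]
    refine eq_top_iff.2 fun n _ => ?_
    rw [← Submodule.Quotient.mk_eq_zero]
    refine key _ ?_
    obtain ⟨y, hy⟩ := h (1 ⊗ₜ n)
    rw [← Submodule.mkQ_apply, ← LinearMap.lTensor_tmul, ← hy, ← LinearMap.comp_apply,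
      ← LinearMap.lTensor_comp, (LinearMap.exact_map_mkQ_range g).linearMap_comp_eq_zero]
    simp

end Groth.Agent.S6268
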