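import Mathlib.Algebra.Module.Projective
import Mathlib.RingTheory.TensorProduct.Basic
import Mathlib.RingTheory.Ideal.Quotient.Basic
import Mathlib.RingTheory.Nilpotent.Defs
import Mathlib.RingTheory.Finiteness.Defs
import Groth.Agent.CAlgMisc2.LiftProjMod
import Mathlib

set_option autoImplicit false
universe u
open scoped TensorProduct
namespace CAlg
end CAlg
open CAlg

namespace Groth.Agent.S6271

/-- Let R be a ring, I ⊆ R a locally nilpotent ideal (every element of I is nilpotent) and P̄ a finite
projective R/I-module. Then there is a finite projective R-module P such that P/IP (that is, R/I ⊗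
P) is isomorphic to P̄ as an R/I-module. -/
theorem result {R : Type u} [CommRing R] (I : Ideal R) (hI : ∀ x ∈ I, IsNilpotent x) (Pb : Type u) [AddCommGroup Pb] [Module (R ⧸ I) Pb] [Module.Projective (R ⧸ I) Pb] [Module.Finite (R ⧸ I) Pb] : ∃ (P : Type u) (_ : AddCommGroup P) (_ : Module R P), Module.Projective R P ∧ Module.Finite R P ∧ Nonempty (((R ⧸ I) ⊗[R] P) ≃ₗ[R ⧸ I] Pb) := by
  obtain ⟨n, p, i, hp, -, hpi⟩ := Module.Finite.exists_comp_eq_id_of_projective (R ⧸ I) Pb
  let red : Matrix (Fin n) (Fin n) R →+* Matrix (Fin n) (Fin n) (R ⧸ I) := (Ideal.Quotient.mk I).mapMatrix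
  let eb : Matrix (Fin n) (Fin n) (R ⧸ I) := LinearMap.toMatrix' (i ∘ₗ p)
  have hidem : IsIdempotentElem eb := by
    unfold IsIdempotentElem
    rw [← LinearMap.toMatrix'_comp]
    congr 1
    rw [LinearMap.comp_assoc, ← LinearMap.comp_assoc p i p, hpi, LinearMap.id_comp]
  have hker : ∀ x ∈ RingHom.ker red, IsNilpotent x := by
    intro x hx
    have hmem : ∀ a b, x a b ∈ I := fun a b => Ideal.Quotient.eq_zero_iff_mem.1 (congrFun (congrFun hx a) b)
    let J : Ideal R := Ideal.span (Set.range fun ab : Fin n × Fin n => x ab.1 ab.2)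
    have hJfg : J.FG := Submodule.fg_span (Set.finite_range _)
    have hJle : J ≤ (⊥ : Ideal R).radical := Ideal.span_le.2 fun y hy => by
      obtain ⟨⟨a, b⟩, rfl⟩ := hy
      obtain ⟨k, hk⟩ := hI _ (hmem a b)
      exact ⟨k, hk⟩
    obtain ⟨d, hd⟩ := Ideal.exists_pow_le_of_le_radical_of_fg hJle hJfg
    refine ⟨d + 1, ?_⟩
    have hpow : ∀ m, ∀ a b, (x ^ (m + 1)) a b ∈ J ^ (m + 1) := by
      intro m
      induction m with
      | zero => intro a b; simpa using Ideal.subset_span (Set.mem_range_self (f := fun ab : Fin n × Fin n => x ab.1 ab.2) (a, b))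
      | succ m ih =>
        intro a b
        rw [pow_succ x, Matrix.mul_apply, pow_succ J]
        exact Ideal.sum_mem _ fun c _ => Ideal.mul_mem_mul (ih a c) (Ideal.subset_span (Set.mem_range_self (f := fun ab : Fin n × Fin n => x ab.1 ab.2) (c, b)))
    ext a b
    exact (Submodule.mem_bot R).1 (hd (Ideal.pow_le_pow_right d.le_succ (hpow d a b)))
  obtain ⟨E, hE, hEb⟩ := exists_isIdempotentElem_eq_of_ker_isNilpotent red hker eb
    (by
      refine ⟨eb.map (Function.surjInv Ideal.Quotient.mk_surjective), ?_⟩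
      ext a b
      simp [red, Function.surjInv_eq Ideal.Quotient.mk_surjective]) hidem
  let e := Matrix.toLin' E
  have he : ∀ x, e (e x) = e x := fun x => by
    show (Matrix.toLin' E ∘ₗ Matrix.toLin' E) x = Matrix.toLin' E x
    rw [← Matrix.toLin'_mul, hE.eq]
  let er := e.rangeRestrict
  haveI : Module.Finite R (LinearMap.range e) := Module.Finite.of_surjective er e.surjective_rangeRestrict
  haveI : Module.Projective R (LinearMap.range e) := Module.Projective.of_split (LinearMap.range e).subtype er
    (LinearMap.ext fun z => by obtain ⟨_, y, rfl⟩ := z; exact Subtype.ext (he y))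
  refine ⟨LinearMap.range e, inferInstance, inferInstance, inferInstance, inferInstance,
    Groth.Agent.CAlgMisc2.exists_baseChange_equiv_range I e he i p (fun v => LinearMap.congr_fun hpi v) fun x => ?_⟩
  have h1 : i (p fun k => Ideal.Quotient.mk I (x k)) = Matrix.mulVec eb (fun k => Ideal.Quotient.mk I (x k)) := by
    rw [← Matrix.toLin'_apply, Matrix.toLin'_toMatrix']; rfl
  rw [h1, ← hEb]
  funext k
  exact RingHom.map_mulVec (Ideal.Quotient.mk I) E x k

end Groth.Agent.S6271
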