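import Mathlib.RingTheory.Spectrum.Prime.Topology
import Mathlib.RingTheory.Localization.Defs
import Groth.Agent.CAlgMisc1.Imports

set_option autoImplicit false
universe u
namespace CAlg
end CAlg
open CAlg

namespace Groth.Agent.S6273

/-- Let R be a ring, S ⊆ R a multiplicative subset and A = S⁻¹R. If the image of Spec(A) → Spec(R) is
closed, then the localization map R → A is surjective; in particular A is isomorphic to R/I for the
ideal I = ker(R → A). -/
theorem result {R : Type u} [CommRing R] (S : Submonoid R) (A : Type u) [CommRing A] [Algebra R A] [IsLocalization S A] (hcl : IsClosed (Set.range (PrimeSpectrum.comap (algebraMap R A)))) : Function.Surjective (algebraMap R A) := by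
  intro z
  obtain ⟨a, s, rfl⟩ := IsLocalization.exists_mk'_eq S z
  suffices ∃ r, algebraMap R A r * algebraMap R A s = 1 by
    obtain ⟨r, hr⟩ := this
    refine ⟨a * r, IsLocalization.eq_mk'_iff_mul_eq.2 ?_⟩
    rw [map_mul, mul_assoc, hr, mul_one]
  have htop : RingHom.ker (algebraMap R A) ⊔ Ideal.span {(s : R)} = ⊤ := by
    by_contra h
    obtain ⟨m, hm, hle⟩ := Ideal.exists_le_maximal _ h
    have hmem : (⟨m, hm.isPrime⟩ : PrimeSpectrum R) ∈ Set.range (PrimeSpectrum.comap (algebraMap R A)) := by
      rw [← hcl.closure_eq, PrimeSpectrum.closure_range_comap, PrimeSpectrum.mem_zeroLocus]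
      exact fun r hr => hle (Ideal.mem_sup_left hr)
    obtain ⟨q, hq⟩ := hmem
    have hsm : (s : R) ∈ (PrimeSpectrum.comap (algebraMap R A) q).asIdeal :=
      hq ▸ hle (Ideal.mem_sup_right (Ideal.mem_span_singleton_self _))
    exact q.2.ne_top (Ideal.eq_top_of_isUnit_mem _ hsm (IsLocalization.map_units A s))
  obtain ⟨k, hk, y, hy, hky⟩ := Submodule.mem_sup.1 (htop.symm ▸ Submodule.mem_top : (1 : R) ∈ _)
  obtain ⟨r, rfl⟩ := Ideal.mem_span_singleton'.1 hy
  exact ⟨r, by rw [← map_mul, ← map_one (algebraMap R A), ← hky, map_add, RingHom.mem_ker.1 hk, zero_add]⟩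

end Groth.Agent.S6273
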