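import Mathlib.RingTheory.Localization.AtPrime.Basic
import Mathlib.RingTheory.Localization.Away.Basic
import Mathlib.RingTheory.Noetherian.Defs
import Groth.Agent.CAlgMisc1.Imports

set_option autoImplicit false
universe u
namespace CAlg
end CAlg
open CAlg

namespace Groth.Agent.S6275

/-- Let R be a Noetherian ring and p ⊆ R a prime. Then there is f ∈ R, f ∉ p, such that R_f → R_p is
injective; equivalently every x ∈ R mapping to zero in R_p maps to zero in R_f. (The cases of a
domain and of a reduced ring with finitely many minimal primes are not included here.) -/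
theorem result {R : Type u} [CommRing R] [IsNoetherianRing R] (p : Ideal R) [p.IsPrime] : ∃ f : R, f ∉ p ∧ ∀ x : R, algebraMap R (Localization.AtPrime p) x = 0 → algebraMap R (Localization.Away f) x = 0 := by
  classical
  obtain ⟨t, ht⟩ := IsNoetherian.noetherian (RingHom.ker (algebraMap R (Localization.AtPrime p)))
  have h : ∀ x ∈ RingHom.ker (algebraMap R (Localization.AtPrime p)), ∃ s : p.primeCompl, (s : R) * x = 0 :=
    fun x hx => (IsLocalization.map_eq_zero_iff p.primeCompl _ x).1 hx
  choose s hs using fun x : t => h x.1 (ht ▸ Submodule.subset_span x.2)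
  refine ⟨∏ x, (s x : R), fun hmem => ?_, fun x hx => ?_⟩
  · obtain ⟨y, -, hy⟩ := (Ideal.IsPrime.prod_mem_iff (p := p)).1 hmem
    exact (s y).2 hy
  · refine (IsLocalization.map_eq_zero_iff (Submonoid.powers (∏ x, (s x : R))) _ x).2
      ⟨⟨_, Submonoid.mem_powers _⟩, ?_⟩
    have hx' : x ∈ RingHom.ker (algebraMap R (Localization.AtPrime p)) := hx
    rw [← ht] at hx'
    show (∏ x, (s x : R)) * x = 0
    induction hx' using Submodule.span_induction with
    | mem y hy =>
      rw [← Finset.prod_erase_mul Finset.univ _ (Finset.mem_univ (⟨y, hy⟩ : t)), mul_assoc, hs, mul_zero]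
    | zero => rw [mul_zero]
    | add a b ha' hb' ha hb =>
      rw [mul_add, ha (by rw [← RingHom.mem_ker, ← ht]; exact ha'),
        hb (by rw [← RingHom.mem_ker, ← ht]; exact hb'), add_zero]
    | smul c a ha' ha =>
      rw [smul_eq_mul, mul_left_comm, ha (by rw [← RingHom.mem_ker, ← ht]; exact ha'), mul_zero]

end Groth.Agent.S6275
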