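import Mathlib.RingTheory.TensorProduct.Basic
import Mathlib.RingTheory.Noetherian.Defs
import Mathlib.FieldTheory.IntermediateField.Adjoin.Defs
import Groth.Agent.CAlgSmall.ClopenSplit

set_option autoImplicit false
universe u
open scoped TensorProduct
namespace CAlg
end CAlg
open CAlg

namespace Groth.Agent.S6276

/-- Let k be a field, R a Noetherian k-algebra and K/k a finitely generated field extension. Then K ⊗ₖ R
is a Noetherian ring. -/
theorem result (k : Type u) [Field k] (R : Type u) [CommRing R] [Algebra k R] [IsNoetherianRing R] (K : Type u) [Field K] [Algebra k K] (hK : ∃ s : Finset K, IntermediateField.adjoin k (s : Set K) = ⊤) : IsNoetherianRing (K ⊗[k] R) := by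
  exact CAlgSmall.isNoetherianRing_tensor_field k R K hK

end Groth.Agent.S6276
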