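import Mathlib.RingTheory.Noetherian.Defs
import Groth.Agent.CAlgMisc1.Imports

set_option autoImplicit false
universe u
namespace CAlg
end CAlg
open CAlg

namespace Groth.Agent.S6277

/-- Any surjective ring endomorphism of a Noetherian ring is an isomorphism (bijective). -/
theorem result {R : Type u} [CommRing R] [IsNoetherianRing R] (f : R →+* R) (hf : Function.Surjective f) : Function.Bijective f := by
  refine ⟨(injective_iff_map_eq_zero f).2 fun x hx => ?_, hf⟩
  obtain ⟨n, hn⟩ := monotone_stabilizes_iff_noetherian.2 (inferInstance : IsNoetherian R R)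
    ⟨fun k => RingHom.ker (f ^ k : R →+* R), monotone_nat_of_le_succ fun k y hy => by
      rw [RingHom.mem_ker, RingHom.coe_pow] at hy ⊢
      rw [Function.iterate_succ_apply', hy, map_zero]⟩
  obtain ⟨y, rfl⟩ := hf.iterate n x
  have h1 : y ∈ RingHom.ker (f ^ (n + 1) : R →+* R) := by
    rw [RingHom.mem_ker, RingHom.coe_pow, Function.iterate_succ_apply']
    exact hx
  have h2 : y ∈ RingHom.ker (f ^ n : R →+* R) := (hn (n + 1) (Nat.le_succ n)).ge h1
  rwa [RingHom.mem_ker, RingHom.coe_pow] at h2

end Groth.Agent.S6277
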