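import Mathlib.RingTheory.Flat.FaithfullyFlat.Basic
import Groth.Agent.CAlgMisc1.Imports

set_option autoImplicit false
universe u
namespace CAlg
end CAlg
open CAlg

namespace Groth.Agent.S6281
open TensorProduct

/-- For an R-algebra S and an S-module M, flatness of S over R follows once M is both flat over R and
faithfully flat over S. -/
theorem result {R S : Type u} [CommRing R] [CommRing S] [Algebra R S] (M : Type u) [AddCommGroup M] [Module S M] [Module R M] [IsScalarTower R S M] [Module.Flat R M] [Module.FaithfullyFlat S M] : Module.Flat R S := by
  rw [Module.Flat.iff_lTensor_preserves_injective_linearMap]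
  intro A B _ _ _ _ i hi
  let f : (S ⊗[R] A) →ₗ[S] (S ⊗[R] B) := i.baseChange S
  refine (Module.FaithfullyFlat.lTensor_injective_iff_injective S M f).1 ?_
  let eA := TensorProduct.AlgebraTensorModule.cancelBaseChange R S S M A
  let eB := TensorProduct.AlgebraTensorModule.cancelBaseChange R S S M B
  have h : ∀ x, eB (f.lTensor M x) = i.lTensor M (eA x) := by
    intro x
    induction x using TensorProduct.induction_on with
    | zero => simp
    | tmul m y =>
      induction y using TensorProduct.induction_on with
      | zero => simp
      | tmul s a => simp [eA, eB, f]
      | add y z hy hz =>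
        simp only [TensorProduct.tmul_add, map_add, hy, hz]
    | add x y hx hy => simp only [map_add, hx, hy]
  intro x y hxy
  refine eA.injective (Module.Flat.lTensor_preserves_injective_linearMap (M := M) i hi ?_)
  rw [← h, ← h, hxy]

end Groth.Agent.S6281
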