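import Mathlib.RingTheory.Flat.FaithfullyFlat.Basic
import Mathlib.RingTheory.TensorProduct.Basic
import Groth.Agent.CAlgMisc1.Imports

set_option autoImplicit false
universe u
open scoped TensorProduct
namespace CAlg
end CAlg
open CAlg

namespace Groth.Agent.S6282
open TensorProduct

/-- Let S → S' be a homomorphism of R-algebras, M an S-module, and M' = S' ⊗_S M with its induced
R-module structure. (1) When S' is flat over S, R-flatness of M passes to M'. (2) When S' is
faithfully flat over S, M is R-flat exactly when M' is. -/
theorem result {R S S' : Type u} [CommRing R] [CommRing S] [CommRing S'] [Algebra R S] [Algebra R S'] [Algebra S S'] [IsScalarTower R S S'] (M : Type u) [AddCommGroup M] [Module S M] [Module R M] [IsScalarTower R S M] : ([Module.Flat S S'] → Module.Flat R M → Module.Flat R (S' ⊗[S] M)) ∧ ([Module.FaithfullyFlat S S'] → (Module.Flat R M ↔ Module.Flat R (S' ⊗[S] M))) := by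
  refine ⟨fun {_} hM => ?_, fun {_} => ⟨fun hM => ?_, fun hM' => ?_⟩⟩
  all_goals rw [Module.Flat.iff_lTensor_preserves_injective_linearMap]
  all_goals intro A B _ _ _ _ i hi
  all_goals
    let eA := TensorProduct.AlgebraTensorModule.assoc R S S S' M A
    let eB := TensorProduct.AlgebraTensorModule.assoc R S S S' M B
    let g : M ⊗[R] A →ₗ[S] M ⊗[R] B := TensorProduct.AlgebraTensorModule.map LinearMap.id i
    have h : ∀ x, eB (i.lTensor (S' ⊗[S] M) x) = g.lTensor S' (eA x) := by
      intro x
      induction x using TensorProduct.induction_on with
      | zero => simp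
      | tmul y a =>
        induction y using TensorProduct.induction_on with
        | zero => simp
        | tmul s m => simp [eA, eB, g]
        | add y z hy hz => simp only [TensorProduct.add_tmul, map_add, hy, hz]
      | add x y hx hy => simp only [map_add, hx, hy]
  · intro x y hxy
    refine eA.injective (Module.Flat.lTensor_preserves_injective_linearMap (M := S') g
      (Module.Flat.lTensor_preserves_injective_linearMap (M := M) i hi) ?_)
    rw [← h, ← h, hxy]
  · intro x y hxy
    refine eA.injective (Module.Flat.lTensor_preserves_injective_linearMap (M := S') g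
      (Module.Flat.lTensor_preserves_injective_linearMap (M := M) i hi) ?_)
    rw [← h, ← h, hxy]
  · have hg : Function.Injective (g.lTensor S') := fun x y hxy => by
      refine eA.symm.injective (Module.Flat.lTensor_preserves_injective_linearMap (M := S' ⊗[S] M) i hi ?_)
      apply eB.injective
      rw [h, h, eA.apply_symm_apply, eA.apply_symm_apply, hxy]
    exact (Module.FaithfullyFlat.lTensor_injective_iff_injective S S' g).1 hg

end Groth.Agent.S6282
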