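import Mathlib.RingTheory.Support
import Mathlib.RingTheory.Spectrum.Prime.Topology
import Mathlib.Algebra.Module.FinitePresentation
import Groth.Agent.CAlgMisc2.Minors

set_option autoImplicit false
universe u
namespace CAlg
end CAlg
open CAlg

namespace Groth.Agent.S6285

/-- For a ring R and an R-module M of finite presentation, the support Supp(M) is closed in Spec(R), and
its complement in Spec(R) is quasi-compact. -/
theorem result (R : Type u) [CommRing R] (M : Type u) [AddCommGroup M] [Module R M] [Module.FinitePresentation R M] : IsClosed (Module.support R M) ∧ IsCompact (Module.support R M)ᶜ := by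
  exact ⟨Module.isClosed_support, Groth.Agent.CAlgMisc2.isCompact_support_compl M⟩

end Groth.Agent.S6285
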