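import Groth.Statements.S6286
import Mathlib.RingTheory.Spectrum.Prime.Topology
import Mathlib.RingTheory.Flat.Basic
import Mathlib.LinearAlgebra.TensorProduct.Basis
import Mathlib.RingTheory.LocalRing.ResidueField.Fiber
-- import your own Groth.Agent.* helpers here

set_option autoImplicit false
set_option linter.all false
set_option backward.isDefEq.respectTransparency false
universe u
open scoped TensorProduct
open CAlg

namespace Groth.Agent.S6286

/-- A point of the basic open of `f` over `p` exists iff the image of `f` in the fibre is not nilpotent. -/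
theorem exists_iff_not_isNilpotent (k : Type u) [Field k] (R T : Type u) [CommRing R] [Algebra k R] [CommRing T]
    [Algebra k T] (f : R ⊗[k] T) (p : PrimeSpectrum R) :
    (∃ q : PrimeSpectrum (R ⊗[k] T), f ∉ q.asIdeal ∧ q.asIdeal.comap (algebraMap R (R ⊗[k] T)) = p.asIdeal) ↔
      ¬ IsNilpotent (Algebra.TensorProduct.map (IsScalarTower.toAlgHom k R p.asIdeal.ResidueField) (AlgHom.id k T) f) := by
  let φ := Algebra.TensorProduct.map (IsScalarTower.toAlgHom k R p.asIdeal.ResidueField) (AlgHom.id k T)
  constructor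
  · rintro ⟨q, hfq, hqp⟩ hnil
    let j : p.asIdeal.ResidueField →ₐ[k] q.asIdeal.ResidueField :=
      Ideal.ResidueField.mapₐ p.asIdeal q.asIdeal
        (Algebra.TensorProduct.includeLeft : R →ₐ[k] R ⊗[k] T) hqp.symm
    let ψ : p.asIdeal.ResidueField ⊗[k] T →ₐ[k] q.asIdeal.ResidueField :=
      Algebra.TensorProduct.lift j ((IsScalarTower.toAlgHom k (R ⊗[k] T) q.asIdeal.ResidueField).comp
        Algebra.TensorProduct.includeRight) (fun _ _ => Commute.all _ _)
    have h : ψ.comp φ = IsScalarTower.toAlgHom k (R ⊗[k] T) q.asIdeal.ResidueField := by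
      ext a <;> simp [ψ, φ, j, Algebra.TensorProduct.algebraMap_apply, ← map_mul]
    have h2 := hnil.map ψ
    rw [show ψ (φ f) = algebraMap (R ⊗[k] T) q.asIdeal.ResidueField f from AlgHom.congr_fun h f] at h2
    exact hfq (Ideal.algebraMap_residueField_eq_zero.mp h2.eq_zero)
  · intro hnil
    have hmem : φ f ∉ nilradical (p.asIdeal.ResidueField ⊗[k] T) := mem_nilradical.not.mpr hnil
    rw [nilradical_eq_sInf, Ideal.mem_sInf] at hmem
    push Not at hmem
    obtain ⟨Q, hQ, hfQ⟩ := hmem
    haveI : Q.IsPrime := hQ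
    refine ⟨⟨Q.comap φ, inferInstance⟩, hfQ, ?_⟩
    ext a
    show φ (a ⊗ₜ[k] 1) ∈ Q ↔ a ∈ p.asIdeal
    rw [Algebra.TensorProduct.map_tmul, AlgHom.id_apply, ← Ideal.algebraMap_residueField_eq_zero (I := p.asIdeal)]
    constructor
    · intro h
      by_contra hne
      exact hQ.ne_top (Q.eq_top_of_isUnit_mem h ((IsUnit.mk0 _ hne).map
        (Algebra.TensorProduct.includeLeft : p.asIdeal.ResidueField →ₐ[k] p.asIdeal.ResidueField ⊗[k] T)))
    · intro h
      rw [show IsScalarTower.toAlgHom k R p.asIdeal.ResidueField a = 0 from h, TensorProduct.zero_tmul]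
      exact zero_mem _

/-- Let k be a field, R and S k-algebras, S' ⊆ S a k-subalgebra and f ∈ R ⊗ₖ S', with image f again in R
⊗ₖ S. Then the images in Spec(R) of Spec((R ⊗ₖ S)_f) and of Spec((R ⊗ₖ S')_f) coincide: a prime p of
R is the contraction of a prime of R ⊗ₖ S not containing f if and only if it is the contraction of a
prime of R ⊗ₖ S' not containing f. -/
theorem result (k : Type u) [Field k] (R S : Type u) [CommRing R] [Algebra k R] [CommRing S] [Algebra k S] (S' : Subalgebra k S) (f : R ⊗[k] S') (p : PrimeSpectrum R) : (∃ q : PrimeSpectrum (R ⊗[k] S), Algebra.TensorProduct.map (AlgHom.id k R) S'.val f ∉ q.asIdeal ∧ q.asIdeal.comap (algebraMap R (R ⊗[k] S)) = p.asIdeal) ↔ (∃ q' : PrimeSpectrum (R ⊗[k] S'), f ∉ q'.asIdeal ∧ q'.asIdeal.comap (algebraMap R (R ⊗[k] S')) = p.asIdeal) := by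
  rw [exists_iff_not_isNilpotent, exists_iff_not_isNilpotent]
  let ι := Algebra.TensorProduct.map (AlgHom.id k p.asIdeal.ResidueField) S'.val
  have hι : Function.Injective ι :=
    Module.Flat.lTensor_preserves_injective_linearMap S'.val.toLinearMap Subtype.val_injective
  rw [not_iff_not, ← IsNilpotent.map_iff hι]
  suffices h : ι.comp (Algebra.TensorProduct.map (IsScalarTower.toAlgHom k R p.asIdeal.ResidueField) (AlgHom.id k S')) =
      (Algebra.TensorProduct.map (IsScalarTower.toAlgHom k R p.asIdeal.ResidueField) (AlgHom.id k S)).comp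
        (Algebra.TensorProduct.map (AlgHom.id k R) S'.val) by
    exact Iff.of_eq (congrArg IsNilpotent (AlgHom.congr_fun h f).symm)
  ext a <;> simp [ι]

end Groth.Agent.S6286
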