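import Mathlib.RingTheory.Valuation.ValuationRing
import Mathlib.Algebra.Colimit.Ring
import Mathlib.Order.Directed
import Mathlib

set_option autoImplicit false
universe u
namespace CAlg
end CAlg
open CAlg

namespace Groth.Agent.S6287

/-- Let (A_i) be a directed system of valuation rings. Then the colimit A = colim A_i is a valuation
ring (in particular a domain). -/
theorem result {ι : Type u} [Preorder ι] [Nonempty ι] [IsDirected ι (· ≤ ·)] (G : ι → Type u) [∀ i, CommRing (G i)] [∀ i, IsDomain (G i)] [∀ i, ValuationRing (G i)] (f : ∀ i j, i ≤ j → G i →+* G j) [DirectedSystem G fun i j h => f i j h] : ∃ _ : IsDomain (Ring.DirectLimit G fun i j h => f i j h), ValuationRing (Ring.DirectLimit G fun i j h => f i j h) := by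
  let S := Ring.DirectLimit G fun i j h => f i j h
  let o := fun i => Ring.DirectLimit.of G (fun i j h => f i j h) i
  have ho : ∀ i j (h : i ≤ j) (a : G i), o j (f i j h a) = o i a := fun i j h a => Ring.DirectLimit.of_f h a
  have hcommon : ∀ a b : S, ∃ k, ∃ x y : G k, o k x = a ∧ o k y = b := by
    intro a b
    obtain ⟨i, x, rfl⟩ := Ring.DirectLimit.exists_of a
    obtain ⟨j, y, rfl⟩ := Ring.DirectLimit.exists_of b
    obtain ⟨k, hik, hjk⟩ := exists_ge_ge i j
    exact ⟨k, f i k hik x, f j k hjk y, ho _ _ _ _, ho _ _ _ _⟩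
  haveI : Nontrivial S := by
    refine ⟨⟨1, 0, fun h => ?_⟩⟩
    obtain ⟨i⟩ := ‹Nonempty ι›
    obtain ⟨k, hik, hk⟩ := Ring.DirectLimit.of.zero_exact (show o i 1 = 0 by rw [map_one]; exact h)
    rw [map_one] at hk
    exact one_ne_zero hk
  haveI : NoZeroDivisors S := ⟨fun {a b} hab => by
    obtain ⟨k, x, y, rfl, rfl⟩ := hcommon a b
    obtain ⟨l, hkl, hl⟩ := Ring.DirectLimit.of.zero_exact (show o k (x * y) = 0 by rw [map_mul]; exact hab)
    rw [map_mul] at hl
    rcases mul_eq_zero.1 hl with h | h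
    · exact Or.inl (by rw [← ho k l hkl x, h, map_zero])
    · exact Or.inr (by rw [← ho k l hkl y, h, map_zero])⟩
  haveI : IsDomain S := NoZeroDivisors.to_isDomain S
  refine ⟨inferInstance, ?_⟩
  haveI : PreValuationRing S := ⟨fun a b => by
    obtain ⟨k, x, y, rfl, rfl⟩ := hcommon a b
    obtain ⟨c, hc | hc⟩ := ValuationRing.cond x y
    · exact ⟨o k c, Or.inl (by rw [← map_mul, hc])⟩
    · exact ⟨o k c, Or.inr (by rw [← map_mul, hc])⟩⟩
  exact {}

end Groth.Agent.S6287
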