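import Mathlib.RingTheory.Valuation.ValuationSubring
import Mathlib.RingTheory.Algebraic.Defs
import Mathlib

set_option autoImplicit false
universe u
namespace CAlg
end CAlg
open CAlg

namespace Groth.Agent.S6288

/-- Let L/K be an algebraic extension of fields and B ⊆ L a valuation ring with fraction field L which
is not a field. Then A = K ∩ B is a valuation ring of K (automatic) which is again not a field, i.e.
A ≠ K. -/
theorem result (K L : Type u) [Field K] [Field L] [Algebra K L] [Algebra.IsAlgebraic K L] (B : ValuationSubring L) (hB : B ≠ ⊤) : B.comap (algebraMap K L) ≠ ⊤ := by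
  intro h
  apply hB
  ext x
  simp only [ValuationSubring.mem_top, iff_true]
  have hK : ∀ c : K, algebraMap K L c ∈ B := fun c => by
    have : c ∈ B.comap (algebraMap K L) := h ▸ ValuationSubring.mem_top c
    exact this
  have hint : IsIntegral K x := (Algebra.IsAlgebraic.isAlgebraic (R := K) x).isIntegral
  let φ : K →+* B := (algebraMap K L).codRestrict B.toSubring hK
  letI : Algebra K B := φ.toAlgebra
  haveI : IsScalarTower K B L := IsScalarTower.of_algebraMap_eq (fun c => rfl)
  obtain ⟨y, hy⟩ := IsIntegrallyClosed.algebraMap_eq_of_integral (R := B) (K := L) hint.tower_top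
  rw [← hy]
  exact y.2

end Groth.Agent.S6288
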