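import Mathlib.RingTheory.Valuation.ValuationSubring
import Mathlib.RingTheory.LocalRing.ResidueField.Basic
import Mathlib

set_option autoImplicit false
universe u
namespace CAlg
end CAlg
open CAlg

namespace Groth.Agent.S6289

/-- Let A' be a valuation ring with residue field K and A ⊆ K a valuation ring with fraction field K.
Then the subring C of A' consisting of the elements whose residue class lies in A is a valuation
ring. -/
theorem result (A' : Type u) [CommRing A'] [IsDomain A'] [ValuationRing A'] (A : ValuationSubring (IsLocalRing.ResidueField A')) : ValuationRing (A.toSubring.comap (IsLocalRing.residue A')) := by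
  haveI : PreValuationRing (A.toSubring.comap (IsLocalRing.residue A')) := ⟨fun a b => by
    have key : ∀ a b : A.toSubring.comap (IsLocalRing.residue A'), ∀ c : A', (a : A') * c = b →
        ∃ c' : A.toSubring.comap (IsLocalRing.residue A'), a * c' = b ∨ b * c' = a := by
      intro a b c hc
      by_cases hcA : IsLocalRing.residue A' c ∈ A
      · exact ⟨⟨c, hcA⟩, Or.inl (Subtype.ext hc)⟩
      · have hu : IsUnit c := by
          by_contra hnu
          apply hcA
          rw [(IsLocalRing.residue_eq_zero_iff c).2 ((IsLocalRing.mem_maximalIdeal c).2 hnu)]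
          exact A.zero_mem
        obtain ⟨v, hv⟩ := hu
        subst hv
        have hinv : IsLocalRing.residue A' (↑v⁻¹ : A') ∈ A := by
          rcases A.mem_or_inv_mem (IsLocalRing.residue A' (v : A')) with h | h
          · exact absurd h hcA
          · have : IsLocalRing.residue A' (↑v⁻¹ : A') = (IsLocalRing.residue A' (v : A'))⁻¹ := by
              refine eq_inv_of_mul_eq_one_left ?_
              rw [← map_mul, Units.inv_mul, map_one]
            rwa [this]
        refine ⟨⟨↑v⁻¹, hinv⟩, Or.inr (Subtype.ext ?_)⟩
        show (b : A') * ↑v⁻¹ = a
        rw [← hc, mul_assoc, Units.mul_inv, mul_one]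
    obtain ⟨c, hc | hc⟩ := ValuationRing.cond (a : A') (b : A')
    · exact key a b c hc
    · obtain ⟨c', hc'⟩ := key b a c hc
      exact ⟨c', hc'.symm⟩⟩
  exact {}

end Groth.Agent.S6289
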