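import Mathlib.RingTheory.Noetherian.Defs
import Mathlib.RingTheory.Finiteness.Defs
import Mathlib.Algebra.Algebra.Operations
import Mathlib.RingTheory.Ideal.Operations
import Mathlib

set_option autoImplicit false
universe u
namespace CAlg
end CAlg
open CAlg

namespace Groth.Agent.S6290

/-- Let R be a Noetherian ring, I ⊆ R an ideal, M a finite R-module and N = ⋂ₙ IⁿM. Then for every prime
p ⊇ I there is f ∈ R, f ∉ p, with N_f = 0, i.e. every element of N is annihilated by some power of
f. -/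
theorem result {R : Type u} [CommRing R] [IsNoetherianRing R] (I : Ideal R) (M : Type u) [AddCommGroup M] [Module R M] [Module.Finite R M] (p : Ideal R) [p.IsPrime] (hIp : I ≤ p) : ∃ f : R, f ∉ p ∧ ∀ x ∈ (⨅ n : ℕ, I ^ n • (⊤ : Submodule R M)), ∃ k : ℕ, f ^ k • x = 0 := by
  haveI : IsNoetherian R M := inferInstance
  have hK : ∀ x ∈ (⨅ n : ℕ, I ^ n • (⊤ : Submodule R M)), ∃ r : I, (r : R) • x = x := fun x hx =>
    (I.mem_iInf_smul_pow_eq_bot_iff x).1 hx
  obtain ⟨G, hG⟩ := (IsNoetherian.noetherian (⨅ n : ℕ, I ^ n • (⊤ : Submodule R M)) : Submodule.FG _)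
  choose r hr using fun g : G => hK g (hG ▸ Submodule.subset_span g.2)
  refine ⟨∏ g : G, (1 - (r g : R)), ?_, fun x hx => ⟨1, ?_⟩⟩
  · intro h
    obtain ⟨g, -, hg⟩ := (Ideal.IsPrime.prod_mem_iff (hp := ‹p.IsPrime›)).1 h
    exact (inferInstance : p.IsPrime).ne_top ((Ideal.eq_top_iff_one _).2 (by simpa using p.add_mem hg (hIp (r g).2)))
  · rw [pow_one]
    rw [← hG] at hx
    induction hx using Submodule.span_induction with
    | mem g hg =>
      classical
      rw [← Finset.prod_erase_mul _ _ (Finset.mem_univ (⟨g, hg⟩ : G)), mul_smul, sub_smul, one_smul, hr ⟨g, hg⟩, sub_self, smul_zero]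
    | zero => simp
    | add a b _ _ ha hb => rw [smul_add, ha, hb, add_zero]
    | smul c a _ ha => rw [smul_comm, ha, smul_zero]

end Groth.Agent.S6290
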