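import Mathlib.RingTheory.FiniteLength
import Mathlib.RingTheory.LocalRing.MaximalIdeal.Defs
import Mathlib.Algebra.Algebra.Operations
import Mathlib.RingTheory.Nakayama
import Mathlib.RingTheory.LocalRing.MaximalIdeal.Basic

set_option autoImplicit false
universe u
namespace CAlg
end CAlg
open CAlg

namespace Groth.Agent.S6291

/-- Let R be a local ring with maximal ideal m and M an R-module of finite length. Then mⁿM = 0 for some
n. -/
theorem result {R : Type u} [CommRing R] [IsLocalRing R] (M : Type u) [AddCommGroup M] [Module R M] (hM : IsFiniteLength R M) : ∃ n : ℕ, (IsLocalRing.maximalIdeal R) ^ n • (⊤ : Submodule R M) = ⊥ := by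
  obtain ⟨hn, ha⟩ := isFiniteLength_iff_isNoetherian_isArtinian.1 hM
  obtain ⟨n, hn'⟩ := IsArtinian.monotone_stabilizes
    (R := R) (M := M) ⟨fun k => OrderDual.toDual (IsLocalRing.maximalIdeal R ^ k • (⊤ : Submodule R M)),
      fun a b hab => Submodule.smul_mono_left (Ideal.pow_le_pow_right hab)⟩
  refine ⟨n, Submodule.eq_bot_of_le_smul_of_le_jacobson_bot (IsLocalRing.maximalIdeal R) _
    (IsNoetherian.noetherian _) ?_ (IsLocalRing.maximalIdeal_le_jacobson _)⟩
  rw [← Submodule.mul_smul, ← pow_succ']
  exact (show IsLocalRing.maximalIdeal R ^ n • (⊤ : Submodule R M) =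
    IsLocalRing.maximalIdeal R ^ (n + 1) • ⊤ from hn' (n + 1) (Nat.le_succ n)).le

end Groth.Agent.S6291
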