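import Mathlib.RingTheory.FiniteLength
import Mathlib.Algebra.Algebra.Operations
import Mathlib.RingTheory.Finiteness.Defs
import Mathlib.RingTheory.Ideal.Maximal
import Groth.Agent.CAlgMisc1.Imports

set_option autoImplicit false
universe u
namespace CAlg
end CAlg
open CAlg

namespace Groth.Agent.S6292

/-- Let R be a ring and m ⊆ R a finitely generated maximal ideal (for instance R Noetherian). If M is a
finite R-module with mⁿM = 0 for some n, then M has finite length. -/
theorem result {R : Type u} [CommRing R] (m : Ideal R) [m.IsMaximal] (hm : m.FG) (M : Type u) [AddCommGroup M] [Module R M] [Module.Finite R M] (n : ℕ) (hn : m ^ n • (⊤ : Submodule R M) = ⊥) : IsFiniteLength R M := by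
  induction n generalizing M with
  | zero =>
    rw [pow_zero, Ideal.one_eq_top, Submodule.top_smul] at hn
    have : Subsingleton M := (Submodule.subsingleton_iff R).1 (subsingleton_of_bot_eq_top hn.symm)
    exact .of_subsingleton
  | succ n ih =>
    rw [isFiniteLength_iff_isNoetherian_isArtinian]
    let N : Submodule R M := m • ⊤
    have : Module.Finite R N := Module.Finite.iff_fg.2 (Submodule.FG.smul hm Module.Finite.fg_top)
    have hN : m ^ n • (⊤ : Submodule R N) = ⊥ := by
      apply Submodule.map_injective_of_injective N.injective_subtype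
      rw [Submodule.map_smul'', Submodule.map_top, Submodule.range_subtype, Submodule.map_bot,
        ← Submodule.mul_smul, ← pow_succ, hn]
    obtain ⟨h1, h2⟩ := (isFiniteLength_iff_isNoetherian_isArtinian (R := R) (M := N)).1 (ih N hN)
    have : IsSimpleModule R (R ⧸ m) := isSimpleModule_iff_isCoatom.2 (Ideal.IsMaximal.out)
    obtain ⟨k, v, hv⟩ := Module.Finite.exists_fin (R := R) (M := M)
    let q : (Fin k → R ⧸ m) →ₗ[R] M ⧸ N := ∑ i, (Submodule.liftQ (m : Submodule R R)
      (LinearMap.toSpanSingleton R (M ⧸ N) (Submodule.Quotient.mk (v i))) fun r hr => by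
        rw [LinearMap.mem_ker, LinearMap.toSpanSingleton_apply, ← Submodule.Quotient.mk_smul,
          Submodule.Quotient.mk_eq_zero]
        exact Submodule.smul_mem_smul hr Submodule.mem_top).comp (LinearMap.proj i)
    have hq : Function.Surjective q := fun y => by
      obtain ⟨x, rfl⟩ := Submodule.Quotient.mk_surjective _ y
      obtain ⟨c, rfl⟩ := (Submodule.mem_span_range_iff_exists_fun R).1 (hv.symm ▸ Submodule.mem_top : x ∈ Submodule.span R (Set.range v))
      refine ⟨fun i => Ideal.Quotient.mk m (c i), ?_⟩
      simp [q, ← Ideal.Quotient.mk_eq_mk]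
      exact (map_sum N.mkQ (fun i => c i • v i) Finset.univ).symm
    have : IsNoetherian R (R ⧸ m) := by
      open scoped IsSimpleOrder in exact isNoetherian_iff'.mpr inferInstance
    have : IsArtinian R (R ⧸ m) := by
      open scoped IsSimpleOrder in exact inferInstance
    have : IsNoetherian R (M ⧸ N) := isNoetherian_of_surjective q (LinearMap.range_eq_top.2 hq)
    have : IsArtinian R (M ⧸ N) := isArtinian_of_surjective _ q hq
    exact ⟨isNoetherian_of_range_eq_ker N.subtype N.mkQ (by rw [Submodule.range_subtype, Submodule.ker_mkQ]),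
      isArtinian_of_range_eq_ker N.subtype N.mkQ (by rw [Submodule.range_subtype, Submodule.ker_mkQ])⟩

end Groth.Agent.S6292
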