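import Mathlib.RingTheory.Localization.AtPrime.Basic
import Mathlib.RingTheory.Ideal.MinimalPrime.Basic
import Mathlib.Algebra.Algebra.Pi
import Mathlib.RingTheory.Localization.FractionRing
import Mathlib

set_option autoImplicit false
universe u
namespace CAlg
end CAlg
open CAlg

namespace Groth.Agent.S6294

/-- Let R be a ring with finitely many minimal primes q₁, …, q_t, and assume that the zerodivisors of R
are precisely the elements of q₁ ∪ … ∪ q_t. Then Q(R), the total ring of fractions of R, equals
R_{q₁} × … × R_{q_t}: the diagonal map R → ∏ R_{q_i} is a localization of R at its non-zerodivisors. -/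
theorem result {R : Type u} [CommRing R] {ι : Type} [Fintype ι] (q : ι → Ideal R) [∀ i, (q i).IsPrime] (hinj : Function.Injective q) (hmin : ∀ P : Ideal R, P ∈ minimalPrimes R ↔ P ∈ Set.range q) (hzd : ∀ x : R, x ∈ nonZeroDivisors R ↔ ∀ i, x ∉ q i) : IsLocalization (nonZeroDivisors R) (∀ i, Localization.AtPrime (q i)) := by
  classical
  haveI : ∀ i, Ring.KrullDimLE 0 (Localization.AtPrime (q i)) := fun i =>
    .of_isLocalization _ ((hmin _).2 ⟨i, rfl⟩) _
  let L := fun i => Localization.AtPrime (q i)
  have he : ∀ i, ∃ e : R, e ∉ q i ∧ ∀ j, j ≠ i → algebraMap R (L j) e = 0 := by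
    intro i
    have ht : ∀ j, j ≠ i → ∃ t ∈ q j, t ∉ q i := by
      intro j hj
      by_contra h
      push_neg at h
      have hmi : q i ∈ minimalPrimes R := (hmin _).2 ⟨i, rfl⟩
      exact hj (hinj (le_antisymm h (hmi.2 ⟨inferInstance, bot_le⟩ h)))
    choose t ht1 ht2 using ht
    have hn : ∀ j (hj : j ≠ i), ∃ N : ℕ, algebraMap R (L j) (t j hj) ^ N = 0 := by
      intro j hj
      have hmem : algebraMap R (L j) (t j hj) ∈ IsLocalRing.maximalIdeal (L j) :=
        (IsLocalization.AtPrime.to_map_mem_maximal_iff (L j) (q j) _).2 (ht1 j hj)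
      have : IsNilpotent (algebraMap R (L j) (t j hj)) := by
        rw [← mem_nilradical, nilradical_eq_sInf, Submodule.mem_sInf]
        intro P hP
        haveI : Ideal.IsPrime P := hP
        rw [IsLocalRing.eq_maximalIdeal (inferInstance : Ideal.IsMaximal P)]
        exact hmem
      exact this
    choose N hN using hn
    refine ⟨∏ j, (if hj : j = i then 1 else t j hj ^ N j hj), ?_, fun j hj => ?_⟩
    · intro h
      obtain ⟨j, -, hj⟩ := (Ideal.IsPrime.prod_mem_iff (hp := (inferInstance : (q i).IsPrime))).1 h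
      split_ifs at hj with hji
      · exact (inferInstance : (q i).IsPrime).ne_top ((Ideal.eq_top_iff_one _).2 hj)
      · exact ht2 j hji ((inferInstance : (q i).IsPrime).mem_of_pow_mem _ hj)
    · rw [map_prod]
      refine Finset.prod_eq_zero (Finset.mem_univ j) ?_
      rw [dif_neg hj, map_pow, hN j hj]
  choose e he1 he2 using he
  refine ⟨fun s => ?_, fun z => ?_, fun {x y} hxy => ?_⟩
  · rw [Pi.isUnit_iff]
    intro i
    exact IsLocalization.map_units (L i) (⟨s.1, (hzd s.1).1 s.2 i⟩ : (q i).primeCompl)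
  · choose a s has using fun i =>
      (show ∃ a : R, ∃ s : (q i).primeCompl, z i * algebraMap R (L i) (s : R) = algebraMap R (L i) a from by
        obtain ⟨⟨a, s⟩, h⟩ := IsLocalization.surj (q i).primeCompl (z i)
        exact ⟨a, s, h⟩)
    have hs : ∀ (f : ι → R) k, algebraMap R (L k) (∑ i, e i * f i) = algebraMap R (L k) (e k * f k) := by
      intro f k
      rw [map_sum]
      exact Finset.sum_eq_single k (fun i _ hik => by rw [map_mul, he2 i k hik.symm, zero_mul])
        (fun h => absurd (Finset.mem_univ k) h)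
    have hS : (∑ i, e i * (s i : R)) ∈ nonZeroDivisors R := by
      rw [hzd]
      intro k hk
      have h1 := (IsLocalization.AtPrime.to_map_mem_maximal_iff (L k) (q k) _).2 hk
      rw [hs (fun i => (s i : R)) k] at h1
      exact ((inferInstance : (q k).IsPrime).mem_or_mem
        ((IsLocalization.AtPrime.to_map_mem_maximal_iff (L k) (q k) _).1 h1)).elim (he1 k) (s k).2
    refine ⟨(∑ i, e i * a i, ⟨_, hS⟩), funext fun k => ?_⟩
    show z k * algebraMap R (L k) (∑ i, e i * (s i : R)) = algebraMap R (L k) (∑ i, e i * a i)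
    rw [hs (fun i => (s i : R)) k, hs a k, map_mul, map_mul, ← has k]
    ring
  · have hk : ∀ i, ∃ c ∉ q i, c * x = c * y := fun i => by
      obtain ⟨c, hc⟩ := (IsLocalization.eq_iff_exists (q i).primeCompl (L i)).1 (congrFun hxy i)
      exact ⟨c, c.2, hc⟩
    let J : Ideal R := LinearMap.ker (LinearMap.toSpanSingleton R R (x - y))
    obtain ⟨c, hc, hcn⟩ : ∃ c ∈ J, ∀ i, c ∉ q i := by
      by_contra hcon
      push_neg at hcon
      have hsub : (J : Set R) ⊆ ⋃ i ∈ (↑(Finset.univ : Finset ι) : Set ι), (q i : Set R) := fun c hc => by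
        obtain ⟨i, hi⟩ := hcon c hc
        exact Set.mem_biUnion (Finset.mem_coe.2 (Finset.mem_univ i)) hi
      rcases isEmpty_or_nonempty ι with hι | hι
      · simp at hsub
        exact Set.notMem_empty (0 : R) (show (0 : R) ∈ (∅ : Set R) by rw [← hsub]; exact J.zero_mem)
      · obtain ⟨i, -, hi⟩ := (Ideal.subset_union_prime (Classical.arbitrary ι) (Classical.arbitrary ι)
          (fun i _ _ _ => inferInstance)).1 hsub
        obtain ⟨c, hc, hcxy⟩ := hk i
        exact hc (hi (by simp [J, mul_sub, hcxy]))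
    refine ⟨⟨c, (hzd c).2 hcn⟩, ?_⟩
    simpa [J, mul_sub, sub_eq_zero] using hc

end Groth.Agent.S6294
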