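import Mathlib.RingTheory.Localization.AtPrime.Basic
import Mathlib.RingTheory.Ideal.MinimalPrime.Basic
import Mathlib.Algebra.Algebra.Pi
import Mathlib.RingTheory.Nilpotent.Defs
import Mathlib.Algebra.GroupWithZero.NonZeroDivisors
import Mathlib.RingTheory.Spectrum.Prime.Basic
import Mathlib

set_option autoImplicit false
universe u
namespace CAlg
end CAlg
open CAlg

namespace Groth.Agent.S6295

/-- Let R be a reduced ring. Then every localization R_p at a minimal prime p is a field and the map R →
∏_{p minimal} R_p is injective (so R is a subring of a product of fields); moreover the set of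
zerodivisors of R is the union of the minimal primes. -/
theorem result (R : Type u) [CommRing R] [IsReduced R] : (∀ p : PrimeSpectrum R, p.asIdeal ∈ minimalPrimes R → IsField (Localization.AtPrime p.asIdeal)) ∧ Function.Injective (algebraMap R (∀ p : {p : PrimeSpectrum R // p.asIdeal ∈ minimalPrimes R}, Localization.AtPrime p.1.asIdeal)) ∧ (∀ x : R, x ∉ nonZeroDivisors R ↔ ∃ p ∈ minimalPrimes R, x ∈ p) := by
  have hfield : ∀ p : PrimeSpectrum R, p.asIdeal ∈ minimalPrimes R → IsField (Localization.AtPrime p.asIdeal) := by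
    intro p hp
    haveI : Ring.KrullDimLE 0 (Localization.AtPrime p.asIdeal) := .of_isLocalization _ hp _
    exact Ring.KrullDimLE.isField_of_isReduced
  have hzero : ∀ p : PrimeSpectrum R, p.asIdeal ∈ minimalPrimes R → ∀ x ∈ p.asIdeal, ∃ s ∉ p.asIdeal, s * x = 0 := by
    intro p hp x hx
    have h0 : algebraMap R (Localization.AtPrime p.asIdeal) x = 0 := by
      by_contra hne
      obtain ⟨y, hy⟩ := (hfield p hp).mul_inv_cancel hne
      exact ((IsLocalization.AtPrime.isUnit_to_map_iff (Localization.AtPrime p.asIdeal) p.asIdeal x).1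
        (IsUnit.of_mul_eq_one _ hy)) hx
    obtain ⟨s, hs⟩ := (IsLocalization.map_eq_zero_iff p.asIdeal.primeCompl _ x).1 h0
    exact ⟨s, s.2, hs⟩
  have hnil : ∀ x : R, (∀ p ∈ minimalPrimes R, x ∈ p) → x = 0 := by
    intro x hx
    have : x ∈ sInf (minimalPrimes R) := Submodule.mem_sInf.2 hx
    rw [minimalPrimes_eq_minimals] at this
    refine IsNilpotent.eq_zero (?_ : IsNilpotent x)
    rw [← mem_nilradical, nilradical_eq_sInf, Submodule.mem_sInf]
    intro P hP
    haveI : Ideal.IsPrime P := hP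
    obtain ⟨Q, hQ, hQP⟩ := Ideal.exists_minimalPrimes_le (I := ⊥) (J := P) bot_le
    exact hQP (hx Q hQ)
  refine ⟨hfield, ?_, fun x => ⟨fun hx => ?_, ?_⟩⟩
  · rw [injective_iff_map_eq_zero]
    intro x hx
    refine hnil x fun p hp => ?_
    by_contra hxp
    have h1 := congrFun hx ⟨⟨p, hp.1.1⟩, hp⟩
    haveI : p.IsPrime := hp.1.1
    obtain ⟨s, hs⟩ := (IsLocalization.map_eq_zero_iff p.primeCompl _ x).1 h1
    exact ((inferInstance : p.IsPrime).mem_or_mem (hs ▸ p.zero_mem : (s : R) * x ∈ p)).elim s.2 hxp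
  · by_contra hall
    push_neg at hall
    apply hx
    rw [mem_nonZeroDivisors_iff_right]
    intro y hy
    refine hnil y fun p hp => ?_
    exact (hp.1.1.mem_or_mem (hy ▸ p.zero_mem : y * x ∈ p)).resolve_right (hall p hp)
  · rintro ⟨p, hp, hxp⟩ hx
    obtain ⟨s, hs, hsx⟩ := hzero ⟨p, hp.1.1⟩ hp x hxp
    exact hs ((mem_nonZeroDivisors_iff_right.1 hx s hsx) ▸ p.zero_mem)

end Groth.Agent.S6295
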