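import Mathlib.RingTheory.LocalRing.ResidueField.Basic
import Mathlib.RingTheory.Finiteness.Defs
import Mathlib.RingTheory.Ideal.Maps
import Mathlib

set_option autoImplicit false
universe u
namespace CAlg
end CAlg
open CAlg

namespace Groth.Agent.S6296

/-- Let A → B be a local homomorphism of local rings such that (1) B is a finite A-module, (2) the
maximal ideal m_B is finitely generated, (3) the induced map of residue fields is an isomorphism,
and (4) m_A/m_A² → m_B/m_B² is surjective, i.e. m_B ⊆ m_A B + m_B². Then A → B is surjective. -/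
theorem result {A B : Type u} [CommRing A] [CommRing B] [IsLocalRing A] [IsLocalRing B] [Algebra A B] [IsLocalHom (algebraMap A B)] [Module.Finite A B] (hfg : (IsLocalRing.maximalIdeal B).FG) (hres : Function.Surjective (IsLocalRing.ResidueField.map (algebraMap A B))) (hcot : IsLocalRing.maximalIdeal B ≤ (IsLocalRing.maximalIdeal A).map (algebraMap A B) ⊔ (IsLocalRing.maximalIdeal B) ^ 2) : Function.Surjective (algebraMap A B) := by
  set mA := IsLocalRing.maximalIdeal A
  set mB := IsLocalRing.maximalIdeal B
  have h1 : mB ≤ mA.map (algebraMap A B) := by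
    refine Submodule.le_of_le_smul_of_le_jacobson_bot hfg (IsLocalRing.maximalIdeal_le_jacobson ⊥) ?_
    rwa [smul_eq_mul, ← sq]
  have h2 : (⊤ : Submodule A B) ≤ LinearMap.range (Algebra.linearMap A B) := by
    refine Submodule.le_of_le_smul_of_le_jacobson_bot Module.Finite.fg_top (IsLocalRing.maximalIdeal_le_jacobson (⊥ : Ideal A)) ?_
    intro b _
    obtain ⟨r, hr⟩ := hres (IsLocalRing.residue B b)
    obtain ⟨a, rfl⟩ := IsLocalRing.residue_surjective r
    rw [IsLocalRing.ResidueField.map_residue] at hr
    have hd : b - algebraMap A B a ∈ mB := Ideal.Quotient.eq.1 hr.symm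
    have hd' : b - algebraMap A B a ∈ (mA • ⊤ : Submodule A B) := by
      rw [Ideal.smul_top_eq_map]; exact h1 hd
    exact Submodule.mem_sup.2 ⟨algebraMap A B a, ⟨a, rfl⟩, b - algebraMap A B a, hd', by ring⟩
  intro b
  exact h2 (Submodule.mem_top : b ∈ (⊤ : Submodule A B))

end Groth.Agent.S6296
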