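import Mathlib.RingTheory.Ideal.Prime
import Groth.Agent.CAlgMisc1.Imports

set_option autoImplicit false
universe u
namespace CAlg
end CAlg
open CAlg

namespace Groth.Agent.S6298

/-- Let R be a ring, x ∈ R, I ⊆ R an ideal and p₁, …, p_r prime ideals such that for each i the coset x
+ I is not contained in p_i. Then there is y ∈ I with x + y ∉ p_i for all i. -/
theorem result {R : Type u} [CommRing R] (x : R) (I : Ideal R) {r : ℕ} (p : Fin r → Ideal R) [∀ i, (p i).IsPrime] (h : ∀ i, ∃ y ∈ I, x + y ∉ p i) : ∃ y ∈ I, ∀ i, x + y ∉ p i := by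
  classical
  have key : ∀ t : Finset (Fin r), (∀ i ∈ t, ∀ j ∈ t, p i ≤ p j → i = j) → ∃ y ∈ I, ∀ i ∈ t, x + y ∉ p i := by
    intro t
    induction t using Finset.induction_on with
    | empty => exact fun _ => ⟨0, I.zero_mem, by simp⟩
    | insert q t hq ih =>
      intro hinc
      obtain ⟨y, hy, hyt⟩ := ih fun i hi j hj => hinc i (Finset.mem_insert_of_mem hi) j (Finset.mem_insert_of_mem hj)
      by_cases hyq : x + y ∈ p q
      · obtain ⟨z₀, hz₀, hz₀q⟩ : ∃ z ∈ I, z ∉ p q := by
          by_contra! hIq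
          obtain ⟨w, hw, hwq⟩ := h q
          exact hwq (by
            rw [show x + w = (x + y) + (w - y) by ring]
            exact add_mem hyq (hIq _ (sub_mem hw hy)))
        have hpq : ∀ i ∈ t, ∃ z, z ∈ p i ∧ z ∉ p q := fun i hi => SetLike.not_le_iff_exists.1 fun hle =>
          hq (hinc i (Finset.mem_insert_of_mem hi) q (Finset.mem_insert_self q t) hle ▸ hi)
        choose! z hz hzq using hpq
        have hprod : z₀ * ∏ i ∈ t, z i ∉ p q := fun hmem => by
          rcases (inferInstance : (p q).IsPrime).mem_or_mem hmem with h' | h'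
          · exact hz₀q h'
          · obtain ⟨i, hi, hi'⟩ := (inferInstance : (p q).IsPrime).prod_mem_iff.1 h'
            exact hzq i hi hi'
        refine ⟨y + z₀ * ∏ i ∈ t, z i, add_mem hy (I.mul_mem_right _ hz₀), fun i hi => ?_⟩
        rw [Finset.mem_insert] at hi
        rw [← add_assoc]
        rcases hi with rfl | hi
        · exact fun hmem => hprod ((Submodule.add_mem_iff_right _ hyq).1 hmem)
        · exact fun hmem => hyt i hi ((Submodule.add_mem_iff_left _
            (Ideal.mul_mem_left _ _ (Ideal.mem_of_dvd _ (Finset.dvd_prod_of_mem z hi) (hz i hi)))).1 hmem)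
      · exact ⟨y, hy, fun i hi => (Finset.mem_insert.1 hi).elim (fun e => e ▸ hyq) (hyt i)⟩
  let t : Finset (Fin r) := Finset.univ.filter fun i => ∀ j, p i ≤ p j → p j ≤ p i ∧ i ≤ j
  obtain ⟨y, hy, hyt⟩ := key t fun i hi j hj hij => by
    simp only [t, Finset.mem_filter] at hi hj
    obtain ⟨hji, h1⟩ := hi.2 j hij
    exact le_antisymm h1 (hj.2 i hji).2
  refine ⟨y, hy, fun i hmem => ?_⟩
  obtain ⟨j₀, hj₀, hmax⟩ := Finset.exists_maximalFor p (Finset.univ.filter fun j => p i ≤ p j) ⟨i, by simp⟩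
  have hne : (Finset.univ.filter fun j => p j = p j₀).Nonempty := ⟨j₀, by simp⟩
  let j := (Finset.univ.filter fun j => p j = p j₀).min' hne
  have hj : p j = p j₀ := (Finset.mem_filter.1 (Finset.min'_mem _ hne)).2
  simp only [Finset.coe_filter, Finset.mem_univ, true_and, Set.mem_setOf_eq, Finset.mem_filter] at hj₀
  refine hyt j (Finset.mem_filter.2 ⟨Finset.mem_univ _, fun l hl => ?_⟩) (hj ▸ hj₀ hmem)
  have h1 : p l ≤ p j₀ := hmax (j := l) (by simp [hj₀.trans (hj ▸ hl)]) (hj ▸ hl)
  exact ⟨hj ▸ h1, Finset.min'_le _ _ (by simp [le_antisymm h1 (hj ▸ hl)])⟩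

end Groth.Agent.S6298
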