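import Mathlib.RingTheory.PowerSeries.Basic
import Mathlib.RingTheory.IntegralClosure.IntegrallyClosed
import Mathlib.RingTheory.Noetherian.Defs
import Mathlib.RingTheory.PowerSeries.NoZeroDivisors
import Groth.Agent.CAlgH.NagataPowerSeries

set_option autoImplicit false
universe u
namespace CAlg
end CAlg
open CAlg

namespace Groth.Agent.S6299

/-- Let R be a Noetherian normal domain. Then the power series ring R[[x]] is a Noetherian normal domain
(here: it is an integrally closed domain and a Noetherian ring). -/
theorem result (R : Type u) [CommRing R] [IsDomain R] [IsNoetherianRing R] [IsIntegrallyClosed R] : IsIntegrallyClosed (PowerSeries R) ∧ IsNoetherianRing (PowerSeries R) := by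
  exact ⟨CAlgH.isIntegrallyClosed_powerSeries R, inferInstance⟩

end Groth.Agent.S6299
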