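import Mathlib.RingTheory.Flat.Basic
import Mathlib.Algebra.Algebra.Operations
import Groth.Agent.CAlgMisc1.Projective

set_option autoImplicit false
universe u
namespace CAlg
end CAlg
open CAlg

namespace Groth.Agent.S6303

/-- Let R be a ring, I, J ⊆ R ideals and M a flat R-module. Then IM ∩ JM = (I ∩ J)M. -/
theorem result {R : Type u} [CommRing R] (I J : Ideal R) (M : Type u) [AddCommGroup M] [Module R M] [Module.Flat R M] : (I • (⊤ : Submodule R M)) ⊓ (J • ⊤) = (I ⊓ J) • (⊤ : Submodule R M) := by
  exact Groth.Agent.CAlgMisc1.inf_smul_top_eq I J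

end Groth.Agent.S6303
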