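import Mathlib.Algebra.GroupWithZero.NonZeroDivisors
import Mathlib.RingTheory.Ideal.Prime
import Mathlib.Algebra.Ring.Regular
import Groth.Agent.CAlgMisc1.Imports

set_option autoImplicit false
universe u
namespace CAlg
end CAlg
open CAlg

namespace Groth.Agent.S6306

/-- Let R be a nonzero ring such that every nonzero prime ideal of R contains a non-zerodivisor. Then R
is a domain. -/
theorem result (R : Type u) [CommRing R] [Nontrivial R] (h : ∀ p : Ideal R, p.IsPrime → p ≠ ⊥ → ∃ x ∈ p, x ∈ nonZeroDivisors R) : IsDomain R := by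
  by_cases hb : (⊥ : Ideal R).IsPrime
  · exact (Ideal.Quotient.isDomain_iff_prime _).2 hb |> fun _ =>
      (RingEquiv.quotientBot R).symm.toMulEquiv.isDomain
  · exfalso
    obtain ⟨P, hP⟩ := Ideal.nonempty_minimalPrimes (bot_ne_top : (⊥ : Ideal R) ≠ ⊤)
    obtain ⟨x, hxP, hx⟩ := h P hP.1.1 fun hbot => hb (hbot ▸ hP.1.1)
    exact (Ideal.disjoint_nonZeroDivisors_of_mem_minimalPrimes hP).le_bot ⟨hxP, hx⟩

end Groth.Agent.S6306
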