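import Mathlib.Algebra.Module.LocalizedModule.Basic
import Mathlib.RingTheory.LocalRing.ResidueField.Ideal
import Mathlib.RingTheory.Spectrum.Prime.Topology
import Mathlib.RingTheory.Finiteness.Defs
import Mathlib.LinearAlgebra.TensorProduct.Basic
import Mathlib.Algebra.Module.Projective
import Mathlib.LinearAlgebra.Quotient.Basic
import Mathlib.RingTheory.Localization.Away.Basic
import Groth.Agent.CAlgMisc2.InjLocus

set_option autoImplicit false
universe u
open scoped TensorProduct
namespace CAlg
end CAlg
open CAlg

namespace Groth.Agent.S6309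

/-- Let R be a ring and φ : P₁ → P₂ a map of finite projective R-modules. The set U of primes p of R
such that φ ⊗ κ(p) is injective is open, and for every f ∈ R with D(f) ⊆ U the map (P₁)_f → (P₂)_f
is injective and Coker(φ)_f is a finite projective module over R_f. -/
theorem result {R : Type u} [CommRing R] {P₁ P₂ : Type u} [AddCommGroup P₁] [Module R P₁] [AddCommGroup P₂] [Module R P₂] [Module.Finite R P₁] [Module.Projective R P₁] [Module.Finite R P₂] [Module.Projective R P₂] (φ : P₁ →ₗ[R] P₂) : IsOpen {p : PrimeSpectrum R | Function.Injective (φ.lTensor p.asIdeal.ResidueField)} ∧ ∀ f : R, (↑(PrimeSpectrum.basicOpen f) : Set (PrimeSpectrum R)) ⊆ {p : PrimeSpectrum R | Function.Injective (φ.lTensor p.asIdeal.ResidueField)} → Function.Injective (LocalizedModule.map (Submonoid.powers f) φ) ∧ Module.Finite (Localization.Away f) (LocalizedModule (Submonoid.powers f) (P₂ ⧸ LinearMap.range φ)) ∧ Module.Projective (Localization.Away f) (LocalizedModule (Submonoid.powers f) (P₂ ⧸ LinearMap.range φ)) := by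
  refine ⟨?_, fun f hf => Groth.Agent.CAlgMisc2.injLocus_away φ f hf⟩
  have : {p : PrimeSpectrum R | Function.Injective (φ.lTensor p.asIdeal.ResidueField)} =
      (PrimeSpectrum.zeroLocus (Groth.Agent.CAlgMisc2.retrIdeal φ : Set R))ᶜ := by
    ext p
    exact (Groth.Agent.CAlgMisc2.injective_fibre_iff φ p).trans (by simp [PrimeSpectrum.mem_zeroLocus])
  rw [this]
  exact (PrimeSpectrum.isClosed_zeroLocus _).isOpen_compl

end Groth.Agent.S6309
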