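import Groth.Statements.S6310
import Mathlib.Algebra.Module.LocalizedModule.Submodule
import Mathlib.LinearAlgebra.Matrix.Charpoly.LinearMap
-- import your own Groth.Agent.* helpers here

set_option autoImplicit false
set_option linter.all false
universe u
open CAlg

namespace Groth.Agent.S6310

/-- Let R be a ring, S ⊆ R a multiplicative subset, I ⊆ R an ideal and M a finite R-module. If x₁, …,
x_r ∈ M have images generating S⁻¹(M/IM) as an S⁻¹R-module, then there is f ∈ S + I (f = s + i with
s ∈ S, i ∈ I) such that x₁, …, x_r generate M_f as an R_f-module. -/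
theorem result {R : Type u} [CommRing R] (S : Submonoid R) (I : Ideal R) (M : Type u) [AddCommGroup M] [Module R M] [Module.Finite R M] {r : ℕ} (x : Fin r → M) (hx : Submodule.span (Localization S) (Set.range fun j => LocalizedModule.mkLinearMap S (M ⧸ (I • (⊤ : Submodule R M))) (Submodule.Quotient.mk (x j))) = ⊤) : ∃ (s : R) (i : R), s ∈ S ∧ i ∈ I ∧ Submodule.span (Localization.Away (s + i)) (Set.range fun j => LocalizedModule.mkLinearMap (Submonoid.powers (s + i)) M (x j)) = ⊤ := by
  classical
  let N : Submodule R M := Submodule.span R (Set.range x)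
  let q : M →ₗ[R] M ⧸ (I • ⊤ : Submodule R M) := Submodule.mkQ _
  -- every element is multiplied into `N + I M` by an element of `S`
  have h1 : ∀ m : M, ∃ t ∈ S, t • m ∈ N ⊔ I • ⊤ := by
    intro m
    have hm : LocalizedModule.mkLinearMap S _ (q m) ∈
        (Submodule.span R (Set.range fun j => q (x j))).localized' (Localization S) S (LocalizedModule.mkLinearMap S _) := by
      rw [Submodule.localized'_span, ← Set.range_comp]
      exact hx.symm ▸ Submodule.mem_top
    obtain ⟨w, hw, t, ht⟩ := (Submodule.mem_localized' _ _ _ _ _).mp hm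
    rw [IsLocalizedModule.mk'_eq_iff, Submonoid.smul_def, ← map_smul] at ht
    obtain ⟨u, hu⟩ := IsLocalizedModule.exists_of_eq (S := S) ht
    refine ⟨u * t, S.mul_mem u.2 t.2, ?_⟩
    rw [show (fun j => q (x j)) = q ∘ x from rfl, Set.range_comp, Submodule.span_image] at hw
    obtain ⟨v, hv, rfl⟩ := hw
    simp only [Submonoid.smul_def, map_smul] at hu
    have h2 : ((u : R) • (t : R) • m - (u : R) • v) ∈ (I • ⊤ : Submodule R M) := by
      rw [← Submodule.Quotient.mk_eq_zero]
      show q _ = 0
      simp only [map_sub, map_smul]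
      rw [hu, sub_self]
    rw [mul_smul, show (u : R) • (t : R) • m = (u : R) • v + ((u : R) • (t : R) • m - (u : R) • v) by abel]
    exact Submodule.add_mem_sup (N.smul_mem _ hv) h2
  obtain ⟨G, hG⟩ := Module.Finite.fg_top (R := R) (M := M)
  choose t ht ht' using h1
  let s₀ : R := ∏ g ∈ G, t g
  have hs₀ : s₀ ∈ S := prod_mem fun g _ => ht g
  have h3 : ∀ m : M, s₀ • m ∈ N ⊔ I • ⊤ := by
    intro m
    have : m ∈ Submodule.span R (G : Set M) := hG.symm ▸ Submodule.mem_top
    induction this using Submodule.span_induction with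
    | mem g hg =>
      obtain ⟨c, hc⟩ := Finset.dvd_prod_of_mem t (Finset.mem_coe.mp hg)
      rw [show s₀ = t g * c from hc, mul_comm, mul_smul]
      exact Submodule.smul_mem _ _ (ht' g)
    | zero => simp
    | add a b _ _ ha hb => rw [smul_add]; exact add_mem ha hb
    | smul a b _ hb => rw [smul_comm]; exact Submodule.smul_mem _ _ hb
  -- determinant trick on `M / N`
  let φ : Module.End R (M ⧸ N) := LinearMap.lsmul R _ s₀
  have hrange : LinearMap.range φ ≤ I • (⊤ : Submodule R (M ⧸ N)) := by
    rintro _ ⟨z, rfl⟩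
    obtain ⟨m, rfl⟩ := Submodule.Quotient.mk_surjective _ z
    have h4 := Submodule.mem_map_of_mem (f := N.mkQ) (h3 m)
    rw [Submodule.map_sup, Submodule.map_smul'', Submodule.map_top, Submodule.range_mkQ,
      show N.map N.mkQ = ⊥ by rw [← le_bot_iff, Submodule.map_le_iff_le_comap]; simp, bot_sup_eq] at h4
    simpa [φ] using h4
  obtain ⟨P, hmon, -, hcoef, hP⟩ :=
    LinearMap.exists_monic_and_coeff_mem_pow_and_aeval_eq_zero_of_range_le_smul R φ I hrange
  have hi : P.eval s₀ - s₀ ^ P.natDegree ∈ I := by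
    rw [Polynomial.eval_eq_sum_range, Finset.sum_range_succ, hmon.coeff_natDegree, one_mul, add_sub_cancel_right]
    refine sum_mem fun k hk => Ideal.mul_mem_right _ _ (Ideal.pow_le_self ?_ (hcoef k))
    have := Finset.mem_range.mp hk; omega
  refine ⟨s₀ ^ P.natDegree, P.eval s₀ - s₀ ^ P.natDegree, pow_mem hs₀ _, hi, ?_⟩
  rw [add_sub_cancel]
  have hkill : ∀ m : M, P.eval s₀ • m ∈ N := by
    intro m
    rw [← Submodule.Quotient.mk_eq_zero, Submodule.Quotient.mk_smul]
    have e : Polynomial.aeval (algebraMap R (Module.End R (M ⧸ N)) s₀) P = 0 := by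
      rw [show algebraMap R (Module.End R (M ⧸ N)) s₀ = φ from rfl]; exact hP
    rw [Polynomial.aeval_algebraMap_apply_eq_algebraMap_eval] at e
    simpa [Polynomial.coe_aeval_eq_eval] using LinearMap.congr_fun e (Submodule.Quotient.mk m)
  rw [Set.range_comp' (LocalizedModule.mkLinearMap (Submonoid.powers (P.eval s₀)) M) x,
    ← Submodule.localized'_span (Localization.Away (P.eval s₀)) (Submonoid.powers (P.eval s₀)) (LocalizedModule.mkLinearMap (Submonoid.powers (P.eval s₀)) M), eq_top_iff]
  rintro z -
  obtain ⟨⟨m, e⟩, rfl⟩ := IsLocalizedModule.mk'_surjective (Submonoid.powers (P.eval s₀))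
    (LocalizedModule.mkLinearMap (Submonoid.powers (P.eval s₀)) M) z
  refine (Submodule.mem_localized' _ _ _ _ _).mpr ⟨P.eval s₀ • m, hkill m,
    ⟨P.eval s₀, Submonoid.mem_powers _⟩ * e, ?_⟩
  rw [show P.eval s₀ • m = (⟨P.eval s₀, Submonoid.mem_powers _⟩ : Submonoid.powers (P.eval s₀)) • m from rfl,
    IsLocalizedModule.mk'_cancel_left]
  rfl

end Groth.Agent.S6310
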