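import Groth.Prelude.Def_KZero
import Mathlib.Algebra.Category.ModuleCat.Abelian
import Mathlib.Algebra.Module.Projective
import Mathlib.RingTheory.Finiteness.Defs
import Mathlib.RingTheory.LocalRing.Defs
import Groth.Agent.CAlgSmall.K0Rank

set_option autoImplicit false
set_option maxSynthPendingDepth 3
universe u
namespace CategoryTheory
end CategoryTheory
open CategoryTheory
namespace CAlg
end CAlg
open CAlg

namespace Groth.Agent.S6311

/-- Let R be a local ring. Then K₀(R), the Grothendieck group of the category of finite projective
R-modules, is isomorphic to ℤ via the rank; precisely, there is an isomorphism K₀(R) ≅ ℤ of abelian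
groups sending the class [R] to 1 (such an isomorphism is then unique, K₀(R) being generated by
[R]). -/
theorem result (R : Type u) [CommRing R] [IsLocalRing R] : ∃ e : KZero.K0sub (fun M : ModuleCat.{u} R => Module.Finite R M ∧ Module.Projective R M) ≃+ ℤ, e (KZero.clSub (fun M : ModuleCat.{u} R => Module.Finite R M ∧ Module.Projective R M) (ModuleCat.of R R)) = 1 := by
  exact CAlgSmall.K0.exists_equiv_int

end Groth.Agent.S6311
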