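import Mathlib.RingTheory.Length
import Mathlib.Algebra.Module.LocalizedModule.Basic
import Mathlib

set_option autoImplicit false
universe u
namespace CAlg
end CAlg
open CAlg

namespace Groth.Agent.S6312

/-- Let R be a ring, M an R-module and S ⊆ R a multiplicative subset. Then length_{S⁻¹R}(S⁻¹M) ≤
length_R(M). -/
theorem result {R : Type u} [CommRing R] (S : Submonoid R) (M : Type u) [AddCommGroup M] [Module R M] : Module.length (Localization S) (LocalizedModule S M) ≤ Module.length R M := by
  rw [← WithBot.coe_le_coe, Module.coe_length, Module.coe_length]
  let g : Submodule (Localization S) (LocalizedModule S M) → Submodule R M :=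
    fun N => (N.restrictScalars R).comap (LocalizedModule.mkLinearMap S M)
  refine Order.krullDim_le_of_strictMono g ?_
  have hmono : Monotone g := fun N N' h => Submodule.comap_mono (show N.restrictScalars R ≤ N'.restrictScalars R from h)
  refine hmono.strictMono_of_injective fun N N' h => ?_
  have : ∀ N N' : Submodule (Localization S) (LocalizedModule S M), g N ≤ g N' → N ≤ N' := by
    intro N N' hle x hx
    induction x using LocalizedModule.induction_on with
    | h m s =>
      have h1 : LocalizedModule.mk m (1 : S) ∈ N := by
        have : (algebraMap R (Localization S) (s : R)) • LocalizedModule.mk m s ∈ N := N.smul_mem _ hx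
        rw [algebraMap_smul, LocalizedModule.smul'_mk] at this
        rwa [show LocalizedModule.mk ((s : R) • m) s = LocalizedModule.mk m (1 : S) from LocalizedModule.mk_cancel s m] at this
      have h2 : LocalizedModule.mk m (1 : S) ∈ N' := hle h1
      have h3 := N'.smul_mem (Localization.mk 1 s) h2
      rwa [LocalizedModule.mk_smul_mk, one_smul, mul_one] at h3
  exact le_antisymm (this N N' h.le) (this N' N h.ge)

end Groth.Agent.S6312
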