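import Mathlib.CategoryTheory.Monoidal.Tor
import Mathlib.Algebra.Category.ModuleCat.Monoidal.Basic
import Mathlib.Algebra.Category.ModuleCat.Abelian
import Mathlib.Algebra.Category.ModuleCat.Projective
import Mathlib.RingTheory.Flat.Basic
import Mathlib.RingTheory.Ideal.Quotient.Basic
import Mathlib.RingTheory.Finiteness.Defs
import Mathlib.RingTheory.Noetherian.Defs
import Groth.Agent.CAlgSmall.Tor
import Groth.Agent.CommAlg4.TorRegular

set_option autoImplicit false
universe u
namespace CategoryTheory
end CategoryTheory
open CategoryTheory
namespace CAlg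
end CAlg
open CAlg

namespace Groth.Agent.S6315

/-- Let R be a Noetherian ring and M, N finite R-modules. Then Tor_pᴿ(M, N) is a finite R-module for all
p. -/
theorem result (R : Type u) [CommRing R] [IsNoetherianRing R] (M N : Type u) [AddCommGroup M] [Module R M] [AddCommGroup N] [Module R N] [Module.Finite R M] [Module.Finite R N] (p : ℕ) : Module.Finite R (((CategoryTheory.Tor (ModuleCat.{u} R) p).obj (ModuleCat.of R M)).obj (ModuleCat.of R N)) := by
  obtain ⟨P, hP⟩ := CommAlg4.TorRegular.exists_free_resolution R N
  haveI : ∀ n, Module.Finite R (P.complex.X n) := fun n ↦ (hP n).1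
  exact CAlgSmall.finite_tor_of_finite_resolution M _ P p

end Groth.Agent.S6315
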