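import Groth.Prelude.Def_KZero
import Mathlib.Algebra.Category.ModuleCat.Abelian
import Mathlib.RingTheory.Length
import Mathlib.RingTheory.Artinian.Ring
import Mathlib.RingTheory.LocalRing.Defs
import Mathlib.RingTheory.Finiteness.Defs
import Groth.Agent.CAlgSmall.K0Rank

set_option autoImplicit false
set_option maxSynthPendingDepth 3
universe u
namespace CategoryTheory
end CategoryTheory
open CategoryTheory
namespace CAlg
end CAlg
open CAlg

namespace Groth.Agent.S6319

/-- Let R be an Artinian local ring. The length function defines a homomorphism of abelian groups
length_R : K'₀(R) → ℤ on the Grothendieck group of finite R-modules, sending the class of a finite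
module M to its (finite) length. -/
theorem result (R : Type u) [CommRing R] [IsArtinianRing R] [IsLocalRing R] : ∃ φ : KZero.K0sub (fun M : ModuleCat.{u} R => Module.Finite R M) →+ ℤ, ∀ (M : ModuleCat.{u} R), Module.Finite R M → (φ (KZero.clSub (fun M : ModuleCat.{u} R => Module.Finite R M) M) : ℤ) = (Module.length R M).toNat := by
  exact CAlgSmall.K0.exists_hom_length

end Groth.Agent.S6319
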