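import Mathlib.RingTheory.RingHom.FaithfullyFlat
import Mathlib.Algebra.Colimit.Ring
import Mathlib.Order.Directed
import Mathlib

set_option autoImplicit false
universe u
namespace CAlg
end CAlg
open CAlg

namespace Groth.Agent.S6321

/-- Let R be a ring and (Sᵢ, φᵢⱼ) a directed system of faithfully flat R-algebras whose transition maps
are R-algebra maps. Then S = colim Sᵢ is a faithfully flat R-algebra: for any index i the composite
R → Sᵢ → S is faithfully flat. -/
theorem result {R : Type u} [CommRing R] {ι : Type u} [Preorder ι] [Nonempty ι] [IsDirected ι (· ≤ ·)] (G : ι → Type u) [∀ i, CommRing (G i)] [∀ i, Algebra R (G i)] (f : ∀ i j, i ≤ j → G i →+* G j) [DirectedSystem G fun i j h => f i j h] (hcompat : ∀ i j (h : i ≤ j), (f i j h).comp (algebraMap R (G i)) = algebraMap R (G j)) (hff : ∀ i, (algebraMap R (G i)).FaithfullyFlat) (i : ι) : ((Ring.DirectLimit.of G (fun i j h => f i j h) i).comp (algebraMap R (G i))).FaithfullyFlat := by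
  letI algS : Algebra R (Ring.DirectLimit G fun i j h => f i j h) :=
    ((Ring.DirectLimit.of G (fun i j h => f i j h) i).comp (algebraMap R (G i))).toAlgebra
  show Module.FaithfullyFlat R (Ring.DirectLimit G fun i j h => f i j h)
  haveI hG : ∀ j, Module.FaithfullyFlat R (G j) := fun j => RingHom.faithfullyFlat_algebraMap_iff.1 (hff j)
  let o := fun j => Ring.DirectLimit.of G (fun i j h => f i j h) j
  have ho : ∀ j k (h : j ≤ k) (a : G j), o k (f j k h a) = o j a := fun j k h a => Ring.DirectLimit.of_f h a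
  have hc : ∀ j (r : R), o j (algebraMap R (G j) r) = algebraMap R _ r := by
    intro j r
    obtain ⟨k, hjk, hik⟩ := exists_ge_ge j i
    rw [RingHom.algebraMap_toAlgebra, RingHom.comp_apply, ← ho j k hjk, ← ho i k hik]
    congr 1
    exact (RingHom.congr_fun (hcompat j k hjk) r).trans (RingHom.congr_fun (hcompat i k hik) r).symm
  have hsmul : ∀ j (r : R) (a : G j), o j (r • a) = r • o j a := fun j r a => by
    rw [Algebra.smul_def, Algebra.smul_def, map_mul, hc]
  haveI hflat : Module.Flat R (Ring.DirectLimit G fun i j h => f i j h) := by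
    refine Module.Flat.of_forall_isTrivialRelation fun {l fc x} hx => ?_
    choose j a ha using fun k => Ring.DirectLimit.exists_of (x k)
    obtain ⟨m, hm⟩ := Finite.exists_le j
    let b : Fin l → G m := fun k => f (j k) m (hm k) (a k)
    have hb : ∀ k, o m (b k) = x k := fun k => (ho _ _ _ _).trans (ha k)
    have h0 : o m (∑ k, fc k • b k) = 0 := by rw [map_sum]; simpa [hsmul, hb] using hx
    obtain ⟨n, hmn, hn⟩ := Ring.DirectLimit.of.zero_exact h0
    have hn' : ∑ k, fc k • f m n hmn (b k) = 0 := by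
      rw [map_sum] at hn
      convert hn using 1
      refine Finset.sum_congr rfl fun k _ => ?_
      rw [Algebra.smul_def, Algebra.smul_def, map_mul, RingHom.congr_fun (hcompat m n hmn) _ |>.symm]
      rfl
    obtain ⟨q, c, y, hy1, hy2⟩ := Module.Flat.isTrivialRelation_of_sum_smul_eq_zero (R := R) (M := G n)
      (f := fc) (x := fun k => f m n hmn (b k)) hn'
    refine ⟨q, c, fun t => o n (y t), fun k => ?_, hy2⟩
    have hk' : f m n hmn (b k) = ∑ t, c k t • y t := hy1 k
    rw [← hb k, ← ho m n hmn, hk', map_sum]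
    simp [hsmul]
  refine ⟨fun {m} hm htop => ?_⟩
  have hmem : ∀ z ∈ (m • ⊤ : Submodule R (Ring.DirectLimit G fun i j h => f i j h)),
      ∃ j, ∃ w ∈ (m • ⊤ : Submodule R (G j)), o j w = z := by
    intro z hz
    refine Submodule.smul_induction_on hz (fun r hr s _ => ?_) ?_
    · obtain ⟨j, a, rfl⟩ := Ring.DirectLimit.exists_of s
      exact ⟨j, r • a, Submodule.smul_mem_smul hr Submodule.mem_top, hsmul j r a⟩
    · rintro x y ⟨j, a, ha, rfl⟩ ⟨k, b, hb, rfl⟩
      obtain ⟨p, hjp, hkp⟩ := exists_ge_ge j k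
      have hmap : ∀ q (h : q ≤ p) (c : G q), c ∈ (m • ⊤ : Submodule R (G q)) → f q p h c ∈ (m • ⊤ : Submodule R (G p)) := by
        intro q h c hc'
        rw [Ideal.smul_top_eq_map, Submodule.restrictScalars_mem] at hc' ⊢
        rw [← hcompat q p h, ← Ideal.map_map]
        exact Ideal.mem_map_of_mem _ hc'
      exact ⟨p, _, add_mem (hmap j hjp a ha) (hmap k hkp b hb), by rw [map_add, ho, ho]⟩
  obtain ⟨j, w, hw, hw1⟩ := hmem 1 (by rw [htop]; exact Submodule.mem_top)
  obtain ⟨k, hjk, hk⟩ := Ring.DirectLimit.of.zero_exact (show o j (w - 1) = 0 by rw [map_sub, map_one, hw1, sub_self])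
  rw [map_sub, map_one, sub_eq_zero] at hk
  apply (hG k).submodule_ne_top hm
  rw [eq_top_iff]
  intro c _
  rw [Ideal.smul_top_eq_map, Submodule.restrictScalars_mem] at hw ⊢
  have h1 : (1 : G k) ∈ m.map (algebraMap R (G k)) := by
    rw [← hk, ← hcompat j k hjk, ← Ideal.map_map]
    exact Ideal.mem_map_of_mem _ hw
  rw [(Ideal.eq_top_iff_one _).2 h1]
  trivial

end Groth.Agent.S6321
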