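import Groth.Prelude.Def_CAlgX
import Mathlib.RingTheory.Localization.Defs
import Groth.Agent.CAlgMisc2.FlatNil

set_option autoImplicit false
universe u
namespace CAlg
end CAlg
open CAlg

namespace Groth.Agent.S6323
open TensorProduct

/-- Let A → B be a ring homomorphism and S ⊆ A, S' ⊆ B multiplicative subsets with S carried into S', so
that there is an induced homomorphism S⁻¹A → (S')⁻¹B. For a linear map f : M → M' between
(S')⁻¹B-modules, f is universally injective over A (scalars restricted along A → (S')⁻¹B) precisely
when it is universally injective over S⁻¹A (scalars restricted along S⁻¹A → (S')⁻¹B). -/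
theorem result {A B : Type u} [CommRing A] [CommRing B] [Algebra A B] (S : Submonoid A) (S' : Submonoid B) (hSS' : ∀ s ∈ S, algebraMap A B s ∈ S') (As Bs : Type u) [CommRing As] [CommRing Bs] [Algebra A As] [IsLocalization S As] [Algebra B Bs] [IsLocalization S' Bs] [Algebra As Bs] [Algebra A Bs] [IsScalarTower A B Bs] [IsScalarTower A As Bs] {M M' : Type u} [AddCommGroup M] [AddCommGroup M'] [Module Bs M] [Module Bs M'] [Module As M] [Module As M'] [Module A M] [Module A M'] [IsScalarTower As Bs M] [IsScalarTower As Bs M'] [IsScalarTower A As M] [IsScalarTower A As M'] [IsScalarTower A Bs M] [IsScalarTower A Bs M'] (f : M →ₗ[Bs] M') : CAlgX.UniversallyInjective A (f.restrictScalars A) ↔ CAlgX.UniversallyInjective As (f.restrictScalars As) := by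
  let i := f.restrictScalars As
  have hi : f.restrictScalars A = i.restrictScalars A := rfl
  rw [hi]
  constructor
  · intro h Q _ _
    letI : Module A Q := Module.compHom Q (algebraMap A As)
    haveI : IsScalarTower A As Q := IsScalarTower.of_algebraMap_smul fun a q => rfl
    have h1 := (Groth.Agent.CAlgMisc2.rTensor_restrictScalars_injective_iff (R := A) (S := As) (M := Q) i).1 (h Q)
    haveI : IsLocalizedModule S (LinearMap.id : Q →ₗ[A] Q) := isLocalizedModule_id S Q As
    let e := ((isLocalizedModule_iff_isBaseChange S As (LinearMap.id : Q →ₗ[A] Q)).1 inferInstance).equiv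
    intro x y hxy
    obtain ⟨x, rfl⟩ := (e.lTensor M).surjective x
    obtain ⟨y, rfl⟩ := (e.lTensor M).surjective y
    refine congrArg _ (h1 ((e.lTensor M').injective ?_))
    have hc : ∀ z, (e.lTensor M') (i.rTensor _ z) = i.rTensor Q ((e.lTensor M) z) := by
      intro z
      induction z with
      | zero => simp
      | add a b ha hb => simp only [map_add, ha, hb]
      | tmul a b => simp
    rw [hc, hc]; exact hxy
  · intro h Q _ _
    exact (Groth.Agent.CAlgMisc2.rTensor_restrictScalars_injective_iff (R := A) (S := As) (M := Q) i).2 (h (As ⊗[A] Q))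

end Groth.Agent.S6323
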