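import Groth.Prelude.Def_W4stkalgebra1Int
import Mathlib.RingTheory.ReesAlgebra
import Mathlib.RingTheory.IntegralClosure.IsIntegral.Defs
import Mathlib.Algebra.Polynomial.Eval.Defs
import Mathlib

set_option autoImplicit false
universe u
namespace CAlg
end CAlg
open CAlg

namespace Groth.Agent.S6324

/-- Let R → S be a ring map, I ⊆ R an ideal and A = Σ Iⁿtⁿ ⊆ R[t] the Rees algebra of I. For s ∈ S,
being integral over I is equivalent to s·t ∈ S[t] being integral over A (via A ⊆ R[t] → S[t]). -/
theorem result {R S : Type u} [CommRing R] [CommRing S] [Algebra R S] (I : Ideal R) (s : S) : W4stkalgebra1.IsIntegralOverIdeal I s ↔ ((Polynomial.mapRingHom (algebraMap R S)).comp (reesAlgebra I).val.toRingHom).IsIntegralElem (Polynomial.C s * Polynomial.X) := by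
  constructor
  · rintro ⟨p, hm, hc, h0⟩
    set d := p.natDegree
    have hmem : ∀ j, Polynomial.monomial (d - j) (p.coeff j) ∈ reesAlgebra I := fun j => by
      refine reesAlgebra.monomial_mem.2 ?_
      rcases lt_trichotomy j d with hj | hj | hj
      · exact hc j hj
      · subst hj; simp [d]
      · rw [Polynomial.coeff_eq_zero_of_natDegree_lt hj]; exact zero_mem _
    refine ⟨∑ j ∈ Finset.range (d + 1), Polynomial.monomial j (⟨_, hmem j⟩ : reesAlgebra I), ?_, ?_⟩
    · have h1 : (⟨_, hmem d⟩ : reesAlgebra I) = 1 := Subtype.ext (by simp [d, hm.coeff_natDegree])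
      rw [Finset.sum_range_succ, h1, add_comm, Polynomial.monomial_one_right_eq_X_pow]
      refine Polynomial.monic_X_pow_add ?_
      refine (Polynomial.degree_sum_le _ _).trans_lt ((Finset.sup_lt_iff (WithBot.bot_lt_coe d)).2 fun j hj => ?_)
      exact (Polynomial.degree_monomial_le _ _).trans_lt (WithBot.coe_lt_coe.2 (Finset.mem_range.1 hj))
    · rw [Polynomial.eval₂_finsetSum]
      have h2 : ∀ j ∈ Finset.range (d + 1), Polynomial.eval₂ ((Polynomial.mapRingHom (algebraMap R S)).comp (reesAlgebra I).val.toRingHom)
          (Polynomial.C s * Polynomial.X) (Polynomial.monomial j (⟨_, hmem j⟩ : reesAlgebra I)) =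
          Polynomial.monomial d (algebraMap R S (p.coeff j) * s ^ j) := by
        intro j hj
        rw [Polynomial.eval₂_monomial, Polynomial.C_mul_X_eq_monomial, Polynomial.monomial_pow]
        simp only [RingHom.coe_comp, Function.comp_apply, AlgHom.toRingHom_eq_coe, RingHom.coe_coe, Subalgebra.coe_val,
          Polynomial.coe_mapRingHom, Polynomial.map_monomial, Polynomial.monomial_mul_monomial, one_mul]
        rw [Nat.sub_add_cancel (Nat.lt_succ_iff.1 (Finset.mem_range.1 hj))]
      rw [Finset.sum_congr rfl h2, ← map_sum]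
      rw [Polynomial.eval₂_eq_sum_range] at h0
      rw [h0, map_zero]
  · rintro ⟨q, hm, h0⟩
    set d := q.natDegree
    let b : ℕ → R := fun j => (q.coeff j : Polynomial R).coeff (d - j)
    have hb : ∀ j, b j ∈ I ^ (d - j) := fun j => (mem_reesAlgebra_iff I _).1 (q.coeff j).2 _
    refine ⟨Polynomial.X ^ d + ∑ j ∈ Finset.range d, Polynomial.monomial j (b j), ?_, ?_, ?_⟩
    · exact Polynomial.monic_X_pow_add ((Polynomial.degree_sum_le _ _).trans_lt ((Finset.sup_lt_iff (WithBot.bot_lt_coe d)).2 fun j hj =>
        (Polynomial.degree_monomial_le _ _).trans_lt (WithBot.coe_lt_coe.2 (Finset.mem_range.1 hj))))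
    · intro j hj
      rcases subsingleton_or_nontrivial R with hR | hR
      · haveI : Subsingleton (Ideal R) := inferInstance
        rw [Subsingleton.elim (I ^ _) (⊤ : Ideal R)]
        exact Submodule.mem_top
      have hdeg : (Polynomial.X ^ d + ∑ j ∈ Finset.range d, Polynomial.monomial j (b j)).natDegree = d := by
        rw [Polynomial.natDegree_add_eq_left_of_degree_lt, Polynomial.natDegree_X_pow]
        rw [Polynomial.degree_X_pow]
        exact (Polynomial.degree_sum_le _ _).trans_lt ((Finset.sup_lt_iff (WithBot.bot_lt_coe d)).2 fun j hj =>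
          (Polynomial.degree_monomial_le _ _).trans_lt (WithBot.coe_lt_coe.2 (Finset.mem_range.1 hj)))
      rw [hdeg] at hj ⊢
      rw [Polynomial.coeff_add, Polynomial.coeff_X_pow, if_neg hj.ne, zero_add, Polynomial.finsetSum_coeff,
        Finset.sum_eq_single_of_mem j (Finset.mem_range.2 hj) (fun i _ hij => Polynomial.coeff_monomial_of_ne _ hij.symm),
        Polynomial.coeff_monomial_same]
      exact hb j
    · rw [Polynomial.eval₂_eq_sum_range, ← Polynomial.C_0] at h0
      have h1 := congrArg (fun P => Polynomial.coeff P d) h0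
      simp only [Polynomial.finsetSum_coeff] at h1
      have h2 : ∀ j ∈ Finset.range (d + 1), ((((Polynomial.mapRingHom (algebraMap R S)).comp (reesAlgebra I).val.toRingHom) (q.coeff j)) *
          (Polynomial.C s * Polynomial.X) ^ j).coeff d = algebraMap R S (b j) * s ^ j := by
        intro j hj
        rw [mul_pow, ← Polynomial.C_pow, ← mul_assoc, Polynomial.coeff_mul_X_pow', if_pos (Nat.lt_succ_iff.1 (Finset.mem_range.1 hj)),
          Polynomial.coeff_mul_C]
        simp [b, Polynomial.coeff_map]
      rw [Finset.sum_congr rfl h2, Finset.sum_range_succ] at h1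
      have hbd : b d = 1 := by simp [b, d, hm.coeff_natDegree]
      rw [hbd, map_one, one_mul] at h1
      rw [Polynomial.eval₂_add, Polynomial.eval₂_X_pow, Polynomial.eval₂_finsetSum]
      simp only [Polynomial.eval₂_monomial]
      rw [add_comm]
      simpa using h1

end Groth.Agent.S6324
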