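import Groth.Prelude.Def_W4stkalgebra1Int
import Mathlib.RingTheory.IntegralClosure.IsIntegral.Defs
import Mathlib.Algebra.Module.Submodule.Basic
import Groth.Agent.S6324
import Mathlib

set_option autoImplicit false
universe u
namespace CAlg
end CAlg
open CAlg

namespace Groth.Agent.S6325

/-- Let R → S be a ring map and I ⊆ R an ideal. The elements of S integral over I form an R-submodule of
S; moreover, the product s s' is integral over I for any s ∈ S integral over R and any s' ∈ S
integral over I. -/
theorem result {R S : Type u} [CommRing R] [CommRing S] [Algebra R S] (I : Ideal R) : (∃ N : Submodule R S, ∀ s : S, s ∈ N ↔ W4stkalgebra1.IsIntegralOverIdeal I s) ∧ (∀ s s' : S, IsIntegral R s → W4stkalgebra1.IsIntegralOverIdeal I s' → W4stkalgebra1.IsIntegralOverIdeal I (s * s')) := by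
  letI : Algebra (reesAlgebra I) (Polynomial S) :=
    ((Polynomial.mapRingHom (algebraMap R S)).comp (reesAlgebra I).val.toRingHom).toAlgebra
  have key : ∀ s : S, W4stkalgebra1.IsIntegralOverIdeal I s ↔ IsIntegral (reesAlgebra I) (Polynomial.C s * Polynomial.X) :=
    fun s => Groth.Agent.S6324.result I s
  have hC : ∀ s : S, IsIntegral R s → IsIntegral (reesAlgebra I) (Polynomial.C s) := by
    rintro s ⟨p, hp, hp0⟩
    refine ⟨p.map (algebraMap R (reesAlgebra I)), hp.map _, ?_⟩
    rw [Polynomial.eval₂_map]
    have h : (algebraMap (reesAlgebra I) (Polynomial S)).comp (algebraMap R (reesAlgebra I)) =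
        Polynomial.C.comp (algebraMap R S) := RingHom.ext fun r => by
      show Polynomial.map (algebraMap R S) (algebraMap R (Polynomial R) r) = _
      simp
    rw [h, ← Polynomial.hom_eval₂, hp0, map_zero]
  refine ⟨⟨{ carrier := {s | IsIntegral (reesAlgebra I) (Polynomial.C s * Polynomial.X)}
             zero_mem' := by simp [isIntegral_zero]
             add_mem' := fun {a b} ha hb => by
               simp only [Set.mem_ofPred_eq, map_add, add_mul] at *
               exact ha.add hb
             smul_mem' := fun r a ha => by
               simp only [Set.mem_ofPred_eq, Algebra.smul_def, map_mul, mul_assoc] at *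
               exact (hC _ isIntegral_algebraMap).mul ha }, fun s => (key s).symm⟩, fun s s' hs hs' => ?_⟩
  rw [key] at hs' ⊢
  rw [map_mul, mul_assoc]
  exact (hC s hs).mul hs'

end Groth.Agent.S6325
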