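import Mathlib.Algebra.Colimit.Module
import Mathlib.Algebra.Module.FinitePresentation
import Mathlib.Order.Directed
import Groth.Agent.CAlgSmall.ColimFP

set_option autoImplicit false
set_option maxSynthPendingDepth 3
universe u
namespace CAlg
end CAlg
open CAlg

namespace Groth.Agent.S6328

/-- Every module M over a ring R can be written as the direct limit of a directed system (Mᵢ, μᵢⱼ) of
finitely presented R-modules. -/
theorem result (R : Type u) [CommRing R] (M : Type u) [AddCommGroup M] [Module R M] : ∃ (ι : Type u) (_ : Preorder ι) (_ : IsDirected ι (· ≤ ·)) (_ : Nonempty ι) (_ : DecidableEq ι) (G : ι → Type u) (_ : ∀ i, AddCommGroup (G i)) (_ : ∀ i, Module R (G i)) (f : ∀ i j, i ≤ j → G i →ₗ[R] G j) (_ : DirectedSystem G fun i j h => f i j h), (∀ i, Module.FinitePresentation R (G i)) ∧ Nonempty (Module.DirectLimit G f ≃ₗ[R] M) := by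
  classical
  let Q : CAlgSmall.ColimFP.Idx R M → Prop := fun _ ↦ True
  have hQ : ∀ i, ∃ j, i ≤ j ∧ Q j := fun i ↦ ⟨i, le_rfl, trivial⟩
  exact ⟨{i // Q i}, inferInstance, CAlgSmall.ColimFP.isDirected_sub Q hQ,
    CAlgSmall.ColimFP.nonempty_sub Q hQ, inferInstance, fun i ↦ CAlgSmall.ColimFP.G i.1,
    inferInstance, inferInstance, fun i j h ↦ CAlgSmall.ColimFP.f i.1 j.1 h, inferInstance,
    fun i ↦ CAlgSmall.ColimFP.finitePresentation_G i.1,
    ⟨LinearEquiv.ofBijective _ (CAlgSmall.ColimFP.bijective_desc Q hQ)⟩⟩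

end Groth.Agent.S6328
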