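import Mathlib.Algebra.Module.LocalizedModule.Basic
import Mathlib.RingTheory.LocalRing.ResidueField.Ideal
import Mathlib.RingTheory.Spectrum.Prime.Topology
import Mathlib.RingTheory.Finiteness.Defs
import Mathlib.LinearAlgebra.TensorProduct.Basic
import Mathlib.Algebra.Module.Projective
import Mathlib.RingTheory.Localization.Away.Basic
import Groth.Agent.CAlgMisc2.SurjLocus

set_option autoImplicit false
universe u
open scoped TensorProduct
namespace CAlg
end CAlg
open CAlg

namespace Groth.Agent.S6330

/-- Let R be a ring and φ : P₁ → P₂ a map of finite projective R-modules. The set W of primes p of R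
such that φ ⊗ κ(p) is surjective is open, and for every f ∈ R with D(f) ⊆ W the map (P₁)_f → (P₂)_f
is surjective and Ker(φ)_f is a finite projective module over R_f. -/
theorem result {R : Type u} [CommRing R] {P₁ P₂ : Type u} [AddCommGroup P₁] [Module R P₁] [AddCommGroup P₂] [Module R P₂] [Module.Finite R P₁] [Module.Projective R P₁] [Module.Finite R P₂] [Module.Projective R P₂] (φ : P₁ →ₗ[R] P₂) : IsOpen {p : PrimeSpectrum R | Function.Surjective (φ.lTensor p.asIdeal.ResidueField)} ∧ ∀ f : R, (↑(PrimeSpectrum.basicOpen f) : Set (PrimeSpectrum R)) ⊆ {p : PrimeSpectrum R | Function.Surjective (φ.lTensor p.asIdeal.ResidueField)} → Function.Surjective (LocalizedModule.map (Submonoid.powers f) φ) ∧ Module.Finite (Localization.Away f) (LocalizedModule (Submonoid.powers f) (LinearMap.ker φ)) ∧ Module.Projective (Localization.Away f) (LocalizedModule (Submonoid.powers f) (LinearMap.ker φ)) := by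
  have hW : {p : PrimeSpectrum R | Function.Surjective (φ.lTensor p.asIdeal.ResidueField)} =
      {p : PrimeSpectrum R | Function.Surjective (LocalizedModule.map p.asIdeal.primeCompl φ)} :=
    Set.ext fun p => (Groth.Agent.CAlgMisc2.surjective_atPrime_iff φ p).symm
  rw [hW]
  refine ⟨Groth.Agent.CAlgMisc2.isOpen_surjLocus φ, fun f hf => ?_⟩
  have hs := Groth.Agent.CAlgMisc2.surjective_away φ f hf
  refine ⟨hs, ?_⟩
  set S := Submonoid.powers f
  set g := LocalizedModule.map S φ
  set ι := LocalizedModule.map S (LinearMap.ker φ).subtype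
  have hι : Function.Injective ι := LocalizedModule.map_injective S _ (Submodule.subtype_injective _)
  have hex : Function.Exact ι g := LocalizedModule.map_exact S _ _ (LinearMap.exact_subtype_ker_map φ)
  haveI : Module.Projective (Localization.Away f) (LocalizedModule S P₁) :=
    Module.projective_of_isLocalizedModule S (LocalizedModule.mkLinearMap S P₁)
  haveI : Module.Projective (Localization.Away f) (LocalizedModule S P₂) :=
    Module.projective_of_isLocalizedModule S (LocalizedModule.mkLinearMap S P₂)
  haveI : Module.Finite (Localization.Away f) (LocalizedModule S P₁) :=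
    Module.Finite.of_isLocalizedModule S (LocalizedModule.mkLinearMap S P₁)
  obtain ⟨s, hs'⟩ := Module.projective_lifting_property g LinearMap.id hs
  let e := LinearEquiv.ofInjective ι hι
  let q : LocalizedModule S P₁ →ₗ[Localization.Away f] LinearMap.range ι :=
    LinearMap.codRestrict _ (LinearMap.id - s ∘ₗ g) fun x => (hex _).1 (by
      simp only [LinearMap.sub_apply, LinearMap.id_apply, LinearMap.comp_apply, map_sub]
      rw [← LinearMap.comp_apply g s, hs', LinearMap.id_apply, sub_self])
  have hq : ∀ k, (e.symm.toLinearMap ∘ₗ q) (ι k) = k := fun k => by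
    apply hι
    have h1 : ∀ z : LinearMap.range ι, ι (e.symm z) = (z : LocalizedModule S P₁) := fun z =>
      congrArg Subtype.val (e.apply_symm_apply z)
    rw [LinearMap.comp_apply, LinearEquiv.coe_coe, h1]
    simp [q, (hex _).2 ⟨k, rfl⟩]
  exact ⟨Module.Finite.of_surjective (e.symm.toLinearMap ∘ₗ q) (fun k => ⟨ι k, hq k⟩),
    Module.Projective.of_split ι (e.symm.toLinearMap ∘ₗ q) (LinearMap.ext hq)⟩

end Groth.Agent.S6330
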