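import Mathlib.RingTheory.Ideal.Quotient.Basic
import Mathlib.RingTheory.Nilpotent.Defs
import Mathlib.Algebra.Group.Units.Defs
import Mathlib

set_option autoImplicit false
universe u
namespace CAlg
end CAlg
open CAlg

namespace Groth.Agent.S6331

/-- Let R be a ring, I ⊆ R an ideal all of whose elements are nilpotent, and n ≥ 1 an integer whose
image in R/I is invertible. Then (1) raising to the n-th power is a bijection of the subset 1 + I of
R onto itself: for every y ∈ I there is exactly one x ∈ I with (1 + x)ⁿ = 1 + y; (2) a unit u of R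
has an n-th root in R exactly when the residue class of u has an n-th root in R/I. -/
theorem result {R : Type u} [CommRing R] (I : Ideal R) (hI : ∀ x ∈ I, IsNilpotent x) (n : ℕ) (hn : 1 ≤ n) (hinv : IsUnit ((n : ℕ) : R ⧸ I)) : (∀ y ∈ I, ∃! x : R, x ∈ I ∧ (1 + x) ^ n = 1 + y) ∧ (∀ u : Rˣ, (∃ v : R, v ^ n = (u : R)) ↔ ∃ w : R ⧸ I, w ^ n = Ideal.Quotient.mk I (u : R)) := by
  have hnilI : ∀ {r : R}, IsNilpotent (Ideal.Quotient.mk I r) → IsNilpotent r := by
    rintro r ⟨k, hk⟩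
    rw [← map_pow, Ideal.Quotient.eq_zero_iff_mem] at hk
    obtain ⟨l, hl⟩ := hI _ hk
    exact ⟨k * l, by rw [pow_mul, hl]⟩
  have hunit : ∀ {r : R}, IsUnit (Ideal.Quotient.mk I r) → IsUnit r := by
    intro r hr
    obtain ⟨s, hs⟩ := hr.exists_right_inv
    obtain ⟨s, rfl⟩ := Ideal.Quotient.mk_surjective s
    rw [← map_mul, ← map_one (Ideal.Quotient.mk I), Ideal.Quotient.eq] at hs
    exact isUnit_of_mul_isUnit_left (by simpa using (hI _ hs).isUnit_add_one)
  have hn' : IsUnit (n : R) := hunit (by simpa using hinv)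
  have h1 : ∀ y ∈ I, ∃! x : R, x ∈ I ∧ (1 + x) ^ n = 1 + y := by
    intro y hy
    let P : Polynomial R := (1 + Polynomial.X) ^ n - Polynomial.C (1 + y)
    obtain ⟨x, ⟨hx1, hx2⟩, hx3⟩ := Polynomial.existsUnique_nilpotent_sub_and_aeval_eq_zero (P := P) (x := (0 : R))
      (by simpa [P] using hI y hy) (by simpa [P, Polynomial.derivative_pow] using hn')
    rw [zero_sub, isNilpotent_neg_iff] at hx1
    have hx2' : (1 + x) ^ n = 1 + y := by simpa [P, sub_eq_zero] using hx2
    have hxI : x ∈ I := by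
      obtain ⟨Q, hQ⟩ : ∃ Q : R, (1 + x) ^ n = 1 + (n : R) * x + x ^ 2 * Q := by
        clear hx2 hx2' hx3 hn hinv hn'
        induction n with
        | zero => exact ⟨0, by simp⟩
        | succ m ih =>
          obtain ⟨Q, hQ⟩ := ih
          exact ⟨m + Q * (1 + x), by rw [pow_succ, hQ]; push_cast; ring⟩
      have hxy : x * ((n : R) + x * Q) = y := by linear_combination hx2' - hQ
      have hu : IsUnit ((n : R) + x * Q) := by
        refine IsNilpotent.isUnit_add_left_of_commute ?_ hn' (Commute.all _ _)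
        exact Commute.isNilpotent_mul_right (Commute.all _ _) hx1
      exact (Ideal.mul_unit_mem_iff_mem I hu).1 (hxy ▸ hy)
    refine ⟨x, ⟨hxI, hx2'⟩, fun z ⟨hz, hz'⟩ => hx3 z ⟨?_, ?_⟩⟩
    · simpa using hI z hz
    · simp [P, hz']
  refine ⟨h1, fun u => ⟨fun ⟨v, hv⟩ => ⟨Ideal.Quotient.mk I v, by rw [← map_pow, hv]⟩, fun ⟨w, hw⟩ => ?_⟩⟩
  obtain ⟨v, rfl⟩ := Ideal.Quotient.mk_surjective w
  have hv : IsUnit v := hunit (((isUnit_pow_iff (by omega : n ≠ 0)).1 (hw ▸ u.isUnit.map (Ideal.Quotient.mk I))))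
  obtain ⟨v, rfl⟩ := hv
  have hy : (↑(v ^ n)⁻¹ : R) * u - 1 ∈ I := by
    rw [← Ideal.Quotient.eq_zero_iff_mem, map_sub, map_mul, map_one, ← hw, ← map_pow, ← map_mul,
      ← Units.val_pow_eq_pow_val, Units.inv_mul, map_one, sub_self]
  obtain ⟨x, ⟨-, hx⟩, -⟩ := h1 _ hy
  refine ⟨(v : R) * (1 + x), ?_⟩
  rw [mul_pow, hx, ← Units.val_pow_eq_pow_val, add_sub_cancel, Units.mul_inv_cancel_left]

end Groth.Agent.S6331
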