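import Groth.Statements.S6332
import Mathlib

set_option linter.all false

set_option autoImplicit false
universe u
open Fields

open IntermediateField IntermediateField.algebraAdjoinAdjoin

namespace Groth.Agent.S6332

open IntermediateField in
/-- Let L/K be a finite Galois extension of fields of characteristic p > 0 whose degree equals the prime
p (equivalently, the Galois group is cyclic of order p). Then there is an element z of L with z ^ p
- z in K which generates L over K. -/
theorem result {K L : Type u} [Field K] [Field L] [Algebra K L] (p : ℕ)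
    [Fact p.Prime] [CharP K p] [FiniteDimensional K L] [IsGalois K L]
    (hdeg : Module.finrank K L = p) :
    ∃ z : L, z ^ p - z ∈ Set.range (algebraMap K L) ∧ K⟮z⟯ = ⊤ := by
  classical
  haveI : CharP L p := charP_of_injective_algebraMap (algebraMap K L).injective p
  obtain ⟨c, hc⟩ := Algebra.trace_surjective K L 1
  have hcard : Nat.card (L ≃ₐ[K] L) = p := (IsGalois.card_aut_eq_finrank K L).trans hdeg
  haveI : IsCyclic (L ≃ₐ[K] L) := isCyclic_of_prime_card hcard
  obtain ⟨σ, hσ⟩ := IsCyclic.exists_generator (α := L ≃ₐ[K] L)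
  have hord : orderOf σ = p := (orderOf_eq_card_of_forall_mem_zpowers hσ).trans hcard
  let z : L := -∑ i ∈ Finset.range p, (i : L) * (σ ^ i) c
  have htr : ∑ i ∈ Finset.range p, (σ ^ i) c = 1 := by
    rw [← map_one (algebraMap K L), ← hc, trace_eq_sum_automorphisms]
    refine Finset.sum_bij (fun i _ => σ ^ i) (fun i _ => Finset.mem_univ _) (fun i hi j hj h => ?_) (fun g _ => ?_) (fun i _ => rfl)
    · exact pow_injOn_Iio_orderOf (by simpa [hord] using Finset.mem_range.mp hi) (by simpa [hord] using Finset.mem_range.mp hj) h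
    · have hg : g ∈ Submonoid.powers σ := mem_powers_iff_mem_zpowers.mpr (hσ g)
      obtain ⟨i, rfl⟩ := hg
      exact ⟨i % p, Finset.mem_range.mpr (Nat.mod_lt _ (Fact.out : p.Prime).pos), by rw [← hord]; exact pow_mod_orderOf σ i⟩
  have hper : ∀ i, ((i + 1 : ℕ) : L) * (σ ^ (i + 1)) c - (σ ^ (i + 1)) c = (i : L) * σ ((σ ^ i) c) := fun i => by
    rw [pow_succ', AlgEquiv.mul_apply]; push_cast; ring
  have hsum : ∑ i ∈ Finset.range p, (i : L) * σ ((σ ^ i) c) =
      (∑ i ∈ Finset.range p, (i : L) * (σ ^ i) c) - 1 := by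
    rw [← htr, ← Finset.sum_sub_distrib, ← Finset.sum_congr rfl (fun i _ => hper i)]
    have hcyc := Finset.sum_range_succ' (fun i : ℕ => (i : L) * (σ ^ i) c - (σ ^ i) c) p
    rw [Finset.sum_range_succ] at hcyc
    have hp0 : (p : L) * (σ ^ p) c - (σ ^ p) c = (0 : ℕ) * (σ ^ 0) c - (σ ^ 0) c := by
      rw [CharP.cast_eq_zero, ← hord, pow_orderOf_eq_one]; simp
    rw [hp0] at hcyc
    exact (add_right_cancel hcyc).symm
  have hz : σ z = z + 1 := by
    simp only [z, map_neg, map_sum, map_mul, map_natCast]
    rw [hsum]; ring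
  refine ⟨z, ?_, ?_⟩
  · rw [← IntermediateField.mem_bot, ← IsGalois.fixedField_top, IntermediateField.fixedField,
      ]
    intro ⟨g, _⟩
    show g (z ^ p - z) = z ^ p - z
    have hfix : σ ∈ MulAction.stabilizer (L ≃ₐ[K] L) (z ^ p - z) := by
      show σ (z ^ p - z) = z ^ p - z
      rw [map_sub, map_pow, hz, add_pow_char, one_pow]; ring
    exact Subgroup.zpowers_le.mpr hfix (hσ g)
  · rcases (IntermediateField.isSimpleOrder_of_finrank_prime K L (hdeg ▸ Fact.out)).eq_bot_or_eq_top K⟮z⟯ with h | h
    · exfalso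
      obtain ⟨a, ha⟩ := IntermediateField.mem_bot.mp (IntermediateField.adjoin_simple_eq_bot_iff.mp h)
      rw [← ha, AlgEquiv.commutes] at hz
      exact one_ne_zero (left_eq_add.mp hz)
    · exact h

end Groth.Agent.S6332
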