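import Groth.Statements.S6334
import Mathlib

set_option linter.all false

set_option autoImplicit false
universe u
open Fields

open IntermediateField IntermediateField.algebraAdjoinAdjoin

namespace Groth.Agent.S6334

open IntermediateField in
/-- Let E/F be a finite purely inseparable extension of fields of characteristic p > 0. Then there are
elements a_1, ..., a_n of E generating E over F such that for each i the p-th power of a_i lies in
F(a_1, ..., a_{i-1}) while a_i itself does not (so each step adjoins a p-th root and has degree p);
in particular [E : F] = p ^ n. -/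
theorem result {F E : Type u} [Field F] [Field E] [Algebra F E] (p : ℕ)
    [Fact p.Prime] [CharP F p] [FiniteDimensional F E] [IsPurelyInseparable F E] :
    ∃ (n : ℕ) (a : Fin n → E), adjoin F (Set.range a) = ⊤ ∧
      (∀ i : Fin n, a i ^ p ∈ adjoin F (a '' {j | j < i}) ∧ a i ∉ adjoin F (a '' {j | j < i})) ∧
      Module.finrank F E = p ^ n := by
  classical
  haveI : ExpChar F p := ExpChar.prime Fact.out
  -- towers above the bottom, of bounded length
  have step : ∀ m, ∀ M : IntermediateField F E, Module.finrank M E ≤ m → ∀ (l : ℕ) (b : Fin l → E),
      adjoin F (Set.range b) = M → (∀ i : Fin l, b i ^ p ∈ adjoin F (b '' {j | j < i}) ∧ b i ∉ adjoin F (b '' {j | j < i})) →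
      Module.finrank F M = p ^ l →
      ∃ (n : ℕ) (a : Fin n → E), adjoin F (Set.range a) = ⊤ ∧
      (∀ i : Fin n, a i ^ p ∈ adjoin F (a '' {j | j < i}) ∧ a i ∉ adjoin F (a '' {j | j < i})) ∧
      Module.finrank F E = p ^ n := by
    intro m
    induction m with
    | zero => intro M hM; exact absurd hM (by have := Module.finrank_pos (R := M) (M := E); omega)
    | succ m ih =>
      intro M hM l b hb hcond hfin
      by_cases htop : M = ⊤
      · subst htop
        exact ⟨l, b, hb, hcond, by rw [← hfin, IntermediateField.finrank_top']⟩
      obtain ⟨x, hx⟩ : ∃ x, x ∉ M := by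
        by_contra h; push Not at h; exact htop (eq_top_iff.mpr fun x _ => h x)
      obtain ⟨e, he⟩ := IsPurelyInseparable.pow_mem F p x
      have hex : ∃ e, x ^ p ^ e ∈ M := ⟨e, by obtain ⟨y, hy⟩ := he; rw [← hy]; exact M.algebraMap_mem y⟩
      have h0 : Nat.find hex ≠ 0 := fun h => hx (by simpa [h] using Nat.find_spec hex)
      obtain ⟨j, hj⟩ := Nat.exists_eq_succ_of_ne_zero h0
      set y := x ^ p ^ j with hy
      have hyM : y ∉ M := Nat.find_min hex (by omega)
      have hyp : y ^ p ∈ M := by
        have := Nat.find_spec hex
        rwa [hj, pow_succ, pow_mul] at this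
      let N := IntermediateField.adjoin F (Set.range (Fin.snoc (α := fun _ => E) b y))
      have hMN : M ≤ N := hb ▸ adjoin.mono F _ _ (by rintro _ ⟨i, rfl⟩; exact ⟨i.castSucc, Fin.snoc_castSucc ..⟩)
      have hN : N = (IntermediateField.adjoin M {y}).restrictScalars F := by
        subst hb
        rw [adjoin_adjoin_left]
        show IntermediateField.adjoin F (Set.range (Fin.snoc (α := fun _ => E) b y)) = _
        rw [Fin.range_snoc, Set.union_singleton]
      have hdeg : Module.finrank M (IntermediateField.adjoin M {y}) = p := by
        haveI : IsPurelyInseparable M E := IsPurelyInseparable.tower_top F M E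
        rw [IntermediateField.adjoin.finrank (Algebra.IsIntegral.isIntegral y)]
        have hirr : Irreducible (Polynomial.X ^ p - Polynomial.C (⟨y ^ p, hyp⟩ : M)) :=
          X_pow_sub_C_irreducible_of_prime Fact.out fun z hz => hyM (by
            haveI : CharP E p := charP_of_injective_algebraMap (algebraMap F E).injective p
            haveI : ExpChar E p := ExpChar.prime Fact.out
            have : (z : E) = y := frobenius_inj E p (by simpa [frobenius_def] using congrArg Subtype.val hz)
            exact this ▸ z.2)
        rw [← minpoly.eq_of_irreducible_of_monic hirr (by simp) (Polynomial.monic_X_pow_sub_C _ (Fact.out : p.Prime).ne_zero)]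
        exact Polynomial.natDegree_X_pow_sub_C
      have hfinN : Module.finrank F N = p ^ (l + 1) := by
        rw [hN]
        change Module.finrank F (IntermediateField.adjoin M {y}) = _
        rw [← Module.finrank_mul_finrank F M (IntermediateField.adjoin M {y}), hdeg, hfin, pow_succ]
      refine ih N ?_ (l + 1) (Fin.snoc (α := fun _ => E) b y) rfl ?_ hfinN
      · have h1 := Module.finrank_mul_finrank F N E
        have h2 := Module.finrank_mul_finrank F M E
        rw [hfinN, pow_succ] at h1
        rw [hfin, ← h1, mul_assoc] at h2
        have h3 := Nat.eq_of_mul_eq_mul_left (pow_pos (Fact.out : p.Prime).pos l) h2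
        have := Module.finrank_pos (R := N) (M := E)
        have := Nat.mul_le_mul_right (Module.finrank N E) (Fact.out : p.Prime).two_le
        omega
      · intro i
        refine Fin.lastCases ?_ (fun i => ?_) i
        · have himg : Fin.snoc (α := fun _ => E) b y '' {j | j < Fin.last l} = Set.range b := by
            ext z
            constructor
            · rintro ⟨j, hj', rfl⟩
              refine ⟨⟨j, hj'⟩, ?_⟩
              simp only [Fin.snoc, show (j : ℕ) < l from hj', dite_true, cast_eq]; rfl
            · rintro ⟨j, rfl⟩
              exact ⟨j.castSucc, Fin.castSucc_lt_last j, Fin.snoc_castSucc ..⟩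
          rw [Fin.snoc_last, himg, hb]
          exact ⟨hyp, hyM⟩
        · have himg : Fin.snoc (α := fun _ => E) b y '' {j | j < i.castSucc} = b '' {j | j < i} := by
            ext z
            constructor
            · rintro ⟨j, hj', rfl⟩
              have hjl : (j : ℕ) < l := lt_trans hj' i.2
              refine ⟨⟨j, hjl⟩, hj', ?_⟩
              simp only [Fin.snoc, hjl, dite_true, cast_eq]; rfl
            · rintro ⟨j, hj', rfl⟩
              exact ⟨j.castSucc, hj', Fin.snoc_castSucc ..⟩
          rw [Fin.snoc_castSucc, himg]
          exact hcond i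
  exact step _ ⊥ le_rfl 0 Fin.elim0 (by rw [Set.range_eq_empty, adjoin_empty]) (fun i => i.elim0) (by simp)

end Groth.Agent.S6334
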