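import Groth.Statements.S6335
import Mathlib

set_option linter.all false

set_option autoImplicit false
universe u
open Fields

open IntermediateField IntermediateField.algebraAdjoinAdjoin

namespace Groth.Agent.S6335

/-- Let K be a field of characteristic p > 0, L/K a separable algebraic extension and a an element of L.
If a is a root of a polynomial P over K which is separable (pairwise distinct roots in an algebraic
closure) and all of whose coefficients are p-th powers in K, then a is a p-th power in L. (Part (1),
the case where P is the minimal polynomial of a, is a special case.) -/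
theorem result {K L : Type u} [Field K] [Field L] [Algebra K L]
    (p : ℕ) [Fact p.Prime] [CharP K p] [Algebra.IsSeparable K L] (a : L) (P : Polynomial K)
    (hroot : Polynomial.aeval a P = 0) (hsep : P.Separable) (hcoeff : ∀ i : ℕ, ∃ b : K, b ^ p = P.coeff i) :
    ∃ c : L, c ^ p = a := by
  classical
  choose b hb using hcoeff
  haveI : ExpChar K p := ExpChar.prime Fact.out
  let Q : Polynomial K := ∑ i ∈ P.support, Polynomial.monomial i (b i)
  have hQ : Q.map (frobenius K p) = P := by
    conv_rhs => rw [P.as_sum_support]
    simp only [Q, Polynomial.map_sum, Polynomial.map_monomial, frobenius_def, hb]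
  have hQs : Q.Separable := (Polynomial.separable_map (frobenius K p)).mp (hQ ▸ hsep)
  let Ω := AlgebraicClosure L
  haveI : CharP Ω p := charP_of_injective_algebraMap (algebraMap K Ω).injective p
  haveI : ExpChar Ω p := ExpChar.prime Fact.out
  obtain ⟨c, hc⟩ := IsAlgClosed.exists_pow_nat_eq (algebraMap L Ω a) (Fact.out : p.Prime).pos
  have hcQ : Polynomial.aeval c Q = 0 := by
    refine frobenius_inj Ω p ?_
    rw [map_zero, Polynomial.aeval_def, Polynomial.hom_eval₂]
    have : (frobenius Ω p).comp (algebraMap K Ω) = (algebraMap K Ω).comp (frobenius K p) :=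
      RingHom.ext fun z => by simp [frobenius_def]
    rw [this, ← Polynomial.eval₂_map, hQ, frobenius_def, hc, ← Polynomial.aeval_def,
      Polynomial.aeval_algebraMap_apply, hroot, map_zero]
  have hsc : IsSeparable K c := hQs.of_dvd (minpoly.dvd K c hcQ)
  have hmem := adjoin_simple_eq_adjoin_pow_expChar_of_isSeparable K Ω hsc p
  have h : c ∈ (IsScalarTower.toAlgHom K L Ω).fieldRange := by
    have h1 : c ∈ K⟮c⟯ := mem_adjoin_simple_self K c
    rw [hmem] at h1
    refine (adjoin_simple_le_iff.mpr ?_) h1
    exact ⟨a, hc.symm⟩
  obtain ⟨c₀, rfl⟩ := h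
  exact ⟨c₀, (algebraMap L Ω).injective (by rw [map_pow]; exact hc)⟩

end Groth.Agent.S6335
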