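import Groth.Statements.S6336
import Mathlib.FieldTheory.IsAlgClosed.AlgebraicClosure
import Mathlib.FieldTheory.IntermediateField.Algebraic

set_option autoImplicit false
universe u
open Fields

namespace Groth.Agent.S6336

open IntermediateField Polynomial in
/-- With an added hypothesis: let L/K be a finite extension of degree e generated by a single element a
whose e-th power lies in K, and assume that the polynomial X ^ e - 1 splits into linear factors over
K (so every e-th root of unity of any extension of K already lies in K; this holds when K contains a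
primitive e-th root of unity, and when e is a power of the characteristic). Then every intermediate
field of L/K is generated by a ^ d for some divisor d of e. (The published statement has no
hypothesis on roots of unity; for K the rationals and a a primitive 8-th root of unity, e = 4 and a
^ 4 = -1, the intermediate field generated by a + a⁻¹, a square root of 2, is none of K(a), K(a ^
2), K(a ^ 4); the published proof uses that the e-th roots of unity met are fixed by the
automorphisms it constructs, which the splitting hypothesis guarantees.) -/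
theorem result {K L : Type u} [Field K] [Field L] [Algebra K L]
    [FiniteDimensional K L] (a : L) (ha : K⟮a⟯ = ⊤)
    (hpow : a ^ Module.finrank K L ∈ Set.range (algebraMap K L))
    (hroots : (X ^ Module.finrank K L - 1 : K[X]).Splits) (L' : IntermediateField K L) :
    ∃ d : ℕ, d ∣ Module.finrank K L ∧ L' = K⟮a ^ d⟯ := by
  classical
  set e := Module.finrank K L with he
  have hepos : 0 < e := Module.finrank_pos
  have htop : (⊤ : IntermediateField L' L) = IntermediateField.adjoin L' {a} := by
    rw [eq_comm, ← restrictScalars_eq_top_iff (K := K), restrictScalars_adjoin, eq_top_iff, ← ha]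
    exact adjoin.mono K _ _ (by simp)
  by_cases ha0 : a = 0
  · refine ⟨1, one_dvd _, ?_⟩
    subst ha0
    rw [pow_one]
    have : (⊥ : IntermediateField K L) = ⊤ := by rw [← ha]; simp
    rw [ha, eq_top_iff, ← this]
    exact bot_le
  refine ⟨Module.finrank L' L, ⟨Module.finrank K L', by rw [mul_comm, Module.finrank_mul_finrank]⟩, ?_⟩
  let q := minpoly L' a
  have hint : IsIntegral L' a := Algebra.IsIntegral.isIntegral a
  have hdeg : q.natDegree = Module.finrank L' L := by
    rw [← IntermediateField.adjoin.finrank hint, ← htop, IntermediateField.finrank_top']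
  let Ω := AlgebraicClosure L
  let a' : Ω := algebraMap L Ω a
  have ha' : a' ≠ 0 := (_root_.map_ne_zero _).mpr ha0
  have hsp : (q.map (algebraMap L' Ω)).Splits := IsAlgClosed.splits _
  have hroot : ∀ r ∈ (q.map (algebraMap L' Ω)).roots, ∃ z : K, r = algebraMap K Ω z * a' := by
    intro r hr
    obtain ⟨c, hc⟩ := hpow
    have hdvd : q ∣ (X ^ e - C (algebraMap K L' c)) := minpoly.dvd _ _ (by
      simp only [map_sub, map_pow, aeval_X, aeval_C, ← IsScalarTower.algebraMap_apply, hc, sub_self])
    have hr' := (Polynomial.mem_roots ((Polynomial.map_ne_zero_iff (algebraMap L' Ω).injective).mpr (minpoly.ne_zero hint))).mp hr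
    have hre : r ^ e = a' ^ e := by
      have h0 := (Polynomial.IsRoot.dvd hr' (Polynomial.map_dvd _ hdvd))
      simp only [Polynomial.IsRoot, Polynomial.map_sub, Polynomial.map_pow, Polynomial.map_X, Polynomial.map_C,
        eval_sub, eval_pow, eval_X, eval_C, sub_eq_zero] at h0
      rw [h0, ← IsScalarTower.algebraMap_apply, IsScalarTower.algebraMap_apply K L Ω, hc, map_pow]
    have hz : (r / a') ∈ ((X ^ e - 1 : K[X]).map (algebraMap K Ω)).roots := by
      rw [Polynomial.mem_roots ((Polynomial.map_ne_zero_iff (algebraMap K Ω).injective).mpr (by simpa using X_pow_sub_C_ne_zero hepos (1 : K)))]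
      simp [Polynomial.IsRoot, div_pow, hre, ha']
    rw [hroots.roots_map] at hz
    obtain ⟨z, -, hz⟩ := Multiset.mem_map.mp hz
    exact ⟨z, by rw [hz, div_mul_cancel₀ _ ha']⟩
  have hcard : (q.map (algebraMap L' Ω)).roots.card = Module.finrank L' L := by
    rw [← hsp.natDegree_eq_card_roots, Polynomial.natDegree_map, hdeg]
  have hprod : ∀ s : Multiset Ω, (∀ r ∈ s, ∃ z : K, r = algebraMap K Ω z * a') →
      ∃ z : K, s.prod = algebraMap K Ω z * a' ^ s.card := by
    intro s
    induction s using Multiset.induction_on with
    | empty => intro _; exact ⟨1, by simp⟩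
    | cons r s ih =>
      intro h
      obtain ⟨z, hz⟩ := h r (Multiset.mem_cons_self _ _)
      obtain ⟨w, hw⟩ := ih fun t ht => h t (Multiset.mem_cons_of_mem ht)
      exact ⟨z * w, by rw [Multiset.prod_cons, Multiset.card_cons, hz, hw, map_mul, pow_succ]; ring⟩
  obtain ⟨z, hz⟩ := hprod _ hroot
  have h0 := hsp.coeff_zero_eq_prod_roots_of_monic ((minpoly.monic hint).map _)
  rw [Polynomial.coeff_map, hz, hcard, Polynomial.natDegree_map, hdeg] at h0
  have hz0 : z ≠ 0 := by
    rintro rfl
    rw [map_zero, zero_mul, mul_zero, map_eq_zero] at h0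
    exact minpoly.coeff_zero_ne_zero hint ha0 h0
  have hmem : a ^ Module.finrank L' L ∈ L' := by
    have h1 : ((q.coeff 0 : L') : L) = (-1) ^ Module.finrank L' L * (algebraMap K L z * a ^ Module.finrank L' L) := by
      apply (algebraMap L Ω).injective
      rw [map_mul, map_mul, map_pow, map_pow, map_neg, map_one, ← IsScalarTower.algebraMap_apply]
      exact h0
    have h2 : a ^ Module.finrank L' L = algebraMap K L z⁻¹ * ((-1) ^ Module.finrank L' L * ((q.coeff 0 : L') : L)) := by
      have hz' : algebraMap K L z ≠ 0 := (_root_.map_ne_zero _).mpr hz0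
      rw [h1, ← mul_assoc ((-1 : L) ^ _), ← mul_pow, neg_one_mul, neg_neg, one_pow, one_mul, map_inv₀,
        inv_mul_cancel_left₀ hz']
    rw [h2]
    exact mul_mem (L'.algebraMap_mem _) (mul_mem (pow_mem (neg_mem (one_mem _)) _) (q.coeff 0).2)
  set d := Module.finrank L' L with hd
  have hdpos : 0 < d := Module.finrank_pos
  symm
  refine IntermediateField.eq_of_le_of_finrank_le' (adjoin_simple_le_iff.mpr hmem) ?_
  have htop2 : (⊤ : IntermediateField K⟮a ^ d⟯ L) = IntermediateField.adjoin K⟮a ^ d⟯ {a} := by
    rw [eq_comm, ← restrictScalars_eq_top_iff (K := K), restrictScalars_adjoin, eq_top_iff, ← ha]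
    exact adjoin.mono K _ _ (by simp)
  rw [← IntermediateField.finrank_top', htop2, IntermediateField.adjoin.finrank (Algebra.IsIntegral.isIntegral a)]
  let b : K⟮a ^ d⟯ := ⟨a ^ d, mem_adjoin_simple_self K _⟩
  refine le_trans (Polynomial.natDegree_le_of_dvd (minpoly.dvd K⟮a ^ d⟯ a (p := X ^ d - C b) ?_) (X_pow_sub_C_ne_zero hdpos b)) ?_
  · simp [b]
  · rw [natDegree_X_pow_sub_C]

end Groth.Agent.S6336
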