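import Mathlib.RingTheory.Flat.Basic
import Mathlib.RingTheory.TensorProduct.Basic
import Mathlib.RingTheory.Ideal.Quotient.Operations
import Mathlib.RingTheory.Nilpotent.Defs
import Mathlib.LinearAlgebra.TensorProduct.Basic
import Mathlib.RingTheory.LocalRing.MaximalIdeal.Basic
import Mathlib.RingTheory.Artinian.Ring
import Mathlib.LinearAlgebra.LinearIndependent.Defs
import Mathlib.LinearAlgebra.Span.Defs
import Groth.Agent.CAlgMisc2.BasisNil

set_option autoImplicit false
universe u
open scoped TensorProduct
namespace CAlg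
end CAlg
open CAlg

namespace Groth.Agent.S6350
open TensorProduct

/-- Let (R, m) be a local ring with nilpotent maximal ideal and M a flat R-module. A family of elements
of M is a basis of M over R if and only if its image is a basis of the R/m-vector space M/mM = R/m ⊗
M. -/
theorem result (R : Type u) [CommRing R] [IsLocalRing R]
    (hnil : IsNilpotent (IsLocalRing.maximalIdeal R)) (M : Type u) [AddCommGroup M] [Module R M] [Module.Flat R M]
    {A : Type u} (x : A → M) :
    (LinearIndependent R x ∧ Submodule.span R (Set.range x) = ⊤) ↔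
      (LinearIndependent (R ⧸ IsLocalRing.maximalIdeal R)
          (fun a => (1 : R ⧸ IsLocalRing.maximalIdeal R) ⊗ₜ[R] x a) ∧
        Submodule.span (R ⧸ IsLocalRing.maximalIdeal R)
          (Set.range fun a => (1 : R ⧸ IsLocalRing.maximalIdeal R) ⊗ₜ[R] x a) = ⊤) := by
  refine ⟨fun ⟨hli, hsp⟩ => ?_, fun ⟨hli, hsp⟩ => Groth.Agent.CAlgMisc2.basis_of_basis_mod_nilpotent _ hnil
    (Module.Flat.rTensor_preserves_injective_linearMap _ (Submodule.subtype_injective _)) x hli hsp⟩
  let b := Module.Basis.mk hli hsp.ge
  let b' := Algebra.TensorProduct.basis (R ⧸ IsLocalRing.maximalIdeal R) b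
  have hb : (fun a => (1 : R ⧸ IsLocalRing.maximalIdeal R) ⊗ₜ[R] x a) = b' := by
    funext a; simp [b', b]
  rw [hb]
  exact ⟨b'.linearIndependent, b'.span_eq⟩

end Groth.Agent.S6350
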