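import Groth.Statements.S6362
import Mathlib

set_option linter.all false

set_option autoImplicit false
universe u
open scoped TensorProduct
open Fields

open IntermediateField IntermediateField.algebraAdjoinAdjoin

namespace Groth.Agent.S6362

/-- Let K/F be a finite separable extension and L/F an extension with L algebraically closed. Then the
L-algebra map K ⊗_F L → ∏_σ L, indexed by the F-algebra maps σ : K → L and sending a ⊗ b to (σ(a)
b)_σ, is an isomorphism; stated as bijectivity of that map. -/
theorem result {F K L : Type u} [Field F] [Field K] [Field L]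
    [Algebra F K] [Algebra F L] [FiniteDimensional F K] [Algebra.IsSeparable F K] [IsAlgClosed L] :
    Function.Bijective (fun x : K ⊗[F] L => fun σ : K →ₐ[F] L =>
      Algebra.TensorProduct.lift σ (AlgHom.id F L) (fun a b => Commute.all (σ a) b) x) := by
  classical
  let Φ : L ⊗[F] K →ₐ[L] ((K →ₐ[F] L) → L) :=
    Algebra.TensorProduct.lift (Algebra.ofId L _) (Pi.algHom F _ fun σ => σ) fun a b => Commute.all _ _
  have heq : (fun x : K ⊗[F] L => fun σ : K →ₐ[F] L =>
      Algebra.TensorProduct.lift σ (AlgHom.id F L) (fun a b => Commute.all (σ a) b) x) = Φ ∘ Algebra.TensorProduct.comm F K L := by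
    funext x σ
    induction x using TensorProduct.induction_on with
    | zero => simp
    | tmul a b =>
      show σ a * b = Φ (b ⊗ₜ a) σ
      simp [Φ, mul_comm]
    | add x y hx hy => simp only [Function.comp_apply, map_add, Pi.add_apply] at hx hy ⊢; rw [hx, hy]
  rw [heq]
  refine Function.Bijective.comp ?_ (Algebra.TensorProduct.comm F K L).bijective
  have hsurj : Function.Surjective Φ := by
    rw [← AlgHom.coe_toLinearMap, ← LinearMap.range_eq_top]
    by_contra hne
    obtain ⟨φ, hφ0, hφ⟩ := Submodule.exists_dual_map_eq_bot_of_lt_top (lt_top_iff_ne_top.mpr hne) inferInstance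
    refine hφ0 (LinearMap.ext fun y => ?_)
    have hli := linearIndependent_toLinearMap F K L
    have hsum : ∀ x : K, ∑ σ : K →ₐ[F] L, φ (Pi.single σ 1) * σ x = 0 := fun x => by
      have hmem : φ (Φ (1 ⊗ₜ x)) ∈ Submodule.map φ (LinearMap.range Φ.toLinearMap) := ⟨_, ⟨1 ⊗ₜ x, rfl⟩, rfl⟩
      rw [hφ, Submodule.mem_bot] at hmem
      rw [← hmem, show Φ (1 ⊗ₜ x) = ∑ σ : K →ₐ[F] L, σ x • Pi.single σ (1 : L) from by
        funext τ; simp [Φ, Finset.sum_apply, Pi.single_apply]]
      simp [map_sum, mul_comm]
    have hz := Fintype.linearIndependent_iff.mp hli (fun σ => φ (Pi.single σ 1)) (LinearMap.ext fun x => by simpa using hsum x)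
    rw [show y = ∑ σ : K →ₐ[F] L, y σ • Pi.single σ (1 : L) from by funext τ; simp [Finset.sum_apply, Pi.single_apply]]
    simp [map_sum, hz]
  have hdim : Module.finrank L (L ⊗[F] K) = Module.finrank L ((K →ₐ[F] L) → L) := by
    rw [Module.finrank_baseChange, Module.finrank_pi, AlgHom.card]
  exact ⟨(LinearMap.injective_iff_surjective_of_finrank_eq_finrank hdim).mpr hsurj, hsurj⟩

end Groth.Agent.S6362
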