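import Groth.Statements.S6363
import Mathlib

set_option linter.all false

set_option autoImplicit false
universe u
open scoped TensorProduct
open Fields

open IntermediateField IntermediateField.algebraAdjoinAdjoin

namespace Groth.Agent.S6363

/-- For a finite field extension L/K and a normal closure M of L/K, some K-algebra homomorphism from the
n-fold tensor power L ⊗_K ⋯ ⊗_K L to M is surjective, where n = [L : K]_s is the separable degree
(so n ≤ [L : K]). -/
theorem result {K L M : Type u} [Field K] [Field L] [Field M]
    [Algebra K L] [Algebra K M] [Algebra L M] [IsScalarTower K L M] [FiniteDimensional K L]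
    [IsNormalClosure K L M] :
    ∃ f : (⨂[K] _ : Fin (Field.finSepDegree K L), L) →ₐ[K] M, Function.Surjective f := by
  classical
  haveI : Algebra.IsAlgebraic K M := IsNormalClosure.normal (F := K) (K := L) (L := M) |>.toIsAlgebraic
  haveI : Normal K M := IsNormalClosure.normal (K := L)
  have hcard : Fintype.card (L →ₐ[K] M) = Field.finSepDegree K L := by
    rw [Field.finSepDegree_eq_of_adjoin_splits K L M (S := Set.univ) (IntermediateField.adjoin_univ K L)
      (fun x _ => ⟨Algebra.IsIntegral.isIntegral x, IsNormalClosure.splits x⟩), Nat.card_eq_fintype_card]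
  let e := Fintype.equivFinOfCardEq hcard
  let f : (⨂[K] _ : Fin (Field.finSepDegree K L), L) →ₐ[K] M :=
    PiTensorProduct.liftAlgHom (MultilinearMap.mkPiAlgebra K (Fin (Field.finSepDegree K L)) M |>.compLinearMap fun i => (e.symm i).toLinearMap)
      (by simp) (by intros; simp [Finset.prod_mul_distrib])
  have hrange : ∀ (g : L →ₐ[K] M) (x : L), g x ∈ f.range := fun g x => by
    refine ⟨PiTensorProduct.tprod K (Pi.mulSingle (e g) x), ?_⟩
    simp only [f, AlgHom.toRingHom_eq_coe, RingHom.coe_coe]
    show PiTensorProduct.lift _ (PiTensorProduct.tprod K _) = _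
    rw [PiTensorProduct.lift.tprod]
    simp only [MultilinearMap.compLinearMap_apply, MultilinearMap.mkPiAlgebra_apply, AlgHom.toLinearMap_apply]
    rw [Finset.prod_eq_single (e g)]
    · simp
    · intro i _ hi; simp [Pi.mulSingle_eq_of_ne hi]
    · simp
  refine ⟨f, AlgHom.range_eq_top f |>.mp ?_⟩
  let I : IntermediateField K M := f.range.toIntermediateField' (Subalgebra.isField_of_algebraic f.range)
  have hI : (⊤ : IntermediateField K M) ≤ I := by
    rw [← IsNormalClosure.adjoin_rootSet (F := K) (K := L) (L := M)]
    refine iSup_le fun x => adjoin_le_iff.mpr fun y hy => ?_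
    rw [Polynomial.mem_rootSet] at hy
    let g₀ := IntermediateField.exists_algHom_of_splits_of_aeval (E := L) (K := M) (fun s => ⟨Algebra.IsIntegral.isIntegral s, IsNormalClosure.splits s⟩) hy.2
    obtain ⟨g, rfl⟩ := g₀
    exact hrange g x
  exact eq_top_iff.mpr fun x _ => (hI (IntermediateField.mem_top : x ∈ (⊤ : IntermediateField K M)) : x ∈ I)

end Groth.Agent.S6363
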