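import Groth.Statements.S6364
import Mathlib

set_option linter.all false

set_option autoImplicit false
universe u
open Fields

open IntermediateField IntermediateField.algebraAdjoinAdjoin

namespace Groth.Agent.S6364

open IntermediateField in
/-- Let L/K be a finite extension and a ∈ L with minimal polynomial P over K. Then P ^ e, with e = [L :
K(a)], is the characteristic polynomial of multiplication by a (the K-linear map x ↦ a x on L), and
e · deg P = [L : K]. -/
theorem result {K L : Type u} [Field K] [Field L] [Algebra K L] [FiniteDimensional K L]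
    (a : L) :
    (Algebra.lmul K L a).charpoly = minpoly K a ^ Module.finrank K⟮a⟯ L ∧
      Module.finrank K⟮a⟯ L * (minpoly K a).natDegree = Module.finrank K L := by
  classical
  have hi : IsIntegral K a := Algebra.IsIntegral.isIntegral a
  refine ⟨?_, ?_⟩
  · let pb := IntermediateField.adjoin.powerBasis hi
    let b := Module.finBasis K⟮a⟯ L
    have hM : Algebra.leftMulMatrix (pb.basis.smulTower b) (algebraMap K⟮a⟯ L pb.gen) = Matrix.blockDiagonal (fun _ => Algebra.leftMulMatrix pb.basis pb.gen) := by
      ext ⟨i, k⟩ ⟨j, k'⟩
      rw [Algebra.smulTower_leftMulMatrix, AlgHom.commutes, Matrix.blockDiagonal_apply, Matrix.algebraMap_matrix_apply]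
      split_ifs <;> simp_all
    rw [← LinearMap.charpoly_toMatrix (Algebra.lmul K L a) (pb.basis.smulTower b)]
    change (Algebra.leftMulMatrix (pb.basis.smulTower b) (algebraMap K⟮a⟯ L pb.gen)).charpoly = _
    rw [hM]
    have hch : ∀ (M : Matrix (Fin pb.dim) (Fin pb.dim) K),
        (Matrix.blockDiagonal fun _ : Fin (Module.finrank K⟮a⟯ L) => M).charpoly = M.charpoly ^ Module.finrank K⟮a⟯ L := by
      intro M
      rw [Matrix.charpoly, Matrix.charpoly, show (Matrix.blockDiagonal fun _ : Fin (Module.finrank K⟮a⟯ L) => M).charmatrix =
        Matrix.blockDiagonal (fun _ : Fin (Module.finrank K⟮a⟯ L) => M.charmatrix) from by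
          ext ⟨i, k⟩ ⟨j, k'⟩
          simp only [Matrix.charmatrix_apply, Matrix.blockDiagonal_apply, Matrix.diagonal_apply, Prod.mk.injEq]
          split_ifs <;> simp_all, Matrix.det_blockDiagonal]
      simp
    rw [hch, charpoly_leftMulMatrix, IntermediateField.adjoin.powerBasis_gen, minpoly_gen]
  · rw [← IntermediateField.adjoin.finrank hi, mul_comm, Module.finrank_mul_finrank]

end Groth.Agent.S6364
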