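import Groth.Prelude.Def_Found
import Groth.Prelude.Def_CAlgX
import Mathlib.RingTheory.Flat.Basic
import Mathlib.Algebra.DirectSum.Module
import Mathlib.LinearAlgebra.TensorProduct.Basic
import Mathlib.RingTheory.TensorProduct.Basic
import Mathlib.Algebra.Colimit.Module
import Mathlib.RingTheory.Finiteness.Defs
import Mathlib.RingTheory.FinitePresentation
import Mathlib.Algebra.Module.FinitePresentation
import Mathlib.RingTheory.Ideal.Quotient.Operations
import Mathlib.RingTheory.Noetherian.Basic
import Mathlib.LinearAlgebra.TensorProduct.Pi
import Groth.Agent.CAlgML.MLProps

set_option autoImplicit false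
universe u
namespace CAlg
end CAlg
open CAlg

namespace Groth.Agent.S6366

/-- Let R be a coherent ring, i.e. every finitely generated ideal of R is finitely presented. Then an
R-module is coherent (finitely generated, and every finitely generated submodule is finitely
presented) if and only if it is finitely presented. -/
theorem result (R : Type u) [CommRing R]
    (hR : ∀ I : Ideal R, I.FG → Module.FinitePresentation R I) (M : Type u) [AddCommGroup M] [Module R M] :
    (Module.Finite R M ∧ ∀ N : Submodule R M, N.FG → Module.FinitePresentation R N) ↔ Module.FinitePresentation R M := by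
  constructor
  · rintro ⟨hfin, h⟩
    have := h ⊤ Module.Finite.fg_top
    exact Module.FinitePresentation.of_equiv (Submodule.topEquiv (R := R) (M := M))
  · intro h
    exact ⟨inferInstance, fun N hN => Groth.Agent.CAlgML.finitePresentation_submodule_of_flat_pi
      (fun A => Groth.Agent.CAlgML.flat_pi_of_coherent hR A) N hN⟩

end Groth.Agent.S6366
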