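import Groth.Prelude.Def_Found
import Groth.Prelude.Def_CAlgX
import Mathlib.RingTheory.Flat.Basic
import Mathlib.Algebra.DirectSum.Module
import Mathlib.LinearAlgebra.TensorProduct.Basic
import Mathlib.RingTheory.TensorProduct.Basic
import Mathlib.Algebra.Colimit.Module
import Mathlib.RingTheory.Finiteness.Defs
import Mathlib.RingTheory.FinitePresentation
import Mathlib.Algebra.Module.FinitePresentation
import Mathlib.RingTheory.Ideal.Quotient.Operations
import Mathlib.RingTheory.Noetherian.Basic
import Mathlib.LinearAlgebra.TensorProduct.Pi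
import Mathlib.RingTheory.DedekindDomain.Dvr
import Mathlib.RingTheory.DedekindDomain.Basic
import Groth.Agent.CAlgMisc1.Imports
import Mathlib

set_option autoImplicit false
universe u
namespace CAlg
end CAlg
open CAlg

namespace Groth.Agent.S6369

/-- (1) ⇒ (3): let R be a domain such that every nonzero ideal is a product of nonzero prime ideals,
uniquely up to permutation of the factors. Then R is Noetherian, integrally closed and of dimension
at most one, i.e. a Dedekind domain in the Noetherian sense. (The converse and the description by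
discrete valuation rings at maximal ideals are the standard equivalences.) -/
theorem result (R : Type u) [CommRing R] [IsDomain R]
    (h : ∀ I : Ideal R, I ≠ ⊥ → ∃! s : Multiset (Ideal R), (∀ p ∈ s, p.IsPrime ∧ p ≠ ⊥) ∧ s.prod = I) :
    IsDedekindDomain R := by
  classical
  have mul_ne : ∀ {I J : Ideal R}, I ≠ ⊥ → J ≠ ⊥ → I * J ≠ ⊥ := fun hI hJ h0 =>
    (Ideal.mul_eq_bot.1 h0).elim hI hJ
  have cancel : ∀ {I J K : Ideal R}, I ≠ ⊥ → J ≠ ⊥ → K ≠ ⊥ → I * J = I * K → J = K := by
    intro I J K hI hJ hK he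
    obtain ⟨s, ⟨hs, hsI⟩, -⟩ := h I hI
    obtain ⟨t, ⟨ht, htJ⟩, -⟩ := h J hJ
    obtain ⟨v, ⟨hv, hvK⟩, -⟩ := h K hK
    obtain ⟨w, -, huniq⟩ := h (I * J) (mul_ne hI hJ)
    have h1 : s + t = w := huniq _ ⟨fun p hp => (Multiset.mem_add.1 hp).elim (hs p) (ht p), by
      rw [Multiset.prod_add, hsI, htJ]⟩
    have h2 : s + v = w := huniq _ ⟨fun p hp => (Multiset.mem_add.1 hp).elim (hs p) (hv p), by
      rw [Multiset.prod_add, hsI, hvK, he]⟩
    rw [← htJ, ← hvK, add_left_cancel (h1.trans h2.symm)]
  -- integrally closed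
  have hic : IsIntegrallyClosed R := by
    refine (isIntegrallyClosed_iff (FractionRing R)).2 fun {z} hz => ?_
    let K := FractionRing R
    obtain ⟨S, hS⟩ := hz.fg_adjoin_singleton
    obtain ⟨d, hd⟩ := IsLocalization.exist_integer_multiples_of_finset (nonZeroDivisors R) S
    let Jm := Subalgebra.toSubmodule (Algebra.adjoin R {z})
    have hdJ : ∀ x ∈ Jm, ∃ r : R, algebraMap R K r = (d : R) • x := by
      intro x hx
      have hle : Submodule.span R (S : Set K) ≤
          ((Algebra.linearMap R K).range).comap ((d : R) • LinearMap.id) := Submodule.span_le.2 fun x hx => hd x hx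
      rw [hS] at hle
      exact hle hx
    let D := algebraMap R K (d : R)
    have hD : D ≠ 0 := IsFractionRing.to_map_ne_zero_of_mem_nonZeroDivisors d.2
    let I : Ideal R := Submodule.comap (Algebra.linearMap R K) (Jm.map ((d : R) • LinearMap.id))
    have hmem : ∀ r, r ∈ I ↔ ∃ x ∈ Jm, algebraMap R K r = D * x := fun r => by
      constructor
      · rintro ⟨x, hx, he⟩
        exact ⟨x, hx, by rw [← Algebra.smul_def]; exact he.symm⟩
      · rintro ⟨x, hx, he⟩
        exact ⟨x, hx, by rw [← Algebra.smul_def] at he; exact he.symm⟩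
    have hdI : (d : R) ∈ I := (hmem _).2 ⟨1, (Algebra.adjoin R {z}).one_mem, by rw [mul_one]⟩
    have hd0 : (d : R) ≠ 0 := nonZeroDivisors.ne_zero d.2
    have hI0 : I ≠ ⊥ := fun h0 => hd0 (by rw [h0] at hdI; exact hdI)
    have hII : I * I = I * Ideal.span {(d : R)} := by
      refine le_antisymm (Ideal.mul_le.2 fun r hr s hs => ?_) (Ideal.mul_mono_right (by simpa using hdI))
      obtain ⟨x, hx, hrx⟩ := (hmem r).1 hr
      obtain ⟨y, hy, hsy⟩ := (hmem s).1 hs
      have hxy : x * y ∈ Jm := (Algebra.adjoin R {z}).mul_mem hx hy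
      obtain ⟨q, hq⟩ := hdJ _ hxy
      rw [Algebra.smul_def] at hq
      have : r * s = q * (d : R) := by
        apply IsFractionRing.injective R K
        rw [map_mul, map_mul, hrx, hsy, hq]
        show D * x * (D * y) = D * (x * y) * D
        ring
      rw [this]
      exact Ideal.mul_mem_mul ((hmem q).2 ⟨_, hxy, hq⟩) (Ideal.mem_span_singleton_self _)
    have hId : I = Ideal.span {(d : R)} :=
      cancel hI0 hI0 (by simpa using hd0) hII
    obtain ⟨r, hr⟩ := hdJ z (Algebra.self_mem_adjoin_singleton R z)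
    rw [Algebra.smul_def] at hr
    have hrI : r ∈ I := (hmem r).2 ⟨z, Algebra.self_mem_adjoin_singleton R z, hr⟩
    rw [hId, Ideal.mem_span_singleton'] at hrI
    obtain ⟨c, rfl⟩ := hrI
    refine ⟨c, mul_left_cancel₀ hD ?_⟩
    show D * _ = D * _
    rw [← hr, map_mul, mul_comm]
  -- every nonzero prime is maximal
  have hmax : ∀ P : Ideal R, P ≠ ⊥ → P.IsPrime → P.IsMaximal := by
    intro P hP0 hPp
    refine Ideal.isMaximal_iff.2 ⟨fun h1 => hPp.ne_top ((Ideal.eq_top_iff_one _).2 h1), fun J a hPJ haP haJ => ?_⟩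
    have ha : a ≠ 0 := fun h0 => haP (h0 ▸ P.zero_mem)
    let Q := P ⊔ Ideal.span {a}
    have hQ0 : Q ≠ ⊥ := fun h0 => hP0 (le_bot_iff.1 (h0 ▸ le_sup_left))
    suffices hQ : Q = ⊤ by
      have hle : Q ≤ J := sup_le hPJ (by simpa using haJ)
      exact hle (hQ ▸ Submodule.mem_top)
    refine (cancel hP0 hQ0 (by simp) ?_)
    refine le_antisymm (by rw [Ideal.mul_top]; exact Ideal.mul_le_left) ?_
    rw [Ideal.mul_top]
    intro p hp
    by_cases hp0 : p = 0
    · rw [hp0]; exact Submodule.zero_mem _
    have hne : Ideal.span {p, a} ≠ ⊥ := fun h0 => ha (by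
      have : a ∈ Ideal.span {p, a} := Ideal.subset_span (by simp)
      rw [h0] at this; exact this)
    have hne2 : Ideal.span {p * p, a * a} ≠ ⊥ := fun h0 => ha (by
      have : a * a ∈ Ideal.span {p * p, a * a} := Ideal.subset_span (by simp)
      rw [h0] at this; exact mul_self_eq_zero.1 this)
    have heq : Ideal.span {p, a} * Ideal.span {p, a} = Ideal.span {p * p, a * a} := by
      refine cancel hne (mul_ne hne hne) hne2 ?_
      rw [Ideal.span_pair_mul_span_pair]
      refine le_antisymm ?_ (Ideal.mul_mono_right (Ideal.span_mono (by simp [Set.insert_subset_iff])))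
      rw [Ideal.span_mul_span', Ideal.span_mul_span', Ideal.span_le]
      have m₁ := Set.mul_mem_mul (s := ({p, a} : Set R)) (t := ({p * p, a * a} : Set R))
        (Set.mem_insert p _) (Set.mem_insert (p * p) _)
      have m₂ := Set.mul_mem_mul (s := ({p, a} : Set R)) (t := ({p * p, a * a} : Set R))
        (Set.mem_insert p _) (Set.mem_insert_of_mem _ (Set.mem_singleton (a * a)))
      have m₃ := Set.mul_mem_mul (s := ({p, a} : Set R)) (t := ({p * p, a * a} : Set R))
        (Set.mem_insert_of_mem _ (Set.mem_singleton a)) (Set.mem_insert (p * p) _)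
      have m₄ := Set.mul_mem_mul (s := ({p, a} : Set R)) (t := ({p * p, a * a} : Set R))
        (Set.mem_insert_of_mem _ (Set.mem_singleton a)) (Set.mem_insert_of_mem _ (Set.mem_singleton (a * a)))
      have e₁ : p * (p * a) = a * (p * p) := by ring
      have e₂ : p * (a * p) = a * (p * p) := by ring
      have e₃ : a * (p * a) = p * (a * a) := by ring
      have e₄ : a * (a * p) = p * (a * a) := by ring
      rintro _ ⟨b, hb, c, hc, rfl⟩
      simp only [Set.mem_insert_iff, Set.mem_singleton_iff] at hb hc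
      rcases hb with rfl | rfl <;> rcases hc with rfl | rfl | rfl | rfl <;>
        (simp only [e₁, e₂, e₃, e₄]; apply Ideal.subset_span; assumption)
    have hpa : p * a ∈ Ideal.span {p * p, a * a} := heq ▸ Ideal.mul_mem_mul (Ideal.subset_span (by simp)) (Ideal.subset_span (by simp))
    obtain ⟨x, y, hxy⟩ := Ideal.mem_span_pair.1 hpa
    have hp' : p ≠ 0 := hp0
    obtain ⟨r, hr⟩ : ∃ r : R, r * a = x * p := by
      let t : FractionRing R := algebraMap R _ (x * p) / algebraMap R _ a
      have ha' : algebraMap R (FractionRing R) a ≠ 0 := by simpa using ha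
      have he := congrArg (algebraMap R (FractionRing R)) hxy
      simp only [map_add, map_mul] at he
      have ht : IsIntegral R t := by
        refine ⟨Polynomial.X ^ 2 - Polynomial.X + Polynomial.C (x * y), by monicity!, ?_⟩
        simp only [t, map_mul, Polynomial.eval₂_mul, Polynomial.eval₂_add, Polynomial.eval₂_sub, Polynomial.eval₂_pow,
          Polynomial.eval₂_X, Polynomial.eval₂_C]
        field_simp
        linear_combination (algebraMap R (FractionRing R) x) * he
      obtain ⟨r, hr⟩ := IsIntegrallyClosed.isIntegral_iff.1 ht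
      refine ⟨r, IsFractionRing.injective R (FractionRing R) ?_⟩
      rw [map_mul, hr]
      exact div_mul_cancel₀ _ ha'
    have hrP : r ∈ P := (hPp.mem_or_mem (hr ▸ P.mul_mem_left x hp)).resolve_right haP
    have h2 : y * a = p * (1 - r) := by
      apply mul_right_cancel₀ ha
      linear_combination hxy + p * hr
    have hyP : y ∈ P := (hPp.mem_or_mem (h2 ▸ P.mul_mem_right _ hp)).resolve_right haP
    rw [show p = p * r + y * a by rw [h2]; ring]
    exact add_mem (Ideal.mul_mem_mul hp (Ideal.mem_sup_left hrP))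
      (Ideal.mul_mem_mul hyP (Ideal.mem_sup_right (Ideal.mem_span_singleton_self a)))
  -- Noetherian
  have hnoeth : IsNoetherianRing R := by
    refine IsNoetherianRing.of_prime fun P hPp => ?_
    by_cases hP0 : P = ⊥
    · exact hP0 ▸ Submodule.fg_bot
    obtain ⟨a, haP, ha⟩ := Submodule.exists_mem_ne_zero_of_ne_bot hP0
    obtain ⟨s, ⟨hs, hsa⟩, -⟩ := h (Ideal.span {a}) (by simpa using ha)
    have hle : s.prod ≤ P := by rw [hsa]; simpa using haP
    obtain ⟨Q, hQs, hQP⟩ := (Ideal.IsPrime.multiset_prod_le hPp).1 hle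
    obtain rfl : Q = P := (hmax Q (hs Q hQs).2 (hs Q hQs).1).eq_of_le hPp.ne_top hQP
    rw [← Multiset.cons_erase hQs, Multiset.prod_cons] at hsa
    set J := (s.erase Q).prod
    have key : ∀ x ∈ Q * J, ∃ T : Finset R, (T : Set R) ⊆ Q ∧ ∀ p ∈ Q, p * x ∈ Ideal.span {a} * Ideal.span (T : Set R) := by
      intro x hx
      refine Submodule.mul_induction_on hx (fun q hq j hj => ⟨{q}, by simpa using hq, fun p hp => ?_⟩)
        fun x y ⟨T, hT, hx⟩ ⟨U, hU, hy⟩ => ⟨T ∪ U, by simp [hT, hU], fun p hp => ?_⟩
      · rw [show p * (q * j) = p * j * q by ring]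
        exact Ideal.mul_mem_mul (hsa ▸ Ideal.mul_mem_mul hp hj) (Ideal.subset_span (by simp))
      · rw [mul_add]
        exact add_mem (Ideal.mul_mono_right (Ideal.span_mono (by simp)) (hx p hp))
          (Ideal.mul_mono_right (Ideal.span_mono (by simp)) (hy p hp))
    obtain ⟨T, hTQ, hT⟩ := key a (hsa ▸ Ideal.mem_span_singleton_self a)
    refine ⟨T, le_antisymm (Submodule.span_le.2 hTQ) fun p hp => ?_⟩
    obtain ⟨c, hc, hca⟩ := Ideal.mem_span_singleton_mul.1 (hT p hp)
    rw [show p = c from mul_right_cancel₀ ha (by rw [← hca, mul_comm])]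
    exact hc
  have : Ring.DimensionLEOne R := ⟨fun {P} hP0 hPp => hmax P hP0 hPp⟩
  exact { }

end Groth.Agent.S6369
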