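import Groth.Prelude.Def_Found
import Groth.Prelude.Def_CAlgX
import Mathlib.RingTheory.Flat.Basic
import Mathlib.Algebra.DirectSum.Module
import Mathlib.LinearAlgebra.TensorProduct.Basic
import Mathlib.RingTheory.TensorProduct.Basic
import Mathlib.Algebra.Colimit.Module
import Mathlib.RingTheory.Finiteness.Defs
import Mathlib.RingTheory.FinitePresentation
import Mathlib.Algebra.Module.FinitePresentation
import Mathlib.RingTheory.Ideal.Quotient.Operations
import Mathlib.RingTheory.Noetherian.Basic
import Mathlib.LinearAlgebra.TensorProduct.Pi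
import Mathlib.RingTheory.DedekindDomain.IntegralClosure
import Mathlib.RingTheory.KrullDimension.Basic
import Mathlib.RingTheory.Spectrum.Prime.Topology
import Mathlib.RingTheory.IntegralClosure.IsIntegralClosure.Basic
import Groth.Agent.CAlgMisc2.KrullAkizuki
import Mathlib

set_option autoImplicit false
universe u
namespace CAlg
end CAlg
open CAlg

namespace Groth.Agent.S6370

/-- For a one-dimensional Noetherian domain A with fraction field K, a finite field extension L of K
(separable or not) and B the integral closure of A in L: B is a Dedekind domain, Spec B → Spec A is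
surjective and has finite fibres, and at every maximal ideal Q of B the residue field B/Q is finite
over A/(Q ∩ A). -/
theorem result (A K L B : Type u) [CommRing A] [IsDomain A]
    [IsNoetherianRing A] (hdim : ringKrullDim A = 1) [Field K] [Algebra A K] [IsFractionRing A K]
    [Field L] [Algebra K L] [FiniteDimensional K L] [Algebra A L] [IsScalarTower A K L]
    [CommRing B] [IsDomain B] [Algebra A B] [Algebra B L] [IsScalarTower A B L] [IsIntegralClosure B A L] :
    IsDedekindDomain B ∧ Function.Surjective (PrimeSpectrum.comap (algebraMap A B)) ∧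
      (∀ p : PrimeSpectrum A, (PrimeSpectrum.comap (algebraMap A B) ⁻¹' {p}).Finite) ∧
      ∀ Q : Ideal B, Q.IsMaximal → Module.Finite (A ⧸ Q.comap (algebraMap A B)) (B ⧸ Q) := by
  have : Ring.KrullDimLE 1 A := Ring.krullDimLE_iff.2 (by rw [hdim]; rfl)
  have hinjB : Function.Injective (algebraMap B L) := IsIntegralClosure.algebraMap_injective B A L
  have : IsNoetherianRing B := Groth.Agent.CAlgMisc2.isNoetherianRing_of_between (R := A) K L B hinjB
  have : Algebra.IsIntegral A B := IsIntegralClosure.isIntegral_algebra A L
  have : Algebra.IsAlgebraic K L := inferInstance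
  have : Ring.DimensionLEOne A := ⟨fun {p} hp0 hp => by
    rcases Ring.krullDimLE_one_iff.mp inferInstance p hp with h | h
    · rw [IsDomain.minimalPrimes_eq_singleton_bot, Set.mem_singleton_iff] at h
      exact absurd h hp0
    · exact h⟩
  have hAB : Function.Injective (algebraMap A B) := fun a b hab => IsFractionRing.injective A K
    ((algebraMap K L).injective (by
      rw [← IsScalarTower.algebraMap_apply, ← IsScalarTower.algebraMap_apply, IsScalarTower.algebraMap_apply A B L,
        IsScalarTower.algebraMap_apply A B L, hab]))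
  have : FaithfulSMul A B := (faithfulSMul_iff_algebraMap_injective A B).2 hAB
  have : Ring.DimensionLEOne B := Ring.DimensionLEOne.of_isIntegral (R := A) B
  have : IsIntegrallyClosed B := by
    have := IsIntegralClosure.isFractionRing_of_finite_extension A K L B
    refine (isIntegrallyClosed_iff L).2 fun {z} hz => ?_
    exact IsIntegralClosure.isIntegral_iff.1 (isIntegral_trans (R := A) z hz)
  refine ⟨{}, ?_, fun p => ?_, fun Q hQ => ?_⟩
  · intro p
    obtain ⟨Q, hQ, hQp⟩ := Ideal.exists_ideal_over_prime_of_isIntegral_of_isDomain (S := B) p.asIdeal (by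
      rw [RingHom.injective_iff_ker_eq_bot] at hAB; rw [hAB]; exact bot_le)
    exact ⟨⟨Q, hQ⟩, PrimeSpectrum.ext hQp⟩
  · by_cases hp : p.asIdeal = ⊥
    · refine (Set.finite_singleton (⟨⊥, Ideal.isPrime_bot⟩ : PrimeSpectrum B)).subset fun q hq => ?_
      refine PrimeSpectrum.ext (Ideal.eq_bot_of_comap_eq_bot (R := A) ?_)
      rw [← hp]; exact congrArg PrimeSpectrum.asIdeal hq
    · obtain ⟨x, hxp, hx⟩ := Submodule.exists_mem_ne_zero_of_ne_bot hp
      refine Set.Finite.of_finite_image (f := PrimeSpectrum.asIdeal) ?_ (fun a _ b _ h => PrimeSpectrum.ext h)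
      refine ((Ideal.span {algebraMap A B x}).finite_minimalPrimes_of_isNoetherianRing B).subset ?_
      rintro _ ⟨q, hq, rfl⟩
      have hxq : algebraMap A B x ∈ q.asIdeal := by
        rw [← Ideal.mem_comap, show q.asIdeal.comap (algebraMap A B) = p.asIdeal from congrArg PrimeSpectrum.asIdeal hq]
        exact hxp
      have hxB : algebraMap A B x ≠ 0 := fun h0 => hx (hAB (h0.trans (map_zero _).symm))
      refine ⟨⟨q.isPrime, by simpa using hxq⟩, fun r hr hrq => ?_⟩
      have hr0 : r ≠ ⊥ := fun h0 => hxB (by have := hr.2 (Ideal.mem_span_singleton_self _); rwa [h0] at this)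
      have hmax : r.IsMaximal := Ring.DimensionLEOne.maximalOfPrime hr0 hr.1
      exact (hmax.eq_of_le q.isPrime.ne_top hrq).ge
  · have hq0 : Q.comap (algebraMap A B) ≠ ⊥ := fun h0 => by
      have hQ0 := Ideal.eq_bot_of_comap_eq_bot (R := A) h0
      have : (⊥ : Ideal A).IsMaximal := by
        rw [← h0]
        exact Ideal.isMaximal_comap_of_isIntegral_of_isMaximal Q
      have hf : IsField A := by
        rw [Ring.isField_iff_maximal_bot]; exact this
      rw [ringKrullDim_eq_zero_of_isField hf] at hdim
      exact zero_ne_one hdim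
    obtain ⟨x, hxp, hx⟩ := Submodule.exists_mem_ne_zero_of_ne_bot hq0
    have := Groth.Agent.CAlgMisc2.finite_quot K L B hinjB x hx
    have hle : (Ideal.span {x} • ⊤ : Submodule A B) ≤ LinearMap.ker (Ideal.Quotient.mkₐ A Q).toLinearMap := by
      refine Submodule.smul_le.2 fun r hr b _ => ?_
      obtain ⟨c, rfl⟩ := Ideal.mem_span_singleton'.1 hr
      show Ideal.Quotient.mk Q ((c * x) • b) = 0
      rw [Ideal.Quotient.eq_zero_iff_mem, Algebra.smul_def, map_mul]
      exact Q.mul_mem_right _ (Q.mul_mem_left _ hxp)
    have : Module.Finite A (B ⧸ Q) := Module.Finite.of_surjective (Submodule.liftQ _ _ hle) fun y => by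
      obtain ⟨b, rfl⟩ := Ideal.Quotient.mk_surjective y
      exact ⟨Submodule.Quotient.mk b, rfl⟩
    exact Module.Finite.of_restrictScalars_finite A _ _

end Groth.Agent.S6370
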