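import Mathlib.Algebra.Algebra.Epi
import Mathlib.RingTheory.Localization.AtPrime.Basic
import Mathlib.RingTheory.Localization.Basic
import Mathlib.RingTheory.Flat.FaithfullyFlat.Basic
import Mathlib.RingTheory.Spectrum.Prime.Topology
import Mathlib.RingTheory.Ideal.Quotient.Operations
import Mathlib.SetTheory.Cardinal.Basic
import Mathlib.RingTheory.TensorProduct.Basic
import Mathlib.RingTheory.LocalRing.ResidueField.Fiber
import Mathlib

set_option autoImplicit false
universe u
namespace CAlg
end CAlg
open CAlg

namespace Groth.Agent.S6371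
open TensorProduct

/-- A ring map R → S is an epimorphism of rings if and only if for every prime p of R the localized map
R_p → S_p is an epimorphism, where S_p is S localized at the image of R ∖ p. -/
theorem result (R S : Type u) [CommRing R] [CommRing S] [Algebra R S] :
    Algebra.IsEpi R S ↔ ∀ (p : Ideal R) [p.IsPrime],
      Algebra.IsEpi (Localization.AtPrime p) (Localization (Algebra.algebraMapSubmonoid S p.primeCompl)) := by
  constructor
  · intro h p hp
    set Sp := Localization (Algebra.algebraMapSubmonoid S p.primeCompl)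
    set Rp := Localization.AtPrime p
    rw [Algebra.isEpi_iff_forall_one_tmul_eq]
    intro x
    obtain ⟨⟨s, ⟨_, t, ht, rfl⟩⟩, hst⟩ := IsLocalization.surj (Algebra.algebraMapSubmonoid S p.primeCompl) x
    obtain ⟨c, hc⟩ := IsLocalization.map_units Rp (⟨t, ht⟩ : p.primeCompl)
    have hx : x = (↑c⁻¹ : Rp) • algebraMap S Sp s := by
      rw [← hst, Algebra.smul_def, mul_left_comm, ← IsScalarTower.algebraMap_apply,
        IsScalarTower.algebraMap_apply R Rp Sp, ← map_mul, ← hc, Units.inv_mul, map_one, mul_one]
    let Φ : S ⊗[R] S →ₗ[R] Sp ⊗[Rp] Sp := TensorProduct.lift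
      (((TensorProduct.mk Rp Sp Sp).restrictScalars₁₂ R R).compl₁₂ (IsScalarTower.toAlgHom R S Sp).toLinearMap
        (IsScalarTower.toAlgHom R S Sp).toLinearMap)
    have h1 := congrArg Φ ((Algebra.isEpi_iff_forall_one_tmul_eq R S).1 h s)
    simp only [Φ, TensorProduct.lift.tmul, LinearMap.compl₁₂_apply, LinearMap.restrictScalars₁₂_apply_apply,
      TensorProduct.mk_apply, AlgHom.toLinearMap_apply, map_one, IsScalarTower.coe_toAlgHom'] at h1
    rw [hx, TensorProduct.tmul_smul, ← TensorProduct.smul_tmul', h1]
  · intro h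
    rw [Algebra.isEpi_iff_forall_one_tmul_eq]
    intro s
    rw [← sub_eq_zero]
    set d : S ⊗[R] S := 1 ⊗ₜ s - s ⊗ₜ 1
    by_contra hd
    obtain ⟨p, hpmax, hp⟩ := Ideal.exists_le_maximal _ (show LinearMap.ker (LinearMap.toSpanSingleton R _ d) ≠ ⊤ from
      fun htop => hd (by simpa using (htop ▸ Submodule.mem_top : (1 : R) ∈ LinearMap.ker (LinearMap.toSpanSingleton R _ d))))
    haveI := hpmax.isPrime
    set Sp := Localization (Algebra.algebraMapSubmonoid S p.primeCompl)
    set Rp := Localization.AtPrime p
    let ι : S →ₗ[R] Sp := (IsScalarTower.toAlgHom R S Sp).toLinearMap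
    haveI : IsLocalizedModule p.primeCompl ι := by
      exact isLocalizedModule_iff_isLocalization.2 inferInstance
    have h0 : TensorProduct.map ι ι d = 0 := by
      have he := (Algebra.isEpi_iff_forall_one_tmul_eq Rp Sp).1 (h p) (algebraMap S Sp s)
      have he' := congrArg (IsLocalization.moduleTensorEquiv p.primeCompl Rp Sp Sp) he
      simp only [d, map_sub, TensorProduct.map_tmul, ι, AlgHom.toLinearMap_apply, IsScalarTower.coe_toAlgHom', map_one, sub_eq_zero]
      exact he'
    obtain ⟨c, hc⟩ := (IsLocalizedModule.eq_zero_iff p.primeCompl (TensorProduct.map ι ι)).1 h0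
    exact c.2 (hp (by simpa [Submonoid.smul_def] using hc))

end Groth.Agent.S6371
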