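import Mathlib.Algebra.Algebra.Epi
import Mathlib.RingTheory.Localization.AtPrime.Basic
import Mathlib.RingTheory.Localization.Basic
import Mathlib.RingTheory.Flat.FaithfullyFlat.Basic
import Mathlib.RingTheory.Spectrum.Prime.Topology
import Mathlib.RingTheory.Ideal.Quotient.Operations
import Mathlib.SetTheory.Cardinal.Basic
import Mathlib.RingTheory.TensorProduct.Basic
import Mathlib.RingTheory.LocalRing.ResidueField.Fiber
import Groth.Agent.CAlgMisc1.Imports
import Groth.Agent.S6372

set_option autoImplicit false
universe u
namespace CAlg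
end CAlg
open CAlg

namespace Groth.Agent.S6374
open TensorProduct

/-- For an epimorphism of rings R → S, the induced map Spec S → Spec R is injective and induces trivial
residue field extensions; stated in the form the proof gives: for every prime p of R the fibre ring
S ⊗_R κ(p) is either zero or κ(p) → S ⊗_R κ(p) is bijective, together with injectivity of Spec S →
Spec R. -/
theorem result (R S : Type u) [CommRing R] [CommRing S] [Algebra R S]
    [Algebra.IsEpi R S] :
    Function.Injective (PrimeSpectrum.comap (algebraMap R S)) ∧
      ∀ (p : Ideal R) [p.IsPrime],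
        Subsingleton (p.Fiber S) ∨ Function.Bijective (algebraMap p.ResidueField (p.Fiber S)) := by
  have hfib : ∀ (p : Ideal R) [p.IsPrime], Algebra.IsEpi p.ResidueField (p.Fiber S) := by
    intro p _
    rw [Algebra.isEpi_iff_forall_one_tmul_eq]
    intro x
    induction x using TensorProduct.induction_on with
    | zero => simp
    | tmul c s =>
      let ψ : S ⊗[R] S →ₗ[R] (p.Fiber S) ⊗[p.ResidueField] (p.Fiber S) :=
        TensorProduct.lift (LinearMap.mk₂ R
          (fun a b => ((1 : p.ResidueField) ⊗ₜ[R] a) ⊗ₜ[p.ResidueField] ((1 : p.ResidueField) ⊗ₜ[R] b))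
          (fun a a' b => by simp [TensorProduct.tmul_add, TensorProduct.add_tmul])
          (fun r a b => by simp [TensorProduct.tmul_smul, TensorProduct.smul_tmul'])
          (fun a b b' => by simp [TensorProduct.tmul_add])
          (fun r a b => by simp [TensorProduct.tmul_smul]))
      have h1 := congrArg ψ ((Algebra.isEpi_iff_forall_one_tmul_eq R S).1 inferInstance s)
      simp only [ψ, TensorProduct.lift.tmul, LinearMap.mk₂_apply] at h1
      rw [show c ⊗ₜ[R] s = c • ((1 : p.ResidueField) ⊗ₜ[R] s) by simp [TensorProduct.smul_tmul'],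
        TensorProduct.tmul_smul, ← TensorProduct.smul_tmul']
      exact congrArg (c • ·) h1
    | add x y hx hy => rw [TensorProduct.tmul_add, TensorProduct.add_tmul, hx, hy]
  have hfield : ∀ (p : Ideal R) [p.IsPrime], Subsingleton (p.Fiber S) ∨
      Function.Bijective (algebraMap p.ResidueField (p.Fiber S)) := by
    intro p _
    have := hfib p
    rcases subsingleton_or_nontrivial (p.Fiber S) with h | h
    · exact Or.inl h
    · exact Or.inr (Groth.Agent.S6372.result p.ResidueField (p.Fiber S))
  refine ⟨fun q₁ q₂ h12 => ?_, fun p _ => hfield p⟩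
  let p := PrimeSpectrum.comap (algebraMap R S) q₂
  have : Subsingleton (PrimeSpectrum (p.asIdeal.Fiber S)) := by
    rcases hfield p.asIdeal with h | h
    · exact ⟨fun a _ => absurd ((Ideal.eq_top_iff_one _).2
        (by rw [Subsingleton.elim (1 : p.asIdeal.Fiber S) 0]; exact zero_mem _)) a.isPrime.ne_top⟩
    · exact (PrimeSpectrum.comapEquiv (RingEquiv.ofBijective _ h).symm).subsingleton
  have := (PrimeSpectrum.preimageEquivFiber R S p).subsingleton
  exact congrArg Subtype.val (Subsingleton.elim
    (⟨q₁, h12⟩ : PrimeSpectrum.comap (algebraMap R S) ⁻¹' {p}) ⟨q₂, rfl⟩)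

end Groth.Agent.S6374
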