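import Mathlib.Algebra.Algebra.Epi
import Mathlib.RingTheory.Localization.AtPrime.Basic
import Mathlib.RingTheory.Localization.Basic
import Mathlib.RingTheory.Flat.FaithfullyFlat.Basic
import Mathlib.RingTheory.Spectrum.Prime.Topology
import Mathlib.RingTheory.Ideal.Quotient.Operations
import Mathlib.SetTheory.Cardinal.Basic
import Mathlib.RingTheory.TensorProduct.Basic
import Mathlib.RingTheory.LocalRing.ResidueField.Fiber
import Mathlib

set_option autoImplicit false
universe u
namespace CAlg
end CAlg
open CAlg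

namespace Groth.Agent.S6375
open TensorProduct

set_option maxHeartbeats 1000000 in
open scoped Classical in
open TensorProduct in
theorem zigzag {R S : Type u} [CommRing R] [CommRing S] [Algebra R S] [Algebra.IsEpi R S] (s : S) :
    ∃ (ι : Type u) (_ : Fintype ι) (T : Finset S) (Y : ι → S) (k : ι → (S →₀ R)) (v : ι → R),
      s ∈ T ∧ (∀ j : S, ∑ i, Y i * algebraMap R S (k i j) = if j = s then 1 else 0) ∧
      ∀ i, ∑ j ∈ T, algebraMap R S (k i j) * j = algebraMap R S (v i) := by
  classical
  let P := LinearMap.range (Algebra.linearMap R S)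
  let π : (S →₀ R) →ₗ[R] S ⧸ P := (Submodule.mkQ P).comp (Finsupp.linearCombination R id)
  have hπ : Function.Surjective π := by
    intro y
    obtain ⟨x, rfl⟩ := Submodule.mkQ_surjective P y
    exact ⟨Finsupp.single x 1, by simp [π]⟩
  have h0 : (1 : S) ⊗ₜ[R] (Submodule.Quotient.mk s : S ⧸ P) = 0 := by
    have h1 := congrArg (LinearMap.lTensor S (Submodule.mkQ P)) ((Algebra.isEpi_iff_forall_one_tmul_eq R S).1 ‹_› s)
    rw [LinearMap.lTensor_tmul, LinearMap.lTensor_tmul,
      show Submodule.mkQ P (1 : S) = 0 from (Submodule.Quotient.mk_eq_zero P).2 ⟨1, by simp⟩,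
      TensorProduct.tmul_zero] at h1
    exact h1
  have hex : Function.Exact ((LinearMap.ker π).subtype.lTensor S) (π.lTensor S) :=
    by
    have hk : Function.Exact (LinearMap.ker π).subtype π := LinearMap.exact_subtype_ker_map π
    exact lTensor_exact (R := R) (M := ↥(LinearMap.ker π)) (N := S →₀ R) (P := S ⧸ P) S hk hπ
  obtain ⟨w, hw⟩ := (hex ((1 : S) ⊗ₜ Finsupp.single s 1)).1 (by simpa [π] using h0)
  obtain ⟨t, rfl⟩ := TensorProduct.exists_finset w
  have hmem : ∀ p : t, ∃ r : R, algebraMap R S r = Finsupp.linearCombination R id (p.1.2 : S →₀ R) := fun p => by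
    obtain ⟨r, hr⟩ := (Submodule.Quotient.mk_eq_zero P).1 (LinearMap.mem_ker.1 p.1.2.2)
    exact ⟨r, hr⟩
  choose v hv using hmem
  refine ⟨t, inferInstance, insert s (t.biUnion fun p => (p.2 : S →₀ R).support), fun p => p.1.1,
    fun p => (p.1.2 : S →₀ R), v, Finset.mem_insert_self _ _, fun j => ?_, fun p => ?_⟩
  · have h2 := congrArg (fun z => TensorProduct.finsuppScalarRight R R S S z j) hw
    simp only [map_sum, LinearMap.lTensor_tmul, Submodule.subtype_apply, Finsupp.finset_sum_apply,
      TensorProduct.finsuppScalarRight_apply_tmul_apply] at h2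
    rw [Finset.sum_coe_sort t fun p => p.1 * algebraMap R S ((p.2 : S →₀ R) j)]
    refine Eq.trans (Finset.sum_congr rfl fun p _ => ?_) (h2.trans ?_)
    · rw [Algebra.smul_def, mul_comm]
    · rw [Finsupp.single_apply]
      by_cases h : j = s
      · simp [h]
      · simp [h, Ne.symm h]
  · rw [hv p, Finsupp.linearCombination_apply, Finsupp.sum, Finset.sum_subset (s₂ := insert s _)
      (Finset.Subset.trans (Finset.subset_biUnion_of_mem (fun q => (q.2 : S →₀ R).support) p.2) (Finset.subset_insert _ _))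
      (fun x _ hx => by rw [Finsupp.notMem_support_iff.1 hx, zero_smul])]
    exact Finset.sum_congr rfl fun j _ => (Algebra.smul_def _ _).symm

set_option maxHeartbeats 800000 in
/-- For an infinite source ring: if R → S is an epimorphism of rings with R infinite, then |S| ≤ |R| as
cardinals. (For finite R the published statement also asserts |S| ≤ |R|, but its proof only gives
that S is countable and omits the rest, so that case is not included.) -/
theorem result (R S : Type u) [CommRing R] [CommRing S] [Algebra R S] [Algebra.IsEpi R S]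
    [Infinite R] : Cardinal.mk S ≤ Cardinal.mk R := by
  classical
  let D := Σ n : ℕ, Σ m : ℕ, (Fin n → Fin m → R) × (Fin m → R) × (Fin n → R)
  -- zigzag: `s = Y X Z` with `X`, `Y X`, `X Z` over `R`
  have hzig : ∀ s : S, ∃ (d : D) (Y : Fin d.1 → S) (Z : Fin d.2.1 → S),
      (∀ j, ∑ i, Y i * algebraMap R S (d.2.2.1 i j) = algebraMap R S (d.2.2.2.1 j)) ∧
      (∀ i, ∑ j, algebraMap R S (d.2.2.1 i j) * Z j = algebraMap R S (d.2.2.2.2 i)) ∧
      s = ∑ j, algebraMap R S (d.2.2.2.1 j) * Z j := by
    intro s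
    obtain ⟨ι, _, T, Y, k, v, hsT, hY, hv⟩ := zigzag (R := R) s
    let e := (Fintype.equivFin ι).symm
    let e' := T.equivFin.symm
    refine ⟨⟨Fintype.card ι, T.card, fun i j => k (e i) (e' j), fun j => if (e' j : S) = s then 1 else 0,
      fun i => v (e i)⟩, fun i => Y (e i), fun j => (e' j : S), fun j => ?_, fun i => ?_, ?_⟩
    · refine (e.sum_comp fun i => Y i * algebraMap R S (k i (e' j))).trans ((hY _).trans ?_)
      by_cases h : (e' j : S) = s <;> simp [h]
    · exact (e'.sum_comp fun j : T => algebraMap R S (k (e i) j) * (j : S)).trans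
        ((Finset.sum_coe_sort T fun j => algebraMap R S (k (e i) j) * j).trans (hv _))
    · refine Eq.symm ((e'.sum_comp fun j : T => algebraMap R S (if (j : S) = s then 1 else 0) * (j : S)).trans
        ((Finset.sum_coe_sort T fun j => algebraMap R S (if j = s then 1 else 0) * j).trans ?_))
      rw [Finset.sum_eq_single s (fun x _ hx => by simp [hx]) (fun h => absurd hsT h)]
      simp
  choose d Y Z hY hZ hs using hzig
  have hinj : Function.Injective d := by
    intro s s' hd
    obtain ⟨X, hX⟩ : ∃ X, d s = X := ⟨_, rfl⟩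
    have a1 := hY s'; have a3 := hZ s; have a4 := hZ s'; have a5 := hs s; have a6 := hs s'
    revert a1 a3 a4 a5 a6
    generalize Y s' = Y', Z s = Z₁, Z s' = Z'
    revert Y' Z₁ Z'
    rw [hd]
    intro Y' Z₁ Z' a1 a3 a4 a5 a6
    refine a5.trans (Eq.trans ?_ a6.symm)
    have : ∀ W : Fin (d s').2.1 → S, (∀ i, ∑ j, algebraMap R S ((d s').2.2.1 i j) * W j = algebraMap R S ((d s').2.2.2.2 i)) →
        ∑ j, algebraMap R S ((d s').2.2.2.1 j) * W j = ∑ i, Y' i * algebraMap R S ((d s').2.2.2.2 i) := by
      intro W hW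
      simp only [← a1, ← hW, Finset.sum_mul, Finset.mul_sum, mul_assoc]
      rw [Finset.sum_comm]
    rw [this Z₁ a3, this Z' a4]
  refine (Cardinal.mk_le_of_injective hinj).trans ?_
  have hfin : ∀ (X : Type u) (n : ℕ), Cardinal.mk X ≤ Cardinal.mk R → Cardinal.mk (Fin n → X) ≤ Cardinal.mk R := by
    intro X n hX
    simp only [Cardinal.mk_arrow, Cardinal.mk_fin, Cardinal.lift_natCast, Cardinal.lift_uzero, Cardinal.power_natCast]
    exact (pow_le_pow_left₀ zero_le hX n).trans (Cardinal.power_nat_le (Cardinal.aleph0_le_mk R))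
  simp only [D, Cardinal.mk_sigma]
  refine (Cardinal.sum_le_lift_mk_mul_iSup _).trans ?_
  refine (mul_le_mul' (le_refl _) (ciSup_le' fun n => ?_)).trans ?_ (b := Cardinal.lift.{u} (Cardinal.mk ℕ) * Cardinal.mk R)
  · refine (Cardinal.sum_le_lift_mk_mul_iSup _).trans ?_
    refine (mul_le_mul' (le_refl _) (ciSup_le' fun m => ?_)).trans ?_ (b := Cardinal.lift.{u} (Cardinal.mk ℕ) * Cardinal.mk R)
    · rw [Cardinal.mk_prod, Cardinal.mk_prod, Cardinal.lift_id, Cardinal.lift_id, Cardinal.lift_id, Cardinal.lift_id]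
      have hmul := Cardinal.mul_eq_self (Cardinal.aleph0_le_mk R)
      calc _ ≤ Cardinal.mk R * (Cardinal.mk R * Cardinal.mk R) :=
            mul_le_mul' (hfin _ n (hfin R m le_rfl)) (mul_le_mul' (hfin R m le_rfl) (hfin R n le_rfl))
        _ = Cardinal.mk R := by rw [hmul, hmul]
    · simp [Cardinal.aleph0_le_mk R]
  · simp [Cardinal.aleph0_le_mk R]

end Groth.Agent.S6375
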