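import Mathlib.Algebra.Algebra.Epi
import Mathlib.RingTheory.Localization.AtPrime.Basic
import Mathlib.RingTheory.Localization.Basic
import Mathlib.RingTheory.Flat.FaithfullyFlat.Basic
import Mathlib.RingTheory.Spectrum.Prime.Topology
import Mathlib.RingTheory.Ideal.Quotient.Operations
import Mathlib.SetTheory.Cardinal.Basic
import Mathlib.RingTheory.TensorProduct.Basic
import Mathlib.RingTheory.LocalRing.ResidueField.Fiber
import Groth.Agent.CAlgMisc1.Imports

set_option autoImplicit false
universe u
namespace CAlg
end CAlg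
open CAlg

namespace Groth.Agent.S6376
open TensorProduct

/-- A ring map R → S is an epimorphism if and only if for all S-modules N₁, N₂ every R-linear map N₁ →
N₂ is S-linear, i.e. restriction of scalars from S-modules to R-modules is fully faithful. -/
theorem result (R S : Type u) [CommRing R] [CommRing S] [Algebra R S] :
    Algebra.IsEpi R S ↔
      ∀ (N₁ N₂ : Type u) [AddCommGroup N₁] [Module S N₁] [Module R N₁] [IsScalarTower R S N₁]
        [AddCommGroup N₂] [Module S N₂] [Module R N₂] [IsScalarTower R S N₂] (φ : N₁ →ₗ[R] N₂),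
        ∀ (s : S) (x : N₁), φ (s • x) = s • φ x := by
  rw [Algebra.isEpi_iff_forall_one_tmul_eq]
  constructor
  · intro h N₁ N₂ _ _ _ _ _ _ _ _ φ s x
    let F : S ⊗[R] N₁ →ₗ[R] N₂ := TensorProduct.lift (LinearMap.mk₂ R (fun (a : S) (n : N₁) => a • φ n)
      (fun a b n => add_smul a b _) (fun r a n => smul_assoc r a _)
      (fun a n m => by rw [map_add, smul_add]) (fun r a n => by rw [map_smul, smul_comm]))
    have hepi : Algebra.IsEpi R S := (Algebra.isEpi_iff_forall_one_tmul_eq R S).2 h
    have h1 : (1 : S) ⊗ₜ[R] (s • x) = s ⊗ₜ[R] x :=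
      (TensorProduct.lid' R S N₁).injective (by simp)
    simpa [F] using congrArg F h1
  · intro h s
    have := h S (S ⊗[R] S) (TensorProduct.mk R S S 1) s 1
    simpa [TensorProduct.smul_tmul'] using this

end Groth.Agent.S6376
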