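import Mathlib.Algebra.Algebra.Epi
import Mathlib.RingTheory.Localization.AtPrime.Basic
import Mathlib.RingTheory.Localization.Basic
import Mathlib.RingTheory.Flat.FaithfullyFlat.Basic
import Mathlib.RingTheory.Spectrum.Prime.Topology
import Mathlib.RingTheory.Ideal.Quotient.Operations
import Mathlib.SetTheory.Cardinal.Basic
import Mathlib.RingTheory.TensorProduct.Basic
import Mathlib.RingTheory.LocalRing.ResidueField.Fiber
import Mathlib.LinearAlgebra.FreeModule.Basic
import Mathlib.RingTheory.Ideal.Maps
import Groth.Agent.CAlgFlatExt.FreeExt

set_option autoImplicit false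
universe u
namespace CAlg
end CAlg
open CAlg

namespace Groth.Agent.S6381

/-- Let R be a ring, p ⊆ R a prime and L a finite extension of the residue field κ(p). Then one can find
a ring map R → S, with S finite free over R, for which q = pS is a prime of S and the residue field
κ(q) is isomorphic to L over κ(p) (stated as a ring isomorphism κ(q) ≅ L compatible with the maps
from R, which determines compatibility with κ(p)). -/
theorem result (R : Type u) [CommRing R] (p : Ideal R) [p.IsPrime]
    (L : Type u) [Field L] [Algebra p.ResidueField L] [FiniteDimensional p.ResidueField L]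
    [Algebra R L] [IsScalarTower R p.ResidueField L] :
    ∃ (S : Type u) (_ : CommRing S) (_ : Algebra R S) (_ : Module.Finite R S) (_ : Module.Free R S)
      (_ : (p.map (algebraMap R S)).IsPrime)
      (e : (p.map (algebraMap R S)).ResidueField ≃+* L),
      ∀ r : R, e (algebraMap R (p.map (algebraMap R S)).ResidueField r) = algebraMap R L r := by
  obtain ⟨T, hT⟩ := Groth.Agent.CAlgFlatExt.exists_free_extension (R := R) (L := L) (p := p)
  have hq : (p.map (algebraMap R T.carrier)).IsPrime := T.ker_g ▸ RingHom.ker_isPrime T.g
  let φ : (p.map (algebraMap R T.carrier)).ResidueField →+* L :=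
    Ideal.ResidueField.lift _ T.g.toRingHom T.ker_g.ge
      (fun s hs => isUnit_iff_ne_zero.2 fun h => hs (T.ker_g ▸ h : s ∈ p.map (algebraMap R T.carrier)))
  have hsurj : Function.Surjective φ := by
    rw [← RingHom.fieldRange_eq_top_iff, eq_top_iff, ← hT, Subfield.closure_le]
    rintro _ ⟨s, rfl⟩
    exact ⟨algebraMap _ _ s, Ideal.ResidueField.lift_algebraMap _ _ _ _ s⟩
  refine ⟨T.carrier, inferInstance, inferInstance, inferInstance, inferInstance, hq,
    RingEquiv.ofBijective φ ⟨φ.injective, hsurj⟩, fun r => ?_⟩
  show φ (algebraMap R _ r) = _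
  rw [IsScalarTower.algebraMap_apply R T.carrier (p.map (algebraMap R T.carrier)).ResidueField,
    Ideal.ResidueField.lift_algebraMap]
  exact T.g.commutes r

end Groth.Agent.S6381
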