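import Mathlib.RingTheory.Flat.Basic
import Mathlib.RingTheory.TensorProduct.Basic
import Mathlib.RingTheory.Ideal.Quotient.Operations
import Mathlib.RingTheory.Nilpotent.Defs
import Mathlib.LinearAlgebra.TensorProduct.Basic
import Mathlib.RingTheory.LocalRing.MaximalIdeal.Basic
import Mathlib.RingTheory.Artinian.Ring
import Mathlib.LinearAlgebra.LinearIndependent.Defs
import Mathlib.LinearAlgebra.Span.Defs
import Mathlib.RingTheory.IsTensorProduct
import Mathlib.RingTheory.LocalRing.RingHom.Basic
import Mathlib.RingTheory.Noetherian.Basic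
import Groth.Agent.FlatCrit.Tor

set_option autoImplicit false
universe u
namespace CAlg
end CAlg
open CAlg

namespace Groth.Agent.S6382
open TensorProduct

/-- Consider a commutative square of local rings and local homomorphisms R → S, R → R', S → S', R' → S',
and a finite S-module M. Assume the maps R → R' and S → S' are flat, M is flat over R, the maximal
ideal of R generates the maximal ideal of R', and R', S' are Noetherian. Then M' = M ⊗_S S' (any
base change of M along S → S') is flat over R'. -/
theorem result (R S R' S' : Type u) [CommRing R] [CommRing S]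
    [CommRing R'] [CommRing S'] [IsLocalRing R] [IsLocalRing S] [IsLocalRing R'] [IsLocalRing S']
    [Algebra R S] [Algebra R R'] [Algebra S S'] [Algebra R' S'] [Algebra R S']
    [IsScalarTower R S S'] [IsScalarTower R R' S']
    [IsLocalHom (algebraMap R S)] [IsLocalHom (algebraMap R R')] [IsLocalHom (algebraMap S S')]
    [IsLocalHom (algebraMap R' S')] [Module.Flat R R'] [Module.Flat S S']
    [IsNoetherianRing R'] [IsNoetherianRing S']
    (hm : (IsLocalRing.maximalIdeal R).map (algebraMap R R') = IsLocalRing.maximalIdeal R')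
    (M : Type u) [AddCommGroup M] [Module S M] [Module R M] [IsScalarTower R S M] [Module.Finite S M]
    [Module.Flat R M]
    (M' : Type u) [AddCommGroup M'] [Module S' M'] [Module S M'] [IsScalarTower S S' M'] [Module R' M']
    [IsScalarTower R' S' M'] (j : M →ₗ[S] M') (hj : IsBaseChange S' j) :
    Module.Flat R' M' := by
  letI : Module R M' := Module.compHom M' (algebraMap R R')
  haveI : IsScalarTower R R' M' := IsScalarTower.of_algebraMap_smul fun _ _ => rfl
  haveI : IsScalarTower R S' M' := IsScalarTower.of_algebraMap_smul fun r y => by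
    rw [IsScalarTower.algebraMap_apply R R' S', algebraMap_smul, algebraMap_smul]
  haveI : IsScalarTower R S M' := IsScalarTower.of_algebraMap_smul fun r y => by
    rw [← algebraMap_smul S' (algebraMap R S r) y, ← IsScalarTower.algebraMap_apply R S S', algebraMap_smul]
  haveI : Module.Finite S' M' := Module.Finite.equiv hj.equiv
  have hflatR : Module.Flat R M' := by
    have h0 : FlatCrit.QuotFlat R (S' ⊗[S] M) (⊥ : Ideal R) :=
      FlatCrit.QuotFlat.baseChange (S := S) (FlatCrit.quotFlat_of_module_flat ⊥) S'
    have h1 : Module.Flat R (S' ⊗[S] M) := by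
      rw [Module.Flat.iff_rTensor_injective']
      intro N
      exact h0 N.subtype (fun r hr b => by rw [Ideal.mem_bot.1 hr, zero_smul]) Subtype.val_injective
    exact Module.Flat.of_linearEquiv (hj.equiv.restrictScalars R).symm
  set m' := IsLocalRing.maximalIdeal R' with hm'
  set m := IsLocalRing.maximalIdeal R
  refine FlatCrit.flat_of_rTensor_injective (S := S') m' ?_ ?_ (FlatCrit.quotFlat_of_field _)
  · rw [IsLocalRing.jacobson_eq_maximalIdeal ⊥ bot_ne_top]
    exact ((IsLocalRing.local_hom_TFAE (algebraMap R' S')).out 0 2).mp (inferInstance : IsLocalHom (algebraMap R' S'))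
  let ι : m →ₗ[R] m' :=
    { toFun := fun a => ⟨algebraMap R R' a, by rw [← hm]; exact Ideal.mem_map_of_mem _ a.2⟩
      map_add' := fun a b => Subtype.ext (map_add (algebraMap R R') (a : R) b)
      map_smul' := fun r a => Subtype.ext (by
        show algebraMap R R' (r * (a : R)) = r • algebraMap R R' a
        rw [map_mul, Algebra.smul_def]) }
  let Φ : m ⊗[R] M' →ₗ[R] m' ⊗[R'] M' := TensorProduct.lift
    (((TensorProduct.mk R' m' M').restrictScalars₁₂ R R) ∘ₗ ι)
  have hΦ : ∀ z, ∃ t, Φ t = z := by
    intro z
    induction z with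
    | zero => exact ⟨0, map_zero _⟩
    | add p q hp hq =>
      obtain ⟨t, rfl⟩ := hp; obtain ⟨t', rfl⟩ := hq
      exact ⟨t + t', map_add _ _ _⟩
    | tmul b y =>
      have key : ∀ b' ∈ m.map (algebraMap R R'), ∀ (hb : b' ∈ m') (y : M'), ∃ t, Φ t = (⟨b', hb⟩ : m') ⊗ₜ[R'] y := by
        intro b' hb'
        rw [Ideal.map] at hb'
        induction hb' using Submodule.span_induction with
        | mem x hx =>
          obtain ⟨a, ha, rfl⟩ := hx
          exact fun hb y => ⟨(⟨a, ha⟩ : m) ⊗ₜ y, rfl⟩
        | zero => exact fun hb y => ⟨0, by rw [map_zero, show (⟨0, hb⟩ : m') = 0 from rfl, zero_tmul]⟩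
        | add x x' hx hx' ih ih' =>
          intro hb y
          have hxm : x ∈ m' := hm ▸ (show x ∈ m.map (algebraMap R R') from hx)
          have hxm' : x' ∈ m' := hm ▸ (show x' ∈ m.map (algebraMap R R') from hx')
          obtain ⟨t, ht⟩ := ih hxm y
          obtain ⟨t', ht'⟩ := ih' hxm' y
          exact ⟨t + t', by rw [map_add, ht, ht', ← add_tmul]; rfl⟩
        | smul c x hx ih =>
          intro hb y
          have hxm : x ∈ m' := hm ▸ (show x ∈ m.map (algebraMap R R') from hx)
          obtain ⟨t, ht⟩ := ih hxm (c • y)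
          exact ⟨t, by rw [ht, ← smul_tmul]; rfl⟩
      exact key b (hm.symm ▸ b.2) b.2 y
  rw [injective_iff_map_eq_zero]
  intro z hz
  obtain ⟨t, rfl⟩ := hΦ z
  have hcomp : ∀ t, TensorProduct.lid R' M' (m'.subtype.rTensor M' (Φ t)) = TensorProduct.lid R M' (m.subtype.rTensor M' t) := by
    intro t
    induction t with
    | zero => simp
    | add p q hp hq => simp only [map_add, hp, hq]
    | tmul a y =>
      show algebraMap R R' (a : R) • y = (a : R) • y
      rw [algebraMap_smul]
  have h2 : m.subtype.rTensor M' t = 0 := (TensorProduct.lid R M').map_eq_zero_iff.1 (by rw [← hcomp, hz, map_zero])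
  rw [(injective_iff_map_eq_zero _).1 (Module.Flat.rTensor_preserves_injective_linearMap (M := M') m.subtype Subtype.val_injective) t h2, map_zero]

end Groth.Agent.S6382
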