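import Mathlib.RingTheory.Flat.Basic
import Mathlib.RingTheory.TensorProduct.Basic
import Mathlib.RingTheory.Ideal.Quotient.Operations
import Mathlib.RingTheory.Nilpotent.Defs
import Mathlib.LinearAlgebra.TensorProduct.Basic
import Mathlib.RingTheory.LocalRing.MaximalIdeal.Basic
import Mathlib.RingTheory.Artinian.Ring
import Mathlib.LinearAlgebra.LinearIndependent.Defs
import Mathlib.LinearAlgebra.Span.Defs
import Groth.Agent.CAlgMisc2.FlatNil

set_option autoImplicit false
universe u
open scoped TensorProduct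
namespace CAlg
end CAlg
open CAlg

namespace Groth.Agent.S6384
open TensorProduct

/-- Let φ : R → R' be a ring map, I ⊆ R an ideal and M an R-module such that M/IM is R/I-flat and R' ⊗_R
M is R'-flat. Put I₂ = φ⁻¹(φ(I²) R'). Then M/I₂M is flat over R/I₂. -/
theorem result (R R' : Type u) [CommRing R] [CommRing R'] [Algebra R R']
    (I : Ideal R) (M : Type u) [AddCommGroup M] [Module R M] [Module.Flat (R ⧸ I) ((R ⧸ I) ⊗[R] M)]
    [Module.Flat R' (R' ⊗[R] M)] :
    Module.Flat (R ⧸ ((I ^ 2).map (algebraMap R R')).comap (algebraMap R R'))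
      ((R ⧸ ((I ^ 2).map (algebraMap R R')).comap (algebraMap R R')) ⊗[R] M) := by
  set I₂ : Ideal R := ((I ^ 2).map (algebraMap R R')).comap (algebraMap R R') with hI₂
  have hq := Groth.Agent.FlatCrit.quotFlat_of_flat I (inferInstance : Module.Flat (R ⧸ I) ((R ⧸ I) ⊗[R] M))
  have hle : I ^ 2 ≤ I₂ := Ideal.le_comap_map
  refine Groth.Agent.CAlgMisc2.flat_baseChange_of_injective (R ⧸ I₂) fun N => ?_
  let U : Submodule R (R ⧸ I₂) := Submodule.map I₂.mkQ I
  have hU : ∀ r ∈ I, ∀ b : U, r • b = 0 := by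
    rintro r hr ⟨_, a, ha, rfl⟩
    apply Subtype.ext
    show r • I₂.mkQ a = 0
    rw [← map_smul, Submodule.mkQ_apply, Submodule.Quotient.mk_eq_zero, smul_eq_mul]
    exact hle (by rw [pow_two]; exact Ideal.mul_mem_mul hr ha)
  refine Groth.Agent.CAlgMisc2.rTensor_injective_step hq (N.subtype.restrictScalars R) U ?_ ?_ ?_
  · intro r hr t
    obtain ⟨t, rfl⟩ := Submodule.Quotient.mk_surjective _ t
    exact ⟨r • t, I.mul_mem_right t hr, rfl⟩
  · refine hq _ hU ?_
    intro x y h
    exact Subtype.ext (Subtype.ext (congrArg Subtype.val h :))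
  · let J₂ := (I ^ 2).map (algebraMap R R')
    let g : (R ⧸ I₂) →ₗ[R] R' ⧸ J₂ := Submodule.liftQ I₂ ((Ideal.Quotient.mkₐ R J₂).toLinearMap ∘ₗ Algebra.linearMap R R') (by
      intro x hx
      exact Ideal.Quotient.eq_zero_iff_mem.2 hx)
    have hg : Function.Injective g := by
      rw [injective_iff_map_eq_zero]
      intro x
      obtain ⟨x, rfl⟩ := Submodule.Quotient.mk_surjective _ x
      intro hx
      exact (Submodule.Quotient.mk_eq_zero _).2 ((Ideal.Quotient.eq_zero_iff_mem (I := J₂)).1 hx)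
    let W : Submodule R' (R' ⧸ J₂) := Submodule.map J₂.mkQ (I.map (algebraMap R R'))
    have hgW : ∀ x : U, g x.1 ∈ W.restrictScalars R := by
      rintro ⟨_, a, ha, rfl⟩
      exact ⟨algebraMap R R' a, Ideal.mem_map_of_mem _ ha, rfl⟩
    let g' : U →ₗ[R] W.restrictScalars R := (g ∘ₗ U.subtype).codRestrict _ hgW
    have h1 : Function.Injective (g'.rTensor M) := by
      refine hq g' ?_ fun x y h => Subtype.ext (hg (congrArg Subtype.val h :))
      rintro r hr ⟨_, a, ha, rfl⟩
      apply Subtype.ext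
      show r • (J₂.mkQ a) = 0
      rw [← algebraMap_smul R' r, ← map_smul, Submodule.mkQ_apply, Submodule.Quotient.mk_eq_zero, smul_eq_mul]
      show _ ∈ (I ^ 2).map (algebraMap R R')
      rw [pow_two, Ideal.map_mul]
      exact Ideal.mul_mem_mul (Ideal.mem_map_of_mem _ hr) ha
    have h2 : Function.Injective ((W.subtype.restrictScalars R).rTensor M) :=
      Groth.Agent.CAlgMisc2.rTensor_injective_of_flat_baseChange (S := R') W.subtype Subtype.val_injective
    have h3 : (W.subtype.restrictScalars R) ∘ₗ g' = g ∘ₗ U.subtype := LinearMap.ext fun x => rfl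
    have h4 : Function.Injective (((W.subtype.restrictScalars R) ∘ₗ g').rTensor M) := by
      rw [LinearMap.rTensor_comp, LinearMap.coe_comp]
      exact h2.comp h1
    rw [h3, LinearMap.rTensor_comp, LinearMap.coe_comp] at h4
    exact h4.of_comp

end Groth.Agent.S6384
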