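import Groth.Statements.S6385
import Mathlib
import Groth.Agent.DimLib.Algebra
-- import your own Groth.Agent.* helpers here

set_option autoImplicit false
universe u
open CAlg

namespace Groth.Agent.S6385

/-- Let k be a field, S a finite type k-algebra, q a prime of S and x the corresponding point of X =
Spec S. Then there is g ∈ S, g ∉ q, such that dim S_g equals dim_x X — the minimum of dim S_{g'}
over all g' ∉ q — and, writing d for this dimension, a finite injective k-algebra map from the
polynomial ring k[y_1, ..., y_d] to S_g. -/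
theorem result (k S : Type u) [Field k] [CommRing S] [Algebra k S]
    [Algebra.FiniteType k S] (q : Ideal S) [q.IsPrime] :
    ∃ (g : S) (d : ℕ), g ∉ q ∧ ringKrullDim (Localization.Away g) = d ∧
      (∀ g' : S, g' ∉ q → ringKrullDim (Localization.Away g) ≤ ringKrullDim (Localization.Away g')) ∧
      ∃ φ : MvPolynomial (Fin d) k →ₐ[k] Localization.Away g, Function.Injective φ ∧ φ.toRingHom.Finite := by
  classical
  have key : ∀ g : S, g ∉ q → ∃ (d : ℕ) (φ : MvPolynomial (Fin d) k →ₐ[k] Localization.Away g),
      Function.Injective φ ∧ φ.toRingHom.Finite ∧ ringKrullDim (Localization.Away g) = d := by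
    intro g hg
    haveI : Nontrivial (Localization.Away g) := (not_subsingleton_iff_nontrivial).1 fun hs => by
      have h := (IsLocalization.subsingleton_iff (S := Localization.Away g) (M := Submonoid.powers g)).1 hs
      obtain ⟨n, hn⟩ := h
      exact hg (Ideal.IsPrime.mem_of_pow_mem ‹_› n (by simp only at hn; rw [hn]; exact q.zero_mem))
    haveI : Algebra.FiniteType S (Localization.Away g) := IsLocalization.finiteType_of_monoid_fg (Submonoid.powers g) _
    haveI : Algebra.FiniteType k (Localization.Away g) := Algebra.FiniteType.trans (R := k) (S := S) inferInstance inferInstance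
    obtain ⟨s, φ, hφ, hfin⟩ := exists_finite_inj_algHom_of_fg k (Localization.Away g)
    refine ⟨s, φ, hφ, hfin, ?_⟩
    letI := φ.toRingHom.toAlgebra
    haveI : Module.Finite (MvPolynomial (Fin s) k) (Localization.Away g) := hfin
    rw [← Groth.Agent.DimLib.ringKrullDim_eq_of_isIntegral (R := MvPolynomial (Fin s) k) (S := Localization.Away g) hφ,
      MvPolynomial.ringKrullDim_of_isNoetherianRing, ringKrullDim_eq_zero_of_field]
    simp
  have h1 : (1 : S) ∉ q := fun h => Ideal.IsPrime.ne_top ‹_› ((Ideal.eq_top_iff_one q).2 h)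
  have hne : ∃ d : ℕ, ∃ g : S, g ∉ q ∧ ringKrullDim (Localization.Away g) = d := by
    obtain ⟨d, -, -, -, hd⟩ := key 1 h1
    exact ⟨d, 1, h1, hd⟩
  obtain ⟨g, hg, hgd⟩ := Nat.find_spec hne
  refine ⟨g, Nat.find hne, hg, hgd, fun g' hg' => ?_, ?_⟩
  · obtain ⟨d', -, -, -, hd'⟩ := key g' hg'
    rw [hgd, hd']
    exact_mod_cast Nat.find_min' hne ⟨g', hg', hd'⟩
  · obtain ⟨d', φ, hφ, hfin, hd'⟩ := key g hg
    have : d' = Nat.find hne := by
      rw [hgd] at hd'
      exact_mod_cast hd'.symm
    subst this
    exact ⟨φ, hφ, hfin⟩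

end Groth.Agent.S6385
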