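import Groth.Prelude.Def_Found
import Groth.Prelude.Def_CAlgX
import Mathlib.RingTheory.Flat.Basic
import Mathlib.Algebra.DirectSum.Module
import Mathlib.LinearAlgebra.TensorProduct.Basic
import Mathlib.RingTheory.TensorProduct.Basic
import Mathlib.Algebra.Colimit.Module
import Mathlib.RingTheory.Finiteness.Defs
import Mathlib.RingTheory.FinitePresentation
import Mathlib.Algebra.Module.FinitePresentation
import Mathlib.RingTheory.Ideal.Quotient.Operations
import Mathlib.RingTheory.Noetherian.Basic
import Mathlib.LinearAlgebra.TensorProduct.Pi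
import Mathlib.SetTheory.Cardinal.Basic
import Mathlib.Algebra.Algebra.Subalgebra.Basic
import Mathlib

set_option autoImplicit false
universe u
namespace CAlg
end CAlg
open CAlg

namespace Groth.Agent.S6386

/-- The key step of its proof: let A be a ring, κ = max(|A|, ℵ₀), and B a flat A-algebra. Then every
A-subalgebra E ⊆ B with at most κ elements lies inside a flat A-subalgebra B' ⊆ B with at most κ
elements. Consequently B is the filtered colimit (union) of its flat A-subalgebras of cardinality at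
most κ. -/
theorem result (A B : Type u) [CommRing A] [CommRing B] [Algebra A B]
    [Module.Flat A B] (E : Subalgebra A B) (hE : Cardinal.mk E ≤ max (Cardinal.mk A) Cardinal.aleph0) :
    ∃ B' : Subalgebra A B, E ≤ B' ∧ Module.Flat A B' ∧ Cardinal.mk B' ≤ max (Cardinal.mk A) Cardinal.aleph0 := by
  classical
  let κ := max (Cardinal.mk A) Cardinal.aleph0
  have hω : Cardinal.aleph0 ≤ κ := le_max_right _ _
  -- one closure step
  have step : ∀ S : Subalgebra A B, Cardinal.mk S ≤ κ → ∃ T : Subalgebra A B, S ≤ T ∧ Cardinal.mk T ≤ κ ∧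
      ∀ {l : ℕ} {f : Fin l → A} {x : Fin l → B}, (∀ i, x i ∈ S) → ∑ i, f i • x i = 0 →
        ∃ (k : ℕ) (a : Fin l → Fin k → A) (y : Fin k → B), (∀ j, y j ∈ T) ∧
          (∀ i, x i = ∑ j, a i j • y j) ∧ ∀ j, ∑ i, f i * a i j = 0 := by
    intro S hS
    let Rel := Σ l : ℕ, {fx : (Fin l → A) × (Fin l → S) // ∑ i, fx.1 i • (fx.2 i : B) = 0}
    have hRel : ∀ r : Rel, Module.IsTrivialRelation (R := A) r.2.1.1 (fun i => (r.2.1.2 i : B)) := fun r =>
      Module.Flat.isTrivialRelation_of_sum_smul_eq_zero r.2.2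
    choose k a y hy₁ hy₂ using hRel
    let W : Set B := Set.range fun r : (Σ r : Rel, Fin (k r)) => y r.1 r.2
    refine ⟨Algebra.adjoin A ((S : Set B) ∪ W), fun b hb => Algebra.subset_adjoin (Or.inl hb), ?_, fun {l f x} hx h0 => ?_⟩
    · have hW : Cardinal.mk W ≤ κ := by
        refine Cardinal.mk_range_le.trans ?_
        refine (Cardinal.mk_le_of_injective (f := fun p : (Σ r : Rel, Fin (k r)) => (p.1, ULift.up.{u} p.2.1)) ?_).trans ?_
        · rintro ⟨r, i⟩ ⟨r', i'⟩ h
          obtain ⟨rfl, h2⟩ := Prod.mk.injEq .. ▸ h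
          rw [Fin.ext (ULift.up_injective h2 : (i : ℕ) = i')]
        rw [Cardinal.mk_prod, Cardinal.lift_id, Cardinal.lift_id]
        have h1 : Cardinal.mk Rel ≤ κ := by
          refine (Cardinal.mk_sigma _).trans_le ((Cardinal.sum_le_lift_mk_mul_iSup _).trans ?_)
          refine (mul_le_mul' (le_refl _) (ciSup_le' fun l => ?_)).trans ?_ (b := Cardinal.lift.{u} (Cardinal.mk ℕ) * κ)
          · refine (Cardinal.mk_subtype_le _).trans ?_
            have hfin : ∀ (X : Type u), Cardinal.mk X ≤ κ → Cardinal.mk (Fin l → X) ≤ κ := by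
              intro X hX
              simp only [Cardinal.mk_arrow, Cardinal.mk_fin, Cardinal.lift_natCast, Cardinal.lift_uzero, Cardinal.power_natCast]
              exact (pow_le_pow_left₀ zero_le hX l).trans (Cardinal.power_nat_le hω)
            rw [Cardinal.mk_prod, Cardinal.lift_id, Cardinal.lift_id]
            exact (mul_le_mul' (hfin A (le_max_left _ _)) (hfin S hS)).trans (Cardinal.mul_eq_self hω).le
          · simp [Cardinal.mul_eq_self hω, hω]
        exact (mul_le_mul' h1 ((Cardinal.mk_le_aleph0 (α := ULift.{u} ℕ)).trans hω)).trans (Cardinal.mul_eq_self hω).le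
      refine (Algebra.cardinalMk_adjoin_le A _).trans ?_
      have : Cardinal.mk ((S : Set B) ∪ W : Set B) ≤ κ :=
        (Cardinal.mk_union_le _ _).trans ((add_le_add (show Cardinal.mk (S : Set B) ≤ κ from hS) hW).trans
          (Cardinal.add_eq_self hω).le)
      exact max_le (max_le (le_max_left _ _) this) hω
    · let r : Rel := ⟨l, ⟨(f, fun i => ⟨x i, hx i⟩), h0⟩⟩
      exact ⟨k r, a r, y r, fun j => Algebra.subset_adjoin (Or.inr ⟨⟨r, j⟩, rfl⟩), hy₁ r, hy₂ r⟩
  choose! T hT₁ hT₂ hT₃ using step
  let F : ℕ → Subalgebra A B := fun n => n.rec E fun _ prev => T prev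
  have hF : ∀ n, Cardinal.mk ↥(F n) ≤ κ := fun n => by
    induction n with
    | zero => exact hE
    | succ n ih => exact hT₂ (F n) ih
  have hmono : Monotone F := monotone_nat_of_le_succ fun n => hT₁ _ (hF n)
  refine ⟨⨆ n, F n, le_iSup F 0, ?_, ?_⟩
  · refine Module.Flat.of_forall_isTrivialRelation fun {l f x} h0 => ?_
    have hx : ∀ i, ∃ n, (x i : B) ∈ F n := fun i => by
      have : (x i : B) ∈ ((⨆ n, F n : Subalgebra A B) : Set B) := (x i).2
      rw [Subalgebra.coe_iSup_of_directed hmono.directed_le] at this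
      simpa using this
    choose n hn using hx
    let N := Finset.univ.sup n
    have h0' : ∑ i, f i • (x i : B) = 0 := by
      simpa using congrArg Subtype.val h0
    obtain ⟨k, a, y, hy, h1, h2⟩ := hT₃ (F N) (hF N) (fun i => hmono (Finset.le_sup (Finset.mem_univ i)) (hn i)) h0'
    exact ⟨k, a, fun j => ⟨y j, le_iSup F (N + 1) (hy j)⟩, fun i => Subtype.ext (by simpa using h1 i), h2⟩
  · show Cardinal.mk ((⨆ n, F n : Subalgebra A B) : Set B) ≤ κ
    rw [Subalgebra.coe_iSup_of_directed hmono.directed_le]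
    refine (Cardinal.lift_le.1 ((Cardinal.mk_iUnion_le_lift _).trans ?_))
    refine (mul_le_mul' (le_refl _) (ciSup_le' fun n => Cardinal.lift_le.2 (hF n))).trans ?_
    simp [Cardinal.mul_eq_self, hω]

end Groth.Agent.S6386
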