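import Mathlib.Algebra.Homology.HomologicalComplex
import Mathlib.Algebra.Homology.ShortComplex.HomologicalComplex
import Mathlib.Algebra.Category.ModuleCat.Abelian
import Mathlib.Algebra.Category.ModuleCat.Monoidal.Basic
import Mathlib.Algebra.Category.ModuleCat.ChangeOfRings
import Mathlib.Algebra.Homology.Additive
import Mathlib.CategoryTheory.Monoidal.Preadditive
import Mathlib.RingTheory.Flat.Basic
import Mathlib.RingTheory.LocalRing.MaximalIdeal.Basic
import Mathlib.RingTheory.LocalRing.RingHom.Basic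
import Mathlib.RingTheory.Noetherian.Basic
import Mathlib.RingTheory.Ideal.Quotient.Operations
import Groth.Agent.CAlgMisc2.ExactModMax

set_option autoImplicit false
universe u
namespace CategoryTheory
end CategoryTheory
open CategoryTheory
namespace CAlg
end CAlg
open CAlg

namespace Groth.Agent.S6387
open TensorProduct

/-- Let R and S be Noetherian local rings, R → S a local ring map, and m the maximal ideal of R. Take a
bounded complex F_e → … → F_1 → F_0 of finitely generated S-modules, zero to the left of F_e (a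
chain complex C with C_j = 0 for j > e) such that every F_j is flat over R and the complex 0 →
F_e/mF_e → … → F_0/mF_0 (C tensored over S with S/mS) is exact at F_e, …, F_1. Then 0 → F_e → … →
F_0 is exact at F_e, …, F_1 and the cokernel of F_1 → F_0 (the homology of C in degree 0) is flat
over R. -/
theorem result {R S : Type u} [CommRing R] [CommRing S]
    [IsLocalRing R] [IsLocalRing S] [IsNoetherianRing R] [IsNoetherianRing S] [Algebra R S]
    [IsLocalHom (algebraMap R S)] (C : ChainComplex (ModuleCat.{u} S) ℕ) (e : ℕ)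
    (hzero : ∀ j, e < j → Limits.IsZero (C.X j)) (hfin : ∀ j, Module.Finite S (C.X j))
    (hflat : ∀ j, Module.Flat R ((ModuleCat.restrictScalars (algebraMap R S)).obj (C.X j)))
    (hex : ∀ j, 1 ≤ j → j ≤ e →
      (((MonoidalCategory.tensorLeft
          (ModuleCat.of S (S ⧸ (IsLocalRing.maximalIdeal R).map (algebraMap R S)))).mapHomologicalComplex
          (ComplexShape.down ℕ)).obj C).ExactAt j) :
    (∀ j, 1 ≤ j → j ≤ e → C.ExactAt j) ∧
      Module.Flat R ((ModuleCat.restrictScalars (algebraMap R S)).obj (C.homology 0)) := by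
  letI : ∀ j, Module R (C.X j) := fun j => Module.compHom (C.X j) (algebraMap R S)
  haveI : ∀ j, IsScalarTower R S (C.X j) := fun j => IsScalarTower.of_algebraMap_smul fun _ _ => rfl
  haveI : ∀ j, Module.Flat R (C.X j) := hflat
  haveI := hfin
  set J := (IsLocalRing.maximalIdeal R).map (algebraMap R S) with hJ
  have key : ∀ k, k < e → Function.Exact (C.d (k + 2) (k + 1)).hom (C.d (k + 1) k).hom ∧
      Module.Flat R (C.X k ⧸ LinearMap.range (C.d (k + 1) k).hom) := by
    intro k hk
    refine CAlgMisc2.exact_and_flat_of_exact_mod_max (C.d (k + 2) (k + 1)).hom (C.d (k + 1) k).hom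
      (fun a => by rw [← ModuleCat.comp_apply, C.d_comp_d]; rfl) fun x hx => ?_
    have h1 := hex (k + 1) (by omega) hk
    rw [HomologicalComplex.exactAt_iff' _ (k + 2) (k + 1) k (by simp) (by simp), ShortComplex.moduleCat_exact_iff] at h1
    have h0 : ((C.d (k + 1) k).hom).lTensor (S ⧸ J) ((1 : S ⧸ J) ⊗ₜ x) = 0 := by
      rw [LinearMap.lTensor_tmul]
      have : (C.d (k + 1) k).hom x ∈ LinearMap.ker (TensorProduct.mk S (S ⧸ J) (C.X k) 1) := by
        rw [LinearMap.ker_tensorProductMk]; exact hx
      exact this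
    obtain ⟨z, hz⟩ := h1 ((1 : S ⧸ J) ⊗ₜ[S] x) h0
    change ((C.d (k + 2) (k + 1)).hom).lTensor (S ⧸ J) z = (1 : S ⧸ J) ⊗ₜ[S] x at hz
    obtain ⟨a, ha⟩ := TensorProduct.mk_surjective S (C.X (k + 2)) (S ⧸ J) Ideal.Quotient.mk_surjective z
    rw [← ha, TensorProduct.mk_apply, LinearMap.lTensor_tmul] at hz
    have h2 : x - (C.d (k + 2) (k + 1)).hom a ∈ LinearMap.ker (TensorProduct.mk S (S ⧸ J) (C.X (k + 1)) 1) := by
      rw [LinearMap.mem_ker, TensorProduct.mk_apply, tmul_sub, hz, sub_self]
    rw [LinearMap.ker_tensorProductMk] at h2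
    rw [← add_sub_cancel ((C.d (k + 2) (k + 1)).hom a) x]
    exact Submodule.add_mem_sup ⟨a, rfl⟩ h2
  refine ⟨fun j hj hje => ?_, ?_⟩
  · obtain ⟨k, rfl⟩ : ∃ k, j = k + 1 := ⟨j - 1, by omega⟩
    rw [HomologicalComplex.exactAt_iff' _ (k + 2) (k + 1) k (by simp) (by simp), ShortComplex.moduleCat_exact_iff]
    exact fun x hx => ((key k hje).1 x).1 hx
  · have hQ : Module.Flat R (C.X 0 ⧸ LinearMap.range (C.d 1 0).hom) := by
      rcases Nat.eq_zero_or_pos e with he | he
      · haveI := ModuleCat.subsingleton_of_isZero (hzero 1 (by omega))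
        have : LinearMap.range (C.d 1 0).hom = ⊥ := by
          rw [eq_bot_iff]; rintro _ ⟨a, rfl⟩
          rw [Subsingleton.elim a 0, map_zero]; exact Submodule.zero_mem _
        exact Module.Flat.of_linearEquiv ((Submodule.quotEquivOfEqBot _ this).restrictScalars R)
      · exact (key 0 he).2
    let f : C.X 0 ⟶ ModuleCat.of S (C.X 0 ⧸ LinearMap.range (C.d 1 0).hom) := ModuleCat.ofHom (LinearMap.range (C.d 1 0).hom).mkQ
    let sc := ShortComplex.mk (C.d 1 0) (C.d 0 0) (C.d_comp_d 1 0 0)
    let e1 : C.homology 0 ≅ sc.homology := ShortComplex.homologyMapIso (C.isoSc' 1 0 0 (by simp) (by simp))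
    let e2 := e1 ≪≫ sc.moduleCatHomologyIso
    have hker : LinearMap.ker sc.g.hom = ⊤ := by
      rw [show sc.g = 0 from C.shape 0 0 (by simp)]
      exact LinearMap.ker_zero
    let e3 : sc.moduleCatLeftHomologyData.H ≃ₗ[S] (C.X 0 ⧸ LinearMap.range (C.d 1 0).hom) :=
      Submodule.Quotient.equiv _ _ (LinearEquiv.ofTop _ hker) (by
        ext y
        constructor
        · rintro ⟨⟨w, hw⟩, ⟨a, ha⟩, rfl⟩
          exact ⟨a, congrArg Subtype.val ha⟩
        · rintro ⟨a, rfl⟩
          exact ⟨⟨_, hker ▸ Submodule.mem_top⟩, ⟨a, rfl⟩, rfl⟩)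
    letI : Module R (C.homology 0) := Module.compHom (C.homology 0) (algebraMap R S)
    haveI : IsScalarTower R S (C.homology 0) := IsScalarTower.of_algebraMap_smul fun _ _ => rfl
    exact (Module.Flat.of_linearEquiv ((e2.toLinearEquiv ≪≫ₗ e3).restrictScalars R) :
      Module.Flat R (C.homology 0))

end Groth.Agent.S6387
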