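import Groth.Statements.S6395
import Groth.Agent.Stk19.FibSet

set_option autoImplicit false
open CategoryTheory
universe v u
open FibCat

namespace Groth.Agent.S6395
open Groth.Agent Groth.Agent.Stk19

/-- An equivalence `F : 𝒳 ⟶ 𝒴` in the 2-category of categories over `C` maps strongly cartesian
morphisms to strongly cartesian morphisms. -/
theorem result {C : Type u} [Category.{v} C] {𝒳 𝒴 : BasedCategory.{v, max u v} C} (F : 𝒳 ⥤ᵇ 𝒴) (hF : FibCat.IsEquivOver F)
    {R S : C} (f : R ⟶ S) {a b : 𝒳.obj} (φ : a ⟶ b) [𝒳.p.IsStronglyCartesian f φ] :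
    𝒴.p.IsStronglyCartesian f (F.map φ) := by
  obtain rfl := IsHomLift.domain_eq 𝒳.p f φ
  obtain rfl := IsHomLift.codomain_eq 𝒳.p f φ
  obtain rfl := (IsHomLift.eq_of_isHomLift 𝒳.p f φ)
  have h1 := sc_map hF φ inferInstance
  exact sc_of_sc_map 𝒴.p _ _ h1

end Groth.Agent.S6395
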