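import Groth.Statements.S6408
import Groth.Agent.Stk19.Setoid

set_option autoImplicit false
open CategoryTheory
universe v u
open FibCat

namespace Groth.Agent.S6408

/-- Between categories fibred in sets over `C` the only 2-morphisms over `C` are identities. -/
theorem result {C : Type u} [Category.{v} C] {𝒳 𝒴 : BasedCategory.{v, max u v} C} (h𝒳 : FibCat.IsFibSet 𝒳.p) (h𝒴 : FibCat.IsFibSet 𝒴.p) {F G : 𝒳 ⥤ᵇ 𝒴} (α : F ⟶ G) :
    ∃ h : F = G, α = eqToHom h := by
  exact Groth.Agent.Stk19.eq_of_natTrans_fibSet h𝒴 α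

end Groth.Agent.S6408
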