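import Groth.Statements.S6417
import Groth.Agent.Desc19.Cartesian

set_option autoImplicit false
open CategoryTheory CategoryTheory.Limits
universe v₁ u₁ v₂ u₂
open FibCat
open Groth.Agent.Desc19

namespace Groth.Agent.S6417

/-- For `p : 𝒮 ⥤ C`, a strongly cartesian `φ : x ⟶ y`, any `ψ : z ⟶ y`, and a strongly cartesian `a : w
⟶ z` lying over the second projection of `p x ×_{p y} p z`, the object `w` is a fibre product `x ×_y
z`: there is `b : w ⟶ x` over the first projection with `(b, a)` a pullback square. -/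
theorem result {𝒮 : Type u₁} [Category.{v₁} 𝒮] {C : Type u₂} [Category.{v₂} C] (p : 𝒮 ⥤ C) {x y z w : 𝒮} (φ : x ⟶ y) (ψ : z ⟶ y)
    [p.IsStronglyCartesian (p.map φ) φ] [HasPullback (p.map φ) (p.map ψ)] (a : w ⟶ z)
    [p.IsStronglyCartesian (pullback.snd (p.map φ) (p.map ψ)) a] :
    ∃ b : w ⟶ x, p.IsHomLift (pullback.fst (p.map φ) (p.map ψ)) b ∧ IsPullback b a φ ψ := by
  have hd := IsHomLift.domain_eq p (pullback.snd (p.map φ) (p.map ψ)) a
  have ha := IsHomLift.fac' p (pullback.snd (p.map φ) (p.map ψ)) a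
  simp at ha
  have := sc_map_of_sc p (pullback.snd (p.map φ) (p.map ψ)) a
  obtain ⟨b, ⟨hb1, hb2⟩, -⟩ := sc_spec p φ (a ≫ ψ) (eqToHom hd ≫ pullback.fst _ _) (by simp [pullback.condition, ha])
  refine ⟨b, IsHomLift.of_fac' p _ b hd rfl (by simpa using hb1), IsPullback.of_isLimit' ⟨hb2⟩ ?_⟩
  have key : ∀ s : PullbackCone φ ψ, ∃ m : s.pt ⟶ w, m ≫ b = s.fst ∧ m ≫ a = s.snd := by
    intro s
    have hc : p.map s.fst ≫ p.map φ = p.map s.snd ≫ p.map ψ := by rw [← p.map_comp, s.condition, p.map_comp]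
    have hl : (pullback.lift (p.map s.fst) (p.map s.snd) hc ≫ eqToHom hd.symm) ≫ p.map a = p.map s.snd := by
      rw [ha, Category.assoc, eqToHom_trans_assoc, eqToHom_refl, Category.id_comp, pullback.lift_snd]
    obtain ⟨m, ⟨hm1, hm2⟩, -⟩ := sc_spec p a s.snd _ hl
    refine ⟨m, sc_ext p φ ?_ ?_, hm2⟩
    · rw [p.map_comp, hm1, hb1, Category.assoc, eqToHom_trans_assoc, eqToHom_refl, Category.id_comp, pullback.lift_fst]
    · rw [Category.assoc, hb2, ← Category.assoc, hm2, s.condition]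
  refine PullbackCone.IsLimit.mk _ (fun s => (key s).choose) (fun s => (key s).choose_spec.1)
    (fun s => (key s).choose_spec.2) (fun s m h1 h2 => ?_)
  refine sc_ext p a ?_ (h2.trans (key s).choose_spec.2.symm)
  rw [← cancel_mono (eqToHom hd)]
  apply pullback.hom_ext
  · rw [Category.assoc, Category.assoc, ← hb1, ← p.map_comp, ← p.map_comp, h1, (key s).choose_spec.1]
  · rw [Category.assoc, Category.assoc, ← ha, ← p.map_comp, ← p.map_comp, h2, (key s).choose_spec.2]

end Groth.Agent.S6417
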