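import Groth.Statements.S6418
import Groth.Agent.Desc19.Cartesian

set_option autoImplicit false
open CategoryTheory
universe v₁ u₁ v₂ u₂
open FibCat
open Groth.Agent.Desc19

namespace Groth.Agent.S6418

/-- If `p' : 𝒮 ⥤ C/U` composed with the forgetful functor `C/U ⥤ C` is a fibred category, then so is
`p'`. -/
theorem result {𝒮 : Type u₁} [Category.{v₁} 𝒮] {C : Type u₂} [Category.{v₂} C] {U : C} (p' : 𝒮 ⥤ Over U) [(p' ⋙ Over.forget U).IsFibered] : p'.IsFibered := by
  refine isFibered_mk _ fun a R f => ?_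
  obtain ⟨b, φ, h1, h2⟩ := exists_sc_lift (p' ⋙ Over.forget U) a R.left f.left
  refine ⟨b, φ, ?_, sc_of_comp_faithful p' (Over.forget U) φ⟩
  have hd : (p'.obj b).left = R.left := @IsHomLift.domain_eq _ _ _ _ (p' ⋙ Over.forget U) _ _ _ _ f.left φ h1
  have hf : (p'.map φ).left = eqToHom hd ≫ f.left := by
    refine (@IsHomLift.fac' _ _ _ _ (p' ⋙ Over.forget U) _ _ _ _ f.left φ h1).trans ?_
    simp
  have hw := Over.w (p'.map φ)
  rw [hf, Category.assoc, Over.w f] at hw
  have e : p'.obj b = R := CostructuredArrow.obj_ext _ _ hd hw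
  refine IsHomLift.of_fac' p' f φ e rfl ?_
  apply Over.OverMorphism.ext
  simp [hf, Over.eqToHom_left]

end Groth.Agent.S6418
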