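import Mathlib.CategoryTheory.Limits.FunctorCategory.Basic
import Mathlib.CategoryTheory.Limits.Types.Limits
import Mathlib.CategoryTheory.Limits.Types.Colimits
import Mathlib.CategoryTheory.Limits.Shapes.BinaryProducts
import Mathlib

set_option autoImplicit false
namespace CategoryTheory
end CategoryTheory
namespace CategoryTheory.Limits
end CategoryTheory.Limits
open CategoryTheory CategoryTheory.Limits
universe v
namespace CatLim
end CatLim
open CatLim

namespace Groth.Agent.S6425

/-- Over an index category in which any two objects map to a common object, the comparison map `colim (M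
× N) → colim M × colim N` for diagrams of sets is surjective. -/
theorem result {I : Type v} [SmallCategory I]
    (hI : ∀ x y : I, ∃ (z : I) (_ : x ⟶ z) (_ : y ⟶ z), True) (M N : I ⥤ Type v) :
    Function.Surjective (prodComparison (colim : (I ⥤ Type v) ⥤ Type v) M N) := by
  intro p
  let F : (I ⥤ Type v) ⥤ Type v := colim
  obtain ⟨x, a, ha⟩ := Types.jointly_surjective_of_isColimit (colimit.isColimit M)
    ((prod.fst : F.obj M ⨯ F.obj N ⟶ F.obj M) p)
  obtain ⟨y, b, hb⟩ := Types.jointly_surjective_of_isColimit (colimit.isColimit N)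
    ((prod.snd : F.obj M ⨯ F.obj N ⟶ F.obj N) p)
  obtain ⟨z, f, g, -⟩ := hI x y
  let ev := (evaluation I (Type v)).obj z
  let e : ev.obj (M ⨯ N) ≅ ev.obj M ⨯ ev.obj N := asIso (prodComparison ev M N)
  let k : PUnit.{v + 1} ⟶ (M ⨯ N).obj z :=
    prod.lift (TypeCat.ofHom fun _ => M.map f a) (TypeCat.ofHom fun _ => N.map g b) ≫ e.inv
  refine ⟨colimit.ι (M ⨯ N) z (k PUnit.unit), ?_⟩
  have h1 : (prod.fst : M ⨯ N ⟶ M).app z (k PUnit.unit) = M.map f a := by
    have : k ≫ (prod.fst : M ⨯ N ⟶ M).app z = TypeCat.ofHom fun _ => M.map f a := by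
      have he : e.inv ≫ (prod.fst : M ⨯ N ⟶ M).app z = prod.fst :=
        (Iso.inv_comp_eq e).2 (prodComparison_fst ev (A := M) (B := N)).symm
      simp only [k, Category.assoc, he]
      exact prod.lift_fst _ _
    exact ConcreteCategory.congr_hom this PUnit.unit
  have h2 : (prod.snd : M ⨯ N ⟶ N).app z (k PUnit.unit) = N.map g b := by
    have : k ≫ (prod.snd : M ⨯ N ⟶ N).app z = TypeCat.ofHom fun _ => N.map g b := by
      have he : e.inv ≫ (prod.snd : M ⨯ N ⟶ N).app z = prod.snd :=
        (Iso.inv_comp_eq e).2 (prodComparison_snd ev (A := M) (B := N)).symm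
      simp only [k, Category.assoc, he]
      exact prod.lift_snd _ _
    exact ConcreteCategory.congr_hom this PUnit.unit
  refine Types.limit_ext _ _ _ ?_
  rintro ⟨_ | _⟩
  · change ((prodComparison F M N ≫ prod.fst) : F.obj (M ⨯ N) ⟶ F.obj M) _ = prod.fst (X := F.obj M) p
    rw [prodComparison_fst, ← ha]
    have := ConcreteCategory.congr_hom (ι_colimMap (prod.fst : M ⨯ N ⟶ M) z) (k PUnit.unit)
    refine this.trans ?_
    change colimit.ι M z ((prod.fst : M ⨯ N ⟶ M).app z (k PUnit.unit)) = colimit.ι M x a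
    rw [h1]
    exact ConcreteCategory.congr_hom (colimit.w M f) a
  · change ((prodComparison F M N ≫ prod.snd) : F.obj (M ⨯ N) ⟶ F.obj N) _ = prod.snd (Y := F.obj N) p
    rw [prodComparison_snd, ← hb]
    have := ConcreteCategory.congr_hom (ι_colimMap (prod.snd : M ⨯ N ⟶ N) z) (k PUnit.unit)
    refine this.trans ?_
    change colimit.ι N z ((prod.snd : M ⨯ N ⟶ N).app z (k PUnit.unit)) = colimit.ι N y b
    rw [h2]
    exact ConcreteCategory.congr_hom (colimit.w N g) b

end Groth.Agent.S6425
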