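import Mathlib.Algebra.Category.Grp.Colimits
import Mathlib.CategoryTheory.Limits.Types.Colimits
import Mathlib

set_option autoImplicit false
namespace CategoryTheory
end CategoryTheory
namespace CategoryTheory.Limits
end CategoryTheory.Limits
open CategoryTheory CategoryTheory.Limits
universe v
namespace CatLim
end CatLim
open CatLim

namespace Groth.Agent.S6426

/-- Over a nonempty index category in which any two objects map to a common object, the set-theoretic
colimit of a diagram of abelian groups surjects onto its colimit in abelian groups. (The published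
statement does not require the index category to be nonempty; this row assumes it, because for the
empty index category the colimit of sets is empty while the colimit of abelian groups is the zero
group.) -/
theorem result {I : Type v} [SmallCategory I] [Nonempty I]
    (hI : ∀ x y : I, ∃ (z : I) (_ : x ⟶ z) (_ : y ⟶ z), True) (M : I ⥤ AddCommGrpCat.{v}) :
    Function.Surjective (colimit.post M (forget AddCommGrpCat.{v})) := by
  let G := forget AddCommGrpCat.{v}
  have hι : ∀ (i : I) (a : M.obj i), colimit.post M G (colimit.ι (M ⋙ G) i a) = colimit.ι M i a :=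
    fun i a => ConcreteCategory.congr_hom (colimit.ι_post M G i) a
  have hmem : ∀ y, y ∈ Set.range (colimit.post M G) ↔ ∃ (i : I) (a : M.obj i), colimit.ι M i a = y := by
    refine fun y => ⟨?_, fun ⟨i, a, h⟩ => ⟨_, (hι i a).trans h⟩⟩
    rintro ⟨x, rfl⟩
    obtain ⟨i, a, rfl⟩ := Types.jointly_surjective_of_isColimit (colimit.isColimit (M ⋙ G)) x
    exact ⟨i, a, (hι i a).symm⟩
  let H : AddSubgroup (colimit M : AddCommGrpCat.{v}) :=
    { carrier := {y | ∃ (i : I) (a : M.obj i), colimit.ι M i a = y}
      zero_mem' := ⟨Classical.arbitrary I, 0, map_zero _⟩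
      add_mem' := by
        rintro _ _ ⟨i, a, rfl⟩ ⟨j, b, rfl⟩
        obtain ⟨k, f, g, -⟩ := hI i j
        refine ⟨k, M.map f a + M.map g b, ?_⟩
        rw [map_add, ← ConcreteCategory.comp_apply, ← ConcreteCategory.comp_apply,
          colimit.w, colimit.w]
      neg_mem' := by
        rintro _ ⟨i, a, rfl⟩
        exact ⟨i, -a, map_neg _ _⟩ }
  let π : colimit M ⟶ AddCommGrpCat.of ((colimit M : AddCommGrpCat.{v}) ⧸ H) :=
    AddCommGrpCat.ofHom (QuotientAddGroup.mk' H)
  have hπ : π = 0 := colimit.hom_ext fun i => by
    ext a
    exact (QuotientAddGroup.eq_zero_iff _).2 ⟨i, a, rfl⟩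
  intro y
  exact (hmem y).2 ((QuotientAddGroup.eq_zero_iff (N := H) y).1 (ConcreteCategory.congr_hom hπ y))

end Groth.Agent.S6426
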