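import Mathlib.CategoryTheory.Limits.Types.Colimits
import Mathlib.CategoryTheory.Limits.HasLimits
import Mathlib

set_option autoImplicit false
namespace CategoryTheory
end CategoryTheory
namespace CategoryTheory.Limits
end CategoryTheory.Limits
open CategoryTheory CategoryTheory.Limits
universe v
namespace CatLim
end CatLim
open CatLim

namespace Groth.Agent.S6427

/-- Over an index category in which every pair of morphisms with common source can be completed to a
commutative square, colimits of sets preserve injective morphisms of diagrams. -/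
theorem result {I : Type v} [SmallCategory I]
    (hI : ∀ ⦃x y z : I⦄ (f : x ⟶ y) (g : x ⟶ z), ∃ (w : I) (f' : y ⟶ w) (g' : z ⟶ w), f ≫ f' = g ≫ g')
    {M N : I ⥤ Type v} (φ : M ⟶ N) (hφ : ∀ i, Function.Injective (φ.app i)) :
    Function.Injective (colimMap φ) := by
  have hN : ∀ (i j : I) (a : N.obj i) (b : N.obj j), colimit.ι N i a = colimit.ι N j b →
      ∃ (w : I) (f : i ⟶ w) (g : j ⟶ w), N.map f a = N.map g b := by
    intro i j a b h
    let R' : (Σ i, N.obj i) → (Σ i, N.obj i) → Prop := fun p q =>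
      ∃ (w : I) (f : p.1 ⟶ w) (g : q.1 ⟶ w), N.map f p.2 = N.map g q.2
    have hR' : Equivalence R' := by
      refine ⟨fun p => ⟨p.1, 𝟙 _, 𝟙 _, rfl⟩, fun ⟨w, f, g, h⟩ => ⟨w, g, f, h.symm⟩, ?_⟩
      rintro p q r ⟨w, f, g, h⟩ ⟨w', f', g', h'⟩
      obtain ⟨z, a, b, hab⟩ := hI g f'
      refine ⟨z, f ≫ a, g' ≫ b, ?_⟩
      rw [Functor.map_comp, Functor.map_comp, ConcreteCategory.comp_apply,
        ConcreteCategory.comp_apply, h, ← h', ← ConcreteCategory.comp_apply,
        ← ConcreteCategory.comp_apply, ← Functor.map_comp, ← Functor.map_comp, hab]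
    have h' := Types.colimit_eq h
    refine hR'.eqvGen_iff.1 (Relation.EqvGen.mono (r := N.ColimitTypeRel) (p := R') (fun p q hpq => ?_) _ _ h')
    obtain ⟨f, hf⟩ := hpq
    exact ⟨q.1, f, 𝟙 _, by rw [CategoryTheory.Functor.map_id]; exact hf.symm⟩
  intro x y h
  obtain ⟨i, a, rfl⟩ := Types.jointly_surjective_of_isColimit (colimit.isColimit M) x
  obtain ⟨j, b, rfl⟩ := Types.jointly_surjective_of_isColimit (colimit.isColimit M) y
  change colimMap φ (colimit.ι M i a) = colimMap φ (colimit.ι M j b) at h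
  rw [← ConcreteCategory.comp_apply, ← ConcreteCategory.comp_apply, ι_colimMap, ι_colimMap] at h
  obtain ⟨w, f, g, hfg⟩ := hN i j (φ.app i a) (φ.app j b) h
  rw [← NatTrans.naturality_apply φ, ← NatTrans.naturality_apply φ] at hfg
  have h2 := congrArg (colimit.ι M w) (hφ w hfg)
  rw [← ConcreteCategory.comp_apply, ← ConcreteCategory.comp_apply, colimit.w, colimit.w] at h2
  exact h2

end Groth.Agent.S6427
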