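import Mathlib.CategoryTheory.Limits.HasLimits
import Mathlib.CategoryTheory.FiberedCategory.Fiber
import Mathlib.CategoryTheory.IsConnected
import Mathlib.CategoryTheory.Limits.HasLimits
import Mathlib.CategoryTheory.FiberedCategory.Fiber

set_option autoImplicit false
namespace CategoryTheory
end CategoryTheory
namespace CategoryTheory.Limits
end CategoryTheory.Limits
open CategoryTheory CategoryTheory.Limits
universe v₁ u₁ v₂ u₂ v₃ u₃
namespace CatLim
end CatLim
open CatLim

namespace Groth.Agent.S6428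

/-- If `F : I ⥤ I'` has connected fibre categories and is surjective on morphisms, then for every
diagram `M : I' ⥤ C` the colimit of `F ⋙ M` exists if and only if that of `M` does, and the
canonical comparison between them is then an isomorphism. -/
theorem result {I : Type u₁} [Category.{v₁} I] {I' : Type u₂} [Category.{v₂} I'] {C : Type u₃} [Category.{v₃} C] (F : I ⥤ I')
    (h1 : ∀ x' : I', IsConnected (F.Fiber x'))
    (h2 : ∀ ⦃x' y' : I'⦄ (α' : x' ⟶ y'), ∃ (x y : I) (hx : F.obj x = x') (hy : F.obj y = y') (α : x ⟶ y), F.map α = eqToHom hx ≫ α' ≫ eqToHom hy.symm)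
    (M : I' ⥤ C) :
    (HasColimit (F ⋙ M) ↔ HasColimit M) ∧ ∀ [HasColimit (F ⋙ M)] [HasColimit M], IsIso (colimit.pre M F) := by
  have hconst : ∀ (s : Cocone (F ⋙ M)) (x' : I') (p q : F.Fiber x'),
      M.map (eqToHom p.2.symm) ≫ s.ι.app p.1 = M.map (eqToHom q.2.symm) ≫ s.ι.app q.1 := by
    intro s x' p q
    have := h1 x'
    refine constant_of_preserves_morphisms (J := F.Fiber x')
      (fun r => (M.map (eqToHom r.2.symm) ≫ s.ι.app r.1 : M.obj x' ⟶ s.pt)) ?_ p q
    intro a b φ
    have hφ : φ.1 ≫ 𝟙 _ = φ.1 := Category.comp_id _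
    have := φ.2
    have hm := IsHomLift.fac' F (𝟙 x') φ.1
    simp only [Category.id_comp, eqToHom_trans] at hm
    rw [← s.w φ.1]
    simp [Functor.comp_map, hm, eqToHom_map]
  classical
  choose x₀ hx₀ using fun x' => (show ∃ x : I, F.obj x = x' from by
    have := h1 x'
    obtain ⟨p⟩ := (inferInstance : Nonempty (F.Fiber x'))
    exact ⟨p.1, p.2⟩)
  let ext : Cocone (F ⋙ M) → Cocone M := fun s =>
    { pt := s.pt
      ι :=
        { app := fun x' => M.map (eqToHom (hx₀ x').symm) ≫ s.ι.app (x₀ x')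
          naturality := fun x' y' α' => by
            obtain ⟨x, y, hx, hy, α, hα⟩ := h2 α'
            have e₁ := hconst s x' ⟨x₀ x', hx₀ x'⟩ ⟨x, hx⟩
            have e₂ := hconst s y' ⟨x₀ y', hx₀ y'⟩ ⟨y, hy⟩
            dsimp at e₁ e₂ ⊢
            rw [Category.comp_id, e₁, e₂, ← s.w α]
            simp [hα, eqToHom_map] } }
  have hext : ∀ (s : Cocone (F ⋙ M)) (x : I), (ext s).ι.app (F.obj x) = s.ι.app x := by
    intro s x
    simpa [ext] using hconst s (F.obj x) ⟨x₀ _, hx₀ _⟩ ⟨x, rfl⟩
  have huniq : ∀ {P : C} (c : Cocone M) (m m' : c.pt ⟶ P), (∀ x, c.ι.app (F.obj x) ≫ m = c.ι.app (F.obj x) ≫ m') → ∀ x', c.ι.app x' ≫ m = c.ι.app x' ≫ m' :=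
    fun c m m' h x' => by rw [← hx₀ x']; exact h _
  have key : ∀ c : Cocone M, IsColimit c → Nonempty (IsColimit (c.whisker F)) := fun c hc =>
    ⟨{ desc := fun s => hc.desc (ext s)
       fac := fun s x => (hc.fac (ext s) (F.obj x)).trans (hext s x)
       uniq := fun s m hm => hc.hom_ext (huniq c m _ fun x => (hm x).trans
         ((hc.fac (ext s) (F.obj x)).trans (hext s x)).symm) }⟩
  refine ⟨⟨fun h => ?_, fun h => ⟨⟨⟨_, (key _ (colimit.isColimit M)).some⟩⟩⟩⟩, ?_⟩
  · let c := colimit.cocone (F ⋙ M)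
    have hc := colimit.isColimit (F ⋙ M)
    refine ⟨⟨⟨ext c, ?_⟩⟩⟩
    exact
      { desc := fun s => hc.desc (s.whisker F)
        fac := fun s x' => by
          have := hc.fac (s.whisker F) (x₀ x')
          simp only [ext, c] at this ⊢
          rw [Category.assoc]
          refine (congrArg _ this).trans ?_
          dsimp
          rw [← Cocone.w s (eqToHom (hx₀ x').symm)]
        uniq := fun s m hm => hc.hom_ext fun x => by
          rw [hc.fac]
          rw [← hext c x]
          exact hm (F.obj x) }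
  · intro _ _
    obtain ⟨hk⟩ := key _ (colimit.isColimit M)
    have : colimit.pre M F = (colimit.isColimit (F ⋙ M)).desc ((colimit.cocone M).whisker F) := rfl
    rw [this]
    have : (colimit.isColimit (F ⋙ M)).desc ((colimit.cocone M).whisker F) = (IsColimit.coconePointUniqueUpToIso (colimit.isColimit (F ⋙ M)) hk).hom := rfl
    rw [this]
    exact Iso.isIso_hom _

end Groth.Agent.S6428
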