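import Groth.Statements.S6429
import Mathlib
import Groth.Prelude

set_option linter.all false

set_option autoImplicit false
open CategoryTheory CategoryTheory.MonoidalCategory
universe v u
open MonCat

open CategoryTheory MonoidalCategory

namespace Groth.Agent.S6429

/-- An object `X` of a monoidal category is invertible (some `X'` has `X ⊗ X' ≅ 𝟙` and `X' ⊗ X ≅ 𝟙`) if
and only if tensoring on the left by `X` is an equivalence, if and only if tensoring on the right by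
`X` is an equivalence. -/
theorem result {C : Type u} [Category.{v} C] [MonoidalCategory C] (X : C) :
    ((tensorLeft X).IsEquivalence ↔ ∃ X' : C, Nonempty (X ⊗ X' ≅ 𝟙_ C) ∧ Nonempty (X' ⊗ X ≅ 𝟙_ C)) ∧
      ((tensorRight X).IsEquivalence ↔ ∃ X' : C, Nonempty (X ⊗ X' ≅ 𝟙_ C) ∧ Nonempty (X' ⊗ X ≅ 𝟙_ C)) := by
  refine ⟨⟨fun h => ?_, ?_⟩, ⟨fun h => ?_, ?_⟩⟩
  · let X' := (tensorLeft X).objPreimage (𝟙_ C)
    let e : X ⊗ X' ≅ 𝟙_ C := (tensorLeft X).objObjPreimageIso (𝟙_ C)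
    exact ⟨X', ⟨e⟩, ⟨(tensorLeft X).preimageIso ((α_ X X' X).symm ≪≫ whiskerRightIso e X ≪≫ λ_ X ≪≫ (ρ_ X).symm)⟩⟩
  · rintro ⟨X', ⟨e₁⟩, ⟨e₂⟩⟩
    exact (CategoryTheory.Equivalence.mk (tensorLeft X) (tensorLeft X')
      ((leftUnitorNatIso C).symm ≪≫ (curriedTensor C).mapIso e₂.symm ≪≫ tensorLeftTensor X' X)
      ((tensorLeftTensor X X').symm ≪≫ (curriedTensor C).mapIso e₁ ≪≫ leftUnitorNatIso C)).isEquivalence_functor
  · let X' := (tensorRight X).objPreimage (𝟙_ C)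
    let e : X' ⊗ X ≅ 𝟙_ C := (tensorRight X).objObjPreimageIso (𝟙_ C)
    exact ⟨X', ⟨(tensorRight X).preimageIso (α_ X X' X ≪≫ whiskerLeftIso X e ≪≫ ρ_ X ≪≫ (λ_ X).symm)⟩, ⟨e⟩⟩
  · rintro ⟨X', ⟨e₁⟩, ⟨e₂⟩⟩
    exact (CategoryTheory.Equivalence.mk (tensorRight X) (tensorRight X')
      ((rightUnitorNatIso C).symm ≪≫ (curriedTensor C).flip.mapIso e₁.symm ≪≫ tensorRightTensor X X')
      ((tensorRightTensor X' X).symm ≪≫ (curriedTensor C).flip.mapIso e₂ ≪≫ rightUnitorNatIso C)).isEquivalence_functor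

end Groth.Agent.S6429
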