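import Mathlib.CategoryTheory.Localization.CalculusOfFractions
import Mathlib.CategoryTheory.Limits.Preserves.Finite
import Mathlib.Data.Finite.Defs
import Mathlib

set_option autoImplicit false
open CategoryTheory
universe v u v' u'
namespace CatLoc
end CatLoc
open CatLoc

namespace Groth.Agent.S6433

/-- For a left multiplicative system `W` and a localization functor `L`, any finite family of morphisms
`L X_i ⟶ L Y` admits a common denominator: some `s : Y ⟶ Y'` in `W` and morphisms `f_i : X_i ⟶ Y'`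
with `g_i = L(s)⁻¹ L(f_i)`. -/
theorem result {C : Type u} [Category.{v} C] {D : Type u'} [Category.{v'} D] (W : MorphismProperty C) (L : C ⥤ D) [L.IsLocalization W] [W.HasLeftCalculusOfFractions]
    {ι : Type} [Finite ι] (X : ι → C) (Y : C) (g : ∀ i, L.obj (X i) ⟶ L.obj Y) :
    ∃ (Y' : C) (s : Y ⟶ Y') (_ : W s) (f : ∀ i, X i ⟶ Y'), ∀ i, g i ≫ L.map s = L.map (f i) := by
  classical
  have := Fintype.ofFinite ι
  choose φ hφ using fun i => Localization.exists_leftFraction L W (g i)
  have key : ∀ t : Finset ι, ∃ (Y' : C) (s : Y ⟶ Y') (_ : W s),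
      ∀ i ∈ t, ∃ w : (φ i).Y' ⟶ Y', (φ i).s ≫ w = s := by
    intro t
    induction t using Finset.induction with
    | empty => exact ⟨Y, 𝟙 Y, W.id_mem Y, fun i hi => absurd hi (Finset.notMem_empty i)⟩
    | insert a t _ ih =>
      obtain ⟨Y', s, hs, hw⟩ := ih
      obtain ⟨ψ, hψ⟩ := (MorphismProperty.RightFraction.mk s hs (φ a).s).exists_leftFraction
      dsimp at hψ
      refine ⟨ψ.Y', (φ a).s ≫ ψ.s, W.comp_mem _ _ (φ a).hs ψ.hs, fun i hi => ?_⟩
      rcases Finset.mem_insert.1 hi with rfl | hi'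
      · exact ⟨ψ.s, rfl⟩
      · obtain ⟨w, hw'⟩ := hw i hi'
        exact ⟨w ≫ ψ.f, by rw [reassoc_of% hw', hψ]⟩
  obtain ⟨Y', s, hs, hw⟩ := key Finset.univ
  choose w hw' using fun i => hw i (Finset.mem_univ i)
  refine ⟨Y', s, hs, fun i => (φ i).f ≫ w i, fun i => ?_⟩
  rw [← hw' i, L.map_comp, L.map_comp, hφ i, MorphismProperty.LeftFraction.map_comp_map_s_assoc]

end Groth.Agent.S6433
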