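import Mathlib.CategoryTheory.Localization.CalculusOfFractions
import Mathlib.CategoryTheory.Limits.Preserves.Finite
import Mathlib.Data.Finite.Defs
import Groth.Agent.CatLoc.Colim

set_option autoImplicit false
namespace CategoryTheory
end CategoryTheory
open CategoryTheory
universe v u v' u'
namespace CatLoc
end CatLoc
open CatLoc

namespace Groth.Agent.S6434

/-- The localization functor at a left multiplicative system commutes with finite colimits. -/
theorem result {C : Type u} [Category.{v} C] {D : Type u'} [Category.{v'} D] (W : MorphismProperty C) (L : C ⥤ D) [L.IsLocalization W] [W.HasLeftCalculusOfFractions] :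
    Limits.PreservesFiniteColimits L := by
  exact Groth.Agent.CatLoc.preservesFiniteColimits W L

end Groth.Agent.S6434
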