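import Mathlib.Data.Fintype.Sigma
import Mathlib.Data.Fintype.Prod
import Mathlib.CategoryTheory.Limits.FunctorCategory.Basic
import Mathlib.CategoryTheory.Limits.Types.Limits
import Mathlib.CategoryTheory.Limits.Types.Colimits
import Mathlib.CategoryTheory.FinCategory.Basic
import Mathlib.CategoryTheory.IsConnected
import Mathlib.CategoryTheory.Limits.Types.Colimits
import Mathlib.CategoryTheory.Limits.Types.Limits
import Mathlib.CategoryTheory.Limits.FunctorCategory.Basic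
import Mathlib.CategoryTheory.IsConnected
import Mathlib.CategoryTheory.FinCategory.Basic

set_option autoImplicit false
namespace CategoryTheory
end CategoryTheory
namespace CategoryTheory.Limits
end CategoryTheory.Limits
open CategoryTheory CategoryTheory.Limits
universe v
namespace CatLim
end CatLim
open CatLim

namespace Groth.Agent.S6437

variable {I : Type v} [SmallCategory I]

/-- spans can be completed -/
abbrev Spans (I : Type v) [SmallCategory I] : Prop :=
  ∀ ⦃w x y : I⦄ (a : w ⟶ x) (b : w ⟶ y), ∃ (z : I) (c : x ⟶ z) (d : y ⟶ z), a ≫ c = b ≫ d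

/-- parallel pairs can be coequalized -/
abbrev Coeq (I : Type v) [SmallCategory I] : Prop :=
  ∀ ⦃x y : I⦄ (a b : x ⟶ y), ∃ (z : I) (c : y ⟶ z), a ≫ c = b ≫ c

lemma colim_eq_iff (h1 : Spans I) (G : I ⥤ Type v) {i i' : I} (x : G.obj i) (x' : G.obj i') :
    colimit.ι G i x = colimit.ι G i' x' ↔
      ∃ (k : I) (f : i ⟶ k) (g : i' ⟶ k), G.map f x = G.map g x' := by
  constructor
  · intro h
    let r : (Σ j, G.obj j) → (Σ j, G.obj j) → Prop := fun p q =>
      ∃ (k : I) (f : p.1 ⟶ k) (g : q.1 ⟶ k), G.map f p.2 = G.map g q.2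
    have hr : _root_.Equivalence r := by
      refine ⟨fun p => ⟨p.1, 𝟙 _, 𝟙 _, rfl⟩, ?_, ?_⟩
      · rintro p q ⟨k, f, g, e⟩; exact ⟨k, g, f, e.symm⟩
      · rintro p q t ⟨k, f, g, e⟩ ⟨k', f', g', e'⟩
        obtain ⟨z, c, d, hcd⟩ := h1 g f'
        refine ⟨z, f ≫ c, g' ≫ d, ?_⟩
        rw [Functor.map_comp_apply, e, ← Functor.map_comp_apply, hcd, Functor.map_comp_apply, e',
          ← Functor.map_comp_apply]
    have h' := Types.colimit_eq h
    have : ∀ p q : Σ j, G.obj j, Relation.EqvGen G.ColimitTypeRel p q → r p q := by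
      intro p q hpq
      induction hpq with
      | rel p q h => obtain ⟨f, hf⟩ := h; exact ⟨q.1, f, 𝟙 _, by simpa using hf.symm⟩
      | refl p => exact hr.refl p
      | symm _ _ _ ih => exact hr.symm ih
      | trans _ _ _ _ _ a b => exact hr.trans a b
    exact this _ _ h'
  · rintro ⟨k, f, g, e⟩
    rw [← Types.Colimit.w_apply (F := G) f, ← Types.Colimit.w_apply (F := G) g, e]

lemma exists_common (h1 : Spans I) {i : I} {α : Type*} [Finite α] (k : α → I)
    (f : ∀ a, i ⟶ k a) : ∃ (K : I) (A : i ⟶ K), ∀ a, ∃ c : k a ⟶ K, f a ≫ c = A := by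
  classical
  haveI := Fintype.ofFinite α
  suffices ∀ s : Finset α, ∃ (K : I) (A : i ⟶ K), ∀ a ∈ s, ∃ c : k a ⟶ K, f a ≫ c = A by
    obtain ⟨K, A, h⟩ := this Finset.univ
    exact ⟨K, A, fun a => h a (Finset.mem_univ a)⟩
  intro s
  induction s using Finset.induction_on with
  | empty => exact ⟨i, 𝟙 i, by simp⟩
  | @insert a s ha ih =>
    obtain ⟨K, A, hK⟩ := ih
    obtain ⟨z, c, d, hcd⟩ := h1 A (f a)
    refine ⟨z, A ≫ c, fun b hb => ?_⟩
    rcases Finset.mem_insert.1 hb with rfl | hb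
    · exact ⟨d, hcd.symm⟩
    · obtain ⟨e, he⟩ := hK b hb
      exact ⟨e ≫ c, by rw [← he, Category.assoc]⟩

/-- Over an index category in which spans can be completed to commutative squares and parallel pairs can
be coequalized (a disjoint union of filtered categories), colimits of sets commute with finite
connected limits. -/
theorem result {I : Type v} [SmallCategory I]
    (h1 : ∀ ⦃w x y : I⦄ (a : w ⟶ x) (b : w ⟶ y), ∃ (z : I) (c : x ⟶ z) (d : y ⟶ z), a ≫ c = b ≫ d)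
    (h2 : ∀ ⦃x y : I⦄ (a b : x ⟶ y), ∃ (z : I) (c : y ⟶ z), a ≫ c = b ≫ c)
    (J : Type) [SmallCategory J] [FinCategory J] [IsConnected J] :
    PreservesLimitsOfShape J (colim : (I ⥤ Type v) ⥤ Type v) := by
  classical
  refine ⟨fun {F} => ⟨fun {c} hc => (Types.isLimit_iff _).2 ?_⟩⟩
  intro s hs
  have hcI : ∀ i, IsLimit (((evaluation I (Type v)).obj i).mapCone c) :=
    fun i => isLimitOfPreserves _ hc
  have hrep : ∀ j, ∃ (i : I) (x : (F.obj j).obj i), colimit.ι (F.obj j) i x = s j := fun j =>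
    Types.jointly_surjective' (F := F.obj j) (s j)
  choose i x hx using hrep
  have hnat : ∀ {j j' : J} (u : j ⟶ j') (k : I) (y : (F.obj j).obj k),
      colim.map (F.map u) (colimit.ι (F.obj j) k y) = colimit.ι (F.obj j') k ((F.map u).app k y) :=
    fun u k y => congr($(colimit.ι_map (F.map u) k) y)
  have hedge : ∀ {j j' : J} (u : j ⟶ j'), ∃ (k : I) (f : i j ⟶ k) (g : i j' ⟶ k),
      (F.obj j').map f ((F.map u).app _ (x j)) = (F.obj j').map g (x j') := fun {j j'} u => by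
    refine (colim_eq_iff h1 _ _ _).1 ?_
    rw [← hnat, hx, hx]
    exact hs u
  obtain ⟨j₀⟩ := (inferInstance : Nonempty J)
  have hconn : ∀ j, ∃ k, Nonempty (i j₀ ⟶ k) ∧ Nonempty (i j ⟶ k) := by
    refine induct_on_objects {j | ∃ k, Nonempty (i j₀ ⟶ k) ∧ Nonempty (i j ⟶ k)}
      ⟨i j₀, ⟨𝟙 _⟩, ⟨𝟙 _⟩⟩ (fun {a b} u => ?_)
    obtain ⟨k, f, g, -⟩ := hedge u
    constructor
    · rintro ⟨k', ⟨p⟩, ⟨q⟩⟩
      obtain ⟨z, c, d, -⟩ := h1 q f
      exact ⟨z, ⟨p ≫ c⟩, ⟨g ≫ d⟩⟩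
    · rintro ⟨k', ⟨p⟩, ⟨q⟩⟩
      obtain ⟨z, c, d, -⟩ := h1 q g
      exact ⟨z, ⟨p ≫ c⟩, ⟨f ≫ d⟩⟩
  choose k hk hk' using hconn
  obtain ⟨K, A, hA⟩ := exists_common h1 k (fun j => (hk j).some)
  choose cK hcK using hA
  let y : ∀ j, (F.obj j).obj K := fun j => (F.obj j).map ((hk' j).some ≫ cK j) (x j)
  have hy : ∀ j, colimit.ι (F.obj j) K (y j) = s j := fun j => by
    rw [← hx j]; exact Types.Colimit.w_apply (F := F.obj j) _
  have hedge' : ∀ p : (Σ j j' : J, j ⟶ j'), ∃ (L : I) (t : K ⟶ L),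
      (F.obj p.2.1).map t ((F.map p.2.2).app K (y p.1)) = (F.obj p.2.1).map t (y p.2.1) := by
    rintro ⟨j, j', u⟩
    obtain ⟨k, f, g, e⟩ := (colim_eq_iff h1 (F.obj j') ((F.map u).app K (y j)) (y j')).1
      (by rw [← hnat, hy, hy]; exact hs u)
    obtain ⟨z, c, hc⟩ := h2 f g
    refine ⟨z, f ≫ c, ?_⟩
    conv_rhs => rw [hc]
    rw [Functor.map_comp_apply, e, ← Functor.map_comp_apply]
  choose L t ht using hedge'
  obtain ⟨M, T, hT⟩ := exists_common h1 L t
  let w : ∀ j, (F.obj j).obj M := fun j => (F.obj j).map T (y j)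
  have hw : ∀ {j j' : J} (u : j ⟶ j'), (F.map u).app M (w j) = w j' := fun {j j'} u => by
    obtain ⟨c, hc'⟩ := hT ⟨j, j', u⟩
    show (F.map u).app M ((F.obj j).map T (y j)) = (F.obj j').map T (y j')
    rw [NatTrans.naturality_apply, ← hc', Functor.map_comp_apply, ht ⟨j, j', u⟩,
      ← Functor.map_comp_apply]
  obtain ⟨X, hX, -⟩ := (Types.isLimit_iff _).1 ⟨hcI M⟩ w (fun u => hw u)
  refine ⟨colimit.ι c.pt M X, fun j => ?_, ?_⟩
  · refine (congr($(colimit.ι_map (c.π.app j) M) X)).trans ?_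
    show colimit.ι (F.obj j) M ((c.π.app j).app M X) = s j
    have : (c.π.app j).app M X = w j := hX j
    rw [this, ← hy j]
    exact Types.Colimit.w_apply (F := F.obj j) _
  · intro Y hY
    obtain ⟨i', X', rfl⟩ := Types.jointly_surjective' (F := c.pt) Y
    have he : ∀ j, ∃ (k : I) (a : i' ⟶ k) (b : M ⟶ k),
        (F.obj j).map a ((c.π.app j).app i' X') = (F.obj j).map b (w j) := fun j => by
      refine (colim_eq_iff h1 _ _ _).1 ?_
      refine ((congr($(colimit.ι_map (c.π.app j) i') X')).symm.trans (hY j)).trans ?_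
      rw [← hy j]
      exact (Types.Colimit.w_apply (F := F.obj j) _).symm
    choose k₁ a b hab using he
    obtain ⟨K₁, A₁, hA₁⟩ := exists_common h1 k₁ a
    choose c₁ hc₁ using hA₁
    have hpar : ∀ j, ∃ (L : I) (t : K₁ ⟶ L), (b j ≫ c₁ j) ≫ t = (b j₀ ≫ c₁ j₀) ≫ t := fun j =>
      h2 _ _
    choose L₁ t₁ ht₁ using hpar
    obtain ⟨M₁, T₁, hT₁⟩ := exists_common h1 L₁ t₁
    refine (colim_eq_iff h1 c.pt X' X).2 ⟨M₁, A₁ ≫ T₁, (b j₀ ≫ c₁ j₀) ≫ T₁, ?_⟩
    refine (Types.isLimitEquivSections (hcI M₁)).injective (Subtype.ext (funext fun j => ?_))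
    show (c.π.app j).app M₁ (c.pt.map _ X') = (c.π.app j).app M₁ (c.pt.map _ X)
    refine (congr($((c.π.app j).naturality _) X')).trans
      (Eq.trans ?_ (congr($((c.π.app j).naturality _) X)).symm)
    show (F.obj j).map _ ((c.π.app j).app i' X') = (F.obj j).map _ ((c.π.app j).app M X)
    obtain ⟨c₂, hc₂⟩ := hT₁ j
    have e : A₁ ≫ T₁ = a j ≫ (c₁ j ≫ t₁ j ≫ c₂) := by
      rw [← hc₁ j, ← hc₂]; simp only [Category.assoc]
    have e' : (b j₀ ≫ c₁ j₀) ≫ T₁ = b j ≫ (c₁ j ≫ t₁ j ≫ c₂) := by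
      rw [← hc₂, ← Category.assoc _ (t₁ j), ← ht₁ j]; simp only [Category.assoc]
    have hXj : (c.π.app j).app M X = w j := hX j
    rw [e, e', hXj]; simp only [Functor.map_comp_apply, hab j]

end Groth.Agent.S6437
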