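import Mathlib.CategoryTheory.Limits.Final
import Mathlib.CategoryTheory.FinCategory.Basic
import Mathlib.Data.Fintype.Sum
import Mathlib.Data.Fintype.Option
import Mathlib.Data.Fintype.EquivFin
import Mathlib.CategoryTheory.MorphismProperty.Composition
import Mathlib.CategoryTheory.FinCategory.Basic
import Mathlib.Data.Fintype.Sum
import Mathlib.Data.Fintype.Option
import Mathlib.Data.Fintype.EquivFin
import Mathlib.CategoryTheory.Limits.Final
import Mathlib.CategoryTheory.Limits.IsConnected
import Mathlib.CategoryTheory.MorphismProperty.Composition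

set_option autoImplicit false
namespace CategoryTheory
end CategoryTheory
open CategoryTheory
universe v u
namespace CatLim
end CatLim
open CatLim

namespace Groth.Agent.S6438

universe w
/-- Codes of arrows of the two level category. -/
def Valid {n m : ℕ} (s t : Fin m → Fin n) : Option (Fin n ⊕ Fin m) → (Fin n ⊕ Fin n) → (Fin n ⊕ Fin n) → Prop
  | none, a, b => a = b
  | some (.inl x), a, b => a = .inl x ∧ b = .inr x
  | some (.inr k), a, b => a = .inl (s k) ∧ b = .inr (t k)

/-- The two level category on a finite graph. -/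
structure TwoLevel {n m : ℕ} (s t : Fin m → Fin n) where
  pt : Fin n ⊕ Fin n

instance {n m : ℕ} (s t : Fin m → Fin n) : SmallCategory (TwoLevel s t) where
  Hom a b := {c : Option (Fin n ⊕ Fin m) // Valid s t c a.pt b.pt}
  id a := ⟨none, rfl⟩
  comp {a b c} f g := ⟨f.1.orElse fun _ => g.1, by
    obtain ⟨f | (x | k), hf⟩ := f <;> obtain ⟨g | (y | l), hg⟩ := g <;>
      simp only [Valid, Option.orElse_none, Option.orElse_some] at hf hg ⊢ <;> aesop⟩
  id_comp f := rfl
  comp_id f := Subtype.ext (by obtain ⟨f | x, hf⟩ := f <;> rfl)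
  assoc f g h := Subtype.ext (by obtain ⟨f | x, hf⟩ := f <;> rfl)

instance {n m : ℕ} (s t : Fin m → Fin n) : Fintype (TwoLevel s t) :=
  Fintype.ofEquiv (Fin n ⊕ Fin n) ⟨TwoLevel.mk, TwoLevel.pt, fun _ => rfl, fun _ => rfl⟩

noncomputable instance {n m : ℕ} (s t : Fin m → Fin n) : FinCategory (TwoLevel s t) where
  fintypeObj := inferInstance
  fintypeHom a b := @Fintype.ofFinite _ (inferInstanceAs (Finite {c : Option (Fin n ⊕ Fin m) // Valid s t c a.pt b.pt}))

variable {I : Type u} [Category.{v} I] {n m : ℕ} {s t : Fin m → Fin n} (o : Fin n → I) (a : ∀ k, o (s k) ⟶ o (t k))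

/-- The underlying object. -/
def obT (j : TwoLevel s t) : I := o (j.pt.elim id id)

/-- The functor on arrows. -/
def mapT : ∀ {j j' : TwoLevel s t}, (j ⟶ j') → (obT o j ⟶ obT o j')
  | j, j', ⟨none, h⟩ => eqToHom (congrArg (fun q => o (Sum.elim id id q)) h)
  | j, j', ⟨some (.inl x), h⟩ => eqToHom (by obtain ⟨h₁, h₂⟩ := h; simp [obT, h₁, h₂])
  | j, j', ⟨some (.inr k), h⟩ => eqToHom (by simp [obT, h.1]) ≫ a k ≫ eqToHom (by simp [obT, h.2])

/-- The functor to the given category. -/
def F : TwoLevel s t ⥤ I where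
  obj := obT o
  map f := mapT o a f
  map_id j := rfl
  map_comp {j j' j''} f g := by
    obtain ⟨p₁⟩ := j
    obtain ⟨p₂⟩ := j'
    obtain ⟨p₃⟩ := j''
    obtain ⟨f | (x | k), hf⟩ := f
    · obtain rfl : p₁ = p₂ := hf
      exact (Category.id_comp _).symm
    all_goals
      obtain ⟨g | (y | l), hg⟩ := g
      · obtain rfl : p₂ = p₃ := hg
        exact (Category.comp_id _).symm
      all_goals
        have h₁ := hf.2.symm.trans hg.1
        simp at h₁

variable (ho : Function.Bijective o)
  (hgen : ∀ P : MorphismProperty I, P.IsMultiplicative → (∀ k, P (a k)) → P = ⊤)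

include ho hgen in
theorem final : (F o a).Final := by
  refine ⟨fun i => ?_⟩
  let vert : ∀ (x : Fin n), (⟨.inl x⟩ : TwoLevel s t) ⟶ ⟨.inr x⟩ := fun x => ⟨some (.inl x), rfl, rfl⟩
  let edge : ∀ k, (⟨.inl (s k)⟩ : TwoLevel s t) ⟶ ⟨.inr (t k)⟩ := fun k => ⟨some (.inr k), rfl, rfl⟩
  let hi : ∀ (x : Fin n), (i ⟶ o x) → StructuredArrow i (F o a) := fun x g => StructuredArrow.mk (Y := (⟨.inr x⟩ : TwoLevel s t)) g
  let lo : ∀ (x : Fin n), (i ⟶ o x) → StructuredArrow i (F o a) := fun x g => StructuredArrow.mk (Y := (⟨.inl x⟩ : TwoLevel s t)) g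
  have hlo : ∀ x g, Zigzag (lo x g) (hi x g) := fun x g =>
    Zigzag.of_hom (StructuredArrow.homMk (vert x) (by change g ≫ mapT o a (vert x) = g; exact Category.comp_id g))
  let P : MorphismProperty I := fun p q f => ∀ x y (hp : p = o x) (hq : q = o y) (g : i ⟶ o x),
    Zigzag (hi x g) (hi y (g ≫ eqToHom hp.symm ≫ f ≫ eqToHom hq))
  have hP : P = ⊤ := by
    refine hgen P { id_mem := fun p => ?_, comp_mem := fun {p q r} f f' h h' => ?_ } fun k x y hp hq g => ?_
    · intro x y hp hq g
      obtain rfl := ho.1 (hp.symm.trans hq)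
      simp
      exact Relation.ReflTransGen.refl
    · intro x z hp hr g
      obtain ⟨y, hy⟩ := ho.2 q
      refine (h x y hp hy.symm g).trans ?_
      have := h' y z hy.symm hr (g ≫ eqToHom hp.symm ≫ f ≫ eqToHom hy.symm)
      simpa using this
    · obtain rfl := ho.1 hp
      obtain rfl := ho.1 hq
      refine (hlo _ g).symm.trans (Zigzag.of_hom (StructuredArrow.homMk (edge k) ?_))
      change g ≫ mapT o a (edge k) = _
      rfl
  obtain ⟨x₀, hx₀⟩ := ho.2 i
  haveI : Nonempty (StructuredArrow i (F o a)) := ⟨hi x₀ (eqToHom hx₀.symm)⟩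
  refine zigzag_isConnected fun p q => ?_
  suffices H : ∀ p : StructuredArrow i (F o a), Zigzag (hi x₀ (eqToHom hx₀.symm)) p from (H p).symm.trans (H q)
  intro p
  obtain ⟨⟨⟨⟩⟩, ⟨x | x⟩, g⟩ := p
  all_goals change i ⟶ o x at g
  · have := (by rw [hP]; trivial : P g) x₀ x hx₀.symm rfl (eqToHom hx₀.symm)
    have h2 := this.trans (hlo x _).symm
    simp [lo] at h2 ⊢
    exact h2
  · have := (by rw [hP]; trivial : P g) x₀ x hx₀.symm rfl (eqToHom hx₀.symm)
    simp [hi] at this ⊢
    exact this

include ho hgen in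
theorem initial : (F o a).Initial := by
  refine ⟨fun i => ?_⟩
  let vert : ∀ (x : Fin n), (⟨.inl x⟩ : TwoLevel s t) ⟶ ⟨.inr x⟩ := fun x => ⟨some (.inl x), rfl, rfl⟩
  let edge : ∀ k, (⟨.inl (s k)⟩ : TwoLevel s t) ⟶ ⟨.inr (t k)⟩ := fun k => ⟨some (.inr k), rfl, rfl⟩
  let hi : ∀ (x : Fin n), (o x ⟶ i) → CostructuredArrow (F o a) i := fun x g => CostructuredArrow.mk (Y := (⟨.inr x⟩ : TwoLevel s t)) g
  let lo : ∀ (x : Fin n), (o x ⟶ i) → CostructuredArrow (F o a) i := fun x g => CostructuredArrow.mk (Y := (⟨.inl x⟩ : TwoLevel s t)) g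
  have hlo : ∀ x g, Zigzag (lo x g) (hi x g) := fun x g =>
    Zigzag.of_hom (CostructuredArrow.homMk (vert x) (by change mapT o a (vert x) ≫ g = g; exact Category.id_comp g))
  let P : MorphismProperty I := fun p q f => ∀ x y (hp : p = o x) (hq : q = o y) (g : o y ⟶ i),
    Zigzag (lo x (eqToHom hp.symm ≫ f ≫ eqToHom hq ≫ g)) (lo y g)
  have hP : P = ⊤ := by
    refine hgen P { id_mem := fun p => ?_, comp_mem := fun {p q r} f f' h h' => ?_ } fun k x y hp hq g => ?_
    · intro x y hp hq g
      obtain rfl := ho.1 (hp.symm.trans hq)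
      simp
      exact Relation.ReflTransGen.refl
    · intro x z hp hr g
      obtain ⟨y, hy⟩ := ho.2 q
      have := h x y hp hy.symm (eqToHom hy ≫ f' ≫ eqToHom hr ≫ g)
      refine Zigzag.trans ?_ (h' y z hy.symm hr g)
      simpa using this
    · obtain rfl := ho.1 hp
      obtain rfl := ho.1 hq
      refine Zigzag.trans (Zigzag.of_hom (CostructuredArrow.homMk (f' := hi (t k) g) (edge k) ?_)) (hlo _ g).symm
      change mapT o a (edge k) ≫ g = _
      simp [mapT, edge, lo]
      erw [eqToHom_refl, eqToHom_refl, Category.id_comp, Category.id_comp]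
  obtain ⟨x₀, hx₀⟩ := ho.2 i
  haveI : Nonempty (CostructuredArrow (F o a) i) := ⟨lo x₀ (eqToHom hx₀)⟩
  refine zigzag_isConnected fun p q => ?_
  suffices H : ∀ p : CostructuredArrow (F o a) i, Zigzag p (lo x₀ (eqToHom hx₀)) from (H p).trans (H q).symm
  intro p
  obtain ⟨⟨x | x⟩, ⟨⟨⟩⟩, g⟩ := p
  all_goals change o x ⟶ i at g
  · have := (by rw [hP]; trivial : P g) x x₀ rfl hx₀.symm (eqToHom hx₀)
    simp [lo] at this ⊢
    exact this
  · have := (by rw [hP]; trivial : P g) x x₀ rfl hx₀.symm (eqToHom hx₀)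
    refine Zigzag.trans ?_ this
    have h3 := (hlo x g).symm
    simp [hi, lo] at h3 ⊢
    exact h3

/-- A category with finitely many objects whose morphisms are generated under composition by finitely
many of them receives a functor from a finite category which is both final and initial, the finite
category being connected (resp. nonempty) exactly when the given one is. (The published statement
says that limits and colimits of every diagram are computed after restriction along the functor;
this is expressed here through finality and initiality.) -/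
theorem result {I : Type u} [Category.{v} I] [Finite I]
    (gen : Finset (Σ x y : I, x ⟶ y))
    (hgen : ∀ P : MorphismProperty I, P.IsMultiplicative → (∀ a ∈ gen, P a.2.2) → P = ⊤) :
    ∃ (J : Type) (_ : SmallCategory J) (_ : FinCategory J) (F : J ⥤ I),
      F.Final ∧ F.Initial ∧ (IsConnected J ↔ IsConnected I) ∧ (Nonempty J ↔ Nonempty I) := by
  obtain ⟨n, ⟨e⟩⟩ := Finite.exists_equiv_fin I
  obtain ⟨m, ⟨g⟩⟩ := Finite.exists_equiv_fin gen
  let s : Fin m → Fin n := fun k => e (g.symm k).1.1
  let t : Fin m → Fin n := fun k => e (g.symm k).1.2.1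
  let a : ∀ k, e.symm (s k) ⟶ e.symm (t k) := fun k =>
    eqToHom (e.symm_apply_apply _) ≫ (g.symm k).1.2.2 ≫ eqToHom (e.symm_apply_apply _).symm
  have ha : ∀ P : MorphismProperty I, P.IsMultiplicative → (∀ k, P (a k)) → P = ⊤ := fun P hP h =>
    hgen P hP fun q hq => by
      have key : ∀ {x x' y y' : I} (f : x ⟶ y) (hx : x' = x) (hy : y = y'),
          P (eqToHom hx ≫ f ≫ eqToHom hy) → P f := by
        intro x x' y y' f hx hy
        subst hx hy
        simp
      obtain ⟨k, hk⟩ := g.symm.surjective ⟨q, hq⟩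
      have := key _ _ _ (h k)
      rwa [hk] at this
  haveI := final (fun x => e.symm x) a e.symm.bijective ha
  refine ⟨TwoLevel s t, inferInstance, inferInstance, F (fun x => e.symm x) a, inferInstance,
    initial (fun x => e.symm x) a e.symm.bijective ha, Functor.isConnected_iff_of_final (F (fun x => e.symm x) a), ?_⟩
  exact ⟨fun ⟨j⟩ => ⟨(F (fun x => e.symm x) a).obj j⟩, fun ⟨i⟩ => ⟨⟨.inl (e i)⟩⟩⟩

end Groth.Agent.S6438
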