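import Mathlib.CategoryTheory.Localization.CalculusOfFractions
import Mathlib.Data.Finite.Defs
import Mathlib

set_option autoImplicit false
namespace CategoryTheory
end CategoryTheory
open CategoryTheory
universe v u v' u'
namespace CatLoc
end CatLoc
open CatLoc

namespace Groth.Agent.S6444

/-- For a left multiplicative system, a commutative square in the localization between the images of two
morphisms `f, f'` of `C` lifts to a commutative diagram `X → X'' ← X'`, `Y → Y'' ← Y'` in `C` over a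
third morphism `f''`, the backward arrows lying in `W`. -/
theorem result {C : Type u} [Category.{v} C] {D : Type u'} [Category.{v'} D] (W : MorphismProperty C) (L : C ⥤ D) [L.IsLocalization W] [W.HasLeftCalculusOfFractions]
    {X Y X' Y' : C} (f : X ⟶ Y) (f' : X' ⟶ Y') (a : L.obj X ⟶ L.obj X') (b : L.obj Y ⟶ L.obj Y') (w : L.map f ≫ b = a ≫ L.map f') :
    ∃ (X'' Y'' : C) (f'' : X'' ⟶ Y'') (g : X ⟶ X'') (h : Y ⟶ Y'') (s : X' ⟶ X'') (t : Y' ⟶ Y''),
      W s ∧ W t ∧ f ≫ h = g ≫ f'' ∧ f' ≫ t = s ≫ f'' ∧ L.map g = a ≫ L.map s ∧ L.map h = b ≫ L.map t := by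
  obtain ⟨φ, rfl⟩ := Localization.exists_leftFraction L W a
  obtain ⟨ψ, rfl⟩ := Localization.exists_leftFraction L W b
  obtain ⟨χ, hχ⟩ := (MorphismProperty.RightFraction.mk φ.s φ.hs (f' ≫ ψ.s)).exists_leftFraction
  dsimp at hχ
  have heq : L.map (f ≫ ψ.f ≫ χ.s) = L.map (φ.f ≫ χ.f) := by
    rw [L.map_comp, L.map_comp, ← ψ.map_comp_map_s L (Localization.inverts L W), Category.assoc,
      reassoc_of% w, ← L.map_comp, ← L.map_comp, ← Category.assoc f' ψ.s χ.s, hχ, L.map_comp,
      MorphismProperty.LeftFraction.map_comp_map_s_assoc, L.map_comp]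
  obtain ⟨Z, v, hv, hv'⟩ := (MorphismProperty.map_eq_iff_postcomp L W _ _).1 heq
  refine ⟨φ.Y', Z, χ.f ≫ v, φ.f, ψ.f ≫ χ.s ≫ v, φ.s, ψ.s ≫ χ.s ≫ v, φ.hs,
    W.comp_mem _ _ ψ.hs (W.comp_mem _ _ χ.hs hv), ?_, ?_, ?_, ?_⟩
  · simpa only [Category.assoc] using hv'
  · rw [← Category.assoc, ← Category.assoc, hχ, Category.assoc]
  · exact (φ.map_comp_map_s L (Localization.inverts L W)).symm
  · rw [L.map_comp, L.map_comp ψ.s, MorphismProperty.LeftFraction.map_comp_map_s_assoc]

end Groth.Agent.S6444
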