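import Groth.Prelude.Def_W4stkcategoriessitesEss
import Mathlib.CategoryTheory.Limits.Types.Colimits
import Mathlib.CategoryTheory.Yoneda
import Mathlib.CategoryTheory.Filtered.Basic
import Mathlib.CategoryTheory.Limits.Types.Filtered
import Mathlib.CategoryTheory.Yoneda

set_option autoImplicit false
namespace CategoryTheory
end CategoryTheory
namespace CategoryTheory.Limits
end CategoryTheory.Limits
namespace Opposite
end Opposite
open CategoryTheory CategoryTheory.Limits Opposite
universe v u
namespace CatLim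
end CatLim
open CatLim

namespace Groth.Agent.S6446

/-- (2) ⇒ (1): over a filtered index category, a diagram `M` with a cocone `(X, M_i → X)` inducing
bijections `colim_i Mor(W, M_i) → Mor(W, X)` for all `W` is essentially constant as an ind-object
with value `X`. -/
theorem result {I : Type v} [SmallCategory I] [IsFiltered I] {C : Type u} [Category.{v} C]
    (M : I ⥤ C) (c : Cocone M)
    (h : ∀ W : C, Function.Bijective (colimit.desc (M ⋙ coyoneda.obj (op W)) ((coyoneda.obj (op W)).mapCocone c))) :
    CatLim.IsEssConstInd M c := by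
  have surj : ∀ (W : C) (g : W ⟶ c.pt), ∃ (i : I) (t : W ⟶ M.obj i), t ≫ c.ι.app i = g := fun W g => by
    obtain ⟨z, hz⟩ := (h W).2 g
    obtain ⟨i, t, rfl⟩ := Types.jointly_surjective' z
    refine ⟨i, t, ?_⟩
    rw [← hz]
    exact (ConcreteCategory.congr_hom (colimit.ι_desc ((coyoneda.obj (op W)).mapCocone c) i) t).symm
  obtain ⟨i, s, hs⟩ := surj c.pt (𝟙 _)
  refine ⟨i, s, hs, fun j => ?_⟩
  have hinj : colimit.ι (M ⋙ coyoneda.obj (op (M.obj j))) j (𝟙 _) =
      colimit.ι (M ⋙ coyoneda.obj (op (M.obj j))) i (c.ι.app j ≫ s) := by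
    refine (h (M.obj j)).1 ?_
    refine (ConcreteCategory.congr_hom (colimit.ι_desc ((coyoneda.obj (op (M.obj j))).mapCocone c) j) _).trans ((ConcreteCategory.congr_hom (colimit.ι_desc ((coyoneda.obj (op (M.obj j))).mapCocone c) i) _).trans ?_).symm
    show (c.ι.app j ≫ s) ≫ c.ι.app i = 𝟙 _ ≫ c.ι.app j
    exact (Category.assoc _ _ _).trans ((congrArg _ hs).trans ((Category.comp_id _).trans (Category.id_comp _).symm))
  obtain ⟨k, b, a, hab⟩ := (Types.FilteredColimit.colimit_eq_iff _).1 hinj
  refine ⟨k, a, b, ?_⟩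
  change 𝟙 _ ≫ M.map b = (c.ι.app j ≫ s) ≫ M.map a at hab
  rw [Category.id_comp, Category.assoc] at hab
  exact hab

end Groth.Agent.S6446
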