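import Groth.Statements.S6447

set_option backward.isDefEq.respectTransparency false
set_option backward.defeqAttrib.useBackward true
set_option backward.isDefEq.respectTransparency.types false

set_option autoImplicit false
open CategoryTheory CategoryTheory.Limits
universe v u
open FibCat

namespace Groth.Agent.S6447

/-- For a 2-fibre product `U = X ×_Y V` of categories, the square formed by `U ⟶ X`, the diagonals `U ⟶
U ×_V U`, `X ⟶ X ×_Y X` and the induced functor `U ×_V U ⟶ X ×_Y X` is 2-cartesian. (The filling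
2-isomorphism is the one whose two components at every object are identities; it exists and is
unique with that property.) -/
theorem result {X Y V : Type u} [Category.{v} X] [Category.{v} Y] [Category.{v} V] (p : X ⥤ Y) (q : V ⥤ Y) :
    ∃ e, (∀ u, (e.hom.app u).fst = 𝟙 _ ∧ (e.hom.app u).snd = 𝟙 _) ∧ FibCat.IsTwoCart
      (CategoricalPullback.π₁ p q)
      ((CategoricalPullback.CatCommSqOver.toFunctorToCategoricalPullback (CategoricalPullback.π₂ p q) (CategoricalPullback.π₂ p q) (CategoricalPullback p q)).obj ⟨𝟭 _, 𝟭 _, Iso.refl _⟩)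
      ((CategoricalPullback.CatCommSqOver.toFunctorToCategoricalPullback p p X).obj ⟨𝟭 _, 𝟭 _, Iso.refl _⟩)
      (FibCat.categoricalPullbackMap (⟨CategoricalPullback.π₁ p q, q, CategoricalPullback.π₁ p q, ⟨(CatCommSq.iso (CategoricalPullback.π₁ p q) (CategoricalPullback.π₂ p q) p q).symm⟩, ⟨(CatCommSq.iso (CategoricalPullback.π₁ p q) (CategoricalPullback.π₂ p q) p q).symm⟩⟩ : CatCospanTransform (CategoricalPullback.π₂ p q) (CategoricalPullback.π₂ p q) p p))
      e := by
  refine ⟨NatIso.ofComponents (fun u => CategoricalPullback.mkIso (Iso.refl _) (Iso.refl _) (by simp [FibCat.categoricalPullbackMap]))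
    (fun {u u'} m => ?_), fun u => ⟨rfl, rfl⟩, ?_⟩
  · ext <;> simp [FibCat.categoricalPullbackMap]
  refine Functor.IsEquivalence.mk (faithful := ⟨fun {u u'} m m' h => ?_⟩) (full := ⟨fun {u u'} m => ?_⟩)
    (essSurj := ⟨fun o => ?_⟩)
  · exact congrArg (fun z => z.snd.fst) h
  · have h₁ := congrArg (fun z => z.fst) m.w
    have h₂ := congrArg (fun z => z.snd) m.w
    have h₃ := m.snd.w
    simp [FibCat.categoricalPullbackMap] at h₁ h₂ h₃
    refine ⟨m.snd.fst, ?_⟩
    ext <;> simp [h₁, h₂, h₃] <;> simp_all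
  · let γ₁ := (CategoricalPullback.π₁ p p).mapIso o.iso
    let γ₂ := (CategoricalPullback.π₂ p p).mapIso o.iso
    have hγ := o.iso.hom.w
    simp [FibCat.categoricalPullbackMap] at hγ
    have key : p.map γ₂.hom ≫ o.snd.snd.iso.hom = p.map γ₁.hom ≫ o.snd.fst.iso.hom ≫ q.map o.snd.iso.hom := by
      rw [← cancel_mono (o.snd.snd.iso.inv)]
      simp only [γ₁, γ₂, Functor.mapIso_hom, CategoricalPullback.π₁_map, CategoricalPullback.π₂_map, Category.assoc, Iso.hom_inv_id, Category.comp_id]
      exact hγ.symm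
    let δ : o.snd.fst ≅ o.snd.snd := CategoricalPullback.mkIso (γ₁.symm ≪≫ γ₂) o.snd.iso (by
      show p.map (γ₁.inv ≫ γ₂.hom) ≫ _ = _
      rw [Functor.map_comp, Category.assoc, key, Iso.map_inv_hom_id_assoc])
    refine ⟨o.snd.fst, ⟨CategoricalPullback.mkIso γ₁.symm (CategoricalPullback.mkIso (Iso.refl _) δ (by simp [δ])) ?_⟩⟩
    ext <;> simp [γ₁, γ₂, δ, FibCat.categoricalPullbackMap] <;>
      exact congrArg (fun z => z.fst) o.iso.inv_hom_id

end Groth.Agent.S6447
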