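import Mathlib.CategoryTheory.ConnectedComponents
import Mathlib.CategoryTheory.Filtered.Basic
import Mathlib

set_option autoImplicit false
namespace CategoryTheory
end CategoryTheory
open CategoryTheory
universe v u
namespace CatLim
end CatLim
open CatLim

namespace Groth.Agent.S6448

/-- In a category where spans complete to commutative squares and parallel pairs are coequalized by a
later arrow, every connected component is filtered (so the category is a disjoint union of filtered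
categories). -/
theorem result {I : Type u} [Category.{v} I]
    (h1 : ∀ ⦃w x y : I⦄ (a : w ⟶ x) (b : w ⟶ y), ∃ (z : I) (c : x ⟶ z) (d : y ⟶ z), a ≫ c = b ≫ d)
    (h2 : ∀ ⦃x y : I⦄ (a b : x ⟶ y), ∃ (z : I) (c : y ⟶ z), a ≫ c = b ≫ c)
    (j : ConnectedComponents I) : IsFiltered j.Component := by
  have hz : ∀ {x y : I}, Zigzag x y → ∃ z : I, Nonempty (x ⟶ z) ∧ Nonempty (y ⟶ z) := by
    intro x y hxy
    induction hxy with
    | refl => exact ⟨x, ⟨𝟙 x⟩, ⟨𝟙 x⟩⟩
    | tail _ hbc ih =>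
      obtain ⟨z, ⟨p⟩, ⟨q⟩⟩ := ih
      rcases hbc with ⟨⟨r⟩⟩ | ⟨⟨r⟩⟩
      · obtain ⟨w, a, b, _⟩ := h1 q r
        exact ⟨w, ⟨p ≫ a⟩, ⟨b⟩⟩
      · exact ⟨z, ⟨p⟩, ⟨r ≫ q⟩⟩
  have mem : ∀ (X : j.Component) {z : I} (_ : X.1 ⟶ z), Quotient.mk'' z = j :=
    fun X z a => (Quotient.sound (Zigzag.of_inv a)).trans X.2
  refine { cocone_objs := fun X Y => ?_, cocone_maps := fun X Y a b => ?_, nonempty := ?_ }
  · obtain ⟨z, ⟨p⟩, ⟨q⟩⟩ := hz (Quotient.exact (X.2.trans Y.2.symm))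
    exact ⟨⟨z, mem X p⟩, ObjectProperty.homMk p, ObjectProperty.homMk q, trivial⟩
  · obtain ⟨z, c, hc⟩ := h2 a.hom b.hom
    exact ⟨⟨z, mem Y c⟩, ObjectProperty.homMk c, by ext; exact hc⟩
  · exact inferInstance

end Groth.Agent.S6448
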