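import Groth.Statements.S6471
import Groth.Agent.S6470
import Groth.Agent.CycLib28.InterPull

set_option autoImplicit false
universe u
open CategoryTheory CategoryTheory.Limits AlgebraicGeometry
attribute [local instance] HasDerivedCategory.standard
open IntMult

namespace Groth.Agent.S6471

/-- For a flat morphism f : X → Y between nonsingular varieties, with e = dim X − dim Y (every fibre
component has dimension e), and coherent O_Y-modules F, G whose supports have dimension at most r
and s and meet in dimension at most r + s − dim Y, the cycles of the pulled-back modules,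
[f^*F]_{r+e} and [f^*G]_{s+e}, meet properly, and pulling back the product [F]_r · [G]_s along f
gives their product: f^*([F]_r · [G]_s) = [f^*F]_{r+e} · [f^*G]_{s+e}, coefficientwise (f^* on
cycles is Cyc.pullFun with relative dimension e, f^* on modules is Mathlib's
Scheme.Modules.pullback). Here X is a nonsingular variety over the algebraically closed field K
(smooth, separated, quasi-compact, integral) with dimension function δ (transcendence degree over K,
recorded by Cyc.DeltaCompat to Spec K with value 0, together with Cyc.IsSetup) and n = dim X = δ of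
the generic point; cycles are coefficient functions X → ℤ, proper intersection is
IntMult.IntersectProperly and α · β is the Tor-formula intersection product on coefficient functions
(IntMult.interProd). The same holds for Y with δY and m = dim Y. -/
theorem result (K : Type u) [Field K] [IsAlgClosed K] (X Y : Scheme.{u}) (f : X ⟶ Y) (gX : X ⟶ Spec (CommRingCat.of K)) (gY : Y ⟶ Spec (CommRingCat.of K)) (hf : f ≫ gY = gX) [Smooth gX] [IsSeparated gX] [QuasiCompact gX] [IsIntegral X] [Smooth gY] [IsSeparated gY] [QuasiCompact gY] [IsIntegral Y] [Flat f] (δX : X → ℤ) (δY : Y → ℤ) (hX : Cyc.IsSetup X δX) (hY : Cyc.IsSetup Y δY) (hδX : Cyc.DeltaCompat gX δX (fun _ => 0)) (hδY : Cyc.DeltaCompat gY δY (fun _ => 0)) (hδ : Cyc.DeltaCompat f δX δY) (n m : ℤ) (hn : δX (genericPoint X) = n) (hm : δY (genericPoint Y) = m) (e : ℕ) (he : (e : ℤ) = n - m) (hrel : Cyc.HasRelDim f e) (F G : Y.Modules) (hF : Coh.IsCoh F) (hG : Coh.IsCoh G) (r s : ℤ) (hr : ∀ y : Y, Nontrivial (F.presheaf.stalk y) → δY y ≤ r) (hs : ∀ y : Y, Nontrivial (G.presheaf.stalk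 y) → δY y ≤ s) (hrs : ∀ y : Y, Nontrivial (F.presheaf.stalk y) → Nontrivial (G.presheaf.stalk y) → δY y ≤ r + s - m) : IntMult.IntersectProperly δX n (Cyc.sheafFun δX (r + e) ((Scheme.Modules.pullback f).obj F)) (Cyc.sheafFun δX (s + e) ((Scheme.Modules.pullback f).obj G)) ∧ Cyc.pullFun f δX δY e (IntMult.interProd δY m (Cyc.sheafFun δY r F) (Cyc.sheafFun δY s G)) = IntMult.interProd δX n (Cyc.sheafFun δX (r + e) ((Scheme.Modules.pullback f).obj F)) (Cyc.sheafFun δX (s + e) ((Scheme.Modules.pullback f).obj G)) := by
  haveI := hX.1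
  haveI := hY.1
  haveI : LocallyOfFiniteType f := by
    haveI : LocallyOfFiniteType (f ≫ gY) := by rw [hf]; infer_instance
    exact locallyOfFiniteType_of_comp f gY
  have hc : ∀ x, Groth.Agent.CycLim28.GenInFibre f x → δX x = δY (f x) + (e : ℤ) :=
    fun x => Groth.Agent.CycLib28.delta_of_hasRelDim f hrel hδ x
  have hpF := (Groth.Agent.CycLib28.pullFun_sheafFun f hX.2.2 (e : ℤ) hc r F hr).1
  have hpG := (Groth.Agent.CycLib28.pullFun_sheafFun f hX.2.2 (e : ℤ) hc s G hs).1
  have hpFG : ∀ x : X, Nontrivial (((Scheme.Modules.pullback f).obj F).presheaf.stalk x) →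
      Nontrivial (((Scheme.Modules.pullback f).obj G).presheaf.stalk x) → δX x ≤ r + e + (s + e) - n := fun x h1 h2 => by
    have := hrs _ (Groth.Agent.CycLib28.InterSheaf.nontrivial_of_pullback f F x h1)
      (Groth.Agent.CycLib28.InterSheaf.nontrivial_of_pullback f G x h2)
    have := Groth.Agent.CycLib28.InterSheaf.delta_le_of_fibre f hX.2.2 (e : ℤ) hc x
    omega
  obtain ⟨hp, hXi⟩ := Groth.Agent.S6470.result K X gX δX hX hδX n hn _ _
    (Groth.Agent.CycLib28.InterSheaf.isCoh_pullback f hF) (Groth.Agent.CycLib28.InterSheaf.isCoh_pullback f hG)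
    (r + e) (s + e) hpF hpG hpFG
  obtain ⟨-, hYi⟩ := Groth.Agent.S6470.result K Y gY δY hY hδY m hm F G hF hG r s hr hs hrs
  refine ⟨hp, funext fun x => ?_⟩
  rw [Groth.Agent.CycLib28.pullFun_eq f δX δY (e : ℤ) hc, hYi, hXi]
  by_cases hx : δX x = r + e + (s + e) - n
  · rw [if_pos hx, Groth.Agent.CycLib28.InterSheaf.chi_pullback f F G hG x]
    split_ifs with hy
    · rfl
    · suffices h : IntMult.chi ↑(Y.presheaf.stalk (f x)) ↑(F.presheaf.stalk (f x)) ↑(G.presheaf.stalk (f x)) = 0 by rw [h]
      haveI := Groth.Agent.CycLib28.isRegularLocalRing_stalk gY (f x)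
      haveI := Groth.Agent.AssSch12.finite_stalk hF (f x)
      haveI := Groth.Agent.AssSch12.finite_stalk hG (f x)
      rcases subsingleton_or_nontrivial (F.presheaf.stalk (f x)) with h1 | h1
      · rw [Groth.Agent.CycLib28.chi_comm]
        exact Groth.Agent.CycLib28.InterSheaf.chi_of_subsingleton _ _
      rcases subsingleton_or_nontrivial (G.presheaf.stalk (f x)) with h2 | h2
      · exact Groth.Agent.CycLib28.InterSheaf.chi_of_subsingleton _ _
      have := hrs _ h1 h2
      have := Groth.Agent.CycLib28.InterSheaf.delta_le_of_fibre f hX.2.2 (e : ℤ) hc x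
      omega
  · rw [if_neg hx]
    split_ifs with hy
    · by_cases hg : Groth.Agent.CycLim28.GenInFibre f x
      · have := hc x hg
        omega
      · rw [Groth.Agent.CycLib28.lenFibre_eq_top f hg, ENat.toNat_top, Nat.cast_zero, mul_zero]
    · rw [zero_mul]
end Groth.Agent.S6471
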