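import Groth.Statements.S6451
import Groth.Agent.S6471
import Groth.Agent.CycLib28.PointSheaf
import Groth.Agent.CycLim28.Surj
import Groth.Agent.CycLim28.Main

set_option autoImplicit false
universe u
open CategoryTheory CategoryTheory.Limits AlgebraicGeometry
attribute [local instance] HasDerivedCategory.standard
open IntMult

namespace Groth.Agent.S6451

/-- For a flat morphism f : X → Y between nonsingular varieties, with e = dim X − dim Y (every fibre
component has dimension e), and for cycles α ∈ Z_r(Y) and β ∈ Z_s(Y) meeting properly, the flat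
pullbacks f^*α and f^*β again meet properly and pulling back commutes with the product: f^*(α · β) =
f^*α · f^*β, coefficientwise (flat pullback is Cyc.pullFun with relative dimension e). Here X is a
nonsingular variety over the algebraically closed field K (smooth, separated, quasi-compact,
integral) with dimension function δ (transcendence degree over K, recorded by Cyc.DeltaCompat to
Spec K with value 0, together with Cyc.IsSetup) and n = dim X = δ of the generic point; cycles are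
Mathlib AlgebraicCycles with Cyc.Zk membership, proper intersection is IntMult.IntersectProperly and
α · β is the Tor-formula intersection product on coefficient functions (IntMult.interProd). The same
holds for Y with δY and m = dim Y. -/
theorem result (K : Type u) [Field K] [IsAlgClosed K] (X Y : Scheme.{u}) (f : X ⟶ Y) (gX : X ⟶ Spec (CommRingCat.of K)) (gY : Y ⟶ Spec (CommRingCat.of K)) (hf : f ≫ gY = gX) [Smooth gX] [IsSeparated gX] [QuasiCompact gX] [IsIntegral X] [Smooth gY] [IsSeparated gY] [QuasiCompact gY] [IsIntegral Y] [Flat f] (δX : X → ℤ) (δY : Y → ℤ) (hX : Cyc.IsSetup X δX) (hY : Cyc.IsSetup Y δY) (hδX : Cyc.DeltaCompat gX δX (fun _ => 0)) (hδY : Cyc.DeltaCompat gY δY (fun _ => 0)) (hδ : Cyc.DeltaCompat f δX δY) (n m : ℤ) (hn : δX (genericPoint X) = n) (hm : δY (genericPoint Y) = m) (e : ℕ) (he : (e : ℤ) = n - m) (hrel : Cyc.HasRelDim f e) (r s : ℤ) (α β : AlgebraicCycle Y ℤ) (hα : α ∈ Cyc.Zk Y δY r) (hβ : β ∈ Cyc.Zk Y δY s) (hprop : IntMult.IntersectProperly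 δY m ⇑α ⇑β) : IntMult.IntersectProperly δX n (Cyc.pullFun f δX δY e ⇑α) (Cyc.pullFun f δX δY e ⇑β) ∧ Cyc.pullFun f δX δY e (IntMult.interProd δY m ⇑α ⇑β) = IntMult.interProd δX n (Cyc.pullFun f δX δY e ⇑α) (Cyc.pullFun f δX δY e ⇑β) := by
  classical
  haveI := hX.1
  haveI := hY.1
  haveI : LocallyOfFiniteType f := by
    haveI : LocallyOfFiniteType (f ≫ gY) := by rw [hf]; infer_instance
    exact locallyOfFiniteType_of_comp f gY
  haveI : CompactSpace Y := QuasiCompact.compactSpace_of_compactSpace gY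
  haveI : CompactSpace X := QuasiCompact.compactSpace_of_compactSpace gX
  haveI : IsNoetherian X := ⟨⟩
  have hc : ∀ x, Groth.Agent.CycLim28.GenInFibre f x → δX x = δY (f x) + (e : ℤ) :=
    fun x => Groth.Agent.CycLib28.delta_of_hasRelDim f hrel hδ x
  have hgen : ∀ (γ : Y → ℤ) (x : X), Cyc.pullFun f δX δY e γ x ≠ 0 →
      γ (f x) ≠ 0 ∧ Groth.Agent.CycLim28.GenInFibre f x := fun γ x hx => by
    rw [Groth.Agent.CycLib28.pullFun_eq f δX δY (e : ℤ) hc] at hx
    refine ⟨left_ne_zero_of_mul hx, ?_⟩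
    by_contra hg
    rw [Groth.Agent.CycLib28.lenFibre_eq_top f hg, ENat.toNat_top, Nat.cast_zero, mul_zero] at hx
    exact hx rfl
  refine ⟨fun a b ζ ha hb haζ hbζ => ?_, funext fun x => ?_⟩
  · obtain ⟨ha0, hga⟩ := hgen _ a ha
    obtain ⟨hb0, hgb⟩ := hgen _ b hb
    have h1 := hprop (f a) (f b) (f ζ) ha0 hb0 (haζ.map f.continuous) (hbζ.map f.continuous)
    have h2 := hc a hga
    have h3 := hc b hgb
    have h4 := Groth.Agent.CycLib28.InterSheaf.delta_le_of_fibre f hX.2.2 (e : ℤ) hc ζ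
    omega
  set A := (Groth.Agent.CycLim28.finite_support α).toFinset
  set B := (Groth.Agent.CycLim28.finite_support β).toFinset
  have hA : ∀ y, α y ≠ 0 → y ∈ A := fun y hy => (Set.Finite.mem_toFinset _).2 hy
  have hB : ∀ y, β y ≠ 0 → y ∈ B := fun y hy => (Set.Finite.mem_toFinset _).2 hy
  let ind : Y → Y → ℤ := fun ξ => Set.indicator {ξ} 1
  have hind : ∀ ξ y, ind ξ y ≠ 0 → y = ξ := fun ξ y h => Set.mem_singleton_iff.1 (Set.mem_of_indicator_ne_zero h)
  have pair : ∀ ξ ∈ A, ∀ η ∈ B, Cyc.pullFun f δX δY e (IntMult.interProd δY m (ind ξ) (ind η)) =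
      IntMult.interProd δX n (Cyc.pullFun f δX δY e (ind ξ)) (Cyc.pullFun f δX δY e (ind η)) := by
    intro ξ hξ η hη
    have hξ0 : α ξ ≠ 0 := (Set.Finite.mem_toFinset _).1 hξ
    have hη0 : β η ≠ 0 := (Set.Finite.mem_toFinset _).1 hη
    have hξr : δY ξ = r := by_contra fun h => hξ0 (hα ξ h)
    have hηs : δY η = s := by_contra fun h => hη0 (hβ η h)
    have hF : ∀ y : Y, Nontrivial ((Groth.Agent.CycLib28.InterSheaf.pointSheaf ξ).presheaf.stalk y) → δY y ≤ r :=
      fun y hy => hξr ▸ Groth.Agent.CycLib28.le_of_specializes hY.2.2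
        (Groth.Agent.CycLib28.InterSheaf.specializes_of_nontrivial_pointSheaf ξ y hy)
    have hG : ∀ y : Y, Nontrivial ((Groth.Agent.CycLib28.InterSheaf.pointSheaf η).presheaf.stalk y) → δY y ≤ s :=
      fun y hy => hηs ▸ Groth.Agent.CycLib28.le_of_specializes hY.2.2
        (Groth.Agent.CycLib28.InterSheaf.specializes_of_nontrivial_pointSheaf η y hy)
    have h := (Groth.Agent.S6471.result K X Y f gX gY hf δX δY hX hY hδX hδY hδ n m hn hm e he hrel _ _
      (Groth.Agent.CycLib28.InterSheaf.isCoh_pointSheaf ξ) (Groth.Agent.CycLib28.InterSheaf.isCoh_pointSheaf η)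
      r s hF hG (fun y h1 h2 => by
        have := hprop ξ η y hξ0 hη0 (Groth.Agent.CycLib28.InterSheaf.specializes_of_nontrivial_pointSheaf ξ y h1)
          (Groth.Agent.CycLib28.InterSheaf.specializes_of_nontrivial_pointSheaf η y h2)
        omega)).2
    rw [← (Groth.Agent.CycLib28.pullFun_sheafFun f hX.2.2 (e : ℤ) hc r _ hF).2,
      ← (Groth.Agent.CycLib28.pullFun_sheafFun f hX.2.2 (e : ℤ) hc s _ hG).2,
      Groth.Agent.CycLib28.InterSheaf.sheafFun_pointSheaf hY.2.2 hξr,
      Groth.Agent.CycLib28.InterSheaf.sheafFun_pointSheaf hY.2.2 hηs] at h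
    exact h
  have eα : (⇑α : Y → ℤ) = fun y => ∑ ξ ∈ A, α ξ * ind ξ y :=
    funext fun y => (Groth.Agent.CycLib28.InterSheaf.sum_indicator_mul hA y).symm
  have eβ : (⇑β : Y → ℤ) = fun y => ∑ η ∈ B, β η * ind η y :=
    funext fun y => (Groth.Agent.CycLib28.InterSheaf.sum_indicator_mul hB y).symm
  have lin : ∀ (C : Finset Y) (c : Y → ℤ), Cyc.pullFun f δX δY e (fun y => ∑ ξ ∈ C, c ξ * ind ξ y) =
      fun z => ∑ ξ ∈ C, c ξ * Cyc.pullFun f δX δY e (ind ξ) z := fun C c => funext fun z => by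
    simp only [Groth.Agent.CycLib28.pullFun_eq f δX δY (e : ℤ) hc, Finset.sum_mul, mul_assoc]
  have hfin : ∀ C : Finset Y, (⋃ y ∈ C, {z : X | f z = y ∧ Groth.Agent.CycLim28.GenInFibre f z}).Finite := fun C =>
    C.finite_toSet.biUnion fun y _ => Groth.Agent.CycLim28.genInFibre_finite f y
  have hsupp : ∀ (C : Finset Y), ∀ ξ ∈ C, ∀ z, Cyc.pullFun f δX δY e (ind ξ) z ≠ 0 → z ∈ (hfin C).toFinset :=
    fun C ξ hξ z hz => by
      obtain ⟨h0, hg⟩ := hgen _ z hz
      rw [Set.Finite.mem_toFinset, Set.mem_iUnion₂]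
      exact ⟨ξ, hξ, hind ξ _ h0, hg⟩
  have hR : IntMult.interProd δX n (Cyc.pullFun f δX δY e ⇑α) (Cyc.pullFun f δX δY e ⇑β) x =
      ∑ ξ ∈ A, ∑ η ∈ B, α ξ * β η *
        IntMult.interProd δX n (Cyc.pullFun f δX δY e (ind ξ)) (Cyc.pullFun f δX δY e (ind η)) x := by
    conv_lhs => rw [eα, eβ, lin, lin]
    exact Groth.Agent.CycLib28.InterSheaf.interProd_sum δX n A B _ _ _ _ _ _ (hsupp A) (hsupp B) x
  have hL : IntMult.interProd δY m ⇑α ⇑β (f x) =
      ∑ ξ ∈ A, ∑ η ∈ B, α ξ * β η * IntMult.interProd δY m (ind ξ) (ind η) (f x) := by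
    conv_lhs => rw [eα, eβ]
    exact Groth.Agent.CycLib28.InterSheaf.interProd_sum δY m A B _ _ _ _ A B
      (fun ξ hξ y hy => hind ξ y hy ▸ hξ) (fun η hη y hy => hind η y hy ▸ hη) (f x)
  rw [hR, Groth.Agent.CycLib28.pullFun_eq f δX δY (e : ℤ) hc, hL, Finset.sum_mul]
  refine Finset.sum_congr rfl fun ξ hξ => ?_
  rw [Finset.sum_mul]
  refine Finset.sum_congr rfl fun η hη => ?_
  rw [← pair ξ hξ η hη, Groth.Agent.CycLib28.pullFun_eq f δX δY (e : ℤ) hc, mul_assoc]
end Groth.Agent.S6451
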