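import Groth.Statements.S6453
import Groth.Agent.CycLib28.MultLocal
import Groth.Agent.CycLib28.SerreTor

set_option autoImplicit false
universe u
open CategoryTheory AlgebraicGeometry
attribute [local instance] HasDerivedCategory.standard
open IntMult

namespace Groth.Agent.S6453

/-- Suppose the ideal of V in O_{X,ξ} is generated by a single nonzerodivisor g (c = 1: V is an
effective Cartier divisor at ξ). Then e(X, V·W, Z) = length_{O_{X,ξ}}(O_{W,ξ}/g O_{W,ξ}), i.e. the
length of O_{X,ξ}/(I_{W,ξ} + (g)). Here X is a nonsingular variety over an algebraically closed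
field K (smooth, separated, quasi-compact, integral), V and W are closed subvarieties given by
quasi-coherent ideal sheaves with integral subschemes, of dimensions r and s with dim X = n,
intersecting properly, and ξ is the generic point of an irreducible component Z of V ∩ W (a point of
V ∩ W maximal under specialization); e(X, V·W, Z) = IntMult.mult is the alternating sum of lengths
of Tor over O_{X,ξ}, and O_{W,ξ} = O_{X,ξ}/I_{W,ξ}. -/
theorem result (K : Type u) [Field K] [IsAlgClosed K] (X : Scheme.{u}) (f : X ⟶ Spec (CommRingCat.of K)) [Smooth f] [IsSeparated f] [QuasiCompact f] [IsIntegral X] (IV IW : X.IdealSheafData) [IsIntegral IV.subscheme] [IsIntegral IW.subscheme] (n r s : ℕ) (hn : topologicalKrullDim X = n) (hr : topologicalKrullDim IV.support = r) (hs : topologicalKrullDim IW.support = s) (hprop : IntMult.ProperInt (IV.support : Set X) (IW.support : Set X) n r s) (ξ : X) (hξV : ξ ∈ IV.support) (hξW : ξ ∈ IW.support) (hmax : ∀ ξ' : X, ξ' ∈ IV.support → ξ' ∈ IW.support → ξ' ⤳ ξ → ξ' = ξ) (g : ↑(X.presheaf.stalk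 ξ)) (hg : IntMult.stalkIdeal IV ξ = Ideal.span {g}) (hreg : IsSMulRegular (↑(X.presheaf.stalk ξ)) g) : (IntMult.mult IV IW ξ : ℤ) = (Module.length (X.presheaf.stalk ξ) (↑(X.presheaf.stalk ξ) ⧸ (IntMult.stalkIdeal IW ξ ⊔ Ideal.span {g}))).toNat := by
  haveI : IsLocallyNoetherian X := LocallyOfFiniteType.isLocallyNoetherian f
  haveI := Groth.Agent.CycLib28.isRegularLocalRing_stalk f ξ
  obtain ⟨a, v, w, ha, hv, hw, hle⟩ := Groth.Agent.CycLib28.exists_dims f IV IW hn hr hs hprop hξV hξW
  have hfl := Groth.Agent.CycLib28.finite_length_quot_sup IW IV hξW hξV (fun ξ' h h' hsp => hmax ξ' h' h hsp)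
  have e : Ideal.ofList [g] = IntMult.stalkIdeal IV ξ := by rw [hg, Ideal.ofList_singleton]
  have hgm : g ∈ IsLocalRing.maximalIdeal (X.presheaf.stalk ξ) :=
    Groth.Agent.CycLib28.stalkIdeal_le_maximal IV hξV (e ▸ Ideal.subset_span List.mem_cons_self)
  have hregA : RingTheory.Sequence.IsWeaklyRegular (X.presheaf.stalk ξ) [g] :=
    (RingTheory.Sequence.isWeaklyRegular_singleton_iff _ g).2 hreg
  have hregA' : RingTheory.Sequence.IsRegular (X.presheaf.stalk ξ) [g] := by
    refine ⟨hregA, ?_⟩
    rw [smul_eq_mul, Ideal.mul_top, Ideal.ofList_singleton]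
    exact fun h => (IsLocalRing.maximalIdeal.isMaximal _).ne_top (top_le_iff.mp (h.trans_le (by
      rw [Ideal.span_le, Set.singleton_subset_iff]; exact hgm)))
  haveI := Groth.Agent.CycLib28.isDomain_quot IW hξW
  set J := IntMult.stalkIdeal IW ξ with hJdef
  rw [← e] at hv hfl
  have hc := Groth.Agent.CycLib28.length_le_dim [g] hregA' ha hv hle
  have hgJ : g ∉ J := by
    intro hgJ
    have hJfl : IsFiniteLength (X.presheaf.stalk ξ) (↑(X.presheaf.stalk ξ) ⧸ J) := by
      rwa [sup_eq_left.2 (by rw [Ideal.ofList_singleton, Ideal.span_le, Set.singleton_subset_iff]; exact hgJ)] at hfl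
    have h0 := (Groth.Agent.EGA41Lib.isFiniteLength_iff_supportDim_le_zero _).1 hJfl
    rw [Module.supportDim_quotient_eq_ringKrullDim, hw] at h0
    have : w ≤ 0 := by exact_mod_cast h0
    simp only [List.length_cons, List.length_nil] at hc
    omega
  have hregM : RingTheory.Sequence.IsWeaklyRegular (↑(X.presheaf.stalk ξ) ⧸ J) [g] := by
    refine (RingTheory.Sequence.isWeaklyRegular_singleton_iff _ g).2 ((isSMulRegular_quotient_iff_mem_of_smul_mem _ g).2 ?_)
    intro x hx
    rw [smul_eq_mul] at hx
    exact ((Ideal.Quotient.isDomain_iff_prime J).mp inferInstance |>.mem_or_mem hx).resolve_left hgJ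
  unfold IntMult.mult
  rw [← hJdef, ← e, ← Ideal.ofList_singleton, Groth.Agent.CycLib28.chi_quot_right [g] hregA (ModuleCat.of _ (↑(X.presheaf.stalk ξ) ⧸ J)),
    Groth.Agent.CycLib28.koszul_chi_of_regular [g] (ModuleCat.of _ (↑(X.presheaf.stalk ξ) ⧸ J)) hregM,
    ← (Groth.Agent.CycLib28.ringKrullDim_le_of_finite_length.quotSupEquiv J (Ideal.ofList [g])).length_eq]
end Groth.Agent.S6453
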