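import Groth.Statements.S6460
import Mathlib
import Groth.Agent.CycLib28.Maximal

set_option autoImplicit false
universe u
open CategoryTheory AlgebraicGeometry
open Cyc

namespace Groth.Agent.S6460

/-- (3) ⇒ (1): suppose that for every x ∈ X there is an integer n_x with δ(ξ) = n_x for every generic
point ξ of an irreducible component of X containing x. Then X decomposes into open and closed
subschemes X_n (n ∈ ℤ) such that every irreducible component of X_n has δ-dimension n; stated as the
existence of a locally constant c : X → ℤ with δ(ξ) = c(ξ) for every point ξ that is maximal under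
specialization. (The converse implications are immediate and not stated.) Here a pair (X, δ) with
Cyc.IsSetup plays the role of a scheme locally of finite type over the base (S, δ) (X locally
Noetherian with universally catenary local rings, δ a dimension function). -/
theorem result (X : Scheme.{u}) (δ : X → ℤ) (hX : Cyc.IsSetup X δ) (h3 : ∀ x : X, ∃ n : ℤ, ∀ ξ : X, (∀ ξ' : X, ξ' ⤳ ξ → ξ' = ξ) → ξ ⤳ x → δ ξ = n) : ∃ c : X → ℤ, IsLocallyConstant c ∧ ∀ ξ : X, (∀ ξ' : X, ξ' ⤳ ξ → ξ' = ξ) → δ ξ = c ξ := by
  choose c hc using h3
  refine ⟨c, (IsLocallyConstant.iff_exists_open c).2 fun x => ?_, fun ξ hξ => hc ξ ξ hξ (specializes_refl ξ)⟩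
  haveI := hX.1
  obtain ⟨U, hxU, hU⟩ := CycLib28.exists_nhd_maximal x
  refine ⟨U, U.2, hxU, fun y hy => ?_⟩
  obtain ⟨z, hzy, hz⟩ := CycLib28.exists_maximal_specializes y
  rw [← hc y z hz hzy, hc x z hz (hU z (hzy.mem_open U.2 hy) hz)]
end Groth.Agent.S6460
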