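import Groth.Statements.S6461
import Mathlib
import Groth.Agent.CycLib28.Maximal
import Groth.Agent.CycLib28.StalkGen
import Groth.Agent.CAlgH3.CMRing
import Groth.Agent.EGA43.DimFormula.Core

set_option autoImplicit false
universe u
open CategoryTheory AlgebraicGeometry
open Cyc

namespace Groth.Agent.S6461

/-- If all local rings of X are Cohen–Macaulay then every x ∈ X has an open neighbourhood U and an
integer n with δ(ξ) = n for every generic point ξ of an irreducible component of U (every point of U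
maximal under specialization). Here a pair (X, δ) with Cyc.IsSetup plays the role of a scheme
locally of finite type over the base (S, δ) (X locally Noetherian with universally catenary local
rings, δ a dimension function). -/
theorem result (X : Scheme.{u}) (δ : X → ℤ) (hX : Cyc.IsSetup X δ) (hCM : ∀ x : X, LocCoh.IsCohenMacaulayLocalRing ↑(X.presheaf.stalk x)) (x : X) : ∃ (U : X.Opens) (n : ℤ), x ∈ U ∧ ∀ ξ : X, ξ ∈ U → (∀ ξ' : X, ξ' ⤳ ξ → ξ' = ξ) → δ ξ = n := by
  haveI := hX.1
  obtain ⟨U, hxU, hU⟩ := CycLib28.exists_nhd_maximal x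
  obtain ⟨d, hd⟩ : ∃ d : ℕ, ringKrullDim (X.presheaf.stalk x) = d :=
    ⟨_, EGA43.DimFormula.ringKrullDim_eq_natDim (X.presheaf.stalk x)⟩
  refine ⟨U, δ x + d, hxU, fun ξ hξU hξ => ?_⟩
  obtain ⟨P, rfl⟩ := CycLim28.exists_fromSpecStalk_eq (hU ξ hξU hξ)
  haveI := hCM x
  have h1 := CAlgH3.height_add_ringKrullDim_quotient P.asIdeal
  have h0 : P.asIdeal.height = 0 := by
    have h2 := CycLib28.ringKrullDim_stalk_eq_height x P
    haveI := CycLib28.isArtinianRing_stalk (X.fromSpecStalk x P) hξ
    have h5 := Ring.krullDimLE_iff.mp (inferInstance : Ring.KrullDimLE 0 (X.presheaf.stalk (X.fromSpecStalk x P)))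
    rw [h2] at h5
    exact le_bot_iff.mp (WithBot.coe_le_coe.mp (by exact_mod_cast h5))
  rw [h0, CycLib28.dim_quotient hX.2.2 x P, hd] at h1
  have h3 : (CycLib28.drop δ x P).toNat = d := by
    have : ((0 : ℕ∞) : WithBot ℕ∞) = 0 := rfl
    rw [this, zero_add] at h1
    exact_mod_cast h1
  have h4 := CycLib28.drop_nonneg hX.2.2 x P
  rw [CycLib28.drop] at h3 h4
  omega
end Groth.Agent.S6461
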