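import Groth.Statements.S6463
import Groth.Agent.SGA3cLib.GeomConn
import Groth.Agent.AbDualLib.Basic
import Groth.Agent.AbSchLib.SmoothReduced
-- import your own Groth.Agent.* helpers here

set_option autoImplicit false
set_option linter.style.haveILetI false
set_option backward.isDefEq.respectTransparency.types false
universe u
open CategoryTheory CategoryTheory.Limits AlgebraicGeometry
open PicF

namespace Groth.Agent.S6463

open CategoryTheory CategoryTheory.Limits MonObj AlgebraicGeometry in
open Groth.Agent in
/-- For a field k and a smooth projective curve X over k that has a k-rational point σ, the conditions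
under which the Picard functor is computed through the section are met: f : X → Spec k is flat,
proper and of finite presentation with a section, and O_T → f_{T,*} O_{X_T} is an isomorphism for
every scheme T over k. Only the last assertion is stated (the others are part of the hypotheses or
immediate): for every t : T → Spec k, the sheaf map of the base change X ×_k T → T is an
isomorphism. Proper replaces projective (they agree for curves over a field). -/
theorem result (k : Type u) [Field k] (X : Scheme.{u}) (f : X ⟶ Spec (CommRingCat.of k)) (hX : Curve.IsSmoothProperCurve k X f) (σ : Spec (CommRingCat.of k) ⟶ X) (hσ : σ ≫ f = 𝟙 (Spec (CommRingCat.of k))) (T : Scheme.{u}) (t : T ⟶ Spec (CommRingCat.of k)) : IsIso (pullback.snd f t).c := by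
  obtain ⟨hp, hs, hi, hd⟩ := hX
  haveI := hp; haveI := hs; haveI := hi
  haveI : GeometricallyConnected f :=
    Category.id_comp f ▸
      Groth.Agent.SGA3cLib.geometricallyConnected_of_rational_point k f (𝟙 X) σ hσ (fun x _ => ⟨x, rfl⟩)
  haveI := Groth.Agent.AbSchLib.geometricallyReduced_of_smooth f
  have he : pullback.lift (t ≫ σ) (𝟙 T) (by rw [Category.assoc, hσ, Category.comp_id, Category.id_comp]) ≫
      pullback.snd f t = 𝟙 T := pullback.lift_snd _ _ _
  haveI : ∀ V, IsIso ((pullback.snd f t).c.app V) := fun V =>
    (ConcreteCategory.isIso_iff_bijective _).2
      (Groth.Agent.AbDualLib.bijective_app_of_section (pullback.snd f t) _ he V.unop)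
  exact NatIso.isIso_of_isIso_app _

end Groth.Agent.S6463
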