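import Groth.Statements.S6473
import Groth.Agent.DimLib.Sub

set_option autoImplicit false
universe u
open CategoryTheory CategoryTheory.Limits AlgebraicGeometry
open IntMult

namespace Groth.Agent.S6473

/-- Let f : X → Y be a morphism of varieties over K which is a regular immersion of codimension c, and Z
⊂ Y a closed subvariety of dimension d. Then each irreducible component T of f⁻¹(Z) = X ×_Y Z
satisfies dim T ≥ d − c; stated as d ≤ dim T + c. Varieties: integral, separated, of finite type
over the algebraically closed field K. (The published statement takes f to be a closed immersion,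
regular immersions being closed there; this row allows any immersion cut out, locally on Y where it
is closed, by a regular sequence of length c, the bound being local on Y. The published statement
also has a second part, for local complete intersection morphisms of a given relative dimension,
which this row does not state.) -/
theorem result (K : Type u) [Field K] [IsAlgClosed K] (X Y Z : Scheme.{u}) (gX : X ⟶ Spec (CommRingCat.of K)) (gY : Y ⟶ Spec (CommRingCat.of K)) [IsSeparated gX] [LocallyOfFiniteType gX] [QuasiCompact gX] [IsIntegral X] [IsSeparated gY] [LocallyOfFiniteType gY] [QuasiCompact gY] [IsIntegral Y] (f : X ⟶ Y) (hf : f ≫ gY = gX) (c : ℕ) (hreg : RegImm.IsRegularImmersionOfCodim RegImm.Kind.regular c f) (ι : Z ⟶ Y) [IsClosedImmersion ι] [IsIntegral Z] (d : ℕ) (hd : topologicalKrullDim Z = d) (T : Set ↥(pullback f ι)) (hT : T ∈ irreducibleComponents ↥(pullback f ι)) : ((d : ℕ) : WithBot ℕ∞) ≤ topologicalKrullDim ↥T + c := by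
  subst hf
  open Groth.Agent.DimLib in
  have : IsImmersion f := hreg.1
  let p := pullback.fst f ι ≫ (f ≫ gY)
  have e : p = pullback.snd f ι ≫ (ι ≫ gY) := by
    simp only [p, pullback.condition_assoc]
  refine (forall_components_iff p (fun D => ((d : ℕ) : WithBot ℕ∞) ≤ D + c)).2 (fun a ha => ?_) T hT
  have hr : Set.range (pullback.snd f ι) = ι.base ⁻¹' Set.range f.base := Scheme.Pullback.range_snd f ι
  obtain ⟨w, hw⟩ : ι (pullback.snd f ι a) ∈ Set.range f := by
    have : pullback.snd f ι a ∈ ι.base ⁻¹' Set.range f.base := hr ▸ ⟨a, rfl⟩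
    exact this
  obtain ⟨U, hwU, hcl, rs, hlen, -, hker⟩ := hreg.2 w
  have key := ptDim_le_add_of_minimal_preimage (ι ≫ gY) ι f U.2 rs hker
    (genericPoint_specializes (pullback.snd f ι a)) (hw ▸ hwU) ⟨w, hw⟩ (fun v _ hv hvf => by
      obtain ⟨b, rfl⟩ : v ∈ Set.range (pullback.snd f ι) := by rw [hr]; exact hvf
      rw [ha b ((pullback.snd f ι).isEmbedding.isInducing.specializes_iff.1 hv)])
  rw [hlen, ← ptDim_comp_preimmersion (ι ≫ gY) (pullback.snd f ι)] at key
  rw [show d = ptDim (ι ≫ gY) (genericPoint Z) by
    exact_mod_cast hd.symm.trans (topologicalKrullDim_eq_ptDim_genericPoint (ι ≫ gY)), e]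
  exact_mod_cast key

end Groth.Agent.S6473
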