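import Groth.Statements.S6474
import Groth.Agent.CycLib28.PB.Inj.Bundles

set_option autoImplicit false
universe u
open CategoryTheory AlgebraicGeometry
open Cyc CategoryTheory.Limits

namespace Groth.Agent.S6474

/-- Injectivity; surjectivity is the affine-fibres result: suppose ℰ is an O_X-module that is locally
free of finite rank r, and let p : E = Spec(Sym^* ℰ) → X denote the associated vector bundle. Then
p^* : CH_k(X) → CH_{k+r}(E) is injective: a k-cycle α on X with p^*α ∼_rat 0 on E is itself ∼_rat 0.
The vector bundle is given through the relative-spectrum layer: A a quasi-coherent O_X-algebra with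
j : ℰ → A making A the symmetric algebra of ℰ (RelSpec.IsSymAlg, ℰ quasi-coherent), E = A.spec with
structure morphism A.π and the induced dimension function. Here a pair (X, δ) with Cyc.IsSetup plays
the role of a scheme locally of finite type over the base (S, δ) (X locally Noetherian with
universally catenary local rings, δ a dimension function), and Cyc.DeltaCompat records that the
dimension function upstairs is the induced one. -/
theorem result (X : Scheme.{u}) (δ : X → ℤ) (hX : Cyc.IsSetup X δ) (ℰ : X.Modules) (hq : Coh.IsQCoh ℰ) (r : ℕ) (hr : FlatMod.IsFinLocFreeOfRank r ℰ) (A : RelSpec.QCAlg X) (j : ℰ ⟶ A.toModule) (hA : RelSpec.IsSymAlg ℰ A j) (δE : ↥A.spec → ℤ) (hE : Cyc.IsSetup A.spec δE) (hδ : Cyc.DeltaCompat A.π δE δ) (k : ℤ) (α : AlgebraicCycle X ℤ) (hα : α ∈ Cyc.Zk X δ k) (γ : AlgebraicCycle A.spec ℤ) (hγ : ⇑γ = Cyc.pullFun A.π δE δ r ⇑α) (h0 : Cyc.RatEquivZero δE (k + r) γ) : Cyc.RatEquivZero δ k α := by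
  haveI := hX.1
  haveI := hE.1
  haveI := hq
  let a : Coh.structureModule X ⟶ ℰ ⊞ Coh.structureModule X := biprod.inr
  have hex : (ShortComplex.mk a (biprod.fst : ℰ ⊞ Coh.structureModule X ⟶ ℰ) biprod.inr_fst).ShortExact :=
    ShortComplex.Splitting.shortExact
      { r := biprod.snd
        s := biprod.inl
        f_r := biprod.inr_snd
        s_g := biprod.inl_fst
        id := by
          show biprod.snd ≫ biprod.inr + biprod.fst ≫ biprod.inl = 𝟙 _
          rw [add_comm]
          exact biprod.total }
  have hE' : FlatMod.IsFinLocFreeOfRank (r + 1) (ℰ ⊞ Coh.structureModule X) := by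
    have h := Groth.Agent.CycLib28.PB.Ops.isFinLocFreeOfRank_extension hex
      (Groth.Agent.PicLib.isFinLocFreeOfRank_one Groth.Agent.AmpleLib.isInvertible_structureModule) hr
    rwa [Nat.add_comm 1 r] at h
  haveI := Groth.Agent.CycLib28.PB.isQCoh_of_rank hE'
  obtain ⟨P, p, O1, q, δP, hP, hp, hPs, hδP⟩ := Groth.Agent.CycLib28.PB.exists_projBundle_setup hX hE'
  obtain ⟨e, he⟩ := Groth.Agent.CycLib28.PB.Inj.exists_iso_vectorBundle hr hP hex A j hA
  exact Groth.Agent.CycLib28.PB.Inj.ratEquivZero_of_iso hex hr hP hX hE' hPs hδP e A.π he hE hδ k α hα γ hγ h0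
end Groth.Agent.S6474
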