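import Groth.Statements.S6476
import Mathlib
import Groth.Agent.CycAlgLib.RLen

set_option autoImplicit false
universe u v
open CycAlg

namespace Groth.Agent.S6476

/-- Let A be a Noetherian local ring, M a finite A-module of dimension 1, and φ, ψ : M → M injective
with φ(ψ(M)) = ψ(φ(M)) (e.g. φ, ψ commute). Then length_A(M/φψM) is finite and (M/φψM, φ, ψ) is an
exact (2, 1)-periodic complex; here φ', ψ' denote the endomorphisms of M/φψM induced by φ and ψ, and
exactness says both cohomology modules (CycAlg.perH) are trivial. -/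
theorem result {A : Type u} [CommRing A] [IsNoetherianRing A] [IsLocalRing A] {M : Type v} [AddCommGroup M] [Module A M] [Module.Finite A M] (hdim : Module.supportDim A M = 1) (φ ψ : M →ₗ[A] M) (hφ : Function.Injective φ) (hψ : Function.Injective ψ) (hcomm : Submodule.map φ (LinearMap.range ψ) = Submodule.map ψ (LinearMap.range φ)) (φ' ψ' : (M ⧸ LinearMap.range (φ ∘ₗ ψ)) →ₗ[A] (M ⧸ LinearMap.range (φ ∘ₗ ψ))) (hφ' : φ' ∘ₗ (LinearMap.range (φ ∘ₗ ψ)).mkQ = (LinearMap.range (φ ∘ₗ ψ)).mkQ ∘ₗ φ) (hψ' : ψ' ∘ₗ (LinearMap.range (φ ∘ₗ ψ)).mkQ = (LinearMap.range (φ ∘ₗ ψ)).mkQ ∘ₗ ψ) : Module.length A (M ⧸ LinearMap.range (φ ∘ₗ ψ)) < ⊤ ∧ CycAlg.IsPeriodic φ' ψ' ∧ Subsingleton (CycAlg.perH φ' ψ') ∧ Subsingleton (CycAlg.perH ψ' φ') := by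
  have hP : ∀ x, φ (ψ x) ∈ LinearMap.range (φ ∘ₗ ψ) := fun x => ⟨x, rfl⟩
  have hQ : ∀ x, ψ (φ x) ∈ LinearMap.range (φ ∘ₗ ψ) := by
    intro x
    have : ψ (φ x) ∈ Submodule.map ψ (LinearMap.range φ) := Submodule.mem_map_of_mem ⟨x, rfl⟩
    rw [← hcomm] at this
    obtain ⟨_, ⟨y, rfl⟩, h⟩ := this
    exact ⟨y, h⟩
  have hQ' : ∀ y, ∃ z, φ (ψ y) = ψ (φ z) := by
    intro y
    have : φ (ψ y) ∈ Submodule.map φ (LinearMap.range ψ) := Submodule.mem_map_of_mem ⟨y, rfl⟩
    rw [hcomm] at this
    obtain ⟨_, ⟨z, rfl⟩, h⟩ := this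
    exact ⟨z, h.symm⟩
  have eφ : ∀ x, φ' (Submodule.Quotient.mk x) = Submodule.Quotient.mk (φ x) := fun x => LinearMap.congr_fun hφ' x
  have eψ : ∀ x, ψ' (Submodule.Quotient.mk x) = Submodule.Quotient.mk (ψ x) := fun x => LinearMap.congr_fun hψ' x
  refine ⟨Groth.Agent.CycAlgLib.length_lt_top_of_support_subset ?_, ⟨?_, ?_⟩, ?_, ?_⟩
  · intro p hp
    by_contra hne
    have hpM : p ∈ Module.support A M :=
      Module.support_subset_of_surjective _ (Submodule.mkQ_surjective _) hp
    have hk : Order.krullDim (Module.support A M) ≤ 1 := le_of_eq hdim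
    have hmax : (IsLocalRing.closedPoint A : PrimeSpectrum A) ∈ Module.support A M :=
      Module.mem_support_mono (show p ≤ IsLocalRing.closedPoint A from
        IsLocalRing.le_maximalIdeal p.isPrime.ne_top) hpM
    have hmin : IsMin (⟨p, hpM⟩ : Module.support A M) := by
      rcases Order.krullDim_le_one_iff.mp hk ⟨p, hpM⟩ with h | h
      · exact h
      · exfalso
        have h1 := h (b := ⟨_, hmax⟩) (show p ≤ IsLocalRing.closedPoint A from
          IsLocalRing.le_maximalIdeal p.isPrime.ne_top)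
        exact hne (Set.mem_singleton_iff.mpr (le_antisymm
          (IsLocalRing.le_maximalIdeal p.isPrime.ne_top) h1))
    let S := p.asIdeal.primeCompl
    let Ap := Localization S
    haveI : IsNoetherianRing Ap := IsLocalization.isNoetherianRing S _ inferInstance
    haveI : IsLocalRing Ap := IsLocalization.AtPrime.isLocalRing (Localization.AtPrime p.asIdeal) p.asIdeal
    haveI : Module.Finite Ap (LocalizedModule S M) := Module.Finite.of_isLocalizedModule S (LocalizedModule.mkLinearMap S M)
    have hfin : Module.length Ap (LocalizedModule S M) < ⊤ := by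
      refine Groth.Agent.CycAlgLib.length_lt_top_of_support_subset fun q hq => ?_
      have hq' : PrimeSpectrum.comap (algebraMap A Ap) q ∈ Module.support A M := by
        rw [Module.support_eq_zeroLocus, PrimeSpectrum.mem_zeroLocus] at hq ⊢
        intro x hx
        refine hq (Module.mem_annihilator.mpr fun m => ?_)
        induction m using LocalizedModule.induction_on with
        | h a s =>
          rw [algebraMap_smul, LocalizedModule.smul'_mk, Module.mem_annihilator.mp hx, LocalizedModule.zero_mk]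
      have hle : PrimeSpectrum.comap (algebraMap A Ap) q ≤ p := by
        intro x hx
        by_contra hxp
        exact q.isPrime.ne_top (Ideal.eq_top_of_isUnit_mem _ hx (IsLocalization.map_units Ap (⟨x, hxp⟩ : S)))
      have heq : p ≤ PrimeSpectrum.comap (algebraMap A Ap) q := hmin (b := ⟨_, hq'⟩) hle
      rw [Set.mem_singleton_iff]
      refine PrimeSpectrum.ext (le_antisymm (IsLocalRing.le_maximalIdeal q.isPrime.ne_top) ?_)
      change IsLocalRing.maximalIdeal (Localization.AtPrime p.asIdeal) ≤ q.asIdeal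
      rw [← Localization.AtPrime.map_eq_maximalIdeal]
      exact Ideal.map_le_iff_le_comap.mpr heq
    haveI : IsArtinian Ap (LocalizedModule S M) :=
      (isFiniteLength_iff_isNoetherian_isArtinian.mp (Module.length_ne_top_iff.mp hfin.ne)).2
    have hbij : Function.Bijective (LocalizedModule.map S (φ ∘ₗ ψ)) := by
      refine IsArtinian.bijective_of_injective_endomorphism _ ?_
      exact IsLocalizedModule.map_injective S (LocalizedModule.mkLinearMap S M) (LocalizedModule.mkLinearMap S M)
        (φ ∘ₗ ψ) (hφ.comp hψ)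
    refine Module.notMem_support_iff'.mpr ?_ hp
    intro m
    obtain ⟨m, rfl⟩ := Submodule.Quotient.mk_surjective _ m
    obtain ⟨y, hy⟩ := hbij.2 (LocalizedModule.mk m 1)
    induction y using LocalizedModule.induction_on with
    | h a s =>
      rw [LocalizedModule.map_mk, LocalizedModule.mk_eq] at hy
      obtain ⟨u, hu⟩ := hy
      refine ⟨(u * s : S), (u * s).2, ?_⟩
      rw [← Submodule.Quotient.mk_smul, Submodule.Quotient.mk_eq_zero]
      refine ⟨(u : A) • a, ?_⟩
      simp only [one_smul, Submonoid.smul_def] at hu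
      rw [map_smul, hu, smul_smul, Submonoid.coe_mul]
  · refine Submodule.linearMap_qext _ (LinearMap.ext fun x => ?_)
    simp only [LinearMap.comp_apply, Submodule.mkQ_apply, eφ, eψ, LinearMap.zero_apply]
    exact (Submodule.Quotient.mk_eq_zero _).mpr (hP x)
  · refine Submodule.linearMap_qext _ (LinearMap.ext fun x => ?_)
    simp only [LinearMap.comp_apply, Submodule.mkQ_apply, eφ, eψ, LinearMap.zero_apply]
    exact (Submodule.Quotient.mk_eq_zero _).mpr (hQ x)
  · rw [Submodule.Quotient.subsingleton_iff, eq_top_iff]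
    rintro ⟨z, hz⟩ -
    obtain ⟨x, rfl⟩ := Submodule.Quotient.mk_surjective _ z
    rw [LinearMap.mem_ker, eφ, Submodule.Quotient.mk_eq_zero] at hz
    obtain ⟨y, hy⟩ := hz
    refine ⟨Submodule.Quotient.mk y, ?_⟩
    rw [eψ]
    exact congrArg _ (hφ hy)
  · rw [Submodule.Quotient.subsingleton_iff, eq_top_iff]
    rintro ⟨z, hz⟩ -
    obtain ⟨x, rfl⟩ := Submodule.Quotient.mk_surjective _ z
    rw [LinearMap.mem_ker, eψ, Submodule.Quotient.mk_eq_zero] at hz
    obtain ⟨y, hy⟩ := hz
    obtain ⟨w, hw⟩ := hQ' y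
    refine ⟨Submodule.Quotient.mk w, ?_⟩
    rw [eφ]
    exact congrArg _ (hψ (hw.symm.trans hy))
end Groth.Agent.S6476
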