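import Groth.Statements.S6480
import Groth.Agent.S1833
import Groth.Agent.CycTameLib.OrdHom
import Groth.Agent.LatticeLib24.Dist

set_option autoImplicit false
universe u
open CycAlg

namespace Groth.Agent.S6480

open Groth.Agent.CycAlgLib Pointwise

variable {A : Type u} [CommRing A] [IsNoetherianRing A] [IsLocalRing A]

theorem prime_cases (hA : ringKrullDim A = 1) (p : PrimeSpectrum A) :
    p.asIdeal ∈ minimalPrimes A ↔ p.asIdeal ≠ IsLocalRing.maximalIdeal A := by
  have hh : (IsLocalRing.maximalIdeal A).height = 1 := by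
    have h := IsLocalRing.maximalIdeal_height_eq_ringKrullDim (R := A)
    rw [hA] at h
    exact_mod_cast h
  constructor
  · intro hp e
    have h0 := Ideal.height_eq_zero_iff.mpr hp
    rw [e, hh] at h0
    exact one_ne_zero h0
  · intro hne
    have := Ideal.height_strict_mono_of_isPrime (I := p.asIdeal)
      (lt_of_le_of_ne (IsLocalRing.le_maximalIdeal p.2.ne_top) hne)
    rw [hh] at this
    exact Ideal.height_eq_zero_iff.mp (ENat.lt_one_iff_eq_zero.mp this)

variable {M : Type u} [AddCommGroup M] [Module A M]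

theorem quot_length (hA : ringKrullDim A = 1) [Module.Finite A M]
    (hsupp : Module.support A M = Set.univ) (x : A) (hx : x ∈ nonZeroDivisors A)
    (hinj : Function.Injective (LinearMap.lsmul A M x)) :
    Module.length A (M ⧸ LinearMap.range (LinearMap.lsmul A M x)) < ⊤ ∧
    ((Module.length A (M ⧸ LinearMap.range (LinearMap.lsmul A M x))).toNat : ℤ) =
      ∑ᶠ (q : PrimeSpectrum A) (_ : q.asIdeal ∈ minimalPrimes A),
        ((Module.length (Localization.AtPrime q.asIdeal) (LocalizedModule q.asIdeal.primeCompl M)).toNat : ℤ) *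
          CycAlg.ordFrac (A ⧸ q.asIdeal) q.asIdeal.ResidueField (algebraMap A q.asIdeal.ResidueField x) := by
  classical
  have e : x • (⊤ : Submodule A M) = LinearMap.range (LinearMap.lsmul A M x) := by
    ext z
    rw [Submodule.mem_smul_pointwise_iff_exists]
    exact ⟨fun ⟨y, _, hy⟩ => ⟨y, hy⟩, fun ⟨y, hy⟩ => ⟨y, trivial, hy⟩⟩
  have hsub : Module.support A (M ⧸ LinearMap.range (LinearMap.lsmul A M x)) ⊆ {IsLocalRing.closedPoint A} := by
    intro p hp
    by_contra hne
    have hmin := (prime_cases hA p).mpr fun h ↦ hne (PrimeSpectrum.ext h)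
    have hxp : x ∈ p.asIdeal := by
      have hann : x ∈ Module.annihilator A (M ⧸ LinearMap.range (LinearMap.lsmul A M x)) :=
        Module.mem_annihilator.mpr fun z ↦ by
          obtain ⟨z, rfl⟩ := Submodule.Quotient.mk_surjective _ z
          rw [← Submodule.Quotient.mk_smul, Submodule.Quotient.mk_eq_zero]
          exact ⟨z, rfl⟩
      rw [Module.support_eq_zeroLocus, PrimeSpectrum.mem_zeroLocus] at hp
      exact hp hann
    exact Set.disjoint_left.mp (Ideal.disjoint_nonZeroDivisors_of_mem_minimalPrimes hmin) hxp hx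
  have hfin := length_lt_top_of_support_subset hsub
  have h1 : Module.supportDim A M ≤ 1 := by
    rw [← hA]
    exact Module.supportDim_le_ringKrullDim A M
  have h0 : Module.supportDim A (M ⧸ x • (⊤ : Submodule A M)) ≤ 0 := by
    rw [e, Module.supportDim, Order.krullDim_nonpos_iff_forall_isMax]
    intro p q _
    exact le_of_eq (Subtype.ext ((hsub q.2).trans (hsub p.2).symm))
  have h := Groth.Agent.S1833.result A M x h1 h0
  rw [e, LinearMap.ker_eq_bot.mpr hinj, Module.length_bot, zero_add] at h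
  refine ⟨hfin, ?_⟩
  have hfinset : {q : PrimeSpectrum A | q.asIdeal ∈ minimalPrimes A}.Finite :=
    (minimalPrimes.finite_of_isNoetherianRing A).preimage fun a _ b _ hab ↦ PrimeSpectrum.ext hab
  have hs : ∀ q : PrimeSpectrum A, (q ∈ Module.support A M ∧ q.asIdeal ≠ IsLocalRing.maximalIdeal A) ↔
      q ∈ hfinset.toFinset := fun q ↦ by
    rw [hsupp, Set.Finite.mem_toFinset]
    exact ⟨fun h ↦ (prime_cases hA q).mpr h.2, fun h ↦ ⟨trivial, (prime_cases hA q).mp h⟩⟩
  rw [finsum_cond_eq_sum_of_cond_iff _ (fun _ ↦ hs _)] at h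
  rw [finsum_cond_eq_sum_of_cond_iff _ (t := hfinset.toFinset) (fun _ ↦ by rw [Set.Finite.mem_toFinset]; rfl)]
  have hterm : ∀ q ∈ hfinset.toFinset, Ring.ord (A ⧸ q.asIdeal) (Ideal.Quotient.mk q.asIdeal x) *
      Module.length (Localization.AtPrime q.asIdeal) (LocalizedModule q.asIdeal.primeCompl M) ≠ ⊤ := by
    intro q hq htop
    refine (h ▸ hfin.ne) (ENat.sum_eq_top.mpr ⟨q, hq, htop⟩)
  rw [h, ENat.toNat_sum hterm, Nat.cast_sum]
  refine Finset.sum_congr rfl fun q hq ↦ ?_
  have hmin : q.asIdeal ∈ minimalPrimes A := hfinset.mem_toFinset.mp hq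
  have hxq : Ideal.Quotient.mk q.asIdeal x ≠ 0 := fun h ↦
    Set.disjoint_left.mp (Ideal.disjoint_nonZeroDivisors_of_mem_minimalPrimes hmin)
      (Ideal.Quotient.eq_zero_iff_mem.mp h) hx
  haveI : Ring.KrullDimLE 1 (A ⧸ q.asIdeal) := Ring.krullDimLE_iff.mpr
    (by rw [Nat.cast_one, ← hA]; exact ringKrullDim_le_of_surjective _ Ideal.Quotient.mk_surjective)
  rw [IsScalarTower.algebraMap_apply A (A ⧸ q.asIdeal) q.asIdeal.ResidueField, Ideal.Quotient.algebraMap_eq,
    Groth.Agent.LatticeLib24.ordFrac_algebraMap (A ⧸ q.asIdeal) q.asIdeal.ResidueField hxq, ENat.toNat_mul,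
    Nat.cast_mul, mul_comm]

end Groth.Agent.S6480

namespace Groth.Agent.S6480

/-- Let A be a Noetherian local ring of dimension 1, a, b ∈ A nonzerodivisors, A without embedded
primes, M a finite A-module without embedded associated primes and with Supp(M) = Spec(A). Put I =
{x ∈ A | x·(a/b) ∈ A}, and write 𝔮_1, …, 𝔮_t for the minimal prime ideals of A. The conclusion is
that M contains (a/b)IM, and that the difference length_A(M/(a/b)IM) minus length_A(M/IM) equals the
sum over i of length_{A_{𝔮_i}}(M_{𝔮_i}) multiplied by ord_{A/𝔮_i}(a/b). Encoding: I is the ideal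
quotient (bA : aA); '(a/b)IM ⊂ M' is aIM ⊆ bM; (a/b)IM is the submodule of m with bm ∈ aIM (b acts
injectively on M); ord_{A/𝔮}(a/b) is CycAlg.ordFrac on κ(𝔮) = Frac(A/𝔮); lengths are truncated to ℕ
(they are finite here). -/
theorem result {A : Type u} [CommRing A] [IsNoetherianRing A] [IsLocalRing A] (hA : ringKrullDim A = 1) {M : Type u} [AddCommGroup M] [Module A M] [Module.Finite A M] (a b : A) (ha : a ∈ nonZeroDivisors A) (hb : b ∈ nonZeroDivisors A) (hAemb : ∀ p ∈ associatedPrimes A A, p ∈ minimalPrimes A) (hMemb : ∀ p ∈ associatedPrimes A M, p ∈ minimalPrimes A) (hsupp : Module.support A M = Set.univ) (I : Ideal A) (hI : I = (Ideal.span {b}).colon (Ideal.span {a})) (P : Submodule A M) (hP : P = Submodule.comap (LinearMap.lsmul A M b) ((Ideal.span {a} * I) • (⊤ : Submodule A M))) : (Ideal.span {a} * I) • (⊤ : Submodule A M) ≤ LinearMap.range (LinearMap.lsmul A M b) ∧ ((Module.length A (M ⧸ P)).toNat : ℤ) - ((Module.length A (M ⧸ I • (⊤ : Submodule A M))).toNat : ℤ) = ∑ᶠ (q :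 PrimeSpectrum A) (_ : q.asIdeal ∈ minimalPrimes A), ((Module.length (Localization.AtPrime q.asIdeal) (LocalizedModule q.asIdeal.primeCompl M)).toNat : ℤ) * CycAlg.ordFrac (A ⧸ q.asIdeal) q.asIdeal.ResidueField (algebraMap A q.asIdeal.ResidueField a / algebraMap A q.asIdeal.ResidueField b) := by
  classical
  open Groth.Agent.CycAlgLib in
  have hinj : ∀ x ∈ nonZeroDivisors A, Function.Injective (LinearMap.lsmul A M x) := by
    intro x hx
    rw [injective_iff_map_eq_zero]
    intro m hm
    by_contra hne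
    have h : x ∈ ({r | ∃ y : M, y ≠ 0 ∧ r • y = 0} : Set A) := ⟨m, hne, hm⟩
    rw [← biUnion_associatedPrimes_eq_zero_divisors A M] at h
    simp only [Set.mem_iUnion] at h
    obtain ⟨p, hp, hxp⟩ := h
    exact Set.disjoint_left.mp (Ideal.disjoint_nonZeroDivisors_of_mem_minimalPrimes (hMemb p hp)) hxp hx
  set fa := LinearMap.lsmul A M a with hfa
  set fb := LinearMap.lsmul A M b with hfb
  have hN : (Ideal.span {a} * I) • (⊤ : Submodule A M) = (I • (⊤ : Submodule A M)).map fa := by
    rw [Submodule.mul_smul, Submodule.ideal_span_singleton_smul]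
    rfl
  have hle : (Ideal.span {a} * I) • (⊤ : Submodule A M) ≤ LinearMap.range fb := by
    rw [Submodule.smul_le]
    intro r hr m _
    have hr' : r ∈ Ideal.span {b} := by
      refine Ideal.mul_le.mpr ?_ hr
      intro s hs i hi
      obtain ⟨c, rfl⟩ := Ideal.mem_span_singleton'.mp hs
      rw [hI, Submodule.mem_colon] at hi
      rw [mul_assoc, mul_comm a i]
      exact Ideal.mul_mem_left _ c (hi a (Ideal.subset_span rfl))
    obtain ⟨c, rfl⟩ := Ideal.mem_span_singleton'.mp hr'
    exact ⟨c • m, by rw [hfb, LinearMap.lsmul_apply, smul_smul, mul_comm]⟩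
  refine ⟨hle, ?_⟩
  have hbI : LinearMap.range fb ≤ I • (⊤ : Submodule A M) := by
    rintro _ ⟨m, rfl⟩
    refine Submodule.smul_mem_smul ?_ trivial
    rw [hI, Submodule.mem_colon]
    exact fun s _ ↦ Ideal.mul_mem_right s _ (Ideal.subset_span rfl)
  obtain ⟨hfa', ha'⟩ := Groth.Agent.S6480.quot_length hA hsupp a ha (hinj a ha)
  obtain ⟨hfb', hb'⟩ := Groth.Agent.S6480.quot_length hA hsupp b hb (hinj b hb)
  rw [← hfa] at hfa' ha'
  rw [← hfb] at hfb' hb'
  have hq : ∀ N : Submodule A M, Groth.Agent.CycAlgLib.rlen ⊤ N = Module.length A (M ⧸ N) := fun N ↦ by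
    refine (Submodule.Quotient.equiv _ _ Submodule.topEquiv ?_).length_eq
    exact Submodule.map_comap_eq_of_surjective Submodule.topEquiv.surjective N
  have key : Module.length A (M ⧸ LinearMap.range fa) + Module.length A (M ⧸ I • (⊤ : Submodule A M)) =
      Module.length A (M ⧸ LinearMap.range fb) + Module.length A (M ⧸ P) := by
    have hPb : P.map fb = (I • (⊤ : Submodule A M)).map fa := by
      rw [hP, Submodule.map_comap_eq, inf_eq_right.mpr hle, hN]
    rw [← hq, ← hq, ← hq, ← hq, ← Groth.Agent.CycAlgLib.rlen_bot_map (hinj a ha) ⊤ (I • ⊤),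
      ← Groth.Agent.CycAlgLib.rlen_bot_map (hinj b hb) ⊤ P, ← hfa, ← hfb, Submodule.map_top, Submodule.map_top,
      ← Groth.Agent.CycAlgLib.rlen_trans ((Submodule.map_mono le_top).trans_eq (Submodule.map_top fa)) le_top,
      ← Groth.Agent.CycAlgLib.rlen_trans ((Submodule.map_mono le_top).trans_eq (Submodule.map_top fb)) le_top, hPb]
  have hIfin : Module.length A (M ⧸ I • (⊤ : Submodule A M)) < ⊤ :=
    lt_of_le_of_lt (Module.length_le_of_surjective (Submodule.factor hbI) (Submodule.factor_surjective hbI)) hfb'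
  have hPfin : Module.length A (M ⧸ P) < ⊤ := Groth.Agent.CycAlgLib.lt_top_of_add_right
    (key ▸ WithTop.add_lt_top.mpr ⟨hfa', hIfin⟩)
  have key' := congrArg ENat.toNat key
  rw [ENat.toNat_add hfa'.ne hIfin.ne, ENat.toNat_add hfb'.ne hPfin.ne] at key'
  have hdiff : ((Module.length A (M ⧸ P)).toNat : ℤ) - ((Module.length A (M ⧸ I • (⊤ : Submodule A M))).toNat : ℤ) =
      ((Module.length A (M ⧸ LinearMap.range fa)).toNat : ℤ) - ((Module.length A (M ⧸ LinearMap.range fb)).toNat : ℤ) := by
    omega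
  rw [hdiff, ha', hb']
  have hfinset : {q : PrimeSpectrum A | q.asIdeal ∈ minimalPrimes A}.Finite :=
    (minimalPrimes.finite_of_isNoetherianRing A).preimage fun a _ b _ hab ↦ PrimeSpectrum.ext hab
  have ht : ∀ {q : PrimeSpectrum A}, q.asIdeal ∈ minimalPrimes A ↔ q ∈ hfinset.toFinset := fun {q} ↦ by
    rw [Set.Finite.mem_toFinset]; rfl
  rw [finsum_cond_eq_sum_of_cond_iff _ (fun _ ↦ ht), finsum_cond_eq_sum_of_cond_iff _ (fun _ ↦ ht),
    finsum_cond_eq_sum_of_cond_iff _ (fun _ ↦ ht), ← Finset.sum_sub_distrib]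
  refine Finset.sum_congr rfl fun q hq ↦ ?_
  have hmin : q.asIdeal ∈ minimalPrimes A := ht.mpr hq
  have hne : ∀ x ∈ nonZeroDivisors A, algebraMap A q.asIdeal.ResidueField x ≠ 0 := fun x hx h ↦
    Set.disjoint_left.mp (Ideal.disjoint_nonZeroDivisors_of_mem_minimalPrimes hmin)
      (Ideal.algebraMap_residueField_eq_zero.mp h) hx
  have h := Groth.Agent.CycTameLib.ordFrac_mul (P := q.asIdeal)
    (hA ▸ ringKrullDim_le_of_surjective _ Ideal.Quotient.mk_surjective)
    (div_ne_zero (hne a ha) (hne b hb)) (hne b hb)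
  rw [div_mul_cancel₀ _ (hne b hb)] at h
  rw [h, ← mul_sub, add_sub_cancel_right]

end Groth.Agent.S6480
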