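import Groth.Statements.S6481
import Mathlib
-- import your own Groth.Agent.* helpers here

set_option autoImplicit false
universe u
open CycAlg

namespace Groth.Agent.S6481

/-- Let (A, 𝔪) be a 2-dimensional Noetherian local ring, t ∈ 𝔪 a nonzerodivisor with V(t) = {𝔪, 𝔮_1, …,
𝔮_r}, and A_{𝔮_i} ⊂ B_i finite ring extensions with B_i/A_{𝔮_i} annihilated by a power of t and with
t a nonzerodivisor on each B_i. Then A admits some finite extension A ⊂ B whose quotient B/A is
killed by some power of t, such that for every i the localization B_{𝔮_i} = B ⊗_A A_{𝔮_i} is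
isomorphic to B_i (existence of an A_{𝔮_i}-algebra isomorphism; B itself is only asserted to exist).
(The published statement allows any finite ring extensions A_{𝔮_i} ⊂ B_i; this row asks t to be a
nonzerodivisor on each B_i, the case its proof treats, where B_i sits inside t^{-n}A_{𝔮_i}. The
published statement also makes B local with the same residue field as A; this row omits that
clause.) Finite extension with quotient killed by a power of t: CycAlg.IsFinExt with the ideal (t). -/
theorem result (A : Type u) [CommRing A] [IsNoetherianRing A] [IsLocalRing A] (hA : ringKrullDim A = 2) (t : A) (ht : t ∈ IsLocalRing.maximalIdeal A) (htnz : t ∈ nonZeroDivisors A) (r : ℕ) (q : Fin r → Ideal A) (hq : ∀ i, (q i).IsPrime) (hinj : Function.Injective q) (hqm : ∀ i, q i ≠ IsLocalRing.maximalIdeal A) (htq : ∀ i, t ∈ q i) (hV : ∀ p : Ideal A, p.IsPrime → t ∈ p → p = IsLocalRing.maximalIdeal A ∨ ∃ i, p = q i) (B : Fin r → Type u) [∀ i, CommRing (B i)] [∀ i, Algebra (Localization.AtPrime (q i)) (B i)] (hB : ∀ i, CycAlg.IsFinExt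 (Localization.AtPrime (q i)) (B i) (Ideal.span {algebraMap A (Localization.AtPrime (q i)) t})) (htB : ∀ i, IsSMulRegular (B i) (algebraMap A (Localization.AtPrime (q i)) t)) : ∃ (C : Type u) (_ : CommRing C) (_ : Algebra A C), CycAlg.IsFinExt A C (Ideal.span {t}) ∧ ∀ i, Nonempty (TensorProduct A (Localization.AtPrime (q i)) C ≃ₐ[Localization.AtPrime (q i)] B i) := by
  classical
  choose ni hni using fun i => (hB i).2.2
  set n := Finset.univ.sup ni with hn
  letI algB : ∀ i, Algebra A (B i) := fun i => ((algebraMap (Localization.AtPrime (q i)) (B i)).comp (algebraMap A _)).toAlgebra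
  haveI : ∀ i, IsScalarTower A (Localization.AtPrime (q i)) (B i) := fun i => IsScalarTower.of_algebraMap_eq fun _ => rfl
  have hinjB : ∀ i, Function.Injective (algebraMap (Localization.AtPrime (q i)) (B i)) := fun i => (hB i).1
  have hbn : ∀ i, ∀ b : B i, ∃ c, algebraMap (Localization.AtPrime (q i)) (B i) c = algebraMap A (B i) (t ^ n) * b := by
    intro i b
    have h := hni i (algebraMap A _ t ^ n) (Ideal.pow_le_pow_right (Finset.le_sup (Finset.mem_univ i))
      (Ideal.pow_mem_pow (Ideal.mem_span_singleton_self _) n)) b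
    obtain ⟨c, hc⟩ := h
    refine ⟨c, hc.trans ?_⟩
    rw [Algebra.smul_def, IsScalarTower.algebraMap_apply A (Localization.AtPrime (q i)) (B i)]
    simp only [map_pow]
  let e : ∀ i, B i →+* Localization.Away (algebraMap A (B i) t) := fun i => algebraMap _ _
  have htB' : ∀ i, algebraMap A (B i) t ∈ nonZeroDivisors (B i) := by
    intro i
    rw [mem_nonZeroDivisors_iff_right]
    intro z hz
    refine htB i ?_
    simp only [smul_zero]
    rw [Algebra.smul_def, ← IsScalarTower.algebraMap_apply, mul_comm]
    exact hz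
  have he : ∀ i, Function.Injective (e i) := fun i =>
    IsLocalization.injective _ (Submonoid.powers_le.2 (htB' i))
  have hunit : ∀ i, IsUnit (((e i).comp (algebraMap A (B i))) t) := fun i =>
    IsLocalization.Away.algebraMap_isUnit (algebraMap A (B i) t)
  have hst : ∀ i a, algebraMap A (B i) a =
      algebraMap (Localization.AtPrime (q i)) (B i) (algebraMap A (Localization.AtPrime (q i)) a) := fun i a => rfl
  let R := Localization.Away t
  let ψ : ∀ i, R →+* Localization.Away (algebraMap A (B i) t) := fun i => IsLocalization.Away.lift (S := R) t (hunit i)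
  have hψ : ∀ i a, ψ i (algebraMap A R a) = e i (algebraMap A (B i) a) := fun i a => IsLocalization.Away.lift_eq (S := R) t (hunit i) a
  have hA0 : Function.Injective (algebraMap A R) := IsLocalization.injective _ (Submonoid.powers_le.2 htnz)
  have htu : IsUnit (algebraMap A R t) := IsLocalization.Away.algebraMap_isUnit _
  have htun : IsUnit (algebraMap A R (t ^ n)) := by rw [map_pow]; exact htu.pow n
  -- minimality
  have hnle : ∀ i j, q i ≤ q j → i = j := by
    intro i j hij
    by_contra hne
    have hlt : q i < q j := lt_of_le_of_ne hij (fun h => hne (hinj h))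
    have hlt2 : q j < IsLocalRing.maximalIdeal A := lt_of_le_of_ne (IsLocalRing.le_maximalIdeal (hq j).ne_top) (hqm j)
    haveI := hq i
    obtain ⟨P, hP, hPq⟩ := Ideal.exists_minimalPrimes_le (bot_le : (⊥ : Ideal A) ≤ q i)
    have hP' : P ∈ minimalPrimes A := hP
    have hPlt : P < q i := lt_of_le_of_ne hPq (fun h => by
      have := Ideal.disjoint_nonZeroDivisors_of_mem_minimalPrimes hP'
      exact Set.disjoint_left.1 this (h ▸ htq i : t ∈ P) htnz)
    let c0 : PrimeSpectrum A := ⟨P, hP.1.1⟩
    let c1 : PrimeSpectrum A := ⟨q i, hq i⟩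
    let c2 : PrimeSpectrum A := ⟨q j, hq j⟩
    let c3 : PrimeSpectrum A := IsLocalRing.closedPoint A
    let s : LTSeries (PrimeSpectrum A) :=
      { length := 3
        toFun := ![c0, c1, c2, c3]
        step := fun x => by
          fin_cases x
          · exact hPlt
          · exact hlt
          · exact hlt2 }
    have h := Order.LTSeries.length_le_krullDim s
    have hl : s.length = 3 := rfl
    rw [hl] at h
    have : ((3 : ℕ) : WithBot ℕ∞) ≤ 2 := by rw [← hA]; exact h
    norm_cast at this
  have hmnle : ∀ i, ¬ IsLocalRing.maximalIdeal A ≤ q i := fun i h =>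
    hqm i (le_antisymm (IsLocalRing.le_maximalIdeal (hq i).ne_top) h)
  have hloc : ∀ i, ∀ w ∈ q i, ∃ N : ℕ, algebraMap A (Localization.AtPrime (q i)) (w ^ N) ∈
      Ideal.span {algebraMap A (Localization.AtPrime (q i)) (t ^ n)} := by
    intro i w hw
    have : algebraMap A (Localization.AtPrime (q i)) w ∈
        (Ideal.span {algebraMap A (Localization.AtPrime (q i)) (t ^ n)}).radical := by
      rw [Ideal.radical_eq_sInf, Submodule.mem_sInf]
      rintro J ⟨hJ, hJp⟩
      haveI := hJp
      have h1 : t ∈ Ideal.comap (algebraMap A (Localization.AtPrime (q i))) J := (hJp.comap (algebraMap A (Localization.AtPrime (q i)))).mem_of_pow_mem n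
        (hJ (Ideal.mem_span_singleton_self _))
      have h2 : Ideal.comap (algebraMap A (Localization.AtPrime (q i))) J ≤ q i := by
        intro a ha
        by_contra h
        exact hJp.ne_top (Ideal.eq_top_of_isUnit_mem _ ha (IsLocalization.map_units _ (⟨a, h⟩ : (q i).primeCompl)))
      rcases hV _ (hJp.comap (algebraMap A (Localization.AtPrime (q i)))) h1 with h | ⟨j, h⟩
      · exact absurd (h ▸ h2) (hmnle i)
      · have e' := hnle j i (h ▸ h2)
        show w ∈ Ideal.comap (algebraMap A (Localization.AtPrime (q i))) J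
        rw [h, e']; exact hw
    obtain ⟨N, hN⟩ := this
    exact ⟨N, by rw [map_pow (algebraMap A (Localization.AtPrime (q i))) w N]; exact hN⟩
  -- the module
  let S : ∀ i, Subring (Localization.Away (algebraMap A (B i) t)) := fun i => (e i).range
  let M : Submodule A R :=
    { carrier := {x | (∃ a, algebraMap A R a = t ^ n • x) ∧ ∀ i, ψ i x ∈ S i}
      zero_mem' := ⟨⟨0, by simp⟩, fun i => by simp⟩
      add_mem' := by
        rintro x y ⟨⟨a, ha⟩, hx⟩ ⟨⟨b, hb⟩, hy⟩
        exact ⟨⟨a + b, by simp [ha, hb]⟩, fun i => by rw [map_add]; exact add_mem (hx i) (hy i)⟩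
      smul_mem' := by
        rintro c x ⟨⟨a, ha⟩, hx⟩
        exact ⟨⟨c * a, by rw [map_mul, ha, ← Algebra.smul_def, smul_comm]⟩,
          fun i => by rw [Algebra.smul_def, map_mul, hψ]; exact mul_mem ⟨_, rfl⟩ (hx i)⟩ }
  let L : Ideal A := ⨅ i, (Ideal.span {algebraMap A (Localization.AtPrime (q i)) (t ^ n)}).comap (algebraMap A _)
  have hkey : ∀ y : R, (∃ a, algebraMap A R a = t ^ (n + n) • y) → (∀ i, ψ i y ∈ S i) →
      ∃ a ∈ L, algebraMap A R a = t ^ (n + n) • y := by
    rintro y ⟨a, ha⟩ hy
    refine ⟨a, Submodule.mem_iInf _ |>.2 fun i => ?_, ha⟩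
    obtain ⟨b, hb⟩ := hy i
    obtain ⟨c, hc⟩ := hbn i b
    rw [Ideal.mem_comap, Ideal.mem_span_singleton]
    refine ⟨c, hinjB i (he i ?_)⟩
    rw [← hst, map_mul (algebraMap (Localization.AtPrime (q i)) (B i)), ← hst, hc,
      ← hψ, ha, Algebra.smul_def, map_mul, hψ, ← hb, ← map_mul, ← mul_assoc, ← map_mul (algebraMap A (B i)), ← pow_add]
  have hk : ∃ k : ℕ, IsLocalRing.maximalIdeal A ^ k * L ≤ Ideal.span {t ^ n} := by
    have hle : IsLocalRing.maximalIdeal A ≤ ((Ideal.span {t ^ n}).colon (L : Set A)).radical := by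
      rw [Ideal.radical_eq_sInf]
      refine le_sInf ?_
      rintro P ⟨hP, hPp⟩
      have hsub : Ideal.span {t ^ n} ≤ (Ideal.span {t ^ n}).colon (L : Set A) := fun z hz =>
        Submodule.mem_colon.2 fun l _ => Ideal.mul_mem_right _ _ hz
      rcases hV P hPp (hPp.mem_of_pow_mem n (hP (hsub (Ideal.mem_span_singleton_self _)))) with h | ⟨i, h⟩
      · exact h.ge
      · exfalso
        obtain ⟨G, hG⟩ := (IsNoetherian.noetherian L : L.FG)
        have : ∀ g ∈ G, ∃ s ∉ q i, s * g ∈ Ideal.span {t ^ n} := by
          intro g hg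
          have hgL : g ∈ L := hG ▸ Ideal.subset_span hg
          have := (Submodule.mem_iInf _).1 hgL i
          rw [Ideal.mem_comap, Ideal.mem_span_singleton] at this
          obtain ⟨c, hc⟩ := this
          obtain ⟨a, s, rfl⟩ := IsLocalization.exists_mk'_eq (q i).primeCompl c
          rw [IsLocalization.mul_mk'_eq_mk'_of_mul, IsLocalization.eq_mk'_iff_mul_eq, ← map_mul,
            IsLocalization.eq_iff_exists (q i).primeCompl] at hc
          obtain ⟨c', hc'⟩ := hc
          refine ⟨c' * s, (q i).primeCompl.mul_mem c'.2 s.2, Ideal.mem_span_singleton.2 ⟨c' * a, ?_⟩⟩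
          linear_combination hc'
        choose! s hs1 hs2 using this
        have hmem : ∏ g ∈ G, s g ∈ (Ideal.span {t ^ n}).colon (L : Set A) := by
          refine Submodule.mem_colon.2 fun l hl => ?_
          have hl' : l ∈ Ideal.span (G : Set A) := by rw [show Ideal.span (G : Set A) = L from hG]; exact hl
          induction hl' using Submodule.span_induction with
          | mem g hg =>
            rw [smul_eq_mul, ← Finset.prod_erase_mul _ _ hg, mul_assoc]
            exact Ideal.mul_mem_left _ _ (hs2 g hg)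
          | zero => simp
          | add a b ha hb iha ihb =>
            rw [smul_add]; exact add_mem (iha (by rw [← hG]; exact ha)) (ihb (by rw [← hG]; exact hb))
          | smul a b hb ih =>
            rw [smul_comm]; exact Ideal.mul_mem_left _ _ (ih (by rw [← hG]; exact hb))
        obtain ⟨g, hg, hgq⟩ := (hq i).prod_mem_iff.1 (h ▸ hP hmem : ∏ g ∈ G, s g ∈ q i)
        exact hs1 g hg hgq
    obtain ⟨k, hk⟩ := Ideal.exists_pow_le_of_le_radical_of_fg hle (IsNoetherian.noetherian _)
    refine ⟨k, Ideal.mul_le.2 fun w hw l hl => ?_⟩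
    exact Submodule.mem_colon.1 (hk hw) l hl
  obtain ⟨k, hk⟩ := hk
  let D : Submodule A R := (IsLocalRing.maximalIdeal A ^ k) • M
  have hDM : D ≤ M := Submodule.smul_le_right
  have hmulM : ∀ w ∈ IsLocalRing.maximalIdeal A ^ k, ∀ x ∈ M, ∀ y ∈ M, w • (x * y) ∈ M := by
    rintro w hw x ⟨⟨a, ha⟩, hx⟩ y ⟨⟨b, hb⟩, hy⟩
    have hψxy : ∀ i, ψ i (x * y) ∈ S i := fun i => by rw [map_mul]; exact mul_mem (hx i) (hy i)
    obtain ⟨c, hcL, hc⟩ := hkey (x * y) ⟨a * b, by rw [map_mul, ha, hb, smul_mul_smul_comm, pow_add]⟩ hψxy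
    obtain ⟨c', hc'⟩ := Ideal.mem_span_singleton.1 (hk (Ideal.mul_mem_mul hw hcL))
    refine ⟨⟨c', htun.mul_left_cancel ?_⟩,
      fun i => by rw [Algebra.smul_def, map_mul, hψ]; exact mul_mem ⟨_, rfl⟩ (hψxy i)⟩
    rw [← map_mul, ← hc', map_mul, hc, Algebra.smul_def, Algebra.smul_def, Algebra.smul_def, pow_add, map_mul]
    ring
  have hmulD : ∀ x ∈ D, ∀ y ∈ D, x * y ∈ D := by
    intro x hx y hy
    induction hx using Submodule.smul_induction_on' with
    | smul w hw x' hx' =>
      induction hy using Submodule.smul_induction_on' with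
      | smul w' hw' y' hy' =>
        rw [smul_mul_assoc, mul_smul_comm, smul_comm]
        exact Submodule.smul_mem_smul hw' (hmulM w hw x' hx' y' hy')
      | add a ha b hb iha ihb => rw [mul_add]; exact add_mem iha ihb
    | add a ha b hb iha ihb => rw [add_mul]; exact add_mem iha ihb
  let C : Subalgebra A R := Submodule.toSubalgebra (1 ⊔ D) (Submodule.mem_sup_left (Submodule.one_le.1 le_rfl)) (by
    intro x y hx hy
    obtain ⟨x0, hx0, x1, hx1, rfl⟩ := Submodule.mem_sup.1 hx
    obtain ⟨y0, hy0, y1, hy1, rfl⟩ := Submodule.mem_sup.1 hy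
    obtain ⟨a, rfl⟩ := Submodule.mem_one.1 hx0
    obtain ⟨b, rfl⟩ := Submodule.mem_one.1 hy0
    refine Submodule.mem_sup.2 ⟨algebraMap A R (a * b), Submodule.mem_one.2 ⟨_, rfl⟩, a • y1 + b • x1 + x1 * y1,
      add_mem (add_mem (D.smul_mem a hy1) (D.smul_mem b hx1)) (hmulD _ hx1 _ hy1), ?_⟩
    rw [Algebra.smul_def, Algebra.smul_def, map_mul]
    ring)
  have hCn : ∀ x ∈ C, (∃ a, algebraMap A R a = t ^ n • x) ∧ ∀ i, ψ i x ∈ S i := by
    intro x hx
    obtain ⟨x0, hx0, x1, hx1, rfl⟩ := Submodule.mem_sup.1 (hx : x ∈ (1 : Submodule A R) ⊔ D)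
    obtain ⟨a, rfl⟩ := Submodule.mem_one.1 hx0
    have : algebraMap A R a + x1 ∈ M := M.add_mem
      ⟨⟨t ^ n * a, by rw [Algebra.smul_def, map_mul]⟩, fun i => by rw [hψ]; exact ⟨_, rfl⟩⟩ (hDM hx1)
    exact this
  refine ⟨C, inferInstance, inferInstance, ⟨?_, ?_, n, ?_⟩, fun i => ?_⟩
  · intro a b h
    exact hA0 (congrArg Subtype.val h)
  · refine Module.Finite.iff_fg (N := Subalgebra.toSubmodule C) |>.2 ?_
    have hle : (1 : Submodule A R) ⊔ D ≤ 1 ⊔ Submodule.span A {IsLocalization.Away.invSelf (S := R) t ^ n} := by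
      refine sup_le_sup_left (fun x hx => ?_) _
      obtain ⟨a, ha⟩ := (hDM hx).1
      refine Submodule.mem_span_singleton.2 ⟨a, ?_⟩
      rw [Algebra.smul_def, ha, Algebra.smul_def, map_pow, mul_comm (algebraMap A R t ^ n) x, mul_assoc, ← mul_pow,
        IsLocalization.Away.mul_invSelf, one_pow, mul_one]
    refine Submodule.FG.of_le ?_ hle
    exact Submodule.FG.sup (by rw [Submodule.one_eq_span]; exact Submodule.fg_span_singleton _) (Submodule.fg_span_singleton _)
  · intro r hr b
    rw [Ideal.span_singleton_pow, Ideal.mem_span_singleton] at hr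
    obtain ⟨c, rfl⟩ := hr
    obtain ⟨a, ha⟩ := (hCn b.1 b.2).1
    exact ⟨c * a, Subtype.ext (by
      rw [Subalgebra.coe_algebraMap, Subalgebra.coe_smul, map_mul, ha, ← Algebra.smul_def, mul_comm, mul_smul])⟩
  · choose g0 hg0 using fun x : C => (hCn x.1 x.2).2 i
    let g : C →ₐ[A] B i :=
      { toFun := g0
        map_one' := he i (by rw [hg0, map_one]; exact map_one _)
        map_zero' := he i (by rw [hg0, map_zero]; exact map_zero _)
        map_mul' := fun x y => he i (by rw [map_mul, hg0, hg0, hg0]; exact map_mul _ _ _)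
        map_add' := fun x y => he i (by rw [map_add, hg0, hg0, hg0]; exact map_add _ _ _)
        commutes' := fun a => he i (by rw [hg0]; exact hψ i a) }
    have hg : ∀ x, e i (g x) = ψ i x.1 := hg0
    let φ := Algebra.TensorProduct.lift (Algebra.ofId (Localization.AtPrime (q i)) (B i)) g (fun _ _ => Commute.all _ _)
    refine ⟨AlgEquiv.ofBijective φ ⟨?_, ?_⟩⟩
    · have hform : ∀ z : TensorProduct A (Localization.AtPrime (q i)) C, ∃ (s : (q i).primeCompl) (c : C),
          z = IsLocalization.mk' (Localization.AtPrime (q i)) (1 : A) s ⊗ₜ[A] c := by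
        intro z
        induction z using TensorProduct.induction_on with
        | zero => exact ⟨1, 0, by rw [TensorProduct.tmul_zero]⟩
        | tmul w c =>
          obtain ⟨a, s, rfl⟩ := IsLocalization.exists_mk'_eq (q i).primeCompl w
          exact ⟨s, a • c, by rw [← TensorProduct.smul_tmul, IsLocalization.smul_mk', mul_one]⟩
        | add x y hx hy =>
          obtain ⟨s, c, rfl⟩ := hx
          obtain ⟨s', c', rfl⟩ := hy
          refine ⟨s * s', (s' : A) • c + (s : A) • c', ?_⟩
          rw [TensorProduct.tmul_add, ← TensorProduct.smul_tmul, ← TensorProduct.smul_tmul, IsLocalization.smul_mk',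
            IsLocalization.smul_mk', mul_one, mul_one]
          congr 2
          · exact (IsLocalization.mk'_eq_of_eq (by rw [Submonoid.coe_mul]; ring))
          · exact (IsLocalization.mk'_eq_of_eq (by rw [Submonoid.coe_mul]; ring))
      rw [injective_iff_map_eq_zero]
      intro z hz
      obtain ⟨s, c, rfl⟩ := hform z
      rw [Algebra.TensorProduct.lift_tmul] at hz
      have hu : IsUnit (Algebra.ofId (Localization.AtPrime (q i)) (B i) (IsLocalization.mk' _ (1 : A) s)) :=
        (IsUnit.of_mul_eq_one _ ((IsLocalization.mk'_spec _ (1 : A) s).trans (map_one _))).map _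
      have hgc : g c = 0 := hu.mul_right_eq_zero.1 hz
      obtain ⟨a, ha⟩ := (hCn c.1 c.2).1
      have ha0 : algebraMap A (Localization.AtPrime (q i)) a = 0 := hinjB i (he i (by
        rw [← hst, map_zero, map_zero, ← hψ, ha, Algebra.smul_def, map_mul, ← hg, hgc,
          map_zero, mul_zero]))
      obtain ⟨s', hs'⟩ := (IsLocalization.map_eq_zero_iff (q i).primeCompl _ a).1 ha0
      have hc0 : (s' : A) • c = 0 := Subtype.ext (htun.mul_left_cancel (by
        rw [Subalgebra.coe_smul, ZeroMemClass.coe_zero, mul_zero, ← Algebra.smul_def, smul_comm, ← ha, Algebra.smul_def,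
          ← map_mul, hs', map_zero]))
      have : IsLocalization.mk' (Localization.AtPrime (q i)) (1 : A) s =
          (s' : A) • IsLocalization.mk' (Localization.AtPrime (q i)) (1 : A) (s * s') := by
        rw [IsLocalization.smul_mk']
        exact IsLocalization.mk'_eq_of_eq (by rw [Submonoid.coe_mul]; ring)
      rw [this, TensorProduct.smul_tmul, hc0, TensorProduct.tmul_zero]
    · intro b
      obtain ⟨c, hc⟩ := hbn i b
      obtain ⟨a, s, rfl⟩ := IsLocalization.exists_mk'_eq (q i).primeCompl c
      have hu : ∀ l, ∃ u ∉ q i, l ≠ i → algebraMap A (Localization.AtPrime (q l)) u ∈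
          Ideal.span {algebraMap A (Localization.AtPrime (q l)) (t ^ n)} := by
        intro l
        by_cases hl : l = i
        · exact ⟨1, (hq i).one_notMem, fun h => absurd hl h⟩
        · obtain ⟨w, hw, hwi⟩ := SetLike.not_le_iff_exists.1 (fun h => hl (hnle l i h))
          obtain ⟨N, hN⟩ := hloc l w hw
          exact ⟨w ^ N, fun h => hwi ((hq i).mem_of_pow_mem _ h), fun _ => hN⟩
      choose u hu1 hu2 using hu
      obtain ⟨w, hw, hwi⟩ := SetLike.not_le_iff_exists.1 (hmnle i)
      let x : R := algebraMap A R (a * ∏ l, u l) * IsLocalization.Away.invSelf t ^ n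
      have hx : algebraMap A R (a * ∏ l, u l) = t ^ n • x := by
        rw [Algebra.smul_def, map_pow, mul_left_comm, ← mul_pow, IsLocalization.Away.mul_invSelf, one_pow, mul_one]
      have hsplit : ∀ l y, e l (algebraMap A (B l) (a * ∏ l, u l)) = e l (algebraMap A (B l) (t ^ n) * y) → ψ l x = e l y := by
        intro l y h
        refine (IsUnit.map (ψ l) htun).mul_left_cancel ?_
        rw [← map_mul, ← Algebra.smul_def, ← hx, hψ, h, map_mul, hψ]
      have hxi : ψ i x = e i (b * algebraMap A (B i) (s * ∏ l, u l)) := hsplit i _ (congrArg (e i) (by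
        rw [← mul_assoc, ← hc, map_mul, map_mul, ← mul_assoc,
          IsScalarTower.algebraMap_apply A (Localization.AtPrime (q i)) (B i) (s : A),
          ← map_mul (algebraMap (Localization.AtPrime (q i)) (B i)), IsLocalization.mk'_spec,
          ← IsScalarTower.algebraMap_apply]))
      have hxM : x ∈ M := by
        refine ⟨⟨_, hx⟩, fun l => ?_⟩
        by_cases hl : l = i
        · subst hl; exact ⟨_, hxi.symm⟩
        · obtain ⟨c', hc'⟩ := Ideal.mem_span_singleton.1 (hu2 l hl)
          refine ⟨algebraMap (Localization.AtPrime (q l)) (B l) (algebraMap A _ (a * ∏ j ∈ Finset.univ.erase l, u j) * c'),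
            (hsplit l _ (congrArg (e l) ?_)).symm⟩
          rw [IsScalarTower.algebraMap_apply A (Localization.AtPrime (q l)) (B l),
            IsScalarTower.algebraMap_apply A (Localization.AtPrime (q l)) (B l) (t ^ n),
            ← map_mul (algebraMap (Localization.AtPrime (q l)) (B l)), mul_left_comm, ← hc', ← map_mul,
            mul_assoc a, Finset.prod_erase_mul _ _ (Finset.mem_univ l)]
      have hvx : w ^ k • x ∈ C := Submodule.mem_sup_right (Submodule.smul_mem_smul (Ideal.pow_mem_pow hw k) hxM)
      have hs : (s : A) * (∏ l, u l) * w ^ k ∈ (q i).primeCompl := by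
        refine (q i).primeCompl.mul_mem ((q i).primeCompl.mul_mem s.2 ?_) (fun h => hwi ((hq i).mem_of_pow_mem _ h))
        exact fun h => by
          obtain ⟨l, _, hl⟩ := (hq i).prod_mem_iff.1 h
          exact hu1 l hl
      refine ⟨IsLocalization.mk' _ (1 : A) (⟨_, hs⟩ : (q i).primeCompl) ⊗ₜ[A] ⟨_, hvx⟩, ?_⟩
      have hgv : g ⟨_, hvx⟩ = b * algebraMap A (B i) ((s : A) * (∏ l, u l) * w ^ k) := he i (by
        rw [hg]
        show ψ i (w ^ k • x) = _
        rw [Algebra.smul_def, map_mul, hψ, hxi, ← map_mul, map_mul (algebraMap A (B i)), map_mul (algebraMap A (B i))]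
        congr 1
        simp only [map_mul]
        ring)
      rw [Algebra.TensorProduct.lift_tmul, hgv, Algebra.ofId_apply,
        hst, mul_left_comm, ← map_mul, IsLocalization.mk'_spec _ (1 : A) (⟨_, hs⟩ : (q i).primeCompl), map_one, map_one, mul_one]

end Groth.Agent.S6481
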