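import Groth.Statements.S6487
import Groth.Agent.CurveRR24.RatPoint
import Groth.Agent.CurveRR24.BCField
import Groth.Agent.CurveRR24.SmoothPoint
import Groth.Agent.CurveRR24.Degree
import Groth.Agent.VarietyLib.ProperCurveAmple
import Groth.Agent.VarietyLib.Dual
import Groth.Agent.Surf15.Transfer
import Groth.Agent.CycLib28.PB.Ops.LocFree
import Groth.Agent.WeilLib.Geom
import Groth.Agent.Coherent.SupportPullback
-- import your own Groth.Agent.* helpers here

set_option autoImplicit false
set_option linter.style.haveILetI false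
set_option backward.isDefEq.respectTransparency.types false
universe u
open CategoryTheory CategoryTheory.Limits AlgebraicGeometry
open PicF

namespace Groth.Agent.S6487

open CategoryTheory CategoryTheory.Limits AlgebraicGeometry TopologicalSpace in
open Groth.Agent Groth.Agent.Coherent Groth.Agent.PicLib Groth.Agent.AmpleLib Groth.Agent.EulerLib in
/-- Let k be a separably closed field, X a smooth projective curve over k, K/k a field extension and L
an invertible sheaf on X_K. Then there is an invertible sheaf L_0 on X with dim_K H^0(X_K, L ⊗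
L_0|_{X_K}) = 1 and H^1(X_K, L ⊗ L_0|_{X_K}) = 0. The base change X_K is given as any pullback
square over Spec K → Spec k with its K-structure; L_0|_{X_K} is the pullback module and ⊗ is
CohB1.tensorMod; proper replaces projective (equivalent for curves over a field). -/
theorem result (k : Type u) [Field k] [IsSepClosed k] (X : Scheme.{u}) [X.Over (Spec (CommRingCat.of k))] (hX : Curve.IsSmoothProperCurve k X (X ↘ Spec (CommRingCat.of k))) (K : Type u) [Field K] [Algebra k K] (XK : Scheme.{u}) [XK.Over (Spec (CommRingCat.of K))] (g : XK ⟶ X) (hpb : IsPullback g (XK ↘ Spec (CommRingCat.of K)) (X ↘ Spec (CommRingCat.of k)) (Spec.map (CommRingCat.ofHom (algebraMap k K)))) (L : XK.Modules) (hL : PicF.IsInvertible L) : ∃ L₀ : X.Modules, PicF.IsInvertible L₀ ∧ Module.finrank K (Coh.HH XK (CohB1.tensorMod L ((Scheme.Modules.pullback g).obj L₀)) 0) = 1 ∧ Subsingleton (Coh.HH XK (CohB1.tensorMod L ((Scheme.Modules.pullback g).obj L₀)) 1) := by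
  obtain ⟨hp, hsm, hint, hdim⟩ := hX
  haveI := hp
  haveI := hsm
  haveI := hint
  haveI := isNoetherian_of_proper (X := X) k
  haveI : IsProper (XK ↘ Spec (CommRingCat.of K)) := MorphismProperty.of_isPullback (P := @IsProper) hpb hp
  haveI : Smooth (XK ↘ Spec (CommRingCat.of K)) := MorphismProperty.of_isPullback (P := @Smooth) hpb hsm
  haveI : Flat (Spec.map (CommRingCat.ofHom (algebraMap k K))) := by
    rw [HasRingHomProperty.Spec_iff (P := @Flat)]
    exact RingHom.flat_algebraMap_iff.2 inferInstance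
  haveI : Flat g := MorphismProperty.of_isPullback (P := @Flat) hpb.flip inferInstance
  haveI : UniversallyOpen g := MorphismProperty.of_isPullback (P := @UniversallyOpen) hpb.flip inferInstance
  haveI : IsAffineHom g :=
    MorphismProperty.IsStableUnderBaseChange.of_isPullback (P := @IsAffineHom) hpb.flip inferInstance
  haveI := isNoetherian_of_proper (X := XK) K
  haveI := isSeparated_of_proper (X := X) k
  haveI := isSeparated_of_proper (X := XK) K
  haveI : IsReduced XK := WeilLib.isReduced_of_smooth (XK ↘ Spec (CommRingCat.of K))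
  have hdimK : topologicalKrullDim XK = ((1 : ℕ) : WithBot ℕ∞) := by
    rw [IsHomeomorph.topologicalKrullDim_eq _ (Scheme.homeoOfIso hpb.isoPullback).isHomeomorph,
      DimLib.topologicalKrullDim_bc (X ↘ Spec (CommRingCat.of k)) K, hdim]
    rfl
  have hdK1 : topologicalKrullDim XK ≤ 1 := hdimK.le
  obtain ⟨H, -, hH⟩ := VarietyLib.exists_ample_of_dim_le_one k (X := X) hdim.le
  let G : X.Modules → XK.Modules := fun N => CohB1.tensorMod L ((Scheme.Modules.pullback g).obj N)
  have hG : ∀ {N : X.Modules}, PicF.IsInvertible N → PicF.IsInvertible (G N) := fun hN =>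
    isInvertible_tensorMod hL (PicLoc.isInvertible_pullback g hN)
  -- a twist without `H¹` and with sections
  have start : ∃ N : X.Modules, PicF.IsInvertible N ∧ Subsingleton (Coh.HH XK (G N) 1) ∧
      1 ≤ Module.finrank K (Coh.HH XK (G N) 0) := by
    let H' := (Scheme.Modules.pullback g).obj H
    have hH' : CohB1.IsAmple H' := isAmple_pullback_of_isAffineHom g hH
    obtain ⟨n₀, hn₀⟩ := Serre.exists_subsingleton_HH_twist (A := CommRingCat.of K) hH' L
      (PicLib.isCoh_of_isInvertible hL)
    have hiso : ∀ n, Nonempty (G (CohB1.tensorPow H n) ≅ CohB1.tensorMod L (CohB1.tensorPow H' n)) := fun n => by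
      obtain ⟨e, -⟩ := exists_pullPowIso g hH.1 n
      exact ⟨AmpleLib.tensorIso (Iso.refl L) e⟩
    have hsub : ∀ n, n₀ ≤ n → Subsingleton (Coh.HH XK (G (CohB1.tensorPow H n)) 1) := fun n hn =>
      CurveRR24.subsingleton_HH_congr (hiso n).some.symm 1 (hn₀ n hn 1 Nat.one_pos)
    refine ⟨CohB1.tensorPow H (n₀ + 1), isInvertible_tensorPow hH.1 _, hsub _ (Nat.le_succ _), ?_⟩
    set l := InvCl.mk L hL
    set h := InvCl.mk H' hH'.1
    have hchi : ∀ n, n₀ ≤ n → chiCl K (Coh.structureModule XK) (l * h ^ n) =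
        (Module.finrank K (Coh.HH XK (G (CohB1.tensorPow H n)) 0) : ℤ) := fun n hn => by
      have hi := isInvertible_tensorMod hL (isInvertible_tensorPow hH'.1 n)
      rw [← InvCl.mk_tensorPow hH'.1, InvCl.mk_mul, chiCl_mk, euler_congr K XK (AmpleLib.unitTensorIso _),
        ← euler_congr K XK (hiso n).some,
        CurveRR24.euler_eq_h0_sub_h1 K hdK1 _ (isQCoh_of_isInvertible (hG (isInvertible_tensorPow hH.1 n)))]
      haveI := hsub n hn
      rw [Module.finrank_zero_of_subsingleton (M := Coh.HH XK (G (CohB1.tensorPow H n)) 1)]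
      simp
    have hdeg : ClDeg (1 + 1) (chiCl K (Coh.structureModule XK)) :=
      clDeg_chiCl K (isCoh_structureModule XK) (r := 1) ((dim_mono (Set.subset_univ _)).trans
        ((IsHomeomorph.topologicalKrullDim_eq _ (Homeomorph.Set.univ XK).isHomeomorph).le.trans hdimK.le))
    have hpos : 0 < interDeg (fun _ : Fin 1 => h) (chiCl K (Coh.structureModule XK)) :=
      interDeg_pos K 1 (fun _ => H') (fun _ => hH') _ (isCoh_structureModule XK) (by
        rw [Surf15.support_structureModule_univ]
        exact (IsHomeomorph.topologicalKrullDim_eq _ (Homeomorph.Set.univ XK).isHomeomorph).trans hdimK)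
    rw [← VarietyLib.interDeg_translate hdeg (l * h ^ n₀) (fun _ : Fin 1 => h),
      show (fun _ : Fin 1 => h) = Fin.cons h Fin.elim0 from funext fun i => by fin_cases i; rfl,
      interDeg_cons, interDeg_zero] at hpos
    rw [mul_one, mul_one, mul_assoc, ← pow_succ, hchi (n₀ + 1) (Nat.le_succ _), hchi n₀ le_rfl] at hpos
    omega
  -- a point dropping the sections by one
  have step : ∀ N : X.Modules, PicF.IsInvertible N → Subsingleton (Coh.HH XK (G N) 1) →
      2 ≤ Module.finrank K (Coh.HH XK (G N) 0) → ∃ N' : X.Modules, PicF.IsInvertible N' ∧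
        Subsingleton (Coh.HH XK (G N') 1) ∧
          Module.finrank K (Coh.HH XK (G N') 0) + 1 = Module.finrank K (Coh.HH XK (G N) 0) := by
    intro N hN h1 h2
    let φ := baseHom K XK
    let M := G N
    haveI : Nontrivial (GA φ M) := by
      haveI : Nontrivial (Coh.HH XK M 0) := Module.nontrivial_of_finrank_pos (R := K) (lt_of_lt_of_le two_pos h2)
      exact (CurveRR24.hhZero K M).symm.toEquiv.nontrivial
    obtain ⟨t, ht⟩ := exists_ne (0 : GA φ M)
    let σ : Γ(M, ⊤) := t
    have hne : (glocus M σ : Set XK).Nonempty := by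
      by_contra hemp
      refine ht ?_
      show σ = 0
      refine AmpleLib.sec_ext M _ _ fun z _ => ?_
      obtain ⟨W, hzW, e, he⟩ := exists_isGen (hG hN) z
      refine ⟨W, le_top, hzW, ?_⟩
      rw [map_zero]
      have hbo : XK.basicOpen (he.coef le_rfl (resM M le_top σ)) = ⊥ := by
        rw [← glocus_inf σ he]
        exact le_bot_iff.1 fun w hw => hemp ⟨w, hw.1⟩
      have h := he.coef_spec le_rfl (resM M le_top σ)
      rw [(basicOpen_eq_bot_iff _).1 hbo, zero_smul] at h
      exact h.symm
    let O : X.Opens := ⟨g '' (glocus M σ : Set XK), g.isOpenMap _ (glocus M σ).2⟩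
    obtain ⟨x₀, hx₀⟩ : (O : Set X).Nonempty := hne.image g
    obtain ⟨s, hs, hsO⟩ := Et18.SepPointOpen.exists_point_mem (X ↘ Spec (CommRingCat.of k)) O x₀ hx₀
    let pt : Spec (CommRingCat.of k) := (default : PrimeSpectrum k)
    let P := s pt
    have hPc : IsClosed ({P} : Set X) := CurveRR24.isClosed_section_point s hs pt
    obtain ⟨z, hz, hgz⟩ := hsO pt
    haveI hreg : IsRegularLocalRing (X.presheaf.stalk P) :=
      VarietyLib.isRegularLocalRing_stalk_of_smooth k _ (X ↘ Spec (CommRingCat.of k)) P
    have hI : PicF.IsInvertible (ClSub.idealMod (CurveRR24.ptIdeal P hPc)) := by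
      haveI : IsDomain (X.presheaf.stalk P) := inferInstance
      haveI : IsDiscreteValuationRing (X.presheaf.stalk P) := by
        refine IsLocalRing.finrank_CotangentSpace_eq_one_iff.1 ?_
        have h := (IsRegularLocalRing.iff_finrank_cotangentSpace (X.presheaf.stalk P)).1 inferInstance
        rw [CurveRR24.stalk_dim_eq_one (hdim.trans (by rfl)) hPc] at h
        exact_mod_cast h
      exact CurveRR24.isInvertible_ptIdeal_of_dvr hPc
    let I := ClSub.idealMod (CurveRR24.ptIdeal P hPc)
    let S := CurveRR24.ptSeq hPc N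
    have hS : S.ShortExact := CurveRR24.shortExact_ptSeq hPc hN
    obtain ⟨c1, c2, c3⟩ := CurveRR24.isCoh_ptSeq k hPc hN
    let S' := S.map (Scheme.Modules.pullback g)
    have hS' : S'.ShortExact := CycLib28.PB.Ops.shortExact_pullback g hS
    let S'' := twistSeq S' L
    have hS'' : S''.ShortExact := twistSeq_shortExact hL hS'
    have hc : ∀ {F : X.Modules}, Coh.IsCoh F → Coh.IsCoh (CohB1.tensorMod ((Scheme.Modules.pullback g).obj F) L) :=
      fun {F} hF => isCoh_twist hL (ZClosLib.isCoh_pullback g _ hF)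
    have d1 : Coh.IsCoh S''.X₁ := hc c1
    have d2 : Coh.IsCoh S''.X₂ := hc c2
    have d3 : Coh.IsCoh S''.X₃ := hc c3
    have e2 : S''.X₂ ≅ M := AmpleLib.tensorComm _ _ ≪≫
      AmpleLib.tensorIso (Iso.refl L) ((Scheme.Modules.pullback g).mapIso (AmpleLib.unitTensorIso N))
    have e1 : S''.X₁ ≅ G (CohB1.tensorMod N I) := AmpleLib.tensorComm _ _ ≪≫
      AmpleLib.tensorIso (Iso.refl L) ((Scheme.Modules.pullback g).mapIso (AmpleLib.tensorComm I N))
    -- the skyscraper
    have hT : IsClosed (g ⁻¹' ({P} : Set X)) := hPc.preimage g.continuous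
    let Q := CohB1.tensorMod (ClSub.quotMod (CurveRR24.ptIdeal P hPc)) N
    have hsuppQ' : CohB1.support S''.X₃ = g ⁻¹' CohB1.support Q :=
      (support_twist hL _).trans (support_pullback_qcoh g c3.1 c3.2)
    have hdT : topologicalKrullDim (CohB1.support S''.X₃) < ((1 : ℕ) : WithBot ℕ∞) := by
      let φ' := hpb.isoPullback.hom
      let Z' : Set ↥(pullback (X ↘ Spec (CommRingCat.of k)) (Spec.map (CommRingCat.ofHom (algebraMap k K)))) :=
        DimLib.bcFst (X ↘ Spec (CommRingCat.of k)) K ⁻¹' {P}
      have hZ' : IsClosed Z' := hPc.preimage (Scheme.Hom.continuous _)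
      have hsub : ∀ w : CohB1.support S''.X₃, φ' w.1 ∈ Z' := fun w => by
        have hw : g w.1 ∈ CohB1.support Q := hsuppQ'.le w.2
        show DimLib.bcFst (X ↘ Spec (CommRingCat.of k)) K (φ' w.1) = P
        rw [← Scheme.Hom.comp_apply, hpb.isoPullback_hom_fst]
        exact CurveRR24.support_twist_ptQuot hPc hN hw
      have hind : Topology.IsInducing (fun w : CohB1.support S''.X₃ => (⟨φ' w.1, hsub w⟩ : Z')) :=
        (Topology.IsInducing.subtypeVal (t := Z')).of_comp_iff.1
          ((Scheme.homeoOfIso hpb.isoPullback).isInducing.comp Topology.IsInducing.subtypeVal)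
      refine hind.topologicalKrullDim_le.trans_lt (lt_of_le_of_lt ?_ (by norm_num : ((0 : ℕ) : WithBot ℕ∞) < ((1 : ℕ) : WithBot ℕ∞)))
      rw [DimLib.topologicalKrullDim_closed_eq_iSup (DimLib.bcStr (X ↘ Spec (CommRingCat.of k)) K) hZ']
      refine iSup_le fun w => ?_
      have h := DimLib.ptDim_bc_le (X ↘ Spec (CommRingCat.of k)) K w.1
      rw [show DimLib.bcFst (X ↘ Spec (CommRingCat.of k)) K w.1 = P from w.2,
        (DimLib.ptDim_eq_zero_iff _ P).2 hPc] at h
      exact_mod_cast h
    have hχ : Curv2.euler K XK S''.X₃ = 1 := by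
      haveI := c3.1
      show Curv2.euler K XK (CohB1.tensorMod ((Scheme.Modules.pullback g).obj Q) L) = 1
      erw [CurveRR24.euler_twist_of_small K (ZClosLib.isCoh_pullback g _ c3) hL
        ((dim_mono (le_of_eq (support_twist hL _).symm)).trans_lt hdT), CurveRR24.euler_bc hpb,
        CurveRR24.euler_twist_ptQuot hPc k hN, CurveRR24.finrank_resField_section s hs pt]
      rfl
    have h03 : Module.finrank K (Coh.HH XK S''.X₃ 0) = 1 := by
      rw [euler_eq_sum K XK S''.X₃ 0 fun q hq => (haveI := d3.1; subsingleton_HH_of_support (X := XK)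
        ⟨CohB1.support S''.X₃, isClosed_support _ (locallyFinGen_of_isFT _ d3.2)⟩ _ d3.1 subset_rfl q
          (hdT.trans_le (by exact_mod_cast hq)))] at hχ
      simpa [Finset.sum_range_succ] using hχ
    have hPQ : P ∈ CohB1.support Q := by
      rcases (CurveRR24.support_twist_ptQuot hPc hN : CohB1.support Q ⊆ {P}) with hsub
      by_contra hP
      have hemp : CohB1.support Q = ∅ := Set.eq_empty_iff_forall_notMem.2 fun w hw => hP ((hsub hw : w = P) ▸ hw)
      have h := euler_of_isZero k X (isZero_of_support_eq_empty hemp)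
      rw [CurveRR24.euler_twist_ptQuot hPc k hN, CurveRR24.finrank_resField_section s hs pt] at h
      simp at h
    -- surjectivity on sections
    let f₂ : GA φ S''.X₂ →ₗ[K] GA φ S''.X₃ := mapGA φ S''.g
    have hsurj : Function.Surjective f₂ := by
      have hne0 : ∃ a : Γ(S''.X₂, ⊤), S''.g.app ⊤ a ≠ 0 := by
        refine ⟨e2.inv.app ⊤ σ, fun h0 => ?_⟩
        have hzQ : z ∈ CohB1.support S''.X₃ := hsuppQ'.ge (show g z ∈ CohB1.support Q from hgz ▸ hPQ)
        refine hzQ (subsingleton_of_forall_eq 0 fun w => ?_)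
        have hep : Epi S''.g := hS''.epi_g
        obtain ⟨v, rfl⟩ := (ModuleCat.epi_iff_surjective ((DerSch.stalkFunctor XK z).map S''.g)).1 inferInstance w
        obtain ⟨v, rfl⟩ : ∃ v', (DerSch.stalkFunctor XK z).map e2.inv v' = v :=
          ⟨(DerSch.stalkFunctor XK z).map e2.hom v, congr($(((DerSch.stalkFunctor XK z).mapIso e2).hom_inv_id) v)⟩
        obtain ⟨r, rfl⟩ := (VarietyLib.gen_germ_bijective (isGen_glocus (L := M) σ) hz).2 v
        beta_reduce
        erw [map_smul, map_smul]
        erw [stalk_map_germ, stalk_map_germ]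
        rw [app_resM, app_resM]
        erw [h0]
        rw [map_zero, map_zero]; exact smul_zero r
      obtain ⟨a, ha⟩ := hne0
      haveI : FiniteDimensional K (GA φ S''.X₃) :=
        (haveI := CurveRR24.finite_HH_of_isCoh K d3 0; Module.Finite.equiv (CurveRR24.hhZero K S''.X₃))
      have hr : LinearMap.range f₂ = ⊤ := by
        have hne' : LinearMap.range f₂ ≠ ⊥ := fun hb => ha ((Submodule.eq_bot_iff _).1 hb _ ⟨(a : GA φ S''.X₂), rfl⟩)
        refine Submodule.eq_top_of_finrank_eq (le_antisymm (Submodule.finrank_le _) ?_)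
        rw [← (CurveRR24.hhZero K S''.X₃).finrank_eq, h03]
        exact Submodule.one_le_finrank_iff.2 hne'
      exact LinearMap.range_eq_top.1 hr
    have hd0 : ∀ x : GA φ S''.X₃, deltaG φ hS'' x = 0 := fun x => (deltaG_eq_zero_iff φ hS'' x).2 (hsurj x)
    have hM1 : Subsingleton (HA φ S''.X₂ (⊤ : XK.Opens) 1) :=
      (HHBaseEquiv K S''.X₂ 1).symm.toEquiv.subsingleton_congr.2 (CurveRR24.subsingleton_HH_congr e2.symm 1 h1)
    have h11 : Subsingleton (HA φ S''.X₁ (⊤ : XK.Opens) 1) := subsingleton_of_forall_eq 0 fun y => by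
      obtain ⟨x, rfl⟩ := deltaG_surjective φ hS'' hM1 y
      exact hd0 x
    have h11' : Subsingleton (Coh.HH XK S''.X₁ 1) := (HHBaseEquiv K S''.X₁ 1).toEquiv.subsingleton_congr.2 h11
    have hN' : PicF.IsInvertible (CohB1.tensorMod N I) := isInvertible_tensorMod hN hI
    have h1' : Subsingleton (Coh.HH XK (G (CohB1.tensorMod N I)) 1) := CurveRR24.subsingleton_HH_congr e1 1 h11'
    refine ⟨_, hN', h1', ?_⟩
    have he := euler_additive K XK S'' hS'' d1 d2 d3
    rw [hχ, euler_congr K XK e1, euler_congr K XK e2,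
      CurveRR24.euler_eq_h0_sub_h1 K hdK1 _ (isQCoh_of_isInvertible (hG hN')),
      CurveRR24.euler_eq_h0_sub_h1 K hdK1 _ (isQCoh_of_isInvertible (hG hN))] at he
    haveI := h1
    haveI := h1'
    rw [Module.finrank_zero_of_subsingleton (M := Coh.HH XK (G (CohB1.tensorMod N I)) 1),
      Module.finrank_zero_of_subsingleton (M := Coh.HH XK M 1)] at he
    omega
  obtain ⟨N, hN, h1, h0⟩ := start
  obtain ⟨d, hd⟩ : ∃ d, Module.finrank K (Coh.HH XK (G N) 0) = d + 1 := ⟨_, (Nat.sub_add_cancel h0).symm⟩
  clear h0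
  induction d generalizing N with
  | zero => exact ⟨N, hN, hd, h1⟩
  | succ d ih =>
    obtain ⟨N', hN', h1', h0'⟩ := step N hN h1 (by omega)
    exact ih N' hN' h1' (by omega)

end Groth.Agent.S6487
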