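import Groth.Statements.S6488
import Groth.Agent.GysDef28.Main

set_option autoImplicit false
set_option linter.style.haveILetI false
set_option backward.isDefEq.respectTransparency false
universe u
open CategoryTheory AlgebraicGeometry
open Cyc

namespace Groth.Agent.S6488

/-- Let (L, s, i : D → X) be a triple defining a Gysin map. There is a commutative diagram with i' : D'
→ X', p : D' → D, g : X' → X (p ≫ i = i' ≫ g) such that (1) p and g are flat, of finite type, with
all fibre components of dimension 1, (2) p^* : CH_k(D) → CH_{k+1}(D') is injective for all k, (3) i'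
identifies D' with the vanishing scheme in X' of a single global function s' ∈ Γ(X', O_{X'}), and
(4) p^* ∘ i^* = (i')^* ∘ g^* : CH_{k+1}(X) → CH_{k+1}(D'). Dimension functions on X', D' are the
induced ones; Gysin maps are computed as c_1 ∩ − with the sections s, s' where nonzero and arbitrary
nonzero fallbacks. (The published statement adds that these properties survive any base change Y → X
locally of finite type; this row omits that addendum.) Here a pair (X, δ) with Cyc.IsSetup plays the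
role of a scheme locally of finite type over the base (S, δ) (X locally Noetherian with universally
catenary local rings, δ a dimension function), and Cyc.DeltaCompat records that the dimension
function upstairs is the induced one. -/
theorem result (X D : Scheme.{u}) (δ : X → ℤ) (hX : Cyc.IsSetup X δ) (L : X.Modules) (hL : PicF.IsInvertible L) (s : L.presheaf.obj (Opposite.op ⊤)) (i : D ⟶ X) [IsClosedImmersion i] (hD : Cyc.IsZeroSchemeOf i L s) : ∃ (X' D' : Scheme.{u}) (i' : D' ⟶ X') (p : D' ⟶ D) (g : X' ⟶ X) (_ : IsClosedImmersion i') (_ : Flat p) (_ : Flat g) (_ : LocallyOfFiniteType p) (_ : LocallyOfFiniteType g) (_ : QuasiCompact p) (_ : QuasiCompact g) (δX' : X' → ℤ) (δD' : D' → ℤ) (s' : (Coh.structureModule X').presheaf.obj (Opposite.op ⊤)), i' ≫ g = p ≫ i ∧ Cyc.IsSetup X' δX' ∧ Cyc.DeltaCompat g δX' δ ∧ (∀ d', δD' d' = δX' (i' d')) ∧ Cyc.HasRelDim p 1 ∧ Cyc.HasRelDim g 1 ∧ Cyc.IsZeroSchemeOf i' (Coh.structureModule X') s' ∧ (∀ (k : ℤ) (β : AlgebraicCycle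 D ℤ), β ∈ Cyc.Zk D (fun d => δ (i d)) k → ∀ β' : AlgebraicCycle D' ℤ, ⇑β' = Cyc.pullFun p δD' (fun d => δ (i d)) 1 ⇑β → Cyc.RatEquivZero δD' (k + 1) β' → Cyc.RatEquivZero (fun d => δ (i d)) k β) ∧ ∀ (k : ℤ) (α : AlgebraicCycle X ℤ), α ∈ Cyc.Zk X δ (k + 1) → ∀ (w : (ξ : X) → Cyc.secFibre L ξ), (∀ ξ, w ξ ≠ 0) → ∀ (w' : (ξ : X') → Cyc.secFibre (Coh.structureModule X') ξ), (∀ ξ, w' ξ ≠ 0) → ∀ ζ₁ ζ₂ : AlgebraicCycle D' ℤ, ⇑ζ₁ = Cyc.pullFun p δD' (fun d => δ (i d)) 1 (fun d => Cyc.c1CapFun δ L ⇑α (Cyc.gysinChoice L s w) (i d)) → (∀ d', ζ₂ d' = Cyc.c1CapFun δX' (Coh.structureModule X') (Cyc.pullFun g δX' δ 1 ⇑α) (Cyc.gysinChoice (Coh.structureModule X') s' w') (i' d')) → Cyc.RatEquiv δD' (k + 1) ζ₁ ζ₂ := by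
  open Groth.Agent.GysDef28 in
  haveI := hX.1
  obtain ⟨δ', hX', hc⟩ := Groth.Agent.CycLib28.PB.exists_setup (gg s hL) hX
  haveI : IsAffineHom (gg s hL) := isAffineHom_gg s hL
  haveI : IsAffineHom (pp s hL i hD) := isAffineHom_pp s hL i hD
  exact ⟨Sp s hL, Dp s hL, ip s hL, pp s hL i hD, gg s hL, inferInstance, inferInstance, inferInstance, inferInstance,
    inferInstance, inferInstance, inferInstance, δ', fun d => δ' (ip s hL d), tO s hL, (pp_i s hL i hD).symm, hX', hc,
    fun _ => rfl, hasRelDim_pp s hL i hD hc hX'.2.2, hasRelDim_gg s hL hc hX'.2.2, isZero_ip s hL,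
    fun k β hβ β' hβ' h0 => pullFun_injective s hL i hD hX hX' hc k β hβ β' hβ' h0,
    fun k α hα w hw w' hw' ζ₁ ζ₂ h₁ h₂ => gysin_compat s hL i hD hX hX' hc k α hα w hw w' hw' ζ₁ ζ₂ h₁ h₂⟩

end Groth.Agent.S6488
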