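import Groth.Statements.S6494
import Mathlib
import Groth.Agent.CycLib28.P1Fam
import Groth.Agent.CycLib28.InterPull
import Groth.Agent.CycLib28.ProjFormula
import Groth.Agent.CycLib28.P1Subscheme

set_option autoImplicit false
universe u
open CategoryTheory CategoryTheory.Limits AlgebraicGeometry
attribute [local instance] HasDerivedCategory.standard
open IntMult
open IsLocalRing Groth.Agent Groth.Agent.CycLib28 Groth.Agent.CycLib28.InterSheaf Groth.Agent.CycLim28

namespace Groth.Agent.S6494

/-- Let X → P be a closed immersion of nonsingular varieties and C' ⊂ P × P^1 a closed subvariety of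
dimension r + 1 with (1) the fibre C = C'_0 of dimension r (C' → P^1 dominant), (2) C' and X × P^1
intersecting properly, (3) [C]_r and X intersecting properly. Then, with α = [C]_r · X and β = C' ·
(X × P^1), one has α = pr_{X,*}(β · (X × 0)). Stated on P × P^1: α = pr_*((C' · (X × P^1)) · (P ×
0)) as cycles on P. (The published statement takes the product of β with X × 0 on X × P^1 and pushes
it forward along X × P^1 → X; this row takes the product of C′ · (X × P^1) with P × 0 on P × P^1 and
pushes it forward along P × P^1 → P, which is the same cycle on P.) Encoding: P × P^1 =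
CohB1.ProjSpaceOver 1 P with projection pr and zero section P1.sect P 0; dimension functions δP, δ'
(transcendence degree); C'_0 is the pullback of C' along the zero section and [C]_r its r-cycle
(Cyc.subschemeFun); X × P^1 and P × 0 enter as the prime cycles of their generic points; products
are IntMult.interProd on P (dim N_P) and on P × P^1 (dim N_P + 1). Here P and X are nonsingular
varieties over the algebraically closed field K (smooth, separated, quasi-compact, integral), δP is
the dimension function on P (transcendence degree over K, recorded by Cyc.DeltaCompat to Spec K with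
value 0, together with Cyc.IsSetup), N_P = δP of the generic point of P and n = δP of the generic
point of X; proper intersection is IntMult.IntersectProperly / IntMult.ProperInt and products are
IntMult.interProd. -/
theorem result (K : Type u) [Field K] [IsAlgClosed K] (P : Scheme.{u}) (fP : P ⟶ Spec (CommRingCat.of K)) [Smooth fP] [IsSeparated fP] [QuasiCompact fP] [IsIntegral P] (δP : P → ℤ) (hP : Cyc.IsSetup P δP) (hδP : Cyc.DeltaCompat fP δP (fun _ => 0)) (NP : ℕ) (hNP : δP (genericPoint P) = NP) (δ' : ↥(CohB1.ProjSpaceOver 1 P) → ℤ) (hP' : Cyc.IsSetup (CohB1.ProjSpaceOver 1 P) δ') (hδ' : Cyc.DeltaCompat (CohB1.ProjSpaceOver.toBase 1 P) δ' δP) [QuasiCompact (CohB1.ProjSpaceOver.toBase 1 P)] (X : Scheme.{u}) (fX : X ⟶ Spec (CommRingCat.of K)) [Smooth fX] [IsSeparated fX] [QuasiCompact fX] [IsIntegral X] (ι : X ⟶ P) [IsClosedImmersion ι] (hι : ι ≫ fP = fX) (n : ℕ) (hn : δP (ι (genericPoint X)) = n) (ζX : ↥(CohB1.ProjSpaceOver 1 P)) (hζ1 : CohB1.ProjSpaceOver.toBase 1 P ζX = ι (genericPoint X)) (hζ2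 : δ' ζX = n + 1) (C' : Scheme.{u}) [IsIntegral C'] (ι' : C' ⟶ CohB1.ProjSpaceOver 1 P) [IsClosedImmersion ι'] (r : ℕ) (hr : δ' (ι' (genericPoint C')) = r + 1) (hC0 : ∀ w : ↥(pullback ι' (P1.sect P 0)), δP (pullback.snd ι' (P1.sect P 0) w) ≤ r) (hC0ne : Nonempty ↥(pullback ι' (P1.sect P 0))) (h2 : IntMult.ProperInt (closure {ι' (genericPoint C')}) (⇑(CohB1.ProjSpaceOver.toBase 1 P) ⁻¹' Set.range ⇑ι) (NP + 1) (r + 1) (n + 1)) (h3 : IntMult.IntersectProperly δP NP (Cyc.subschemeFun δP r (pullback.snd ι' (P1.sect P 0))) (Set.indicator {ι (genericPoint X)} 1)) (B : AlgebraicCycle (CohB1.ProjSpaceOver 1 P) ℤ) (hB : ⇑B = IntMult.interProd δ' (NP + 1) (IntMult.interProd δ' (NP + 1) (Set.indicator {ι' (genericPoint C')} 1) (Set.indicator {ζX} 1)) (Set.indicator {P1.sect P 0 (genericPoint P)} 1)) : ⇑(AlgebraicCycle.map (CohB1.ProjSpaceOver.toBase 1 P) δ' δP B) = IntMult.interProd δP NP (Cyc.subschemeFun δP r (pullback.snd ι' (P1.sect P 0))) (Set.indicator {ι (genericPoint X)} 1) := by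
  classical
  haveI := hP.1
  haveI := hP'.1
  set π := CohB1.ProjSpaceOver.toBase 1 P
  set s := P1.sect P 0
  haveI : IsClosedImmersion s := P1Irred.isClosedImmersion_sect P 0
  haveI : Smooth π := P1Irred.smooth_toBase P
  haveI : IsProper π := RelVALib.isProper_toBase 1 P
  haveI : IrreducibleSpace (CohB1.ProjSpaceOver 1 P) := P1Irred.irreducibleSpace P
  haveI : IsIntegral (CohB1.ProjSpaceOver 1 P) := P1Irred.isIntegral P fP
  haveI : Smooth (π ≫ fP) := inferInstance
  haveI : CompactSpace P := QuasiCompact.compactSpace_of_compactSpace fP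
  haveI : CompactSpace (CohB1.ProjSpaceOver 1 P) := QuasiCompact.compactSpace_of_compactSpace π
  haveI : IsLocallyNoetherian C' := LocallyOfFiniteType.isLocallyNoetherian ι'
  haveI : IsLocallyNoetherian X := LocallyOfFiniteType.isLocallyNoetherian ι
  have hδQ : Cyc.DeltaCompat (π ≫ fP) δ' (fun _ => 0) := P1Inter.deltaCompat_comp π fP hδ' hδP
  have hπs : ∀ y, π (s y) = y := fun y => congrArg (fun m : P ⟶ P => m y) (Groth.Agent.P1Lib24.sect_toBase P 0)
  have hds : ∀ y, δ' (s y) = δP y := fun y => delta_sect hδ' 0 y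
  have hgs : δ' (s (genericPoint P)) = NP := (hds _).trans hNP
  have hgQ : δ' (genericPoint (CohB1.ProjSpaceOver 1 P)) = (NP : ℤ) + 1 := by
    rw [P1Irred.delta_genericPoint P fP hP hδ', hNP]
  set F := (Coh.push ι').obj (Coh.structureModule C')
  have hF : Coh.IsCoh F := Coherent.isCoh_push_finite ι' (Coherent.isCoh_structureModule C')
  set G0 := (Coh.push ι).obj (Coh.structureModule X)
  have hG0 : Coh.IsCoh G0 := Coherent.isCoh_push_finite ι (Coherent.isCoh_structureModule X)
  set F0 := (Scheme.Modules.pullback s).obj F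
  have hF0 : Coh.IsCoh F0 := InterSheaf.isCoh_pullback s hF
  have hN : Coh.IsCoh (pointSheaf ζX) := isCoh_pointSheaf ζX
  have hιrange : ∀ y, y ∈ Set.range ι → ι (genericPoint X) ⤳ y := by
    rintro _ ⟨v, rfl⟩
    exact (genericPoint_specializes v).map ι.continuous
  have hι'range : ∀ y, y ∈ Set.range ι' → ι' (genericPoint C') ⤳ y := by
    rintro _ ⟨v, rfl⟩
    exact (genericPoint_specializes v).map ι'.continuous
  have hπι : ∀ y, ζX ⤳ y → π y ∈ Set.range ι := fun y h => by
    have h1 := h.map π.continuous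
    rw [hζ1] at h1
    exact h1.mem_closed ι.isClosedEmbedding.isClosed_range ⟨_, rfl⟩
  have hC0' : ∀ y, s y ∈ Set.range ι' → δP y ≤ r := by
    intro y hy
    obtain ⟨w, rfl⟩ : y ∈ Set.range (pullback.snd ι' s) := by
      rw [Scheme.Pullback.range_snd]; exact hy
    exact hC0 w
  have hF0range : ∀ y, Nontrivial (F0.presheaf.stalk y) → s y ∈ Set.range ι' := by
    intro y hy
    refine P1Fam.range_of_nontrivial_push ι' (s y) (not_subsingleton_iff_nontrivial.1 fun hs => ?_)
    haveI := hs
    have hl := length_stalk_pullback_closed s F y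
    rw [show Module.length ((CohB1.ProjSpaceOver 1 P).presheaf.stalk (s y))
          (F.presheaf.stalk (s y) ⧸ (RingHom.ker (s.stalkMap y).hom • ⊤ :
            Submodule ((CohB1.ProjSpaceOver 1 P).presheaf.stalk (s y)) (F.presheaf.stalk (s y)))) = 0 from
          Module.length_eq_zero_iff.mpr inferInstance, Module.length_eq_zero_iff] at hl
    exact not_subsingleton_iff_nontrivial.2 hy hl
  have hout' : ι' (genericPoint C') ∉ Set.range s := by
    rintro ⟨y, hy⟩
    have h1 := hC0' y ⟨_, hy.symm⟩
    rw [← hds, hy, hr] at h1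
    omega
  have hC'dim := isDimFun_comp_closedImmersion ι' hP'.2.2
  have hbound : ∀ y, s y ∈ Set.range ι' → y ∈ Set.range ι → δP y ≤ (r : ℤ) + n - NP := by
    rintro y ⟨z', hz'⟩ hy
    obtain ⟨z, hz, w, hwz, hw, hwd⟩ : ∃ (z : C') (_ : ι' z = s y) (w : C'), w ⤳ z ∧ ι' w ∈ Set.range s ∧ δ' (ι' w) = r := by
      refine ⟨z', hz', ?_⟩
      obtain ⟨t, ht⟩ : ∃ t : (CohB1.ProjSpaceOver 1 P).presheaf.stalk (ι' z'),
          ∀ Q : PrimeSpectrum ((CohB1.ProjSpaceOver 1 P).presheaf.stalk (ι' z')),
            (t ∈ Q.asIdeal → (CohB1.ProjSpaceOver 1 P).fromSpecStalk (ι' z') Q ∈ Set.range s) ∧ t ∈ maximalIdeal _ := by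
        rw [hz']
        obtain ⟨t, ht⟩ := P1Irred.exists_span_eq_ker P 0 y
        refine ⟨t, fun Q => ⟨fun h => ?_, IsLocalRing.le_maximalIdeal (RingHom.ker_ne_top (s.stalkMap y).hom)
          (ht.ge (Ideal.mem_span_singleton_self t))⟩⟩
        obtain ⟨y', -, hy'⟩ := P1Fam.exists_generisation_of_ker_le s y Q
          (ht.le.trans ((Ideal.span_singleton_le_iff_mem _).2 h))
        exact ⟨y', hy'⟩
      set t' := (ι'.stalkMap z').hom t
      have ht'0 : t' ≠ 0 := fun h => hout' (P1Fam.fromSpecStalk_ker ι' z' ▸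
        (ht ⟨RingHom.ker (ι'.stalkMap z').hom, RingHom.ker_isPrime _⟩).1 (RingHom.mem_ker.2 h))
      have ht'm : t' ∈ maximalIdeal (C'.presheaf.stalk z') :=
        map_nonunit (ι'.stalkMap z').hom t (ht (closedPoint _)).2
      haveI : IsNoetherianRing (C'.presheaf.stalk z') := inferInstance
      obtain ⟨p, hp, -⟩ := Ideal.exists_minimalPrimes_le ((Ideal.span_singleton_le_iff_mem (maximalIdeal _)).2 ht'm)
      haveI := hp.1.1
      have hh : p.height ≤ 1 :=
        Ideal.height_le_one_of_isPrincipal_of_mem_minimalPrimes (Ideal.span {t'}) p hp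
      set w := C'.fromSpecStalk z' ⟨p, hp.1.1⟩
      have hw : ι' w ∈ Set.range s := by
        have := (ht (PrimeSpectrum.comap (ι'.stalkMap z').hom ⟨p, hp.1.1⟩)).1
          (hp.1.2 (Ideal.mem_span_singleton_self t'))
        rwa [P1Fam.fromSpecStalk_comap] at this
      refine ⟨w, fromSpecStalk_specializes z' _, hw, ?_⟩
      have h1 := dim_stalk hC'dim w
      rw [ringKrullDim_stalk_eq_height] at h1
      have h2 : (δ' (ι' (genericPoint C')) - δ' (ι' w)).toNat ≤ 1 := by
        have h3 : ((δ' (ι' (genericPoint C')) - δ' (ι' w)).toNat : WithBot ℕ∞) ≤ ((1 : ℕ∞) : WithBot ℕ∞) :=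
          h1.symm.le.trans (WithBot.coe_le_coe.2 hh)
        exact_mod_cast h3
      obtain ⟨y', hy'⟩ := hw
      have h4 := hC0' y' ⟨w, hy'.symm⟩
      rw [← hds, hy'] at h4
      rw [hr] at h2
      omega
    obtain ⟨w0, hw0⟩ := hw
    have hd0 : δP w0 = r := by rw [← hds, hw0, hwd]
    have hw0y : w0 ⤳ y := by
      have h := (hwz.map ι'.continuous).map π.continuous
      rwa [← hw0, hπs, hz, hπs] at h
    have hne : Cyc.subschemeFun δP r (pullback.snd ι' s) w0 ≠ 0 := by
      rw [← sheafFun_pullback_push_eq, Cyc.sheafFun, if_pos hd0]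
      haveI := AssSch12.finite_stalk hF0 w0
      have hnt : Nontrivial (F0.presheaf.stalk w0) :=
        nontrivial_pullback_closed s hF w0 (hw0.symm ▸ P1Fam.nontrivial_push ι' w)
      have htop : Module.length (P.presheaf.stalk w0) (F0.presheaf.stalk w0) ≠ ⊤ := by
        refine (Groth.Agent.CycAlgLib.length_lt_top_of_support_subset fun Q hQ => ?_).ne
        have h5 := hC0' _ (hF0range _ ((InterSheaf.mem_support_iff_stalk hF0.1 w0 Q).1 hQ))
        refine Groth.Agent.CycLim28.fromSpecStalk_injective w0 ?_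
        rw [eq_of_specializes_of_le hP.2.2 (Groth.Agent.CycLim28.fromSpecStalk_specializes w0 Q) (hd0 ▸ h5)]
        exact Scheme.fromSpecStalk_closedPoint.symm
      have hpos : (Module.length (P.presheaf.stalk w0) (F0.presheaf.stalk w0)).toNat ≠ 0 :=
        (ENat.toNat_pos (Module.length_pos (R := P.presheaf.stalk w0)).ne' htop).ne'
      exact_mod_cast hpos
    have := h3 w0 (ι (genericPoint X)) y hne
      (by rw [Set.indicator_of_mem (Set.mem_singleton (ι (genericPoint X)))]; exact one_ne_zero) hw0y (hιrange y hy)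
    rw [hd0, hn] at this
    exact this
  have hboth : ∀ y, Nontrivial (F.presheaf.stalk y) → Nontrivial ((pointSheaf ζX).presheaf.stalk y) →
      δ' y ≤ (r : ℤ) + n - NP + 1 := by
    intro y h1 h4
    have hy1 := hι'range y (P1Fam.range_of_nontrivial_push ι' y h1)
    have hy2 := hπι y (specializes_of_nontrivial_pointSheaf ζX y h4)
    obtain ⟨hle, hdim⟩ := h2 ⟨y, specializes_iff_mem_closure.1 hy1, hy2⟩
    have hsub : closure ({y} : Set ↥(CohB1.ProjSpaceOver 1 P)) ⊆ closure {ι' (genericPoint C')} ∩ ⇑π ⁻¹' Set.range ⇑ι := by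
      intro v hv
      have hv' := specializes_iff_mem_closure.2 hv
      refine ⟨specializes_iff_mem_closure.1 (hy1.trans hv'), ?_⟩
      exact (hv'.map π.continuous).mem_closed ι.isClosedEmbedding.isClosed_range hy2
    have hd := ((Topology.IsEmbedding.inclusion hsub).isInducing.topologicalKrullDim_le).trans hdim
    rw [dim_closure_pt (π ≫ fP) hP' hδQ y] at hd
    have hd' : (δ' y).toNat ≤ r + 1 + (n + 1) - (NP + 1) := by exact_mod_cast hd
    omega
  have hmain : ∀ x, IntMult.interProd δ' ((NP : ℤ) + 1) (IntMult.interProd δ' ((NP : ℤ) + 1)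
        (Set.indicator {ι' (genericPoint C')} 1) (Set.indicator {ζX} 1)) (Set.indicator {s (genericPoint P)} 1) (s x) =
      IntMult.interProd δP (NP : ℤ) (Cyc.subschemeFun δP r (pullback.snd ι' s)) (Set.indicator {ι (genericPoint X)} 1) x := by
    intro x
    set z := s x
    by_cases hx : δP x = (r : ℤ) + n - NP
    swap
    · have hl : IntMult.interProd δ' ((NP : ℤ) + 1) (IntMult.interProd δ' ((NP : ℤ) + 1)
          (Set.indicator {ι' (genericPoint C')} 1) (Set.indicator {ζX} 1)) (Set.indicator {s (genericPoint P)} 1) z = 0 := by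
        refine finsum_eq_zero_of_forall_eq_zero fun p => ?_
        by_contra hne
        have h1 := left_ne_zero_of_mul (left_ne_zero_of_mul hne)
        have h4 := Set.mem_singleton_iff.1 (Set.mem_of_indicator_ne_zero (right_ne_zero_of_mul (left_ne_zero_of_mul hne)))
        refine h1 (finsum_eq_zero_of_forall_eq_zero fun p' => ?_)
        by_contra hne'
        have h5 := Set.mem_singleton_iff.1 (Set.mem_of_indicator_ne_zero (left_ne_zero_of_mul (left_ne_zero_of_mul hne')))
        have h6 := Set.mem_singleton_iff.1 (Set.mem_of_indicator_ne_zero (right_ne_zero_of_mul (left_ne_zero_of_mul hne')))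
        have e1 := p.2.2.2
        have e2 := p'.2.2.2
        have e3 : δ' z = δP x := hds x
        rw [h4, hgs] at e1
        rw [h5, h6, hr, hζ2] at e2
        omega
      rw [hl]
      symm
      refine finsum_eq_zero_of_forall_eq_zero fun p => ?_
      by_contra hne
      have h1 := left_ne_zero_of_mul (left_ne_zero_of_mul hne)
      have h4 := Set.mem_singleton_iff.1 (Set.mem_of_indicator_ne_zero (right_ne_zero_of_mul (left_ne_zero_of_mul hne)))
      have e1 := p.2.2.2
      have e0 : δP p.1.1 = r := by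
        by_contra h
        exact h1 (by rw [Cyc.subschemeFun, if_neg h])
      rw [h4, hn, e0] at e1
      omega
    haveI := isRegularLocalRing_stalk (π ≫ fP) z
    haveI := CAlgH3.isDomain_of_isRegularLocalRing ((CohB1.ProjSpaceOver 1 P).presheaf.stalk z)
    haveI := AssSch12.finite_stalk hF z
    haveI := AssSch12.finite_stalk hN z
    obtain ⟨t, ht⟩ := P1Irred.exists_span_eq_ker P 0 x
    let A : Type u := (CohB1.ProjSpaceOver 1 P).presheaf.stalk z
    let M : Type u := F.presheaf.stalk z
    let N : Type u := (pointSheaf ζX).presheaf.stalk z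
    let pt : PrimeSpectrum A → ↥(CohB1.ProjSpaceOver 1 P) := fun Q => (CohB1.ProjSpaceOver 1 P).fromSpecStalk z Q
    have hrange : ∀ Q : PrimeSpectrum A, t ∈ Q.asIdeal → pt Q ∈ Set.range s := fun Q h => by
      obtain ⟨y', -, hy'⟩ := P1Fam.exists_generisation_of_ker_le s x Q
        (ht.le.trans ((Ideal.span_singleton_le_iff_mem _).2 h))
      exact ⟨y', hy'⟩
    have htm : t ∈ maximalIdeal A := IsLocalRing.le_maximalIdeal (RingHom.ker_ne_top (s.stalkMap x).hom)
      (ht.ge (Ideal.mem_span_singleton_self t))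
    have ht0 : t ≠ 0 := by
      intro h
      obtain ⟨Q, hQ⟩ := exists_fromSpecStalk_eq
        (genericPoint_specializes z : genericPoint (CohB1.ProjSpaceOver 1 P) ⤳ z)
      obtain ⟨y', hy'⟩ := hrange Q (h ▸ Q.asIdeal.zero_mem)
      have h1 := le_of_specializes hP.2.2 (genericPoint_specializes y')
      rw [← hds y', hy', show pt Q = _ from hQ, hgQ, hNP] at h1
      omega
    have hreg : ∀ {W : Scheme.{u}} (j : W ⟶ CohB1.ProjSpaceOver 1 P) [IsClosedImmersion j] [IsIntegral W],
        j (genericPoint W) ∉ Set.range s → Function.Injective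
          (LinearMap.lsmul A (((Coh.push j).obj (Coh.structureModule W)).presheaf.stalk z) t) := by
      intro W j _ _ hout
      rcases P1Inter.injective_or_annihilated j z t with h | h
      · exact h
      by_cases hz : j (genericPoint W) ⤳ z
      swap
      · haveI : Subsingleton (((Coh.push j).obj (Coh.structureModule W)).presheaf.stalk z) :=
          subsingleton_stalk_push j _ (by
            rintro ⟨v, hv⟩
            exact hz (hv ▸ (genericPoint_specializes v).map j.continuous))
        exact fun a b _ => Subsingleton.elim a b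
      exfalso
      obtain ⟨Q, hQ⟩ := exists_fromSpecStalk_eq hz
      obtain ⟨e⟩ := P1Fam.nonempty_stalk_push_quot j z Q hQ
      have h1 : e (t • e.symm (Ideal.Quotient.mk Q.asIdeal 1)) = 0 := by rw [h]; exact map_zero e
      rw [map_smul, e.apply_symm_apply] at h1
      have h4 : t ∈ Q.asIdeal := by
        have h5 : Ideal.Quotient.mk Q.asIdeal (t * 1) = 0 := h1
        rwa [mul_one, Ideal.Quotient.eq_zero_iff_mem] at h5
      exact hout (hQ ▸ hrange Q h4)
    have hM := hreg ι' hout'
    haveI := isIntegral_ptIdeal ζX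
    have hNt := hreg (IntMult.ptIdeal ζX).subschemeι (by
      rw [P1Inter.subscheme_gen]
      rintro ⟨y', hy'⟩
      have h1 : δP (π ζX) = n := by rw [hζ1, hn]
      rw [← hy', hπs, ← hds, hy', hζ2] at h1
      omega)
    have hmeet : ∀ Q : PrimeSpectrum A, Q ∈ Module.support A M → Q ∈ Module.support A N → t ∈ Q.asIdeal →
        Q = closedPoint A := by
      intro Q hQM hQN hQt
      obtain ⟨y', hy'⟩ := hrange Q hQt
      have h1 := P1Fam.range_of_nontrivial_push ι' _ ((InterSheaf.mem_support_iff_stalk hF.1 z Q).1 hQM)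
      have h4 := hπι _ (specializes_of_nontrivial_pointSheaf ζX _ ((InterSheaf.mem_support_iff_stalk hN.1 z Q).1 hQN))
      have h5 : δP y' ≤ (r : ℤ) + n - NP := by
        refine hbound y' (hy' ▸ h1) ?_
        have h6 : π (s y') ∈ Set.range ι := hy' ▸ h4
        rwa [hπs] at h6
      refine Groth.Agent.CycLim28.fromSpecStalk_injective z ?_
      rw [eq_of_specializes_of_le hP'.2.2 (Groth.Agent.CycLim28.fromSpecStalk_specializes z Q) (by
        rw [show (CohB1.ProjSpaceOver 1 P).fromSpecStalk z Q = s y' from hy'.symm, hds, hds x, hx]; exact h5)]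
      exact Scheme.fromSpecStalk_closedPoint.symm
    have hF0le : ∀ y, Nontrivial (F0.presheaf.stalk y) → δP y ≤ r := fun y hy => hC0' y (hF0range y hy)
    have hG0le : ∀ y, Nontrivial (G0.presheaf.stalk y) → ι (genericPoint X) ⤳ y := fun y hy =>
      hιrange y (P1Fam.range_of_nontrivial_push ι y hy)
    rw [show Cyc.subschemeFun δP r (pullback.snd ι' s) = Cyc.sheafFun δP r F0 from (sheafFun_pullback_push_eq δP r ι' s).symm,
      ← P1Inter.sheafFun_push_integral ι hP.2.2 hn,
      InterSheaf.interProd_eq_chi fP hP hδP hNP hF0 hG0 hF0le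
        (fun y hy => hn ▸ le_of_specializes hP.2.2 (hG0le y hy))
        (fun y h1 h4 => hbound y (hF0range y h1) (P1Fam.range_of_nontrivial_push ι y h4)) hx,
      ← P1Fam.chi_restrict π s (Groth.Agent.P1Lib24.sect_toBase P 0) x ht ht0 ι ζX hζ1
        (P1Fam.specializes_sect hP hδ' 0 _ ζX hζ1 (by rw [hζ2, hn])) hM,
      DivisorChi.chi_quot_eq t ht0 htm M N hNt hmeet]
    let P0 : PrimeSpectrum A := ⟨RingHom.ker (s.stalkMap x).hom, RingHom.ker_isPrime _⟩
    have hP0 : pt P0 = s (genericPoint P) := P1Fam.fromSpecStalk_ker s x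
    let C : Set (↥(CohB1.ProjSpaceOver 1 P) × ↥(CohB1.ProjSpaceOver 1 P)) :=
      {p | p.1 ⤳ z ∧ p.2 ⤳ z ∧ δ' p.1 + δ' p.2 - ((NP : ℤ) + 1) = δ' z}
    let α' := IntMult.interProd δ' ((NP : ℤ) + 1) (Set.indicator {ι' (genericPoint C')} 1) (Set.indicator {ζX} 1)
    let β := Set.indicator ({s (genericPoint P)} : Set ↥(CohB1.ProjSpaceOver 1 P)) (1 : ↥(CohB1.ProjSpaceOver 1 P) → ℤ)
    let Φ : ↥(CohB1.ProjSpaceOver 1 P) × ↥(CohB1.ProjSpaceOver 1 P) → ℤ := fun p =>
      α' p.1 * β p.2 * IntMult.mult (IntMult.ptIdeal p.1) (IntMult.ptIdeal p.2) z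
    let e : PrimeSpectrum A → ↥(CohB1.ProjSpaceOver 1 P) × ↥(CohB1.ProjSpaceOver 1 P) := fun Q => (pt Q, s (genericPoint P))
    show ∑ᶠ p : C, Φ p.1 = _
    have htop : ∀ Q : PrimeSpectrum A, Q ∈ SamuelAdd.topPrimes A 1 ↔ δ' (pt Q) = δ' z + 1 := by
      intro Q
      show ringKrullDim (A ⧸ Q.asIdeal) = ((1 : ℕ) : WithBot ℕ∞) ↔ _
      rw [dim_quotient hP'.2.2, Nat.cast_inj, drop]
      show (δ' (pt Q) - δ' z).toNat = 1 ↔ _
      omega
    have hzd : δ' z = (r : ℤ) + n - NP := (hds x).trans hx
    rw [finsum_set_coe_eq_finsum_mem C, ← finsum_mem_inter_support_eq Φ (e '' SamuelAdd.topPrimes A 1) C ?_,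
      finsum_mem_image (g := e) (f := Φ) (fun a _ b _ hab => Groth.Agent.CycLim28.fromSpecStalk_injective z (congrArg Prod.fst hab : pt a = pt b))]
    · refine finsum_mem_congr rfl fun Q hQ => ?_
      have hξ : δ' (pt Q) = (r : ℤ) + n - NP + 1 := by rw [(htop Q).1 hQ, hzd]
      show α' (pt Q) * β (s (genericPoint P)) * IntMult.mult (IntMult.ptIdeal (pt Q)) (IntMult.ptIdeal (s (genericPoint P))) z = _
      have hα : α' (pt Q) = IntMult.chi (Localization.AtPrime Q.asIdeal) (LocalizedModule Q.asIdeal.primeCompl M)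
          (LocalizedModule Q.asIdeal.primeCompl N) := by
        rw [ChiLocal.chi_stalk hF.1 hN.1 z Q]
        show IntMult.interProd δ' ((NP : ℤ) + 1) _ _ (pt Q) = _
        rw [← P1Inter.sheafFun_push_integral ι' hP'.2.2 hr, ← sheafFun_pointSheaf hP'.2.2 hζ2]
        exact InterSheaf.interProd_eq_chi (π ≫ fP) hP' hδQ hgQ hF hN
          (fun y hy => hr ▸ le_of_specializes hP'.2.2 (hι'range y (P1Fam.range_of_nontrivial_push ι' y hy)))
          (fun y hy => hζ2 ▸ le_of_specializes hP'.2.2 (specializes_of_nontrivial_pointSheaf ζX y hy))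
          (fun y h1 h4 => (hboth y h1 h4).trans (by omega)) (by omega)
      have hmult : IntMult.mult (IntMult.ptIdeal (pt Q)) (IntMult.ptIdeal (s (genericPoint P))) z =
          IntMult.chi A (A ⧸ Q.asIdeal) (A ⧸ Ideal.span {t}) := by
        rw [← hP0]
        unfold IntMult.mult
        rw [stalkIdeal_ptIdeal z P0, stalkIdeal_ptIdeal z Q, chi_comm]
        exact chi_congr_both (LinearEquiv.refl _ _) (Submodule.quotEquivOfEq _ _ ht)
      rw [hmult, hα, show β (s (genericPoint P)) = 1 from Set.indicator_of_mem (Set.mem_singleton _) _, mul_one, mul_comm]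
    · ext p
      simp only [Set.mem_inter_iff, Function.mem_support]
      constructor
      · rintro ⟨⟨Q, hQ, rfl⟩, hne⟩
        refine ⟨⟨Groth.Agent.CycLim28.fromSpecStalk_specializes z Q,
          (genericPoint_specializes x).map s.continuous, ?_⟩, hne⟩
        show δ' (pt Q) + δ' (s (genericPoint P)) - _ = _
        rw [(htop Q).1 hQ, hgs]
        omega
      · rintro ⟨⟨h1, h4, h5⟩, hne⟩
        have h6 : p.2 = s (genericPoint P) :=
          Set.mem_singleton_iff.1 (Set.mem_of_indicator_ne_zero (right_ne_zero_of_mul (left_ne_zero_of_mul hne)))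
        obtain ⟨Q, hQ⟩ := exists_fromSpecStalk_eq h1
        refine ⟨⟨Q, (htop Q).2 ?_, Prod.ext hQ h6.symm⟩, hne⟩
        rw [h6, hgs] at h5
        show δ' ((CohB1.ProjSpaceOver 1 P).fromSpecStalk z Q) = _
        rw [hQ]
        omega
  have hfinB : (Function.support fun x => B (s x)).Finite :=
    (finite_support_cycle B).preimage s.isClosedEmbedding.injective.injOn
  let D := P1Inter.cycleOfFinite _ hfinB
  have hBD : B = AlgebraicCycle.map s (fun y => δ' (s y)) δ' D := by
    refine Function.locallyFinsuppWithin.ext fun q => ?_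
    by_cases hq : q ∈ Set.range s
    · obtain ⟨x, rfl⟩ := hq
      rw [map_closedImmersion_apply]
      rfl
    · rw [map_closedImmersion_eq_zero _ _ _ _ _ hq, congrFun hB q]
      exact P1Inter.interProd_sect_eq_zero hδ' 0 _ _ q hq
  funext x
  have h0 : AlgebraicCycle.map π δ' δP B x = B (s x) := by
    conv_lhs => rw [hBD]
    rw [map_map s π (deltaCompat_preimmersion _ _) hδ', map_congr_hom (Groth.Agent.P1Lib24.sect_toBase P 0),
      show (fun y => δ' (s y)) = δP from funext hds]
    exact map_closedImmersion_apply (𝟙 P) δP D x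
  rw [h0, congrFun hB (s x)]
  exact hmain x
end Groth.Agent.S6494
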