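import Groth.Statements.S6500
import Groth.Agent.CycLib28.MultLocal
import Groth.Agent.CAlgH3.ProjDim
import Groth.Agent.HTor16.Consequences

set_option autoImplicit false
universe u
open CategoryTheory CategoryTheory.Limits AlgebraicGeometry
attribute [local instance] HasDerivedCategory.standard
open IntMult

namespace Groth.Agent.S6500

open CategoryTheory CategoryTheory.Limits

theorem tor_vanish {A : Type u} [CommRing A] (h : ModuleCat.{u} A) :
    ∀ (m : ℕ) (N : ModuleCat.{u} A), HasProjectiveDimensionLT N (m + 1) → ∀ p : ℕ, m < p →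
      Subsingleton (DRing.Tor A p h N)
  | 0, N, hN, p, hp => by
    haveI : Projective N := projective_iff_hasProjectiveDimensionLT_one.2 hN
    obtain ⟨q, rfl⟩ := Nat.exists_eq_add_of_le' hp
    exact ModuleCat.subsingleton_of_isZero (Functor.isZero_leftDerived_obj_projective_succ _ q N)
  | m + 1, N, hN, p, hp => by
    have hS := Groth.Agent.HTor16.freeSES_shortExact N
    haveI := Groth.Agent.HTor16.freeSES_projective N
    have hK : HasProjectiveDimensionLT (Groth.Agent.HTor16.freeSES N).X₁ (m + 1) :=
      hS.hasProjectiveDimensionLT_X₁ (m + 1) (hasProjectiveDimensionLT_of_ge _ 1 (m + 1) (by omega)) hN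
    obtain ⟨q, rfl⟩ : ∃ q, p = q + 2 := ⟨p - 2, by omega⟩
    obtain ⟨e⟩ := Groth.Agent.HTor16.torShift h hS q
    haveI := tor_vanish h m _ hK (q + 1) (by omega)
    exact e.toEquiv.subsingleton

end Groth.Agent.S6500

namespace Groth.Agent.S6500

/-- Let X be a nonsingular variety of dimension n and F, G coherent O_X-modules. The Tor sheaves
Tor_p^{O_X}(F, G), whose stalks are Tor_p^{O_{X,x}}(F_x, G_x), are nonzero only for p ∈ {0, …, n}:
for every point x and every p > n, Tor_p^{O_{X,x}}(F_x, G_x) = 0. (Coherence of the Tor sheaves and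
the support statement are not restated.) Nonsingular variety: X → Spec K smooth, separated,
quasi-compact, X integral, K algebraically closed; n = dim X. -/
theorem result (K : Type u) [Field K] [IsAlgClosed K] (X : Scheme.{u}) (f : X ⟶ Spec (CommRingCat.of K)) [Smooth f] [IsSeparated f] [QuasiCompact f] [IsIntegral X] (n : ℕ) (hn : topologicalKrullDim X = n) (F G : X.Modules) (hF : Coh.IsCoh F) (hG : Coh.IsCoh G) (x : X) (p : ℕ) (hp : n < p) : Subsingleton (DRing.Tor ↑(X.presheaf.stalk x) p ↑(F.presheaf.stalk x) ↑(G.presheaf.stalk x)) := by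
  haveI := Groth.Agent.CycLib28.isRegularLocalRing_stalk f x
  obtain ⟨d, a, -, ha, hda⟩ := Groth.Agent.CycLib28.exists_nat_of_add_eq
    (hn.symm.trans (Groth.Agent.CycLib28.dim_stalk_add_closure f x))
  have hrank : (IsLocalRing.maximalIdeal (X.presheaf.stalk x)).spanFinrank = a := by
    have h := IsRegularLocalRing.spanFinrank_maximalIdeal (R := X.presheaf.stalk x)
    rw [ha] at h
    exact_mod_cast h
  have hN : HasProjectiveDimensionLT (ModuleCat.of (X.presheaf.stalk x) (G.presheaf.stalk x)) (a + 1) := by
    rw [← hrank]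
    exact Groth.Agent.CAlgH3.pd_all _
  exact tor_vanish (ModuleCat.of _ (F.presheaf.stalk x)) a _ hN p (by omega)

end Groth.Agent.S6500
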