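import Groth.Prelude.Def_CohCx
import Mathlib.CategoryTheory.Preadditive.Injective.Basic
import Groth.Agent.SiteDer16.SectionsInst
import Mathlib.CategoryTheory.Abelian.GrothendieckCategory.Subobject
import Mathlib.CategoryTheory.Abelian.CommSq
import Mathlib.Order.Zorn

set_option autoImplicit false
universe u
namespace CategoryTheory
end CategoryTheory
open CategoryTheory
namespace CohSite
end CohSite
open CohSite

namespace Groth.Agent.S6524

open CategoryTheory.Limits Opposite

theorem exists_upper_bound {A : Type (u + 1)} [Category.{u} A] [Abelian A] [IsGrothendieckAbelian.{u} A]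
    {Y I : A} {J : Type u} [Preorder J] [IsDirectedOrder J] [Nonempty J]
    (S : J → Subobject Y) (g : ∀ j, (S j : A) ⟶ I)
    (hmono : ∀ {i j : J}, i ≤ j → ∃ le : S i ≤ S j, Subobject.ofLE _ _ le ≫ g j = g i) :
    ∃ (T : Subobject Y) (t : (T : A) ⟶ I), ∀ j, ∃ le : S j ≤ T, Subobject.ofLE _ _ le ≫ t = g j := by
  let F : J ⥤ MonoOver Y :=
    { obj := fun j => MonoOver.mk (S j).arrow
      map := fun {i j} f => MonoOver.homMk (Subobject.ofLE (S i) (S j) (hmono (leOfHom f)).choose) (Subobject.ofLE_arrow _)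
      map_id := fun _ => Subsingleton.elim _ _
      map_comp := fun _ _ => Subsingleton.elim _ _ }
  let cY : Cocone (F ⋙ MonoOver.forget _ ⋙ Over.forget _) :=
    { pt := Y
      ι :=
        { app := fun j => (S j).arrow
          naturality := fun i j f => by
            show Subobject.ofLE (S i) (S j) (hmono (leOfHom f)).choose ≫ (S j).arrow = (S i).arrow ≫ 𝟙 _
            simp } }
  let cI : Cocone (F ⋙ MonoOver.forget _ ⋙ Over.forget _) :=
    { pt := I
      ι :=
        { app := g
          naturality := fun i j f => by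
            show Subobject.ofLE (S i) (S j) (hmono (leOfHom f)).choose ≫ g j = g i ≫ 𝟙 _
            rw [Category.comp_id]
            exact (hmono (leOfHom f)).choose_spec } }
  let f := colimit.desc _ cY
  haveI : Mono f := IsGrothendieckAbelian.mono_of_isColimit_monoOver F (colimit.isColimit _) f
    (fun j => colimit.ι_desc cY j)
  refine ⟨Subobject.mk f, (Subobject.underlyingIso f).hom ≫ colimit.desc _ cI, fun j =>
    ⟨Subobject.le_mk_of_comm (colimit.ι (F ⋙ MonoOver.forget _ ⋙ Over.forget _) j) (colimit.ι_desc cY j), ?_⟩⟩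
  have e : Subobject.ofLE (S j) (Subobject.mk f)
      (Subobject.le_mk_of_comm (colimit.ι (F ⋙ MonoOver.forget _ ⋙ Over.forget _) j) (colimit.ι_desc cY j)) ≫
      (Subobject.underlyingIso f).hom = colimit.ι (F ⋙ MonoOver.forget _ ⋙ Over.forget _) j := by
    rw [← cancel_mono f, Category.assoc, Subobject.underlyingIso_hom_comp_eq_mk, Subobject.ofLE_arrow]
    exact (colimit.ι_desc cY j).symm
  rw [reassoc_of% e]
  exact colimit.ι_desc cI j

theorem injective_of_extension {A : Type (u + 1)} [Category.{u} A] [Abelian A] [IsGrothendieckAbelian.{u} A]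
    {ι : Type u} (P : ι → A) (hP : ∀ {X Y : A} (p : X ⟶ Y), Mono p → (∀ i (f : P i ⟶ Y), ∃ g, g ≫ p = f) → IsIso p)
    (I : A) (h : ∀ (i : ι) (S : A) (j : S ⟶ P i) [Mono j] (φ : S ⟶ I), ∃ ψ, j ≫ ψ = φ) : Injective I := by
  refine ⟨fun {X Y} φ p hp => ?_⟩
  let Pair := Σ S : Subobject Y, ((S : A) ⟶ I)
  let r : Pair → Pair → Prop := fun a b => ∃ le : a.1 ≤ b.1, Subobject.ofLE a.1 b.1 le ≫ b.2 = a.2
  let good : Set Pair := {a | r ⟨Subobject.mk p, (Subobject.underlyingIso p).hom ≫ φ⟩ a}
  have r_refl : ∀ a : Pair, r a a := fun a => ⟨le_rfl, by simp⟩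
  have r_trans : ∀ {a b c : Pair}, r a b → r b c → r a c := fun {a b c} ⟨l₁, e₁⟩ ⟨l₂, e₂⟩ =>
    ⟨l₁.trans l₂, by rw [← Subobject.ofLE_comp_ofLE _ _ _ l₁ l₂, Category.assoc, e₂, e₁]⟩
  letI : Preorder good := { le := fun a b => r a.1 b.1, le_refl := fun a => r_refl a.1, le_trans := fun a b c => r_trans }
  have hchain : ∀ c : Set good, IsChain (· ≤ ·) c → c.Nonempty → BddAbove c := by
    intro c hc ⟨a₀, ha₀⟩
    have hinj : Function.Injective fun a : c => a.1.1.1 := fun a b e => by
      rcases eq_or_ne a b with h | h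
      · exact h
      obtain ⟨⟨⟨S, g⟩, hg⟩, ha⟩ := a
      obtain ⟨⟨⟨S', g'⟩, hg'⟩, hb⟩ := b
      obtain rfl : S = S' := e
      have : g = g' := by
        rcases hc.total ha hb with ⟨l, e'⟩ | ⟨l, e'⟩
        · change Subobject.ofLE S S l ≫ g' = g at e'
          rwa [Subobject.ofLE_refl, Category.id_comp, eq_comm] at e'
        · change Subobject.ofLE S S l ≫ g = g' at e'
          rwa [Subobject.ofLE_refl, Category.id_comp] at e'
      subst this
      rfl
    haveI : Small.{u} c := small_of_injective hinj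
    let σ : Shrink.{u} c → c := (equivShrink c).symm
    letI : Preorder (Shrink.{u} c) := Preorder.lift fun j => (σ j).1
    haveI : Nonempty (Shrink.{u} c) := ⟨equivShrink c ⟨a₀, ha₀⟩⟩
    haveI : IsDirectedOrder (Shrink.{u} c) := ⟨fun i j => by
      rcases hc.total (σ i).2 (σ j).2 with h | h
      · exact ⟨j, h, r_refl _⟩
      · exact ⟨i, r_refl _, h⟩⟩
    obtain ⟨T, t, hT⟩ := exists_upper_bound (J := Shrink.{u} c) (fun j => (σ j).1.1.1) (fun j => (σ j).1.1.2)
      (fun {i j} hij => hij)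
    have hgood : (⟨T, t⟩ : Pair) ∈ good := r_trans (σ (equivShrink c ⟨a₀, ha₀⟩)).1.2 (hT _)
    refine ⟨⟨⟨T, t⟩, hgood⟩, fun a ha => ?_⟩
    have key : ∀ z : c, (∃ le : z.1.1.1 ≤ T, Subobject.ofLE _ _ le ≫ t = z.1.1.2) → z = ⟨a, ha⟩ →
        r a.1 ⟨T, t⟩ := by
      rintro z h rfl
      exact h
    exact key _ (hT (equivShrink c ⟨a, ha⟩)) (Equiv.symm_apply_apply _ _)
  obtain ⟨⟨⟨S, g⟩, hS⟩, hmax⟩ := zorn_le_nonempty₀ (Set.univ : Set good) (fun c _ hc y hy => by
      obtain ⟨b, hb⟩ := hchain c hc ⟨y, hy⟩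
      exact ⟨b, trivial, hb⟩) ⟨_, r_refl _⟩ trivial |>.imp fun m hm => hm.2
  have hiso : IsIso S.arrow := by
    refine hP S.arrow inferInstance fun i f => ?_
    obtain ⟨ψ, hψ⟩ := h i (pullback S.arrow f) (pullback.snd S.arrow f) (pullback.fst S.arrow f ≫ g)
    let q := pushout.desc (f := pullback.fst S.arrow f) (g := pullback.snd S.arrow f) S.arrow f pullback.condition
    haveI : Mono q := (IsPushout.of_hasPushout _ _).mono_of_isPullback_of_mono
      (IsPullback.of_hasPullback S.arrow f) _ (pushout.inl_desc _ _ _) (pushout.inr_desc _ _ _)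
    let gq := pushout.desc (f := pullback.fst S.arrow f) (g := pullback.snd S.arrow f) g ψ hψ.symm
    let T : Pair := ⟨Subobject.mk q, (Subobject.underlyingIso q).hom ≫ gq⟩
    have le : S ≤ Subobject.mk q := Subobject.le_mk_of_comm (pushout.inl _ _) (pushout.inl_desc _ _ _)
    have hST : r ⟨S, g⟩ T := ⟨le, by
      have e : Subobject.ofLE S (Subobject.mk q) le ≫ (Subobject.underlyingIso q).hom = pushout.inl _ _ := by
        rw [← cancel_mono q, Category.assoc, Subobject.underlyingIso_hom_comp_eq_mk, Subobject.ofLE_arrow]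
        exact (pushout.inl_desc _ _ _).symm
      show _ ≫ (Subobject.underlyingIso q).hom ≫ gq = g
      rw [reassoc_of% e]
      exact pushout.inl_desc _ _ _⟩
    obtain ⟨le', -⟩ := hmax.2 (y := ⟨T, r_trans hS hST⟩) trivial hST
    exact ⟨pushout.inr _ _ ≫ (Subobject.underlyingIso q).inv ≫ Subobject.ofLE _ _ le', by simp [q]; exact pushout.inr_desc _ _ _⟩
  obtain ⟨le, e⟩ := hS
  refine ⟨inv S.arrow ≫ g, ?_⟩
  have e2 : p ≫ inv S.arrow = (Subobject.underlyingIso p).inv ≫ Subobject.ofLE _ _ le := by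
    rw [← cancel_mono S.arrow]
    simp
  rw [reassoc_of% e2]
  show (Subobject.underlyingIso p).inv ≫ Subobject.ofLE _ _ le ≫ g = φ
  exact (congrArg ((Subobject.underlyingIso p).inv ≫ ·) e).trans (Iso.inv_hom_id_assoc _ _)

/-- Let (C, J) be a small site and I an abelian sheaf. Suppose that for every object X of C, every
abelian subsheaf S of the free abelian sheaf Z_X^# on X (given as a monomorphism S → Z_X^#) and
every morphism S → I, the morphism extends to Z_X^# → I. Then I is an injective abelian sheaf. -/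
theorem result {C : Type u} [SmallCategory C]
    (J : GrothendieckTopology C) (I : Sheaf J AddCommGrpCat.{u})
    (h : ∀ (X : C) (S : Sheaf J AddCommGrpCat.{u}) (i : S ⟶ CohCx.freeSheaf J X) [Mono i] (φ : S ⟶ I),
      ∃ ψ : CohCx.freeSheaf J X ⟶ I, i ≫ ψ = φ) :
    Injective I := by
  refine injective_of_extension (fun X => CohCx.freeSheaf J X) (fun {F G} p hp hf => ?_) I h
  let S := Groth.Agent.SiteDer16.abSections J
  haveI : Limits.HasZeroObject (Sheaf J AddCommGrpCat.{u}) := inferInstance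
  haveI : Epi p := Preadditive.epi_of_cokernel_iso_zero ((S.gen fun V x => by
    obtain ⟨T, hT, hl⟩ := S.lift (Limits.cokernel.π p) x
    refine S.sep x T hT fun W g hg => ?_
    obtain ⟨y, hy⟩ := hl g hg
    obtain ⟨z, hz⟩ := hf W y
    rw [← hy, ← hz]
    exact ((Category.assoc _ _ _).trans (congrArg (z ≫ ·) (Limits.cokernel.condition p))).trans Limits.comp_zero).isoZero)
  exact isIso_of_mono_of_epi p

end Groth.Agent.S6524
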