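import Groth.Statements.S6530
import Mathlib

set_option linter.all false

set_option autoImplicit false
universe u
open DPow

open AdicCompletion

namespace Groth.Agent.S6530

theorem dpow_congr {A : Type*} [CommRing A] {I : Ideal A} (γ : DividedPowers I) (p : ℕ) (t : ℕ)
    (ht : Ideal.span {(p : A)} ^ t ≤ I) (n m : ℕ) {a a' : A} (ha : a ∈ I) (ha' : a' ∈ I) {j : ℕ} (hj : m + t ≤ j)
    (h : a' - a ∈ Ideal.span {(p : A)} ^ j) :
    γ.dpow n a' - γ.dpow n a ∈ Ideal.span {(p : A)} ^ m := by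
  rw [Ideal.span_singleton_pow, Ideal.mem_span_singleton] at h
  obtain ⟨c, hc⟩ := h
  have hb : a' - a ∈ I := I.sub_mem ha' ha
  rw [show a' = a + (a' - a) by ring, γ.dpow_add ha hb,
    Finset.sum_eq_add_sum_sdiff_singleton_of_mem (i := (n, 0)) (by simp), γ.dpow_zero hb, mul_one, add_sub_cancel_left]
  refine Ideal.sum_mem _ fun k hk => Ideal.mul_mem_left _ _ ?_
  rw [Finset.mem_sdiff, Finset.mem_singleton, Finset.HasAntidiagonal.mem_antidiagonal] at hk
  have hk2 : k.2 ≠ 0 := fun h0 => hk.2 (Prod.ext (by dsimp; omega) h0)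
  have hptI : (p : A) ^ t * c ∈ I := I.mul_mem_right _ (ht (Ideal.pow_mem_pow (Ideal.mem_span_singleton_self _) t))
  rw [hc, show (p : A) ^ j * c = (p : A) ^ (j - t) * ((p : A) ^ t * c) by
    rw [← mul_assoc, ← pow_add, Nat.sub_add_cancel (by omega)], γ.dpow_mul hptI, ← pow_mul,
    Ideal.span_singleton_pow, Ideal.mem_span_singleton]
  refine Dvd.dvd.mul_right (pow_dvd_pow _ ?_) _
  calc m ≤ (j - t) * 1 := by omega
    _ ≤ (j - t) * k.2 := Nat.mul_le_mul_left _ (by omega)

/-- Let (A, I, γ) be a divided power ring and p a prime number with p^t A ⊆ I for some t ≥ 0, so that p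
is nilpotent in A/I. Let A^∧ be the p-adic completion of A and π : A^∧ → A/I the composite of the
evaluation A^∧ → A/p^tA with the projection A/p^tA → A/I. Then π is surjective, and there is a
divided power structure on Ker(π) (this kernel is the p-adic completion of I) such that the
canonical map A → A^∧ is a homomorphism of divided power rings. -/
theorem result {A : Type u} [CommRing A] {I : Ideal A}
    (γ : DividedPowers I) (p : ℕ) [Fact p.Prime] (t : ℕ) (ht : Ideal.span {(p : A)} ^ t ≤ I) :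
    Function.Surjective ((Ideal.Quotient.factor ht).comp
      (AdicCompletion.evalₐ (Ideal.span {(p : A)}) t).toRingHom) ∧
    ∃ δ : DividedPowers (RingHom.ker ((Ideal.Quotient.factor ht).comp
      (AdicCompletion.evalₐ (Ideal.span {(p : A)}) t).toRingHom)),
      γ.IsDPMorphism δ (algebraMap A (AdicCompletion (Ideal.span {(p : A)}) A)) := by
  classical
  set P := Ideal.span {(p : A)} with hP
  set π := (Ideal.Quotient.factor ht).comp (AdicCompletion.evalₐ P t).toRingHom with hπ
  set K := RingHom.ker π with hK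
  refine ⟨(Ideal.Quotient.factor_surjective ht).comp (AdicCompletion.surjective_evalₐ P t), ?_⟩
  -- representatives
  let Rep : AdicCompletion P A → ℕ → A → Prop := fun x j a => a ∈ I ∧ evalₐ P j x = Ideal.Quotient.mk _ a
  have hker : ∀ x a, evalₐ P t x = Ideal.Quotient.mk _ a → (x ∈ K ↔ a ∈ I) := fun x a h => by
    rw [hK, RingHom.mem_ker, hπ, RingHom.comp_apply, AlgHom.toRingHom_eq_coe, RingHom.coe_coe, h,
      Ideal.Quotient.factor_mk, Ideal.Quotient.eq_zero_iff_mem]
  have hmono : ∀ (x : AdicCompletion P A) (i j : ℕ), i ≤ j → ∀ a, evalₐ P j x = Ideal.Quotient.mk _ a →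
      evalₐ P i x = Ideal.Quotient.mk _ a := by
    intro x i j hij a h
    obtain ⟨f, rfl⟩ := mk_surjective P A x
    rw [evalₐ_mk] at h ⊢
    rw [← Ideal.mk_eq_mk P hij]
    rw [Ideal.Quotient.eq] at h ⊢
    exact Ideal.pow_le_pow_right hij h
  have hrep : ∀ x ∈ K, ∀ j, t ≤ j → ∃ a, Rep x j a := by
    intro x hx j hj
    obtain ⟨a, ha⟩ := Ideal.Quotient.mk_surjective (evalₐ P j x)
    exact ⟨a, (hker x a (hmono x t j hj a ha.symm)).mp hx, ha.symm⟩
  let d : ℕ → AdicCompletion P A → AdicCompletion P A := fun n x =>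
    if hx : x ∈ K then
      mk P A (AdicCauchySequence.mk P A (fun m => γ.dpow n (hrep x hx (m + t) (by omega)).choose) (by
        intro m
        rw [SModEq.sub_mem, smul_eq_mul, Ideal.mul_top]
        obtain ⟨h1, h1'⟩ := (hrep x hx (m + t) (by omega)).choose_spec
        obtain ⟨h2, h2'⟩ := (hrep x hx (m + 1 + t) (by omega)).choose_spec
        refine dpow_congr γ p t ht n m h2 h1 (j := m + t) le_rfl ?_
        rw [← Ideal.Quotient.eq, ← h1', hmono x (m + t) (m + 1 + t) (by omega) _ h2']))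
    else 0
  have hd : ∀ n, ∀ x ∈ K, ∀ m j, m + t ≤ j → ∀ a, Rep x j a →
      evalₐ P m (d n x) = Ideal.Quotient.mk _ (γ.dpow n a) := by
    intro n x hx m j hj a ha
    simp only [d, dif_pos hx, evalₐ_mk]
    rw [Ideal.Quotient.eq]
    obtain ⟨h1, h1'⟩ := (hrep x hx (m + t) (by omega)).choose_spec
    refine dpow_congr γ p t ht n m ha.1 h1 (j := m + t) le_rfl ?_
    rw [← Ideal.Quotient.eq, ← h1', hmono x (m + t) j hj _ ha.2]
  have hmem : ∀ n, n ≠ 0 → ∀ x ∈ K, d n x ∈ K := by
    intro n hn x hx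
    obtain ⟨a, ha⟩ := hrep x hx (t + t) (by omega)
    exact (hker _ _ (hd n x hx t (t + t) le_rfl a ha)).mpr (γ.dpow_mem hn ha.1)
  have hrepd : ∀ n, n ≠ 0 → ∀ x ∈ K, ∀ m j, m + t ≤ j → ∀ a, Rep x j a → Rep (d n x) m (γ.dpow n a) :=
    fun n hn x hx m j hj a ha => ⟨γ.dpow_mem hn ha.1, hd n x hx m j hj a ha⟩
  have radd : ∀ x y a b j, Rep x j a → Rep y j b → Rep (x + y) j (a + b) := fun x y a b j hx hy =>
    ⟨I.add_mem hx.1 hy.1, by rw [map_add, hx.2, hy.2, map_add]⟩
  refine ⟨
    { dpow := d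
      dpow_null := fun hx => dif_neg hx
      dpow_zero := fun {x} hx => ext_evalₐ (I := P) fun m => by
        obtain ⟨a, ha⟩ := hrep x hx (m + t) (by omega)
        rw [hd 0 x hx m _ le_rfl a ha, γ.dpow_zero ha.1, map_one, map_one]
      dpow_one := fun {x} hx => ext_evalₐ (I := P) fun m => by
        obtain ⟨a, ha⟩ := hrep x hx (m + t) (by omega)
        rw [hd 1 x hx m _ le_rfl a ha, γ.dpow_one ha.1, hmono x m (m + t) (by omega) a ha.2]
      dpow_mem := fun {n x} hn hx => hmem n hn x hx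
      dpow_add := fun {n x y} hx hy => ext_evalₐ (I := P) fun m => by
        obtain ⟨a, ha⟩ := hrep x hx (m + t) (by omega)
        obtain ⟨b, hb⟩ := hrep y hy (m + t) (by omega)
        rw [hd n _ (K.add_mem hx hy) m _ le_rfl _ (radd _ _ _ _ _ ha hb), γ.dpow_add ha.1 hb.1, map_sum, map_sum]
        refine Finset.sum_congr rfl fun k _ => ?_
        rw [map_mul, map_mul, hd _ x hx m _ le_rfl a ha, hd _ y hy m _ le_rfl b hb]
      dpow_mul := fun {n c x} hx => ext_evalₐ (I := P) fun m => by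
        obtain ⟨a, ha⟩ := hrep x hx (m + t) (by omega)
        obtain ⟨e, he⟩ := Ideal.Quotient.mk_surjective (evalₐ P (m + t) c)
        rw [hd n _ (K.mul_mem_left c hx) m _ le_rfl (e * a) ⟨I.mul_mem_left _ ha.1, by rw [map_mul, ← he, ha.2, map_mul]⟩,
          γ.dpow_mul ha.1, map_mul, map_pow, map_mul, map_pow, hd n x hx m _ le_rfl a ha,
          hmono c m (m + t) (by omega) e he.symm]
      mul_dpow := fun {k n x} hx => ext_evalₐ (I := P) fun m => by
        obtain ⟨a, ha⟩ := hrep x hx (m + t) (by omega)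
        rw [map_mul, map_mul, map_natCast, hd k x hx m _ le_rfl a ha, hd n x hx m _ le_rfl a ha,
          hd _ x hx m _ le_rfl a ha, ← map_mul, γ.mul_dpow ha.1, map_mul, map_natCast]
      dpow_comp := fun {k n x} hn hx => ext_evalₐ (I := P) fun m => by
        obtain ⟨a, ha⟩ := hrep x hx (m + t + t) (by omega)
        rw [map_mul, map_natCast, hd k _ (hmem n hn x hx) m (m + t) le_rfl _ (hrepd n hn x hx (m + t) _ le_rfl a ha),
          hd _ x hx m (m + t + t) (by omega) a ha, γ.dpow_comp hn ha.1, map_mul, map_natCast] },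
    ?_, ?_⟩
  · rw [Ideal.map_le_iff_le_comap]
    intro a ha
    rw [Ideal.mem_comap, hker _ a (by rw [AlgHom.commutes]; rfl)]
    exact ha
  · intro n a ha
    refine ext_evalₐ (I := P) fun m => ?_
    change evalₐ P m (d n (algebraMap A _ a)) = _
    rw [hd n _ ((hker _ a (by rw [AlgHom.commutes]; rfl)).mpr ha) m (m + t) le_rfl a ⟨ha, by rw [AlgHom.commutes]; rfl⟩,
      AlgHom.commutes]
    rfl

end Groth.Agent.S6530
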