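import Groth.Statements.S6532
import Groth.Agent.LCI15.TorInfinite

set_option autoImplicit false
universe u
open LCI

namespace Groth.Agent.S6532

/-- Let R' → R be a surjection of Noetherian rings whose kernel is generated by a single element f and
has square zero; let I ⊆ R be the image of the annihilator of f. Let S = R[x_1, …, x_n]/(f_1, …,
f_m) and let ∑ r_j f_j = 0 be a relation in R[x_1, …, x_n] such that (1) every coefficient of every
r_j lies in I, and (2) there are lifts r'_j, f'_j in R'[x_1, …, x_n] and an element g with ∑ r'_j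
f'_j = f g, where g maps to a non-nilpotent element of S/IS. Under these hypotheses, the
Tor-dimension of S over R is infinite (so S fails to be a perfect R-algebra). -/
theorem result {R' R : Type u} [CommRing R'] [CommRing R]
    [IsNoetherianRing R'] [IsNoetherianRing R] (π : R' →+* R) (hπ : Function.Surjective π)
    (f : R') (hker : RingHom.ker π = Ideal.span {f}) (hf : f * f = 0)
    {n m : ℕ} (fs r : Fin m → MvPolynomial (Fin n) R) (hrel : ∑ j, r j * fs j = 0)
    (h1 : ∀ (j : Fin m) (d : Fin n →₀ ℕ),
      MvPolynomial.coeff d (r j) ∈ ((Ideal.span {f}).annihilator).map π)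
    (r' f' : Fin m → MvPolynomial (Fin n) R') (g : MvPolynomial (Fin n) R')
    (hr' : ∀ j, MvPolynomial.map π (r' j) = r j) (hf' : ∀ j, MvPolynomial.map π (f' j) = fs j)
    (hsum : ∑ j, r' j * f' j = MvPolynomial.C f * g)
    (hg : ¬ IsNilpotent (Ideal.Quotient.mk
      (Ideal.span (Set.range fs) ⊔ (((Ideal.span {f}).annihilator).map π).map MvPolynomial.C)
      (MvPolynomial.map π g))) :
    ¬ DRing.HasFiniteTorDim R (MvPolynomial (Fin n) R ⧸ Ideal.span (Set.range fs)) := by
  intro hfin
  let mp : MvPolynomial (Fin n) R' →+* MvPolynomial (Fin n) R := MvPolynomial.map π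
  have hP : Function.Surjective mp := MvPolynomial.map_surjective π hπ
  have hkerP : RingHom.ker mp = Ideal.span {MvPolynomial.C f} := by
    rw [MvPolynomial.ker_map, hker, Ideal.map_span, Set.image_singleton]
  let A := (Ideal.span {f}).annihilator
  have hA : ∀ a, a ∈ A ↔ a * f = 0 := fun a => by
    simp only [A, Submodule.mem_annihilator_span_singleton, smul_eq_mul]
  let K : Ideal (MvPolynomial (Fin n) R') := A.map MvPolynomial.C
  have hK : ∀ a, a ∈ K ↔ a * MvPolynomial.C f = 0 := fun a => by
    rw [MvPolynomial.mem_map_C_iff, MvPolynomial.ext_iff]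
    refine forall_congr' fun d => ?_
    rw [hA, mul_comm a, MvPolynomial.coeff_C_mul, MvPolynomial.coeff_zero, mul_comm]
  have hI : K.map mp = (A.map π).map (algebraMap R (MvPolynomial (Fin n) R)) := by
    rw [Ideal.map_map, Ideal.map_map, MvPolynomial.algebraMap_eq]
    congr 1
    ext a; simp [mp]
  have hr : ∀ j, r' j ∈ K := fun j => by
    rw [MvPolynomial.mem_map_C_iff]
    intro d
    have h := h1 j d
    rw [← hr' j, MvPolynomial.coeff_map, ← Ideal.mem_comap,
      Ideal.comap_map_of_surjective π hπ, ← RingHom.ker_eq_comap_bot, hker] at h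
    refine (sup_le le_rfl ?_ : A ⊔ Ideal.span {f} ≤ A) h
    rw [Ideal.span_singleton_le_iff_mem]
    exact (hA f).2 hf
  have hJ : (fun j => mp (f' j)) = fs := funext hf'
  have key := Groth.Agent.LCI15.isNilpotent_of_hasFiniteTorDim (R := R) hP hkerP K hK (A.map π) hI
    f' r' g hr (by rw [← hsum]; exact Finset.sum_congr rfl fun j _ => mul_comm _ _)
    (by rw [hJ]; exact hfin)
  apply hg
  rw [hJ, hI, MvPolynomial.algebraMap_eq] at key
  exact key

end Groth.Agent.S6532
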