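import Groth.Statements.S6540
import Groth.Agent.CurveRR24.Section

set_option autoImplicit false
universe u
open CategoryTheory CategoryTheory.Limits AlgebraicGeometry
open Curves

namespace Groth.Agent.S6540

/-- Let X be a proper curve over the field k (proper, integral, of dimension one) with H^0(X, O_X) = k
and genus 0. Then every invertible O_X-module of degree 0 is trivial, i.e. isomorphic to O_X. -/
theorem result (k : Type u) [Field k] (X : Scheme.{u}) [X.Over (Spec (CommRingCat.of k))]
    [IsIntegral X] [IsProper (X ↘ (Spec (CommRingCat.of k)))] (hdim : topologicalKrullDim X = 1)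
    (h0 : Module.finrank k (Coh.HH X (Coh.structureModule X) 0) = 1) (hg : Curv2.genus k X = 0)
    (L : X.Modules) (hL : PicF.IsInvertible L) (hdeg : Curv2.deg k X L 1 = 0) :
    Nonempty (L ≅ Coh.structureModule X) := by
  have hrr := Groth.Agent.CurveRR24.riemann_roch k hdim.le hL
  rw [hdeg, h0, hg] at hrr
  have hpos : 0 < Module.finrank k (Coh.HH X L 0) := by omega
  have hs : Nontrivial (Coh.HH X L 0) := Module.nontrivial_of_finrank_pos hpos
  exact (Groth.Agent.CurveRR24.deg_nonneg_of_section k hdim.le hL hs).2.1 hdeg

end Groth.Agent.S6540
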