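import Groth.Statements.S6543
import Groth.Agent.CurveGor3.Invertible
import Groth.Agent.CurveRR24.GenusZeroEmb

set_option autoImplicit false
universe u
open CategoryTheory CategoryTheory.Limits AlgebraicGeometry
open Curves

open scoped AlgebraicGeometry
namespace Groth.Agent.S6543

/-- Let X be a proper curve over the field k (proper, integral, of dimension one) with H^0(X, O_X) = k,
genus 0 and Gorenstein local rings. If X has an invertible O_X-module of odd degree, then X is
isomorphic to P^1_k over k. -/
theorem result (k : Type u) [Field k] (X : Scheme.{u}) [X.Over (Spec (CommRingCat.of k))]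
    [IsIntegral X] [IsProper (X ↘ (Spec (CommRingCat.of k)))] (hdim : topologicalKrullDim X = 1)
    (h0 : Module.finrank k (Coh.HH X (Coh.structureModule X) 0) = 1) (hg : Curv2.genus k X = 0) (hgor : ∀ x : X, LocCoh.IsGorensteinLocalRing (X.presheaf.stalk x))
    (L : X.Modules) (hL : PicF.IsInvertible L) (hodd : Odd (Curv2.deg k X L 1)) :
    ∃ e : X ≅ CohB1.ProjSpace 1 k, e.hom ≫ CohB1.ProjSpace.toSpec 1 k = X ↘ (Spec (CommRingCat.of k)) := by
  haveI := Groth.Agent.DCat.hasRpush (X ↘ Spec (CommRingCat.of k))
  haveI : ∀ (U V : Scheme.{u}) (j : U ⟶ V) [IsOpenImmersion j], PreservesFiniteLimits (Scheme.Modules.restrictFunctor j) :=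
    fun U V j _ => Groth.Agent.DCat.PullPerf.preservesFiniteLimits_restrict j
  haveI : ∀ (S : CommRingCat.{u}), PreservesFiniteLimits (tilde.functor S) :=
    fun S => Groth.Agent.AffSchLib.preservesFiniteLimits_tilde S
  exact Groth.Agent.CurveRR24.exists_iso_projLine_of_odd hdim h0 hg
    (fun ω t hω hrep => Groth.Agent.CurveGor3.isInvertible_dualizing' hdim h0 hgor hω hrep) hL hodd

end Groth.Agent.S6543
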