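import Groth.Statements.S6551
import Groth.Agent.H8Lim.FlatDescent
import Groth.Agent.H8Lim.Constructible
import Groth.Agent.Clifford24.Nodal.Crit

set_option autoImplicit false
set_option linter.style.haveILetI false
universe u
open CategoryTheory AlgebraicGeometry
open Curves

namespace Groth.Agent.S6551

open Limits Clifford24.Nodal

/-- Charts transport along a pullback square. -/
theorem hasChart_of_isPullback {P X Y Z : Scheme.{u}} {fst : P ⟶ X} {snd : P ⟶ Y} {f : X ⟶ Z} {g : Y ⟶ Z}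
    (h : IsPullback fst snd f g) {p : P} (hp : HasChart f (fst p)) : HasChart snd p := by
  have e : pullback.fst f g (h.isoPullback.hom p) = fst p :=
    congrArg (fun m : P ⟶ X => m p) h.isoPullback_hom_fst
  have := (HasChart.baseChange g (h.isoPullback.hom p) (e.symm ▸ hp)).precomp h.isoPullback.hom
  rwa [h.isoPullback_hom_snd] at this

/-- Charts descend along a pullback square, for a flat lfp morphism. -/
theorem hasChart_fst_of_isPullback {P X Y Z : Scheme.{u}} {fst : P ⟶ X} {snd : P ⟶ Y} {f : X ⟶ Z} {g : Y ⟶ Z}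
    (h : IsPullback fst snd f g) [Flat f] [LocallyOfFinitePresentation f] {p : P} (hp : HasChart snd p) :
    HasChart f (fst p) := by
  have e : pullback.fst f g (h.isoPullback.hom p) = fst p :=
    congrArg (fun m : P ⟶ X => m p) h.isoPullback_hom_fst
  rw [← h.isoPullback_hom_snd] at hp
  rw [← e]
  exact hasChart_of_baseChange f g _ (HasChart.image h.isoPullback.hom hp)

/-- Let S = lim S_i be the limit of a cofiltered system of schemes with affine transition morphisms, i₀
an index with S_{i₀} quasi-compact and quasi-separated, and f₀ : X₀ → Y₀ a morphism of quasi-compact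
quasi-separated schemes over S_{i₀} which is locally of finite presentation. Write f : X → Y for the
pullback of f₀ along S → S_{i₀}. Assuming f to be at-worst-nodal, with relative dimension 1, there
exists an index i mapping to i₀ for which the pullback f_i : X_i → Y_i of f₀ to S_i is likewise
at-worst-nodal of relative dimension 1. -/
theorem result {I : Type u} [SmallCategory I] [IsCofiltered I]
    (D : I ⥤ Scheme.{u}) (c : Limits.Cone D) (hc : Limits.IsLimit c)
    [∀ (i j : I) (f : i ⟶ j), IsAffineHom (D.map f)] (i₀ : I) [CompactSpace (D.obj i₀)]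
    [QuasiSeparatedSpace (D.obj i₀)] {X₀ Y₀ : Scheme.{u}} (f₀ : X₀ ⟶ Y₀) (g₀ : Y₀ ⟶ D.obj i₀)
    [CompactSpace X₀] [QuasiSeparatedSpace X₀] [CompactSpace Y₀] [QuasiSeparatedSpace Y₀]
    {X Y : Scheme.{u}} (f : X ⟶ Y) (g : Y ⟶ c.pt) (qY : Y ⟶ Y₀) (qX : X ⟶ X₀)
    (hY : IsPullback qY g g₀ (c.π.app i₀)) (hX : IsPullback qX f f₀ qY) [LocallyOfFinitePresentation f₀]
    (hf : Curv2.IsNodalFamily f) :
    ∃ (i : I) (φ : i ⟶ i₀) (Xi Yi : Scheme.{u}) (fi : Xi ⟶ Yi) (gi : Yi ⟶ D.obj i) (pY : Yi ⟶ Y₀)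
      (pX : Xi ⟶ X₀), IsPullback pY gi g₀ (D.map φ) ∧ IsPullback pX fi f₀ pY ∧ Curv2.IsNodalFamily fi := by
  obtain ⟨j, φ, Xj, Yj, fj, gj, pY, pX, hYj, hXj, hflat⟩ := LimSmooth.exists_stage (P := (@Flat : MorphismProperty Scheme.{u})) hc hY hX
    H8Lim.affineSpreads_flat (fun ι _ ↦ inferInstance) hf.1
  haveI := hflat
  haveI : LocallyOfFinitePresentation fj := MorphismProperty.of_isPullback hXj inferInstance
  haveI : IsAffineHom pY := MorphismProperty.of_isPullback hYj.flip inferInstance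
  haveI : IsAffineHom pX := MorphismProperty.of_isPullback hXj.flip inferInstance
  haveI : CompactSpace Xj := QuasiCompact.compactSpace_of_compactSpace pX
  -- the limit maps to the stage
  let qYj : Y ⟶ Yj := hYj.lift qY (g ≫ c.π.app j) (by rw [Category.assoc, c.w, hY.w])
  have hY' : IsPullback qYj g gj (c.π.app j) := IsPullback.of_right (by
    rw [hYj.lift_fst, c.w]; exact hY) (hYj.lift_snd _ _ _) hYj
  let qXj : X ⟶ Xj := hXj.lift qX (f ≫ qYj) (by rw [Category.assoc, hYj.lift_fst, hX.w])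
  have hX' : IsPullback qXj f fj qYj := IsPullback.of_right (by
    rw [hXj.lift_fst, hYj.lift_fst]; exact hX) (hXj.lift_snd _ _ _) hXj
  have hXS : IsPullback qXj (f ≫ g) (fj ≫ gj) (c.π.app j) := hX'.paste_vert hY'
  let W : Set Xj := {x | HasChart fj x}
  have hW : IsOpen W := isOpen_hasChart fj
  have himg : ∀ x : X, qXj x ∈ W := fun x =>
    hasChart_fst_of_isPullback hX' (((isNodalFamily_iff f).1 hf).2.2 x)
  let E := H8Lim.stage D (fj ≫ gj)
  let F : Set (E.obj (Over.mk (𝟙 j))) := (H8Lim.stageFst D (fj ≫ gj) (Over.mk (𝟙 j)) ⁻¹' W)ᶜ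
  have hF : IsClosed F := (hW.preimage (H8Lim.stageFst D (fj ≫ gj) (Over.mk (𝟙 j))).continuous).isClosed_compl
  obtain ⟨k, ψ, hk⟩ := H8Lim.exists_forall_map_notMem
    (H8Lim.isLimitStageCone (fj ≫ gj) qXj (f ≫ g) hXS hc) (i := Over.mk (𝟙 j)) (K := ⊤)
    isCompact_univ (Z := Set.univ) Topology.IsConstructible.univ.isLocallyConstructible hF (fun x _ _ hx => hx (by
      show H8Lim.stageFst D (fj ≫ gj) (Over.mk (𝟙 j)) (H8Lim.stageProj (fj ≫ gj) c qXj (f ≫ g) hXS _ x) ∈ W
      rw [← Scheme.Hom.comp_apply, H8Lim.stageProj_fst]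
      exact himg x))
  have hall : ∀ x, H8Lim.stageFst D (fj ≫ gj) k x ∈ W := fun x => by
    have h := hk x trivial trivial
    rw [← H8Lim.stageMap_fst D (fj ≫ gj) ψ]
    by_contra hx
    exact h hx
  let Yk := pullback gj (D.map k.hom)
  let fk : (E.obj k) ⟶ Yk := pullback.lift (H8Lim.stageFst D (fj ≫ gj) k ≫ fj) (H8Lim.stageSnd D (fj ≫ gj) k)
    (by rw [Category.assoc]; exact (H8Lim.isPullback_stage D (fj ≫ gj) k).w)
  have hXk : IsPullback (H8Lim.stageFst D (fj ≫ gj) k) fk fj (pullback.fst gj (D.map k.hom)) :=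
    IsPullback.of_bot (by rw [pullback.lift_snd]; exact H8Lim.isPullback_stage D (fj ≫ gj) k)
      (pullback.lift_fst _ _ _).symm (IsPullback.of_hasPullback gj (D.map k.hom))
  refine ⟨k.left, k.hom ≫ φ, E.obj k, Yk, fk, pullback.snd gj (D.map k.hom), pullback.fst gj _ ≫ pY,
    H8Lim.stageFst D (fj ≫ gj) k ≫ pX, ?_, hXk.paste_horiz hXj, ?_⟩
  · rw [D.map_comp]; exact (IsPullback.of_hasPullback gj (D.map k.hom)).paste_horiz hYj
  · exact (isNodalFamily_iff fk).2 ⟨MorphismProperty.of_isPullback hXk hflat,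
      MorphismProperty.of_isPullback hXk inferInstance,
      fun x => hasChart_of_isPullback hXk (hall x)⟩

end Groth.Agent.S6551
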