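import Groth.Statements.S6552
import Groth.Agent.NodeLib7.Transfer
-- import your own Groth.Agent.* helpers here

set_option autoImplicit false
set_option backward.isDefEq.respectTransparency false
universe u
open CategoryTheory CategoryTheory.Limits AlgebraicGeometry
open Curves

namespace Groth.Agent.S6552

/-- Let k be a field, X a scheme locally of finite type over k of dimension 1, π : Y → X an étale
morphism, and y ∈ Y a point with image x. Then x is a closed point of X which is a node if and only
if y is a closed point of Y which is a node (Y being a k-scheme through π). -/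
theorem result (k : Type u) [Field k] (X : Scheme.{u}) [X.Over (Spec (CommRingCat.of k))] [LocallyOfFiniteType (X ↘ (Spec (CommRingCat.of k)))] (hdim : topologicalKrullDim X = 1)
    {Y : Scheme.{u}} (π : Y ⟶ X) [Etale π] (y : Y) :
    Curv2.IsNode k X (π y) ↔ @Curv2.IsNode k _ Y ⟨π ≫ (X ↘ (Spec (CommRingCat.of k)))⟩ y := by
  letI : Y.Over (Spec (CommRingCat.of k)) := ⟨π ≫ (X ↘ (Spec (CommRingCat.of k)))⟩
  haveI : LocallyOfFiniteType (Y ↘ (Spec (CommRingCat.of k))) :=
    inferInstanceAs (LocallyOfFiniteType (π ≫ (X ↘ (Spec (CommRingCat.of k)))))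
  letI := Curv2.stalkAlgebra k X (π y)
  letI := Curv2.stalkAlgebra k Y y
  letI := (π.stalkMap y).hom.toAlgebra
  haveI : IsScalarTower k (X.presheaf.stalk (π y)) (Y.presheaf.stalk y) := IsScalarTower.of_algebraMap_eq fun t => by
    refine Eq.symm ?_
    show (π.stalkMap y).hom ((X.presheaf.germ ⊤ (π y) trivial).hom (Coh.toGlobal (X ↘ Spec (CommRingCat.of k)) t)) = _
    exact (Scheme.Hom.germ_stalkMap_apply π ⊤ y trivial _).trans rfl
  haveI : IsLocalHom (algebraMap (X.presheaf.stalk (π y)) (Y.presheaf.stalk y)) :=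
    inferInstanceAs <| IsLocalHom (π.stalkMap y).hom
  haveI : Module.Flat (X.presheaf.stalk (π y)) (Y.presheaf.stalk y) := Flat.stalkMap π y
  haveI : Algebra.EssFiniteType (X.presheaf.stalk (π y)) (Y.presheaf.stalk y) := by
    rw [← RingHom.essFiniteType_algebraMap, RingHom.algebraMap_toAlgebra]
    exact LocallyOfFiniteType.stalkMap π y
  haveI : Algebra.FormallyUnramified (X.presheaf.stalk (π y)) (Y.presheaf.stalk y) :=
    FormallyUnramified.stalkMap π y
  haveI := Groth.Agent.NodeLib7.isNoetherianRing_stalk k X (π y)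
  haveI := Groth.Agent.NodeLib7.isNoetherianRing_stalk k Y y
  have hm := Algebra.FormallyUnramified.map_maximalIdeal (R := X.presheaf.stalk (π y)) (S := Y.presheaf.stalk y)
  obtain ⟨h1, h2⟩ := Groth.Agent.NodeLib7.residue_iff (k := k) (A := X.presheaf.stalk (π y)) (B := Y.presheaf.stalk y)
  rw [Groth.Agent.NodeLib7.isNode_iff, Groth.Agent.NodeLib7.isNode_iff,
    Groth.Agent.NodeLib7.isClosed_iff_finite k X, Groth.Agent.NodeLib7.isClosed_iff_finite k Y]
  constructor
  · rintro ⟨hc, hs, u, v, a, b, c, hd⟩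
    exact ⟨h1.1 hc, h2.1 hs, _, _, _, _, _, hd.map hm⟩
  · rintro ⟨hc, hs, u, v, a, b, c, hd⟩
    haveI := hs
    exact ⟨h1.2 hc, h2.2 hs, Groth.Agent.NodeLib7.exists_nodeData_descend (k := k) hd hm⟩

end Groth.Agent.S6552
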