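import Groth.Statements.S6553
import Groth.Agent.NodeLib7.Transfer
-- import your own Groth.Agent.* helpers here

set_option autoImplicit false
set_option backward.isDefEq.respectTransparency false
universe u
open CategoryTheory CategoryTheory.Limits AlgebraicGeometry
open Curves

namespace Groth.Agent.S6553

/-- Let k'/k be a finite separable extension of fields, X a scheme locally of finite type over k' of
dimension 1, and x ∈ X a closed point. Then x is a node of the k'-scheme X if and only if x is a
node of X viewed as a k-scheme via Spec k' → Spec k. -/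
theorem result (k : Type u) [Field k] (k' : Type u) [Field k'] [Algebra k k']
    [FiniteDimensional k k'] [Algebra.IsSeparable k k']
    (X : Scheme.{u}) [X.Over (Spec (CommRingCat.of k'))] [LocallyOfFiniteType (X ↘ (Spec (CommRingCat.of k')))] (hdim : topologicalKrullDim X = 1)
    (x : X) (hx : IsClosed ({x} : Set X)) :
    Curv2.IsNode k' X x ↔
      @Curv2.IsNode k _ X ⟨(X ↘ (Spec (CommRingCat.of k'))) ≫ Spec.map (CommRingCat.ofHom (algebraMap k k'))⟩ x := by
  let s := X ↘ (Spec (CommRingCat.of k'))
  let f := CommRingCat.ofHom (algebraMap k k')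
  letI iOver : X.Over (Spec (CommRingCat.of k)) := ⟨s ≫ Spec.map f⟩
  haveI : IsFinite (Spec.map f) := (IsFinite.SpecMap_iff f).2 (RingHom.finite_algebraMap.2 inferInstance)
  haveI : LocallyOfFiniteType (X ↘ (Spec (CommRingCat.of k))) :=
    inferInstanceAs (LocallyOfFiniteType (s ≫ Spec.map f))
  letI := Curv2.stalkAlgebra k X x
  letI := Curv2.stalkAlgebra k' X x
  haveI : IsScalarTower k k' (X.presheaf.stalk x) := IsScalarTower.of_algebraMap_eq fun t => by
    show (X.presheaf.germ ⊤ x trivial).hom (Coh.toGlobal (s ≫ Spec.map f) t) =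
      (X.presheaf.germ ⊤ x trivial).hom (Coh.toGlobal s (algebraMap k k' t))
    refine congrArg _ ?_
    have h : (Scheme.ΓSpecIso (CommRingCat.of k)).inv ≫ (s ≫ Spec.map f).appTop =
        f ≫ (Scheme.ΓSpecIso (CommRingCat.of k')).inv ≫ s.appTop := by
      rw [Scheme.Hom.comp_appTop, Scheme.ΓSpecIso_inv_naturality_assoc]
    exact ConcreteCategory.congr_hom h t
  haveI : IsScalarTower k k' (IsLocalRing.ResidueField (X.presheaf.stalk x)) :=
    IsScalarTower.of_algebraMap_eq fun t => congrArg (IsLocalRing.residue _)
      (IsScalarTower.algebraMap_apply k k' (X.presheaf.stalk x) t)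
  rw [Groth.Agent.NodeLib7.isNode_iff, Groth.Agent.NodeLib7.isNode_iff]
  refine and_congr_right fun _ => and_congr_left fun _ => ?_
  exact ⟨fun _ => Algebra.IsSeparable.trans k k' _,
    fun _ => Algebra.isSeparable_tower_top_of_isSeparable k k' _⟩

end Groth.Agent.S6553
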