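import Groth.Statements.S6555
import Groth.Agent.Clifford24.KaehlerStalk
-- import your own Groth.Agent.* helpers here

set_option autoImplicit false
universe u
open CategoryTheory CategoryTheory.Limits AlgebraicGeometry
attribute [local instance] Curv2.resAlgebra Curv2.stalkAlgebra
open Curves

set_option backward.isDefEq.respectTransparency.types false
open Groth.Agent
namespace Groth.Agent.S6555

/-- Let X be a scheme over the field k and x ∈ X a closed point near which X → Spec k is smooth of
relative dimension 1 (on some open neighbourhood of x), with κ(x)/k separable. If s is an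
irreducible element of the local ring O_{X,x} (a discrete valuation ring, so s generates its maximal
ideal), then Ω_{O_{X,x}/k}, which is the stalk of Ω_{X/k} at x, is free of rank one with basis d s:
the map a ↦ a · d s from O_{X,x} to Ω_{O_{X,x}/k} is bijective. -/
theorem result (k : Type u) [Field k] (X : Scheme.{u}) [X.Over (Spec (CommRingCat.of k))]
    (x : X) (hx : IsClosed ({x} : Set X))
    (hsm : ∃ U : X.Opens, x ∈ U ∧ SmoothOfRelativeDimension 1 (U.ι ≫ (X ↘ (Spec (CommRingCat.of k)))))
    (hsep : Algebra.IsSeparable k (X.residueField x))
    (s : X.presheaf.stalk x) (hs : Irreducible s) :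
    Function.Bijective (fun a : X.presheaf.stalk x => a • KaehlerDifferential.D k (X.presheaf.stalk x) s) := by
  obtain ⟨⟨e⟩, hfs, hN⟩ := Clifford24.KaehlerStalk.exists_equiv_kaehler_stalk X x hsm
  haveI : Algebra.IsSeparable k (IsLocalRing.ResidueField (X.presheaf.stalk x)) :=
    AlgEquiv.Algebra.isSeparable (AlgEquiv.ofRingEquiv (f := RingEquiv.refl (X.residueField x)) fun _ => rfl :
      (X.residueField x) ≃ₐ[k] IsLocalRing.ResidueField (X.presheaf.stalk x))
  haveI := hfs
  haveI := hN
  haveI : Algebra.FormallyEtale k (IsLocalRing.ResidueField (X.presheaf.stalk x)) := .of_isSeparable k _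
  exact Clifford24.KaehlerStalk.bijective_smul_D k _ s
    (Clifford24.KaehlerStalk.maximalIdeal_eq_span k _ e s hs) e

end Groth.Agent.S6555
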