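import Groth.Statements.S6556
import Groth.Agent.FlatMorWeightLen.Main
import Groth.Agent.CycLib28.FiniteDeg
import Groth.Agent.NodeLib7.Point
-- import your own Groth.Agent.* helpers here

set_option autoImplicit false
universe u
open CategoryTheory CategoryTheory.Limits AlgebraicGeometry
attribute [local instance] Curv2.resAlgebra
open Curves

set_option backward.isDefEq.respectTransparency.types false
set_option maxHeartbeats 1000000
namespace Groth.Agent.S6556

open Groth.Agent AlgebraicGeometry

theorem ramIdx_eq {X Y : Scheme.{u}} (f : X ⟶ Y) (x : X) :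
    (letI := (f.stalkMap x).hom.toAlgebra
     Ideal.ramificationIdx (IsLocalRing.maximalIdeal (X.presheaf.stalk x)) (Y.presheaf.stalk (f x))) =
      (CycLib28.lenFibre f x).toNat := by
  let _ := (f.stalkMap x).hom.toAlgebra
  haveI : (IsLocalRing.maximalIdeal (X.presheaf.stalk x)).LiesOver (IsLocalRing.maximalIdeal (Y.presheaf.stalk (f x))) :=
    ⟨(IsLocalRing.maximalIdeal_comap (f.stalkMap x).hom).symm⟩
  haveI : IsLocalization.AtPrime (Y.presheaf.stalk (f x)) (IsLocalRing.maximalIdeal (Y.presheaf.stalk (f x))) :=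
    IsLocalization.self fun z hz => IsLocalRing.notMem_maximalIdeal.1 hz
  haveI : IsLocalization.AtPrime (X.presheaf.stalk x) (IsLocalRing.maximalIdeal (X.presheaf.stalk x)) :=
    IsLocalization.self fun z hz => IsLocalRing.notMem_maximalIdeal.1 hz
  exact CycLib28.ramificationIdx_eq_length (IsLocalRing.maximalIdeal (Y.presheaf.stalk (f x))) _
    (f.stalkMap x).hom fun _ => rfl

open TensorProduct in
/-- Every local factor of `κ ⊗ K` has length the inseparable degree. -/
theorem length_localization_tensor (k κ K : Type u) [Field k] [Field κ] [Field K] [Algebra k κ] [Algebra k K]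
    [FiniteDimensional k κ] [IsAlgClosed K] [Algebra.IsAlgebraic k K] (P : Ideal (κ ⊗[k] K)) [hP : P.IsPrime] :
    Module.length (Localization.AtPrime P) (Localization.AtPrime P) = (Field.finInsepDegree k κ : ℕ∞) := by
  classical
  letI : Algebra K (κ ⊗[k] K) := Algebra.TensorProduct.rightAlgebra
  have hcomm : (algebraMap K (κ ⊗[k] K)).comp (RingEquiv.refl K).toRingHom =
      (Algebra.TensorProduct.comm k K κ).toRingEquiv.toRingHom.comp (algebraMap K (K ⊗[k] κ)) :=
    RingHom.ext fun c => rfl
  haveI : Module.Finite K (κ ⊗[k] K) :=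
    Module.Finite.of_equiv_equiv (RingEquiv.refl K) (Algebra.TensorProduct.comm k K κ).toRingEquiv hcomm
  have hrank : Module.finrank K (κ ⊗[k] K) = Module.finrank k κ :=
    (Algebra.finrank_eq_of_equiv_equiv (RingEquiv.refl K) (Algebra.TensorProduct.comm k K κ).toRingEquiv hcomm).symm.trans
      Module.finrank_baseChange
  haveI : IsArtinianRing (κ ⊗[k] K) := IsArtinianRing.of_finite K _
  let ev : (κ →ₐ[k] K) → (κ ⊗[k] K →ₐ[k] K) := fun φ =>
    Algebra.TensorProduct.lift φ (AlgHom.id k K) fun _ _ => Commute.all _ _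
  have hev : ∀ φ a b, ev φ (a ⊗ₜ b) = φ a * b := fun φ a b => Algebra.TensorProduct.lift_tmul _ _ _ _ _
  have hsurj : ∀ φ, Function.Surjective (ev φ) := fun φ c => ⟨1 ⊗ₜ c, by rw [hev, map_one, one_mul]⟩
  let toMax : (κ →ₐ[k] K) → MaximalSpectrum (κ ⊗[k] K) := fun φ =>
    ⟨RingHom.ker (ev φ), RingHom.ker_isMaximal_of_surjective _ (hsurj φ)⟩
  have htinj : Function.Injective toMax := fun φ φ' h => AlgHom.ext fun a => by
    have h1 : a ⊗ₜ[k] (1 : K) - 1 ⊗ₜ φ a ∈ RingHom.ker (ev φ) := by
      rw [RingHom.mem_ker, map_sub, hev, hev, mul_one, map_one, one_mul, sub_self]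
    have h2 : a ⊗ₜ[k] (1 : K) - 1 ⊗ₜ φ a ∈ RingHom.ker (ev φ') := by
      rw [← show (toMax φ').asIdeal = RingHom.ker (ev φ') from rfl, ← h]; exact h1
    rw [RingHom.mem_ker, map_sub, hev, hev, mul_one, map_one, one_mul, sub_eq_zero] at h2
    exact h2.symm
  have hdeg : ∀ n : MaximalSpectrum (κ ⊗[k] K), Function.Bijective (algebraMap K ((κ ⊗[k] K) ⧸ n.asIdeal)) := fun n => by
    letI := Ideal.Quotient.field n.asIdeal
    exact IsAlgClosed.algebraMap_bijective_of_isIntegral (k := K) (K := (κ ⊗[k] K) ⧸ n.asIdeal)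
  have htsurj : Function.Surjective toMax := fun n => by
    let q : (κ ⊗[k] K) →+* K :=
      (RingEquiv.ofBijective _ (hdeg n)).symm.toRingHom.comp (Ideal.Quotient.mk n.asIdeal)
    have hqK : ∀ c : K, q (1 ⊗ₜ c) = c := fun c => (RingEquiv.ofBijective _ (hdeg n)).symm_apply_apply c
    let φ : κ →ₐ[k] K :=
      { toRingHom := q.comp Algebra.TensorProduct.includeLeftRingHom
        commutes' := fun c => by
          show q (algebraMap k κ c ⊗ₜ 1) = algebraMap k K c
          rw [Algebra.algebraMap_eq_smul_one c, smul_tmul, ← Algebra.algebraMap_eq_smul_one]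
          exact hqK _ }
    have hφ : ∀ d, ev φ d = q d := fun d => by
      induction d using TensorProduct.induction_on with
      | zero => rw [map_zero, map_zero]
      | tmul a b =>
        rw [hev, show (a ⊗ₜ[k] b : κ ⊗[k] K) = (a ⊗ₜ 1) * (1 ⊗ₜ b) by
          rw [Algebra.TensorProduct.tmul_mul_tmul, mul_one, one_mul], map_mul, hqK]
        rfl
      | add x y hx hy => rw [map_add, map_add, hx, hy]
    refine ⟨φ, MaximalSpectrum.ext (Ideal.ext fun d => ?_)⟩
    show ev φ d = 0 ↔ d ∈ n.asIdeal
    rw [hφ, ← Ideal.Quotient.eq_zero_iff_mem]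
    exact map_eq_zero_iff (RingEquiv.ofBijective _ (hdeg n)).symm (RingEquiv.injective _)
  let len : MaximalSpectrum (κ ⊗[k] K) → ℕ∞ := fun n =>
    Module.length (Localization.AtPrime n.asIdeal) (Localization.AtPrime n.asIdeal)
  have hconst : ∀ φ φ', len (toMax φ) = len (toMax φ') := by
    intro φ φ'
    obtain ⟨σ₀, hσ⟩ : ∃ σ₀ : K →ₐ[k] K, ∀ a, σ₀ (φ a) = φ' a := by
      letI := φ.toRingHom.toAlgebra
      haveI : IsScalarTower k κ K := IsScalarTower.of_algebraMap_eq fun c => (φ.commutes c).symm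
      haveI : Algebra.IsAlgebraic κ K := Algebra.IsAlgebraic.tower_top (K := k) κ
      obtain ⟨g, hg⟩ := IsAlgClosed.surjective_domRestrict_of_isAlgebraic (K := k) (L := κ) (M := K) (E := K) φ'
      exact ⟨g, fun a => AlgHom.congr_fun hg a⟩
    let σ : K ≃ₐ[k] K := AlgEquiv.ofBijective σ₀ (Algebra.IsAlgebraic.algHom_bijective σ₀)
    let τ : κ ⊗[k] K ≃+* κ ⊗[k] K := (Algebra.TensorProduct.congr (AlgEquiv.refl : κ ≃ₐ[k] κ) σ).toRingEquiv
    have hτ : ∀ d, ev φ' (τ d) = σ₀ (ev φ d) := fun d => by
      induction d using TensorProduct.induction_on with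
      | zero => rw [map_zero, map_zero, map_zero, map_zero]
      | tmul a b =>
        rw [show τ (a ⊗ₜ b) = a ⊗ₜ σ₀ b from rfl, hev, hev, map_mul, hσ]
      | add x y hx hy => rw [map_add, map_add, map_add, map_add, hx, hy]
    have hmem : ∀ d, τ d ∈ (toMax φ').asIdeal ↔ d ∈ (toMax φ).asIdeal := fun d => by
      show ev φ' (τ d) = 0 ↔ ev φ d = 0
      rw [hτ]
      exact map_eq_zero_iff σ₀ σ₀.injective
    haveI := (toMax φ).isMaximal.isPrime
    haveI := (toMax φ').isMaximal.isPrime
    refine FlatMorWeightLen.length_self_congr (IsLocalization.ringEquivOfRingEquiv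
      (M := (toMax φ).asIdeal.primeCompl) (T := (toMax φ').asIdeal.primeCompl)
      (Localization.AtPrime (toMax φ).asIdeal) (Localization.AtPrime (toMax φ').asIdeal) τ ?_)
    ext d
    refine ⟨?_, fun hd => ⟨τ.symm d, fun h => hd (by simpa using (hmem _).2 h), τ.apply_symm_apply d⟩⟩
    rintro ⟨d', hd', rfl⟩
    exact fun h => hd' ((hmem d').1 h)
  obtain ⟨φ₀, hφ₀⟩ := htsurj ⟨P, IsArtinianRing.isMaximal_of_isPrime P⟩
  let E := Equiv.ofBijective toMax ⟨htinj, htsurj⟩
  haveI : Fintype (κ →ₐ[k] K) := Fintype.ofFinite _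
  have hsum := FlatMorWeightLen.finrank_eq_sum (k := K) (C := κ ⊗[k] K)
  rw [← finsum_comp_equiv E, finsum_eq_sum_of_fintype] at hsum
  have h1 : ∀ φ, (Module.finrank K ((κ ⊗[k] K) ⧸ (E φ).asIdeal) : ℕ∞) * len (E φ) = len (toMax φ₀) := fun φ => by
    rw [(LinearEquiv.ofBijective (Algebra.linearMap K ((κ ⊗[k] K) ⧸ (E φ).asIdeal)) (hdeg _)).finrank_eq.symm,
      Module.finrank_self, Nat.cast_one, one_mul]
    exact hconst φ φ₀
  rw [Finset.sum_congr rfl fun φ _ => h1 φ, Finset.sum_const, Finset.card_univ, nsmul_eq_mul, hrank,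
    ← Field.finSepDegree_mul_finInsepDegree k κ, Nat.cast_mul, Field.finSepDegree_eq_of_isAlgClosed k κ K,
    Nat.card_eq_fintype_card] at hsum
  have hne : (Fintype.card (κ →ₐ[k] K) : ℕ∞) ≠ 0 := Nat.cast_ne_zero.2 (Fintype.card_pos_iff.2 ⟨φ₀⟩).ne'
  have h2 : Module.length (Localization.AtPrime P) (Localization.AtPrime P) = len (toMax φ₀) := by
    rw [hφ₀]
  rw [h2]
  exact ((ENat.mul_right_strictMono hne (ENat.coe_ne_top _)).injective hsum).symm

/-- Let X be a smooth curve over the field k (integral, separated, of finite type and smooth over k, of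
dimension one), k̄ an algebraic closure of k, x̄ ∈ X_{k̄} a closed point and x ∈ X its image. Then
the ramification index of the extension of discrete valuation rings O_{X,x} → O_{X_{k̄}, x̄} (the
length of O_{X_{k̄},x̄} modulo the ideal generated by the maximal ideal of O_{X,x}) equals the
inseparable degree [κ(x) : k]_i. -/
theorem result (k : Type u) [Field k] (X : Scheme.{u}) [X.Over (Spec (CommRingCat.of k))]
    [IsIntegral X] [IsSeparated (X ↘ (Spec (CommRingCat.of k)))] [LocallyOfFiniteType (X ↘ (Spec (CommRingCat.of k)))] [QuasiCompact (X ↘ (Spec (CommRingCat.of k)))] (hdX : topologicalKrullDim X = 1) [Smooth (X ↘ (Spec (CommRingCat.of k)))]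
    (xb : Curv2.bc k X (AlgebraicClosure k)) (hxb : IsClosed ({xb} : Set (Curv2.bc k X (AlgebraicClosure k)))) :
    letI := ((Curv2.bcFst k X (AlgebraicClosure k)).stalkMap xb).hom.toAlgebra
    Ideal.ramificationIdx (IsLocalRing.maximalIdeal ((Curv2.bc k X (AlgebraicClosure k)).presheaf.stalk xb))
        (X.presheaf.stalk (Curv2.bcFst k X (AlgebraicClosure k) xb)) =
      Field.finInsepDegree k (X.residueField (Curv2.bcFst k X (AlgebraicClosure k) xb)) := by
  let qX := X ↘ Spec (CommRingCat.of k)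
  let K := AlgebraicClosure k
  let a := Curv2.bcFst k X K
  let x := a xb
  have hxc : IsClosed ({x} : Set X) := by
    haveI : IsIntegralHom (Spec.map (CommRingCat.ofHom (algebraMap k K))) := by
      rw [IsIntegralHom.SpecMap_iff]
      exact Algebra.isIntegral_def.1 (inferInstance : Algebra.IsIntegral k K) |> fun h => h
    haveI : IsIntegralHom a := MorphismProperty.pullback_fst (P := @IsIntegralHom) _ _ inferInstance
    rw [show ({x} : Set X) = a '' {xb} from Set.image_singleton.symm]
    exact a.isClosedMap _ hxb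
  let κ := X.residueField x
  haveI : Module.Finite k κ := (Groth.Agent.NodeLib7.isClosed_iff_finite k X x).1 hxc
  let sκ := Spec.map (CommRingCat.ofHom (algebraMap k κ))
  let sK := Spec.map (CommRingCat.ofHom (algebraMap k K))
  let j := X.fromSpecResidueField x
  have hj : sκ = j ≫ qX := Groth.Agent.NodeLib7.specMap_resMap k X x
  let D := TensorProduct k κ K
  let inl := Spec.map (CommRingCat.ofHom (Algebra.TensorProduct.includeLeftRingHom : κ →+* D))
  let inr := Spec.map (CommRingCat.ofHom ((Algebra.TensorProduct.includeRight : K →ₐ[k] D).toRingHom))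
  have hbig : IsPullback inl inr (j ≫ qX) sK := hj ▸ isPullback_SpecMap_of_isPushout _ _ _ _ (CommRingCat.isPushout_tensorProduct k κ K)
  let u : Spec (CommRingCat.of D) ⟶ Curv2.bc k X K :=
    pullback.lift (inl ≫ j) inr (by rw [Category.assoc]; exact hbig.w)
  have hu1 : u ≫ a = inl ≫ j := pullback.lift_fst _ _ _
  have hu2 : u ≫ Curv2.bcSnd k X K = inr := pullback.lift_snd _ _ _
  have hsq : IsPullback u inl a j := by
    refine IsPullback.of_right ?_ hu1 (IsPullback.of_hasPullback qX sK).flip
    rw [show u ≫ pullback.snd qX sK = inr from hu2]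
    exact hbig.flip
  let e : Spec (CommRingCat.of D) ⟶ a.fiber x := hsq.isoPullback.hom
  haveI : IsIso e := inferInstanceAs (IsIso hsq.isoPullback.hom)
  have heι : e ≫ a.fiberι x = u := hsq.isoPullback_hom_fst
  obtain ⟨w, hw⟩ : xb ∈ Set.range (a.fiberι x) := by rw [a.range_fiberι]; rfl
  let z := (inv e) w
  have hz : u z = xb := by
    rw [← heι]
    show a.fiberι x (e ((inv e) w)) = xb
    rw [← Scheme.Hom.comp_apply (inv e) e, IsIso.inv_hom_id]
    exact hw
  haveI : Flat inl := Flat.SpecMap_iff.2 (RingHom.flat_algebraMap_iff.2 (inferInstance : Module.Flat κ D))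
  have hlen : Groth.Agent.CycLib28.lenFibre a xb =
      Module.length (Localization.AtPrime z.asIdeal) (Localization.AtPrime z.asIdeal) := by
    have h1 := Groth.Agent.FlatMorWeightLen.lenFibre_fiberι a x e z
    rw [show (e ≫ a.fiberι x) ≫ a = inl ≫ j by rw [heι, hu1], Groth.Agent.CycLib28.lenFibre_comp,
      Groth.Agent.FlatMorWeightLen.lenFibre_fromSpecResidueField, one_mul] at h1
    rw [show (e ≫ a.fiberι x) z = xb by rw [heι]; exact hz] at h1
    exact h1.symm.trans (Groth.Agent.FlatMorWeightLen.lenFibre_str (k := κ) (C := D) z)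
  refine (ramIdx_eq a xb).trans ?_
  rw [hlen, length_localization_tensor k κ K z.asIdeal]
  exact ENat.toNat_coe _

end Groth.Agent.S6556
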