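import Groth.Statements.S6557
import Groth.Agent.Hurwitz24.Generic
import Groth.Agent.AlgSpLib.SmoothSource
import Groth.Agent.FlatMor12.GenericSmooth
import Groth.Agent.Coherent.CohBC.PushStructureIso
-- import your own Groth.Agent.* helpers here

set_option autoImplicit false
universe u
open CategoryTheory CategoryTheory.Limits AlgebraicGeometry
open Curves

set_option backward.isDefEq.respectTransparency.types false
open Groth.Agent
namespace Groth.Agent.S6557

/-- Let k be a field and f : X → Y a surjective morphism over k of curves over k (integral, separated,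
of finite type over k, of dimension one). If X is smooth over k and every local ring of Y is an
integrally closed domain, then Y is also smooth over k. -/
theorem result (k : Type u) [Field k]
    (X Y : Scheme.{u}) [X.Over (Spec (CommRingCat.of k))] [Y.Over (Spec (CommRingCat.of k))]
    [IsIntegral X] [IsSeparated (X ↘ (Spec (CommRingCat.of k)))] [LocallyOfFiniteType (X ↘ (Spec (CommRingCat.of k)))] [QuasiCompact (X ↘ (Spec (CommRingCat.of k)))] (hdX : topologicalKrullDim X = 1) [IsIntegral Y] [IsSeparated (Y ↘ (Spec (CommRingCat.of k)))] [LocallyOfFiniteType (Y ↘ (Spec (CommRingCat.of k)))] [QuasiCompact (Y ↘ (Spec (CommRingCat.of k)))] (hdY : topologicalKrullDim Y = 1)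
    (f : X ⟶ Y) (hf : f ≫ (Y ↘ (Spec (CommRingCat.of k))) = X ↘ (Spec (CommRingCat.of k))) [Surjective f]
    [Smooth (X ↘ (Spec (CommRingCat.of k)))] (hY : Pi1.IsNormalScheme Y) :
    Smooth (Y ↘ (Spec (CommRingCat.of k))) := by
  haveI hY' : IsLocallyNoetherian Y := LocallyOfFiniteType.isLocallyNoetherian (Y ↘ (Spec (CommRingCat.of k)))
  haveI : LocallyOfFiniteType f := by
    have : LocallyOfFiniteType (f ≫ (Y ↘ (Spec (CommRingCat.of k)))) := by rw [hf]; infer_instance
    exact locallyOfFiniteType_of_comp f (Y ↘ (Spec (CommRingCat.of k)))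
  haveI : IsDominant f := ⟨f.surjective.denseRange⟩
  haveI : LocallyOfFinitePresentation f := Coherent.CohBC.locallyOfFinitePresentation_of_isLocallyNoetherian f
  haveI : Flat f := Hurwitz24.flat_of_dominant f
    (FlatMor12.GenericSmooth.genericPoint_eq_of_isDominant f) hdY.le (fun y => (hY y).2)
  exact AlgSpLib.smooth_of_comp_fppf f (Y ↘ (Spec (CommRingCat.of k))) (by rw [hf]; infer_instance)

end Groth.Agent.S6557
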