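import Groth.Statements.S6558
import Groth.Agent.Hyper24.PureTwist
import Groth.Agent.CAlgH3.Factorial
import Groth.Agent.Coherent.CohBC.FibreInvariance
-- import your own Groth.Agent.* helpers here

set_option autoImplicit false
universe u
open CategoryTheory CategoryTheory.Limits AlgebraicGeometry
open Curves

namespace Groth.Agent.S6558

set_option backward.isDefEq.respectTransparency.types false
set_option maxHeartbeats 1000000
open Groth.Agent

/-- Let p be a prime number, k a field of characteristic p, and f : X → Y a nonconstant morphism over k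
of proper nonsingular curves over k (proper, integral, of dimension one, all local rings regular),
nonconstant meaning f(ξ_X) = ξ_Y for the generic points (hypothesis e), so that k(Y) maps into k(X).
Assume X is smooth over k with H^0(X, O_X) = k and k(X)/k(Y) purely inseparable. Then Y is smooth
over k, its global functions are the constants k, and Y and X have the same genus. -/
theorem result (k : Type u) [Field k] (p : ℕ) [Fact p.Prime] [CharP k p]
    (X Y : Scheme.{u}) [X.Over (Spec (CommRingCat.of k))] [Y.Over (Spec (CommRingCat.of k))]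
    [IsIntegral X] [IsProper (X ↘ (Spec (CommRingCat.of k)))] (hdX : topologicalKrullDim X = 1) (hregX : ∀ x : X, IsRegularLocalRing (X.presheaf.stalk x))
    [IsIntegral Y] [IsProper (Y ↘ (Spec (CommRingCat.of k)))] (hdY : topologicalKrullDim Y = 1) (hregY : ∀ y : Y, IsRegularLocalRing (Y.presheaf.stalk y))
    (f : X ⟶ Y) (hf : f ≫ (Y ↘ (Spec (CommRingCat.of k))) = X ↘ (Spec (CommRingCat.of k))) (e : f (genericPoint X) = genericPoint Y)
    [Smooth (X ↘ (Spec (CommRingCat.of k)))] (h0 : Module.finrank k (Coh.HH X (Coh.structureModule X) 0) = 1)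
    (hpi : letI := ((Y.presheaf.stalkSpecializes (specializes_of_eq e) ≫ f.stalkMap (genericPoint X)).hom).toAlgebra
      IsPurelyInseparable Y.functionField X.functionField) :
    Smooth (Y ↘ (Spec (CommRingCat.of k))) ∧ Module.finrank k (Coh.HH Y (Coh.structureModule Y) 0) = 1 ∧
      Curv2.genus k Y = Curv2.genus k X := by
  haveI : ExpChar k p := ExpChar.prime Fact.out
  haveI : IsLocallyNoetherian X := CurveRR24.isLocallyNoetherian_of_proper k (X := X)
  haveI : CompactSpace X := QuasiCompact.compactSpace_of_compactSpace (X ↘ Spec (CommRingCat.of k))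
  haveI : IsProper f := by
    have : IsProper (f ≫ (Y ↘ Spec (CommRingCat.of k))) := by rw [hf]; infer_instance
    exact IsProper.of_comp f (Y ↘ Spec (CommRingCat.of k))
  haveI : LocallyQuasiFinite f := LocallyQuasiFinite.of_finite_preimage_singleton f fun y =>
    CurvesLib24.finite_preimage_singleton hdX.le hdY.le f (CurvesLib24.not_isClosed_genericPoint hdY) e y
  haveI : IsFinite f := IsFinite.of_isProper_of_locallyQuasiFinite f
  haveI : IsLocallyNoetherian Y := CurveRR24.isLocallyNoetherian_of_proper k (X := Y)
  have hnY : Pi1.IsNormalScheme Y := fun y => by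
    haveI := hregY y
    haveI : UniqueFactorizationMonoid (Y.presheaf.stalk y) := CAlgH3.ufm_of_regular _
    exact ⟨inferInstance, inferInstance⟩
  obtain ⟨r, i, hi⟩ := Hyper24.exists_twist_iso k p hdX hdY hnY f hf e hpi
  have hsq : IsPullback (i.hom ≫ pullback.fst (X ↘ Spec (CommRingCat.of k)) (Hyper24.frk p k r))
      (Y ↘ Spec (CommRingCat.of k)) (X ↘ Spec (CommRingCat.of k)) (Hyper24.frk p k r) :=
    (IsPullback.of_hasPullback _ _).of_iso i.symm (Iso.refl _) (Iso.refl _) (Iso.refl _)
      (by simp) (by simp [← hi]) (by simp) (by simp)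
  haveI : Coh.IsQCoh (Coh.structureModule X) := CurveRR24.isQCoh_structure k
  obtain ⟨α⟩ := AmpleLib.exists_pullStructureIso (i.hom ≫ pullback.fst (X ↘ Spec (CommRingCat.of k)) (Hyper24.frk p k r)) (X := X)
  have key : ∀ q, Module.finrank k (Coh.HH Y (Coh.structureModule Y) q) =
      Module.finrank k (Coh.HH X (Coh.structureModule X) q) := fun q =>
    Coherent.CohBC.finrank_HH_bc k k (iterateFrobenius k p r) (X ↘ Spec (CommRingCat.of k)) (Y ↘ Spec (CommRingCat.of k))
      _ hsq (Coh.structureModule X) (Coh.structureModule Y) α q
  exact ⟨MorphismProperty.of_isPullback (P := @Smooth) hsq inferInstance, (key 0).trans h0, key 1⟩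

end Groth.Agent.S6558
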