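import Groth.Statements.S6563
import Groth.Agent.S1626
import Groth.Agent.CAlgSmall.ValExtend
import Groth.Agent.DualLib.NonvanishingProper
import Groth.Agent.Coherent.ProjSpaceFinite
-- import your own Groth.Agent.* helpers here

set_option autoImplicit false
universe u
open CategoryTheory CategoryTheory.Limits AlgebraicGeometry
open Curves

set_option backward.isDefEq.respectTransparency.types false
namespace Groth.Agent.S6563

/-- Let k be a field and f : X → Y a morphism over k of varieties over k, with X a curve (integral,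
separated and of finite type over k, of dimension one) and Y proper over k (and integral). Then f
extends over a projective completion of X: there are a projective curve X̄ over k (integral, of
dimension one, admitting a closed immersion over k into some P^n_k), an open immersion j : X → X̄
over k and a k-morphism g : X̄ → Y with g ∘ j = f. -/
theorem result (k : Type u) [Field k]
    (X Y : Scheme.{u}) [X.Over (Spec (CommRingCat.of k))] [Y.Over (Spec (CommRingCat.of k))]
    [IsIntegral X] [IsSeparated (X ↘ (Spec (CommRingCat.of k)))] [LocallyOfFiniteType (X ↘ (Spec (CommRingCat.of k)))] [QuasiCompact (X ↘ (Spec (CommRingCat.of k)))] (hdX : topologicalKrullDim X = 1)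
    [IsIntegral Y] [IsProper (Y ↘ (Spec (CommRingCat.of k)))]
    (f : X ⟶ Y) (hf : f ≫ (Y ↘ (Spec (CommRingCat.of k))) = X ↘ (Spec (CommRingCat.of k))) :
    ∃ (Xb : Scheme.{u}) (_ : Xb.Over (Spec (CommRingCat.of k))) (j : X ⟶ Xb) (g : Xb ⟶ Y),
      IsOpenImmersion j ∧ j ≫ g = f ∧ j ≫ (Xb ↘ (Spec (CommRingCat.of k))) = X ↘ (Spec (CommRingCat.of k)) ∧ g ≫ (Y ↘ (Spec (CommRingCat.of k))) = Xb ↘ (Spec (CommRingCat.of k)) ∧
      IsIntegral Xb ∧ topologicalKrullDim Xb = 1 ∧
      ∃ (n : ℕ) (i : Xb ⟶ CohB1.ProjSpace n k), IsClosedImmersion i ∧ i ≫ CohB1.ProjSpace.toSpec n k = Xb ↘ (Spec (CommRingCat.of k)) := by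
  classical
  obtain ⟨d, Xb, c, j, hc, hj, hjc, hdense, hsd, hfin, hdvr⟩ :=
    Groth.Agent.S1626.result k X hdX.le
  letI : Xb.Over (Spec (CommRingCat.of k)) := ⟨c ≫ CohB1.ProjSpace.toSpec d k⟩
  haveI := hj
  haveI := hc
  haveI := hsd
  haveI : IsProper (CohB1.ProjSpace.toSpec d k) := Groth.Agent.Coherent.isProper_projSpace_toSpec d k
  haveI : IsProper (Xb ↘ Spec (CommRingCat.of k)) := inferInstanceAs (IsProper (c ≫ CohB1.ProjSpace.toSpec d k))
  haveI : QuasiCompact j := by
    haveI : QuasiCompact (j ≫ (Xb ↘ Spec (CommRingCat.of k))) := by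
      rw [show j ≫ (Xb ↘ Spec (CommRingCat.of k)) = X ↘ Spec (CommRingCat.of k) from hjc]; infer_instance
    exact QuasiCompact.of_comp j (Xb ↘ Spec (CommRingCat.of k))
  haveI : IsReduced Xb := IsSchemeTheoreticallyDominant.isReduced j
  haveI : IrreducibleSpace Xb :=
    { isPreirreducible_univ := by
        have h1 : IsPreirreducible (Set.range j.base) := by
          rw [← Set.image_univ]
          exact (PreirreducibleSpace.isPreirreducible_univ (X := X)).image _ j.continuous.continuousOn
        simpa [hdense.closure_eq] using h1.closure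
      toNonempty := ⟨j (genericPoint X)⟩ }
  haveI : IsIntegral Xb := isIntegral_of_irreducibleSpace_of_isReduced _
  haveI : Nonempty X := ⟨genericPoint X⟩
  have hgi : ∀ y : Xb, Xb.IsGermInjectiveAt y := fun y => inferInstance
  have hstep : ∀ (S : Finset Xb), (∀ y ∈ S, y ∈ (Set.range j.base)ᶜ) →
      ∃ (V : Xb.Opens) (h : (j.opensRange : Xb.Opens) ≤ V) (g : (V : Scheme.{u}) ⟶ Y),
        (∀ y ∈ S, y ∈ V) ∧ g ≫ (Y ↘ Spec (CommRingCat.of k)) = V.ι ≫ (Xb ↘ Spec (CommRingCat.of k)) ∧
          Xb.homOfLE h ≫ g = j.isoOpensRange.inv ≫ f := by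
    intro S
    induction S using Finset.induction with
    | empty =>
      intro _
      refine ⟨_, le_rfl, j.isoOpensRange.inv ≫ f, fun y hy => absurd hy (Finset.notMem_empty y), ?_, ?_⟩
      · rw [Category.assoc, hf, ← show j ≫ (Xb ↘ Spec (CommRingCat.of k)) = X ↘ Spec (CommRingCat.of k) from hjc,
          ← Category.assoc, Scheme.Hom.isoOpensRange_inv_comp]
      · simp
    | @insert y S _ ih =>
      intro hS
      obtain ⟨V, hV, g, hmem, hg, hres⟩ := ih fun z hz => hS z (Finset.mem_insert_of_mem hz)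
      obtain ⟨-, hdom, hdv⟩ := hdvr y (hS y (Finset.mem_insert_self y S))
      haveI := hdom
      haveI := hdv
      haveI := hgi y
      obtain ⟨V', hVV', hy', g', hg', hres'⟩ := Groth.Agent.CAlgSmall.ValExtend.exists_extension y
        (Xb ↘ Spec (CommRingCat.of k)) (Y ↘ Spec (CommRingCat.of k)) V g hg
        (closure_mono (show Set.range j.base ⊆ (V : Set Xb) from fun z hz => hV hz) (hdense y))
      refine ⟨V', hV.trans hVV', g', fun z hz => ?_, hg', ?_⟩
      · rcases Finset.mem_insert.1 hz with rfl | hz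
        · exact hy'
        · exact hVV' (hmem z hz)
      · rw [← hres, ← hres', Scheme.homOfLE_homOfLE_assoc]
  obtain ⟨V, hV, g, hmem, hg, hres⟩ := hstep hfin.toFinset fun y hy => hfin.mem_toFinset.1 hy
  have hVtop : V = ⊤ := by
    refine top_unique fun y _ => ?_
    by_cases hy : y ∈ Set.range j.base
    · exact hV hy
    · exact hmem y (hfin.mem_toFinset.2 hy)
  subst hVtop
  refine ⟨Xb, inferInstance, j, Xb.topIso.inv ≫ g, hj, ?_, hjc, ?_, inferInstance, ?_, d, c, hc, rfl⟩
  · have e : j ≫ Xb.topIso.inv = j.isoOpensRange.hom ≫ Xb.homOfLE hV := by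
      rw [← cancel_mono (⊤ : Xb.Opens).ι]
      simp
    rw [reassoc_of% e, hres, Iso.hom_inv_id_assoc]
  · rw [Category.assoc, hg, Scheme.toIso_inv_ι_assoc]
  · rw [← Groth.Agent.DualLib.Nonvanish.dim_open_of_integral (Xb ↘ Spec (CommRingCat.of k)) j, hdX]
end Groth.Agent.S6563
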