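import Groth.Statements.S6564


set_option autoImplicit false
universe u
open CategoryTheory CategoryTheory.Limits AlgebraicGeometry
open Curves

namespace Groth.Agent.S6564

/-- Let X be proper over the field k of dimension at most 1. If X has a g^r_d (an invertible module L of
degree d with an ordered family of r + 1 global sections linearly independent over k), then X has a
g^s_d for every 0 ≤ s ≤ r. -/
theorem result (k : Type u) [Field k] (X : Scheme.{u}) [X.Over (Spec (CommRingCat.of k))] [IsProper (X ↘ (Spec (CommRingCat.of k)))] (hdim : topologicalKrullDim X ≤ 1)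
    (d r : ℕ) (L : X.Modules) (σ : Fin (r + 1) → LinSer.Sect X L) (hL : LinSer.IsLinSer k X L d r σ)
    (s : ℕ) (hs : s ≤ r) :
    ∃ (L' : X.Modules) (τ : Fin (s + 1) → LinSer.Sect X L'), LinSer.IsLinSer k X L' d s τ := by
  refine ⟨L, fun i => σ (Fin.castLE (by omega) i), hL.1, hL.2.1, fun c hc => ?_⟩
  classical
  let e : Fin (s + 1) ↪ Fin (r + 1) := Fin.castLEEmb (by omega)
  let c' : Fin (r + 1) → k := Function.extend e c 0
  have hc' : ∀ i, c' (e i) = c i := fun i => e.injective.extend_apply c 0 i
  have h0 : c' = 0 := by
    refine hL.2.2 c' ?_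
    rw [← hc, ← Finset.sum_subset (Finset.subset_univ (Finset.univ.map e)) (fun j _ hj => ?_),
      Finset.sum_map]
    · exact Finset.sum_congr rfl fun i _ => by rw [hc']; rfl
    · have : c' j = 0 := Function.extend_apply' _ _ _ (by
        rintro ⟨i, rfl⟩
        exact hj (Finset.mem_map_of_mem _ (Finset.mem_univ i)))
      rw [this, map_zero, zero_smul]
  funext i
  rw [← hc', h0]
  rfl

end Groth.Agent.S6564
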