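import Groth.Statements.S6566
import Groth.Agent.DualMod3.H1Le
import Groth.Agent.Coherent.QcohOps
import Groth.Agent.Coherent.CohOps
-- import your own Groth.Agent.* helpers here

set_option autoImplicit false
universe u
open CategoryTheory CategoryTheory.Limits AlgebraicGeometry
attribute [local instance] HasDerivedCategory.standard
open Curves
open Groth.Agent.Coherent Groth.Agent.EulerLib Groth.Agent.CurveRR24
set_option backward.isDefEq.respectTransparency false
set_option backward.defeqAttrib.useBackward true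
set_option linter.style.haveILetI false
set_option maxHeartbeats 1000000

namespace Groth.Agent.S6566

/-- Let X be proper over the field k, of dimension one, with H^0(X, O_X) = k, and ω_X its dualizing
module (the degree -1 cohomology sheaf of f^! O for the structure morphism f, assuming Rf_* on
D_QCoh and its right adjoint exist). For coherent O_X-modules F and Q and an exact sequence ω_X → F
→ Q → 0 in which Q has no first cohomology, F has no first cohomology unless the map ω_X → F admits
a retraction (so that F splits as ω_X ⊕ Q): that is, H^1(X, F) = 0 or ω_X → F has a left inverse. -/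
theorem result (k : Type u) [Field k] (X : Scheme.{u}) [X.Over (Spec (CommRingCat.of k))] [IsProper (X ↘ (Spec (CommRingCat.of k)))] (hdim : topologicalKrullDim X = 1)
    (h0 : Module.finrank k (Coh.HH X (Coh.structureModule X) 0) = 1)
    [DCoh.HasRpush (X ↘ (Spec (CommRingCat.of k)))] (h : DCoh.RpushPreservesQCoh (X ↘ (Spec (CommRingCat.of k)))) [DCoh.HasShriek (X ↘ (Spec (CommRingCat.of k))) h]
    (OY : DCoh.DQCoh (Spec (CommRingCat.of k))) (hOY : Nonempty (OY.obj ≅ DCoh.inD (Spec (CommRingCat.of k)) (Coh.structureModule (Spec (CommRingCat.of k)))))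
    (F Q : X.Modules) (hF : Coh.IsCoh F) (hQ : Coh.IsCoh Q)
    (f : DCoh.dualizingMod (X ↘ (Spec (CommRingCat.of k))) h OY 1 ⟶ F) (g : F ⟶ Q) [Epi g] (w : f ≫ g = 0) (hex : (ShortComplex.mk f g w).Exact)
    (hQ1 : Subsingleton (Coh.HH X Q 1)) :
    Subsingleton (Coh.HH X F 1) ∨ ∃ r : F ⟶ DCoh.dualizingMod (X ↘ (Spec (CommRingCat.of k))) h OY 1, f ≫ r = 𝟙 (DCoh.dualizingMod (X ↘ (Spec (CommRingCat.of k))) h OY 1) := by
  haveI := EulerLib.isNoetherian_of_proper k (X := X)
  let ω := DCoh.dualizingMod (X ↘ (Spec (CommRingCat.of k))) h OY 1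
  obtain ⟨t, hrep⟩ := DualMod3.exists_rep k X h OY hOY (d := 1) hdim.le
  have hω : Coh.IsCoh ω := DualMod3.isCoh k X h OY hOY 1
  have hle := DualMod3.finrank_h1_le k X h OY hOY hdim.le
  rw [h0] at hle
  by_cases hsub : Subsingleton (Coh.HH X F 1)
  · exact Or.inl hsub
  refine Or.inr ?_
  rw [not_subsingleton_iff_nontrivial] at hsub
  let p : ω ⟶ kernel g := kernel.lift g f w
  haveI : Epi p := hex.epi_kernelLift
  haveI := hF.1
  haveI := hQ.1
  haveI := hω.1
  haveI : Coh.IsQCoh (kernel g) := isQCoh_kernel g
  haveI : Coh.IsQCoh (kernel p) := isQCoh_kernel p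
  let S1 : ShortComplex X.Modules := ShortComplex.mk (kernel.ι p) p (kernel.condition p)
  have hS1 : S1.ShortExact :=
    { exact := ShortComplex.exact_of_f_is_kernel _ (kernelIsKernel p)
      mono_f := inferInstanceAs (Mono (kernel.ι p))
      epi_g := inferInstanceAs (Epi p) }
  let S2 : ShortComplex X.Modules := ShortComplex.mk (kernel.ι g) g (kernel.condition g)
  have hS2 : S2.ShortExact :=
    { exact := ShortComplex.exact_of_f_is_kernel _ (kernelIsKernel g)
      mono_f := inferInstanceAs (Mono (kernel.ι g))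
      epi_g := inferInstanceAs (Epi g) }
  have hp : Function.Surjective (SerreDual.hmap k p 1) :=
    SerreDual.hmap_surjective_of_shortExact k hS1 1
      (subsingleton_HH_ge_two k hdim.le (kernel p) inferInstance (by norm_num))
  have hf : Function.Surjective (SerreDual.hmap k f 1) := fun z => by
    obtain ⟨y, hy⟩ := ((SerreDual.exact_hmap k hS2 1) z).1 (Subsingleton.elim _ _)
    obtain ⟨x, hx⟩ := hp y
    refine ⟨x, ?_⟩
    rw [← show p ≫ kernel.ι g = f from kernel.lift_ι g f w, SerreDual.hmap_comp, LinearMap.comp_apply, hx]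
    exact hy
  haveI := finite_HH_of_isCoh k hω 1
  haveI := finite_HH_of_isCoh k hF 1
  have hr := LinearMap.finrank_le_finrank_of_injective
    (f := (SerreDual.hmap k f 1).dualMap) (LinearMap.dualMap_injective_of_surjective hf)
  rw [Subspace.dual_finrank_eq, Subspace.dual_finrank_eq] at hr
  have hpos : 0 < Module.finrank k (Coh.HH X F 1) := Module.finrank_pos
  have heq : Module.finrank k (Coh.HH X ω 1) = Module.finrank k (Coh.HH X F 1) :=
    le_antisymm (hle.trans hpos) hr
  have hbij : Function.Bijective (SerreDual.hmap k f 1) :=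
    ⟨(LinearMap.injective_iff_surjective_of_finrank_eq_finrank heq).2 hf, hf⟩
  let E := LinearEquiv.ofBijective (SerreDual.hmap k f 1) hbij
  obtain ⟨r, hr'⟩ := (hrep F hF.1).2 (t ∘ₗ E.symm.toLinearMap)
  refine ⟨r, (hrep ω hω.1).1 ?_⟩
  rw [SerreDual.theta_comp, hr']
  refine LinearMap.ext fun x => ?_
  show t (E.symm (E x)) = t (SerreDual.hmap k (𝟙 ω) 1 x)
  rw [LinearEquiv.symm_apply_apply, SerreDual.hmap_id]
  rfl

end Groth.Agent.S6566
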