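import Groth.Statements.S6567
import Groth.Agent.S6566
import Groth.Agent.DualMod3.H1Le
import Groth.Agent.CommAlg4.SupportZero
import Groth.Agent.CurveRR24.RR
import Groth.Agent.SerreDual.HomLinear
-- import your own Groth.Agent.* helpers here

set_option autoImplicit false
universe u
open CategoryTheory CategoryTheory.Limits AlgebraicGeometry
attribute [local instance] HasDerivedCategory.standard
open Curves

set_option backward.isDefEq.respectTransparency false
set_option backward.defeqAttrib.useBackward true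
set_option linter.style.haveILetI false
set_option maxHeartbeats 2000000
open Groth.Agent.Coherent Groth.Agent.PicLib Groth.Agent.CurveRR24 Groth.Agent.AmpleLib Groth.Agent.EulerLib

namespace Groth.Agent.S6567

/-- Let X be proper over the field k, of dimension one, with H^0(X, O_X) = k, and ω_X its dualizing
module (the degree -1 cohomology sheaf of f^! O for the structure morphism f, assuming Rf_* on
D_QCoh and its right adjoint exist). Suppose ω_X → F → Q → 0 is exact, with F and Q coherent
O_X-modules, where Q has zero-dimensional support and dim_k H^0(X, Q) ≥ 2, and suppose no nonzero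
submodule Q' ⊆ F maps injectively into Q. Then the global sections of F together map onto Q: for
some index type ι and some map p from the free module O_X^{(ι)} to F, the composite O_X^{(ι)} → F →
Q is an epimorphism. -/
theorem result (k : Type u) [Field k] (X : Scheme.{u}) [X.Over (Spec (CommRingCat.of k))] [IsProper (X ↘ (Spec (CommRingCat.of k)))] (hdim : topologicalKrullDim X = 1)
    (h0 : Module.finrank k (Coh.HH X (Coh.structureModule X) 0) = 1)
    [DCoh.HasRpush (X ↘ (Spec (CommRingCat.of k)))] (h : DCoh.RpushPreservesQCoh (X ↘ (Spec (CommRingCat.of k)))) [DCoh.HasShriek (X ↘ (Spec (CommRingCat.of k))) h]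
    (OY : DCoh.DQCoh (Spec (CommRingCat.of k))) (hOY : Nonempty (OY.obj ≅ DCoh.inD (Spec (CommRingCat.of k)) (Coh.structureModule (Spec (CommRingCat.of k)))))
    (F Q : X.Modules) (hF : Coh.IsCoh F) (hQ : Coh.IsCoh Q)
    (f : DCoh.dualizingMod (X ↘ (Spec (CommRingCat.of k))) h OY 1 ⟶ F) (g : F ⟶ Q) [Epi g] (w : f ≫ g = 0) (hex : (ShortComplex.mk f g w).Exact)
    (hQ0 : topologicalKrullDim (CohB1.support Q) ≤ 0) (hQ2 : 2 ≤ Module.finrank k (Coh.HH X Q 0))
    (hno : ∀ (Q' : X.Modules) (i : Q' ⟶ F), Mono i → Mono (i ≫ g) → IsZero Q') :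
    ∃ (ι : Type u) (p : (SheafOfModules.free ι : X.Modules) ⟶ F), Epi (p ≫ g) := by
  haveI := EulerLib.isNoetherian_of_proper k (X := X)
  haveI : X.IsSeparated := EulerLib.isSeparated_of_proper (X := X) k
  haveI := hF.1
  haveI := hQ.1
  haveI : T0Space X := inferInstance
  let p : freeMod X Γ(F, ⊤) ⟶ F := freeDesc fun s => Coherent.unitDesc F s
  refine ⟨_, p, ?_⟩
  by_contra hp
  let π := cokernel.π (p ≫ g)
  let F' := kernel (g ≫ π)
  let Q' := kernel π
  have hC : Coh.IsCoh (cokernel (p ≫ g)) := isCoh_cokernel _ inferInstance hQ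
  have hQ' : Coh.IsCoh Q' := isCoh_kernel π hQ hC.1
  have hF' : Coh.IsCoh F' := isCoh_kernel _ hF hC.1
  haveI := hC.1
  haveI := hQ'.1
  haveI := hF'.1
  have hw : f ≫ g ≫ π = 0 := by rw [← Category.assoc, w, zero_comp]
  let f' : DCoh.dualizingMod (X ↘ (Spec (CommRingCat.of k))) h OY 1 ⟶ F' := kernel.lift (g ≫ π) f hw
  have hg' : (kernel.ι (g ≫ π) ≫ g) ≫ π = 0 := by rw [Category.assoc]; exact kernel.condition _
  let g' : F' ⟶ Q' := kernel.lift π (kernel.ι (g ≫ π) ≫ g) hg'
  have w' : f' ≫ g' = 0 := by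
    rw [← cancel_mono (kernel.ι π), zero_comp, Category.assoc, kernel.lift_ι, kernel.lift_ι_assoc]
    exact w
  haveI hg'epi : Epi g' := by
    refine (epi_iff_surjective_up_to_refinements g').2 fun A q => ?_
    obtain ⟨A', e, he, y, hy⟩ := surjective_up_to_refinements_of_epi g (q ≫ kernel.ι π)
    have hy' : y ≫ g ≫ π = 0 := by
      rw [← Category.assoc, ← hy, Category.assoc, Category.assoc, kernel.condition, comp_zero, comp_zero]
    refine ⟨A', e, he, kernel.lift _ y hy', (cancel_mono (kernel.ι π)).1 ?_⟩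
    rw [Category.assoc, Category.assoc, kernel.lift_ι, kernel.lift_ι_assoc]
    exact hy
  have hex' : (ShortComplex.mk f' g' w').Exact := by
    rw [ShortComplex.exact_iff_exact_up_to_refinements]
    intro A x hx
    obtain ⟨A', e, he, x₁, hx₁⟩ := hex.exact_up_to_refinements (x ≫ kernel.ι (g ≫ π)) (by
      have := congrArg (fun a => a ≫ kernel.ι π) hx
      simpa [g'] using this)
    refine ⟨A', e, he, x₁, (cancel_mono (kernel.ι (g ≫ π))).1 ?_⟩
    show (e ≫ x) ≫ kernel.ι _ = (x₁ ≫ f') ≫ kernel.ι _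
    rw [Category.assoc, Category.assoc, kernel.lift_ι]
    exact hx₁
  -- supports
  have hsC : CohB1.support (cokernel (p ≫ g)) ⊆ CohB1.support Q := support_subset_of_epi π
  have hsQ' : CohB1.support Q' ⊆ CohB1.support Q := support_subset_of_mono (kernel.ι π)
  have hQcl : IsClosed (CohB1.support Q) := isClosed_support Q (locallyFinGen_of_isFT Q hQ.2)
  have hlt : topologicalKrullDim (CohB1.support Q) < ((1 : ℕ) : WithBot ℕ∞) :=
    lt_of_le_of_lt hQ0 (by exact_mod_cast zero_lt_one)
  have hQ1 : Subsingleton (Coh.HH X Q 1) := subsingleton_HH_of_support ⟨_, hQcl⟩ Q hQ.1 subset_rfl 1 hlt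
  have hQ'1 : Subsingleton (Coh.HH X Q' 1) := subsingleton_HH_of_support ⟨_, hQcl⟩ Q' hQ'.1 hsQ' 1 hlt
  have hC1 : Subsingleton (Coh.HH X (cokernel (p ≫ g)) 1) :=
    subsingleton_HH_of_support ⟨_, hQcl⟩ _ hC.1 hsC 1 hlt
  -- `h¹(F) = 0`
  have hF1 : Subsingleton (Coh.HH X F 1) := by
    rcases S6566.result k X hdim h0 h OY hOY F Q hF hQ f g w hex hQ1 with h1 | ⟨r, hr⟩
    · exact h1
    exfalso
    let sp := ShortComplex.Splitting.ofExactOfRetraction _ hex r hr inferInstance
    have hz := hno Q sp.s (SplitMono.mono ⟨g, sp.s_g⟩) (by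
      haveI : IsIso (sp.s ≫ g) := by rw [show sp.s ≫ g = 𝟙 Q from sp.s_g]; infer_instance
      infer_instance)
    haveI := subsingleton_HH_of_isZero (X := X) hz 0
    rw [Module.finrank_zero_of_subsingleton] at hQ2
    omega
  -- every section of `F` lies in `F'`
  have hu : ∀ u : Coh.structureModule X ⟶ F, u ≫ g ≫ π = 0 := fun u => by
    rw [← unitDesc_unitVal u, ← show freeInj (unitVal u ⊤) ≫ p = Coherent.unitDesc F (unitVal u ⊤) from
      freeInj_freeDesc _ _, Category.assoc, ← Category.assoc p, cokernel.condition]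
    exact comp_zero
  let eF : (Coh.structureModule X ⟶ F') ≃ₗ[k] (Coh.structureModule X ⟶ F) :=
    LinearEquiv.ofBijective (Linear.rightComp k (Coh.structureModule X) (kernel.ι (g ≫ π)))
      ⟨fun a b hab => (cancel_mono (kernel.ι (g ≫ π))).1 hab,
        fun u => ⟨kernel.lift _ u (hu u), kernel.lift_ι _ u (hu u)⟩⟩
  have hF'0 : Module.finrank k (Coh.HH X F' 0) = Module.finrank k (Coh.HH X F 0) :=
    (SerreDual.homUnitHH k F').finrank_eq.symm.trans (eF.finrank_eq.trans (SerreDual.homUnitHH k F).finrank_eq)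
  -- Euler characteristics
  let SF : ShortComplex X.Modules := ShortComplex.mk (kernel.ι (g ≫ π)) (g ≫ π) (kernel.condition _)
  haveI : Epi (g ≫ π) := epi_comp g π
  have hSF : SF.ShortExact :=
    { exact := ShortComplex.exact_of_f_is_kernel _ (kernelIsKernel _)
      mono_f := inferInstanceAs (Mono (kernel.ι (g ≫ π)))
      epi_g := inferInstanceAs (Epi (g ≫ π)) }
  have hadd := euler_additive k X SF hSF hF' hF hC
  change Curv2.euler k X F = Curv2.euler k X F' + Curv2.euler k X (cokernel (p ≫ g)) at hadd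
  rw [euler_eq_h0_sub_h1 k hdim.le _ hF.1, euler_eq_h0_sub_h1 k hdim.le _ hF'.1,
    euler_eq_h0_sub_h1 k hdim.le _ hC.1, hF'0] at hadd
  rw [@Module.finrank_zero_of_subsingleton k (Coh.HH X F 1) _ _ _ _ hF1,
    @Module.finrank_zero_of_subsingleton k (Coh.HH X (cokernel (p ≫ g)) 1) _ _ _ _ hC1] at hadd
  have hC0 : 0 < Module.finrank k (Coh.HH X (cokernel (p ≫ g)) 0) := by
    haveI := finite_HH_of_isCoh k hC 0
    by_contra hc
    have hsub := Module.finrank_zero_iff.1 (Nat.le_zero.1 (not_lt.1 hc))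
    haveI : Subsingleton (Coh.structureModule X ⟶ cokernel (p ≫ g)) := (SerreDual.homUnitHH k _).toEquiv.subsingleton
    obtain ⟨hfin, hpts⟩ := CommAlg4.finite_and_isClosed_singleton_of_dim_le_zero hQcl hQ0
    obtain ⟨ι, q, hq⟩ := CommAlg4.isGloballyGenerated_of_support_finite (cokernel (p ≫ g))
      (locallyFinGen_of_isFT _ hC.2) _ hfin hpts hsC
    have hq0 : (q : freeMod X ι ⟶ cokernel (p ≫ g)) = 0 := freeMod_hom_ext fun i => Subsingleton.elim _ _
    haveI : Epi (0 : freeMod X ι ⟶ cokernel (p ≫ g)) := hq0 ▸ hq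
    exact hp (Abelian.epi_of_cokernel_π_eq_zero (p ≫ g) (by
      rw [← Category.comp_id (cokernel.π (p ≫ g)), (IsZero.iff_id_eq_zero _).1
        (IsZero.of_epi_zero (freeMod X ι) (cokernel (p ≫ g))), comp_zero]))
  rcases S6566.result k X hdim h0 h OY hOY F' Q' hF' hQ' f' g' w' hex' hQ'1 with h1 | ⟨r, hr⟩
  · rw [@Module.finrank_zero_of_subsingleton k (Coh.HH X F' 1) _ _ _ _ h1] at hadd
    omega
  · let sp := ShortComplex.Splitting.ofExactOfRetraction _ hex' r hr hg'epi
    have hcomp : (sp.s ≫ kernel.ι (g ≫ π)) ≫ g = kernel.ι π := by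
      rw [Category.assoc, ← kernel.lift_ι π _ hg', ← Category.assoc, show sp.s ≫ g' = 𝟙 Q' from sp.s_g,
        Category.id_comp]
    have hzQ' := hno Q' (sp.s ≫ kernel.ι (g ≫ π))
      (by haveI : Mono sp.s := SplitMono.mono ⟨g', sp.s_g⟩; exact mono_comp _ _)
      (by rw [hcomp]; infer_instance)
    have hg0 : g' = 0 := hzQ'.eq_of_tgt _ _
    haveI : Epi f' := hex'.epi_f hg0
    have hsur : Function.Surjective (SerreDual.hmap k f' 1) := by
      have hω := DualMod3.isCoh k X h OY hOY 1
      haveI := hω.1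
      haveI : Coh.IsQCoh (kernel f') := isQCoh_kernel f'
      let S1 : ShortComplex X.Modules := ShortComplex.mk (kernel.ι f') f' (kernel.condition f')
      have hS1 : S1.ShortExact :=
        { exact := ShortComplex.exact_of_f_is_kernel _ (kernelIsKernel f')
          mono_f := inferInstanceAs (Mono (kernel.ι f'))
          epi_g := inferInstanceAs (Epi f') }
      exact SerreDual.hmap_surjective_of_shortExact k hS1 1
        (subsingleton_HH_ge_two k hdim.le (kernel f') inferInstance (by norm_num))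
    haveI := finite_HH_of_isCoh k (DualMod3.isCoh k X h OY hOY 1) 1
    have hle' := LinearMap.finrank_le_finrank_of_injective
      (f := (SerreDual.hmap k f' 1).dualMap) (LinearMap.dualMap_injective_of_surjective hsur)
    haveI := finite_HH_of_isCoh k hF' 1
    rw [Subspace.dual_finrank_eq, Subspace.dual_finrank_eq] at hle'
    have hle := DualMod3.finrank_h1_le k X h OY hOY hdim.le
    rw [h0] at hle
    -- `Q' = 0`, so the cokernel is all of `Q`
    have hπ : IsIso π := by
      haveI : Mono π := Preadditive.mono_of_isZero_kernel π hzQ'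
      exact isIso_of_mono_of_epi π
    have hCQ : Module.finrank k (Coh.HH X (cokernel (p ≫ g)) 0) = Module.finrank k (Coh.HH X Q 0) :=
      (SerreDual.hmapIso k (asIso π) 0).finrank_eq.symm
    omega

end Groth.Agent.S6567
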