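import Groth.Statements.S6568
import Groth.Agent.DualMod3.Rank
import Groth.Agent.DualMod3.H1Le
import Groth.Agent.TorShLib.Basic
import Groth.Agent.CommAlg4.SupportZero
import Groth.Agent.VarietyLib.DetDeg
import Groth.Agent.CurveRR24.RR
import Groth.Agent.SerreDual.HomLinear
-- import your own Groth.Agent.* helpers here

set_option autoImplicit false
universe u
open CategoryTheory CategoryTheory.Limits AlgebraicGeometry
attribute [local instance] HasDerivedCategory.standard
open Curves

set_option backward.isDefEq.respectTransparency false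
set_option backward.defeqAttrib.useBackward true
set_option linter.style.haveILetI false
set_option maxHeartbeats 2000000
open Groth.Agent.Coherent Groth.Agent.PicLib Groth.Agent.CurveRR24 Groth.Agent.AmpleLib Groth.Agent.EulerLib

namespace Groth.Agent.S6568

local notation "St" => DerSch.stalkFunctor _

theorem eq_zero_of_generic {X : Scheme.{u}} [IsIntegral X] {F : X.Modules} [Coh.IsQCoh F]
    (htf : ∀ (x : X) (a : X.presheaf.stalk x) (m : F.presheaf.stalk x), a • m = 0 → a = 0 ∨ m = 0)
    {V : X.Opens} (s : Γ(F, V)) (hη : genericPoint X ∈ V)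
    (h : F.presheaf.germ V (genericPoint X) hη s = 0) : s = 0 := by
  haveI : F.IsQuasicoherent := (inferInstance : Coh.IsQCoh F)
  refine TorShLib.sec_ext F s fun x hx => ?_
  obtain ⟨_, ⟨U, hU, rfl⟩, hxU, hUV⟩ :=
    (X.isBasis_affineOpens).exists_subset_of_mem_open (u := (V : Set X)) hx V.isOpen
  have hηU : genericPoint X ∈ U := TorShLib.genericPoint_mem hxU
  obtain ⟨g, hg, hm⟩ := QCohLoc.exists_smul_eq_zero_of_germ F hU hηU (resM F hUV s)
    ((TopCat.Presheaf.germ_res_apply F.presheaf (homOfLE hUV) _ hηU s).trans h)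
  have hne : X.presheaf.germ U x hxU g ≠ 0 := fun h0 => by
    have := ((Scheme.mem_basicOpen _ _ _ hηU).1 hg).ne_zero
    exact this (by rw [TorShLib.eq_zero_of_germ g hxU h0, map_zero])
  have h1 := congrArg (F.presheaf.germ U x hxU) hm
  rw [QCohLoc.germ_smul', map_zero] at h1
  rw [← TopCat.Presheaf.germ_res_apply F.presheaf (homOfLE hUV) x hxU s]
  exact (htf x _ _ h1).resolve_left hne

theorem finite_support {X : Scheme.{u}} [IsIntegral X] [IsNoetherian X] (hdim : topologicalKrullDim X = 1)
    {C : X.Modules} (hC : Coh.IsCoh C) (hη : Subsingleton (C.presheaf.stalk (genericPoint X))) :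
    (CohB1.support C).Finite ∧ (∀ y ∈ CohB1.support C, IsClosed ({y} : Set X)) ∧
      topologicalKrullDim (CohB1.support C) ≤ 0 := by
  have hcl : IsClosed (CohB1.support C) := isClosed_support C (locallyFinGen_of_isFT C hC.2)
  have hpts : ∀ y ∈ CohB1.support C, IsClosed ({y} : Set X) := fun y hy => by
    have hne : y ≠ genericPoint X := fun e => hy (e ▸ hη)
    by_contra hc
    obtain ⟨z, hz, hzy⟩ : ∃ z, y ⤳ z ∧ z ≠ y := by
      by_contra! h'
      exact hc (closure_subset_iff_isClosed.1 fun z hz => h' z (specializes_iff_mem_closure.2 hz))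
    let A : TopologicalSpace.IrreducibleCloseds X := ⟨closure {z}, isIrreducible_singleton.closure, isClosed_closure⟩
    let B : TopologicalSpace.IrreducibleCloseds X := ⟨closure {y}, isIrreducible_singleton.closure, isClosed_closure⟩
    let T : TopologicalSpace.IrreducibleCloseds X := ⟨Set.univ, IrreducibleSpace.isIrreducible_univ X, isClosed_univ⟩
    have hAB : A < B := lt_of_le_of_ne
      (closure_minimal (Set.singleton_subset_iff.2 (specializes_iff_mem_closure.1 hz)) isClosed_closure)
      fun e => hzy ((specializes_iff_mem_closure.2 (by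
        have : (A : Set X) = B := congrArg SetLike.coe e
        show y ∈ closure {z}
        rw [show closure {z} = closure {y} from this]
        exact subset_closure rfl)).antisymm hz).eq
    have hBT : B < T := lt_of_le_of_ne (Set.subset_univ _) fun e => hne
      ((show IsGenericPoint y Set.univ from congrArg SetLike.coe e).eq (genericPoint_spec X))
    have h2 := Order.LTSeries.length_le_krullDim
      ((((RelSeries.singleton _ T).cons B (by exact hBT)).cons A (by simp only [RelSeries.head_cons]; exact hAB)) :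
        LTSeries (TopologicalSpace.IrreducibleCloseds X))
    have h2' : ((2 : ℕ) : WithBot ℕ∞) ≤ topologicalKrullDim X := h2
    rw [hdim] at h2'
    norm_cast at h2'
  refine ⟨(CommAlg4.finite_and_isClosed_singleton_of_dim_le_zero hcl ?_).1, hpts, ?_⟩ <;>
    exact VarietyLib.dim_le_zero_of_closed_points hcl hpts

/-- Let X be proper and integral over the field k, of dimension one, with H^0(X, O_X) = k, and ω_X its
dualizing module (the degree -1 cohomology sheaf of f^! O for the structure morphism f, assuming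
Rf_* on D_QCoh and its right adjoint exist). Suppose F is a torsion-free coherent O_X-module
(stalkwise: a · m = 0 forces a = 0 or m = 0) containing ω_X as a submodule, with coherent quotient Q
= F/ω_X supported in dimension zero and with dim_k H^0(X, Q) ≥ 2 (so 0 → ω_X → F → Q → 0 is short
exact). Then F is generated by its global sections. -/
theorem result (k : Type u) [Field k] (X : Scheme.{u}) [X.Over (Spec (CommRingCat.of k))] [IsIntegral X] [IsProper (X ↘ (Spec (CommRingCat.of k)))] (hdim : topologicalKrullDim X = 1)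
    (h0 : Module.finrank k (Coh.HH X (Coh.structureModule X) 0) = 1)
    [DCoh.HasRpush (X ↘ (Spec (CommRingCat.of k)))] (h : DCoh.RpushPreservesQCoh (X ↘ (Spec (CommRingCat.of k)))) [DCoh.HasShriek (X ↘ (Spec (CommRingCat.of k))) h]
    (OY : DCoh.DQCoh (Spec (CommRingCat.of k))) (hOY : Nonempty (OY.obj ≅ DCoh.inD (Spec (CommRingCat.of k)) (Coh.structureModule (Spec (CommRingCat.of k)))))
    (F Q : X.Modules) (hF : Coh.IsCoh F) (hQ : Coh.IsCoh Q)
    (f : DCoh.dualizingMod (X ↘ (Spec (CommRingCat.of k))) h OY 1 ⟶ F) (g : F ⟶ Q) (w : f ≫ g = 0) (hex : (ShortComplex.mk f g w).ShortExact)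
    (htf : ∀ (x : X) (a : X.presheaf.stalk x) (m : F.presheaf.stalk x), a • m = 0 → a = 0 ∨ m = 0)
    (hQ0 : topologicalKrullDim (CohB1.support Q) ≤ 0) (hQ2 : 2 ≤ Module.finrank k (Coh.HH X Q 0)) :
    Curv2.IsGloballyGenerated F := by
  haveI := EulerLib.isNoetherian_of_proper k (X := X)
  haveI := hF.1
  haveI := hQ.1
  haveI : X.IsSeparated := EulerLib.isSeparated_of_proper (X := X) k
  have hω := DualMod3.isCoh k X h OY hOY 1
  have hle := DualMod3.finrank_h1_le k X h OY hOY hdim.le
  rw [h0] at hle
  obtain ⟨t, hrep⟩ := DualMod3.exists_rep k X h OY hOY (d := 1) hdim.le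
  have hline := DualMod3.exists_smul_eq_generic k X h OY hOY hdim h0
  generalize DCoh.dualizingMod (X ↘ (Spec (CommRingCat.of k))) h OY 1 = ω at f w hex hω hle t hrep hline
  haveI := hω.1
  haveI := hex.mono_f
  haveI := hex.epi_g
  -- the generic stalk of `Q`
  have hQη : Subsingleton (Q.presheaf.stalk (genericPoint X)) := by
    haveI : Q.IsQuasicoherent := hQ.1
    refine (TorShLib.generic_iff_support Q).2 fun he => ?_
    rw [he, (Homeomorph.Set.univ X).isHomeomorph.topologicalKrullDim_eq, hdim] at hQ0
    exact absurd hQ0 (by norm_num)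
  -- `F` and `ω` have no sections dying at the generic point
  have hsecω : ∀ {V : X.Opens} (s : Γ(ω, V)) (hη : genericPoint X ∈ V),
      ω.presheaf.germ V (genericPoint X) hη s = 0 → s = 0 := fun {V} s hη hs => by
    refine app_injective_of_mono f V ((eq_zero_of_generic htf (f.app V s) hη ?_).trans (map_zero _).symm)
    rw [← stalk_map_germ]
    exact (congrArg _ hs).trans (map_zero _)
  -- `H¹(Q) = 0`
  have hQ1 : Subsingleton (Coh.HH X Q 1) := by
    exact subsingleton_HH_of_support ⟨_, isClosed_support Q (locallyFinGen_of_isFT Q hQ.2)⟩ Q hQ.1 subset_rfl 1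
      (lt_of_le_of_lt hQ0 (by exact_mod_cast zero_lt_one))
  -- `H¹(F) = 0`
  have hF1 : Subsingleton (Coh.HH X F 1) := by
    by_contra hc
    rw [not_subsingleton_iff_nontrivial] at hc
    haveI := finite_HH_of_isCoh k hω 1
    haveI := finite_HH_of_isCoh k hF 1
    have hf : Function.Surjective (SerreDual.hmap k f 1) := fun z =>
      ((SerreDual.exact_hmap k hex 1) z).1 (Subsingleton.elim _ _)
    have hpos : 0 < Module.finrank k (Coh.HH X F 1) := Module.finrank_pos
    have hr := LinearMap.finrank_le_finrank_of_injective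
      (f := (SerreDual.hmap k f 1).dualMap) (LinearMap.dualMap_injective_of_surjective hf)
    rw [Subspace.dual_finrank_eq, Subspace.dual_finrank_eq] at hr
    have heq : Module.finrank k (Coh.HH X ω 1) = Module.finrank k (Coh.HH X F 1) :=
      le_antisymm (hle.trans hpos) hr
    let E := LinearEquiv.ofBijective (SerreDual.hmap k f 1)
      ⟨(LinearMap.injective_iff_surjective_of_finrank_eq_finrank heq).2 hf, hf⟩
    obtain ⟨r, hr'⟩ := (hrep F hF.1).2 (t ∘ₗ E.symm.toLinearMap)
    have hret : f ≫ r = 𝟙 ω := (hrep ω hω.1).1 (by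
      rw [SerreDual.theta_comp, hr']
      refine LinearMap.ext fun x => ?_
      show t (E.symm (E x)) = t (SerreDual.hmap k (𝟙 ω) 1 x)
      rw [LinearEquiv.symm_apply_apply, SerreDual.hmap_id]
      rfl)
    let sp := ShortComplex.Splitting.ofExactOfRetraction _ hex.exact r hret hex.epi_g
    have hq : ∀ q : Coh.structureModule X ⟶ Q, q = 0 := fun q => by
      have h1 : q ≫ sp.s = 0 := by
        refine (unitDesc_unitVal (q ≫ sp.s)).symm.trans ((congrArg (Coherent.unitDesc F) ?_).trans
          (unitDesc_unitVal (0 : Coh.structureModule X ⟶ F)))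
        show (q ≫ sp.s).app ⊤ (1 : Γ(X, ⊤)) = 0
        refine eq_zero_of_generic htf _ trivial ?_
        show F.presheaf.germ ⊤ _ trivial (sp.s.app ⊤ (q.app ⊤ (1 : Γ(X, ⊤)))) = 0
        rw [← stalk_map_germ, @Subsingleton.elim _ hQη (Q.presheaf.germ ⊤ (genericPoint X) trivial _) 0]
        exact map_zero _
      rw [← Category.comp_id q, ← sp.s_g, ← Category.assoc, h1, zero_comp]
    haveI : Subsingleton (Coh.structureModule X ⟶ Q) := subsingleton_of_forall_eq 0 hq
    rw [← (SerreDual.homUnitHH k Q).finrank_eq, Module.finrank_zero_of_subsingleton] at hQ2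
    omega
  -- `h⁰(ω) < h⁰(F)`
  have hlt : Module.finrank k (Coh.HH X ω 0) < Module.finrank k (Coh.HH X F 0) := by
    have hadd := euler_additive k X _ hex hω hF hQ
    change Curv2.euler k X F = Curv2.euler k X ω + Curv2.euler k X Q at hadd
    rw [euler_eq_h0_sub_h1 k hdim.le _ hF.1, euler_eq_h0_sub_h1 k hdim.le _ hω.1,
      euler_eq_h0_sub_h1 k hdim.le _ hQ.1] at hadd
    rw [@Module.finrank_zero_of_subsingleton k (Coh.HH X F 1) _ _ _ _ hF1,
      @Module.finrank_zero_of_subsingleton k (Coh.HH X Q 1) _ _ _ _ hQ1] at hadd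
    omega
  -- evaluation at all global sections
  let p : freeMod X Γ(F, ⊤) ⟶ F := freeDesc fun s => Coherent.unitDesc F s
  by_cases hp : Epi p
  · exact ⟨_, p, hp⟩
  exfalso
  let π := cokernel.π p
  let K := kernel π
  have hC : Coh.IsCoh (cokernel p) := isCoh_cokernel p inferInstance hF
  have hK : Coh.IsCoh K := isCoh_kernel π hF hC.1
  haveI := hK.1
  let S : ShortComplex X.Modules := ShortComplex.mk (kernel.ι π) π (kernel.condition π)
  have hS : S.ShortExact :=
    { exact := ShortComplex.exact_of_f_is_kernel _ (kernelIsKernel π)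
      mono_f := inferInstanceAs (Mono (kernel.ι π))
      epi_g := inferInstanceAs (Epi π) }
  -- sections of `F` are sections of `K`
  have hu : ∀ u : Coh.structureModule X ⟶ F, u ≫ π = 0 := fun u => by
    rw [← unitDesc_unitVal u]
    have h1 : freeInj (unitVal u ⊤) ≫ p = Coherent.unitDesc F (unitVal u ⊤) := freeInj_freeDesc _ _
    rw [← h1, Category.assoc, cokernel.condition]
    exact comp_zero
  let eK : (Coh.structureModule X ⟶ K) ≃ₗ[k] (Coh.structureModule X ⟶ F) :=
    LinearEquiv.ofBijective (Linear.rightComp k (Coh.structureModule X) (kernel.ι π))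
      ⟨fun a b hab => (cancel_mono (kernel.ι π)).1 hab,
        fun u => ⟨kernel.lift π u (hu u), kernel.lift_ι π u (hu u)⟩⟩
  have hK0 : Module.finrank k (Coh.HH X K 0) = Module.finrank k (Coh.HH X F 0) :=
    (SerreDual.homUnitHH k K).finrank_eq.symm.trans (eK.finrank_eq.trans (SerreDual.homUnitHH k F).finrank_eq)
  -- generic stalks
  have hfsur : Function.Surjective ((DerSch.stalkFunctor X (genericPoint X)).map f) := fun a =>
    ((ShortComplex.moduleCat_exact_iff _).1 (hex.map_of_exact (DerSch.stalkFunctor X (genericPoint X))).exact) a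
      (@Subsingleton.elim _ hQη _ _)
  have hlineF : ∀ a b : F.presheaf.stalk (genericPoint X), a ≠ 0 →
      ∃ r : X.presheaf.stalk (genericPoint X), r • a = b := fun a b ha => by
    obtain ⟨a0, rfl⟩ := hfsur a
    obtain ⟨b0, rfl⟩ := hfsur b
    obtain ⟨r, hr⟩ := hline a0 b0 (fun e => ha (by rw [e]; exact map_zero _))
    exact ⟨r, by rw [← hr]; exact (map_smul ((DerSch.stalkFunctor X (genericPoint X)).map f).hom r a0).symm⟩
  have hKinj : Function.Injective ((DerSch.stalkFunctor X (genericPoint X)).map (kernel.ι π)) :=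
    (ModuleCat.mono_iff_injective ((DerSch.stalkFunctor X (genericPoint X)).map (kernel.ι π))).1 inferInstance
  -- a nonzero section
  obtain ⟨u₀, hu₀⟩ : ∃ u : Coh.structureModule X ⟶ K, u ≠ 0 := by
    by_contra! hc
    haveI : Subsingleton (Coh.structureModule X ⟶ K) := subsingleton_of_forall_eq 0 hc
    rw [← (SerreDual.homUnitHH k K).finrank_eq, Module.finrank_zero_of_subsingleton] at hK0
    omega
  have hsK : ∀ u : Coh.structureModule X ⟶ K, u ≠ 0 → ∀ v : K.presheaf.stalk (genericPoint X),
      ∃ r : X.presheaf.stalk (genericPoint X), r • K.presheaf.germ ⊤ (genericPoint X) trivial (unitVal u ⊤) = v := by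
    intro u hne v
    have hs : (DerSch.stalkFunctor X (genericPoint X)).map (kernel.ι π)
        (K.presheaf.germ ⊤ (genericPoint X) trivial (unitVal u ⊤)) ≠ 0 := fun he => by
      refine hne ((cancel_mono (kernel.ι π)).1 ?_)
      rw [zero_comp, ← unitDesc_unitVal (u ≫ kernel.ι π), ← unitDesc_unitVal (0 : Coh.structureModule X ⟶ F)]
      refine congrArg _ ?_
      erw [stalk_map_germ] at he
      exact eq_zero_of_generic htf ((kernel.ι π).app ⊤ (unitVal u ⊤)) trivial he
    obtain ⟨r, hr⟩ := hlineF _ ((DerSch.stalkFunctor X (genericPoint X)).map (kernel.ι π) v) hs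
    exact ⟨r, hKinj ((map_smul ((DerSch.stalkFunctor X (genericPoint X)).map (kernel.ι π)).hom r _).trans hr)⟩
  -- the cokernel is a nonzero skyscraper
  have hCη : Subsingleton ((cokernel p).presheaf.stalk (genericPoint X)) := by
    refine subsingleton_of_forall_eq 0 fun c => ?_
    obtain ⟨a, rfl⟩ := (ModuleCat.epi_iff_surjective ((DerSch.stalkFunctor X (genericPoint X)).map π)).1 inferInstance c
    obtain ⟨r, hr⟩ := hlineF ((DerSch.stalkFunctor X (genericPoint X)).map (kernel.ι π)
      (K.presheaf.germ ⊤ (genericPoint X) trivial (unitVal u₀ ⊤))) a (fun he => by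
        refine hu₀ ((cancel_mono (kernel.ι π)).1 ?_)
        rw [zero_comp, ← unitDesc_unitVal (u₀ ≫ kernel.ι π), ← unitDesc_unitVal (0 : Coh.structureModule X ⟶ F)]
        refine congrArg _ ?_
        erw [stalk_map_germ] at he
        exact eq_zero_of_generic htf ((kernel.ι π).app ⊤ (unitVal u₀ ⊤)) trivial he)
    rw [← hr, ← LinearMap.map_smul ((DerSch.stalkFunctor X (genericPoint X)).map (kernel.ι π)).hom]
    erw [stalk_comp_apply, kernel.condition, stalk_zero_apply]
  obtain ⟨hfin, hpts, hCdim⟩ := finite_support hdim hC hCη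
  have hC0 : 0 < Module.finrank k (Coh.HH X (cokernel p) 0) := by
    haveI := finite_HH_of_isCoh k hC 0
    by_contra hc
    have hsub := Module.finrank_zero_iff.1 (Nat.le_zero.1 (not_lt.1 hc))
    haveI : Subsingleton (Coh.structureModule X ⟶ cokernel p) := (SerreDual.homUnitHH k _).toEquiv.subsingleton
    obtain ⟨ι, q, hq⟩ := CommAlg4.isGloballyGenerated_of_support_finite (cokernel p)
      (locallyFinGen_of_isFT _ hC.2) _ hfin hpts subset_rfl
    have hq0 : (q : freeMod X ι ⟶ cokernel p) = 0 := freeMod_hom_ext fun i => Subsingleton.elim _ _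
    haveI : Epi (0 : freeMod X ι ⟶ cokernel p) := hq0 ▸ hq
    exact hp (Abelian.epi_of_cokernel_π_eq_zero p (by
      rw [← Category.comp_id (cokernel.π p), (IsZero.iff_id_eq_zero _).1 (IsZero.of_epi_zero (freeMod X ι) (cokernel p)), comp_zero]))
  have hC1 : Subsingleton (Coh.HH X (cokernel p) 1) :=
    subsingleton_HH_of_support ⟨_, isClosed_support _ (locallyFinGen_of_isFT _ hC.2)⟩ _ hC.1 subset_rfl 1
      (lt_of_le_of_lt hCdim (by exact_mod_cast zero_lt_one))
  have hK1 : 0 < Module.finrank k (Coh.HH X K 1) := by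
    have hadd := euler_additive k X S hS hK hF hC
    change Curv2.euler k X F = Curv2.euler k X K + Curv2.euler k X (cokernel p) at hadd
    rw [euler_eq_h0_sub_h1 k hdim.le _ hF.1, euler_eq_h0_sub_h1 k hdim.le _ hK.1,
      euler_eq_h0_sub_h1 k hdim.le _ hC.1, hK0] at hadd
    rw [@Module.finrank_zero_of_subsingleton k (Coh.HH X F 1) _ _ _ _ hF1,
      @Module.finrank_zero_of_subsingleton k (Coh.HH X (cokernel p) 1) _ _ _ _ hC1] at hadd
    omega
  haveI := finite_HH_of_isCoh k hK 1
  obtain ⟨ψ, hψ⟩ : ∃ ψ : K ⟶ ω, ψ ≠ 0 := by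
    by_contra! hc
    haveI : Subsingleton (K ⟶ ω) := subsingleton_of_forall_eq 0 hc
    have h1 := (SerreDual.dualEquiv t (hrep K hK.1)).finrank_eq
    rw [Subspace.dual_finrank_eq, Module.finrank_zero_of_subsingleton] at h1
    omega
  have hinj : Function.Injective (Linear.rightComp k (Coh.structureModule X) ψ) := by
    refine (injective_iff_map_eq_zero _).2 fun u hu' => ?_
    by_contra hne
    refine hψ (Scheme.Modules.hom_ext _ _ fun V => ConcreteCategory.hom_ext _ _ fun z => ?_)
    show ψ.app V z = (0 : Γ(ω, V))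
    by_cases hV : genericPoint X ∈ V
    · refine hsecω _ hV ?_
      rw [← stalk_map_germ]
      obtain ⟨r, hr⟩ := hsK u hne (K.presheaf.germ V (genericPoint X) hV z)
      rw [← hr]
      refine (map_smul ((DerSch.stalkFunctor X (genericPoint X)).map ψ).hom r _).trans ?_
      erw [stalk_map_germ]
      rw [show ψ.app ⊤ (unitVal u ⊤) = 0 from congrArg (fun g : Coh.structureModule X ⟶ ω => unitVal g ⊤) hu', map_zero, smul_zero]
    · refine TorShLib.sec_ext ω _ fun x hx => absurd (TorShLib.genericPoint_mem hx) hV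
  haveI : Module.Finite k (Coh.structureModule X ⟶ ω) :=
    haveI := finite_HH_of_isCoh k hω 0
    Module.Finite.equiv (SerreDual.homUnitHH k ω).symm
  have h1 := LinearMap.finrank_le_finrank_of_injective hinj
  rw [(SerreDual.homUnitHH k K).finrank_eq, (SerreDual.homUnitHH k ω).finrank_eq, hK0] at h1
  omega

end Groth.Agent.S6568
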