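import Groth.Statements.S6572
import Groth.Agent.Ram24.Basic
import Groth.Agent.AVExt16.RelDim
import Groth.Agent.Zeta24.Bridge
import Groth.Agent.CurvesLib24.Basic
import Groth.Agent.CycLib28.FiniteDeg
import Groth.Agent.Clifford24.KaehlerStalk
import Groth.Agent.NodeLib7.Point

-- import your own Groth.Agent.* helpers here

set_option autoImplicit false
universe u
open CategoryTheory CategoryTheory.Limits AlgebraicGeometry
open Curves

set_option backward.isDefEq.respectTransparency.types false
open Groth.Agent
set_option backward.isDefEq.respectTransparency.types false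
set_option linter.style.haveILetI false
set_option maxHeartbeats 1000000
namespace Groth.Agent.S6572

theorem stalkMap_comp {k : Type u} [Field k] {X Y : Scheme.{u}} [X.Over (Spec (CommRingCat.of k))]
    [Y.Over (Spec (CommRingCat.of k))] (f : X ⟶ Y)
    (hf : f ≫ (Y ↘ (Spec (CommRingCat.of k))) = X ↘ (Spec (CommRingCat.of k))) (x : X) (c : k) :
    (f.stalkMap x).hom (Curv2.stalkMap k Y (f x) c) = Curv2.stalkMap k X x c := by
  subst_vars
  simp only [Curv2.stalkMap, RingHom.comp_apply]
  erw [Scheme.Hom.germ_stalkMap_apply]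
  rw [← hf]
  simp [Coh.toGlobal]
  rfl

theorem finite_resField {k : Type u} [Field k] (X : Scheme.{u}) [X.Over (Spec (CommRingCat.of k))]
    [LocallyOfFiniteType (X ↘ (Spec (CommRingCat.of k)))] (x : X) (hx : IsClosed ({x} : Set X)) :
    letI : Algebra k (X.presheaf.stalk x) := (Curv2.stalkMap k X x).toAlgebra
    Module.Finite k (IsLocalRing.ResidueField (X.presheaf.stalk x)) :=
  (NodeLib7.isClosed_iff_finite k X x).1 hx

/-- Let k be a field and f : X → Y a morphism over k of smooth proper curves over k (proper, smooth,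
integral, of dimension one) which is generically étale (étale on a nonempty open of X) and
nonconstant (f(ξ_X) = ξ_Y for the generic points), with H^0(X, O_X) = H^0(Y, O_Y) = k. For a closed
point x ∈ X with image y, write e_x for the ramification index of the extension of discrete
valuation rings O_{Y,y} → O_{X,x} and d_x for the length of the O_{X,x}-module Ω_{O_{X,x}/O_{Y,y}}.
Then e_x − 1 ≤ d_x, with equality exactly when O_{Y,y} → O_{X,x} is tame: the residue field
extension κ(x)/κ(y) is separable and e_x is not divisible by the characteristic of κ(y) (e_x ≠ 0 in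
κ(y)). (The published statement also identifies d_x with the multiplicity of x in the ramification
divisor; this row takes the length of Ω_{O_{X,x}/O_{Y,y}}, the stalk of Ω_{X/Y} at x, as the
definition of d_x.) -/
theorem result (k : Type u) [Field k]
    (X Y : Scheme.{u}) [X.Over (Spec (CommRingCat.of k))] [Y.Over (Spec (CommRingCat.of k))]
    [IsIntegral X] [IsProper (X ↘ (Spec (CommRingCat.of k)))] [Smooth (X ↘ (Spec (CommRingCat.of k)))] (hdX : topologicalKrullDim X = 1)
    [IsIntegral Y] [IsProper (Y ↘ (Spec (CommRingCat.of k)))] [Smooth (Y ↘ (Spec (CommRingCat.of k)))] (hdY : topologicalKrullDim Y = 1)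
    (hX0 : Module.finrank k (Coh.HH X (Coh.structureModule X) 0) = 1) (hY0 : Module.finrank k (Coh.HH Y (Coh.structureModule Y) 0) = 1)
    (f : X ⟶ Y) (hf : f ≫ (Y ↘ (Spec (CommRingCat.of k))) = X ↘ (Spec (CommRingCat.of k))) (e : f (genericPoint X) = genericPoint Y)
    (het : ∃ U : X.Opens, (U : Set X).Nonempty ∧ Etale (U.ι ≫ f))
    (x : X) (hx : IsClosed ({x} : Set X)) :
    letI := (f.stalkMap x).hom.toAlgebra
    letI := (f.residueFieldMap x).hom.toAlgebra
    ((((Ideal.ramificationIdx (IsLocalRing.maximalIdeal (X.presheaf.stalk x)) (Y.presheaf.stalk (f x)) - 1 : ℕ) : ℕ∞) ≤ Module.length (X.presheaf.stalk x) (KaehlerDifferential (Y.presheaf.stalk (f x)) (X.presheaf.stalk x))) ∧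
      ((Module.length (X.presheaf.stalk x) (KaehlerDifferential (Y.presheaf.stalk (f x)) (X.presheaf.stalk x)) = ((Ideal.ramificationIdx (IsLocalRing.maximalIdeal (X.presheaf.stalk x)) (Y.presheaf.stalk (f x)) - 1 : ℕ) : ℕ∞)) ↔
        (Algebra.IsSeparable (Y.residueField (f x)) (X.residueField x) ∧ ((Ideal.ramificationIdx (IsLocalRing.maximalIdeal (X.presheaf.stalk x)) (Y.presheaf.stalk (f x)) : ℕ) : Y.residueField (f x)) ≠ 0))) := by
  haveI := AVExt16.smoothOfRelativeDimension_of_dim (X ↘ (Spec (CommRingCat.of k))) 1 (by exact_mod_cast hdX)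
  haveI : IsDominant f := ⟨by
    refine dense_iff_closure_eq.mpr (Set.eq_univ_of_univ_subset ?_)
    rw [← genericPoint_closure, ← e]
    exact closure_mono (Set.singleton_subset_iff.mpr ⟨_, rfl⟩)⟩
  haveI hpc : IsProper (f ≫ (Y ↘ (Spec (CommRingCat.of k)))) := hf.symm ▸ inferInstance
  haveI : IsProper f := IsProper.of_comp f (Y ↘ (Spec (CommRingCat.of k)))
  have hy : IsClosed ({f x} : Set Y) := by
    have := f.isClosedMap _ hx
    rwa [Set.image_singleton] at this
  haveI := Zeta24.isDVR_stalk k hdX hx
  haveI := Zeta24.isDVR_stalk k hdY hy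
  letI iA := (f.stalkMap x).hom.toAlgebra
  letI iK := (f.residueFieldMap x).hom.toAlgebra
  letI : Algebra k (X.presheaf.stalk x) := (Curv2.stalkMap k X x).toAlgebra
  letI : Algebra k (Y.presheaf.stalk (f x)) := (Curv2.stalkMap k Y (f x)).toAlgebra
  haveI : IsScalarTower k (Y.presheaf.stalk (f x)) (X.presheaf.stalk x) :=
    IsScalarTower.of_algebraMap_eq fun c => (stalkMap_comp f hf x c).symm
  haveI : IsLocalHom (algebraMap (Y.presheaf.stalk (f x)) (X.presheaf.stalk x)) :=
    inferInstanceAs (IsLocalHom (f.stalkMap x).hom)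
  let A := Y.presheaf.stalk (f x)
  let B := X.presheaf.stalk x
  haveI : Module.Finite (IsLocalRing.ResidueField A) (IsLocalRing.ResidueField B) := by
    haveI hB : Module.Finite k (IsLocalRing.ResidueField B) := finite_resField X x hx
    haveI : IsScalarTower k (IsLocalRing.ResidueField A) (IsLocalRing.ResidueField B) :=
      IsScalarTower.of_algebraMap_eq fun c => congrArg (IsLocalRing.residue B) (stalkMap_comp f hf x c).symm
    exact Module.Finite.of_restrictScalars_finite k _ _
  obtain ⟨π, hπ⟩ := IsDiscreteValuationRing.exists_irreducible B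
  obtain ⟨ϖ, hϖ⟩ := IsDiscreteValuationRing.exists_irreducible A
  have hne : algebraMap A B ϖ ≠ 0 := fun h => hϖ.ne_zero
    ((CurvesLib24.stalkMap_injective f x) (h.trans (map_zero _).symm))
  obtain ⟨j, u, hu⟩ := IsDiscreteValuationRing.eq_unit_mul_pow_irreducible hne hπ
  have hj : 1 ≤ j := by
    rcases Nat.eq_zero_or_pos j with rfl | h
    · refine absurd ?_ (map_nonunit (algebraMap A B) ϖ ((IsLocalRing.mem_maximalIdeal _).2 hϖ.not_isUnit))
      rw [hu, pow_zero, mul_one]
      exact u.isUnit
    · exact h
  have hmap : (IsLocalRing.maximalIdeal A).map (algebraMap A B) = IsLocalRing.maximalIdeal B ^ j := by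
    rw [hϖ.maximalIdeal_eq, Ideal.map_span, Set.image_singleton, hu, hπ.maximalIdeal_eq, Ideal.span_singleton_pow,
      Ideal.span_singleton_mul_left_unit u.isUnit]
  have hram : Ideal.ramificationIdx (IsLocalRing.maximalIdeal B) A = j := by
    haveI : (IsLocalRing.maximalIdeal B).LiesOver (IsLocalRing.maximalIdeal A) :=
      ⟨(IsLocalRing.maximalIdeal_comap (algebraMap A B)).symm⟩
    haveI : IsLocalization.AtPrime A (IsLocalRing.maximalIdeal A) :=
      IsLocalization.self fun z hz => IsLocalRing.notMem_maximalIdeal.1 hz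
    haveI : IsLocalization.AtPrime B (IsLocalRing.maximalIdeal B) :=
      IsLocalization.self fun z hz => IsLocalRing.notMem_maximalIdeal.1 hz
    refine (CycLib28.ramificationIdx_eq_length (IsLocalRing.maximalIdeal A) (IsLocalRing.maximalIdeal B)
      (algebraMap A B) fun _ => rfl).trans ?_
    rw [hmap, IsDiscreteValuationRing.length_quotient_pow_maximalIdeal, ENat.toNat_natCast]
  have hcyc : ∃ ω : Ω[B⁄A], Submodule.span B {ω} = ⊤ := by
    obtain ⟨⟨E⟩, -, -⟩ := Clifford24.KaehlerStalk.exists_equiv_kaehler_stalk (k := k) X x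
      ⟨⊤, trivial, IsZariskiLocalAtSource.comp (P := @SmoothOfRelativeDimension 1) inferInstance _⟩
    refine ⟨KaehlerDifferential.map k A B B (E 1), eq_top_iff.2 fun w _ => ?_⟩
    obtain ⟨v, rfl⟩ := KaehlerDifferential.map_surjective k A B w
    obtain ⟨b, rfl⟩ := E.surjective v
    exact Submodule.mem_span_singleton.2 ⟨b, by rw [← map_smul, ← map_smul, smul_eq_mul, mul_one]⟩
  have hA : Submodule.IsPrincipal (IsLocalRing.maximalIdeal A) := ⟨ϖ, hϖ.maximalIdeal_eq⟩
  have := Ram24.main hmap hj hA hcyc
  rw [hram]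
  have he : (inferInstance : Algebra (IsLocalRing.ResidueField A) (IsLocalRing.ResidueField B)) =
      (f.residueFieldMap x).hom.toAlgebra := by
    refine Algebra.algebra_ext _ _ fun z => ?_
    obtain ⟨z, rfl⟩ := IsLocalRing.residue_surjective z
    rfl
  have hiff : Algebra.IsSeparable (IsLocalRing.ResidueField A) (IsLocalRing.ResidueField B) ↔
      Algebra.IsSeparable (Y.residueField (f x)) (X.residueField x) :=
    iff_of_eq (congrArg (fun a : Algebra (IsLocalRing.ResidueField A) (IsLocalRing.ResidueField B) =>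
      @Algebra.IsSeparable _ _ _ _ a) he)
  exact ⟨this.1, this.2.trans (and_congr_left' hiff)⟩

end Groth.Agent.S6572
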