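import Groth.Statements.S6574
import Groth.Agent.NodeMinors9.OfNode

set_option autoImplicit false
universe u
open Curves

namespace Groth.Agent.S6574

open IsLocalRing Groth.Agent

theorem node_of_nodeData (k : Type u) [Field k] {n : ℕ} {I : Ideal (MvPowerSeries (Fin n) k)}
    [IsLocalRing (MvPowerSeries (Fin n) k ⧸ I)] {x y a b c : MvPowerSeries (Fin n) k ⧸ I}
    (h : NodeLib7.NodeData (MvPowerSeries (Fin n) k ⧸ I) x y a b c) :
    ∃ a b c : k, 4 * a * c - b ^ 2 ≠ 0 ∧
      Nonempty ((MvPowerSeries (Fin n) k ⧸ I) ≃ₐ[k] NodeLib7.QQ a b c) := by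
  classical
  let B := MvPowerSeries (Fin n) k ⧸ I
  haveI : IsAdicComplete (maximalIdeal B) B := NodeMinors9.isAdicComplete_quot I
  let ι := algebraMap k (ResidueField B)
  have hbij : Function.Bijective ι := ⟨ι.injective, fun z => by
    obtain ⟨z, rfl⟩ := residue_surjective z
    obtain ⟨p, rfl⟩ := Ideal.Quotient.mk_surjective z
    refine ⟨MvPowerSeries.constantCoeff p, ?_⟩
    show residue B (algebraMap k B _) = _
    rw [← sub_eq_zero, ← map_sub, residue_eq_zero_iff,
      show algebraMap k B (MvPowerSeries.constantCoeff p) =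
        Ideal.Quotient.mk I (MvPowerSeries.C (MvPowerSeries.constantCoeff p)) from rfl, ← map_sub,
      NodeMinors9.map_maximal]
    exact Ideal.mem_map_of_mem _ (NodeMinors9.mem_m.2 (by simp))⟩
  haveI : Algebra.FormallySmooth k (ResidueField B) :=
    Algebra.FormallySmooth.of_equiv (AlgEquiv.ofBijective (Algebra.ofId k (ResidueField B)) hbij)
  obtain ⟨e, he⟩ := NodeLib7.exists_completion_equiv (k := k) h
  obtain ⟨a₀, ha⟩ := hbij.2 (residue B a)
  obtain ⟨b₀, hb⟩ := hbij.2 (residue B b)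
  obtain ⟨c₀, hc⟩ := hbij.2 (residue B c)
  refine ⟨a₀, b₀, c₀, fun h0 => h.disc ?_, ?_⟩
  · simp only [map_sub, map_mul, map_pow, map_ofNat]
    rw [← ha, ← hb, ← hc]
    simpa [map_sub, map_mul, map_pow, map_ofNat] using congrArg ι h0
  let φ : k ≃+* ResidueField B := RingEquiv.ofBijective ι hbij
  let Φ : MvPowerSeries (Fin 2) (ResidueField B) ≃+* MvPowerSeries (Fin 2) k :=
    RingEquiv.ofRingHom (MvPowerSeries.map φ.symm.toRingHom) (MvPowerSeries.map φ.toRingHom)
      (RingHom.ext fun p => by ext d; simp)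
      (RingHom.ext fun p => by ext d; simp)
  have hφ : ∀ t, φ.symm (ι t) = t := φ.symm_apply_apply
  have hq : Ideal.span {NodeLib7.qf a₀ b₀ c₀} =
      (Ideal.span {NodeLib7.qf (residue B a) (residue B b) (residue B c)}).map (Φ : _ →+* _) := by
    rw [Ideal.map_span, Set.image_singleton, ← ha, ← hb, ← hc]
    simp [NodeLib7.qf, Φ, hφ]
  let E : B ≃+* NodeLib7.QQ a₀ b₀ c₀ :=
    ((AdicCompletion.ofAlgEquiv (maximalIdeal B)).toRingEquiv.trans e).trans (Ideal.quotientEquiv _ _ Φ hq)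
  refine ⟨AlgEquiv.ofRingEquiv (f := E) fun t => ?_⟩
  show Ideal.quotientEquiv _ _ Φ hq (e (algebraMap B _ (algebraMap k B t))) = _
  rw [he, Ideal.quotientEquiv_mk]
  show Ideal.Quotient.mk _ (MvPowerSeries.map φ.symm.toRingHom (MvPowerSeries.C (ι t))) = _
  rw [MvPowerSeries.map_C]
  show Ideal.Quotient.mk _ (MvPowerSeries.C (φ.symm (ι t))) = _
  rw [hφ]
  rfl


/-- Let k be a field, A = k[[x_1, …, x_n]], and I = (f_1, …, f_m) ⊆ m_A. The following are equivalent:
(1) A/I is a node in the algebraic sense: A/I ≅ k[[u, v]]/(a u^2 + b uv + c v^2) as k-algebras for a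
nondegenerate quadratic form (A/I is complete with residue field k, so this is the completion
criterion for nodes); (2) the quotient A/I has no nonzero nilpotents, and m_A is generated by I
together with every (n−1)-by-(n−1) minor taken from the Jacobian (∂f_j/∂x_i) (that is, these
elements generate I + m_A = m_A); (3) depth(A/I) = 1 and the same condition on minors. Stated as (1)
⇔ (2) and (2) ⇔ (3). -/
theorem result (k : Type u) [Field k] (n m : ℕ)
    (f : Fin m → MvPowerSeries (Fin n) k) (hf : ∀ j, f j ∈ IsLocalRing.maximalIdeal (MvPowerSeries (Fin n) k)) :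
    ((∃ a b c : k, 4 * a * c - b ^ 2 ≠ 0 ∧
        Nonempty ((MvPowerSeries (Fin n) k ⧸ Ideal.span (Set.range f)) ≃ₐ[k]
          (MvPowerSeries (Fin 2) k ⧸ Ideal.span
            {(MvPowerSeries.C a * MvPowerSeries.X 0 ^ 2 + MvPowerSeries.C b * MvPowerSeries.X 0 * MvPowerSeries.X 1 +
              MvPowerSeries.C c * MvPowerSeries.X 1 ^ 2 : MvPowerSeries (Fin 2) k)}))) ↔
      (IsReduced (MvPowerSeries (Fin n) k ⧸ Ideal.span (Set.range f)) ∧
        Ideal.span {d : MvPowerSeries (Fin n) k | ∃ (ρ : Fin (n - 1) → Fin m) (γ : Fin (n - 1) → Fin n), Function.Injective ρ ∧ Function.Injective γ ∧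
          d = ((Matrix.of fun (j : Fin m) (i : Fin n) => MvPowerSeries.pderiv k i (f j)).submatrix ρ γ).det} ⊔ Ideal.span (Set.range f) = IsLocalRing.maximalIdeal (MvPowerSeries (Fin n) k))) ∧
    ((IsReduced (MvPowerSeries (Fin n) k ⧸ Ideal.span (Set.range f)) ∧
        Ideal.span {d : MvPowerSeries (Fin n) k | ∃ (ρ : Fin (n - 1) → Fin m) (γ : Fin (n - 1) → Fin n), Function.Injective ρ ∧ Function.Injective γ ∧
          d = ((Matrix.of fun (j : Fin m) (i : Fin n) => MvPowerSeries.pderiv k i (f j)).submatrix ρ γ).det} ⊔ Ideal.span (Set.range f) = IsLocalRing.maximalIdeal (MvPowerSeries (Fin n) k)) ↔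
      (LocCoh.depth (MvPowerSeries (Fin n) k) (MvPowerSeries (Fin n) k ⧸ Ideal.span (Set.range f)) = 1 ∧
        Ideal.span {d : MvPowerSeries (Fin n) k | ∃ (ρ : Fin (n - 1) → Fin m) (γ : Fin (n - 1) → Fin n), Function.Injective ρ ∧ Function.Injective γ ∧
          d = ((Matrix.of fun (j : Fin m) (i : Fin n) => MvPowerSeries.pderiv k i (f j)).submatrix ρ γ).det} ⊔ Ideal.span (Set.range f) = IsLocalRing.maximalIdeal (MvPowerSeries (Fin n) k))) := by
  classical
  set I := Ideal.span (Set.range f) with hI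
  let B := MvPowerSeries (Fin n) k ⧸ I
  have hIm : I ≤ maximalIdeal (MvPowerSeries (Fin n) k) := Ideal.span_le.2 fun _ ⟨j, hj⟩ => hj ▸ hf j
  haveI : Nontrivial B := Ideal.Quotient.nontrivial_iff.2 fun h =>
    (maximalIdeal.isMaximal _).ne_top (top_le_iff.1 (h ▸ hIm))
  haveI : IsLocalRing B := IsLocalRing.of_surjective' _ Ideal.Quotient.mk_surjective
  let P := _root_.IsReduced B
  let Q := LocCoh.depth (MvPowerSeries (Fin n) k) B = 1
  let N := ∃ a b c : k, 4 * a * c - b ^ 2 ≠ 0 ∧ Nonempty (B ≃ₐ[k] NodeLib7.QQ a b c)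
  have h1 : N → P ∧ Q ∧ NodeMinors9.J f = maximalIdeal _ := by
    rintro ⟨a, b, c, hd, ⟨e⟩⟩
    haveI : IsAdicComplete (maximalIdeal B) B := NodeMinors9.isAdicComplete_quot I
    obtain ⟨hred, x, y, a', b', c', h, -⟩ := NodeLib7.nodeData_of_completion hd
      ((AdicCompletion.ofAlgEquiv (maximalIdeal B)).toRingEquiv.symm.trans e.toRingEquiv)
    refine ⟨hred, ?_, NodeMinors9.J_eq_of_nodeData f hf h⟩
    show LocCoh.depth _ B = 1
    obtain ⟨x', y', a'', b'', c'', h', hc''⟩ := NodeDelta9.exists_nodeData_unit h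
    rw [← CAlgH3.depth_quotient_ring]
    refine le_antisymm ?_ ?_
    · have := CAlgH3.depth_le_supportDim (R := B) (M := B)
      rw [Module.supportDim_self_eq_ringKrullDim, NodeDelta9.ringKrullDim_eq_one h' hc''] at this
      exact_mod_cast this
    · obtain ⟨t, htm, ht⟩ := h.reg
      exact CAlgH3.one_le_depth_iff.2 (CAlgH3.exists_regular_iff_notMem_associatedPrimes.1
        ⟨t, htm, fun u v huv => sub_eq_zero.1 (ht _ (by rw [mul_sub, sub_eq_zero]; exact huv))⟩)
  have h2 : NodeMinors9.J f = maximalIdeal _ → (∃ t ∈ maximalIdeal B, ∀ z : B, t * z = 0 → z = 0) → N :=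
    fun hJ hreg => by
      obtain ⟨x, y, a, b, c, h⟩ := NodeMinors9.exists_nodeData f hf hJ hreg
      exact node_of_nodeData k h
  have hP : P → NodeMinors9.J f = maximalIdeal _ → N := by
    intro (hred : _root_.IsReduced B) hJ
    obtain ⟨x, y, α, β, F⟩ := NodeMinors9.exists_frame f hf hJ
    refine h2 hJ (NodeLib7.exists_regular fun hF => ?_)
    have hx : Ideal.Quotient.mk I x ∈ maximalIdeal B := by
      rw [NodeMinors9.map_maximal]; exact Ideal.mem_map_of_mem _ F.xm
    rw [IsLocalRing.isField_iff_maximalIdeal_eq.1 hF, Ideal.mem_bot, Ideal.Quotient.eq_zero_iff_mem] at hx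
    exact one_ne_zero (F.indep 1 0 (Ideal.mem_sup_left (by simpa using hx))).1
  have hQ : Q → NodeMinors9.J f = maximalIdeal _ → N := by
    intro (hQ : LocCoh.depth _ B = 1) hJ
    obtain ⟨t, htm, ht⟩ := CAlgH3.exists_regular_of_one_le_depth (M := B) hQ.ge
    refine h2 hJ ⟨Ideal.Quotient.mk I t, by rw [NodeMinors9.map_maximal]; exact Ideal.mem_map_of_mem _ htm,
      fun z hz => ht (show t • z = t • (0 : B) by
        obtain ⟨z, rfl⟩ := Ideal.Quotient.mk_surjective z
        rw [smul_zero]; exact hz)⟩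
  exact ⟨⟨fun h => ⟨(h1 h).1, (h1 h).2.2⟩, fun h => hP h.1 h.2⟩,
    ⟨fun h => ⟨(h1 (hP h.1 h.2)).2.1, h.2⟩, fun h => ⟨(h1 (hQ h.1 h.2)).1, h.2⟩⟩⟩

end Groth.Agent.S6574
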