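import Groth.Statements.S6575
import Mathlib
import Groth.Prelude

set_option linter.all false

set_option autoImplicit false
universe u
open Curves

open Polynomial TensorProduct AlgebraicGeometry

namespace Groth.Agent.S6575

theorem minors_le {R : Type*} [CommRing R] {n m l r : ℕ} (D : Fin n → R → R) (hadd : ∀ i a b, D i (a + b) = D i a + D i b)
    (hmul : ∀ i a b, D i (a * b) = a * D i b + b * D i a)
    (f : Fin m → R) (g : Fin l → R) (hfg : Ideal.span (Set.range f) ≤ Ideal.span (Set.range g)) :
    Ideal.span {d : R | ∃ (ρ : Fin r → Fin m) (γ : Fin r → Fin n), Function.Injective ρ ∧ Function.Injective γ ∧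
          d = ((Matrix.of fun (j : Fin m) (i : Fin n) => D i (f j)).submatrix ρ γ).det} ⊔ Ideal.span (Set.range f) ≤
      Ideal.span {d : R | ∃ (ρ : Fin r → Fin l) (γ : Fin r → Fin n), Function.Injective ρ ∧ Function.Injective γ ∧
          d = ((Matrix.of fun (j : Fin l) (i : Fin n) => D i (g j)).submatrix ρ γ).det} ⊔ Ideal.span (Set.range g) := by
  classical
  refine sup_le ?_ (hfg.trans le_sup_right)
  rw [Ideal.span_le]
  rintro _ ⟨ρ, γ, hρ, hγ, rfl⟩
  have hc : ∀ j, ∃ c : Fin l → R, ∑ t, c t * g t = f j := fun j =>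
    Ideal.mem_span_range_iff_exists_fun.1 (hfg (Ideal.subset_span ⟨j, rfl⟩))
  choose c hc using hc
  let I : Ideal R := Ideal.span (Set.range g)
  let q := Ideal.Quotient.mk I
  have hsum : ∀ i (s : Finset (Fin l)) (F : Fin l → R), D i (∑ t ∈ s, F t) = ∑ t ∈ s, D i (F t) := fun i s F =>
    map_sum (AddMonoidHom.mk' (D i) (hadd i)) F s
  have hrow : ∀ j i, q (D i (f j)) = ∑ t, q (c j t) * q (D i (g t)) := fun j i => by
    rw [← hc j, hsum, map_sum]
    refine Finset.sum_congr rfl fun t _ => ?_
    rw [hmul, map_add, map_mul, map_mul, show q (g t) = 0 from Ideal.Quotient.eq_zero_iff_mem.2 (Ideal.subset_span ⟨t, rfl⟩),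
      zero_mul, add_zero]
  let T : Ideal R := Ideal.span {d : R | ∃ (ρ : Fin r → Fin l) (γ : Fin r → Fin n), Function.Injective ρ ∧ Function.Injective γ ∧
          d = ((Matrix.of fun (j : Fin l) (i : Fin n) => D i (g j)).submatrix ρ γ).det}
  have hmem : q (((Matrix.of fun (j : Fin m) (i : Fin n) => D i (f j)).submatrix ρ γ).det) ∈ T.map q := by
    rw [RingHom.map_det]
    have e : q.mapMatrix ((Matrix.of fun (j : Fin m) (i : Fin n) => D i (f j)).submatrix ρ γ) =
        Matrix.of (fun a => ∑ t : Fin l, q (c (ρ a) t) • fun b => q (D (γ b) (g t))) := by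
      ext a b
      simp [hrow, Finset.sum_apply]
    rw [e]
    have h2 := (Matrix.detRowAlternating : (Fin r → R ⧸ I) [⋀^Fin r]→ₗ[R ⧸ I] (R ⧸ I)).toMultilinearMap.map_sum
      (α := fun _ => Fin l) (fun (a : Fin r) (t : Fin l) => q (c (ρ a) t) • fun b => q (D (γ b) (g t)))
    change Matrix.det _ = _ at h2
    refine (congrArg (fun M => M ∈ T.map q) h2).mpr ?_
    refine Ideal.sum_mem _ fun τ _ => ?_
    rw [MultilinearMap.map_smul_univ, smul_eq_mul]
    refine Ideal.mul_mem_left _ _ ?_
    by_cases hτ : Function.Injective τ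
    · have : q (((Matrix.of fun (j : Fin l) (i : Fin n) => D i (g j)).submatrix τ γ).det) ∈ T.map q :=
        Ideal.mem_map_of_mem q (Ideal.subset_span ⟨τ, γ, hτ, hγ, rfl⟩)
      rw [RingHom.map_det] at this
      exact this
    · obtain ⟨a, b, hab, hne⟩ := Function.not_injective_iff.1 hτ
      have h0 : (Matrix.detRowAlternating : (Fin r → R ⧸ I) [⋀^Fin r]→ₗ[R ⧸ I] (R ⧸ I)) (fun a b => q (D (γ b) (g (τ a)))) = 0 :=
        AlternatingMap.map_eq_zero_of_eq _ _ (by simp only [hab]) hne
      exact (congrArg (· ∈ T.map q) h0).mpr (zero_mem _)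
  have h3 : ((Matrix.of fun (j : Fin m) (i : Fin n) => D i (f j)).submatrix ρ γ).det ∈ (T.map q).comap q := hmem
  rw [Ideal.comap_map_of_surjective q Ideal.Quotient.mk_surjective, ← RingHom.ker_eq_comap_bot, Ideal.mk_ker] at h3
  exact h3

/-- Let k be a field, A = k[[x_1, …, x_n]] and I ⊆ A an ideal generated by f_1, …, f_m and also by g_1,
…, g_l. Then for every r ≥ 0 the ideal of A/I generated by the r × r minors of (∂f_j/∂x_i) equals
the one generated by the r × r minors of (∂g_s/∂x_i); stated in A as equality of the ideals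
generated by the minors together with I. (The published result also asserts independence of the
regular system of parameters x_1, …, x_n, which is not stated here.) -/
theorem result (k : Type u) [Field k] (n m l r : ℕ)
    (f : Fin m → MvPowerSeries (Fin n) k) (g : Fin l → MvPowerSeries (Fin n) k)
    (hfg : Ideal.span (Set.range f) = Ideal.span (Set.range g)) :
    Ideal.span {d : MvPowerSeries (Fin n) k | ∃ (ρ : Fin r → Fin m) (γ : Fin r → Fin n), Function.Injective ρ ∧ Function.Injective γ ∧
          d = ((Matrix.of fun (j : Fin m) (i : Fin n) => MvPowerSeries.pderiv k i (f j)).submatrix ρ γ).det} ⊔ Ideal.span (Set.range f) =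
      Ideal.span {d : MvPowerSeries (Fin n) k | ∃ (ρ : Fin r → Fin l) (γ : Fin r → Fin n), Function.Injective ρ ∧ Function.Injective γ ∧
          d = ((Matrix.of fun (j : Fin l) (i : Fin n) => MvPowerSeries.pderiv k i (g j)).submatrix ρ γ).det} ⊔ Ideal.span (Set.range g) := by
  exact le_antisymm (minors_le (fun i z => MvPowerSeries.pderiv k i z) (by simp) (by simp) f g hfg.le)
    (minors_le (fun i z => MvPowerSeries.pderiv k i z) (by simp) (by simp) g f hfg.ge)

end Groth.Agent.S6575
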