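import Groth.Statements.S6576
import Groth.Agent.TFPush7.PullRep
import Groth.Agent.DualMod3.Apps
import Groth.Agent.SerreDual.TraceBijective
import Groth.Agent.VarietyLib.ProperCurveAmple
import Groth.Agent.EulerLib.FieldExt
import Groth.Agent.DimLib.BaseChange

set_option linter.style.haveILetI false
set_option backward.isDefEq.respectTransparency false
set_option backward.isDefEq.respectTransparency.types false
set_option maxHeartbeats 1000000

set_option autoImplicit false
universe u
open CategoryTheory CategoryTheory.Limits AlgebraicGeometry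
attribute [local instance] HasDerivedCategory.standard
open Curves

namespace Groth.Agent.S6576

/-- Let X be proper over the field k of dimension ≤ 1, ω_X its dualizing module (degree -1 cohomology
sheaf of f^! O for the structure morphism f, assuming Rf_* on D_QCoh and its right adjoint exist),
and K/k a field extension. Then the pullback of ω_X along X_K → X is a dualizing module for X_K →
Spec K: it is isomorphic to the degree -1 cohomology sheaf of the corresponding object for X_K over
K. (Existence of an isomorphism only; the statement for the dualizing complex is not included.) -/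
theorem result (k : Type u) [Field k] (X : Scheme.{u}) [X.Over (Spec (CommRingCat.of k))] [IsProper (X ↘ (Spec (CommRingCat.of k)))] (hdim : topologicalKrullDim X ≤ 1)
    [DCoh.HasRpush (X ↘ (Spec (CommRingCat.of k)))] (h : DCoh.RpushPreservesQCoh (X ↘ (Spec (CommRingCat.of k)))) [DCoh.HasShriek (X ↘ (Spec (CommRingCat.of k))) h]
    (OY : DCoh.DQCoh (Spec (CommRingCat.of k))) (hOY : Nonempty (OY.obj ≅ DCoh.inD (Spec (CommRingCat.of k)) (Coh.structureModule (Spec (CommRingCat.of k)))))
    (K : Type u) [Field K] [Algebra k K]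
    [DCoh.HasRpush (Curv2.bcSnd k X K)] (hK : DCoh.RpushPreservesQCoh (Curv2.bcSnd k X K)) [DCoh.HasShriek (Curv2.bcSnd k X K) hK]
    (OK : DCoh.DQCoh (Spec (CommRingCat.of K))) (hOK : Nonempty (OK.obj ≅ DCoh.inD (Spec (CommRingCat.of K)) (Coh.structureModule (Spec (CommRingCat.of K))))) :
    Nonempty ((Scheme.Modules.pullback (Curv2.bcFst k X K)).obj (DCoh.dualizingMod (X ↘ (Spec (CommRingCat.of k))) h OY 1) ≅ DCoh.dualizingMod (Curv2.bcSnd k X K) hK OK 1) := by
  letI : (Curv2.bc k X K).Over (Spec (CommRingCat.of K)) := ⟨Curv2.bcSnd k X K⟩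
  have hpb : IsPullback (Curv2.bcFst k X K) ((Curv2.bc k X K) ↘ Spec (CommRingCat.of K)) (X ↘ Spec (CommRingCat.of k))
      (Spec.map (CommRingCat.ofHom (algebraMap k K))) := EulerLib.isPullback_bc k X K
  haveI : IsProper (Curv2.bcSnd k X K) :=
    MorphismProperty.of_isPullback (P := @IsProper) hpb inferInstance
  haveI : IsProper ((Curv2.bc k X K) ↘ Spec (CommRingCat.of K)) := ‹IsProper (Curv2.bcSnd k X K)›
  haveI := EulerLib.isNoetherian_of_proper k (X := X)
  haveI : DCoh.HasRpush ((Curv2.bc k X K) ↘ Spec (CommRingCat.of K)) := ‹DCoh.HasRpush (Curv2.bcSnd k X K)›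
  haveI : DCoh.HasShriek ((Curv2.bc k X K) ↘ Spec (CommRingCat.of K)) hK := ‹DCoh.HasShriek (Curv2.bcSnd k X K) hK›
  have hd : topologicalKrullDim X ≤ ((1 : ℕ) : WithBot ℕ∞) := by exact_mod_cast hdim
  have hd' : topologicalKrullDim (Curv2.bc k X K) ≤ ((1 : ℕ) : WithBot ℕ∞) :=
    (DimLib.topologicalKrullDim_bc (X ↘ Spec (CommRingCat.of k)) K).trans_le hd
  obtain ⟨L, -, hL⟩ := VarietyLib.exists_ample_of_dim_le_one k hdim
  obtain ⟨t, hrep⟩ := DualMod3.exists_rep k X h OY hOY hd
  have hW := DualMod3.isCoh k X h OY hOY 1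
  obtain ⟨t₁, hrep₁⟩ := TFPush7.PullRep.exists_rep_pullback (Curv2.bcFst k X K) hpb hd' hW t hrep hL
  obtain ⟨t₂, hrep₂⟩ := DualMod3.exists_rep K (Curv2.bc k X K) hK OK hOK hd'
  exact SerreDual.nonempty_iso_of_rep (CycLib28.InterSheaf.isCoh_pullback _ hW)
    (DualMod3.isCoh K (Curv2.bc k X K) hK OK hOK 1) t₁ t₂
    (fun F hF => hrep₁ F hF.1) fun F hF => hrep₂ F hF.1

end Groth.Agent.S6576
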