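import Groth.Statements.S6578
import Groth.Agent.Surf15.LMBN
import Groth.Agent.UPLib.ProjSpace
import Groth.Agent.AmpleLib.Detect
-- import your own Groth.Agent.* helpers here

set_option autoImplicit false
universe u
open CategoryTheory CategoryTheory.Limits AlgebraicGeometry
open Curves

set_option backward.isDefEq.respectTransparency.types false
namespace Groth.Agent.S6578

/-- Let k be a field and X a proper curve over k all of whose local rings are regular (X integral,
proper, of dimension one), and let (L, V) be a g^r_d on X, given by an invertible module L of degree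
d and an ordered basis s_0, …, s_r of V ⊆ Γ(X, L) (k-linearly independent global sections). Then
there exist a morphism φ : X → P^r_k = Proj k[T_0, …, T_r] over k and a map α : φ^*O(1) → L sending
φ^*T_i to s_i for each i (so φ^*T_0, …, φ^*T_r go to a basis of V). -/
theorem result (k : Type u) [Field k] (X : Scheme.{u}) [X.Over (Spec (CommRingCat.of k))]
    [IsIntegral X] [IsProper (X ↘ (Spec (CommRingCat.of k)))] (hdim : topologicalKrullDim X = 1) (hreg : ∀ x : X, IsRegularLocalRing (X.presheaf.stalk x))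
    (d r : ℕ) (L : X.Modules) (s : Fin (r + 1) → LinSer.Sect X L) (hL : LinSer.IsLinSer k X L d r s) :
    ∃ (φ : X ⟶ CohB1.ProjSpace r k) (α : (Scheme.Modules.pullback φ).obj (Twist.twistProjSpace r k 1) ⟶ L),
      φ ≫ CohB1.ProjSpace.toSpec r k = X ↘ (Spec (CommRingCat.of k)) ∧
        ∀ i : Fin (r + 1), (α.val.app (Opposite.op ⊤)).hom (OmegaSh.pullSect φ (Twist.twistProjSpace r k 1) ⊤ (Twist.globalOf (CohB1.polyGrading r k) (⟨MvPolynomial.X i, MvPolynomial.isHomogeneous_X k i⟩ : (CohB1.polyGrading r k) 1))) = s i := by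
  classical
  obtain ⟨hLi, -, hind⟩ := hL
  haveI := Groth.Agent.EulerLib.isNoetherian_of_proper (X := X) k
  have hLc := Groth.Agent.CurveRR24.isCoh_of_isInvertible k hLi
  let q : Groth.Agent.Coherent.freeMod X (ULift.{u} (Fin (r + 1))) ⟶ L :=
    Groth.Agent.Coherent.freeDesc fun j => Groth.Agent.Coherent.unitDesc L (show Γ(L, ⊤) from s j.down)
  let ι := Abelian.image.ι q
  let p := Abelian.factorThruImage q
  have hfc : Coh.IsCoh (Groth.Agent.Coherent.freeMod X (ULift.{u} (Fin (r + 1)))) :=
    Groth.Agent.Coherent.CohBC.isCoh_of_isFinLocFree (Groth.Agent.FlatMorAdm.isFinLocFree_of_iso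
      (Groth.Agent.Props12.freeModIso X (r + 1)).symm (Groth.Agent.Surf15.isFinLocFree_freeMod' (r + 1)))
  have hc : Coh.IsCoh (Abelian.image q) := Groth.Agent.EulerLib.isCoh_image q hfc hLc
  let s' : Fin (r + 1) → Γ(Abelian.image q, ⊤) := fun i =>
    Groth.Agent.Coherent.unitVal (Groth.Agent.Coherent.freeInj (ULift.up i) ≫ p) ⊤
  have hval : ∀ i, ι.app ⊤ (s' i) = (show Γ(L, ⊤) from s i) := fun i => by
    show ((Groth.Agent.Coherent.freeInj (ULift.up i) ≫ p) ≫ ι).app ⊤ (1 : Γ(X, ⊤)) = _
    rw [Category.assoc, Abelian.image.fac, Groth.Agent.Coherent.freeInj_freeDesc]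
    exact Groth.Agent.SerreDual.unitDesc_one_app _
  have hne : ¬ IsZero (Abelian.image q) := fun hz => by
    have h0 : (show Γ(L, ⊤) from s 0) = 0 := by rw [← hval, hz.eq_of_src ι 0]; rfl
    have h1 := hind (Pi.single 0 1) (by
      rw [Finset.sum_eq_single (0 : Fin (r + 1))]
      · rw [show s 0 = 0 from h0]; exact smul_zero _
      · intro b _ hb; rw [Pi.single_eq_of_ne hb, map_zero, zero_smul]
      · intro h; exact absurd (Finset.mem_univ _) h)
    have h2 : (Pi.single (0 : Fin (r + 1)) (1 : k) : Fin (r + 1) → k) 0 = 0 := congrFun h1 0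
    rw [Pi.single_eq_same] at h2
    exact one_ne_zero h2
  have hfree : FlatMod.IsFinLocFree (Abelian.image q) := by
    refine (Groth.Agent.RefHullLib.isTorsionFree_iff_isFinLocFree_of_dim_le_one hreg hdim.le hc).1 fun x => ?_
    have hinj : Function.Injective ((DerSch.stalkFunctor X x).map ι).hom :=
      (ModuleCat.mono_iff_injective _).1 inferInstance
    haveI := Groth.Agent.Surf15.isTorsionFree_stalk_of_isFinLocFree
      (Groth.Agent.VarietyLib.isFinLocFree_of_rank (Groth.Agent.PicLib.isFinLocFreeOfRank_one hLi)) x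
    refine ⟨fun {a m} hrm => ?_⟩
    have h2 : a • ((DerSch.stalkFunctor X x).map ι).hom m = 0 :=
      ((((DerSch.stalkFunctor X x).map ι).hom).map_smul a m).symm.trans
        ((congrArg _ hrm).trans (map_zero _))
    haveI : Module.IsTorsionFree (X.presheaf.stalk x) ((DerSch.stalkFunctor X x).obj L) :=
      inferInstanceAs (Module.IsTorsionFree (X.presheaf.stalk x) (L.presheaf.stalk x))
    rcases smul_eq_zero.1 h2 with h | h
    · exact Or.inl h
    · exact Or.inr (hinj (h.trans (map_zero _).symm))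
  have hS : (ShortComplex.mk ι (cokernel.π ι) (cokernel.condition ι)).ShortExact :=
    { exact := ShortComplex.exact_cokernel ι }
  obtain ⟨n, hn⟩ := Groth.Agent.VB5.exists_rank hfree
  have hadd := Groth.Agent.VB5.grk_additive hS hLc
  dsimp only at hadd
  rw [Groth.Agent.VB5.rank_one hLi, Groth.Agent.VB5.grk_eq hn] at hadd
  have hn0 : n ≠ 0 := fun h => hne (Groth.Agent.Clifford24.isZero_of_rank_zero (h ▸ hn))
  have hn1 : n = 1 := by omega
  subst hn1
  have hA' : PicF.IsInvertible (Abelian.image q) := Groth.Agent.VB5.invertible_of_rank_one hn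
  have hcov : ∀ x : X, ∃ i, x ∈ Groth.Agent.AmpleLib.glocus (Abelian.image q) (s' i) := by
    intro x
    obtain ⟨W, hxW, g, hg⟩ := Groth.Agent.PicLib.exists_isGen hA' x
    obtain ⟨i, hi⟩ := Groth.Agent.AmpleLib.exists_mem_glocus_of_epi_free hA' (𝟙 (Abelian.image q))
      (x := x) ⟨W, g, hxW, hg⟩ p
    exact ⟨i.down, hi⟩
  obtain ⟨φ, hφ, τ, hτ⟩ := Groth.Agent.UPLib.exists_hom_projSpace r (X ↘ Spec (CommRingCat.of k)) hA' s' hcov
  refine ⟨φ, τ.hom ≫ ι, hφ, fun i => ?_⟩
  refine Eq.trans ?_ (hval i)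
  show ι.app ⊤ (τ.hom.app ⊤ _) = _
  exact congrArg (ι.app ⊤) (hτ i)

end Groth.Agent.S6578
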