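import Groth.Statements.S6579
import Groth.Agent.CurveRR24.DoubleCover.Main
import Groth.Agent.VarietyLib.CurveHom
-- import your own Groth.Agent.* helpers here

set_option autoImplicit false
universe u
open CategoryTheory CategoryTheory.Limits AlgebraicGeometry
open Curves

set_option backward.isDefEq.respectTransparency.types false
namespace Groth.Agent.S6579

/-- Let k be a field and X a proper curve over k all of whose local rings are regular (X integral,
proper, of dimension one), (L, V) a g^1_d on X with ordered basis s_0, s_1 of V, and φ : X → P^1_k a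
morphism over k together with α : φ^*O(1) → L sending φ^*T_i to s_i (the morphism attached to the
linear series). Then either (1) φ is nonconstant and has degree at most d — here: φ does not factor
through a closed point, and k(X) has dimension at most d over the local ring of P^1_k at the image
of the generic point of X (that image is then the generic point, so this is [k(X) : k(P^1_k)] ≤ d) —
or (2) φ maps X (set-theoretically) to a single closed point of P^1_k, and in that case H^0(X, O_X)
is bigger than k. -/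
theorem result (k : Type u) [Field k] (X : Scheme.{u}) [X.Over (Spec (CommRingCat.of k))]
    [IsIntegral X] [IsProper (X ↘ (Spec (CommRingCat.of k)))] (hdim : topologicalKrullDim X = 1) (hreg : ∀ x : X, IsRegularLocalRing (X.presheaf.stalk x))
    (d : ℕ) (L : X.Modules) (s : Fin (1 + 1) → LinSer.Sect X L) (hL : LinSer.IsLinSer k X L d 1 s)
    (φ : X ⟶ CohB1.ProjSpace 1 k) (α : (Scheme.Modules.pullback φ).obj (Twist.twistProjSpace 1 k 1) ⟶ L)
    (hφ : φ ≫ CohB1.ProjSpace.toSpec 1 k = X ↘ (Spec (CommRingCat.of k)) ∧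
        ∀ i : Fin (1 + 1), (α.val.app (Opposite.op ⊤)).hom (OmegaSh.pullSect φ (Twist.twistProjSpace 1 k 1) ⊤ (Twist.globalOf (CohB1.polyGrading 1 k) (⟨MvPolynomial.X i, MvPolynomial.isHomogeneous_X k i⟩ : (CohB1.polyGrading 1 k) 1))) = s i) :
    ((¬ ∃ p : CohB1.ProjSpace 1 k, IsClosed ({p} : Set (CohB1.ProjSpace 1 k)) ∧ Set.range φ ⊆ {p}) ∧
      (letI := (φ.stalkMap (genericPoint X)).hom.toAlgebra
       Module.finrank ((CohB1.ProjSpace 1 k).presheaf.stalk (φ (genericPoint X))) X.functionField ≤ d)) ∨
    ((∃ p : CohB1.ProjSpace 1 k, IsClosed ({p} : Set (CohB1.ProjSpace 1 k)) ∧ Set.range φ ⊆ {p}) ∧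
      Module.finrank k (Coh.HH X (Coh.structureModule X) 0) ≠ 1) := by
  classical
  obtain ⟨hφ1, hα⟩ := hφ
  obtain ⟨hLi, hdeg, hind⟩ := hL
  haveI := Groth.Agent.EulerLib.isNoetherian_of_proper (X := X) k
  haveI : IsProper (CohB1.ProjSpace.toSpec 1 k) := Groth.Agent.CurveLib.isProper_projSpace k 1
  haveI : IsProper (φ ≫ CohB1.ProjSpace.toSpec 1 k) := by rw [hφ1]; infer_instance
  haveI : IsProper φ := IsProper.of_comp φ (CohB1.ProjSpace.toSpec 1 k)
  haveI := Groth.Agent.CurveLib.isIntegral_projSpace k 1
  let O1 := Groth.Agent.EmbLib24.pbO φ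
  let σ : Fin (1 + 1) → Γ(O1, ⊤) := fun i => Groth.Agent.EmbLib24.sig φ i
  have hασ : ∀ i, α.app ⊤ (σ i) = (show Γ(L, ⊤) from s i) := fun i => hα i
  by_cases hc : ∃ p : CohB1.ProjSpace 1 k, IsClosed ({p} : Set (CohB1.ProjSpace 1 k)) ∧ Set.range φ ⊆ {p}
  · refine Or.inr ⟨hc, fun h1 => ?_⟩
    obtain ⟨p, -, hp⟩ := hc
    obtain ⟨j, hj⟩ := Groth.Agent.EmbLib24.exists_chart_mem p
    have htop : (⊤ : X.Opens) ≤ φ ⁻¹ᵁ Groth.Agent.EmbLib24.chart 1 k j := fun x _ => by
      show φ x ∈ Groth.Agent.EmbLib24.chart 1 k j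
      rw [show φ x = p from hp ⟨x, rfl⟩]
      exact hj
    have hscal : ∀ i, ∃ a : Γ(X, ⊤), a • σ j = σ i := fun i => by
      refine ⟨φ.appLE (Groth.Agent.EmbLib24.chart 1 k j) ⊤ htop (Groth.Agent.EmbLib24.coordFun 1 k j i), ?_⟩
      have h := Groth.Agent.EmbLib24.appLE_coordFun_smul φ j i ⊤ htop
      simpa only [Groth.Agent.PicLib.resM_self] using h
    rw [Groth.Agent.CurveRR24.finrank_GA_eq] at h1
    have hconst : ∀ a : Γ(X, ⊤), ∃ c : k, Coh.toGlobal (X ↘ Spec (CommRingCat.of k)) c = a := by
      intro a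
      have h10 : (show Groth.Agent.Coherent.GA (Groth.Agent.Coherent.baseHom k X) (Coh.structureModule X) from (1 : Γ(X, ⊤))) ≠ 0 :=
        show (1 : Γ(X, ⊤)) ≠ 0 from one_ne_zero
      obtain ⟨c, hc⟩ := exists_smul_eq_of_finrank_eq_one h1 h10
        (show Groth.Agent.Coherent.GA (Groth.Agent.Coherent.baseHom k X) (Coh.structureModule X) from a)
      exact ⟨c, (mul_one _).symm.trans hc⟩
    obtain ⟨i, hij⟩ : ∃ i : Fin (1 + 1), i ≠ j := exists_ne j
    obtain ⟨a, ha⟩ := hscal i
    obtain ⟨c, rfl⟩ := hconst a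
    have hs : (show Γ(L, ⊤) from s i) = (show Γ(X, ⊤) from Coh.toGlobal (X ↘ Spec (CommRingCat.of k)) c) • (show Γ(L, ⊤) from s j) := by
      rw [← hασ i, ← hασ j, ← ha, Scheme.Modules.Hom.app_smul]
    have h0 := hind (Pi.single i 1 - Pi.single j c) (by
      have hu : (Finset.univ : Finset (Fin (1 + 1))) = {i, j} := by
        ext x; simp only [Finset.mem_univ, Finset.mem_insert, Finset.mem_singleton, true_iff]; omega
      rw [hu, Finset.sum_pair hij, Pi.sub_apply, Pi.sub_apply, Pi.single_eq_same, Pi.single_eq_same,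
        Pi.single_eq_of_ne hij, Pi.single_eq_of_ne hij.symm, sub_zero, zero_sub, map_one, map_neg, one_smul, neg_smul]
      exact sub_eq_zero.2 hs |> (sub_eq_add_neg _ _).symm.trans)
    have h1' : (Pi.single i (1 : k) - Pi.single j c : Fin (1 + 1) → k) i = 0 := congrFun h0 i
    rw [Pi.sub_apply, Pi.single_eq_same, Pi.single_eq_of_ne hij, sub_zero] at h1'
    exact one_ne_zero h1'
  · refine Or.inl ⟨hc, ?_⟩
    have hfib : ∀ y, (φ ⁻¹' {y}).Finite := fun y => by
      by_cases hη : genericPoint X ∈ φ ⁻¹' {y}
      · refine (Set.finite_singleton (genericPoint X)).subset fun x hx => ?_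
        refine (Groth.Agent.CurvesLib24.eq_genericPoint_or_isClosed hdim.le x).resolve_right fun hcl => hc ⟨y, ?_⟩
        have hy : IsClosed ({y} : Set (CohB1.ProjSpace 1 k)) := by
          have := φ.isClosedMap _ hcl
          rwa [Set.image_singleton, show φ x = y from hx] at this
        exact ⟨hy, Set.range_subset_iff.2 fun z => ((genericPoint_specializes z).map φ.continuous).mem_closed hy hη⟩
      · by_cases hy : IsClosed ({y} : Set (CohB1.ProjSpace 1 k))
        · exact (Groth.Agent.CurveRR24.closed_small k hdim.le (hy.preimage φ.continuous) hη).1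
        · refine (Set.finite_empty).subset fun x hx => ?_
          rcases Groth.Agent.CurvesLib24.eq_genericPoint_or_isClosed hdim.le x with h | hcl
          · exact hη (h ▸ hx)
          · refine hy ?_
            have := φ.isClosedMap _ hcl
            rwa [Set.image_singleton, show φ x = y from hx] at this
    haveI : LocallyQuasiFinite φ := LocallyQuasiFinite.of_finite_preimage_singleton φ hfib
    haveI : IsFinite φ := IsFinite.of_isProper_of_locallyQuasiFinite φ
    haveI : Flat φ := Groth.Agent.CurveRR24.flat_of_finite k φ hdim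
    haveI : IsProper ((CohB1.ProjSpace 1 k) ↘ Spec (CommRingCat.of k)) :=
      inferInstanceAs (IsProper (CohB1.ProjSpace.toSpec 1 k))
    have hPi : PicF.IsInvertible O1 :=
      PicLoc.isInvertible_pullback φ (Groth.Agent.CurveRR24.isInvertible_twist_one k)
    have hα0 : α ≠ 0 := fun h => by
      have h0 : ∀ i, (show Γ(L, ⊤) from s i) = 0 := fun i => by rw [← hασ i, h]; rfl
      have h1 := hind 1 (Finset.sum_eq_zero fun i _ => by rw [show s i = 0 from h0 i]; exact smul_zero _)
      exact one_ne_zero (congrFun h1 0)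
    have hle := (Groth.Agent.VarietyLib.deg_hom k hdim.le hPi hLi α hα0).1
    have hrank : ∀ y, (Scheme.Hom.finrank φ y : ℤ) = Curv2.deg k X O1 1 := fun y => by
      have h := Groth.Agent.CurveRR24.deg_pullback k φ hφ1 (Groth.Agent.DimLib.PN.topologicalKrullDim_projSpace 1 k).le
        (Groth.Agent.CurveRR24.isInvertible_twist_one k) y
      rw [Groth.Agent.CurveRR24.deg_twist_one, mul_one] at h
      exact h.symm
    obtain ⟨n, hn⟩ : ∃ n : ℕ, ∀ y, Scheme.Hom.finrank φ y = n :=
      ⟨Scheme.Hom.finrank φ (φ (genericPoint X)), fun y => by exact_mod_cast (hrank y).trans (hrank _).symm⟩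
    have hnd : n ≤ d := by
      have := (hrank (φ (genericPoint X))).trans_le hle
      rw [hn, hdeg] at this
      exact_mod_cast this
    refine le_trans (le_of_eq ?_) hnd
    rw [← (Groth.Agent.CurveRR24.residueDegree_eq_finrank k φ hdim hn).1]
    have hη := Groth.Agent.CurveRR24.genericPoint_map_of_finite φ hdim (Groth.Agent.DimLib.PN.topologicalKrullDim_projSpace 1 k).le
    have hfld : IsField ((CohB1.ProjSpace 1 k).presheaf.stalk (φ (genericPoint X))) := by
      rw [hη]; exact Field.toIsField (CohB1.ProjSpace 1 k).functionField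
    let _ : Algebra ((CohB1.ProjSpace 1 k).presheaf.stalk (φ (genericPoint X))) X.functionField :=
      (φ.stalkMap (genericPoint X)).hom.toAlgebra
    let _ : Algebra ((CohB1.ProjSpace 1 k).residueField (φ (genericPoint X))) (X.residueField (genericPoint X)) :=
      (φ.residueFieldMap (genericPoint X)).hom.toAlgebra
    let eY := RingEquiv.ofBijective ((CohB1.ProjSpace 1 k).residue (φ (genericPoint X))).hom
      ⟨(letI := hfld.toField; RingHom.injective _), Scheme.residue_surjective _ _⟩
    let eX := RingEquiv.ofBijective (X.residue (genericPoint X)).hom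
      ⟨(RingHom.injective (show X.functionField →+* X.residueField (genericPoint X) from (X.residue (genericPoint X)).hom)), Scheme.residue_surjective _ _⟩
    exact Algebra.finrank_eq_of_equiv_equiv eY eX (RingHom.ext fun z =>
      (ConcreteCategory.congr_hom (Scheme.residue_residueFieldMap φ (genericPoint X)) z))

end Groth.Agent.S6579
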