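import Groth.Statements.S6580
import Groth.Agent.DCat.TriSum

set_option autoImplicit false
set_option backward.isDefEq.respectTransparency false
set_option backward.defeqAttrib.useBackward true
universe v u
open CategoryTheory CategoryTheory.Limits
open CohDer

namespace Groth.Agent.S6580

open CategoryTheory.Pretriangulated in
/-- Let (X, Y, Z, f, g, h) be a distinguished triangle of a pretriangulated category, and let a : X ⟶ X
and c : Z ⟶ Z be idempotents with h ≫ a⟦1⟧ = c ≫ h. Then there is an idempotent b : Y ⟶ Y such that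
(a, b, c) is an endomorphism of the triangle. -/
theorem result {D : Type u} [Category.{v} D] [Preadditive D] [HasZeroObject D] [HasShift D ℤ]
    [∀ n : ℤ, (shiftFunctor D n).Additive] [Pretriangulated D]
    (T : Triangle D) (hT : T ∈ distinguishedTriangles) (a : T.obj₁ ⟶ T.obj₁) (c : T.obj₃ ⟶ T.obj₃)
    (ha : a ≫ a = a) (hc : c ≫ c = c) (comm : T.mor₃ ≫ (shiftFunctor D (1 : ℤ)).map a = c ≫ T.mor₃) :
    ∃ b : T.obj₂ ⟶ T.obj₂, b ≫ b = b ∧ T.mor₁ ≫ b = a ≫ T.mor₁ ∧ T.mor₂ ≫ c = b ≫ T.mor₂ := by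
  obtain ⟨b', hb1, hb2⟩ := complete_distinguished_triangle_morphism₂ T T hT hT a c comm
  have e1 : T.mor₁ ≫ (b' ≫ b' - b') = 0 := by
    rw [Preadditive.comp_sub, reassoc_of% hb1, hb1, reassoc_of% ha, sub_self]
  have e2 : (b' ≫ b' - b') ≫ T.mor₂ = 0 := by
    rw [Preadditive.sub_comp, Category.assoc, ← hb2, ← Category.assoc, ← hb2, Category.assoc, hc,
      sub_self]
  obtain ⟨u, hu⟩ := Triangle.yoneda_exact₂ _ hT _ e1
  obtain ⟨v, hv⟩ := Triangle.coyoneda_exact₂ _ hT _ e2
  have e3 : (b' ≫ b' - b') ≫ (b' ≫ b' - b') = 0 := by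
    nth_rewrite 1 [hv]
    rw [hu, Category.assoc, comp_distTriang_mor_zero₁₂_assoc _ hT, zero_comp, comp_zero]
  refine ⟨3 • (b' ≫ b') - 2 • (b' ≫ b' ≫ b'), ?_, ?_, ?_⟩
  · exact DCat.idem_refine_hom b' e3
  · simp only [Preadditive.comp_sub, Preadditive.comp_nsmul, reassoc_of% hb1, hb1, reassoc_of% ha, ha]
    abel
  · simp only [Preadditive.sub_comp, Preadditive.nsmul_comp, Category.assoc, ← hb2]
    simp only [← Category.assoc, ← hb2]
    simp only [Category.assoc, hc, ← hb2]
    abel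


end Groth.Agent.S6580
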