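import Groth.Statements.S6584

set_option autoImplicit false
set_option backward.isDefEq.respectTransparency false
set_option backward.defeqAttrib.useBackward true
universe v u v' u'
open CategoryTheory CategoryTheory.Limits
open CohDer

namespace Groth.Agent.S6584

variable {D : Type*} [Category D] [Preadditive D] [HasZeroObject D] [HasShift D ℤ]
  [∀ n : ℤ, (shiftFunctor D n).Additive] [Pretriangulated D]
  {A : Type*} [Category A] [Abelian A] (H : D ⥤ A) [H.IsHomological]

lemma closedIso : ObjectProperty.IsClosedUnderIsomorphisms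
    (fun X : D => ∃ N : ℤ, ∀ n : ℤ, N ≤ n → IsZero (H.obj ((shiftFunctor D n).obj X))) :=
  ⟨fun e ⟨N, hN⟩ => ⟨N, fun n hn => (hN n hn).of_iso ((shiftFunctor D n ⋙ H).mapIso e.symm)⟩⟩

lemma isTri : ObjectProperty.IsTriangulated
    (fun X : D => ∃ N : ℤ, ∀ n : ℤ, N ≤ n → IsZero (H.obj ((shiftFunctor D n).obj X))) :=
  have := closedIso H
  { exists_zero := ⟨_, isZero_zero D, 0, fun n _ => (shiftFunctor D n ⋙ H).map_isZero (isZero_zero D)⟩
    toIsStableUnderShift := ⟨fun a => ⟨fun X ⟨N, hN⟩ => ⟨N - a, fun n hn =>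
      (hN (a + n) (by omega)).of_iso (H.mapIso ((shiftFunctorAdd D a n).app X).symm)⟩⟩⟩
    toIsTriangulatedClosed₂ := .mk' fun T hT ⟨N, hN⟩ ⟨M, hM⟩ => ⟨max N M, fun n hn =>
      (H.map_distinguished_exact _ (Pretriangulated.Triangle.shift_distinguished T hT n)).isZero_of_both_zeros
        ((hN n (by omega)).eq_of_src _ _) ((hM n (by omega)).eq_of_tgt _ _)⟩ }

open CategoryTheory.Pretriangulated in
/-- Let H : D ⥤ A be a homological functor from a pretriangulated category to an abelian category. The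
full subcategory of D on the objects X with H(X⟦n⟧) = 0 for all n ≫ 0 is a strictly full
pretriangulated subcategory (zero object, stable under shifts and isomorphisms, closed under
extensions) and is saturated: if X ⊞ Y belongs to it then so do X and Y. -/
theorem result {D : Type u} [Category.{v} D] [Preadditive D] [HasZeroObject D] [HasShift D ℤ]
    [∀ n : ℤ, (shiftFunctor D n).Additive] [Pretriangulated D]
    {A : Type u'} [Category.{v'} A] [Abelian A] (H : D ⥤ A) [H.IsHomological] :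
    (ObjectProperty.IsTriangulated (fun X : D => ∃ N : ℤ, ∀ n : ℤ, N ≤ n → IsZero (H.obj ((shiftFunctor D n).obj X)))) ∧
    (ObjectProperty.IsClosedUnderIsomorphisms (fun X : D => ∃ N : ℤ, ∀ n : ℤ, N ≤ n → IsZero (H.obj ((shiftFunctor D n).obj X)))) ∧
    (∀ X Y : D, (∃ N : ℤ, ∀ n : ℤ, N ≤ n → IsZero (H.obj ((shiftFunctor D n).obj (X ⊞ Y)))) →
      (∃ N : ℤ, ∀ n : ℤ, N ≤ n → IsZero (H.obj ((shiftFunctor D n).obj X))) ∧
      (∃ N : ℤ, ∀ n : ℤ, N ≤ n → IsZero (H.obj ((shiftFunctor D n).obj Y)))) := by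
  refine ⟨isTri H, closedIso H, fun X Y ⟨N, hN⟩ => ⟨⟨N, fun n hn => ?_⟩, ⟨N, fun n hn => ?_⟩⟩⟩
  · rw [IsZero.iff_id_eq_zero, ← H.map_id, ← (shiftFunctor D n).map_id, ← biprod.inl_fst (X := X) (Y := Y),
      Functor.map_comp, H.map_comp, (hN n hn).eq_of_tgt (H.map _) 0, zero_comp]
  · rw [IsZero.iff_id_eq_zero, ← H.map_id, ← (shiftFunctor D n).map_id, ← biprod.inr_snd (X := X) (Y := Y),
      Functor.map_comp, H.map_comp, (hN n hn).eq_of_tgt (H.map _) 0, zero_comp]


end Groth.Agent.S6584
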