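import Groth.Statements.S6585

set_option autoImplicit false
set_option backward.isDefEq.respectTransparency false
set_option backward.defeqAttrib.useBackward true
universe v u
open CategoryTheory CategoryTheory.Limits
open CohDer

namespace Groth.Agent.S6585

open CategoryTheory.Pretriangulated in
/-- Let D be a triangulated category and E, K objects of D. Then Hom(E, K⟦i⟧) = 0 for all integers i if
and only if Hom(E', K) = 0 for every E' in ⟨E⟩, the smallest strictly full saturated triangulated
subcategory of D containing E (the objects obtained from E by shifts, finite direct sums, direct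
summands and extensions). -/
theorem result {D : Type u} [Category.{v} D] [Preadditive D] [HasZeroObject D] [HasShift D ℤ]
    [∀ n : ℤ, (shiftFunctor D n).Additive] [Pretriangulated D] [IsTriangulated D]
    (E K : D) :
    (∀ (i : ℤ) (f : E ⟶ (shiftFunctor D i).obj K), f = 0) ↔
      ∀ (E' : D), (ObjectProperty.singleton E).triangEnvelope E' → ∀ f : E' ⟶ K, f = 0 := by
  constructor
  · intro h
    let Q : ObjectProperty D := fun X => ∀ (i : ℤ) (f : X ⟶ (shiftFunctor D i).obj K), f = 0
    haveI : Q.IsClosedUnderIsomorphisms := ⟨fun e hX i f =>
      (cancel_epi e.hom).1 ((hX i _).trans comp_zero.symm)⟩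
    haveI : Q.IsStableUnderRetracts := ⟨fun {X Y} r hY i f => by
      rw [← Category.id_comp f, ← r.retract, Category.assoc, hY i (r.r ≫ f), comp_zero]⟩
    haveI : Q.IsTriangulated :=
      { exists_zero := ⟨_, isZero_zero D, fun i f => (isZero_zero D).eq_of_src _ _⟩
        toIsStableUnderShift := ⟨fun n => ⟨fun X hX i f => by
          obtain ⟨g, rfl⟩ := ((shiftEquiv D n).toAdjunction.homEquiv _ _).symm.surjective f
          have : g ≫ ((shiftFunctorAdd' D i (-n) (i - n) (by omega)).app K).inv = 0 := hX _ _
          have hg : g = 0 := (cancel_mono ((shiftFunctorAdd' D i (-n) (i - n) (by omega)).app K).inv).1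
            (this.trans zero_comp.symm)
          rw [hg]
          simp [Adjunction.homEquiv_counit]⟩⟩
        toIsTriangulatedClosed₂ := .mk' fun T hT h₁ h₃ i f => by
          obtain ⟨g, rfl⟩ := Triangle.yoneda_exact₂ _ hT f (h₁ i _)
          rw [h₃ i g, comp_zero] }
    have hle : (ObjectProperty.singleton E).triangEnvelope ≤ Q := by
      rw [ObjectProperty.triangEnvelope_le_iff]
      intro X hX
      obtain rfl : E = X := by simpa using hX
      exact h
    intro E' hE' f
    exact (cancel_mono ((shiftFunctorZero D ℤ).app K).inv).1
      ((hle _ hE' 0 _).trans zero_comp.symm)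
  · intro h i f
    obtain ⟨g, rfl⟩ := ((shiftEquiv D i).symm.toAdjunction.homEquiv _ _).surjective f
    rw [h _ ((ObjectProperty.singleton E).triangEnvelope.le_shift (-i) E
      (ObjectProperty.le_triangEnvelope _ _ (by simp))) g]
    simp [Adjunction.homEquiv_unit]


end Groth.Agent.S6585
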