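import Groth.Statements.S6586

set_option autoImplicit false
set_option backward.isDefEq.respectTransparency false
set_option backward.defeqAttrib.useBackward true
universe v u
open CategoryTheory CategoryTheory.Limits
open CohDer

namespace Groth.Agent.S6586

/-- Fix a triangulated category D together with an object E in it. Suppose E classically generates D,
i.e. ⟨E⟩ = D; then E is a generator of D: an object K with Hom(E, K⟦n⟧) = 0 for all n is zero. -/
theorem result {D : Type u} [Category.{v} D] [Preadditive D] [HasZeroObject D] [HasShift D ℤ]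
    [∀ n : ℤ, (shiftFunctor D n).Additive] [Pretriangulated D] [IsTriangulated D]
    (E : D) (hE : (ObjectProperty.singleton E).IsClassicalTriangulatedGenerator) :
    CohDer.Generates (fun _ : PUnit.{1} => E) := by
  intro K hK
  let P : ObjectProperty D := fun X => ∀ (m : ℤ) (f : X⟦m⟧ ⟶ K), f = 0
  haveI : P.IsStableUnderShift ℤ := ⟨fun n => ⟨fun X hX m f => by
    have h := hX (n + m) ((shiftFunctorAdd D n m).hom.app X ≫ f)
    rw [← cancel_epi ((shiftFunctorAdd D n m).hom.app X), h, comp_zero]⟩⟩
  haveI : P.IsTriangulatedClosed₂ := ObjectProperty.IsTriangulatedClosed₂.mk fun T hT h₁ h₃ =>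
    ObjectProperty.le_isoClosure _ _ fun m f => by
      obtain ⟨g, hg⟩ := Pretriangulated.Triangle.yoneda_exact₂ _ (Pretriangulated.Triangle.shift_distinguished T hT m) f (h₁ m _)
      rw [hg, h₃ m g]
      exact comp_zero
  haveI : P.ContainsZero := ⟨⟨_, isZero_zero D, fun m f => ((shiftFunctor D m).map_isZero (isZero_zero D)).eq_of_src _ _⟩⟩
  haveI : P.IsStableUnderRetracts := ⟨fun {X Y} r hY m f => by
    have h := hY m (r.r⟦m⟧' ≫ f)
    have h' := congrArg (r.i⟦m⟧' ≫ ·) h
    simpa [← Functor.map_comp_assoc] using h'⟩
  haveI : P.IsTriangulated := by constructor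
  have hle : ObjectProperty.singleton E ≤ P := by
    intro X hX m f
    obtain rfl : X = E := by simpa [eq_comm] using hX
    let i := (shiftFunctorCompIsoId D m (-m) (by omega)).app X
    refine (shiftFunctor D (-m)).map_injective ?_
    rw [Functor.map_zero, ← cancel_epi i.inv, comp_zero]
    exact hK PUnit.unit (-m) _
  have htop : P K := (ObjectProperty.triangEnvelope_le_iff (P := ObjectProperty.singleton E) (Q := P)).2 hle K
    (by rw [hE]; trivial)
  rw [IsZero.iff_id_eq_zero]
  exact (cancel_epi ((shiftFunctorZero D ℤ).hom.app K)).1 ((htop 0 _).trans comp_zero.symm)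


end Groth.Agent.S6586
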