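import Groth.Statements.S6591
import Groth.Agent.CommAlg4.RightResol
-- import your own Groth.Agent.* helpers here

set_option autoImplicit false
universe v u
open CategoryTheory
open CohDer

namespace Groth.Agent.S6591

/-- Let I be a class of objects in an abelian category containing a zero object and such that every
object is a subobject of an object in I. A cochain complex K with Hⁿ(K) = 0 for n < a admits a
quasi-isomorphism K ⟶ L where L has all terms in I and vanishes below degree a. -/
theorem result {A : Type u} [Category.{v} A] [Abelian A] (I : A → Prop)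
    (hI0 : ∃ Z : A, Limits.IsZero Z ∧ I Z) (hI : ∀ X : A, ∃ (Y : A) (ι : X ⟶ Y), I Y ∧ Mono ι)
    (K : CochainComplex A ℤ) (a : ℤ) (hK : ∀ n : ℤ, n < a → Limits.IsZero (K.homology n)) :
    ∃ (L : CochainComplex A ℤ) (α : K ⟶ L), L.IsStrictlyGE a ∧ (∀ n, I (L.X n)) ∧ QuasiIso α := by
  have : K.IsGE a := (CochainComplex.isGE_iff K a).2 fun i hi =>
    (K.exactAt_iff_isZero_homology i).2 (hK i hi)
  obtain ⟨L, α, h1, h2, -, h4⟩ := CommAlg4.RightResol.exists_resolution hI0 hI (K.truncGE a) a
  exact ⟨L, K.πTruncGE a ≫ α, h1, h2, inferInstance⟩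

end Groth.Agent.S6591
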