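import Groth.Statements.S6594
import Groth.Agent.CommAlg4.Postnikov
-- import your own Groth.Agent.* helpers here

set_option autoImplicit false
universe v u
open CategoryTheory CategoryTheory.Limits
open CohDer

namespace Groth.Agent.S6594

open CategoryTheory.Pretriangulated in
/-- (1) ⇔ (3): let D be a pretriangulated category and f : X ⟶ Y a morphism. Then f has a kernel if and
only if f is isomorphic to a composite K ⊞ Z → Z → Z ⊞ Q of a projection and a coprojection for some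
objects K, Z, Q. -/
theorem result {D : Type u} [Category.{v} D] [Preadditive D] [HasZeroObject D] [HasShift D ℤ]
    [∀ n : ℤ, (shiftFunctor D n).Additive] [Pretriangulated D]
    {X Y : D} (f : X ⟶ Y) :
    HasKernel f ↔ ∃ (K Z Q : D) (e₁ : X ≅ K ⊞ Z) (e₂ : Y ≅ Z ⊞ Q),
      f = e₁.hom ≫ biprod.snd ≫ biprod.inl ≫ e₂.inv := by
  constructor
  · intro hk
    obtain ⟨Z, e₁, he₁⟩ := CommAlg4.Postnikov.exists_iso_biprod_of_mono (kernel.ι f)
    obtain ⟨g, hg⟩ : ∃ g : Z ⟶ Y, g = biprod.inr ≫ e₁.inv ≫ f := ⟨_, rfl⟩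
    have hmono : Mono g := by
      rw [Preadditive.mono_iff_cancel_zero]
      intro T t ht
      obtain ⟨s, hs⟩ : ∃ s, s ≫ kernel.ι f = t ≫ biprod.inr ≫ e₁.inv :=
        ⟨kernel.lift f (t ≫ biprod.inr ≫ e₁.inv) (by simpa [hg] using ht), kernel.lift_ι _ _ _⟩
      have := congrArg (fun w => w ≫ e₁.hom ≫ biprod.snd) hs
      simpa [reassoc_of% he₁] using this.symm
    obtain ⟨Q, e₂, he₂⟩ := CommAlg4.Postnikov.exists_iso_biprod_of_mono g
    refine ⟨_, Z, Q, e₁, e₂, ?_⟩
    rw [← he₂]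
    simp only [Category.assoc, Iso.hom_inv_id, Category.comp_id]
    rw [← cancel_epi e₁.inv, Iso.inv_hom_id_assoc]
    apply biprod.hom_ext'
    · rw [biprod.inl_snd_assoc, zero_comp, ← Category.assoc]
      have : biprod.inl ≫ e₁.inv = kernel.ι f := by rw [Iso.comp_inv_eq, he₁]
      rw [this, kernel.condition]
    · rw [biprod.inr_snd_assoc, hg]
  · rintro ⟨K, Z, Q, e₁, e₂, rfl⟩
    have hinl : (biprod.inl ≫ e₁.inv) ≫ e₁.hom ≫ biprod.snd ≫ biprod.inl ≫ e₂.inv = 0 := by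
      simp
    refine ⟨⟨⟨KernelFork.ofι _ hinl, KernelFork.IsLimit.ofι' _ hinl fun {W} t ht =>
      ⟨t ≫ e₁.hom ≫ biprod.fst, ?_⟩⟩⟩⟩
    have hs : t ≫ e₁.hom ≫ biprod.snd = 0 := by
      have := congrArg (fun w => w ≫ e₂.hom ≫ biprod.fst) ht
      simpa using this
    rw [← cancel_mono e₁.hom]
    apply biprod.hom_ext
    · simp
    · simp [hs]

end Groth.Agent.S6594
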