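import Groth.Statements.S6596
import Groth.Agent.CommAlg4.Postnikov
-- import your own Groth.Agent.* helpers here

set_option autoImplicit false
universe v u
open CategoryTheory CategoryTheory.Limits
open CohDer

namespace Groth.Agent.S6596

open CategoryTheory.Pretriangulated in
/-- Let D be a triangulated category and φ : X ⟶ X' a morphism of chain complexes in D considered in
degrees ≤ n, where a Postnikov system for the complex X_n → … → X_0 consists of objects Y_k, an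
isomorphism Y_0 ⟶ X_0, and for 0 ≤ k < n distinguished triangles Y_{k+1} ⟶ X_{k+1} ⟶ Y_k ⟶
Y_{k+1}⟦1⟧ with X_{k+1} ⟶ Y_k ⟶ X_k the differential. Suppose X and X' carry Postnikov systems (Y,
a, b, c) and (Y', a', b', c'). If Hom(X_i⟦i - j - 1⟧, X'_j) = 0 for all j + 1 < i ≤ n, then φ
extends to a morphism of Postnikov systems: morphisms y_k : Y_k ⟶ Y'_k for k ≤ n forming, with the
φ_k, morphisms of the distinguished triangles and compatible with Y_0 ⟶ X_0 and Y'_0 ⟶ X'_0. -/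
theorem result {D : Type u} [Category.{v} D] [Preadditive D] [HasZeroObject D] [HasShift D ℤ]
    [∀ n : ℤ, (shiftFunctor D n).Additive] [Pretriangulated D] [IsTriangulated D]
    (X X' : ChainComplex D ℕ) (φ : X ⟶ X') (n : ℕ)
    (Y : ℕ → D) (a : ∀ k, Y k ⟶ X.X k) (b : ∀ k, X.X (k + 1) ⟶ Y k)
    (c : ∀ k, Y k ⟶ (shiftFunctor D (1 : ℤ)).obj (Y (k + 1)))
    (h0 : IsIso (a 0))
    (hP : ∀ k, k < n → Triangle.mk (a (k + 1)) (b k) (c k) ∈ distinguishedTriangles ∧ b k ≫ a k = X.d (k + 1) k)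
    (qY : ℕ → D) (qa : ∀ k, qY k ⟶ X'.X k) (qb : ∀ k, X'.X (k + 1) ⟶ qY k)
    (qc : ∀ k, qY k ⟶ (shiftFunctor D (1 : ℤ)).obj (qY (k + 1)))
    (qh0 : IsIso (qa 0))
    (qhP : ∀ k, k < n → Triangle.mk (qa (k + 1)) (qb k) (qc k) ∈ distinguishedTriangles ∧ qb k ≫ qa k = X'.d (k + 1) k)
    (hX : ∀ i j : ℕ, j + 1 < i → i ≤ n → ∀ ψ : (shiftFunctor D ((i : ℤ) - j - 1)).obj (X.X i) ⟶ X'.X j, ψ = 0) :
    ∃ y : ∀ k, Y k ⟶ qY k,
      (∀ k, k ≤ n → y k ≫ qa k = a k ≫ φ.f k) ∧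
      (∀ k, k < n → b k ≫ y k = φ.f (k + 1) ≫ qb k ∧ c k ≫ (shiftFunctor D (1 : ℤ)).map (y (k + 1)) = y k ≫ qc k) := by
  open CommAlg4.Postnikov in
  classical
  have step : ∀ k, k < n → ∀ yk : Y k ⟶ qY k, yk ≫ qa k = a k ≫ φ.f k →
      ∃ yk' : Y (k + 1) ⟶ qY (k + 1), yk' ≫ qa (k + 1) = a (k + 1) ≫ φ.f (k + 1) ∧
        b k ≫ yk = φ.f (k + 1) ≫ qb k ∧
        c k ≫ (shiftFunctor D (1 : ℤ)).map yk' = yk ≫ qc k := by
    intro k hk yk hyk
    have hsq : b k ≫ yk = φ.f (k + 1) ≫ qb k := by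
      rw [← sub_eq_zero]
      refine eq_zero_of_comp_a (fun i => X'.X i) qY qa qb qc qh0 k
        (fun l hl => (qhP l (by omega)).1) _ (fun l hl => ?_) _ ?_
      · have h1 := hX (k + 1) l (by omega) (by omega)
        rw [show ((k + 1 : ℕ) : ℤ) - l - 1 = (k : ℤ) - l by omega] at h1
        exact h1
      · rw [Preadditive.sub_comp, Category.assoc, Category.assoc, hyk, (qhP k hk).2,
          ← Category.assoc, (hP k hk).2, HomologicalComplex.Hom.comm, sub_self]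
    obtain ⟨y', h1, h2⟩ := complete_distinguished_triangle_morphism₁ _ _ (hP k hk).1 (qhP k hk).1
      (φ.f (k + 1)) yk hsq
    exact ⟨y', h1.symm, hsq, h2⟩
  obtain ⟨nxt, hnxt⟩ : ∃ nxt : ∀ k, (Y k ⟶ qY k) → (Y (k + 1) ⟶ qY (k + 1)),
      ∀ k, k < n → ∀ yk : Y k ⟶ qY k, yk ≫ qa k = a k ≫ φ.f k →
        nxt k yk ≫ qa (k + 1) = a (k + 1) ≫ φ.f (k + 1) ∧
        b k ≫ yk = φ.f (k + 1) ≫ qb k ∧
        c k ≫ (shiftFunctor D (1 : ℤ)).map (nxt k yk) = yk ≫ qc k := by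
    refine ⟨fun k yk => if h : k < n ∧ yk ≫ qa k = a k ≫ φ.f k then (step k h.1 yk h.2).choose
      else 0, fun k hk yk hyk => ?_⟩
    simp only [dif_pos (show k < n ∧ yk ≫ qa k = a k ≫ φ.f k from ⟨hk, hyk⟩)]
    exact (step k hk yk hyk).choose_spec
  obtain ⟨y, y0, ys⟩ : ∃ y : ∀ k, Y k ⟶ qY k,
      y 0 = a 0 ≫ φ.f 0 ≫ inv (qa 0) ∧ ∀ k, y (k + 1) = nxt k (y k) :=
    ⟨fun k => Nat.rec (a 0 ≫ φ.f 0 ≫ inv (qa 0)) nxt k, rfl, fun _ => rfl⟩
  have hy : ∀ k, k ≤ n → y k ≫ qa k = a k ≫ φ.f k := by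
    intro k
    induction k with
    | zero => intro _; rw [y0]; simp
    | succ k ih => intro hk; rw [ys]; exact (hnxt k (by omega) _ (ih (by omega))).1
  exact ⟨y, hy, fun k hk => ⟨(hnxt k hk _ (hy k hk.le)).2.1,
    by rw [ys]; exact (hnxt k hk _ (hy k hk.le)).2.2⟩⟩

end Groth.Agent.S6596
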