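import Groth.Statements.S6600
import Mathlib.CategoryTheory.Triangulated.Orthogonal

set_option autoImplicit false
universe v u
open CategoryTheory CategoryTheory.Limits
open CohDer

namespace Groth.Agent.S6600

open CategoryTheory.Pretriangulated in
/-- Let D be a triangulated category, A ⊂ D a full subcategory invariant under all shifts, and X → Y → Z
→ X⟦1⟧ a distinguished triangle. Then Z lies in the right orthogonal A^⊥ if and only if Hom(A, X) →
Hom(A, Y) is bijective for every object A of A. -/
theorem result {D : Type u} [Category.{v} D] [Preadditive D] [HasZeroObject D] [HasShift D ℤ]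
    [∀ n : ℤ, (shiftFunctor D n).Additive] [Pretriangulated D] [IsTriangulated D]
    (P : ObjectProperty D) [P.IsStableUnderShift ℤ] (T : Triangle D) (hT : T ∈ distinguishedTriangles) :
    P.rightOrthogonal T.obj₃ ↔ ∀ A : D, P A → Function.Bijective (fun u : A ⟶ T.obj₁ => u ≫ T.mor₁) := by
  constructor
  · intro h A hA
    refine ⟨fun u u' hu => ?_, fun u => ?_⟩
    · rw [← sub_eq_zero]
      have h0 : (u - u') ≫ T.mor₁ = 0 := by simp only [Preadditive.sub_comp, sub_eq_zero]; exact hu
      obtain ⟨v, hv⟩ := Triangle.coyoneda_exact₂ _ (inv_rot_of_distTriang _ hT) (u - u') h0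
      have hv0 : v = 0 := (P.rightOrthogonal.le_shift (-1 : ℤ) _ h) v hA
      rw [hv, hv0]; exact zero_comp
    · obtain ⟨v, hv⟩ := Triangle.coyoneda_exact₂ _ hT u (h _ hA)
      exact ⟨v, hv.symm⟩
  · intro h A a hA
    have key : ∀ u : A ⟶ (shiftFunctor D (1 : ℤ)).obj T.obj₁,
        u ≫ (shiftFunctor D (1 : ℤ)).map T.mor₁ = 0 → u = 0 := by
      intro u hu
      let e : (shiftFunctor D (1 : ℤ)).obj ((shiftFunctor D (-1 : ℤ)).obj A) ≅ A := (shiftEquiv D (1 : ℤ)).counitIso.app A
      obtain ⟨u', hu'⟩ := (shiftFunctor D (1 : ℤ)).map_surjective (e.hom ≫ u)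
      have h0 : u' ≫ T.mor₁ = 0 := (shiftFunctor D (1 : ℤ)).map_injective (by
        rw [Functor.map_comp, hu', Category.assoc, hu, comp_zero, Functor.map_zero])
      have : u' = 0 := (h _ (P.le_shift (-1 : ℤ) _ hA)).injective (h0.trans zero_comp.symm)
      rw [← cancel_epi e.hom, ← hu', this, Functor.map_zero, comp_zero]
    obtain ⟨a', ha'⟩ := Triangle.coyoneda_exact₃ _ hT a (key _ (by
      rw [Category.assoc, comp_distTriang_mor_zero₃₁ _ hT, comp_zero]))
    obtain ⟨x, hx⟩ := (h A hA).surjective a'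
    rw [ha', ← hx, Category.assoc, comp_distTriang_mor_zero₁₂ _ hT, comp_zero]


end Groth.Agent.S6600
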