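import Groth.Statements.S6601
import Mathlib.CategoryTheory.Triangulated.Orthogonal

set_option autoImplicit false
universe v u
open CategoryTheory CategoryTheory.Limits
open CohDer

namespace Groth.Agent.S6601

open CategoryTheory.Pretriangulated in
/-- Let D be a triangulated category, B ⊂ D a full subcategory invariant under all shifts, and X → Y → Z
→ X⟦1⟧ a distinguished triangle. Then X lies in the left orthogonal ^⊥B if and only if Hom(Z, B) →
Hom(Y, B) is bijective for every object B of B. -/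
theorem result {D : Type u} [Category.{v} D] [Preadditive D] [HasZeroObject D] [HasShift D ℤ]
    [∀ n : ℤ, (shiftFunctor D n).Additive] [Pretriangulated D] [IsTriangulated D]
    (P : ObjectProperty D) [P.IsStableUnderShift ℤ] (T : Triangle D) (hT : T ∈ distinguishedTriangles) :
    P.leftOrthogonal T.obj₁ ↔ ∀ B : D, P B → Function.Bijective (fun u : T.obj₃ ⟶ B => T.mor₂ ≫ u) := by
  constructor
  · intro h B hB
    refine ⟨fun u u' hu => ?_, fun u => ?_⟩
    · rw [← sub_eq_zero]
      have h0 : T.mor₂ ≫ (u - u') = 0 := by simp only [Preadditive.comp_sub, sub_eq_zero]; exact hu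
      obtain ⟨v, hv⟩ := Triangle.yoneda_exact₃ _ hT (u - u') h0
      have hv0 : v = 0 := (P.leftOrthogonal.le_shift (1 : ℤ) _ h) v hB
      rw [hv, hv0, comp_zero]
    · obtain ⟨v, hv⟩ := Triangle.yoneda_exact₂ _ hT u (h _ hB)
      exact ⟨v, hv.symm⟩
  · intro h B x hB
    have h1 : T.mor₃ ≫ (shiftFunctor D (1 : ℤ)).map x = 0 :=
      (h _ (P.le_shift (1 : ℤ) _ hB)).injective
        (show T.mor₂ ≫ T.mor₃ ≫ (shiftFunctor D (1 : ℤ)).map x = T.mor₂ ≫ 0 by
          rw [comp_distTriang_mor_zero₂₃_assoc _ hT, zero_comp, comp_zero])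
    obtain ⟨v, hv⟩ := Triangle.yoneda_exact₃ _ (rot_of_distTriang _ hT) ((shiftFunctor D (1 : ℤ)).map x) h1
    obtain ⟨y, rfl⟩ := (shiftFunctor D (1 : ℤ)).map_surjective v
    change T.obj₂ ⟶ B at y
    have hv' : (shiftFunctor D (1 : ℤ)).map x = (-(shiftFunctor D (1 : ℤ)).map T.mor₁) ≫ (shiftFunctor D (1 : ℤ)).map y := hv
    have hx : x = -(T.mor₁ ≫ y) := (shiftFunctor D (1 : ℤ)).map_injective (by
      rw [hv', Functor.map_neg, Functor.map_comp, Preadditive.neg_comp])
    obtain ⟨z, hz⟩ := (h B hB).surjective y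
    rw [hx, ← hz]; simp only
    rw [comp_distTriang_mor_zero₁₂_assoc _ hT, zero_comp, neg_zero]


end Groth.Agent.S6601
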