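import Groth.Statements.S6603
import Groth.Agent.DCat.TriLoc

set_option autoImplicit false
set_option backward.isDefEq.respectTransparency false
set_option backward.defeqAttrib.useBackward true
universe v u v' u'
open CategoryTheory CategoryTheory.Limits
open CohDer

namespace Groth.Agent.S6603

open CategoryTheory.Pretriangulated in
/-- (1) ⇔ (2) ⇔ (3) ⇔ (4): let D be a pretriangulated category, S a multiplicative system compatible
with the triangulated structure, and Q : D → S⁻¹D the localization functor. For an object Z of D the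
following are equivalent: (1) Q(Z) = 0; (2) 0 : Z ⟶ Z' is in S for some Z'; (3) 0 : Z' ⟶ Z is in S
for some Z'; (4) there are an object Z' and a distinguished triangle (X, Y, Z ⊞ Z', f, g, h) with f
∈ S. (The further equivalences (5)–(7) for saturated S are not asserted.) -/
theorem result {D : Type u} [Category.{v} D] [Preadditive D] [HasZeroObject D] [HasShift D ℤ]
    [∀ n : ℤ, (shiftFunctor D n).Additive] [Pretriangulated D]
    (S : MorphismProperty D) [S.HasLeftCalculusOfFractions] [S.HasRightCalculusOfFractions]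
    [S.IsCompatibleWithTriangulation]
    {E : Type u'} [Category.{v'} E] (Q : D ⥤ E) [Q.IsLocalization S] (Z : D) :
    (IsZero (Q.obj Z) ↔ ∃ Z' : D, S (0 : Z ⟶ Z')) ∧
    (IsZero (Q.obj Z) ↔ ∃ Z' : D, S (0 : Z' ⟶ Z)) ∧
    (IsZero (Q.obj Z) ↔ ∃ (Z' X Y : D) (f : X ⟶ Y) (g : Y ⟶ Z ⊞ Z') (h : Z ⊞ Z' ⟶ (shiftFunctor D (1 : ℤ)).obj X),
      Triangle.mk f g h ∈ distinguishedTriangles ∧ S f) := by
  refine ⟨DCat.isZero_loc_obj_iff_postcomp Q S Z, DCat.isZero_loc_obj_iff_precomp Q S Z, ?_, ?_⟩
  · intro hz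
    obtain ⟨Z', hZ'⟩ := (DCat.isZero_loc_obj_iff_precomp Q S Z).1 hz
    obtain ⟨C, g, h, hT⟩ := distinguished_cocone_triangle (0 : Z' ⟶ Z)
    obtain ⟨e⟩ := DCat.exists_iso_cone_zero hT
    refine ⟨_, Z', Z, 0, g ≫ e.hom, e.inv ≫ h, ?_, hZ'⟩
    exact isomorphic_distinguished _ hT _ (Triangle.isoMk _ _ (Iso.refl _) (Iso.refl _) e.symm
      (by simp) (by simp) (by simp))
  · rintro ⟨Z', X, Y, f, g, h, hT, hf⟩
    exact DCat.isZero_loc_obj_of_retract Q S biprod.inl biprod.fst biprod.inl_fst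
      (DCat.isZero_loc_obj_cone Q S hT hf)


end Groth.Agent.S6603
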