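import Groth.Statements.S6606
import Groth.Agent.DCat.ProjVanish

set_option autoImplicit false
set_option backward.isDefEq.respectTransparency false
set_option backward.defeqAttrib.useBackward true
universe v u
open CategoryTheory CategoryTheory.Limits
open CohDer

namespace Groth.Agent.S6606

/-- Let A be an abelian category, β : P ⟶ L and α : E ⟶ L morphisms of cochain complexes and n an
integer. Assume P is a bounded complex of projective objects with Pⁱ = 0 for i < n, and that Hⁱ(α)
is an isomorphism for i > n and an epimorphism for i = n. Then there is γ : P ⟶ E such that γ ≫ α is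
homotopic to β. -/
theorem result {A : Type u} [Category.{v} A] [Abelian A]
    (P E L : CochainComplex A ℤ) (β : P ⟶ L) (α : E ⟶ L) (n b : ℤ) [P.IsStrictlyGE n] [P.IsStrictlyLE b]
    (hP : ∀ i : ℤ, Projective (P.X i))
    (hiso : ∀ i : ℤ, n < i → IsIso (HomologicalComplex.homologyMap α i)) (hepi : Epi (HomologicalComplex.homologyMap α n)) :
    ∃ γ : P ⟶ E, Nonempty (Homotopy (γ ≫ α) β) := by
  letI := HasDerivedCategory.standard A
  haveI := hP
  haveI := CochainComplex.isKProjective_of_projective P b
  have hT := DerivedCategory.mappingCone_triangle_distinguished α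
  have hcone : ∀ i : ℤ, n ≤ i → IsZero ((CochainComplex.mappingCone α).homology i) := by
    intro i hi
    have key : ∀ j : ℤ, (IsIso (HomologicalComplex.homologyMap α j) →
        IsIso ((DerivedCategory.homologyFunctor A j).map (DerivedCategory.Q.map α))) ∧
        (Epi (HomologicalComplex.homologyMap α j) →
          Epi ((DerivedCategory.homologyFunctor A j).map (DerivedCategory.Q.map α))) := by
      intro j
      have e := DerivedCategory.homologyFunctorFactors_hom_naturality α j
      rw [← IsIso.eq_comp_inv, Category.assoc] at e
      constructor <;> intro _ <;> rw [e] <;> infer_instance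
    have h1 : Epi ((DerivedCategory.homologyFunctor A i).map (DerivedCategory.Q.map α)) := by
      refine (key i).2 ?_
      rcases eq_or_lt_of_le hi with rfl | h
      · exact hepi
      · haveI := hiso i h; infer_instance
    have h2 : IsIso ((DerivedCategory.homologyFunctor A (i + 1)).map (DerivedCategory.Q.map α)) :=
      (key (i + 1)).1 (hiso _ (by omega))
    refine IsZero.of_iso ?_ ((DerivedCategory.homologyFunctorFactors A i).app _).symm
    exact (DerivedCategory.HomologySequence.exact₃ _ hT i (i + 1) rfl).isZero_X₂
      ((DerivedCategory.HomologySequence.epi_homologyMap_mor₁_iff _ hT i).1 h1)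
      ((DerivedCategory.HomologySequence.mono_homologyMap_mor₁_iff _ hT i (i + 1) rfl).1
        (by haveI := h2; exact (inferInstance : Mono ((DerivedCategory.homologyFunctor A (i + 1)).map (DerivedCategory.Q.map α)))))
  obtain ⟨γ', hγ'⟩ := Pretriangulated.Triangle.coyoneda_exact₂ _ hT (DerivedCategory.Q.map β)
    (Groth.Agent.DCat.ProjVanish.hom_eq_zero P (CochainComplex.mappingCone α) n hcone _)
  obtain ⟨γ, rfl⟩ := Groth.Agent.DCat.ProjVanish.exists_map P E γ'
  refine ⟨γ, ⟨HomotopyCategory.homotopyOfEq _ _
    (Groth.Agent.DCat.ProjVanish.quotient_eq_of_Q_eq P _ _ ?_)⟩⟩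
  rw [Functor.map_comp]
  exact hγ'.symm


end Groth.Agent.S6606
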