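import Groth.Statements.S6608

set_option autoImplicit false
universe v u
open CategoryTheory CategoryTheory.Limits
open CohDer

namespace Groth.Agent.S6608

open CategoryTheory.Pretriangulated in
/-- Let D be a pretriangulated category and S a set of arrows of D containing the identities and
satisfying MS6 (compatibility with the triangulated structure; here together with stability under
shifts, MS5). Then every isomorphism of D lies in S. -/
theorem result {D : Type u} [Category.{v} D] [Preadditive D] [HasZeroObject D] [HasShift D ℤ]
    [∀ n : ℤ, (shiftFunctor D n).Additive] [Pretriangulated D]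
    (S : MorphismProperty D) [S.ContainsIdentities] [S.IsCompatibleWithTriangulation]
    {X Y : D} (f : X ⟶ Y) [IsIso f] : S f := by
  have h1 : open ZeroObject in Triangle.mk (0 : (0 : D) ⟶ X) (𝟙 X) 0 ∈ distinguishedTriangles :=
    (Triangle.distinguished_iff_of_isZero₁ _ (isZero_zero _)).2 (inferInstanceAs (IsIso (𝟙 X)))
  have h2 : open ZeroObject in Triangle.mk (0 : (0 : D) ⟶ X) f 0 ∈ distinguishedTriangles :=
    (Triangle.distinguished_iff_of_isZero₁ _ (isZero_zero _)).2 ‹IsIso f›
  obtain ⟨c, hc, hc₂, -⟩ := S.compatible_with_triangulation _ _ h1 h2 (𝟙 _) (𝟙 X)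
    (S.id_mem _) (S.id_mem _) ((show (0 : _ ⟶ X) ≫ 𝟙 X = 0 from zero_comp).trans comp_zero.symm)
  have : c = f := (Category.id_comp c).symm.trans (hc₂.trans (Category.id_comp f))
  exact this ▸ hc


end Groth.Agent.S6608
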