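import Groth.Statements.S6611
import Groth.Agent.DCat.LiftCriterion
-- import your own Groth.Agent.* helpers here

set_option autoImplicit false
universe v u
open CategoryTheory CategoryTheory.Limits
open CohDer

namespace Groth.Agent.S6611

/-- Let A be an abelian category, α : K ⟶ L a quasi-isomorphism of cochain complexes which is injective
in every degree, I a bounded below complex of injective objects and γ : K ⟶ I a morphism. Then there
is a morphism β : L ⟶ I with α ≫ β = γ. -/
theorem result {A : Type u} [Category.{v} A] [Abelian A]
    (K L I : CochainComplex A ℤ) (α : K ⟶ L) [QuasiIso α] (hα : ∀ n : ℤ, Mono (α.f n))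
    (a : ℤ) [I.IsStrictlyGE a] (hI : ∀ n : ℤ, Injective (I.X n)) (γ : K ⟶ I) :
    ∃ β : L ⟶ I, α ≫ β = γ := by
  
    haveI := CochainComplex.isKInjective_of_injective I a
    haveI : Mono α := HomologicalComplex.mono_of_mono_f α hα
    exact Groth.Agent.DCat.lifting_of_isKInjective I hI (S := ShortComplex.mk α (cokernel.π α) (cokernel.condition α))
      { exact := ShortComplex.exact_cokernel α }
      (ShortComplex.ShortExact.acyclic_X₃ (S := ShortComplex.mk α (cokernel.π α) (cokernel.condition α))
      { exact := ShortComplex.exact_cokernel α } ‹QuasiIso α›) γ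

end Groth.Agent.S6611

#print axioms Groth.Agent.S6611.result
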