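import Groth.Statements.S6612
import Mathlib.Algebra.Homology.HomotopyCategory.DegreewiseSplit
import Mathlib.Tactic.Abel

set_option autoImplicit false
set_option backward.isDefEq.respectTransparency false
set_option backward.defeqAttrib.useBackward true
universe v u
open CategoryTheory CategoryTheory.Limits
open CohDer

namespace Groth.Agent.S6612

/-- Let A be an additive category and 0 → A₂ → B₂ → C₂ → 0 a termwise split exact sequence of complexes.
Given a chain map b from a complex B₁ into B₂ and a chain map b' from B₂ into a complex B₃, suppose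
that both composites b ≫ (B₂ → C₂) and (A₂ → B₂) ≫ b' are null-homotopic. Then b ≫ b' is homotopic
to zero. (The published statement has three termwise split sequences Aᵢ → Bᵢ → Cᵢ and asks both
squares of each diagram to commute up to homotopy; this row keeps only the middle sequence and the
two conditions at B₂ that the argument uses, so it is more general.) -/
theorem result {V : Type u} [Category.{v} V] [Preadditive V] [HasBinaryBiproducts V]
    (S : ShortComplex (CochainComplex V ℤ))
    (σ : ∀ n : ℤ, (S.map (HomologicalComplex.eval V (ComplexShape.up ℤ) n)).Splitting)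
    {B₁ B₃ : CochainComplex V ℤ} (b : B₁ ⟶ S.X₂) (b' : S.X₂ ⟶ B₃)
    (hb : Nonempty (Homotopy (b ≫ S.g) 0)) (hb' : Nonempty (Homotopy (S.f ≫ b') 0)) :
    Nonempty (Homotopy (b ≫ b') 0) := by
  obtain ⟨h⟩ := hb
  obtain ⟨h'⟩ := hb'
  let hs : ∀ i j, (ComplexShape.up ℤ).Rel j i → (B₁.X i ⟶ S.X₂.X j) := fun i j _ => h.hom i j ≫ (σ j).s
  let c := b - Homotopy.nullHomotopicMap' hs
  have hcg : c ≫ S.g = 0 := by
    rw [Preadditive.sub_comp, Homotopy.nullHomotopicMap'_comp, sub_eq_zero]
    ext i
    have e := h.comm i
    rw [dNext_eq h.hom (show (ComplexShape.up ℤ).Rel i (i + 1) from rfl),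
      prevD_eq h.hom (show (ComplexShape.up ℤ).Rel (i - 1) i from by simp)] at e
    rw [Homotopy.nullHomotopicMap'_f (show (ComplexShape.up ℤ).Rel (i - 1) i from by simp)
      (show (ComplexShape.up ℤ).Rel i (i + 1) from rfl)]
    have r1 := (σ (i + 1)).s_g
    have r0 := (σ (i - 1)).s_g
    have rn := (σ i).s_g
    dsimp [hs] at r1 r0 rn e ⊢
    simp only [Category.assoc, rn, r0, Category.comp_id, e, add_zero, ← S.g.comm, reassoc_of% r0]
  have hid : ∀ n, c.f n ≫ (σ n).r ≫ S.f.f n = c.f n := by
    intro n
    have e := (σ n).id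
    have e0 : c.f n ≫ S.g.f n = 0 := by rw [← HomologicalComplex.comp_f, hcg]; rfl
    dsimp at e
    conv_rhs => rw [← Category.comp_id (c.f n), ← e]
    rw [Preadditive.comp_add, reassoc_of% e0, zero_comp, add_zero]
  let c' : B₁ ⟶ S.X₁ :=
    { f := fun n => c.f n ≫ (σ n).r
      comm' := fun i j _ => by
        haveI := mono_of_mono_fac (σ j).f_r
        dsimp at this
        rw [← cancel_mono (S.f.f j), Category.assoc, Category.assoc, ← S.f.comm, Category.assoc,
          Category.assoc, hid, reassoc_of% (hid i)]
        exact c.comm i j }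
  have hc' : c' ≫ S.f = c := by
    ext n
    show (c.f n ≫ (σ n).r) ≫ S.f.f n = c.f n
    rw [Category.assoc, hid]
  have hbc : Homotopy b c :=
    (Homotopy.ofEq (show b = c + Homotopy.nullHomotopicMap' hs by simp [c])).trans
      (((Homotopy.refl c).add (Homotopy.nullHomotopy' hs)).trans (Homotopy.ofEq (add_zero c)))
  exact ⟨(hbc.compRight b').trans ((Homotopy.ofEq (by rw [← hc', Category.assoc])).trans
    ((h'.compLeft c').trans (Homotopy.ofEq (comp_zero))))⟩


end Groth.Agent.S6612
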