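import Groth.Statements.S6613
import Mathlib
-- import your own Groth.Agent.* helpers here

set_option autoImplicit false
universe v u v' u'
open CategoryTheory CategoryTheory.Limits
open CohDer

namespace Groth.Agent.S6613

/-- Let D be a pretriangulated category, D' ⊂ D a full pretriangulated subcategory, S a saturated
multiplicative system of D compatible with the triangulated structure and Q : D → S⁻¹D the
localization. Assume every X in D admits some s : X' ⟶ X in S with X' in D'. Then, with S' = S ∩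
Arrows(D'), the functor (S')⁻¹D' → S⁻¹D is an equivalence; equivalently the composite D' → D → S⁻¹D
is a localization of D' at S'. (The published result additionally claims that the intersection S' =
S ∩ Arrows(D') forms a multiplicative system on D' which is saturated and respects the triangulated
structure of D'; this row asserts only the localization property.) -/
theorem result {D : Type u} [Category.{v} D] [Preadditive D] [HasZeroObject D] [HasShift D ℤ]
    [∀ n : ℤ, (shiftFunctor D n).Additive] [Pretriangulated D]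
    (P : ObjectProperty D) [P.IsTriangulated]
    (S : MorphismProperty D) [S.HasLeftCalculusOfFractions] [S.HasRightCalculusOfFractions] [S.IsCompatibleWithTriangulation]
    {E : Type u'} [Category.{v'} E] (Q : D ⥤ E) [Q.IsLocalization S]
    (hsat : ∀ {X Y : D} (f : X ⟶ Y), IsIso (Q.map f) → S f)
    (hP : ∀ X : D, ∃ (X' : D) (s : X' ⟶ X), P X' ∧ S s) :
    (P.ι ⋙ Q).IsLocalization (S.inverseImage P.ι) := by
  let T : MorphismProperty P.FullSubcategory := S.inverseImage P.ι
  have hmem : ∀ {X Y : P.FullSubcategory} (f : X ⟶ Y), T f ↔ S (P.ι.map f) := fun f => Iff.rfl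
  have : T.IsMultiplicative :=
    { id_mem := fun X => by rw [hmem, CategoryTheory.Functor.map_id]; exact S.id_mem _
      comp_mem := fun f g hf hg => by rw [hmem, Functor.map_comp]; exact S.comp_mem _ _ hf hg }
  have : T.HasRightCalculusOfFractions :=
    { exists_rightFraction := fun X Y φ => by
        obtain ⟨ψ, hψ⟩ := MorphismProperty.LeftFraction.exists_rightFraction
          (W := S) (MorphismProperty.LeftFraction.mk (P.ι.map φ.f) (P.ι.map φ.s) φ.hs)
        obtain ⟨Z, t, hZ, ht⟩ := hP ψ.X'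
        refine ⟨MorphismProperty.RightFraction.mk (X' := ⟨Z, hZ⟩) (ObjectProperty.homMk (t ≫ ψ.s))
          (S.comp_mem _ _ ht ψ.hs) (ObjectProperty.homMk (t ≫ ψ.f)), ?_⟩
        apply P.ι.map_injective
        change (t ≫ ψ.s) ≫ P.ι.map φ.f = (t ≫ ψ.f) ≫ P.ι.map φ.s
        rw [Category.assoc, Category.assoc]
        exact congrArg (t ≫ ·) hψ
      ext := fun X Y Y' f₁ f₂ s hs h => by
        obtain ⟨Z, t, ht, ht'⟩ := MorphismProperty.HasRightCalculusOfFractions.ext (W := S)
          (P.ι.map f₁) (P.ι.map f₂) (P.ι.map s) hs (by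
            rw [← Functor.map_comp, ← Functor.map_comp, h])
        obtain ⟨Z', t', hZ', ht''⟩ := hP Z
        refine ⟨⟨Z', hZ'⟩, ObjectProperty.homMk (t' ≫ t), S.comp_mem _ _ ht'' ht, ?_⟩
        apply P.ι.map_injective
        change (t' ≫ t) ≫ P.ι.map f₁ = (t' ≫ t) ≫ P.ι.map f₂
        rw [Category.assoc, Category.assoc, ht'] }
  have hinv : T.IsInvertedBy (P.ι ⋙ Q) := fun X Y f hf => Localization.inverts Q S _ hf
  let G : T.Localization ⥤ E := Localization.lift (P.ι ⋙ Q) hinv T.Q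
  let e : T.Q ⋙ G ≅ P.ι ⋙ Q := Localization.fac (P.ι ⋙ Q) hinv T.Q
  have := Localization.essSurj Q S
  have := Localization.essSurj T.Q T
  have : G.EssSurj := ⟨fun W => by
    obtain ⟨X', s, hX', hs⟩ := hP (Q.objPreimage W)
    have := Localization.inverts Q S s hs
    exact ⟨T.Q.obj ⟨X', hX'⟩, ⟨e.app ⟨X', hX'⟩ ≪≫ asIso (Q.map s) ≪≫ Q.objObjPreimageIso W⟩⟩⟩
  have hfull : ∀ (X Y : P.FullSubcategory), Function.Surjective
      (fun φ : T.Q.obj X ⟶ T.Q.obj Y => G.map φ) := by
    intro X Y ψ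
    obtain ⟨r, hr⟩ := Localization.exists_rightFraction Q S (e.inv.app X ≫ ψ ≫ e.hom.app Y)
    obtain ⟨Z, t, hZ, ht⟩ := hP r.X'
    obtain ⟨s', hs'⟩ : ∃ s' : (⟨Z, hZ⟩ : P.FullSubcategory) ⟶ X, P.ι.map s' = t ≫ r.s :=
      ⟨ObjectProperty.homMk (t ≫ r.s), rfl⟩
    obtain ⟨f', hf'⟩ : ∃ f' : (⟨Z, hZ⟩ : P.FullSubcategory) ⟶ Y, P.ι.map f' = t ≫ r.f :=
      ⟨ObjectProperty.homMk (t ≫ r.f), rfl⟩
    have hTs : T s' := by rw [hmem, hs']; exact S.comp_mem _ _ ht r.hs
    have := Localization.inverts T.Q T s' hTs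
    refine ⟨inv (T.Q.map s') ≫ T.Q.map f', ?_⟩
    show G.map (inv (T.Q.map s') ≫ T.Q.map f') = ψ
    rw [Functor.map_comp, Functor.map_inv, IsIso.inv_comp_eq]
    have h2 : Q.map (t ≫ r.f) = Q.map (t ≫ r.s) ≫ e.inv.app X ≫ ψ ≫ e.hom.app Y := by
      rw [hr, Functor.map_comp, Functor.map_comp, Category.assoc,
        MorphismProperty.RightFraction.map_s_comp_map]
    have n1 : G.map (T.Q.map f') ≫ e.hom.app Y = e.hom.app _ ≫ Q.map (P.ι.map f') :=
      e.hom.naturality f'
    have n2 : G.map (T.Q.map s') ≫ e.hom.app X = e.hom.app _ ≫ Q.map (P.ι.map s') :=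
      e.hom.naturality s'
    rw [← cancel_mono (e.hom.app Y)]
    refine n1.trans ?_
    rw [hf', h2, ← hs']
    refine ((Category.assoc _ _ _).symm.trans (congrArg (· ≫ _) n2.symm)).trans ?_
    simp
  have hfaith : ∀ (X Y : P.FullSubcategory), Function.Injective
      (fun φ : T.Q.obj X ⟶ T.Q.obj Y => G.map φ) := by
    intro X Y φ₁ φ₂ h
    obtain ⟨r₁, hr₁⟩ := Localization.exists_rightFraction T.Q T φ₁
    obtain ⟨r₂, hr₂⟩ := Localization.exists_rightFraction T.Q T φ₂
    obtain ⟨q, hq⟩ := MorphismProperty.LeftFraction.exists_rightFraction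
      (W := T) (MorphismProperty.LeftFraction.mk r₁.s r₂.s r₂.hs)
    change q.s ≫ r₁.s = q.f ≫ r₂.s at hq
    have := Localization.inverts T.Q T r₁.s r₁.hs
    have := Localization.inverts T.Q T q.s q.hs
    have hc : T.Q.map (q.s ≫ r₁.f) = T.Q.map (q.s ≫ r₁.s) ≫ φ₁ := by
      rw [hr₁, Functor.map_comp, Functor.map_comp, Category.assoc,
        MorphismProperty.RightFraction.map_s_comp_map]
    have hc₂ : T.Q.map (q.f ≫ r₂.f) = T.Q.map (q.f ≫ r₂.s) ≫ φ₂ := by
      rw [hr₂, Functor.map_comp, Functor.map_comp, Category.assoc,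
        MorphismProperty.RightFraction.map_s_comp_map]
    have key : Q.map (P.ι.map (q.s ≫ r₁.f)) = Q.map (P.ι.map (q.f ≫ r₂.f)) := by
      rw [← cancel_epi (e.hom.app q.X')]
      refine (e.hom.naturality (q.s ≫ r₁.f)).symm.trans (Eq.trans ?_ (e.hom.naturality (q.f ≫ r₂.f)))
      refine congrArg (· ≫ e.hom.app Y) ?_
      show G.map (T.Q.map (q.s ≫ r₁.f)) = G.map (T.Q.map (q.f ≫ r₂.f))
      rw [hc, hc₂, hq, Functor.map_comp, Functor.map_comp]
      exact (congrArg (G.map (T.Q.map q.f ≫ T.Q.map r₂.s) ≫ ·) h).trans (G.map_comp _ _).symm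
    obtain ⟨Z, t, ht, hteq⟩ := (MorphismProperty.map_eq_iff_precomp Q S _ _).1 key
    obtain ⟨Z', t', hZ', ht'⟩ := hP Z
    obtain ⟨τ, hτ⟩ : ∃ τ : (⟨Z', hZ'⟩ : P.FullSubcategory) ⟶ q.X', P.ι.map τ = t' ≫ t :=
      ⟨ObjectProperty.homMk (t' ≫ t), rfl⟩
    have hTτ : T τ := by rw [hmem, hτ]; exact S.comp_mem _ _ ht' ht
    have h5 : T.Q.map (q.s ≫ r₁.f) = T.Q.map (q.f ≫ r₂.f) := by
      rw [MorphismProperty.map_eq_iff_precomp T.Q T]
      refine ⟨_, τ, hTτ, P.ι.map_injective ?_⟩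
      rw [P.ι.map_comp τ (q.s ≫ r₁.f), P.ι.map_comp τ (q.f ≫ r₂.f), hτ, Category.assoc,
        Category.assoc, hteq]
    rw [hc, hc₂, ← hq] at h5
    have : IsIso (T.Q.map (q.s ≫ r₁.s)) := by rw [Functor.map_comp]; infer_instance
    exact (cancel_epi (T.Q.map (q.s ≫ r₁.s))).1 h5
  have : G.Full := ⟨fun {A B} ψ => by
    obtain ⟨φ, hφ⟩ := hfull (T.Q.objPreimage A) (T.Q.objPreimage B)
      (G.map (T.Q.objObjPreimageIso A).hom ≫ ψ ≫ G.map (T.Q.objObjPreimageIso B).inv)
    refine ⟨(T.Q.objObjPreimageIso A).inv ≫ φ ≫ (T.Q.objObjPreimageIso B).hom, ?_⟩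
    simp only [Functor.map_comp]
    rw [show G.map φ = _ from hφ]
    simp [← Functor.map_comp, ← Functor.map_comp_assoc]⟩
  have : G.Faithful := ⟨fun {A B} ψ₁ ψ₂ h => by
    rw [← cancel_epi (T.Q.objObjPreimageIso A).hom, ← cancel_mono (T.Q.objObjPreimageIso B).inv]
    apply hfaith
    simp only [Functor.map_comp, h]⟩
  have : G.IsEquivalence := {}
  exact Functor.IsLocalization.of_equivalence_target T.Q T (P.ι ⋙ Q) G.asEquivalence e

end Groth.Agent.S6613
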