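import Groth.Statements.S6614
import Groth.Agent.CommAlg4.EssConstTri
-- import your own Groth.Agent.* helpers here

set_option autoImplicit false
universe v u
open CategoryTheory CategoryTheory.Limits Opposite
open CohDer

namespace Groth.Agent.S6614

/-- Let D be a triangulated category and (A_n) an ℕ-indexed inverse system of D which is essentially
constant with value A relative to the cone c. Then there are an index i and direct sum
decompositions A_{i+j} ≅ A ⊞ Z_j (j ≥ 0) such that (a) c_{i+j} is the inclusion of the summand A and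
the transition maps A_{i+k} → A_{i+j} are 𝟙_A ⊕ (Z_k → Z_j), and (b) for every j there is k ≥ j with
Z_k → Z_j zero. (The published statement is an equivalence whose converse is given without proof;
this row states only the forward implication.) -/
theorem result {D : Type u} [Category.{v} D] [Preadditive D] [HasZeroObject D] [HasShift D ℤ]
    [∀ n : ℤ, (shiftFunctor D n).Additive] [Pretriangulated D] [IsTriangulated D]
    (X : ARSys.PS D) (A : D) (c : (Functor.const ℕᵒᵖ).obj A ⟶ X) (hX : DerCA.IsEssConstant X A c) :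
    ∃ (i : ℕ) (Z : ℕ → D) (e : ∀ j : ℕ, X.obj (op (i + j)) ≅ A ⊞ Z j) (z : ∀ j k : ℕ, j ≤ k → (Z k ⟶ Z j)),
      (∀ j : ℕ, c.app (op (i + j)) ≫ (e j).hom = biprod.inl) ∧
      (∀ (j k : ℕ) (hjk : j ≤ k), (e k).inv ≫ ARSys.tr X (Nat.add_le_add_left hjk i) = biprod.map (𝟙 A) (z j k hjk) ≫ (e j).inv) ∧
      (∀ j : ℕ, ∃ (k : ℕ) (hjk : j ≤ k), z j k hjk = 0) := by
  obtain ⟨i, s, hs, htr, hfac⟩ := CommAlg4.EssConstTri.exists_value c hX
  have key : ∀ {B : D} (f : A ⟶ B) (r : B ⟶ A), f ≫ r = 𝟙 A →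
      ∃ (Z : D) (e : B ≅ A ⊞ Z), f ≫ e.hom = biprod.inl ∧ e.hom ≫ biprod.fst = r := by
    intro B f r hfr
    obtain ⟨Z, g, h, hT⟩ := Pretriangulated.distinguished_cocone_triangle f
    have hmono : Mono f := mono_of_mono_fac hfr
    obtain ⟨e₀, he₀⟩ : ∃ e₀ : B ≅ A ⊞ Z, f ≫ e₀.hom = biprod.inl := by
      obtain ⟨e₀, he₀, -⟩ := Pretriangulated.exists_iso_binaryBiproduct_of_distTriang _ hT
        (Pretriangulated.Triangle.mor₃_eq_zero_of_mono₁ _ hT hmono)
      exact ⟨e₀, he₀⟩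
    have hi : (biprod.inl : A ⟶ A ⊞ Z) ≫ e₀.inv = f := by
      rw [Iso.comp_inv_eq]; exact he₀.symm
    obtain ⟨u, hu⟩ : ∃ u : A ⊞ Z ⟶ A, u = e₀.inv ≫ r := ⟨_, rfl⟩
    have hu1 : biprod.inl ≫ u = 𝟙 A := by rw [hu, ← Category.assoc, hi, hfr]
    refine ⟨Z, e₀ ≪≫ ⟨biprod.lift u biprod.snd,
      biprod.desc biprod.inl (biprod.inr - (biprod.inr ≫ u) ≫ biprod.inl), ?_, ?_⟩, ?_, ?_⟩
    · apply biprod.hom_ext' <;> apply biprod.hom_ext <;>
        simp [biprod.lift_desc, reassoc_of% hu1]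
    · apply biprod.hom_ext' <;> apply biprod.hom_ext <;> simp [hu1]
    · rw [Iso.trans_hom, ← Category.assoc, he₀]
      apply biprod.hom_ext <;> simp [hu1]
    · simp [hu]
  have hsplit : ∀ j : ℕ, ∃ (Z : D) (e : X.obj (op (i + j)) ≅ A ⊞ Z),
      (c.app (op (i + j)) : A ⟶ X.obj (op (i + j))) ≫ e.hom = biprod.inl ∧
      e.hom ≫ biprod.fst = s (i + j) (Nat.le_add_right _ _) :=
    fun j => key _ _ (hs (i + j) (Nat.le_add_right _ _))
  choose Z e he1 he2 using hsplit
  obtain ⟨z, hz⟩ : ∃ z : ∀ j k : ℕ, j ≤ k → (Z k ⟶ Z j), ∀ j k (hjk : j ≤ k),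
      z j k hjk = biprod.inr ≫ (e k).inv ≫ ARSys.tr X (Nat.add_le_add_left hjk i) ≫
        (e j).hom ≫ biprod.snd := ⟨_, fun _ _ _ => rfl⟩
  have hinl : ∀ j, (biprod.inl : A ⟶ A ⊞ Z j) ≫ (e j).inv =
      (c.app (op (i + j)) : A ⟶ X.obj (op (i + j))) := fun j => by
    rw [Iso.comp_inv_eq]; exact (he1 j).symm
  refine ⟨i, Z, e, z, he1, fun j k hjk => ?_, fun j => ?_⟩
  · rw [← cancel_mono (e j).hom]
    simp only [Category.assoc, Iso.inv_hom_id, Category.comp_id]
    apply biprod.hom_ext' <;> apply biprod.hom_ext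
    all_goals simp only [Category.assoc, biprod.inl_map_assoc, biprod.inr_map_assoc,
      biprod.inl_fst, biprod.inl_snd, biprod.inr_fst, biprod.inr_snd, Category.id_comp,
      comp_zero]
    · rw [he2 j, htr (i + j) (i + k) _ (Nat.add_le_add_left hjk i), ← Category.assoc, hinl k]
      exact hs _ _
    · rw [← Category.assoc, hinl k, ← Category.assoc, CommAlg4.EssConstTri.cone_tr c,
        ← Category.assoc, he1 j]
      exact biprod.inl_snd
    · rw [he2 j, htr (i + j) (i + k) _ (Nat.add_le_add_left hjk i), ← he2 k,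
        Iso.inv_hom_id_assoc]
      exact biprod.inr_fst
    · rw [hz, Category.comp_id]
  · obtain ⟨m₀, hm₀⟩ := hfac (i + j)
    obtain ⟨m, hm, hm2⟩ : ∃ m, m₀ ≤ i + m ∧ j ≤ m := ⟨m₀ + j, by omega, by omega⟩
    refine ⟨m, hm2, ?_⟩
    rw [hz, hm₀ (i + m) hm (by omega) _]
    simp only [Category.assoc]
    rw [← Category.assoc (c.app (op (i + j)) : A ⟶ X.obj (op (i + j))), he1 j]
    simp

end Groth.Agent.S6614
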