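import Groth.Statements.S6617
import Groth.Agent.DCat.HtpyFac

set_option autoImplicit false
set_option backward.isDefEq.respectTransparency false
set_option backward.defeqAttrib.useBackward true
universe v u
open CategoryTheory CategoryTheory.Limits
open CohDer

namespace Groth.Agent.S6617

/-- Let A be an additive category and A₀ → A₁ → A₂ → … a sequence of composable morphisms of complexes.
There are complexes Bᵢ, homotopy equivalences Bᵢ ⟶ Aᵢ and termwise split injections Bᵢ ⟶ Bᵢ₊₁
forming a commutative ladder over the given sequence. Moreover if all Aᵢ are bounded below, resp.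
bounded above, then the Bᵢ may be chosen bounded below, resp. bounded above. (The published
statement is for finite sequences A₁ → … → A_n; this row takes a sequence indexed by ℕ, built by the
same step-by-step construction.) -/
theorem result {V : Type u} [Category.{v} V] [Preadditive V] [HasBinaryBiproducts V] [HasZeroObject V]
    (X : ℕ → CochainComplex V ℤ) (a : ∀ i, X i ⟶ X (i + 1)) :
    ∃ (B : ℕ → CochainComplex V ℤ) (b : ∀ i, B i ⟶ B (i + 1)) (e : ∀ i, HomotopyEquiv (B i) (X i)),
      (∀ i, b i ≫ (e (i + 1)).hom = (e i).hom ≫ a i) ∧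
      (∀ (i : ℕ) (n : ℤ), ∃ (C : V) (ε : (B (i + 1)).X n ≅ (B i).X n ⊞ C), (b i).f n ≫ ε.hom = biprod.inl) ∧
      ((∀ i, ∃ m : ℤ, (X i).IsStrictlyGE m) → ∀ i, ∃ m : ℤ, (B i).IsStrictlyGE m) ∧
      ((∀ i, ∃ m : ℤ, (X i).IsStrictlyLE m) → ∀ i, ∃ m : ℤ, (B i).IsStrictlyLE m) := by
  open Groth.Agent.DCat.HtpyFac in
  choose F α' π s h1 h2 h3 h4 h5 h6 using fun (K L : CochainComplex V ℤ) (f : K ⟶ L) => exists_factor K L f
  let st : ∀ i, Σ B : CochainComplex V ℤ, HomotopyEquiv B (X i) := fun i =>
    Nat.rec (motive := fun i => Σ B : CochainComplex V ℤ, HomotopyEquiv B (X i))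
      ⟨X 0, HomotopyEquiv.refl _⟩
      (fun j p => ⟨F p.1 (X (j + 1)) (p.2.hom ≫ a j),
        { hom := π _ _ _, inv := s _ _ _
          homotopyHomInvId := (h3 _ _ _).some
          homotopyInvHomId := Homotopy.ofEq (h2 _ _ _) }⟩) i
  refine ⟨fun i => (st i).1, fun i => α' _ _ _, fun i => (st i).2, fun i => h1 _ _ _,
    fun i n => h4 _ _ _ n, fun hX i => ?_, fun hX i => ?_⟩
  · induction i with
    | zero => exact hX 0
    | succ i ih =>
      obtain ⟨m, hm⟩ := ih
      obtain ⟨m', hm'⟩ := hX (i + 1)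
      haveI := hm; haveI := hm'
      exact ⟨_, h5 _ _ _ (min m m') ((st i).1.isStrictlyGE_of_ge (min m m') m (min_le_left _ _))
        ((X (i + 1)).isStrictlyGE_of_ge (min m m') m' (min_le_right _ _))⟩
  · induction i with
    | zero => exact hX 0
    | succ i ih =>
      obtain ⟨m, hm⟩ := ih
      obtain ⟨m', hm'⟩ := hX (i + 1)
      haveI := hm; haveI := hm'
      exact ⟨_, h6 _ _ _ (max m m') ((st i).1.isStrictlyLE_of_le m (max m m') (le_max_left _ _))
        ((X (i + 1)).isStrictlyLE_of_le m' (max m m') (le_max_right _ _))⟩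


end Groth.Agent.S6617
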