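import Groth.Statements.S6618
import Mathlib.Algebra.Homology.ShortComplex.ExactFunctor
import Mathlib.CategoryTheory.Abelian.Refinements

set_option autoImplicit false
set_option backward.isDefEq.respectTransparency false
set_option backward.defeqAttrib.useBackward true
universe v v' u u'
open CategoryTheory CategoryTheory.Limits
open CohDer

namespace Groth.Agent.S6618

open CategoryTheory CategoryTheory.Limits

variable {A : Type u} [Category.{v} A] [Abelian A] [EnoughInjectives A]
  {B : Type u'} [Category.{v'} B] [Abelian B] (F : A ⥤ B) [F.Additive]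

/-- `R⁰F X ⟶ F(I⁰)`. -/
noncomputable def toZero {X : A} (I : InjectiveResolution X) :
    (F.rightDerived 0).obj X ⟶ F.obj (I.cocomplex.X 0) :=
  (I.isoRightDerivedObj F 0).hom ≫ (CochainComplex.isoHomologyπ₀ _).inv ≫
    ((F.mapHomologicalComplex _).obj I.cocomplex).iCycles 0

instance {X : A} (I : InjectiveResolution X) : Mono (toZero F I) := by
  unfold toZero; infer_instance

lemma toZero_d {X : A} (I : InjectiveResolution X) : toZero F I ≫ F.map (I.cocomplex.d 0 1) = 0 := by
  have h : ((F.mapHomologicalComplex _).obj I.cocomplex).iCycles 0 ≫ F.map (I.cocomplex.d 0 1) = 0 :=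
    ((F.mapHomologicalComplex _).obj I.cocomplex).iCycles_d 0 1
  simp [toZero, h]

lemma exists_lift_toZero {X : A} (I : InjectiveResolution X) {T : B} (x : T ⟶ F.obj (I.cocomplex.X 0))
    (hx : x ≫ F.map (I.cocomplex.d 0 1) = 0) : ∃ y, y ≫ toZero F I = x := by
  refine ⟨((F.mapHomologicalComplex _).obj I.cocomplex).liftCycles x 1 (by simp) hx ≫
    (CochainComplex.isoHomologyπ₀ _).hom ≫ (I.isoRightDerivedObj F 0).inv, ?_⟩
  simp only [toZero, Category.assoc, Iso.inv_hom_id_assoc, Iso.hom_inv_id_assoc]
  exact ((F.mapHomologicalComplex _).obj I.cocomplex).liftCycles_i x 1 _ _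

lemma toZero_nat {X Y : A} (f : X ⟶ Y) (I : InjectiveResolution X) (J : InjectiveResolution Y)
    (φ : I.cocomplex ⟶ J.cocomplex) (comm : I.ι.f 0 ≫ φ.f 0 = f ≫ J.ι.f 0) :
    (F.rightDerived 0).map f ≫ toZero F J = toZero F I ≫ F.map (φ.f 0) := by
  simp only [toZero, Category.assoc]
  rw [InjectiveResolution.isoRightDerivedObj_hom_naturality_assoc f I J φ comm]
  dsimp
  rw [CochainComplex.isoHomologyπ₀_inv_naturality_assoc, HomologicalComplex.cyclesMap_i]
  rfl

/-- a map into an injective killing the image of `ι` factors through `d 0 1` -/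
lemma exists_factor {X : A} (I : InjectiveResolution X) {E : A} [Injective E]
    (h : I.cocomplex.X 0 ⟶ E) (hh : I.ι.f 0 ≫ h = 0) : ∃ t, I.cocomplex.d 0 1 ≫ t = h := by
  have hex : (ShortComplex.mk (I.ι.f 0) (I.cocomplex.d 0 1) I.ι_f_zero_comp_complex_d).Exact :=
    ShortComplex.exact_of_f_is_kernel _ I.isLimitKernelFork
  haveI : Injective (ShortComplex.mk (I.ι.f 0) (I.cocomplex.d 0 1) I.ι_f_zero_comp_complex_d).X₂ :=
    I.injective 0
  refine ⟨hex.descToInjective h hh, hex.comp_descToInjective h hh⟩

/-- Part (2): (3), in the case where A has enough injectives: let F : A ⥤ B be an additive functor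
between abelian categories, A with enough injectives. Then R⁰F is left exact; moreover, F itself is
left exact exactly when the canonical comparison morphism from F to R⁰F is invertible. -/
theorem result {A : Type u} [Category.{v} A] [Abelian A] [EnoughInjectives A]
    {B : Type u'} [Category.{v'} B] [Abelian B] (F : A ⥤ B) [F.Additive] :
    PreservesFiniteLimits (F.rightDerived 0) ∧ (IsIso F.toRightDerivedZero ↔ PreservesFiniteLimits F) := by
  haveI hadd : (F.rightDerived 0).Additive := ⟨fun {X Y f g} => by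
    let I := injectiveResolution X
    let J := injectiveResolution Y
    let φ := InjectiveResolution.desc f J I
    let ψ := InjectiveResolution.desc g J I
    rw [← cancel_mono (toZero F J), Preadditive.add_comp, toZero_nat F f I J φ (by simp [φ]),
      toZero_nat F g I J ψ (by simp [ψ]), toZero_nat F (f + g) I J (φ + ψ) (by simp [φ, ψ]),
      HomologicalComplex.add_f_apply, F.map_add, Preadditive.comp_add]⟩
  have h0 : PreservesFiniteLimits (F.rightDerived 0) := by
    refine ((Functor.preservesFiniteLimits_tfae (F.rightDerived 0)).out 0 3).1 fun S hS => ?_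
    let I := injectiveResolution S.X₁
    let J := injectiveResolution S.X₂
    let K := injectiveResolution S.X₃
    haveI := hS.mono_f
    let φ := InjectiveResolution.desc S.f J I
    have hφ : I.ι.f 0 ≫ φ.f 0 = S.f ≫ J.ι.f 0 := by simp [φ]
    let ψ := InjectiveResolution.desc S.g K J
    have hψ : J.ι.f 0 ≫ ψ.f 0 = S.g ≫ K.ι.f 0 := by simp [ψ]
    haveI : Injective (I.cocomplex.X 0) := I.injective 0
    haveI : Injective (I.cocomplex.X 1) := I.injective 1
    haveI : Injective (J.cocomplex.X 0) := J.injective 0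
    let r : J.cocomplex.X 0 ⟶ I.cocomplex.X 0 := Injective.factorThru (I.ι.f 0) (S.f ≫ J.ι.f 0)
    have hr : (S.f ≫ J.ι.f 0) ≫ r = I.ι.f 0 := Injective.comp_factorThru _ _
    have hm : Mono ((F.rightDerived 0).map S.f) := by
      rw [Preadditive.mono_iff_cancel_zero]
      intro T x hx
      obtain ⟨t, ht⟩ := exists_factor I (φ.f 0 ≫ r - 𝟙 _) (by
        rw [Preadditive.comp_sub, ← Category.assoc, hφ, hr, Category.comp_id, sub_self])
      have e : x ≫ toZero F I ≫ F.map (φ.f 0) = 0 := by
        rw [← toZero_nat F S.f I J φ hφ, reassoc_of% hx, zero_comp]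
      have e' : x ≫ toZero F I ≫ F.map (φ.f 0 ≫ r - 𝟙 _) = 0 := by
        rw [← ht, F.map_comp, reassoc_of% (toZero_d F I), zero_comp, comp_zero]
      rw [F.map_sub, F.map_comp, F.map_id, Preadditive.comp_sub, Preadditive.comp_sub,
        reassoc_of% e, zero_comp, zero_sub, neg_eq_zero, Category.comp_id] at e'
      exact (cancel_mono (toZero F I)).1 (e'.trans zero_comp.symm)
    refine ⟨?_, hm⟩
    rw [ShortComplex.exact_iff_exact_up_to_refinements]
    intro T y hy
    dsimp at y hy ⊢
    have hy0 : y ≫ toZero F J ≫ F.map (ψ.f 0) = 0 := by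
      rw [← toZero_nat F S.g J K ψ hψ, reassoc_of% hy, zero_comp]
    -- factorisation of maps out of `S.X₂` killing `S.X₁`
    have fac : ∀ {E : A} [Injective E] (h : J.cocomplex.X 0 ⟶ E), S.f ≫ J.ι.f 0 ≫ h = 0 →
        ∃ (w : K.cocomplex.X 0 ⟶ E) (u : J.cocomplex.X 1 ⟶ E), h = ψ.f 0 ≫ w + J.cocomplex.d 0 1 ≫ u := by
      intro E _ h hh
      haveI := hS.epi_g
      let c := hS.exact.desc (J.ι.f 0 ≫ h) hh
      let w := Injective.factorThru c (K.ι.f 0)
      have hw : K.ι.f 0 ≫ w = c := Injective.comp_factorThru _ _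
      have hc : S.g ≫ c = J.ι.f 0 ≫ h := hS.exact.g_desc _ _
      obtain ⟨u, hu⟩ := exists_factor J (h - ψ.f 0 ≫ w) (by
        rw [Preadditive.comp_sub, reassoc_of% hψ, hw, hc, sub_self])
      exact ⟨w, u, by rw [hu]; abel⟩
    obtain ⟨w₁, u₁, h₁⟩ := fac (r ≫ I.cocomplex.d 0 1) (by
      rw [← Category.assoc, ← Category.assoc, hr, I.ι_f_zero_comp_complex_d])
    have hyr : (y ≫ toZero F J ≫ F.map r) ≫ F.map (I.cocomplex.d 0 1) = 0 := by
      rw [Category.assoc, Category.assoc, ← F.map_comp, h₁, F.map_add, F.map_comp, F.map_comp,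
        Preadditive.comp_add, Preadditive.comp_add, reassoc_of% hy0, zero_comp, zero_add,
        reassoc_of% (toZero_d F J), zero_comp, comp_zero]
    obtain ⟨x, hx⟩ := exists_lift_toZero F I _ hyr
    obtain ⟨w₂, u₂, h₂⟩ := fac (r ≫ φ.f 0 - 𝟙 _) (by
      rw [Preadditive.comp_sub, Preadditive.comp_sub, ← Category.assoc (J.ι.f 0), ← Category.assoc S.f,
        ← Category.assoc S.f, hr, hφ, Category.comp_id, sub_self])
    refine ⟨T, 𝟙 T, inferInstance, x, ?_⟩
    rw [Category.id_comp, ← cancel_mono (toZero F J), Category.assoc, toZero_nat F S.f I J φ hφ,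
      reassoc_of% hx, ← F.map_comp, ← sub_eq_zero]
    have h3 : y ≫ toZero F J ≫ F.map (r ≫ φ.f 0 - 𝟙 _) = 0 := by
      rw [h₂, F.map_add, F.map_comp, F.map_comp, Preadditive.comp_add, Preadditive.comp_add,
        reassoc_of% hy0, zero_comp, zero_add, reassoc_of% (toZero_d F J), zero_comp, comp_zero]
    rw [F.map_sub, F.map_id, Preadditive.comp_sub, Preadditive.comp_sub, Category.comp_id, sub_eq_zero] at h3
    rw [sub_eq_zero]
    first | exact h3 | exact h3.symm
  refine ⟨h0, fun h => ?_, fun h => ?_⟩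
  · haveI := h
    exact preservesFiniteLimits_of_natIso (asIso F.toRightDerivedZero).symm
  · infer_instance


end Groth.Agent.S6618
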