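import Groth.Statements.S6619
import Groth.Agent.SpecSeq.RightDerivedPlus
import Mathlib.Algebra.Homology.ShortComplex.ExactFunctor

set_option autoImplicit false
set_option backward.isDefEq.respectTransparency false
set_option backward.defeqAttrib.useBackward true
universe v v' u u'
open CategoryTheory CategoryTheory.Limits
open CohDer

namespace Groth.Agent.S6619

open CategoryTheory CategoryTheory.Limits CategoryTheory.Pretriangulated Groth.Agent.SpecSeq

section
variable {A : Type u} [Category.{v} A] [Abelian A] [EnoughInjectives A]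
  {B : Type u'} [Category.{v'} B] [Abelian B] (F : A ⥤ B) [F.Additive]

lemma exists_triangle [HasDerivedCategory.{max u v} A] {S : ShortComplex A} (hS : S.ShortExact) :
    ∃ δ, Triangle.mk ((DerivedCategory.Plus.singleFunctor A 0).map S.f)
      ((DerivedCategory.Plus.singleFunctor A 0).map S.g) δ ∈ distTriang (DerivedCategory.Plus A) := by
  let s := DerivedCategory.Plus.singleFunctor A 0
  let ι := DerivedCategory.Plus.ι (C := A)
  let δ : s.obj S.X₃ ⟶ (s.obj S.X₁)⟦(1 : ℤ)⟧ :=
    ι.preimage (hS.singleδ ≫ (ι.commShiftIso (1 : ℤ)).inv.app (s.obj S.X₁))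
  refine ⟨δ, ?_⟩
  show Triangle.mk (s.map S.f) (s.map S.g) δ ∈ distTriang (DerivedCategory.Plus A)
  rw [← ι.map_distinguished_iff]
  refine isomorphic_distinguished _ hS.singleTriangle_distinguished _
    (Triangle.isoMk _ _ (Iso.refl _) (Iso.refl _) (Iso.refl _) ?_ ?_ ?_)
  · exact (Category.comp_id _).trans (Category.id_comp _).symm
  · exact (Category.comp_id _).trans (Category.id_comp _).symm
  · dsimp [δ]
    simp [ι.commShiftIso (1 : ℤ) |>.inv_hom_id_app]
    exact Category.comp_id _

lemma isZero_mid {S : ShortComplex A} (hS : S.ShortExact) (p : ℕ)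
    (h₁ : IsZero ((F.rightDerived p).obj S.X₁)) (h₃ : IsZero ((F.rightDerived p).obj S.X₃)) :
    IsZero ((F.rightDerived p).obj S.X₂) := by
  letI := HasDerivedCategory.standard A
  letI := HasDerivedCategory.standard B
  obtain ⟨δ, hT⟩ := exists_triangle hS
  obtain ⟨e₁⟩ := nonempty_rdSingle_iso F S.X₁ p
  obtain ⟨e₂⟩ := nonempty_rdSingle_iso F S.X₂ p
  obtain ⟨e₃⟩ := nonempty_rdSingle_iso F S.X₃ p
  refine IsZero.of_iso ?_ e₂.symm
  exact ((rdH F).homologySequence_exact₂ _ hT p).isZero_X₂
    ((h₁.of_iso e₁).eq_of_src _ _) ((h₃.of_iso e₃).eq_of_tgt _ _)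

lemma isZero_first {S : ShortComplex A} (hS : S.ShortExact) (p : ℕ)
    (h₂ : IsZero ((F.rightDerived (p + 1)).obj S.X₂)) (h₃ : IsZero ((F.rightDerived p).obj S.X₃)) :
    IsZero ((F.rightDerived (p + 1)).obj S.X₁) := by
  letI := HasDerivedCategory.standard A
  letI := HasDerivedCategory.standard B
  obtain ⟨δ, hT⟩ := exists_triangle hS
  obtain ⟨e₁⟩ := nonempty_rdSingle_iso F S.X₁ (p + 1)
  obtain ⟨e₂⟩ := nonempty_rdSingle_iso F S.X₂ (p + 1)
  obtain ⟨e₃⟩ := nonempty_rdSingle_iso F S.X₃ p
  refine IsZero.of_iso ?_ e₁.symm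
  exact ((rdH F).homologySequence_exact₁ _ hT (p : ℤ) ((p + 1 : ℕ) : ℤ) (by push_cast; rfl)).isZero_X₂
    ((h₃.of_iso e₃).eq_of_src _ _) ((h₂.of_iso e₂).eq_of_tgt _ _)

variable [PreservesFiniteLimits F]

lemma epi_g {S : ShortComplex A} (hS : S.ShortExact) (h : IsZero ((F.rightDerived 1).obj S.X₁)) :
    Epi (F.map S.g) := by
  letI := HasDerivedCategory.standard A
  letI := HasDerivedCategory.standard B
  exact epi_map_of_isZero_rightDerived_one (F := F) hS h

lemma shortExact_map {S : ShortComplex A} (hS : S.ShortExact) (h : Epi (F.map S.g)) :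
    (S.map F).ShortExact := by
  have hh : PreservesFiniteLimits F → _ := ((Functor.preservesFiniteLimits_tfae F).out 3 0).1
  obtain ⟨h1, h2⟩ := hh inferInstance S hS
  exact { exact := h1, mono_f := h2, epi_g := h }

lemma isZero_one {S : ShortComplex A} (hS : S.ShortExact) (h₂ : IsZero ((F.rightDerived 1).obj S.X₂))
    (hg : Epi (F.map S.g)) : IsZero ((F.rightDerived 1).obj S.X₁) := by
  let R := injectiveResolution S.X₁
  haveI := hS.mono_f
  haveI := hS.epi_g
  haveI : Injective (R.cocomplex.X 0) := R.injective 0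
  let d := R.cocomplex.d 1 2
  let q : R.cocomplex.X 0 ⟶ kernel d := kernel.lift d (R.cocomplex.d 0 1) (R.cocomplex.d_comp_d 0 1 2)
  let i := R.ι.f 0
  have hiq : i ≫ q = 0 := by
    rw [← cancel_mono (kernel.ι d), Category.assoc, kernel.lift_ι, zero_comp]
    exact R.ι_f_zero_comp_complex_d
  haveI hq : Epi q := (ShortComplex.exact_iff_epi_kernel_lift _).1 (R.exact_succ 0)
  let α := Injective.factorThru i S.f
  have hα : S.f ≫ α = i := Injective.comp_factorThru _ _
  let β := hS.exact.desc (α ≫ q) (by rw [← Category.assoc, hα, hiq])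
  have hβ : S.g ≫ β = α ≫ q := hS.exact.g_desc _ _
  have w : biprod.lift α S.g ≫ biprod.desc q (-β) = 0 := by
    simp [hβ]
  have hex : (ShortComplex.mk i (R.cocomplex.d 0 1) R.ι_f_zero_comp_complex_d).Exact :=
    ShortComplex.exact_of_f_is_kernel _ R.isLimitKernelFork
  have hT : (ShortComplex.mk (biprod.lift α S.g) (biprod.desc q (-β)) w).ShortExact := by
    refine { exact := ?_, mono_f := ?_, epi_g := ?_ }
    · rw [ShortComplex.exact_iff_exact_up_to_refinements]
      intro T m hm
      dsimp at m hm ⊢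
      obtain ⟨T', π, hπ, c, hc⟩ := surjective_up_to_refinements_of_epi S.g (m ≫ biprod.snd)
      have h0 : m ≫ biprod.fst ≫ q = m ≫ biprod.snd ≫ β := by
        rw [← sub_eq_zero, ← hm, biprod.desc_eq]
        simp [sub_eq_add_neg]
      have hz : (π ≫ m ≫ biprod.fst - c ≫ α) ≫ R.cocomplex.d 0 1 = 0 := by
        have : (π ≫ m ≫ biprod.fst - c ≫ α) ≫ q = 0 := by
          rw [Preadditive.sub_comp, Category.assoc, Category.assoc, Category.assoc, h0, ← hβ,
            reassoc_of% hc, sub_self]
        rw [← kernel.lift_ι d (R.cocomplex.d 0 1) (R.cocomplex.d_comp_d 0 1 2), ← Category.assoc]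
        exact (congrArg (· ≫ kernel.ι d) this).trans zero_comp
      refine ⟨T', π, hπ, c + hex.lift _ hz ≫ S.f, ?_⟩
      have hl := hex.lift_f _ hz
      dsimp at hl
      apply biprod.hom_ext
      · simp [Preadditive.add_comp, hα, hl]
      · simp [Preadditive.add_comp, hc]
    · rw [Preadditive.mono_iff_cancel_zero]
      intro T m hm
      dsimp at m hm
      have h1 : m ≫ α = 0 := by simpa using congrArg (fun t => t ≫ biprod.fst) hm
      have h2 : m ≫ S.g = 0 := by simpa using congrArg (fun t => t ≫ biprod.snd) hm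
      have h3 : hS.exact.lift m h2 ≫ i = 0 := by
        rw [← hα, ← Category.assoc, hS.exact.lift_f, h1]
      haveI : Mono i := inferInstanceAs (Mono (R.ι.f 0))
      rw [← hS.exact.lift_f m h2, Limits.zero_of_comp_mono i h3, zero_comp]
    · have : biprod.inl ≫ biprod.desc q (-β) = q := biprod.inl_desc _ _
      exact epi_of_epi_fac this
  haveI hepi : Epi (F.map (biprod.desc q (-β))) := epi_g F hT h₂
  haveI : Epi (F.map q) := by
    rw [Preadditive.epi_iff_cancel_zero]
    intro T π hπ
    haveI := hg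
    have hb : F.map β ≫ π = 0 := by
      rw [← cancel_epi (F.map S.g), ← Category.assoc, ← F.map_comp, hβ, F.map_comp, Category.assoc,
        hπ, comp_zero, comp_zero]
    rw [← cancel_epi (F.map (biprod.desc q (-β))), comp_zero, biprod.desc_eq, F.map_add, F.map_comp,
      F.map_comp, F.map_neg, Preadditive.add_comp, Category.assoc, Category.assoc, hπ,
      Preadditive.neg_comp, hb]
    simp
  refine IsZero.of_iso ?_ (R.isoRightDerivedObj F 1)
  rw [HomologicalComplex.homologyFunctor_obj, ← HomologicalComplex.exactAt_iff_isZero_homology,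
    HomologicalComplex.exactAt_iff' _ 0 1 2 (by simp) (by simp),
    ShortComplex.exact_iff_exact_up_to_refinements]
  intro T x hx
  dsimp at x hx ⊢
  obtain ⟨y, hy⟩ := KernelFork.IsLimit.lift' (KernelFork.mapIsLimit _ (kernelIsKernel d) F) x hx
  obtain ⟨T', π, hπ, z, hz⟩ := surjective_up_to_refinements_of_epi (F.map q) y
  refine ⟨T', π, hπ, z, ?_⟩
  have hy' : y ≫ F.map (kernel.ι d) = x := hy
  rw [← hy', reassoc_of% hz, ← F.map_comp, kernel.lift_ι]

end

/-- In the case where A has enough injectives (an object X is right acyclic for the left exact functor F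
when RⁱF(X) = 0 for all i > 0): suppose A and B are abelian categories, A has enough injectives, F :
A ⥤ B is left exact, and 0 → X₁ → X₂ → X₃ → 0 is a short exact sequence of A. (1) If X₁, X₃ are
right acyclic so is X₂; (2) if X₁, X₂ are right acyclic so is X₃; (3) if X₂, X₃ are right acyclic
and F(X₂) ⟶ F(X₃) is surjective then X₁ is right acyclic. In each of the three cases 0 → F(X₁) →
F(X₂) → F(X₃) → 0 is short exact. -/
theorem result {A : Type u} [Category.{v} A] [Abelian A] [EnoughInjectives A]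
    {B : Type u'} [Category.{v'} B] [Abelian B] (F : A ⥤ B) [F.Additive] [PreservesFiniteLimits F]
    (S : ShortComplex A) (hS : S.ShortExact) :
    ((∀ i : ℕ, 0 < i → IsZero ((F.rightDerived i).obj S.X₁)) → (∀ i : ℕ, 0 < i → IsZero ((F.rightDerived i).obj S.X₃)) →
      (∀ i : ℕ, 0 < i → IsZero ((F.rightDerived i).obj S.X₂)) ∧ (S.map F).ShortExact) ∧
    ((∀ i : ℕ, 0 < i → IsZero ((F.rightDerived i).obj S.X₁)) → (∀ i : ℕ, 0 < i → IsZero ((F.rightDerived i).obj S.X₂)) →
      (∀ i : ℕ, 0 < i → IsZero ((F.rightDerived i).obj S.X₃)) ∧ (S.map F).ShortExact) ∧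
    ((∀ i : ℕ, 0 < i → IsZero ((F.rightDerived i).obj S.X₂)) → (∀ i : ℕ, 0 < i → IsZero ((F.rightDerived i).obj S.X₃)) →
      Epi (F.map S.g) → (∀ i : ℕ, 0 < i → IsZero ((F.rightDerived i).obj S.X₁)) ∧ (S.map F).ShortExact) := by
  refine ⟨fun h₁ h₃ => ?_, fun h₁ h₂ => ?_, fun h₂ h₃ hg => ?_⟩
  · exact ⟨fun i hi => isZero_mid F hS i (h₁ i hi) (h₃ i hi),
      shortExact_map F hS (epi_g F hS (h₁ 1 one_pos))⟩
  · refine ⟨?_, shortExact_map F hS (epi_g F hS (h₁ 1 one_pos))⟩
    letI := HasDerivedCategory.standard A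
    letI := HasDerivedCategory.standard B
    exact (rAcyclic_iff F S.X₃).1
      (rAcyclic_X₃ hS ((rAcyclic_iff F S.X₁).2 h₁) ((rAcyclic_iff F S.X₂).2 h₂))
  · refine ⟨fun i hi => ?_, shortExact_map F hS hg⟩
    obtain ⟨j, rfl⟩ : ∃ j, i = j + 1 := ⟨i - 1, by omega⟩
    rcases j with _ | k
    · exact isZero_one F hS (h₂ 1 one_pos) hg
    · exact isZero_first F hS (k + 1) (h₂ _ hi) (h₃ _ (by omega))


end Groth.Agent.S6619
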