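import Groth.Statements.S6622
import Mathlib.Algebra.Homology.HomotopyCategory.Triangulated

set_option autoImplicit false
set_option backward.isDefEq.respectTransparency false
set_option backward.defeqAttrib.useBackward true
universe v u
open CategoryTheory CategoryTheory.Limits
open CohDer

namespace Groth.Agent.S6622

open CategoryTheory CategoryTheory.Limits CategoryTheory.Pretriangulated in
lemma exists_cone {V : Type u} [Category.{v} V] [Preadditive V] [HasZeroObject V] [HasBinaryBiproducts V]
    (T : Triangle (HomotopyCategory V (ComplexShape.up ℤ))) (hT : T ∈ distTriang _) :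
    ∃ (f : (T.obj₃.as)⟦(-1 : ℤ)⟧ ⟶ T.obj₁.as),
      Nonempty (T.obj₂ ≅ (HomotopyCategory.quotient V (ComplexShape.up ℤ)).obj (CochainComplex.mappingCone f)) := by
  let q := HomotopyCategory.quotient V (ComplexShape.up ℤ)
  let e : q.obj ((T.obj₃.as)⟦(-1 : ℤ)⟧) ≅ T.obj₃⟦(-1 : ℤ)⟧ := (q.commShiftIso (-1 : ℤ)).app T.obj₃.as
  obtain ⟨f, hf⟩ := q.map_surjective (X := (T.obj₃.as)⟦(-1 : ℤ)⟧) (Y := T.obj₁.as) (e.hom ≫ T.invRotate.mor₁)
  refine ⟨f, ⟨?_⟩⟩
  exact Triangle.π₃.mapIso (isoTriangleOfIso₁₂ T.invRotate (CochainComplex.mappingCone.triangleh f)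
    (inv_rot_of_distTriang _ hT) (HomotopyCategory.mappingCone_triangleh_distinguished f)
    e.symm (Iso.refl _) (by dsimp; rw [Category.comp_id, hf]; simp))

/-- Let A be an additive category. The full subcategories K⁻(A) (complexes K with Kⁿ = 0 for n ≫ 0) and
Kᵇ(A) (Kⁿ = 0 for |n| ≫ 0) of the homotopy category K(A) are full triangulated subcategories. -/
theorem result {V : Type u} [Category.{v} V] [Preadditive V] [HasZeroObject V] [HasBinaryBiproducts V] :
    (ObjectProperty.IsTriangulated (fun K : HomotopyCategory V (ComplexShape.up ℤ) => ∃ n : ℤ, CochainComplex.IsStrictlyLE K.as n)) ∧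
    (ObjectProperty.IsTriangulated (fun K : HomotopyCategory V (ComplexShape.up ℤ) =>
      ∃ a b : ℤ, CochainComplex.IsStrictlyGE K.as a ∧ CochainComplex.IsStrictlyLE K.as b)) := by
  have shiftIso : ∀ (K : HomotopyCategory V (ComplexShape.up ℤ)) (m : ℤ),
      (HomotopyCategory.quotient V (ComplexShape.up ℤ)).obj (K.as⟦m⟧) ≅ K⟦m⟧ := fun K m =>
    ((HomotopyCategory.quotient V (ComplexShape.up ℤ)).commShiftIso m).app K.as
  constructor
  · refine { exists_zero := ⟨(HomotopyCategory.quotient _ _).obj (HomologicalComplex.zero), ?_, 0, ?_⟩,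
             isStableUnderShiftBy := fun m => ⟨fun K ⟨n, hn⟩ => ?_⟩, ext₂' := ?_ }
    · exact Functor.map_isZero _ HomologicalComplex.isZero_zero
    · show CochainComplex.IsStrictlyLE (HomologicalComplex.zero : CochainComplex V ℤ) 0
      rw [CochainComplex.isStrictlyLE_iff]
      exact fun i _ => Functor.map_isZero (HomologicalComplex.eval V (ComplexShape.up ℤ) i) HomologicalComplex.isZero_zero
    · haveI := hn
      rw [ObjectProperty.prop_shift_iff,
        show K⟦m⟧ = (HomotopyCategory.quotient _ _).obj (K.as⟦m⟧) from HomotopyCategory.shift_quotient_obj K.as m]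
      exact ⟨n - m, CochainComplex.isStrictlyLE_shift K.as n m (n - m) (by omega)⟩
    · rintro T hT ⟨m, hm⟩ ⟨m', hm'⟩
      obtain ⟨f, ⟨e⟩⟩ := exists_cone T hT
      haveI := hm; haveI := hm'
      refine ⟨_, ⟨max m (m' + 1), ?_⟩, ⟨e⟩⟩
      show CochainComplex.IsStrictlyLE (CochainComplex.mappingCone f) _
      rw [CochainComplex.isStrictlyLE_iff]
      intro i hi
      rw [CochainComplex.mappingCone.isZero_X_iff]
      exact ⟨CochainComplex.isZero_of_isStrictlyLE T.obj₃.as m' _ (show m' < i + 1 + (-1) by omega), CochainComplex.isZero_of_isStrictlyLE T.obj₁.as m _ (by omega)⟩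
  · refine { exists_zero := ⟨(HomotopyCategory.quotient _ _).obj (HomologicalComplex.zero), ?_, 0, 0, ?_, ?_⟩,
             isStableUnderShiftBy := fun m => ⟨fun K ⟨a, b, ha, hb⟩ => ?_⟩, ext₂' := ?_ }
    · exact Functor.map_isZero _ HomologicalComplex.isZero_zero
    · show CochainComplex.IsStrictlyGE (HomologicalComplex.zero : CochainComplex V ℤ) 0
      rw [CochainComplex.isStrictlyGE_iff]
      exact fun i _ => Functor.map_isZero (HomologicalComplex.eval V (ComplexShape.up ℤ) i) HomologicalComplex.isZero_zero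
    · show CochainComplex.IsStrictlyLE (HomologicalComplex.zero : CochainComplex V ℤ) 0
      rw [CochainComplex.isStrictlyLE_iff]
      exact fun i _ => Functor.map_isZero (HomologicalComplex.eval V (ComplexShape.up ℤ) i) HomologicalComplex.isZero_zero
    · haveI := ha; haveI := hb
      rw [ObjectProperty.prop_shift_iff,
        show K⟦m⟧ = (HomotopyCategory.quotient _ _).obj (K.as⟦m⟧) from HomotopyCategory.shift_quotient_obj K.as m]
      exact ⟨a - m, b - m, CochainComplex.isStrictlyGE_shift K.as a m (a - m) (by omega),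
        CochainComplex.isStrictlyLE_shift K.as b m (b - m) (by omega)⟩
    · rintro T hT ⟨a, b, ha, hb⟩ ⟨a', b', ha', hb'⟩
      obtain ⟨f, ⟨e⟩⟩ := exists_cone T hT
      haveI := ha; haveI := hb; haveI := ha'; haveI := hb'
      refine ⟨_, ⟨min a a', max b (b' + 1), ?_, ?_⟩, ⟨e⟩⟩
      · show CochainComplex.IsStrictlyGE (CochainComplex.mappingCone f) _
        rw [CochainComplex.isStrictlyGE_iff]
        intro i hi
        rw [CochainComplex.mappingCone.isZero_X_iff]
        exact ⟨CochainComplex.isZero_of_isStrictlyGE T.obj₃.as a' _ (show i + 1 + (-1) < a' by omega), CochainComplex.isZero_of_isStrictlyGE T.obj₁.as a _ (by omega)⟩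
      · show CochainComplex.IsStrictlyLE (CochainComplex.mappingCone f) _
        rw [CochainComplex.isStrictlyLE_iff]
        intro i hi
        rw [CochainComplex.mappingCone.isZero_X_iff]
        exact ⟨CochainComplex.isZero_of_isStrictlyLE T.obj₃.as b' _ (show b' < i + 1 + (-1) by omega), CochainComplex.isZero_of_isStrictlyLE T.obj₁.as b _ (by omega)⟩


end Groth.Agent.S6622
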