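import Groth.Statements.S6623
import Groth.Agent.CommAlg4.Postnikov
-- import your own Groth.Agent.* helpers here

set_option autoImplicit false
universe v u
open CategoryTheory CategoryTheory.Limits
open CohDer

namespace Groth.Agent.S6623

open CategoryTheory.Pretriangulated in
/-- Let D be a triangulated category, φ : X ⟶ X' a morphism of chain complexes in D considered in
degrees ≤ n, where a Postnikov system for the complex X_n → … → X_0 consists of objects Y_k, an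
isomorphism Y_0 ⟶ X_0, and for 0 ≤ k < n distinguished triangles Y_{k+1} ⟶ X_{k+1} ⟶ Y_k ⟶
Y_{k+1}⟦1⟧ with X_{k+1} ⟶ Y_k ⟶ X_k the differential; let (Y, a, b, c) and (Y', a', b', c') be
Postnikov systems for X and X'. If Hom(X_{j-i}⟦1-i⟧, X'_j) = 0 and Hom(X_j, X'_{j-i}⟦-i⟧) = 0 for
all 0 < i ≤ j ≤ n, then there is at most one morphism of Postnikov systems extending φ: two such
morphisms agree on Y_k for every k ≤ n. -/
theorem result {D : Type u} [Category.{v} D] [Preadditive D] [HasZeroObject D] [HasShift D ℤ]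
    [∀ n : ℤ, (shiftFunctor D n).Additive] [Pretriangulated D] [IsTriangulated D]
    (X X' : ChainComplex D ℕ) (φ : X ⟶ X') (n : ℕ)
    (Y : ℕ → D) (a : ∀ k, Y k ⟶ X.X k) (b : ∀ k, X.X (k + 1) ⟶ Y k)
    (c : ∀ k, Y k ⟶ (shiftFunctor D (1 : ℤ)).obj (Y (k + 1)))
    (h0 : IsIso (a 0))
    (hP : ∀ k, k < n → Triangle.mk (a (k + 1)) (b k) (c k) ∈ distinguishedTriangles ∧ b k ≫ a k = X.d (k + 1) k)
    (qY : ℕ → D) (qa : ∀ k, qY k ⟶ X'.X k) (qb : ∀ k, X'.X (k + 1) ⟶ qY k)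
    (qc : ∀ k, qY k ⟶ (shiftFunctor D (1 : ℤ)).obj (qY (k + 1)))
    (qh0 : IsIso (qa 0))
    (qhP : ∀ k, k < n → Triangle.mk (qa (k + 1)) (qb k) (qc k) ∈ distinguishedTriangles ∧ qb k ≫ qa k = X'.d (k + 1) k)
    (hv : ∀ i j : ℕ, 0 < i → i ≤ j → j ≤ n →
      (∀ ψ : (shiftFunctor D (1 - (i : ℤ))).obj (X.X (j - i)) ⟶ X'.X j, ψ = 0) ∧
      (∀ ψ : X.X j ⟶ (shiftFunctor D (-(i : ℤ))).obj (X'.X (j - i)), ψ = 0))
    (y z : ∀ k, Y k ⟶ qY k)
    (hy : (∀ k, k ≤ n → y k ≫ qa k = a k ≫ φ.f k) ∧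
      (∀ k, k < n → b k ≫ y k = φ.f (k + 1) ≫ qb k ∧ c k ≫ (shiftFunctor D (1 : ℤ)).map (y (k + 1)) = y k ≫ qc k))
    (hz : (∀ k, k ≤ n → z k ≫ qa k = a k ≫ φ.f k) ∧
      (∀ k, k < n → b k ≫ z k = φ.f (k + 1) ≫ qb k ∧ c k ≫ (shiftFunctor D (1 : ℤ)).map (z (k + 1)) = z k ≫ qc k))
    (k : ℕ) (hk : k ≤ n) :
    y k = z k := by
  open CommAlg4.Postnikov in
  induction k with
  | zero =>
    rw [← cancel_mono (qa 0), hy.1 0 hk, hz.1 0 hk]
  | succ k ih =>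
    have hk' : k < n := by omega
    rw [← sub_eq_zero]
    obtain ⟨δ, hδ⟩ : ∃ δ : Y (k + 1) ⟶ qY (k + 1), δ = y (k + 1) - z (k + 1) := ⟨_, rfl⟩
    rw [← hδ]
    have hδa : δ ≫ qa (k + 1) = 0 := by
      rw [hδ, Preadditive.sub_comp, hy.1 _ hk, hz.1 _ hk, sub_self]
    have hcδ : c k ≫ (shiftFunctor D (1 : ℤ)).map δ = 0 := by
      rw [hδ, Functor.map_sub, Preadditive.comp_sub, (hy.2 k hk').2, (hz.2 k hk').2,
        ih (by omega), sub_self]
    obtain ⟨g, hg⟩ : ∃ g, (shiftFunctor D (1 : ℤ)).map δ =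
        (-(shiftFunctor D (1 : ℤ)).map (a (k + 1))) ≫ g :=
      Triangle.yoneda_exact₃ _ (rot_of_distTriang _ (hP k hk').1) _ hcδ
    obtain ⟨h, hh⟩ : ∃ h : X.X (k + 1) ⟶ qY (k + 1), δ = a (k + 1) ≫ h := by
      refine ⟨-(shiftFunctor D (1 : ℤ)).preimage g, (shiftFunctor D (1 : ℤ)).map_injective ?_⟩
      rw [hg]
      simp
    have hha : h ≫ qa (k + 1) = 0 := by
      obtain ⟨e, he⟩ : ∃ e : Y k ⟶ X'.X (k + 1), h ≫ qa (k + 1) = b k ≫ e :=
        Triangle.yoneda_exact₂ _ (hP k hk').1 (h ≫ qa (k + 1)) (by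
          change a (k + 1) ≫ h ≫ qa (k + 1) = 0
          rw [← Category.assoc, ← hh, hδa])
      rw [he, hom_from_eq_zero (fun i => X.X i) Y a b c h0 k (fun l hl => (hP l (by omega)).1) _
        (fun l hl ψ => ?_) e, comp_zero]
      have hA := (hv (k + 1 - l) (k + 1) (by omega) (by omega) hk).1
      rw [show k + 1 - (k + 1 - l) = l by omega,
        show (1 : ℤ) - ((k + 1 - l : ℕ) : ℤ) = (l : ℤ) - k by omega] at hA
      exact hA ψ
    rw [hh, eq_zero_of_comp_a (fun i => X'.X i) qY qa qb qc qh0 (k + 1)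
      (fun l hl => (qhP l (by omega)).1) _ (fun l hl => ?_) h hha, comp_zero]
    have hB := (hv (k + 1 - l) (k + 1) (by omega) (by omega) hk).2
    rw [show k + 1 - (k + 1 - l) = l by omega] at hB
    exact vanish_right_zero (0 : ℤ) rfl (vanish_shift (0 : ℤ) (-((k + 1 - l : ℕ) : ℤ))
      (((k + 1 : ℕ) : ℤ) - l) 0 (-((k + 1 - l : ℕ) : ℤ)) (by omega) (by omega)
      (vanish_from_zero (0 : ℤ) rfl hB))

end Groth.Agent.S6623
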