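import Groth.Statements.S6636
import Groth.Agent.Desc19b.SiteRes.AlmostPush

set_option autoImplicit false
open CategoryTheory CategoryTheory.Limits AlgebraicGeometry Opposite
universe u
open BigSite

set_option backward.isDefEq.respectTransparency.types false
set_option backward.isDefEq.respectTransparency false

namespace Groth.Agent.S6636


/-- For the etale and the smooth topologies: for a closed immersion of schemes f : X ⟶ Y the big direct
image along f preserves coequalizers and pushouts of sheaves of sets, and preserves finite colimits
of abelian sheaves (so it is exact there, being a right adjoint). (The published statement also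
covers the syntomic topology; this row treats the etale and smooth topologies only.) -/
theorem result {X Y : Scheme.{u}} (f : X ⟶ Y) [IsClosedImmersion f]
    (K : Precoverage Scheme.{u}) (hK : K = Scheme.etalePrecoverage ∨ K = Scheme.precoverage @Smooth) :
    PreservesColimitsOfShape WalkingParallelPair (BigSite.pushBig K f (Type (u + 1))) ∧
      PreservesColimitsOfShape WalkingSpan (BigSite.pushBig K f (Type (u + 1))) ∧
      PreservesFiniteColimits (BigSite.pushBig K f AddCommGrpCat.{u + 1}) := by
  have hG := Desc19b.SiteRes.isAlmostCocontinuous_aux f K hK
  refine ⟨?_, ?_, ?_⟩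
  · exact Desc19b.SiteRes.Almost.preservesColimitsOfShape_push (Over.pullback f) hG
  · exact Desc19b.SiteRes.Almost.preservesColimitsOfShape_push (Over.pullback f) hG
  · haveI : PreservesFiniteLimits (BigSite.pushBig K f AddCommGrpCat.{u + 1}) :=
      haveI : PreservesLimitsOfSize.{0, 0} (BigSite.pushBig K f AddCommGrpCat.{u + 1}) :=
        (BigSite.bigAdj K f AddCommGrpCat.{u + 1}).rightAdjoint_preservesLimits
      PreservesLimitsOfSize.preservesFiniteLimits _
    rw [Functor.preservesFiniteColimits_iff_forall_exact_map_and_epi]
    intro S hS
    haveI := hS.epi_g
    exact ⟨((Functor.preservesFiniteLimits_iff_forall_exact_map_and_mono _).1 inferInstance S hS).1,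
      Desc19b.SiteRes.Almost.preservesEpi_push (Over.pullback f) hG S.g⟩

end Groth.Agent.S6636
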