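import Groth.Statements.S6639
import Groth.Agent.HenselLib.FrobSemilinear

set_option autoImplicit false
universe u
open scoped TensorProduct
open EtBase

namespace Groth.Agent.S6639

/-- Let k ⟶ k' be a homomorphism of algebraically closed fields of characteristic p > 0 (an extension of
algebraically closed fields), V a finite-dimensional k-vector space, F : V ⟶ V additive with F(c •
v) = c^p • F(v), and F' the additive endomorphism of V' = k' ⊗_k V satisfying F'(c ⊗ v) = c^p ⊗
F(v). Then v ↦ 1 ⊗ v maps the fixed vectors of F bijectively onto the fixed vectors of F'. -/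
theorem result {k k' V : Type u} [Field k] [IsAlgClosed k] [Field k']
    [IsAlgClosed k'] [Algebra k k'] (p : ℕ) [Fact p.Prime] [CharP k p]
    [AddCommGroup V] [Module k V] [FiniteDimensional k V] (F : V →+ V)
    (hF : ∀ (c : k) (v : V), F (c • v) = c ^ p • F v)
    (F' : k' ⊗[k] V →+ k' ⊗[k] V) (hF' : ∀ (c : k') (v : V), F' (c ⊗ₜ[k] v) = (c ^ p) ⊗ₜ[k] F v) :
    Set.BijOn (fun v : V => (1 : k') ⊗ₜ[k] v) {v : V | F v = v} {w : k' ⊗[k] V | F' w = w} := by
  refine ⟨fun v hv => ?_, fun a _ b _ hab => ?_, fun z hz => ?_⟩
  · show F' _ = _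
    rw [hF', one_pow, hv]
  · have hinj : Function.Injective ((Algebra.linearMap k k').rTensor V) :=
      Module.Flat.rTensor_preserves_injective_linearMap _ (algebraMap k k').injective
    apply (TensorProduct.lid k V).symm.injective
    apply hinj
    simpa using hab
  · obtain ⟨v, hv, rfl⟩ := Groth.Agent.HenselLib.Frob.fixed_baseChange p F hF F' hF' z hz
    exact ⟨v, hv, rfl⟩

end Groth.Agent.S6639
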