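import Groth.Statements.S6640
import Groth.Agent.Et18.ConstNhd
import Groth.Agent.Et18.Stalk
-- import your own Groth.Agent.* helpers here

set_option autoImplicit false
open CategoryTheory CategoryTheory.Limits AlgebraicGeometry Opposite
universe u
open EtCore

namespace Groth.Agent.S6640

/-- Let X be an irreducible scheme, ξ a geometric point over its generic point, A' an additive subgroup
of an abelian group A, and G an abelian sheaf on the small etale site of X with monomorphisms a :
const A' ⟶ G and b : G ⟶ const A whose composite is the map of constant sheaves induced by the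
inclusion. If the stalk of a at ξ is an isomorphism, then a is an isomorphism. -/
theorem result {X : Scheme.{u}} [IrreducibleSpace ↥X]
    {Ω : Type u} [Field Ω] [IsSepClosed Ω] (ξ : Spec (CommRingCat.of Ω) ⟶ X)
    (hξ : ξ.base default = genericPoint ↥X)
    (A : Type) [AddCommGroup A] (A' : AddSubgroup A) (G : EtCoh.Ab X)
    (a : EtCoh.const X ↥A' ⟶ G) (b : G ⟶ EtCoh.const X A) [Mono a] [Mono b]
    (hab : a ≫ b = (constantSheaf X.smallEtaleTopology AddCommGrpCat.{u + 1}).map
      (AddCommGrpCat.ofHom (AddEquiv.ulift.symm.toAddMonoidHom.comp (A'.subtype.comp AddEquiv.ulift.toAddMonoidHom))))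
    (hst : IsIso ((EtCoh.stalk ξ).map a)) : IsIso a := by
  classical
  let h : AddCommGrpCat.of (ULift.{u + 1} ↥A') ⟶ AddCommGrpCat.of (ULift.{u + 1} A) :=
    AddCommGrpCat.ofHom (AddEquiv.ulift.symm.toAddMonoidHom.comp (A'.subtype.comp AddEquiv.ulift.toAddMonoidHom))
  have hab' : a ≫ b = (Et18.cst X).map h := hab
  have hinj : Function.Injective h := fun p q hpq => by
    have := congrArg ULift.down hpq
    exact ULift.ext _ _ (Subtype.ext this)
  refine Et18.isIso_of_stalks a fun x => (ConcreteCategory.isIso_iff_bijective _).2 ?_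
  have key : ∀ {Ω' : Type u} [Field Ω'] [IsSepClosed Ω'] (η : Spec (CommRingCat.of Ω') ⟶ X) (c' : AddCommGrpCat.of (ULift.{u + 1} ↥A')),
      (EtCoh.stalk η).map b ((EtCoh.stalk η).map a (Et18.cstGerm η _ c')) = Et18.cstGerm η _ (h c') := by
    intro Ω' _ _ η c'
    have := ConcreteCategory.congr_hom (Et18.cstGerm_naturality η h) c'
    rw [← hab', Functor.map_comp] at this
    exact this
  let η := Et18.sepPoint X x
  have hb : Function.Injective ((EtCoh.stalk η).map b) :=
    (AddCommGrpCat.mono_iff_injective _).1 inferInstance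
  refine ⟨fun p q hpq => ?_, fun g => ?_⟩
  · obtain ⟨p', rfl⟩ := (Et18.cstGerm_bijective η _).2 p
    obtain ⟨q', rfl⟩ := (Et18.cstGerm_bijective η _).2 q
    have := congrArg ((EtCoh.stalk η).map b) hpq
    have h2 := ((key η p').symm.trans this).trans (key η q')
    rw [hinj ((Et18.cstGerm_bijective η _).1 h2)]
  · obtain ⟨W, w, s, rfl⟩ := (Scheme.pointSmallEtale η).toPresheafFiber_jointly_surjective (P := G.obj) g
    let Φ := Scheme.pointSmallEtale η
    obtain ⟨c, hc⟩ := (Et18.cstGerm_bijective η _).2 (Φ.toPresheafFiber W w (EtCoh.const X A).obj (b.hom.app (op W) s))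
    have hc' : Φ.toPresheafFiber W w (EtCoh.const X A).obj (b.hom.app (op W) s) =
        Φ.toPresheafFiber W w (EtCoh.const X A).obj (Et18.cstSec _ W c) :=
      hc.symm.trans (ConcreteCategory.congr_hom (Et18.cstSec_germ η _ W w) c).symm
    obtain ⟨W', k, w', hw', heq⟩ := (Φ.toPresheafFiber_eq_iff' (P := (EtCoh.const X A).obj) _ _ _ _).mp hc'
    obtain ⟨y, hy⟩ : ∃ y : W'.left, W'.hom y = ξ default := by
      haveI : Etale W'.hom := W'.prop
      have hne : (Set.range W'.hom).Nonempty := ⟨W'.hom (Et18.fiberPt w'), ⟨_, rfl⟩⟩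
      have hg : genericPoint ↥X ∈ Set.range W'.hom :=
        ((genericPoint_spec ↥X).mem_open_set_iff W'.hom.isOpenMap.isOpen_range).2 (by simpa using hne)
      rw [← hξ] at hg
      exact hg
    obtain ⟨v, -⟩ := Et18.exists_fiber_point ξ W' y hy
    let Ψ := Scheme.pointSmallEtale ξ
    obtain ⟨c', hcc⟩ := (((ConcreteCategory.isIso_iff_bijective _).1 hst).comp (Et18.cstGerm_bijective ξ _)).2
      (Ψ.toPresheafFiber W' v G.obj (G.obj.map k.op s))
    have e1 : (EtCoh.stalk ξ).map b (Ψ.toPresheafFiber W' v G.obj (G.obj.map k.op s)) =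
        Et18.cstGerm ξ _ c := by
      refine (Ψ.toPresheafFiber_naturality_apply b.hom W' v _).trans ?_
      rw [NatTrans.naturality_apply, heq]
      refine (congrArg _ (ConcreteCategory.congr_hom (Et18.cstSec_res _ k) c)).trans ?_
      exact ConcreteCategory.congr_hom (Et18.cstSec_germ ξ _ W' v) c
    have e2 : h c' = c := by
      apply (Et18.cstGerm_bijective ξ _).1
      rw [← key ξ c', ← e1]
      exact congrArg _ hcc
    refine ⟨Et18.cstGerm η _ c', hb ?_⟩
    rw [key η c', e2]
    refine (hc.trans ?_)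
    exact (Φ.toPresheafFiber_naturality_apply b.hom W w s).symm

end Groth.Agent.S6640
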