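import Groth.Statements.S6641
import Groth.Agent.Et18.ClosedPointSupport
-- import your own Groth.Agent.* helpers here

set_option autoImplicit false
open CategoryTheory CategoryTheory.Limits AlgebraicGeometry Opposite
universe u
open Curves

namespace Groth.Agent.S6641

/-- Let X be a smooth curve over an algebraically closed field k (here: X integral of dimension one,
smooth, separated and of finite type over k), and for a closed point x let i_x : Spec κ(x) ⟶ X be
its inclusion. Then H^q of the direct sum, over all closed points x, of the sheaves (i_x)_* Z (given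
here as any colimit cofan of that family) vanishes for every q ≥ 1. -/
theorem result (k : Type u) [Field k] [IsAlgClosed k] (X : Scheme.{u})
    (f : X ⟶ Spec (CommRingCat.of k)) [Smooth f] [IsSeparated f] [LocallyOfFiniteType f] [QuasiCompact f] [IsIntegral X]
    (hdim : topologicalKrullDim ↥X = 1)
    (c : Cofan fun x : {x : ↥X // IsClosed ({x} : Set ↥X)} =>
      (EtCoh.push (X.fromSpecResidueField x.1)).obj (EtCoh.const (Spec (X.residueField x.1)) ℤ))
    (hc : IsColimit c) (q : ℕ) (hq : 1 ≤ q) :
    Subsingleton (EtCoh.H X c.pt q) := by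
  refine Groth.Agent.Et18.ClosedPointSupport.subsingleton_H f c.pt (fun y hy => by_contra fun hyc => ?_) q hq
  let ξ := Groth.Agent.Et18.sepPoint X y
  refine (Groth.Agent.Et18.mem_supp_iff _ ξ (Groth.Agent.Et18.sepPoint_default X y)).1 hy ?_
  rw [IsZero.iff_id_eq_zero]
  refine (isColimitOfPreserves (EtCoh.stalk ξ) hc).hom_ext fun j => ?_
  refine IsZero.eq_of_src ?_ _ _
  let U : X.Opens := ⟨({j.as.1} : Set X)ᶜ, j.as.2.isOpen_compl⟩
  refine Groth.Agent.Et18.isZero_stalk_push_of_disjoint _ _ ξ U ?_ ?_
  · rw [Groth.Agent.Et18.sepPoint_default]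
    exact fun h : y = j.as.1 => hyc (h ▸ j.as.2)
  · rw [Scheme.range_fromSpecResidueField]
    exact disjoint_compl_left


end Groth.Agent.S6641
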