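import Groth.Statements.S6642
import Groth.Agent.Et18.FLCMod
-- import your own Groth.Agent.* helpers here

set_option autoImplicit false
open CategoryTheory CategoryTheory.Limits AlgebraicGeometry Opposite
universe u
open EtCore

namespace Groth.Agent.S6642

/-- Abelian sheaves and sheaves of modules: for a morphism of schemes f : X ⟶ Y, inverse image along f
on the small etale sites preserves locally constant abelian sheaves, finite locally constant abelian
sheaves, and finite type locally constant sheaves of Λ-modules. (The published statement also covers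
sheaves of sets and all locally constant sheaves of modules; this row treats the abelian and
finite-type module cases.) -/
theorem result {X Y : Scheme.{u}} (f : X ⟶ Y) :
    (∀ G : EtCoh.Ab Y, EtRest.IsLocallyConstant G → EtRest.IsLocallyConstant ((EtCoh.pull f).obj G)) ∧
    (∀ G : EtCoh.Ab Y, EtCoh.IsFiniteLocallyConstant G → EtCoh.IsFiniteLocallyConstant ((EtCoh.pull f).obj G)) ∧
    (∀ (Λ : Type (u + 1)) [CommRing Λ] (G : EtModW.Mod Λ Y),
      EtModW.IsFTLocConst Λ G → EtModW.IsFTLocConst Λ ((EtModW.pull Λ f).obj G)) := by
  refine ⟨fun G hG => ?_, fun G hG => Groth.Agent.Et18.isFLC_pull hG f,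
    fun Λ _ G hG => Groth.Agent.Et18.isFTLocConst_pull Λ f hG⟩
  exact Groth.Agent.Et18.isLocallyConstant_iff.mpr
    ((Groth.Agent.Et18.isLocallyConstant_iff.mp hG).pull f)

end Groth.Agent.S6642
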