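import Groth.Statements.S6646
import Groth.Agent.Et18.Mod.FTLC
-- import your own Groth.Agent.* helpers here

set_option autoImplicit false
open CategoryTheory CategoryTheory.Limits AlgebraicGeometry Opposite
universe u
open EtModW

namespace Groth.Agent.S6646

/-- For a Noetherian coefficient ring Λ, on the small etale site of a scheme, kernels and cokernels of
maps between finite type locally constant sheaves of Λ-modules are finite type locally constant, and
that property is closed under extensions (a weak Serre subcategory). -/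
theorem result (Λ : Type (u + 1)) [CommRing Λ] [IsNoetherianRing Λ] (X : Scheme.{u}) :
    (∀ (F G : EtModW.Mod Λ X) (φ : F ⟶ G), EtModW.IsFTLocConst Λ F → EtModW.IsFTLocConst Λ G →
      EtModW.IsFTLocConst Λ (kernel φ) ∧ EtModW.IsFTLocConst Λ (cokernel φ)) ∧
    ObjectProperty.IsClosedUnderExtensions (fun F : EtModW.Mod Λ X => EtModW.IsFTLocConst Λ F) := by
  exact ⟨fun F G φ hF hG => ⟨Groth.Agent.Et18.Mod.isFTLocConst_kernel φ hF hG,
    Groth.Agent.Et18.Mod.isFTLocConst_cokernel φ hF hG⟩,
    ⟨fun hS h₁ h₃ => Groth.Agent.Et18.Mod.isFTLocConst_extension hS h₁ h₃⟩⟩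

end Groth.Agent.S6646
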