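import Groth.Statements.S6648
import Groth.Agent.Et18.SectionAgree
-- import your own Groth.Agent.* helpers here

set_option autoImplicit false
open CategoryTheory CategoryTheory.Limits AlgebraicGeometry Opposite
universe u
open EtCore

namespace Groth.Agent.S6648

/-- For a sheaf of (commutative) rings O on the small etale site of a scheme S, the set of points s of S
over which some geometric stalk of O is a nonzero ring is closed in S. (Rings are taken in the
universe of the schemes, as for the structure presheaf of the prelude.) -/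
theorem result {S : Scheme.{u}} (O : Sheaf S.smallEtaleTopology CommRingCat.{u}) :
    IsClosed {s : ↥S | ∃ (Ω : Type u) (_ : Field Ω) (_ : IsSepClosed Ω) (ξ : Spec (CommRingCat.of Ω) ⟶ S),
      ξ.base default = s ∧ Nontrivial ↑((Scheme.pointSmallEtale ξ).presheafFiber.obj O.obj)} := by
  let T := fun V : S.Etale => (1 : O.obj.obj (op V)) = 0
  let U : S.Opens := ⟨⋃ (V : S.Etale) (_ : T V), Set.range V.hom,
    isOpen_iUnion fun V => isOpen_iUnion fun _ => haveI : Etale V.hom := V.prop
      V.hom.isOpenMap.isOpen_range⟩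
  refine ⟨?_⟩
  convert U.2 using 1
  ext s
  simp only [Set.mem_compl_iff, Set.mem_setOf_eq]
  constructor
  · intro h
    let Φ := Scheme.pointSmallEtale (Groth.Agent.Et18.sepPoint S s)
    have hsub : ¬ Nontrivial ↑(Φ.presheafFiber.obj O.obj) := fun hN =>
      h ⟨_, _, inferInstance, Groth.Agent.Et18.sepPoint S s, Groth.Agent.Et18.sepPoint_default S s, hN⟩
    rw [not_nontrivial_iff_subsingleton] at hsub
    let v₀ : Φ.fiber.obj (EtCoh.top S) := Over.homMk (Groth.Agent.Et18.sepPoint S s) (Category.comp_id _)
    obtain ⟨V, a, v, -, hV⟩ := (Φ.toPresheafFiber_eq_iff' (P := O.obj) _ v₀ 1 0).mp (hsub.elim _ _)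
    refine Set.mem_iUnion₂.mpr ⟨V, (map_one _).symm.trans (hV.trans (map_zero _)),
      (v.left : _ ⟶ V.left) (default : Spec (CommRingCat.of (SeparableClosure (S.residueField s)))), ?_⟩
    refine (congrArg (fun k => k (default : Spec (CommRingCat.of (SeparableClosure (S.residueField s)))))
      (Over.w v)).trans ?_
    exact Groth.Agent.Et18.sepPoint_default S s
  · rintro h ⟨Ω, _, _, ξ, hξ, hN⟩
    obtain ⟨V, hV, y, hy⟩ := Set.mem_iUnion₂.mp h
    haveI : Etale V.hom := V.prop
    obtain ⟨v, hv, -⟩ := Scheme.exists_fac_of_etale_of_isSepClosed V.hom ξ y (hy.trans hξ.symm)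
    let Φ := Scheme.pointSmallEtale ξ
    have := congrArg (Φ.toPresheafFiber V (Over.homMk v hv) O.obj) hV
    rw [map_one, map_zero] at this
    exact one_ne_zero this

end Groth.Agent.S6648
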