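import Groth.Statements.S6649
import Mathlib
import Groth.Agent.DimLib.Points
import Groth.Agent.CiLib.Brauer
import Groth.Agent.S0212

set_option linter.all false

set_option autoImplicit false
open CategoryTheory CategoryTheory.Limits AlgebraicGeometry Opposite
universe u
open Curves

open CategoryTheory AlgebraicGeometry

namespace Groth.Agent.S6649

/-- For a curve C over an algebraically closed field k (C integral of dimension one, separated and of
finite type over k) the Brauer group of the function field of C is zero: every finite-dimensional
central division algebra over the function field has dimension one. -/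
theorem result (k : Type u) [Field k] [IsAlgClosed k] (C : Scheme.{u})
    (f : C ⟶ Spec (CommRingCat.of k)) [IsSeparated f] [LocallyOfFiniteType f] [QuasiCompact f] [IsIntegral C]
    (hdim : topologicalKrullDim ↥C = 1)
    (D : Type u) [DivisionRing D] [Algebra ↑C.functionField D] [Algebra.IsCentral ↑C.functionField D]
    [FiniteDimensional ↑C.functionField D] : Module.finrank ↑C.functionField D = 1 := by
  have hbij : Function.Bijective (C.residue (genericPoint C)).hom :=
    ⟨(C.residue (genericPoint C)).hom.injective, IsLocalRing.residue_surjective⟩
  let e : C.functionField ≃+* C.residueField (genericPoint C) := RingEquiv.ofBijective _ hbij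
  let φ : k →+* C.functionField :=
    (e.symm : C.residueField (genericPoint C) →+* C.functionField).comp
      (Groth.Agent.DimLib.baseRingHom f (genericPoint C))
  let _ : Algebra k C.functionField := φ.toAlgebra
  have h1 : Groth.Agent.DimLib.ptDim f (genericPoint C) = 1 := by
    have := Groth.Agent.DimLib.topologicalKrullDim_eq_ptDim_genericPoint (X := C) f
    rw [hdim] at this
    exact_mod_cast this.symm
  have h2 : Groth.Agent.DimLib.trdegHom (algebraMap k C.functionField) = 1 := by
    rw [← h1]
    exact Groth.Agent.DimLib.trdegHom_comp_ringEquiv (Groth.Agent.DimLib.baseRingHom f (genericPoint C)) e.symm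
  rw [Groth.Agent.DimLib.trdegHom_algebraMap] at h2
  have h3 : Algebra.trdeg k C.functionField = (1 : ℕ) := by
    rw [← h2, Cardinal.cast_toNat_of_lt_aleph0]
    by_contra h
    rw [Cardinal.toNat_apply_of_aleph0_le (not_lt.mp h)] at h2
    exact Nat.zero_ne_one h2
  have h4 := Groth.Agent.S0212.result k C.functionField 1 h3
  refine Groth.Agent.CiLib.finrank_eq_one_of_isCr_one (fun n d g hg hd hn => ?_) D
  obtain ⟨a, ha, ha'⟩ := h4 1 n (fun _ => g) (fun _ => d) (fun _ => hg) (fun _ => hd) (by simpa using hn)
  exact ⟨a, ha, ha' 0⟩

end Groth.Agent.S6649
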