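import Groth.Statements.S6653
import Groth.Agent.GalEt.DivIntegral
import Groth.Agent.CurvesLib24.Basic
import Groth.Agent.VarietyLib.SmoothStalk
import Groth.Agent.VarietyLib.DivisorGlue

set_option linter.style.haveILetI false
-- import your own Groth.Agent.* helpers here

set_option autoImplicit false
open CategoryTheory CategoryTheory.Limits AlgebraicGeometry Opposite
universe u
open Curves

namespace Groth.Agent.S6653

/-- The fundamental exact sequence: with the divisor map left unnamed: let X be a smooth curve over an
algebraically closed field k (here: X integral of dimension one, smooth, separated and of finite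
type over k), let j : Spec O_{X,η} ⟶ X be the canonical morphism from the spectrum of the local ring
at the generic point, and for a closed point x let i_x : Spec κ(x) ⟶ X be its inclusion. Then the
canonical map G_{m,X} ⟶ j_* G_{m,η} is a monomorphism, and its cokernel is isomorphic to the direct
sum over all closed points of the sheaves (i_x)_* Z (existence of an isomorphism only; the direct
sum is given as any colimit cofan of that family). -/
theorem result (k : Type u) [Field k] [IsAlgClosed k] (X : Scheme.{u})
    (f : X ⟶ Spec (CommRingCat.of k)) [Smooth f] [IsSeparated f] [LocallyOfFiniteType f] [QuasiCompact f] [IsIntegral X]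
    (hdim : topologicalKrullDim ↥X = 1)
    (c : Cofan fun x : {x : ↥X // IsClosed ({x} : Set ↥X)} =>
      (EtCoh.push (X.fromSpecResidueField x.1)).obj (EtCoh.const (Spec (X.residueField x.1)) ℤ))
    (hc : IsColimit c) :
    Mono (EtLim.GmPush (X.fromSpecStalk (genericPoint ↥X))) ∧
      Nonempty (cokernel (EtLim.GmPush (X.fromSpecStalk (genericPoint ↥X))) ≅ c.pt) := by
  haveI : IsLocallyNoetherian X := LocallyOfFiniteType.isLocallyNoetherian f
  haveI := Groth.Agent.GalEt.Div.locFact_of_regular (X := X)
    (Groth.Agent.VarietyLib.isRegularLocalRing_stalk_of_smooth k X f)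
  have hne : ∀ {x : X}, x ≠ genericPoint X → genericPoint X ⤳ x := fun _ => genericPoint_specializes _
  have hclosed : ∀ x : Groth.Agent.GalEt.Div.Ht1 X, IsClosed ({x.1} : Set X) := fun x =>
    Groth.Agent.VarietyLib.isClosed_of_specializes_ne hdim.le (genericPoint_specializes x.1) fun h =>
      Groth.Agent.GalEt.Div.not_maximal x.2 fun z hz =>
        ((Specializes.antisymm hz (h ▸ genericPoint_specializes z)).eq)
  have hht : ∀ {x : X}, IsClosed ({x} : Set X) → ringKrullDim (X.presheaf.stalk x) = 1 := fun {x} hx => by
    refine le_antisymm ((Groth.Agent.CurvesLib24.stalk_dim_le_topologicalKrullDim x).trans hdim.le) ?_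
    rw [ringKrullDim_stalk_eq_coheight]
    have hne : x ≠ genericPoint X := fun h => Groth.Agent.CurvesLib24.not_isClosed_genericPoint hdim (h ▸ hx)
    have : x < genericPoint X :=
      lt_of_le_not_ge (genericPoint_specializes x) fun h =>
        hne (Specializes.antisymm h (genericPoint_specializes x)).eq
    have h1 := Order.coheight_add_one_le this
    exact_mod_cast le_trans le_add_self h1
  let c' : Cofan fun x : Groth.Agent.GalEt.Div.Ht1 X => Groth.Agent.GalEt.Div.D x :=
    Cofan.mk c.pt fun x => c.inj ⟨x.1, hclosed x⟩
  have hc' : IsColimit c' :=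
    mkCofanColimit _ (fun s => Cofan.IsColimit.desc hc fun p => s.inj ⟨p.1, hht p.2⟩)
      (fun s x => Cofan.IsColimit.fac hc _ ⟨x.1, hclosed x⟩)
      (fun s m hm => Cofan.IsColimit.hom_ext hc _ _ fun p =>
        (hm ⟨p.1, hht p.2⟩).trans (Cofan.IsColimit.fac hc (fun q => s.inj ⟨q.1, hht q.2⟩) p).symm)
  exact Groth.Agent.GalEt.Div.divisor_sequence c' hc'

end Groth.Agent.S6653
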