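import Groth.Statements.S6654
import Groth.Agent.Et18.Mod.ConstNhd
-- import your own Groth.Agent.* helpers here

set_option autoImplicit false
open CategoryTheory CategoryTheory.Limits AlgebraicGeometry Opposite
universe u
open EtModW

namespace Groth.Agent.S6654

/-- Let X be an irreducible scheme, ξ a geometric point over its generic point, Λ a commutative ring, M'
a submodule of a Λ-module M, and G a sheaf of Λ-modules on the small etale site of X with
monomorphisms a : const M' ⟶ G and b : G ⟶ const M whose composite is the map of constant sheaves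
induced by the inclusion. If the stalk of a at ξ is an isomorphism, then a is an isomorphism. -/
theorem result (Λ : Type (u + 1)) [CommRing Λ] {X : Scheme.{u}} [IrreducibleSpace ↥X]
    {Ω : Type u} [Field Ω] [IsSepClosed Ω] (ξ : Spec (CommRingCat.of Ω) ⟶ X)
    (hξ : ξ.base default = genericPoint ↥X)
    (M : Type (u + 1)) [AddCommGroup M] [Module Λ M] (M' : Submodule Λ M) (G : EtModW.Mod Λ X)
    (a : EtModW.constMod Λ X ↥M' ⟶ G) (b : G ⟶ EtModW.constMod Λ X M) [Mono a] [Mono b]
    (hab : a ≫ b = (constantSheaf X.smallEtaleTopology (ModuleCat.{u + 1} Λ)).map (ModuleCat.ofHom M'.subtype))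
    (hst : IsIso ((EtModW.stalk Λ ξ).map a)) : IsIso a := by
  haveI := hst
  have hcomp : ∀ {Ω' : Type u} [Field Ω'] [IsSepClosed Ω'] (η : Spec (CommRingCat.of Ω') ⟶ X) (m' : M'),
      (EtModW.stalk Λ η).map b ((EtModW.stalk Λ η).map a
        (Groth.Agent.Et18.Mod.cstGerm η (ModuleCat.of Λ ↥M') m')) =
        Groth.Agent.Et18.Mod.cstGerm η (ModuleCat.of Λ M) (m' : M) := by
    intro Ω' _ _ η m'
    have h1 := Groth.Agent.Et18.Mod.cstGerm_naturality η (ModuleCat.ofHom M'.subtype)
    rw [show (Groth.Agent.Et18.Mod.cst Λ X).map (ModuleCat.ofHom M'.subtype) = a ≫ b from hab.symm,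
      Functor.map_comp] at h1
    exact congrArg (fun k => k m') h1
  haveI : Epi a := Groth.Agent.Et18.Mod.epi_of_stalks a fun x t => by
    let η := Groth.Agent.Et18.sepPoint X x
    let Φ := Scheme.pointSmallEtale η
    obtain ⟨m, hm⟩ := (Groth.Agent.Et18.Mod.cstGerm_bijective η (ModuleCat.of Λ M)).2
      ((EtModW.stalk Λ η).map b t)
    obtain ⟨W, w, σ, hσ⟩ := Φ.toPresheafFiber_jointly_surjective (P := G.obj) t
    have he : Φ.toPresheafFiber W w (EtModW.constMod Λ X M).obj (b.hom.app (op W) σ) =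
        Φ.toPresheafFiber W w (EtModW.constMod Λ X M).obj
          (Groth.Agent.Et18.Mod.cstSec (ModuleCat.of Λ M) W m) := by
      refine ((congrArg (fun k => k σ) (Φ.toPresheafFiber_naturality b.hom W w)).symm.trans
        ((congrArg _ hσ).trans ?_))
      exact hm.symm.trans (congrArg (fun k => k m) (Groth.Agent.Et18.Mod.cstSec_germ η _ W w)).symm
    obtain ⟨W', g, w', -, heq⟩ :=
      (Φ.toPresheafFiber_eq_iff' (P := (EtModW.constMod Λ X M).obj) _ _ _ _).mp he
    have hgen : genericPoint ↥X ∈ Set.range W'.hom :=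
      ((genericPoint_spec ↥X).mem_open_set_iff W'.hom.isOpenMap.isOpen_range).mpr
        ⟨W'.hom (Groth.Agent.Et18.fiberPt w'), trivial, ⟨Groth.Agent.Et18.fiberPt w', rfl⟩⟩
    obtain ⟨y, hy⟩ := hgen
    obtain ⟨v, -⟩ := Scheme.pointSmallEtaleFiberObjToPreimage_surjective ξ hξ W' ⟨y, hy⟩
    let Ψ := Scheme.pointSmallEtale ξ
    let σ' := G.obj.map g.op σ
    obtain ⟨p, hp⟩ := ((ConcreteCategory.isIso_iff_bijective ((EtModW.stalk Λ ξ).map a)).mp hst).2
      (Ψ.toPresheafFiber W' v G.obj σ')
    obtain ⟨m', rfl⟩ := (Groth.Agent.Et18.Mod.cstGerm_bijective ξ (ModuleCat.of Λ ↥M')).2 p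
    have hm' : (m' : M) = m := by
      refine (Groth.Agent.Et18.Mod.cstGerm_bijective ξ (ModuleCat.of Λ M)).1 ?_
      rw [← hcomp ξ m', hp]
      refine (congrArg (fun k => k σ') (Ψ.toPresheafFiber_naturality b.hom W' v)).trans ?_
      refine (congrArg (Ψ.toPresheafFiber W' v (EtModW.constMod Λ X M).obj) ?_).trans
        (congrArg (fun k => k m) (Groth.Agent.Et18.Mod.cstSec_germ ξ (ModuleCat.of Λ M) W' v))
      refine (NatTrans.naturality_apply b.hom g.op σ).trans (heq.trans ?_)
      exact congrArg (fun k => k m) (Groth.Agent.Et18.Mod.cstSec_res (ModuleCat.of Λ M) g)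
    refine ⟨Groth.Agent.Et18.Mod.cstGerm η (ModuleCat.of Λ ↥M') m',
      (ModuleCat.mono_iff_injective ((EtModW.stalk Λ η).map b)).mp inferInstance ?_⟩
    rw [hcomp η m', hm']
    exact hm
  exact isIso_of_mono_of_epi a

end Groth.Agent.S6654
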