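import Groth.Statements.S6656
import Groth.Agent.EtGal.CechDisjoint
-- import your own Groth.Agent.* helpers here

set_option autoImplicit false
open CategoryTheory CategoryTheory.Limits AlgebraicGeometry Opposite
universe u
open EtCore

namespace Groth.Agent.S6656

/-- Let F be an abelian sheaf on the small etale site of a scheme X, U an etale X-scheme, {U_i ⟶ U} a
finite family of etale X-schemes over U, and V ⟶ U an etale X-scheme over U with U-morphisms U_i ⟶ V
making the underlying scheme of V the coproduct (disjoint union) of the U_i. Then the Čech complex
of F for the family {U_i ⟶ U} and the Čech complex of F for the single morphism {V ⟶ U} are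
isomorphic cochain complexes (existence of an isomorphism; fibre products over U in the small etale
site are carried as the finite-products binder of the Čech complex). (The published statement is for
a standard covering, whose members are affine; this row allows any finite family with V their
disjoint union, which the same argument covers.) -/
theorem result {X : Scheme.{u}} (F : EtCoh.Ab X) (U : X.Etale)
    [HasFiniteProducts (Over U)] {ι : Type (u + 1)} [Finite ι] (Uf : ι → Over U)
    (V : Over U) (incl : ∀ i, Uf i ⟶ V)
    (hV : IsColimit (Cofan.mk V.left.left fun i => (incl i).left.left)) :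
    Nonempty (EtCech.cechComplex Uf F.obj ≅ EtCech.cechComplex (fun _ : PUnit.{u + 2} => V) F.obj) := by
  classical
  let g : ι → Scheme.{u} := fun i => (Uf i).left.left
  let e : ∐ g ≅ V.left.left := IsColimit.coconePointUniqueUpToIso (coproductIsCoproduct g) hV
  have he : ∀ i, Sigma.ι g i ≫ e.hom = (incl i).left.left := fun i =>
    IsColimit.comp_coconePointUniqueUpToIso_hom (coproductIsCoproduct g) hV ⟨i⟩
  haveI : ∀ i, IsOpenImmersion (incl i).left.left := fun i => he i ▸ inferInstance
  refine ⟨(@asIso _ _ _ _ _ (EtGal.isIso_cechMap incl F (fun x => ?_) (fun i j y z h => ?_))).symm⟩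
  · obtain ⟨⟨i⟩, y, hy⟩ := (Scheme.IsLocallyDirected.openCover (Discrete.functor g)).exists_eq (e.inv x)
    refine ⟨i, y, ?_⟩
    rw [← he i]
    change e.hom (Sigma.ι g i y) = x
    rw [show Sigma.ι g i y = e.inv x from hy]
    exact congrArg (fun m => m x) e.inv_hom_id
  · by_contra hij
    have hh : Sigma.ι g i y = Sigma.ι g j z := by
      rw [← he i, ← he j] at h
      exact (Scheme.Hom.isOpenEmbedding e.hom).injective h
    exact Set.disjoint_left.1 ((TopologicalSpace.Opens.coe_disjoint).2 (disjoint_opensRange_sigmaι g i j hij))
      (show Sigma.ι g i y ∈ Set.range (Sigma.ι g i) from ⟨y, rfl⟩) (show Sigma.ι g i y ∈ Set.range (Sigma.ι g j) from ⟨z, hh.symm⟩)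

end Groth.Agent.S6656
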