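import Groth.Statements.S6691
import Groth.Agent.Et18.BCPasteSh
import Groth.Agent.S6671
-- import your own Groth.Agent.* helpers here

set_option autoImplicit false
universe u
open CategoryTheory CategoryTheory.Limits AlgebraicGeometry Opposite
open EtBC

namespace Groth.Agent.S6691

/-- Let Y = X ×_S T be a cartesian square of schemes with f : X → S, g : T → S, h : Y → X, e : Y → T,
and F a sheaf of sets on the small etale site of T. Let (U_i → X) be a jointly surjective family of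
etale X-schemes such that every U_i → S factors as a_i : U_i → V_i followed by an etale V_i → S, and
let T_i = V_i ×_S T (projections g_i, t_i) and Y_i = U_i ×_{V_i} T_i (projections h_i, e_i). If for
every i the base change map a_i⁻¹ g_i,_* (t_i⁻¹ F) → h_i,_* e_i⁻¹ (t_i⁻¹ F) is an isomorphism, then
the base change map f⁻¹ g_* F → h_* e⁻¹ F is an isomorphism. -/
theorem result {X S Y T : Scheme.{u}} (f : X ⟶ S) (g : T ⟶ S) (h : Y ⟶ X) (e : Y ⟶ T)
    (c : IsPullback e h g f) (F : EtDesc.Sh T)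
    {ι : Type u} (U : ι → X.Etale) (hU : EtCoh.Covers U) (V : ι → S.Etale)
    (a : ∀ i, (U i).left ⟶ (V i).left) (ha : ∀ i, a i ≫ (V i).hom = (U i).hom ≫ f)
    (Ti Yi : ι → Scheme.{u}) (gi : ∀ i, Ti i ⟶ (V i).left) (ti : ∀ i, Ti i ⟶ T)
    (cT : ∀ i, IsPullback (ti i) (gi i) g (V i).hom)
    (hi : ∀ i, Yi i ⟶ (U i).left) (ei : ∀ i, Yi i ⟶ Ti i) (cY : ∀ i, IsPullback (ei i) (hi i) (gi i) (a i))
    (hloc : ∀ i, IsIso (EtBC.baseChange0Sh (gi i) (a i) (hi i) (ei i) (cY i).w ((EtDesc.pullSh (ti i)).obj F))) :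
    IsIso (EtBC.baseChange0Sh g f h e c.w F) := by
  have het : ∀ {S' T' X' Y' : Scheme.{u}} (g' : T' ⟶ S') (f' : X' ⟶ S') [Etale f'] (h' : Y' ⟶ X') (e' : Y' ⟶ T')
      (c' : IsPullback e' h' g' f') (F' : EtDesc.Sh T'), IsIso (EtBC.baseChange0Sh g' f' h' e' c'.w F') := by
    intro S' T' X' Y' g' f' _ h' e' c' F'
    refine Groth.Agent.S6671.result f' g' h' e' c' (fun W => ?_) F'
    haveI : Etale W.hom := W.prop
    exact ⟨PUnit, fun _ => W, fun _ => 𝟙 W, fun y => ⟨⟨⟩, y, rfl⟩,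
      fun _ => ⟨Scheme.Etale.mk (W.hom ≫ f'), 𝟙 W.left, Category.id_comp _, inferInstanceAs (QuasiCompact (𝟙 (W.left : Scheme.{u}))), Et18.BCPaste.geometricallyConnected_id _⟩⟩
  refine Et18.BCPaste.isIso_of_etale_cover U hU _ fun i => ?_
  haveI : Etale (U i).hom := (U i).prop
  haveI : Etale (V i).hom := (V i).prop
  have s : IsPullback (ei i ≫ ti i) (hi i) g ((U i).hom ≫ f) := ha i ▸ (cY i).paste_horiz (cT i)
  let yi : Yi i ⟶ Y := c.lift (ei i ≫ ti i) (hi i ≫ (U i).hom) (by rw [s.w, Category.assoc])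
  have hyi : yi ≫ h = hi i ≫ (U i).hom := c.lift_snd _ _ _
  have hyi' : yi ≫ e = ei i ≫ ti i := c.lift_fst _ _ _
  have hsqU : IsPullback yi (hi i) h (U i).hom := IsPullback.of_right (hyi'.symm ▸ s) hyi c
  haveI := hloc i
  haveI := het g (V i).hom (gi i) (ti i) (cT i) F
  have h12 : IsIso (EtBC.baseChange0Sh g ((U i).hom ≫ f) (hi i) (ei i ≫ ti i) s.w F) :=
    (Et18.BCPaste.isIso_paste_iff g (V i).hom (gi i) (ti i) (cT i).w (a i) (hi i) (ei i) (cY i).w (ha i) rfl
      s.w F).2 inferInstance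
  have hcomp := (Et18.BCPaste.isIso_paste_iff g f h e c.w (U i).hom (hi i) yi hsqU.w rfl hyi' s.w F).1 h12
  haveI := het h (U i).hom (hi i) yi hsqU ((EtDesc.pullSh e).obj F)
  exact @IsIso.of_isIso_comp_right _ _ _ _ _ _ (EtBC.baseChange0Sh h (U i).hom (hi i) yi hsqU.w ((EtDesc.pullSh e).obj F)) _ hcomp

end Groth.Agent.S6691
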