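import Groth.Statements.S6700
import Groth.Agent.Et18.Mod.ExtZeroDerived
-- import your own Groth.Agent.* helpers here

set_option autoImplicit false
universe u
open CategoryTheory CategoryTheory.Limits AlgebraicGeometry Opposite
attribute [local instance] HasDerivedCategory.standard
open EtModD

namespace Groth.Agent.S6700

/-- (1) ⇔ (2): let X be a quasi-compact and quasi-separated scheme, Λ a Noetherian ring and K an object
of D(X_et, Λ) which is bounded above. Then every cohomology sheaf of K is a constructible sheaf of
Λ-modules if and only if K is isomorphic, in D(X_et, Λ), to the image of a bounded above complex of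
sheaves of Λ-modules each of whose terms is isomorphic to a finite direct sum of sheaves j_! Λ,
extensions by zero of the constant sheaf Λ along etale morphisms j : U → X with U affine. (A third
equivalent condition, representability by a bounded above complex of flat constructible sheaves of
Λ-modules, is not included. Continuity of the functors V ↦ (V → U → X) between small etale sites,
true for every etale morphism, appears as an instance binder in front of the extension-by-zero
terms.) -/
theorem result (Λ : Type (u + 1)) [CommRing Λ]
    [IsNoetherianRing Λ] (X : Scheme.{u}) [CompactSpace X] [QuasiSeparatedSpace X] (K : EtModD.D Λ X) (n : ℤ)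
    [K.IsLE n] :
    (∀ i : ℤ, EtModW.IsConstructible Λ (EtModD.HD K i)) ↔
      ∃ (C : CochainComplex (EtModW.Mod Λ X) ℤ) (c : ℤ),
        (∀ i : ℤ, c < i → IsZero (C.X i)) ∧
        (∀ i : ℤ, ∃ (m : ℕ) (U : Fin m → Scheme.{u}) (j : ∀ k, U k ⟶ X) (_ : ∀ k, Etale (j k))
            (_ : ∀ k, IsAffine (U k)),
            ∀ [∀ k, EtShriek.JCont (j k)],
              Nonempty (C.X i ≅ ∐ fun k => (EtSix.extZeroMod Λ (j k)).obj (EtSix.constΛ Λ (U k)))) ∧
        Nonempty (DerivedCategory.Q.obj C ≅ K) := by
  rw [Groth.Agent.Et18.Mod.constructible_iff_exists_resolution K n]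
  constructor
  · rintro ⟨C, c, hc, hC, hK⟩
    refine ⟨C, c, hc, fun i => ?_, hK⟩
    obtain ⟨m, W, hW, he⟩ := hC i
    exact ⟨m, fun k => (W k).left, fun k => (W k).hom, fun k => (W k).prop, hW, fun {_} => he⟩
  · rintro ⟨C, c, hc, hC, hK⟩
    refine ⟨C, c, hc, fun i => ?_, hK⟩
    obtain ⟨m, U, j, hj, hU, he⟩ := hC i
    haveI := hj
    exact ⟨m, fun k => Scheme.Etale.mk (j k), hU, @he (fun k => Groth.Agent.Et18.jCont (j k))⟩

end Groth.Agent.S6700
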