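import Groth.Statements.S6703
import Mathlib.CategoryTheory.Adjunction.FullyFaithful

set_option autoImplicit false
set_option backward.isDefEq.respectTransparency false
set_option backward.defeqAttrib.useBackward true
universe v v' u u'
open CategoryTheory
open DEquiv

namespace Groth.Agent.S6703

open CategoryTheory CategoryTheory.Limits CategoryTheory.Pretriangulated

section
variable {D : Type u} [Category.{v} D] [HasShift D ℤ]
    {D' : Type u'} [Category.{v'} D'] [HasShift D' ℤ] (F : D ⥤ D') [F.CommShift ℤ]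

/-- `F` is fully faithful on `Hom(A, B)`. -/
abbrev Bij (A B : D) : Prop := Function.Bijective (fun f : A ⟶ B => F.map f)

lemma bij_shift (n : ℤ) {A B : D} (h : Bij F A B) : Bij F (A⟦n⟧) (B⟦n⟧) := by
  have key : ∀ f : A ⟶ B, F.map (f⟦n⟧') =
      (F.commShiftIso n).hom.app A ≫ (F.map f)⟦n⟧' ≫ (F.commShiftIso n).inv.app B := by
    intro f
    have := (F.commShiftIso n).hom.naturality f
    dsimp at this
    rw [← reassoc_of% this]
    simp
  constructor
  · intro g g' e
    obtain ⟨f, rfl⟩ := (shiftFunctor D n).map_surjective g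
    obtain ⟨f', rfl⟩ := (shiftFunctor D n).map_surjective g'
    dsimp only at e
    rw [key, key, cancel_epi, cancel_mono] at e
    rw [h.1 ((shiftFunctor D' n).map_injective e)]
  · intro g
    obtain ⟨φ, hφ⟩ := (shiftFunctor D' n).map_surjective
      ((F.commShiftIso n).inv.app A ≫ g ≫ (F.commShiftIso n).hom.app B)
    obtain ⟨f, rfl⟩ := h.2 φ
    refine ⟨f⟦n⟧', ?_⟩
    dsimp only at hφ ⊢
    rw [key, hφ]
    simp

lemma bij_iso {A A' B B' : D} (a : A ≅ A') (b : B ≅ B') (h : Bij F A B) : Bij F A' B' := by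
  constructor
  · intro g g' e
    have : F.map (a.hom ≫ g ≫ b.inv) = F.map (a.hom ≫ g' ≫ b.inv) := by
      dsimp only at e
      simp only [F.map_comp, e]
    simpa [cancel_epi, cancel_mono] using h.1 this
  · intro g
    obtain ⟨f, hf⟩ := h.2 (F.map a.hom ≫ g ≫ F.map b.inv)
    refine ⟨a.inv ≫ f ≫ b.hom, ?_⟩
    dsimp only at hf ⊢
    rw [F.map_comp, F.map_comp, hf]
    simp [← F.map_comp, ← F.map_comp_assoc]

end

open CategoryTheory.Limits CategoryTheory.Pretriangulated in
/-- Let F : D ⥤ D' be an exact functor of triangulated categories admitting both a left and a right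
adjoint, and let S be a set of objects of D such that an object K of D is zero as soon as Hom(E,
K⟦i⟧) = 0 for all E ∈ S and i ∈ ℤ, and also as soon as Hom(K, E⟦i⟧) = 0 for all E ∈ S and i ∈ ℤ. If
for all E, E' ∈ S and i ∈ ℤ the map Hom(E, E'⟦i⟧) → Hom(F E, F (E'⟦i⟧)) given by F is bijective,
then F is full and faithful. -/
theorem result
    {D : Type u} [Category.{v} D] [Preadditive D] [HasZeroObject D] [HasShift D ℤ]
    [∀ n : ℤ, (shiftFunctor D n).Additive] [Pretriangulated D] [IsTriangulated D]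
    {D' : Type u'} [Category.{v'} D'] [Preadditive D'] [HasZeroObject D'] [HasShift D' ℤ]
    [∀ n : ℤ, (shiftFunctor D' n).Additive] [Pretriangulated D'] [IsTriangulated D']
    (F : D ⥤ D') [F.CommShift ℤ] [F.IsTriangulated] [F.IsLeftAdjoint] [F.IsRightAdjoint]
    (S : Set D)
    (h2 : ∀ K : D, (∀ E ∈ S, ∀ (i : ℤ) (f : E ⟶ (shiftFunctor D i).obj K), f = 0) → IsZero K)
    (h3 : ∀ K : D, (∀ E ∈ S, ∀ (i : ℤ) (f : K ⟶ (shiftFunctor D i).obj E), f = 0) → IsZero K)
    (h4 : ∀ E ∈ S, ∀ E' ∈ S, ∀ i : ℤ,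
      Function.Bijective (fun f : E ⟶ (shiftFunctor D i).obj E' => F.map f)) :
    F.Full ∧ F.Faithful := by
  let R := F.rightAdjoint
  let adj : F ⊣ R := Adjunction.ofIsLeftAdjoint F
  let L := F.leftAdjoint
  let adjL : L ⊣ F := Adjunction.ofIsRightAdjoint F
  have hη : ∀ {A X : D} (f : A ⟶ X), f ≫ adj.unit.app X = adj.homEquiv _ _ (F.map f) := by
    intro A X f
    rw [Adjunction.homEquiv_unit]
    exact adj.unit.naturality f
  -- step 1: the unit is invertible on shifts of objects of `S`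
  have st1 : ∀ E' ∈ S, ∀ (i : ℤ) (A : D), Bij F A (E'⟦i⟧) := by
    intro E' hE' i
    have hb : ∀ E ∈ S, ∀ j : ℤ, Bij F (E⟦j⟧) (E'⟦i⟧) := fun E hE j =>
      bij_iso F (Iso.refl _) ((shiftFunctorAdd' D (i - j) j i (by omega)).app E').symm
        (bij_shift F j (h4 E hE E' hE' (i - j)))
    generalize E'⟦i⟧ = X at hb ⊢
    have hcomp : ∀ E ∈ S, ∀ j : ℤ,
        Function.Bijective (fun f : E⟦j⟧ ⟶ X => f ≫ adj.unit.app X) := by
      intro E hE j
      have : (fun f : E⟦j⟧ ⟶ X => f ≫ adj.unit.app X) =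
          (adj.homEquiv (E⟦j⟧) (F.obj X)) ∘ (fun f => F.map f) := funext fun f => hη f
      rw [this]
      exact (adj.homEquiv _ _).bijective.comp (hb E hE j)
    obtain ⟨C, u, w, hT⟩ := distinguished_cocone_triangle (adj.unit.app X)
    have hC : IsZero C := by
      refine h2 C fun E hE m f => ?_
      have hz : ∀ (j : ℤ) (φ : E⟦j⟧ ⟶ C), φ = 0 := by
        intro j φ
        have hw : φ ≫ w = 0 := by
          obtain ⟨h, hh⟩ := (shiftFunctor D (1 : ℤ)).map_surjective
            ((shiftFunctorAdd' D (j - 1) 1 j (by omega)).inv.app E ≫ φ ≫ w)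
          have e0 : w ≫ (adj.unit.app X)⟦(1 : ℤ)⟧' = 0 := comp_distTriang_mor_zero₃₁ _ hT
          have e1 : h ≫ adj.unit.app X = 0 := by
            apply (shiftFunctor D (1 : ℤ)).map_injective
            rw [Functor.map_comp, hh, Category.assoc, Category.assoc, e0]
            simp
          have e2 : h = 0 := (hcomp E hE (j - 1)).1 (by simpa using e1)
          rw [e2, Functor.map_zero] at hh
          exact (cancel_epi ((shiftFunctorAdd' D (j - 1) 1 j (by omega)).inv.app E)).1
            (by rw [← hh, comp_zero])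
        obtain ⟨φ', hφ'⟩ := Triangle.coyoneda_exact₃ _ hT φ hw
        obtain ⟨ψ, hψ⟩ := (hcomp E hE j).2 φ'
        dsimp only at hψ
        have e3 : adj.unit.app X ≫ u = 0 := comp_distTriang_mor_zero₁₂ _ hT
        rw [hφ', ← hψ]
        simp [e3]
      have e := hz (-m) (f⟦-m⟧' ≫ (shiftFunctorCompIsoId D m (-m) (by omega)).hom.app C)
      rw [← zero_comp (f := (shiftFunctorCompIsoId D m (-m) (by omega)).hom.app C), cancel_mono] at e
      exact (shiftFunctor D (-m)).map_injective (by rw [e, Functor.map_zero])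
    have : IsIso (adj.unit.app X) := (Triangle.isZero₃_iff_isIso₁ _ hT).1 hC
    intro A
    have : (fun f : A ⟶ X => F.map f) =
        (adj.homEquiv A (F.obj X)).symm ∘ (fun f => f ≫ adj.unit.app X) := by
      funext f
      simp [hη f]
    unfold Bij
    rw [this]
    exact (adj.homEquiv _ _).symm.bijective.comp
      ⟨fun a b h => (cancel_mono _).1 h, fun g => ⟨g ≫ inv (adj.unit.app X), by simp⟩⟩
  -- step 2: the counit of the left adjoint is invertible
  have hε : ∀ {K Y : D} (f : K ⟶ Y), adjL.counit.app K ≫ f = (adjL.homEquiv _ _).symm (F.map f) := by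
    intro K Y f
    simp [Adjunction.homEquiv_counit]
  have hiso : ∀ K : D, IsIso (adjL.counit.app K) := by
    intro K
    have hcomp : ∀ E ∈ S, ∀ i : ℤ,
        Function.Bijective (fun f : K ⟶ E⟦i⟧ => adjL.counit.app K ≫ f) := by
      intro E hE i
      have : (fun f : K ⟶ E⟦i⟧ => adjL.counit.app K ≫ f) =
          (adjL.homEquiv (F.obj K) (E⟦i⟧)).symm ∘ (fun f => F.map f) := funext fun f => hε f
      rw [this]
      exact (adjL.homEquiv _ _).symm.bijective.comp (st1 E hE i K)
    obtain ⟨C, u, w, hT⟩ := distinguished_cocone_triangle (adjL.counit.app K)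
    refine (Triangle.isZero₃_iff_isIso₁ _ hT).1 (h3 C fun E hE i φ => ?_)
    have e1 : u ≫ φ = 0 := by
      refine (hcomp E hE i).1 ?_
      have e0 : adjL.counit.app K ≫ u = 0 := comp_distTriang_mor_zero₁₂ _ hT
      simpa using congrArg (· ≫ φ) e0
    obtain ⟨φ', hφ'⟩ := Triangle.yoneda_exact₃ _ hT φ e1
    obtain ⟨h, hh⟩ := (shiftFunctor D (1 : ℤ)).map_surjective
      (φ' ≫ (shiftFunctorAdd' D (i - 1) 1 i (by omega)).hom.app E)
    obtain ⟨h', hh'⟩ := (hcomp E hE (i - 1)).2 h
    dsimp only at hh'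
    have e2 : φ' = (adjL.counit.app K)⟦(1 : ℤ)⟧' ≫ h'⟦(1 : ℤ)⟧' ≫
        (shiftFunctorAdd' D (i - 1) 1 i (by omega)).inv.app E := by
      rw [← Functor.map_comp_assoc, hh', hh]
      simp
    have e3 : w ≫ (adjL.counit.app K)⟦(1 : ℤ)⟧' = 0 := comp_distTriang_mor_zero₃₁ _ hT
    have e4 : φ = w ≫ φ' := hφ'
    rw [e4, e2, reassoc_of% e3, zero_comp]
  have : IsIso adjL.counit := NatIso.isIso_of_isIso_app _
  exact ⟨adjL.fullyFaithfulROfIsIsoCounit.full, adjL.fullyFaithfulROfIsIsoCounit.faithful⟩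


end Groth.Agent.S6703
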