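import Groth.Statements.S6707
import Mathlib.Algebra.Homology.DerivedCategory.TStructure
import Mathlib.Algebra.Homology.DerivedCategory.Fractions
import Mathlib.Algebra.Homology.SingleHomology
-- import your own Groth.Agent.* helpers here

set_option autoImplicit false
set_option backward.isDefEq.respectTransparency false
set_option backward.isDefEq.respectTransparency.types false
set_option linter.style.haveILetI false
universe w v u
open CategoryTheory
open DEquiv

namespace Groth.Agent.S6707

open CategoryTheory.Limits in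
/-- Let A be an abelian category in which every object X is the target of an epimorphism N ⟶ X with
Hom(X, N) = 0. Let f : X ⟶ X' be a morphism between bounded objects of D(A) and b an integer with
H^i(X) = 0 for i > b and H^i(X') = 0 for i ≥ b. Then there exist an object N of A and a morphism
N⟦-b⟧ ⟶ X (N placed in degree b) inducing an epimorphism N ⟶ H^b(X), with Hom(H^b(X), N) = 0, and
whose composite with f is zero. -/
theorem result
    {A : Type u} [Category.{v} A] [Abelian A] [HasDerivedCategory.{w} A]
    (hneg : ∀ X : A, ∃ (N : A) (p : N ⟶ X), Epi p ∧ ∀ f : X ⟶ N, f = 0)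
    (X X' : DerivedCategory A) (f : X ⟶ X') (a b a' : ℤ) [X.IsGE a] [X.IsLE b] [X'.IsGE a']
    [X'.IsLE (b - 1)] :
    ∃ (N : A) (g : (DerivedCategory.singleFunctor A b).obj N ⟶ X),
      Epi ((DerivedCategory.homologyFunctor A b).map g) ∧
        (∀ φ : (DerivedCategory.homologyFunctor A b).obj X ⟶ N, φ = 0) ∧ g ≫ f = 0 := by
  -- epimorphisms on top homology
  have epiH : ∀ {P : A} {K : CochainComplex A ℤ} [K.IsStrictlyLE b]
      (c : (CochainComplex.singleFunctor A b).obj P ⟶ K), Epi (c.f b ≫ K.pOpcycles b) → Epi (HomologicalComplex.homologyMap c b) := by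
    intro P K _ c hc
    have e := HomologicalComplex.p_opcyclesMap c b
    rw [← e] at hc
    have hc' : Epi (HomologicalComplex.opcyclesMap c b) := epi_of_epi (((CochainComplex.singleFunctor A b).obj P).pOpcycles b) _
    have : IsIso (K.homologyι b) := K.isIso_homologyι b (b + 1) (by simp) ((K.isZero_of_isStrictlyLE b (b + 1) (by omega)).eq_of_tgt _ _)
    have : IsIso (((CochainComplex.singleFunctor A b).obj P).homologyι b) := ((CochainComplex.singleFunctor A b).obj P).isIso_homologyι b (b + 1) (by simp) (HomologicalComplex.single_obj_d _ _ _ _ _)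
    have e2 := HomologicalComplex.homologyι_naturality c b
    have : Epi (HomologicalComplex.homologyMap c b ≫ K.homologyι b) := by
      rw [e2]
      exact epi_comp _ _
    exact (epi_comp_iff_of_isIso _ _).1 this
  obtain ⟨K, hK, ⟨eK⟩⟩ := DerivedCategory.exists_iso_Q_obj_of_isLE X b
  obtain ⟨L, hL, ⟨eL⟩⟩ := DerivedCategory.exists_iso_Q_obj_of_isLE X' (b - 1)
  let S₁ := (CochainComplex.singleFunctor A b).obj (K.X b)
  let g₀ : S₁ ⟶ K := HomologicalComplex.mkHomFromSingle (𝟙 (K.X b)) (fun j hj => by
    have hj' : b + 1 = j := hj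
    exact (K.isZero_of_isStrictlyLE b j (by omega)).eq_of_tgt _ _)
  haveI : S₁.IsStrictlyLE b := (CochainComplex.isStrictlyLE_iff _ _).2 fun i hi => HomologicalComplex.isZero_single_obj_X _ _ _ _ (by omega)
  obtain ⟨Z, hZ, s, hs, h, hfac⟩ := DerivedCategory.right_fac_of_isStrictlyLE (DerivedCategory.Q.map g₀ ≫ eK.inv ≫ f ≫ eL.hom) b
  have hs' : QuasiIso s := (DerivedCategory.isIso_Q_map_iff_quasiIso _ s).1 hs
  let S₂ := (CochainComplex.singleFunctor A b).obj (Z.X b)
  let g₁ : S₂ ⟶ Z := HomologicalComplex.mkHomFromSingle (𝟙 (Z.X b)) (fun j hj => by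
    have hj' : b + 1 = j := hj
    exact (Z.isZero_of_isStrictlyLE b j (by omega)).eq_of_tgt _ _)
  obtain ⟨N, p, hp, hN⟩ := hneg ((DerivedCategory.homologyFunctor A b).obj X ⊞ Z.X b)
  let g₂ : (CochainComplex.singleFunctor A b).obj N ⟶ S₂ := (CochainComplex.singleFunctor A b).map (p ≫ Limits.biprod.snd)
  have hzero : g₁ ≫ h = 0 := HomologicalComplex.from_single_hom_ext ((L.isZero_of_isStrictlyLE (b - 1) b (by omega)).eq_of_tgt _ _)
  refine ⟨N, DerivedCategory.Q.map (g₂ ≫ g₁ ≫ s ≫ g₀) ≫ eK.inv, ?_, fun φ => ?_, ?_⟩
  · have hep : Epi (HomologicalComplex.homologyMap (g₂ ≫ g₁ ≫ s ≫ g₀) b) := by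
      apply epiH
      have hsf : Epi (s.f b) := by
        have : IsIso (HomologicalComplex.homologyMap s b) := inferInstance
        have h1 : IsIso (Z.homologyι b) := Z.isIso_homologyι b (b + 1) (by simp) ((Z.isZero_of_isStrictlyLE b (b + 1) (by omega)).eq_of_tgt _ _)
        have h2 : IsIso (S₁.homologyι b) := S₁.isIso_homologyι b (b + 1) (by simp) (HomologicalComplex.single_obj_d _ _ _ _ _)
        have h3 : IsIso (S₁.pOpcycles b) := S₁.isIso_pOpcycles (b - 1) b (by simp) (HomologicalComplex.single_obj_d _ _ _ _ _)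
        have e2 := HomologicalComplex.homologyι_naturality s b
        have h4 : IsIso (HomologicalComplex.opcyclesMap s b) := IsIso.of_isIso_fac_left e2.symm
        have e := HomologicalComplex.p_opcyclesMap s b
        have h5 : Epi (s.f b ≫ S₁.pOpcycles b) := by
          rw [← e]
          exact epi_comp _ _
        exact (epi_comp_iff_of_isIso _ _).1 h5
      have hep2 : Epi (g₂.f b) := by
        show Epi ((((CochainComplex.singleFunctor A b).map (p ≫ Limits.biprod.snd))).f b)
        rw [show ((CochainComplex.singleFunctor A b).map (p ≫ Limits.biprod.snd)).f b = _ from HomologicalComplex.single_map_f_self (ComplexShape.up ℤ) b _]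
        infer_instance
      have hep1 : Epi (g₁.f b) := by
        simp only [g₁, HomologicalComplex.mkHomFromSingle_f]
        infer_instance
      have hep0 : Epi (g₀.f b) := by
        simp only [g₀, HomologicalComplex.mkHomFromSingle_f]
        infer_instance
      simp only [HomologicalComplex.comp_f, Category.assoc]
      infer_instance
    have hnat := (DerivedCategory.homologyFunctorFactors A b).hom.naturality (g₂ ≫ g₁ ≫ s ≫ g₀)
    have hQ : Epi ((DerivedCategory.homologyFunctor A b).map (DerivedCategory.Q.map (g₂ ≫ g₁ ≫ s ≫ g₀))) := by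
      have : Epi (((DerivedCategory.Q ⋙ DerivedCategory.homologyFunctor A b).map (g₂ ≫ g₁ ≫ s ≫ g₀)) ≫ (DerivedCategory.homologyFunctorFactors A b).hom.app K) := by
        rw [hnat]
        exact epi_comp' inferInstance hep
      exact (epi_comp_iff_of_isIso _ _).1 this
    rw [Functor.map_comp]
    exact epi_comp' hQ inferInstance
  · have := hN (Limits.biprod.fst ≫ φ)
    rw [← cancel_epi (Limits.biprod.fst : (DerivedCategory.homologyFunctor A b).obj X ⊞ Z.X b ⟶ _)]
    simpa using this
  · have e : DerivedCategory.Q.map s ≫ DerivedCategory.Q.map g₀ ≫ eK.inv ≫ f ≫ eL.hom = DerivedCategory.Q.map h := by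
      rw [hfac, IsIso.hom_inv_id_assoc]
    rw [← cancel_mono eL.hom, Limits.zero_comp, Functor.map_comp, Functor.map_comp, Functor.map_comp]
    simp only [Category.assoc]
    rw [e, ← Functor.map_comp (DerivedCategory.Q) g₁ h, hzero, Functor.map_zero, Limits.comp_zero]

end Groth.Agent.S6707

#print axioms Groth.Agent.S6707.result
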