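import Groth.Statements.S6708
import Mathlib.Tactic.Abel

set_option autoImplicit false
set_option backward.isDefEq.respectTransparency false
set_option backward.defeqAttrib.useBackward true
universe v u
open CategoryTheory
open DEquiv

namespace Groth.Agent.S6708

open CategoryTheory.Limits CategoryTheory.Pretriangulated in
/-- Let D be a pretriangulated category, D' ⊆ D a full triangulated subcategory (given as a property of
objects that is triangulated in Mathlib's sense) and X an object of D. Then the category of arrows E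
⟶ X with E in D' is filtered. -/
theorem result
    {D : Type u} [Category.{v} D] [Preadditive D] [HasZeroObject D] [HasShift D ℤ]
    [∀ n : ℤ, (shiftFunctor D n).Additive] [Pretriangulated D]
    (P : ObjectProperty D) [P.IsTriangulated] (X : D) :
    IsFiltered (CostructuredArrow P.ι X) := by
  haveI : Nonempty (CostructuredArrow P.ι X) := by
    obtain ⟨Z, hZ, hP⟩ := P.exists_prop_of_containsZero
    exact ⟨CostructuredArrow.mk (Y := (⟨Z, hP⟩ : P.FullSubcategory)) (0 : Z ⟶ X)⟩
  refine { nonempty := inferInstance, toIsFilteredOrEmpty := ⟨fun a b => ?_, fun a b f g => ?_⟩ }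
  · -- the sum
    obtain ⟨S, hS, ⟨e⟩⟩ := P.ext_of_isTriangulatedClosed₂' _
      (binaryBiproductTriangle_distinguished a.left.obj b.left.obj) a.left.property b.left.property
    let m : (⟨S, hS⟩ : P.FullSubcategory).obj ⟶ X := e.inv ≫ biprod.desc a.hom b.hom
    refine ⟨CostructuredArrow.mk (Y := (⟨S, hS⟩ : P.FullSubcategory)) m,
      CostructuredArrow.homMk (ObjectProperty.homMk (biprod.inl ≫ e.hom)) ?_,
      CostructuredArrow.homMk (ObjectProperty.homMk (biprod.inr ≫ e.hom)) ?_, trivial⟩
    · show (biprod.inl ≫ e.hom) ≫ e.inv ≫ biprod.desc a.hom b.hom = a.hom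
      simp
    · show (biprod.inr ≫ e.hom) ≫ e.inv ≫ biprod.desc a.hom b.hom = b.hom
      simp
  · -- coequalise through the cone of the difference
    let d : a.left.obj ⟶ b.left.obj := f.left.hom - g.left.hom
    obtain ⟨C, q, r, hT⟩ := distinguished_cocone_triangle d
    obtain ⟨C', hC', ⟨e⟩⟩ := P.ext_of_isTriangulatedClosed₃' _ hT a.left.property b.left.property
    have hd : d ≫ b.hom = 0 := by
      have hf := CostructuredArrow.w f
      have hg := CostructuredArrow.w g
      dsimp at hf hg
      simp [d, hf, hg]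
    obtain ⟨m, hm⟩ := Triangle.yoneda_exact₂ _ hT b.hom hd
    let m' : (⟨C', hC'⟩ : P.FullSubcategory).obj ⟶ X := e.inv ≫ m
    refine ⟨CostructuredArrow.mk (Y := (⟨C', hC'⟩ : P.FullSubcategory)) m',
      CostructuredArrow.homMk (ObjectProperty.homMk (q ≫ e.hom)) ?_, ?_⟩
    · show (q ≫ e.hom) ≫ e.inv ≫ m = b.hom
      rw [Category.assoc, Iso.hom_inv_id_assoc]
      exact hm.symm
    · ext
      show f.left.hom ≫ q ≫ e.hom = g.left.hom ≫ q ≫ e.hom
      have h12 : d ≫ q = 0 := comp_distTriang_mor_zero₁₂ _ hT
      rw [← sub_eq_zero, ← Preadditive.sub_comp, ← Category.assoc]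
      change (d ≫ q) ≫ e.hom = 0
      rw [h12, zero_comp]


end Groth.Agent.S6708
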