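import Groth.Statements.S6712
import Groth.Agent.FlatMor12.IsoLocus
-- import your own Groth.Agent.* helpers here

set_option autoImplicit false
universe u
open CategoryTheory AlgebraicGeometry
open DEquiv

namespace Groth.Agent.S6712

open CategoryTheory.Limits in
/-- Let S be a Noetherian scheme, s ∈ S, and p : X ⟶ Y a morphism over S where X ⟶ S and Y ⟶ S are
proper and X ⟶ S is flat. If the fibre X_s ⟶ Y_s of p is an isomorphism, then there is an open
neighbourhood U of s such that the base change X_U ⟶ Y_U of p is an isomorphism. -/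
theorem result
    {S X Y : Scheme.{u}} [IsNoetherian S] (s : S) (g : X ⟶ S) (h : Y ⟶ S) (p : X ⟶ Y)
    (w : p ≫ h = g) [IsProper g] [IsProper h] [Flat g]
    (hs : IsIso (pullback.map g (S.fromSpecResidueField s) h (S.fromSpecResidueField s) p (𝟙 _)
      (𝟙 _) ((Category.comp_id g).trans w.symm)
      ((Category.comp_id _).trans (Category.id_comp _).symm))) :
    ∃ U : S.Opens, s ∈ U ∧
      IsIso (pullback.map g U.ι h U.ι p (𝟙 _) (𝟙 _) ((Category.comp_id g).trans w.symm)
        ((Category.comp_id _).trans (Category.id_comp _).symm)) := by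
  subst w
  have hlfp : ∀ {Z : Scheme.{u}} (k : Z ⟶ S) [LocallyOfFiniteType k], LocallyOfFinitePresentation k :=
    fun k => inferInstance
  obtain ⟨U, hU, hiso⟩ := Groth.Agent.FlatMor12.exists_isOpen_fibreIso p h
  -- base change along any `j`: comparison of `pullback.map` and `pullback.snd`
  have key : ∀ {T : Scheme.{u}} (j : T ⟶ S) (hw : _) (hw' : _),
      (pullbackRightPullbackFstIso h j p).inv ≫ pullback.snd p (pullback.fst h j) =
        pullback.map (p ≫ h) j h j p (𝟙 _) (𝟙 _) hw hw' := by
    intro T j hw hw'
    rw [Iso.inv_comp_eq]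
    apply pullback.hom_ext
    · rw [Category.assoc, pullback.lift_fst, ← Category.assoc, pullbackRightPullbackFstIso_hom_fst,
        pullback.condition]
    · rw [Category.assoc, pullback.lift_snd, Category.comp_id, pullbackRightPullbackFstIso_hom_snd]
  refine ⟨U, (hU s).2 ?_, ?_⟩
  · rw [← key] at hs
    exact (isIso_comp_left_iff _ _).1 hs
  · rw [← key]
    have : IsIso (pullback.snd p (pullback.fst h U.ι)) := by
      have e : pullback.fst h U.ι = (pullbackRestrictIsoRestrict h U).hom ≫ (h ⁻¹ᵁ U).ι :=
        (pullbackRestrictIsoRestrict_hom_ι h U).symm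
      rw [e, ← pullbackLeftPullbackSndIso_inv_snd_snd p (h ⁻¹ᵁ U).ι (pullbackRestrictIsoRestrict h U).hom]
      have : IsIso (pullback.snd p (h ⁻¹ᵁ U).ι) := by
        rw [← (isPullback_morphismRestrict p (h ⁻¹ᵁ U)).flip.isoPullback_inv_snd]
        infer_instance
      infer_instance
    infer_instance

end Groth.Agent.S6712
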