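import Groth.Statements.S6717
import Groth.Agent.BoxRes17.Surjection
import Groth.Agent.AmpleLib.Relative
-- import your own Groth.Agent.* helpers here

set_option autoImplicit false
set_option backward.isDefEq.respectTransparency false
universe u
open CategoryTheory AlgebraicGeometry
open DEquiv

namespace Groth.Agent.S6717

open CategoryTheory.Limits in
/-- Let R be a commutative ring and X, Y quasi-compact and quasi-separated schemes over R which have the
resolution property. Then for every quasi-coherent O-module F of finite type on X ×_R Y there are a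
finite locally free O_X-module E, a finite locally free O_Y-module G and an epimorphism pr_1^* E ⊗
pr_2^* G ⟶ F. -/
theorem result
    (R : Type u) [CommRing R] (X Y : Scheme.{u}) [X.Over (Spec (.of R))] [Y.Over (Spec (.of R))]
    [CompactSpace X] [QuasiSeparatedSpace X] [CompactSpace Y] [QuasiSeparatedSpace Y]
    (hX : PerfAux.HasResolutionProperty X) (hY : PerfAux.HasResolutionProperty Y)
    (F : (pullback (X ↘ Spec (.of R)) (Y ↘ Spec (.of R))).Modules) (hF : Coh.IsQCoh F) (hF' : CohB1.IsFT F) :
    ∃ (E : X.Modules) (G : Y.Modules), FlatMod.IsFinLocFree E ∧ FlatMod.IsFinLocFree G ∧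
      ∃ π : CohB1.tensorMod
          ((Scheme.Modules.pullback (pullback.fst (X ↘ Spec (.of R)) (Y ↘ Spec (.of R)))).obj E)
          ((Scheme.Modules.pullback (pullback.snd (X ↘ Spec (.of R)) (Y ↘ Spec (.of R)))).obj G) ⟶ F,
        Epi π := by
  haveI := hF
  haveI : QuasiCompact (X ↘ Spec (.of R)) := HasAffineProperty.iff_of_isAffine.mpr (by infer_instance)
  haveI : QuasiCompact (Y ↘ Spec (.of R)) := HasAffineProperty.iff_of_isAffine.mpr (by infer_instance)
  haveI : QuasiSeparated (X ↘ Spec (.of R)) := inferInstance
  haveI : QuasiSeparated (Y ↘ Spec (.of R)) := inferInstance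
  haveI : QuasiSeparatedSpace ↥(Limits.pullback (X ↘ Spec (.of R)) (Y ↘ Spec (.of R))) :=
    quasiSeparatedSpace_of_quasiSeparated (Limits.pullback.fst (X ↘ Spec (.of R)) (Y ↘ Spec (.of R)))
  exact Groth.Agent.BoxRes17.exists_box_epi _ _ (fun U V hU hV =>
    Groth.Agent.AmpleLib.isAffineOpen_fst_inf_snd _ _ (isAffineOpen_top _) hU hV le_top le_top) hX hY F hF'

end Groth.Agent.S6717

#print axioms Groth.Agent.S6717.result
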