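import Groth.Statements.S6718
import Mathlib.LinearAlgebra.Dual.Lemmas
-- import your own Groth.Agent.* helpers here

set_option autoImplicit false
set_option linter.style.haveILetI false
universe w v u
open CategoryTheory
open DEquiv

namespace Groth.Agent.S6718

open CategoryTheory.Limits CategoryTheory.Pretriangulated in
/-- Let k be a field and T a k-linear (pre)triangulated category with dim_k Hom(X, Y) < ∞ for all X, Y.
The following are equivalent: (1) there are a k-linear equivalence S : T ⥤ T and k-linear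
isomorphisms c_{X,Y} : Hom(X, Y) ≅ Hom(Y, S X)^∨ natural in X and in Y; (2) for every object X the
functor Y ↦ Hom(X, Y)^∨ is representable and the functor Y ↦ Hom(Y, X)^∨ is corepresentable, by
k-linear isomorphisms natural in Y. (Here V^∨ is the k-linear dual.) -/
theorem result
    {k : Type w} [Field k]
    {T : Type u} [Category.{v} T] [Preadditive T] [Linear k T] [HasZeroObject T] [HasShift T ℤ]
    [∀ n : ℤ, (shiftFunctor T n).Additive] [∀ n : ℤ, (shiftFunctor T n).Linear k] [Pretriangulated T]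
    [∀ X Y : T, Module.Finite k (X ⟶ Y)] :
    (∃ (S : T ≌ T) (_ : S.functor.Additive) (_ : S.functor.Linear k)
        (c : ∀ X Y : T, (X ⟶ Y) ≃ₗ[k] Module.Dual k (Y ⟶ S.functor.obj X)),
        (∀ (X Y Y' : T) (f : X ⟶ Y) (g : Y ⟶ Y'),
          c X Y' (f ≫ g) = (c X Y f) ∘ₗ Linear.leftComp k (S.functor.obj X) g) ∧
        (∀ (X' X Y : T) (a : X' ⟶ X) (f : X ⟶ Y),
          c X' Y (a ≫ f) = (c X Y f) ∘ₗ Linear.rightComp k Y (S.functor.map a))) ↔
    ((∀ X : T, ∃ (SX : T) (e : ∀ Y : T, (Y ⟶ SX) ≃ₗ[k] Module.Dual k (X ⟶ Y)),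
        ∀ (Y Y' : T) (g : Y' ⟶ Y) (f : Y ⟶ SX),
          e Y' (g ≫ f) = (e Y f) ∘ₗ Linear.rightComp k X g) ∧
      (∀ X : T, ∃ (RX : T) (e : ∀ Y : T, (RX ⟶ Y) ≃ₗ[k] Module.Dual k (Y ⟶ X)),
        ∀ (Y Y' : T) (g : Y ⟶ Y') (f : RX ⟶ Y),
          e Y' (f ≫ g) = (e Y f) ∘ₗ Linear.leftComp k X g)) := by
  constructor
  · rintro ⟨S, _, _, c, h₁, h₂⟩
    refine ⟨fun X => ⟨S.functor.obj X, fun Y => (Module.evalEquiv k _).trans (c X Y).dualMap, fun Y Y' g f => ?_⟩, fun X =>
      ⟨S.inverse.obj X, fun Y => (c _ Y).trans (Linear.homCongr k (Iso.refl Y) (S.counitIso.app X).symm).dualMap, fun Y Y' g f => ?_⟩⟩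
    · ext x
      simp [h₁]
    · ext x
      simp [h₁, Linear.homCongr]
  · rintro ⟨hR, hL⟩
    choose SX e he using hR
    have hnat : ∀ (X Y Y' : T) (g : Y' ⟶ Y) (f : Y ⟶ SX X) (x : X ⟶ Y'), e X Y' (g ≫ f) x = e X Y f (x ≫ g) :=
      fun X Y Y' g f x => LinearMap.congr_fun (he X Y Y' g f) x
    let c : ∀ X Y : T, (X ⟶ Y) ≃ₗ[k] Module.Dual k (Y ⟶ SX X) := fun X Y =>
      (Module.evalEquiv k _).trans (e X Y).dualMap
    have hc : ∀ (X Y : T) (f : X ⟶ Y) (h : Y ⟶ SX X), c X Y f h = e X Y h f := fun _ _ _ _ => rfl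
    let m : ∀ X' X : T, (X' ⟶ X) ≃ₗ[k] (SX X' ⟶ SX X) := fun X' X => (c X' X).trans (e X (SX X')).symm
    have hm : ∀ (X' X Y : T) (u : X' ⟶ X) (h : Y ⟶ SX X') (x : X ⟶ Y),
        e X Y (h ≫ m X' X u) x = e X' Y h (u ≫ x) := fun X' X Y u h x => by
      rw [hnat]
      simp only [m, LinearEquiv.trans_apply, LinearEquiv.apply_symm_apply, hc]
      rw [hnat]
    have sep : ∀ (X Y : T) (p q : Y ⟶ SX X), (∀ x, e X Y p x = e X Y q x) → p = q :=
      fun X Y p q h => (e X Y).injective (LinearMap.ext h)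
    let F : T ⥤ T :=
      { obj := SX
        map := fun {X' X} u => m X' X u
        map_id := fun X => sep _ _ _ _ fun x => by
          rw [← Category.id_comp (m X X (𝟙 X)), hm]
          simp
        map_comp := fun {X'' X' X} u v => sep _ _ _ _ fun x => by
          rw [← Category.id_comp (m X'' X (u ≫ v)), hm, hm, ← Category.id_comp (m X'' X' u), hm, Category.assoc] }
    haveI : F.Additive := { map_add := fun {X Y f g} => map_add (m X Y) f g }
    haveI : F.Linear k := { map_smul := fun {X Y} f r => map_smul (m X Y) r f }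
    haveI : F.Full := ⟨fun {X Y} => (m X Y).surjective⟩
    haveI : F.Faithful := ⟨fun {X Y} => @fun f g h => (m X Y).injective h⟩
    haveI : F.EssSurj := ⟨fun X => by
      obtain ⟨RX, e', he'⟩ := hL X
      let d : ∀ Y : T, (Y ⟶ X) ≃ₗ[k] Module.Dual k (RX ⟶ Y) := fun Y =>
        (Module.evalEquiv k _).trans (e' Y).dualMap
      have hd : ∀ (Y Y' : T) (g : Y' ⟶ Y) (p : Y ⟶ X) (x : RX ⟶ Y'), d Y' (g ≫ p) x = d Y p (x ≫ g) :=
        fun Y Y' g p x => (LinearMap.congr_fun (he' Y' Y g x) p).symm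
      let a := (d (SX RX)).symm (e RX (SX RX) (𝟙 _))
      let b := (e RX X).symm (d X (𝟙 X))
      refine ⟨RX, ⟨⟨a, b, sep _ _ _ _ fun x => ?_, (d X).injective (LinearMap.ext fun x => ?_)⟩⟩⟩
      · rw [hnat]
        simp only [b, LinearEquiv.apply_symm_apply]
        rw [← hd, Category.comp_id]
        exact LinearMap.congr_fun ((d (SX RX)).apply_symm_apply _) x
      · rw [hd]
        refine (LinearMap.congr_fun ((d (SX RX)).apply_symm_apply _) _).trans ?_
        rw [← hnat, Category.comp_id]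
        exact LinearMap.congr_fun ((e RX X).apply_symm_apply _) x⟩
    haveI : F.IsEquivalence := { }
    refine ⟨F.asEquivalence, inferInstanceAs F.Additive, inferInstanceAs (F.Linear k), c, fun X Y Y' f g => ?_, fun X' X Y a f => ?_⟩
    · ext h
      exact (hnat X Y' Y g h f).symm
    · ext h
      exact (hm X' X Y a h f).symm

end Groth.Agent.S6718

#print axioms Groth.Agent.S6718.result
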