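import Groth.Statements.S6720
import Groth.Agent.DQCoh.PointChart17
import Groth.Agent.DQCoh.PscNoeth
import Groth.Agent.DQCoh.PerfectHom
-- import your own Groth.Agent.* helpers here

set_option autoImplicit false
set_option backward.isDefEq.respectTransparency false
universe u
open CategoryTheory AlgebraicGeometry
attribute [local instance] HasDerivedCategory.standard
open DEquiv

namespace Groth.Agent.S6720
open Groth.Agent

/-- Let X be a scheme of finite type over a field k which is regular, x ∈ X a closed point, O_x the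
skyscraper sheaf at x with value κ(x), and K a perfect object of D(O_X). If Hom(O_x, K⟦i⟧) = 0 for
all i ∈ ℤ, then K is zero on an open neighbourhood of x; likewise if Hom(K, O_x⟦i⟧) = 0 for all i ∈
ℤ. (K zero on U is expressed as: no cohomology sheaf of K has a point of U in its support.) -/
theorem result
    (k : Type u) [Field k] (X : Scheme.{u}) [X.Over (Spec (.of k))]
    [LocallyOfFiniteType (X ↘ Spec (.of k))] [CompactSpace X]
    (hreg : Models.IsRegularScheme X) (x : X) (hx : IsClosed ({x} : Set X))
    (K : DCoh.D X) (hK : DCoh.IsPerfect K) :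
    ((∀ (i : ℤ) (φ : DCoh.inD X ((Coh.push (X.fromSpecResidueField x)).obj (Coh.structureModule _)) ⟶ (shiftFunctor (DCoh.D X) i).obj K), φ = 0) →
      ∃ U : X.Opens, x ∈ U ∧ ∀ (i : ℤ) (y : X), y ∈ U → y ∉ CohB1.support (DCoh.HD K i)) ∧
    ((∀ (i : ℤ) (φ : K ⟶ (shiftFunctor (DCoh.D X) i).obj (DCoh.inD X ((Coh.push (X.fromSpecResidueField x)).obj (Coh.structureModule _)))), φ = 0) →
      ∃ U : X.Opens, x ∈ U ∧ ∀ (i : ℤ) (y : X), y ∈ U → y ∉ CohB1.support (DCoh.HD K i)) := by
    haveI : IsLocallyNoetherian X := LocallyOfFiniteType.isLocallyNoetherian (X ↘ Spec (.of k))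
    obtain ⟨c⟩ := DQCoh.PointChart17.nonempty_chart hx hK
    constructor
    · intro h
      haveI := c.maximal
      exact c.exists_nhd_zero fun i => DQCoh.PointAlg17.killed_homology c.E c.outside c.proj (c.van_of_hom hx h) i
    · intro h
      have hq : DCoh.IsQCohD K := DQCoh.isQCohD_of_psc fun m => DQCoh.psc_of_perfect hK m
      have hcoh : DCoh.IsCohD K := fun i => DQCoh.isCoh_HD_of_psc K hq i (DQCoh.psc_of_perfect hK i) i le_rfl
      haveI := DCat.PullPerf.preservesFiniteLimits_restrict c.j
      haveI : ∀ (U : Scheme.{u}) (j : U ⟶ X) [IsOpenImmersion j], CategoryTheory.Limits.PreservesFiniteLimits (Scheme.Modules.restrictFunctor j) :=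
        fun _ j _ => DCat.PullPerf.preservesFiniteLimits_restrict j
      haveI : ∀ R : CommRingCat.{u}, CategoryTheory.Limits.PreservesFiniteLimits (tilde.functor R) := AffSchLib.preservesFiniteLimits_tilde
      obtain ⟨top, htop⟩ := DQCoh.exists_isLE_perfect K hK
      refine c.exists_nhd_zero fun i => fun v => ?_
      have hx' : x ∉ CohB1.support (DCoh.HD K i) :=
        (DCat.PointHom.main x hx K hcoh top (i - 1)).2 (fun i' _ φ => h (-i') φ) i (by omega)
      have hy : c.y ∉ Module.support c.A (Dual.HD c.A (DerivedCategory.Q.obj c.E) i) := fun hm =>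
        hx' (c.hy ▸ not_subsingleton_iff_nontrivial.2 ((Dual22Lib.nontrivial_stalk_iff c.j c.eK c.y i).2 hm))
      exact Module.notMem_support_iff'.1 hy v

end Groth.Agent.S6720



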