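import Groth.Statements.S6721
import Groth.Agent.ExtDim14.Main
-- import your own Groth.Agent.* helpers here

set_option autoImplicit false
universe u
open CategoryTheory AlgebraicGeometry
attribute [local instance] HasDerivedCategory.standard
open DEquiv

namespace Groth.Agent.S6721

attribute [local instance] HasDerivedCategory.standard
set_option backward.isDefEq.respectTransparency false
open CategoryTheory CategoryTheory.Limits DerivedCategory Pretriangulated

/-- Let X be a Noetherian scheme all of whose local rings are regular and whose underlying space has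
Krull dimension d. Let K be a bounded object of D(O_X) with coherent cohomology sheaves and a ∈ ℤ
with H^i(K) = 0 for a < i < a + d. Then the connecting morphism τ_{≥ a+d} K ⟶ (τ_{< a+d} K)⟦1⟧ of
the truncation triangle vanishes (note τ_{< a+d} K = τ_{≤ a} K here), so K decomposes as τ_{≤ a} K ⊕
τ_{≥ a+d} K. -/
theorem result
    (X : Scheme.{u}) [IsNoetherian X] (hreg : Models.IsRegularScheme X) (d : ℕ)
    (hd : topologicalKrullDim X = d) (K : DCoh.D X) (hK : DCoh.IsCohD K) (lo hi : ℤ)
    [DerivedCategory.IsGE K lo] [DerivedCategory.IsLE K hi] (a : ℤ)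
    (hgap : ∀ i : ℤ, a < i → i < a + d → Limits.IsZero (DCoh.HD K i)) :
    (DerivedCategory.TStructure.t.truncGEδLT (a + d)).app K = 0 := by
  let t := DerivedCategory.TStructure.t (C := X.Modules)
  let P := (t.truncLT (a + d)).obj K
  let Q := (t.truncGE (a + d)).obj K
  let T := (t.triangleLTGE (a + d)).obj K
  have hT : T ∈ distTriang (DCoh.D X) := t.triangleLTGE_distinguished (a + d) K
  have hPle : P.IsLE (a + d - 1) := t.isLE_truncLT_obj K (a + d) (a + d - 1) (by omega)
  have hPQ : ∀ i, a + d ≤ i → IsIso ((homologyFunctor X.Modules i).map T.mor₂) := fun i hi => by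
    haveI := hPle
    haveI : Epi ((homologyFunctor X.Modules i).map T.mor₂) :=
      (HomologySequence.epi_homologyMap_mor₂_iff T hT i (i + 1) rfl).2
        ((isZero_of_isLE P (a + d - 1) (i + 1) (by omega)).eq_of_tgt _ _)
    haveI : Mono ((homologyFunctor X.Modules i).map T.mor₂) :=
      (HomologySequence.mono_homologyMap_mor₂_iff T hT i).2
        ((isZero_of_isLE P (a + d - 1) i (by omega)).eq_of_src _ _)
    exact isIso_of_mono_of_epi _
  haveI hQge : Q.IsGE (a + d) := inferInstanceAs (t.IsGE ((t.truncGE (a + d)).obj K) (a + d))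
  have hQc : DCoh.IsCohD Q := fun i => by
    obtain hi | hi := lt_or_ge i (a + d)
    · exact Groth.Agent.Coherent.isCoh_of_isZero (isZero_of_isGE Q (a + d) i hi)
    · haveI := hPQ i hi
      exact Groth.Agent.Coherent.isCoh_iso (asIso ((homologyFunctor X.Modules i).map T.mor₂)) (hK i)
  have hQle : Q.IsLE hi := (DerivedCategory.isLE_iff _ _).2 fun i hi' => by
    obtain h | h := lt_or_ge i (a + d)
    · exact isZero_of_isGE Q (a + d) i h
    · haveI := hPQ i h
      exact (isZero_of_isLE K hi i hi').of_iso (asIso ((homologyFunctor X.Modules i).map T.mor₂)).symm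
  have hPc : DCoh.IsCohD P := Groth.Agent.DQCoh.isCohD_truncLT K hK (a + d)
  haveI hPge : P.IsGE lo := inferInstanceAs (t.IsGE ((t.truncLT (a + d)).obj K) lo)
  have hPa : P.IsLE a := (DerivedCategory.isLE_iff _ _).2 fun i hi' => by
    obtain h | h := lt_or_ge i (a + d)
    · haveI := Groth.Agent.DCat.mono_homology_truncLTι K (a + d) i
      exact IsZero.of_mono ((homologyFunctor X.Modules i).map ((t.truncLTι (a + d)).app K)) (hgap i hi' h)
    · exact isZero_of_isLE P (a + d - 1) i (by omega)
  let L := (shiftFunctor (DCoh.D X) (1 : ℤ)).obj P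
  have hLc : DCoh.IsCohD L := fun i =>
    Groth.Agent.Coherent.isCoh_iso (((homologyFunctor X.Modules 0).shiftIso 1 i (i + 1) (by omega)).app P).symm (hPc (i + 1))
  have hLge : L.IsGE (lo - 1) := by
    haveI : t.IsGE P lo := hPge
    exact t.isGE_shift P lo 1 (lo - 1) (by omega)
  have hLle : L.IsLE (a - 1) := by
    haveI : t.IsLE P a := hPa
    exact t.isLE_shift P a 1 (a - 1) (by omega)
  exact Groth.Agent.ExtDim14.eq_zero_bounded hreg d hd.le Q L a hi (lo - 1) hQc hLc hQge hQle hLge hLle _

end Groth.Agent.S6721
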