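import Groth.Statements.S6731
import Mathlib.LinearAlgebra.Dual.Lemmas
-- import your own Groth.Agent.* helpers here

set_option autoImplicit false
universe w v u
open CategoryTheory
open DEquiv

namespace Groth.Agent.S6731

open CategoryTheory.Limits CategoryTheory.Pretriangulated in
/-- Let k be a field and T a k-linear triangulated category with dim_k Hom(X, Y) < ∞ for all X, Y. Let
(S, c) and (S', c') be Serre functors: k-linear equivalences T ⥤ T with k-linear isomorphisms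
c_{X,Y} : Hom(X, Y) ≅ Hom(Y, S X)^∨ natural in X and Y (likewise c'). Then there is a unique
isomorphism of functors φ : S ≅ S' compatible with c and c', i.e. c_{X,Y}(f) is c'_{X,Y}(f) composed
with postcomposition by φ_X. -/
theorem result
    {k : Type w} [Field k]
    {T : Type u} [Category.{v} T] [Preadditive T] [Linear k T] [HasZeroObject T] [HasShift T ℤ]
    [∀ n : ℤ, (shiftFunctor T n).Additive] [∀ n : ℤ, (shiftFunctor T n).Linear k] [Pretriangulated T]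
    [IsTriangulated T] [∀ X Y : T, Module.Finite k (X ⟶ Y)]
    (S : T ≌ T) [S.functor.Additive] [S.functor.Linear k]
    (c : ∀ X Y : T, (X ⟶ Y) ≃ₗ[k] Module.Dual k (Y ⟶ S.functor.obj X))
    (hc₁ : ∀ (X Y Y' : T) (f : X ⟶ Y) (g : Y ⟶ Y'),
      c X Y' (f ≫ g) = (c X Y f) ∘ₗ Linear.leftComp k (S.functor.obj X) g)
    (hc₂ : ∀ (X' X Y : T) (a : X' ⟶ X) (f : X ⟶ Y),
      c X' Y (a ≫ f) = (c X Y f) ∘ₗ Linear.rightComp k Y (S.functor.map a))
    (S' : T ≌ T) [S'.functor.Additive] [S'.functor.Linear k]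
    (c' : ∀ X Y : T, (X ⟶ Y) ≃ₗ[k] Module.Dual k (Y ⟶ S'.functor.obj X))
    (hc'₁ : ∀ (X Y Y' : T) (f : X ⟶ Y) (g : Y ⟶ Y'),
      c' X Y' (f ≫ g) = (c' X Y f) ∘ₗ Linear.leftComp k (S'.functor.obj X) g)
    (hc'₂ : ∀ (X' X Y : T) (a : X' ⟶ X) (f : X ⟶ Y),
      c' X' Y (a ≫ f) = (c' X Y f) ∘ₗ Linear.rightComp k Y (S'.functor.map a)) :
    ∃! φ : S.functor ≅ S'.functor, ∀ (X Y : T) (f : X ⟶ Y),
      c X Y f = (c' X Y f) ∘ₗ Linear.rightComp k Y (φ.hom.app X) := by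
  have sep : ∀ (S : T ⥤ T) (c : ∀ X Y : T, (X ⟶ Y) ≃ₗ[k] Module.Dual k (Y ⟶ S.obj X)) (X Y : T)
      (p q : Y ⟶ S.obj X), (∀ f : X ⟶ Y, c X Y f p = c X Y f q) → p = q := fun S c X Y p q h => by
    rw [← sub_eq_zero, ← Module.forall_dual_apply_eq_zero_iff k]
    intro l
    obtain ⟨f, rfl⟩ := (c X Y).surjective l
    rw [map_sub, h f, sub_self]
  have comp : ∀ (S S' : T ⥤ T) (c : ∀ X Y : T, (X ⟶ Y) ≃ₗ[k] Module.Dual k (Y ⟶ S.obj X))
      (c' : ∀ X Y : T, (X ⟶ Y) ≃ₗ[k] Module.Dual k (Y ⟶ S'.obj X))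
      (_ : ∀ (X Y Y' : T) (f : X ⟶ Y) (g : Y ⟶ Y'), c X Y' (f ≫ g) = (c X Y f) ∘ₗ Linear.leftComp k (S.obj X) g)
      (_ : ∀ (X Y Y' : T) (f : X ⟶ Y) (g : Y ⟶ Y'), c' X Y' (f ≫ g) = (c' X Y f) ∘ₗ Linear.leftComp k (S'.obj X) g)
      (X : T), ∃ a : S.obj X ⟶ S'.obj X, ∀ (Y : T) (f : X ⟶ Y) (h : Y ⟶ S.obj X), c' X Y f (h ≫ a) = c X Y f h := by
    intro S S' c c' h₁ h₂ X
    let l : Module.Dual k (Module.Dual k (S.obj X ⟶ S'.obj X)) :=
      (LinearMap.applyₗ (𝟙 (S.obj X))) ∘ₗ (c X (S.obj X)).toLinearMap ∘ₗ (c' X (S.obj X)).symm.toLinearMap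
    refine ⟨(Module.evalEquiv k _).symm l, fun Y f h => ?_⟩
    let p := (Module.evalEquiv k _).symm l
    have e : c' X (S.obj X) (f ≫ h) p = l (c' X (S.obj X) (f ≫ h)) :=
      Module.apply_evalEquiv_symm_apply k _ (c' X (S.obj X) (f ≫ h)) l
    have e1 : c X (S.obj X) (f ≫ h) (𝟙 _) = c X Y f h :=
      (LinearMap.congr_fun (h₁ X Y _ f h) (𝟙 _)).trans (congrArg (c X Y f) (Category.comp_id h))
    have e2 : c' X (S.obj X) (f ≫ h) p = c' X Y f (h ≫ p) := LinearMap.congr_fun (h₂ X Y _ f h) p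
    rw [← e2, e, ← e1]
    simp [l]
  choose a ha using comp S.functor S'.functor c c' hc₁ hc'₁
  choose b hb using comp S'.functor S.functor c' c hc'₁ hc₁
  have hab : ∀ X, a X ≫ b X = 𝟙 _ := fun X => sep _ c X _ _ _ fun f => by
    rw [hb, ← ha X _ f (𝟙 _), Category.id_comp]
  have hba : ∀ X, b X ≫ a X = 𝟙 _ := fun X => sep _ c' X _ _ _ fun f => by
    rw [ha, ← hb X _ f (𝟙 _), Category.id_comp]
  refine ⟨NatIso.ofComponents (fun X => ⟨a X, b X, hab X, hba X⟩) (fun {X' X} u => ?_), fun X Y f => ?_, fun φ hφ => ?_⟩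
  · refine sep _ c' X _ _ _ fun f => ?_
    have e1 := LinearMap.congr_fun (hc₂ X' X _ u f) (𝟙 _)
    have e2 := LinearMap.congr_fun (hc'₂ X' X _ u f) (a X')
    simp at e1 e2
    show c' X _ f (S.functor.map u ≫ a X) = c' X _ f (a X' ≫ S'.functor.map u)
    rw [ha, ← e1, ← e2, ← ha X' _ (u ≫ f) (𝟙 _), Category.id_comp]
  · ext h
    simpa using (ha X Y f h).symm
  · ext X
    refine sep _ c' X _ _ _ fun f => ?_
    have e := LinearMap.congr_fun (hφ X _ f) (𝟙 _)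
    simp at e
    rw [← e]
    simpa using (ha X _ f (𝟙 _)).symm

end Groth.Agent.S6731

#print axioms Groth.Agent.S6731.result
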