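import Groth.Statements.S6741
import Groth.Agent.DQCoh.DualChart17
import Groth.Agent.CAlgH3.RGam.PerfDual
import Groth.Agent.DQCoh.PscFinite
-- import your own Groth.Agent.* helpers here

set_option autoImplicit false
set_option backward.isDefEq.respectTransparency false
universe u
open CategoryTheory AlgebraicGeometry
attribute [local instance] HasDerivedCategory.standard
open DEquiv

namespace Groth.Agent.S6741
open Groth.Agent

/-- Let X be a scheme of finite type over a field k which is regular, x ∈ X a closed point, O_x the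
skyscraper sheaf at x with value κ(x), and K a perfect object of D(O_X), given by a complex E of
O_X-modules; the derived functors - ⊗^L E and its right adjoint RHom(E, -) are assumed to exist
(instance binders), and K^∨ = RHom(E, O_X). If Hom(K, O_x⟦i⟧) = 0 then H^i(K^∨) vanishes on an open
neighbourhood of x (no point of it lies in the support). -/
theorem result
    (k : Type u) [Field k] (X : Scheme.{u}) [X.Over (Spec (.of k))]
    [LocallyOfFiniteType (X ↘ Spec (.of k))] [CompactSpace X]
    (hreg : Models.IsRegularScheme X) (x : X) (hx : IsClosed ({x} : Set X))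
    (E : CochainComplex X.Modules ℤ) (hK : DCoh.IsPerfect (DCoh.toD X E))
    [DCoh.HasLTensorCx E] [DCoh.HasRSheafHom E] (i : ℤ)
    (h : ∀ φ : DCoh.toD X E ⟶ (shiftFunctor (DCoh.D X) i).obj (DCoh.inD X ((Coh.push (X.fromSpecResidueField x)).obj (Coh.structureModule _))), φ = 0) :
    ∃ U : X.Opens, x ∈ U ∧ ∀ y : X, y ∈ U →
      y ∉ CohB1.support (DCoh.HD ((DCoh.RSheafHom E).obj (DCoh.inD X (Coh.structureModule X))) i) := by
    haveI : IsLocallyNoetherian X := LocallyOfFiniteType.isLocallyNoetherian (X ↘ Spec (.of k))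
    obtain ⟨c⟩ := DQCoh.PointChart17.nonempty_chart hx hK
    haveI := c.maximal
    haveI : DTen.HasLTen c.A := DCat.hasLTen c.A
    haveI : DTen.HasRHom c.A := DCat.hasRHom
    haveI := DCat.PullPerf.preservesFiniteLimits_restrict c.j
    let E' := ((Scheme.Modules.restrictFunctor c.j).mapHomologicalComplex (ComplexShape.up ℤ)).obj E
    haveI := DCat.LTensorSheaf.hasLTensorCx E'
    haveI := DCat.RHomExist.hasRSheafHom E'
    obtain ⟨r⟩ := DCat.ShriekTensor.nonempty_restrict_RHom_of_eq c.j E E' rfl (DCoh.restrictD c.j) rfl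
    obtain ⟨eO⟩ := DQCoh.nonempty_rd_structure (CommRingCat.of c.A) c.j
    replace eO := eO.symm
    obtain ⟨t⟩ := DQCoh.DualChart17.nonempty_RH_tilde c.A (DerivedCategory.Q.obj c.E)
      ⟨c.E, c.a, c.b, c.outside, c.proj, ⟨Iso.refl _⟩⟩ (Dual.inD c.A c.A) E'
      (((Scheme.Modules.restrictFunctor c.j).mapDerivedCategoryFactors.app E).symm ≪≫ c.eK)
    haveI := DCat.isKProjective_of_vanishesAbove c.E c.b (fun i hi => c.outside i (Or.inr hi)) (fun i => (c.proj i).2)
    haveI := Functor.hasPointwiseRightDerivedFunctor_of_inverts (DRing.homCxQ c.E) (DCat.homCxQ_inverts c.E)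
    haveI : DRing.HasRHomCx c.E := inferInstance
    obtain ⟨β⟩ := CAlgH3.RGam.nonempty_RHomCx_iso_RHomR c.E
    let L := (CochainComplex.singleFunctor (ModuleCat.{u} c.A) 0).obj (ModuleCat.of c.A c.A)
    haveI := DCat.isIso_homCxUnit c.E L
    let eQ : DerivedCategory.Q.obj (DRing.homCx c.E L) ≅ (DTen.RHomR c.A (DerivedCategory.Q.obj c.E)).obj (Dual.inD c.A c.A) :=
      asIso (((DRing.homCxQ c.E).totalRightDerivedUnit DerivedCategory.Q
        (HomologicalComplex.quasiIso (ModuleCat.{u} c.A) (ComplexShape.up ℤ))).app L) ≪≫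
        (DRing.RHomCx c.E).mapIso ((DerivedCategory.singleFunctorIsoCompQ (ModuleCat.{u} c.A) 0).app _).symm ≪≫ β.app _
    obtain ⟨P, a', b', hP0, hP1, ⟨eP⟩⟩ := CAlgH3.RGam.isPerfect_homCx c.outside c.proj
    haveI : Module.Finite c.A ((DRing.homCx c.E L).homology i) := by
      haveI : Module.Finite c.A ((HomologicalComplex.homologyFunctor (ModuleCat.{u} c.A) (ComplexShape.up ℤ) i).obj P) :=
        DQCoh.PointChart17.finite_homology P hP1 i
      exact Module.Finite.equiv (((DerivedCategory.homologyFunctorFactors (ModuleCat.{u} c.A) i).app P).symm ≪≫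
        (DerivedCategory.homologyFunctor (ModuleCat.{u} c.A) i).mapIso eP ≪≫
        (DerivedCategory.homologyFunctorFactors (ModuleCat.{u} c.A) i).app (DRing.homCx c.E L)).toLinearEquiv
    let eH : (DRing.homCx c.E L).homology i ≅ (DerivedCategory.homologyFunctor (ModuleCat.{u} c.A) i).obj
        ((DTen.RHomR c.A (DerivedCategory.Q.obj c.E)).obj (Dual.inD c.A c.A)) :=
      ((DerivedCategory.homologyFunctorFactors (ModuleCat.{u} c.A) i).app (DRing.homCx c.E L)).symm ≪≫
        (DerivedCategory.homologyFunctor (ModuleCat.{u} c.A) i).mapIso eQ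
    haveI := Module.Finite.equiv eH.toLinearEquiv
    have hk : DQCoh.PointAlg17.Killed c.y.asIdeal ((DerivedCategory.homologyFunctor (ModuleCat.{u} c.A) i).obj
        ((DTen.RHomR c.A (DerivedCategory.Q.obj c.E)).obj (Dual.inD c.A c.A))) := fun v => by
      obtain ⟨s, hs, hv⟩ := DQCoh.PointAlg17.killed_homology_dual c.E c.outside c.proj i (c.coVan_of_hom hx i h)
        (eH.toLinearEquiv.symm v)
      refine ⟨s, hs, eH.toLinearEquiv.symm.injective ?_⟩
      rw [map_smul, hv, map_zero]
    obtain ⟨U, hxU, -, hU⟩ := DQCoh.PointChart17.exists_nhd c.j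
      (r.app (DCoh.inD X (Coh.structureModule X)) ≪≫ (DCoh.RSheafHom E').mapIso eO ≪≫ t) c.y i hk
    exact ⟨U, c.hy ▸ hxU, hU⟩

end Groth.Agent.S6741


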