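import Groth.Statements.S6733
import Groth.Agent.S6741
import Groth.Agent.DQCoh.PointChart17
import Groth.Agent.DQCoh.PointDepth17
import Groth.Agent.DQCoh.PointFibre17
-- import your own Groth.Agent.* helpers here

set_option autoImplicit false
set_option backward.isDefEq.respectTransparency false
universe u
open CategoryTheory AlgebraicGeometry
attribute [local instance] HasDerivedCategory.standard
open DEquiv

namespace Groth.Agent.S6733
open Groth.Agent

/-- Let X be a scheme of finite type over a field k which is regular, x ∈ X a closed point, O_x the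
skyscraper sheaf at x with value κ(x), d = dim O_{X,x}, and K a perfect object of D(O_X); the
derived functors - ⊗^L O_x and RΓ(X, -) are assumed to exist (instance binders). (5) If H^i(X, K ⊗^L
O_x) = 0 then H^i(K) vanishes on an open neighbourhood of x. (6) If H^i(X, K ⊗^L O_x) = 0 for all i
then every cohomology sheaf of K vanishes on an open neighbourhood of x. (1) If Hom(O_x, K⟦i⟧) = 0
then H^{i-d}(K) vanishes on an open neighbourhood of x. (Vanishing on U: no point of U lies in the
support.) -/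
theorem result
    (k : Type u) [Field k] (X : Scheme.{u}) [X.Over (Spec (.of k))]
    [LocallyOfFiniteType (X ↘ Spec (.of k))] [CompactSpace X]
    (hreg : Models.IsRegularScheme X) (x : X) (hx : IsClosed ({x} : Set X))
    (d : ℕ) (hd : ringKrullDim (X.presheaf.stalk x) = d)
    (K : DCoh.D X) (hK : DCoh.IsPerfect K)
    [DCoh.HasLTensorMod ((Coh.push (X.fromSpecResidueField x)).obj (Coh.structureModule _))] [DCoh.HasRΓ X] :
    (∀ i : ℤ, Limits.IsZero ((DerivedCategory.homologyFunctor AddCommGrpCat.{u} i).obj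
          ((DCoh.RΓ X).obj ((DCoh.LTensorMod ((Coh.push (X.fromSpecResidueField x)).obj (Coh.structureModule _))).obj K))) →
      ∃ U : X.Opens, x ∈ U ∧ ∀ y : X, y ∈ U → y ∉ CohB1.support (DCoh.HD K i)) ∧
    ((∀ i : ℤ, Limits.IsZero ((DerivedCategory.homologyFunctor AddCommGrpCat.{u} i).obj
          ((DCoh.RΓ X).obj ((DCoh.LTensorMod ((Coh.push (X.fromSpecResidueField x)).obj (Coh.structureModule _))).obj K)))) →
      ∃ U : X.Opens, x ∈ U ∧ ∀ (i : ℤ) (y : X), y ∈ U → y ∉ CohB1.support (DCoh.HD K i)) ∧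
    (∀ i : ℤ, (∀ φ : DCoh.inD X ((Coh.push (X.fromSpecResidueField x)).obj (Coh.structureModule _)) ⟶ (shiftFunctor (DCoh.D X) i).obj K, φ = 0) →
      ∃ U : X.Opens, x ∈ U ∧ ∀ y : X, y ∈ U → y ∉ CohB1.support (DCoh.HD K (i - d))) := by
  haveI : IsLocallyNoetherian X := LocallyOfFiniteType.isLocallyNoetherian (X ↘ Spec (.of k))
  haveI : ∀ (U : Scheme.{u}) (j : U ⟶ X) [IsOpenImmersion j], CategoryTheory.Limits.PreservesFiniteLimits (Scheme.Modules.restrictFunctor j) :=
    fun _ j _ => DCat.PullPerf.preservesFiniteLimits_restrict j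
  haveI : ∀ R : CommRingCat.{u}, CategoryTheory.Limits.PreservesFiniteLimits (tilde.functor R) := AffSchLib.preservesFiniteLimits_tilde
  obtain ⟨c⟩ := DQCoh.PointChart17.nonempty_chart hx hK
  haveI := c.maximal
  let O₀ := (Coh.push (X.fromSpecResidueField x)).obj (Coh.structureModule _)
  have five : ∀ i : ℤ, Limits.IsZero ((DerivedCategory.homologyFunctor AddCommGrpCat.{u} i).obj
        ((DCoh.RΓ X).obj ((DCoh.LTensorMod O₀).obj K))) →
      ∃ U : X.Opens, x ∈ U ∧ ∀ y : X, y ∈ U → y ∉ CohB1.support (DCoh.HD K i) := by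
    intro i h
    obtain ⟨D, hLD, hRD, hp, hz, ⟨e⟩⟩ := DQCoh.PointFibre17.exists_dual_hom_zero O₀ K hK i h
    obtain ⟨U, hxU, hU⟩ := @Groth.Agent.S6741.result k _ X _ _ _ hreg x hx D hp hLD hRD i hz
    refine ⟨U, hxU, fun y hy hs => hU y hy ?_⟩
    let φ := (DerSch.stalkFunctor X y).mapIso ((DerivedCategory.homologyFunctor X.Modules i).mapIso e)
    exact fun hsub => hs (@Equiv.subsingleton _ _ φ.toLinearEquiv.toEquiv.symm hsub)
  refine ⟨five, fun h => ?_, fun i h => ?_⟩
  · refine c.exists_nhd_zero fun i v => ?_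
    obtain ⟨U, hxU, hU⟩ := five i (h i)
    have hy : c.y ∉ Module.support c.A (Dual.HD c.A (DerivedCategory.Q.obj c.E) i) := fun hm =>
      hU x hxU (c.hy ▸ not_subsingleton_iff_nontrivial.2 ((Dual22Lib.nontrivial_stalk_iff c.j c.eK c.y i).2 hm))
    exact Module.notMem_support_iff'.1 hy v
  · haveI : IsRegularLocalRing (X.presheaf.stalk (c.j c.y)) := hreg _
    haveI : IsRegularLocalRing (Localization.AtPrime c.y.asIdeal) :=
      IsRegularLocalRing.of_ringEquiv (Dual22Lib.chartRingEquiv c.j c.y)
    have hdim : ringKrullDim (Localization.AtPrime c.y.asIdeal) = d := by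
      rw [← ringKrullDim_eq_of_ringEquiv (Dual22Lib.chartRingEquiv c.j c.y), c.hy, hd]
    haveI : Module.Finite c.A ((DerivedCategory.homologyFunctor (ModuleCat.{u} c.A) (i - d)).obj (DerivedCategory.Q.obj c.E)) :=
      haveI : Module.Finite c.A ((HomologicalComplex.homologyFunctor (ModuleCat.{u} c.A) (ComplexShape.up ℤ) (i - d)).obj c.E) :=
        DQCoh.PointChart17.finite_homology c.E c.proj (i - d)
      Module.Finite.equiv ((DerivedCategory.homologyFunctorFactors (ModuleCat.{u} c.A) (i - d)).app c.E).symm.toLinearEquiv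
    obtain ⟨U, hxU, -, hU⟩ := DQCoh.PointChart17.exists_nhd c.j c.eK c.y (i - d)
      (DQCoh.PointDepth17.killed_homology_depth hdim c.E c.outside c.proj i (c.killed_of_hom hx i h))
    exact ⟨U, c.hy ▸ hxU, hU⟩

end Groth.Agent.S6733

#print axioms Groth.Agent.S6733.result
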