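import Groth.Statements.S6735
import Groth.Agent.BoxRes17.Generator
-- import your own Groth.Agent.* helpers here

set_option autoImplicit false
set_option backward.isDefEq.respectTransparency false
universe u
open CategoryTheory AlgebraicGeometry
attribute [local instance] HasDerivedCategory.standard
open DEquiv

namespace Groth.Agent.S6735

open CategoryTheory.Limits in
/-- Let X be a scheme proper and smooth over a field k. Then D_perf(O_X) has a strong generator: there
exist a perfect object E of D(O_X) and n such that every perfect object of D(O_X) lies in ⟨E⟩_n, the
objects obtained from E by shifts, finite direct sums, direct summands and at most n extensions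
(Mathlib's iterated triangulated envelope, computed in D(O_X); all its members are perfect). -/
theorem result
    (k : Type u) [Field k] (X : Scheme.{u}) [X.Over (Spec (.of k))] [IsProper (X ↘ Spec (.of k))] [Smooth (X ↘ Spec (.of k))] :
    ∃ (E : DCoh.D X) (n : ℕ), DCoh.IsPerfect E ∧
      ∀ K : DCoh.D X, DCoh.IsPerfect K →
        ObjectProperty.triangEnvelopeIter (ObjectProperty.ofObj (fun _ : PUnit.{u + 1} => E)) n K := by
  exact Groth.Agent.BoxRes17.exists_strong_generator k X (X ↘ Spec (.of k))

end Groth.Agent.S6735

#print axioms Groth.Agent.S6735.result
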