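import Groth.Statements.S6972
import Groth.Agent.DRingLib.LiftProj
import Groth.Agent.DRingLib.PCRes
import Mathlib.RingTheory.LocalRing.Module

set_option autoImplicit false
set_option backward.isDefEq.respectTransparency false
set_option backward.defeqAttrib.useBackward true
universe u
open CategoryTheory CategoryTheory.Limits
attribute [local instance] HasDerivedCategory.standard
open DRing

namespace Groth.Agent.S6972

open HomologicalComplex IsLocalRing

lemma homotopic_of_Q_eq {R : Type u} [CommRing R] {P L : DRing.Cx R} [P.IsKProjective] {f g : P ⟶ L}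
    (h : DerivedCategory.Q.map f = DerivedCategory.Q.map g) : Nonempty (Homotopy f g) := by
  refine ⟨HomotopyCategory.homotopyOfEq _ _ ((CochainComplex.IsKProjective.Qh_map_bijective P _).1 ?_)⟩
  rw [← cancel_mono ((DerivedCategory.quotientCompQhIso (ModuleCat.{u} R)).hom.app L)]
  refine ((DerivedCategory.quotientCompQhIso (ModuleCat.{u} R)).hom.naturality f).trans ?_
  rw [h]
  exact ((DerivedCategory.quotientCompQhIso (ModuleCat.{u} R)).hom.naturality g).symm

lemma d_eq_zero {k : Type u} [Field k] (X : DRing.Cx k) (i : ℤ) [Module.Finite k (X.X i)]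
    (h : Module.finrank k (X.X i) = Module.finrank k (X.homology i)) : X.d i (i + 1) = 0 := by
  have hi : Function.Injective (X.iCycles i).hom := (ModuleCat.mono_iff_injective _).1 inferInstance
  have hπ : Function.Surjective (X.homologyπ i).hom := (ModuleCat.epi_iff_surjective _).1 inferInstance
  haveI : Module.Finite k (X.cycles i) := Module.Finite.of_injective _ hi
  have h1 := LinearMap.finrank_le_finrank_of_injective hi
  have h2 := (X.homologyπ i).hom.finrank_range_le
  rw [LinearMap.range_eq_top.2 hπ, finrank_top] at h2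
  have hs := (LinearMap.injective_iff_surjective_of_finrank_eq_finrank (by omega)).1 hi
  haveI : Epi (X.iCycles i) := (ModuleCat.epi_iff_surjective _).2 hs
  rw [← cancel_epi (X.iCycles i), iCycles_d, comp_zero]

/-- Let R be a local commutative ring with residue field κ such that the derived base change D(R) → D(κ)
exists, and let K be a pseudo-coherent object of D(R). Write d_i for the κ-dimension of H^i(K ⊗^L_R
κ). Then every H^i(K ⊗^L_R κ) is finite dimensional and vanishes for i large; there is a bounded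
above cochain complex P of finite free R-modules with rank P^i = d_i for all i which is isomorphic
to K in D(R); and any two such complexes are isomorphic as complexes of R-modules. -/
theorem result (R : Type u) [CommRing R] [IsLocalRing R]
    [DRing.HasLBaseChange (IsLocalRing.residue R)] (K : Dual.D R) (hK : DRing.IsPseudoCoherent' R K) :
    let κ := IsLocalRing.ResidueField R
    let Kκ := (DRing.LBaseChange (IsLocalRing.residue R)).obj K
    let Minimal := fun P : DRing.Cx R => (∃ b : ℤ, DRing.VanishesAbove P b) ∧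
      (∀ i : ℤ, Module.Free R (P.X i) ∧ Module.Finite R (P.X i) ∧
        Module.finrank R (P.X i) = Module.finrank κ (Dual.HD κ Kκ i)) ∧ Nonempty (DRing.toD P ≅ K)
    (∀ i : ℤ, Module.Finite κ (Dual.HD κ Kκ i)) ∧ (∃ b : ℤ, ∀ i : ℤ, b < i → Subsingleton (Dual.HD κ Kκ i)) ∧
      (∃ P : DRing.Cx R, Minimal P) ∧ ∀ P Q : DRing.Cx R, Minimal P → Minimal Q → Nonempty (P ≅ Q) := by
  intro κ Kκ Minimal
  let m : Ideal R := maximalIdeal R
  let F := DRingLib.redF m
  let G := F.mapHomologicalComplex (ComplexShape.up ℤ)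
  haveI : DRing.HasLBaseChange (Ideal.Quotient.mk m) := ‹DRing.HasLBaseChange (IsLocalRing.residue R)›
  letI : Field (R ⧸ m) := Ideal.Quotient.field m
  let Pc : ObjectProperty (ModuleCat.{u} R) := fun M => Module.Finite R M ∧ Module.Free R M
  haveI : Pc.IsClosedUnderIsomorphisms := ⟨fun e h => by
    haveI := h.1
    haveI := h.2
    exact ⟨Module.Finite.equiv e.toLinearEquiv, Module.Free.of_equiv e.toLinearEquiv⟩⟩
  let D := DRingLib.liftData m Pc (fun X h => by haveI := h.2; infer_instance)
    (fun X Y hX h => by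
      haveI : Module.Finite R (X × Y) := h.1
      haveI : Module.Free R (X × Y) := h.2
      haveI : Module.Projective R (↥X × ↥Y) := Module.Projective.of_free
      haveI : Module.Projective R Y :=
        Module.Projective.of_split (LinearMap.inr R X Y) (LinearMap.snd R X Y) (LinearMap.snd_comp_inr _ _ _)
      haveI : Module.Finite R Y := Module.Finite.of_surjective (LinearMap.snd R X Y) LinearMap.snd_surjective
      exact ⟨inferInstance, Module.free_of_flat_of_isLocalRing⟩)
    (fun X Y f hX hY h => by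
      haveI := hY.1
      exact DRingLib.surjective_of_jacobson m (by rw [IsLocalRing.jacobson_eq_maximalIdeal ⊥ bot_ne_top]) f h)
  have hproj : ∀ {X}, Pc X → Module.Projective R X := fun {X} h => by haveI := h.2; infer_instance
  have hfin : ∀ (P : DRing.Cx R), (∀ i, Pc (P.X i)) → ∀ i, Module.Finite (R ⧸ m) ((G.obj P).X i) ∧
      Module.finrank (R ⧸ m) ((G.obj P).X i) = Module.finrank R (P.X i) := fun P hP i => by
    haveI := (hP i).1
    haveI := (hP i).2
    let eP : TensorProduct R (R ⧸ m) (P.X i) ≃ₗ[R ⧸ m] ((G.obj P).X i : ModuleCat.{u} (R ⧸ m)) :=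
      (DRingLib.redIso m (P.X i) (N := ModuleCat.of (R ⧸ m) (TensorProduct R (R ⧸ m) (P.X i)))
        (LinearEquiv.refl _ _)).toLinearEquiv.symm
    exact ⟨Module.Finite.equiv eP, by rw [← eP.finrank_eq, Module.finrank_baseChange]⟩
  have hrep : ∀ (P : DRing.Cx R) (b : ℤ), DRing.VanishesAbove P b → (∀ i, Pc (P.X i)) → (DRing.toD P ≅ K) →
      Nonempty (DRing.toD (G.obj P) ≅ Kκ) := fun P b hb hP e =>
    ⟨(DCat.lbaseChangeIso (Ideal.Quotient.mk m) (DCat.isKFlatFor_of_vanishesAbove P b hb
      (DRingLib.termwiseFlat_of_projective fun i => hproj (hP i)))).symm ≪≫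
      (DRing.LBaseChange (Ideal.Quotient.mk m)).mapIso e⟩
  obtain ⟨Q₀, c, hQc, hQ, ⟨eQ⟩⟩ := hK
  have hQP : ∀ i, Pc (Q₀.X i) := fun i => ⟨(hQ i).1, (hQ i).2⟩
  obtain ⟨eκ⟩ := hrep Q₀ c hQc hQP eQ
  let X := G.obj Q₀
  have hXf : ∀ i, Module.Finite (R ⧸ m) (X.homology i) := fun i => by
    haveI := (hfin Q₀ hQP i).1
    haveI : Module.Finite (R ⧸ m) (X.cycles i) :=
      Module.Finite.of_injective (X.iCycles i).hom ((ModuleCat.mono_iff_injective _).1 inferInstance)
    exact Module.Finite.of_surjective (X.homologyπ i).hom ((ModuleCat.epi_iff_surjective _).1 inferInstance)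
  let eH : ∀ i, X.homology i ≅ (DRingLib.HF (R ⧸ m) i).obj Kκ := fun i =>
    (DRingLib.HQ X i).symm ≪≫ (DRingLib.HF (R ⧸ m) i).mapIso eκ
  have hXz : ∀ i, c < i → IsZero (X.homology i) := fun i hi =>
    (exactAt_iff_isZero_homology _ _).1 (ExactAt.of_isZero (F.map_isZero (hQc i hi)))
  refine ⟨fun i => ?_, ⟨c, fun i hi => ?_⟩, ?_, ?_⟩
  · exact @Module.Finite.equiv (R ⧸ m) _ _ _ _ _ _ _ (hXf i) (eH i).toLinearEquiv
  · haveI := ModuleCat.subsingleton_of_isZero (hXz i hi)
    exact (eH i).toLinearEquiv.symm.toEquiv.subsingleton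
  · let E : DRing.Cx (R ⧸ m) := DRingLib.zeroD fun i => X.homology i
    have hσ : ∀ i, ∃ s : X.homology i ⟶ X.cycles i, s ≫ X.homologyπ i = 𝟙 _ := fun i => by
      haveI : Projective (X.homology i) := (IsProjective.iff_projective (R := R ⧸ m) _).1
        (inferInstanceAs (Module.Projective (R ⧸ m) (X.homology i)))
      exact ⟨Projective.factorThru (𝟙 _) (X.homologyπ i), Projective.factorThru_comp _ _⟩
    choose σ hσ using hσ
    let f : E ⟶ X :=
      { f := fun i => σ i ≫ X.iCycles i
        comm' := fun i j _ => by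
          rw [show E.d i j = 0 from rfl, zero_comp, Category.assoc, iCycles_d, comp_zero] }
    haveI : QuasiIso f := ⟨fun i => by
      rw [quasiIsoAt_iff_isIso_homologyMap]
      haveI : IsIso (E.homologyπ i) := E.isIso_homologyπ (i - 1) i (by simp) rfl
      haveI : IsIso (E.iCycles i) := E.isIso_iCycles i (i + 1) (by simp) rfl
      have h1 : cyclesMap f i = E.iCycles i ≫ σ i := by
        rw [← cancel_mono (X.iCycles i), cyclesMap_i, Category.assoc]
      have h2 : homologyMap f i = inv (E.homologyπ i) ≫ E.iCycles i := by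
        rw [← cancel_epi (E.homologyπ i), homologyπ_naturality, IsIso.hom_inv_id_assoc, h1]
        exact (Category.assoc _ _ _).trans ((congrArg (E.iCycles i ≫ ·) (hσ i)).trans (Category.comp_id _))
      rw [h2]
      infer_instance⟩
    obtain ⟨P, b', hPb, hP, hPK, ⟨ePE⟩⟩ := DRingLib.exists_lift_mod m D
      (fun {X Y} hX hY => by
        haveI := hX.1
        haveI := hX.2
        haveI := hY.1
        haveI := hY.2
        exact Pc.prop_of_iso (ModuleCat.biprodIsoProd X Y).symm
          (show Module.Finite R (X × Y) ∧ Module.Free R (X × Y) from ⟨inferInstance, inferInstance⟩))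
      K Q₀ c hQc hQP eQ E c hXz
      (fun i => by
        haveI := hXf i
        exact ⟨ModuleCat.of R (Fin (Module.finrank (R ⧸ m) (X.homology i)) → R),
          (show Module.Finite R (Fin _ → R) ∧ Module.Free R (Fin _ → R) from ⟨inferInstance, inferInstance⟩),
          ⟨DRingLib.redIso m _ ((TensorProduct.piScalarRight R (R ⧸ m) (R ⧸ m) (Fin _)).trans
            (Module.finBasis (R ⧸ m) (X.homology i)).equivFun.symm)⟩⟩)
      (asIso (DerivedCategory.Q.map f) ≪≫ eκ)
    refine ⟨P, ⟨b', hPb⟩, fun i => ⟨(hP i).2, (hP i).1, ?_⟩, hPK⟩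
    rw [← (hfin P hP i).2]
    exact ((HomologicalComplex.Hom.isoApp ePE i).toLinearEquiv.trans (eH i).toLinearEquiv).finrank_eq
  · rintro P Q ⟨⟨b₁, hb₁⟩, hP, ⟨e₁⟩⟩ ⟨⟨b₂, hb₂⟩, hQ', ⟨e₂⟩⟩
    have hPc : ∀ i, Pc (P.X i) := fun i => ⟨(hP i).2.1, (hP i).1⟩
    have hQc' : ∀ i, Pc (Q.X i) := fun i => ⟨(hQ' i).2.1, (hQ' i).1⟩
    haveI := DRingLib.isKProjective_of_bound P b₁ hb₁ fun i => D.proj (hPc i)
    haveI := DRingLib.isKProjective_of_bound Q b₂ hb₂ fun i => D.proj (hQc' i)
    have hd : ∀ (P : DRing.Cx R) (b : ℤ), DRing.VanishesAbove P b → (hP : ∀ i, Pc (P.X i)) → (DRing.toD P ≅ K) →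
        (∀ i, Module.finrank R (P.X i) = Module.finrank κ (Dual.HD κ Kκ i)) → ∀ i j, (G.obj P).d i j = 0 := by
      intro P b hb hP e hr i j
      by_cases hij : i + 1 = j
      · subst hij
        haveI := (hfin P hP i).1
        obtain ⟨e'⟩ := hrep P b hb hP e
        refine d_eq_zero (G.obj P) i ((hfin P hP i).2.trans ((hr i).trans ?_))
        exact ((DRingLib.HQ (G.obj P) i).symm ≪≫ (DRingLib.HF (R ⧸ m) i).mapIso e').toLinearEquiv.finrank_eq.symm
      · exact (G.obj P).shape i j hij
    have hdP := hd P b₁ hb₁ hPc e₁ fun i => (hP i).2.2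
    have hdQ := hd Q b₂ hb₂ hQc' e₂ fun i => (hQ' i).2.2
    obtain ⟨f, hf⟩ := DRingLib.exists_Q_map (P := P) (L := Q) (e₁ ≪≫ e₂.symm).hom
    obtain ⟨g, hg⟩ := DRingLib.exists_Q_map (P := Q) (L := P) (e₁ ≪≫ e₂.symm).inv
    obtain ⟨H₁⟩ := homotopic_of_Q_eq (f := f ≫ g) (g := 𝟙 P) (by simp [hf, hg])
    obtain ⟨H₂⟩ := homotopic_of_Q_eq (f := g ≫ f) (g := 𝟙 Q) (by simp [hf, hg])
    have hnull : ∀ {S T : DRing.Cx R}, (∀ i j, (G.obj S).d i j = 0) → (∀ i j, (G.obj T).d i j = 0) →
        ∀ {u v : S ⟶ T}, Homotopy u v → ∀ i, F.map (u.f i) = F.map (v.f i) := by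
      intro S T hS hT u v H i
      have h1 := (F.mapHomotopy H).comm i
      simp only [dNext_eq _ (show (ComplexShape.up ℤ).Rel i (i + 1) by simp),
        prevD_eq _ (show (ComplexShape.up ℤ).Rel (i - 1) i by simp)] at h1
      have a1 := hS i (i + 1)
      have a2 := hT (i - 1) i
      dsimp only [G] at a1 a2
      rw [a1, a2, zero_comp, comp_zero, zero_add, zero_add] at h1
      exact h1
    haveI : ∀ i, IsIso (f.f i) := fun i => by
      refine D.isIso_of (f.f i) (hPc i) (hQc' i) ⟨F.map (g.f i), ?_, ?_⟩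
      · rw [← F.map_comp, ← comp_f, hnull hdP hdP H₁ i]; exact F.map_id _
      · rw [← F.map_comp, ← comp_f, hnull hdQ hdQ H₂ i]; exact F.map_id _
    haveI : IsIso f := HomologicalComplex.Hom.isIso_of_components f
    exact ⟨asIso f⟩


end Groth.Agent.S6972
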