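import Groth.Statements.S6737
import Groth.Agent.DRingLib.KoszulFibre17
import Groth.Agent.S6972
import Groth.Agent.DualLib.LBCAdj

set_option autoImplicit false
set_option backward.isDefEq.respectTransparency false
set_option backward.defeqAttrib.useBackward true
set_option linter.style.haveILetI false
universe u
open CategoryTheory
attribute [local instance] HasDerivedCategory.standard
open DEquiv

namespace Groth.Agent.S6737

open Groth.Agent.DRingLib Groth.Agent CategoryTheory.Limits RingTheory.Sequence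

/-- Let (R, m) → (A, n) be a flat local homomorphism between local rings, with A essentially of finite
presentation over R. Let f̄_1, …, f̄_r ∈ n/mA ⊆ A/mA be a regular sequence, and suppose K is a
perfect object of D(A) whose derived reduction K ⊗^L_A A/mA admits, in D(A/mA), an isomorphism with
the Koszul complex of the sequence f̄_1, …, f̄_r (existence of the derived base change functor is
taken as an instance binder). Under these hypotheses one can choose lifts f_1, …, f_r ∈ A of the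
f̄_i that form a regular sequence in A, for which K and the Koszul complex built from these lifts
become isomorphic objects of D(A); in addition, the quotient of A by the ideal (f_1, …, f_r) is
R-flat. -/
theorem result
    (R A : Type u) [CommRing R] [CommRing A] [IsLocalRing R] [IsLocalRing A] [Algebra R A]
    [IsLocalHom (algebraMap R A)] [Module.Flat R A] (hefp : CAlgX.IsEssFinitePresentation R A)
    (fbar : List (A ⧸ ((IsLocalRing.maximalIdeal R).map (algebraMap R A))))
    (hfbar : ∀ f ∈ fbar, f ∈ (IsLocalRing.maximalIdeal A).map (Ideal.Quotient.mk ((IsLocalRing.maximalIdeal R).map (algebraMap R A))))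
    (hreg : RingTheory.Sequence.IsRegular (A ⧸ ((IsLocalRing.maximalIdeal R).map (algebraMap R A))) fbar)
    (K : Dual.D A) (hK : DRing.IsPerfect A K)
    [DRing.HasLBaseChange (Ideal.Quotient.mk ((IsLocalRing.maximalIdeal R).map (algebraMap R A)))]
    (hKf : Nonempty ((DRing.LBaseChange (Ideal.Quotient.mk ((IsLocalRing.maximalIdeal R).map (algebraMap R A)))).obj K ≅
      DerivedCategory.Q.obj (Koszul.koszul (A ⧸ ((IsLocalRing.maximalIdeal R).map (algebraMap R A))) fbar))) :
    ∃ fs : List A, fs.map (Ideal.Quotient.mk ((IsLocalRing.maximalIdeal R).map (algebraMap R A))) = fbar ∧ RingTheory.Sequence.IsRegular A fs ∧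
      Nonempty (K ≅ DerivedCategory.Q.obj (Koszul.koszul A fs)) ∧
      Module.Flat R (A ⧸ Ideal.span {a : A | a ∈ fs}) := by
  classical
  let J : Ideal A := (IsLocalRing.maximalIdeal R).map (algebraMap R A)
  have hJm : J ≤ IsLocalRing.maximalIdeal A := ((IsLocalRing.local_hom_TFAE (algebraMap R A)).out 0 2).1 ‹_›
  have hJt : J ≠ ⊤ := fun h => (IsLocalRing.maximalIdeal.isMaximal A).ne_top (top_le_iff.1 (h ▸ hJm))
  haveI : Nontrivial (A ⧸ J) := Ideal.Quotient.nontrivial_iff.2 hJt
  haveI : IsLocalRing (A ⧸ J) := IsLocalRing.of_surjective' (Ideal.Quotient.mk J) Ideal.Quotient.mk_surjective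
  haveI : IsNoetherianRing (A ⧸ J) := KF17.isNoetherianRing_fibre hefp
  -- fibre Koszul complex
  have hrev : IsWeaklyRegular (A ⧸ J) fbar.reverse := (IsLocalRing.isRegular_of_perm hreg (List.reverse_perm fbar).symm).toIsWeaklyRegular
  obtain ⟨eKos⟩ := KZeroLib.KoszulPoint.nonempty_koszul_iso (A ⧸ J) fbar hrev
  obtain ⟨eK⟩ := hKf
  -- a minimal complex
  haveI := Groth.Agent.DCat.hasLBaseChange (IsLocalRing.residue A)
  obtain ⟨-, -, ⟨P, ⟨b, hPb⟩, hP, ⟨eP⟩⟩, -⟩ := Groth.Agent.S6972.result A K ((DRingLib.perfect_iff K).1 hK).1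
  have hPsub : ∀ i : ℤ, i < -(fbar.length : ℤ) ∨ 0 < i → IsZero (P.X i) := by
    intro i hi
    let ψ : A ⧸ J →+* IsLocalRing.ResidueField A := Ideal.Quotient.factor hJm
    haveI := Groth.Agent.DCat.hasLBaseChange ψ
    have hzero : ∀ n : ℤ, 0 < n → IsZero ((Koszul.koszul (A ⧸ J) fbar).X n) := fun n hn => by
      haveI := (KF17.koszul_bounds fbar n).2 (Or.inr hn)
      exact ModuleCat.isZero_of_subsingleton _
    have hflat : DRing.TermwiseFlat (Koszul.koszul (A ⧸ J) fbar) := fun n => by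
      haveI := (KF17.koszul_bounds fbar n).1.1
      exact Module.Flat.of_free
    let e1 : (DRing.LBaseChange (IsLocalRing.residue A)).obj K ≅ DRing.toD
        (((ModuleCat.extendScalars ψ).mapHomologicalComplex (ComplexShape.up ℤ)).obj (Koszul.koszul (A ⧸ J) fbar)) :=
      ((DualLib.LBC.compIso (Ideal.Quotient.mk J) ψ (IsLocalRing.residue A) (RingHom.ext fun _ => rfl)).app K).symm ≪≫
        (DRing.LBaseChange ψ).mapIso eK ≪≫
        Groth.Agent.DCat.lbaseChangeIso ψ (Groth.Agent.DCat.isKFlatFor_of_vanishesAbove _ 0 hzero hflat)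
    obtain ⟨e2⟩ := KF17.nonempty_HF_of_iso _ e1.symm i
    haveI := (KF17.koszul_bounds fbar i).2 hi
    have hz : IsZero ((DRingLib.HF (IsLocalRing.ResidueField A) i).obj ((DRing.LBaseChange (IsLocalRing.residue A)).obj K)) :=
      ((HomologicalComplex.exactAt_iff_isZero_homology _ _).1 (HomologicalComplex.ExactAt.of_isZero
        ((ModuleCat.extendScalars ψ).map_isZero (ModuleCat.isZero_of_subsingleton _)))).of_iso e2.symm
    haveI : Subsingleton (Dual.HD (IsLocalRing.ResidueField A) ((DRing.LBaseChange (IsLocalRing.residue A)).obj K) i) :=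
      (Groth.Agent.DCat.subsingleton_HD_iff _ _).2 hz
    have h0 := (hP i).2.2
    rw [Module.finrank_zero_of_subsingleton (R := IsLocalRing.ResidueField A) (M := Dual.HD (IsLocalRing.ResidueField A) ((DRing.LBaseChange (IsLocalRing.residue A)).obj K) i)] at h0
    haveI := (hP i).1
    haveI := (hP i).2.1
    haveI : Subsingleton (P.X i) := Module.finrank_eq_zero_iff_of_free A (P.X i) |>.1 h0
    exact ModuleCat.isZero_of_subsingleton _
  have hPf : DRing.TermwiseFlat P := fun i => by haveI := (hP i).1; exact Module.Flat.of_free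
  let X := ((ModuleCat.extendScalars (Ideal.Quotient.mk J)).mapHomologicalComplex (ComplexShape.up ℤ)).obj P
  let eX : DRing.toD X ≅ (DerivedCategory.singleFunctor (ModuleCat.{u} (A ⧸ J)) 0).obj
      (ModuleCat.of (A ⧸ J) ((A ⧸ J) ⧸ Ideal.ofList fbar)) :=
    (Groth.Agent.DCat.lbaseChangeIso (Ideal.Quotient.mk J)
      (Groth.Agent.DCat.isKFlatFor_of_vanishesAbove P b hPb hPf)).symm ≪≫
      (DRing.LBaseChange (Ideal.Quotient.mk J)).mapIso eP ≪≫ eK ≪≫ eKos
  have hXex : ∀ i, i ≠ 0 → X.ExactAt i := fun i hi => by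
    rw [← Groth.Agent.DCat.isZero_homology_toD_iff]
    refine IsZero.of_iso ?_ ((DRingLib.HF (A ⧸ J) i).mapIso eX)
    rcases lt_or_gt_of_ne hi with h | h
    · exact (DerivedCategory.isGE_iff _ 0).1 inferInstance i h
    · exact (DerivedCategory.isLE_iff _ 0).1 inferInstance i h
  let π : ∀ i, P.X i → X.X i := fun i x =>
    ((ModuleCat.extendRestrictScalarsAdj.{u, u, u} (Ideal.Quotient.mk J)).unit.app (P.X i)).hom x
  have hπd : ∀ i j (x : P.X i), (X.d i j).hom (π i x) = π j ((P.d i j).hom x) := fun i j x =>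
    LinearMap.baseChange_tmul _ _ _
  have hπs : ∀ i, Function.Surjective (π i) := fun i => DRingLib.unit_surjective J (P.X i)
  have hπJ : ∀ i (x : P.X i), π i x = 0 ↔ x ∈ J • (⊤ : Submodule A (P.X i)) := fun i x => by
    rw [← Submodule.Quotient.mk_eq_zero, ← (TensorProduct.quotTensorEquivQuotSMul (P.X i) J).symm.map_eq_zero_iff,
      TensorProduct.quotTensorEquivQuotSMul_symm_mk]
    rfl
  -- exactness of `P`
  letI (i : ℤ) : Module R (P.X i) := Module.compHom _ (algebraMap R A)
  haveI (i : ℤ) : IsScalarTower R A (P.X i) := IsScalarTower.of_algebraMap_smul fun _ _ => rfl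
  have hfl : ∀ i : ℤ, Module.Flat R (P.X i) := fun i => by
    haveI := hPf i
    exact Module.Flat.trans R A (P.X i)
  have hfp : ∀ i : ℤ, Module.FinitePresentation A (P.X i) := fun i => by
    haveI := (hP i).1
    haveI := (hP i).2.1
    exact Module.finitePresentation_of_projective A (P.X i)
  have hstep : ∀ i : ℤ, i < 0 →
      (∀ x, (P.d i (i + 1)).hom x = 0 → x ∈ LinearMap.range (P.d (i - 1) i).hom) ∧
        Module.Flat R (P.X (i + 1) ⧸ LinearMap.range (P.d i (i + 1)).hom) := by
    intro i hi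
    haveI := (hP (i - 1)).2.1
    haveI := hfp i
    haveI := hfp (i + 1)
    haveI := hfl (i + 1)
    refine KF17.exact_of_fibre hefp (P.d (i - 1) i).hom (P.d i (i + 1)).hom
      (congrArg ModuleCat.Hom.hom (P.d_comp_d (i - 1) i (i + 1))) fun x hx => ?_
    have h1 := hXex i (ne_of_lt hi)
    rw [HomologicalComplex.exactAt_iff' (i := i - 1) (j := i) (k := i + 1) _ (by simp) (by simp),
      ShortComplex.ShortExact.moduleCat_exact_iff_function_exact] at h1
    obtain ⟨y, hy⟩ := (h1 (π i x)).1 ((hπd i (i + 1) x).trans ((hπJ _ _).2 hx))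
    obtain ⟨y, rfl⟩ := hπs (i - 1) y
    have h2 : x - (P.d (i - 1) i).hom y ∈ J • (⊤ : Submodule A (P.X i)) := by
      rw [← hπJ]
      refine (map_sub ((ModuleCat.extendRestrictScalarsAdj.{u, u, u} (Ideal.Quotient.mk J)).unit.app (P.X i)).hom _ _).trans ?_
      exact sub_eq_zero.2 (hy.symm.trans (hπd (i - 1) i y))
    have h3 := Submodule.add_mem_sup (LinearMap.mem_range_self (P.d (i - 1) i).hom y) h2
    rwa [add_sub_cancel] at h3
  have hPex : ∀ i, i ≠ 0 → P.ExactAt i := by
    intro i hi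
    rcases lt_or_gt_of_ne hi with h | h
    · rw [HomologicalComplex.exactAt_iff' (i := i - 1) (j := i) (k := i + 1) _ (by simp) (by simp),
        ShortComplex.ShortExact.moduleCat_exact_iff_function_exact]
      intro x
      exact ⟨(hstep i h).1 x, fun ⟨y, hy⟩ => hy ▸ LinearMap.congr_fun
        (congrArg ModuleCat.Hom.hom (P.d_comp_d (i - 1) i (i + 1))) y⟩
    · exact HomologicalComplex.ExactAt.of_isZero (hPsub i (Or.inr h))
  -- the top cohomology
  have hP1 : IsZero (P.X 1) := hPsub 1 (Or.inr one_pos)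
  obtain ⟨q, hq, hqk⟩ := KF17.exists_topQuot P hP1
  obtain ⟨qb, hqb, hqbk⟩ := KF17.exists_topQuot X ((ModuleCat.extendScalars (Ideal.Quotient.mk J)).map_isZero hP1)
  obtain ⟨eh⟩ := KF17.nonempty_HF_of_iso _ eX 0
  let e0 : X.homology 0 ≃ₗ[A ⧸ J] ((A ⧸ J) ⧸ Ideal.ofList fbar) := (eh ≪≫ (DerivedCategory.singleFunctorCompHomologyFunctorIso (ModuleCat.{u} (A ⧸ J)) 0).app _).toLinearEquiv
  let θ : P.X 0 → (A ⧸ J) ⧸ Ideal.ofList fbar := fun x => e0 (qb (π 0 x))
  have hθa : ∀ x y, θ (x + y) = θ x + θ y := fun x y => by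
    show e0 (qb (π 0 (x + y))) = _
    rw [show π 0 (x + y) = π 0 x + π 0 y from map_add _ _ _, map_add, map_add]
  have hθs : ∀ (a : A) x, θ (a • x) = Ideal.Quotient.mk J a • θ x := fun a x => by
    show e0 (qb (π 0 (a • x))) = _
    rw [show π 0 (a • x) = Ideal.Quotient.mk J a • π 0 x from ((ModuleCat.extendRestrictScalarsAdj.{u, u, u} (Ideal.Quotient.mk J)).unit.app (P.X 0)).hom.map_smul a x, map_smul, map_smul]
  have hθk : ∀ x, θ x = 0 ↔ x ∈ LinearMap.range (P.d (-1) 0).hom ⊔ J • (⊤ : Submodule A (P.X 0)) := fun x => by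
    rw [show θ x = 0 ↔ qb (π 0 x) = 0 from e0.map_eq_zero_iff, ← LinearMap.mem_ker, hqbk]
    constructor
    · rintro ⟨y, hy⟩
      obtain ⟨y, rfl⟩ := hπs (-1) y
      have h2 : x - (P.d (-1) 0).hom y ∈ J • (⊤ : Submodule A (P.X 0)) := by
        rw [← hπJ]
        refine (map_sub ((ModuleCat.extendRestrictScalarsAdj.{u, u, u} (Ideal.Quotient.mk J)).unit.app (P.X 0)).hom _ _).trans ?_
        exact sub_eq_zero.2 (hy.symm.trans (hπd (-1) 0 y))
      have h3 := Submodule.add_mem_sup (LinearMap.mem_range_self (P.d (-1) 0).hom y) h2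
      rwa [add_sub_cancel] at h3
    · intro hx
      obtain ⟨a, ⟨y, rfl⟩, c, hc, rfl⟩ := Submodule.mem_sup.1 hx
      refine ⟨π (-1) y, ?_⟩
      rw [hπd]
      refine Eq.symm ((map_add ((ModuleCat.extendRestrictScalarsAdj.{u, u, u} (Ideal.Quotient.mk J)).unit.app (P.X 0)).hom _ _).trans ?_)
      exact (congrArg _ ((hπJ 0 c).2 hc)).trans (add_zero _)
  obtain ⟨e, he⟩ : ∃ e, θ e = 1 := by
    obtain ⟨x, hx⟩ := hqb (e0.symm 1)
    obtain ⟨x, rfl⟩ := hπs 0 x
    exact ⟨x, show e0 (qb (π 0 x)) = 1 by rw [hx, LinearEquiv.apply_symm_apply]⟩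
  let W := LinearMap.range (P.d (-1) 0).hom
  have hgen : ⊤ ≤ Submodule.span A {W.mkQ e} := by
    haveI := (hP 0).2.1
    refine Submodule.le_of_le_smul_of_le_jacobson_bot (I := J) Module.Finite.fg_top
      (hJm.trans (IsLocalRing.maximalIdeal_le_jacobson _)) fun z _ => ?_
    obtain ⟨z, rfl⟩ := Submodule.mkQ_surjective W z
    obtain ⟨c, hc⟩ := Submodule.mkQ_surjective _ (θ z)
    obtain ⟨c, rfl⟩ := Ideal.Quotient.mk_surjective c
    have hmem : θ (z - c • e) = 0 := by
      have h4 := hθa (z - c • e) (c • e)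
      rw [sub_add_cancel, hθs, he] at h4
      have h5 : Ideal.Quotient.mk J c • (1 : (A ⧸ J) ⧸ Ideal.ofList fbar) = θ z := by
        rw [← hc]
        show Ideal.Quotient.mk J c • (Submodule.Quotient.mk (1 : A ⧸ J) : (A ⧸ J) ⧸ Ideal.ofList fbar) = _
        rw [← Submodule.Quotient.mk_smul, smul_eq_mul, mul_one]
        rfl
      rw [h5] at h4
      exact right_eq_add.1 h4
    obtain ⟨a, ha, d, hd, had⟩ := Submodule.mem_sup.1 ((hθk _).1 hmem)
    rw [show z = c • e + (a + d) by rw [had]; abel, map_add, map_add, map_smul,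
      show W.mkQ a = 0 from (Submodule.Quotient.mk_eq_zero W).2 ha, zero_add]
    exact Submodule.add_mem_sup (Submodule.smul_mem _ c (Submodule.subset_span rfl))
      (Submodule.smul_top_le_comap_smul_top _ W.mkQ hd)
  let φ : A →ₗ[A] (P.X 0 ⧸ W) := LinearMap.toSpanSingleton A _ (W.mkQ e)
  have hφ : Function.Surjective φ := fun z => Submodule.mem_span_singleton.1 (hgen Submodule.mem_top)
  let I : Ideal A := LinearMap.ker φ
  let eI : (A ⧸ I) ≃ₗ[A] (P.X 0 ⧸ W) := φ.quotKerEquivOfSurjective hφ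
  have hflatW : Module.Flat R (P.X 0 ⧸ W) := (hstep (-1) (by norm_num)).2
  haveI : Module.Flat R (A ⧸ I) := Module.Flat.of_linearEquiv (eI.restrictScalars R)
  haveI : Module.FinitePresentation A (P.X 0 ⧸ W) := by
    haveI := (hP (-1)).2.1
    haveI := hfp 0
    exact Module.finitePresentation_of_surjective W.mkQ (Submodule.mkQ_surjective W)
      (by rw [Submodule.ker_mkQ, show W = (⊤ : Submodule A (P.X (-1))).map (P.d (-1) 0).hom from LinearMap.range_eq_map _]; exact Module.Finite.fg_top.map _)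
  have hIfg : I.FG := Module.FinitePresentation.fg_ker φ hφ
  have hθc : ∀ a : A, θ (a • e) = 0 ↔ Ideal.Quotient.mk J a ∈ Ideal.ofList fbar := fun a => by
    rw [hθs, he]
    show Ideal.Quotient.mk J a • (Submodule.Quotient.mk (1 : A ⧸ J) : (A ⧸ J) ⧸ Ideal.ofList fbar) = 0 ↔ _
    rw [← Submodule.Quotient.mk_smul, smul_eq_mul, mul_one, Submodule.Quotient.mk_eq_zero]
  have hIle : ∀ a ∈ I, Ideal.Quotient.mk J a ∈ Ideal.ofList fbar := fun a ha => by
    rw [← hθc, hθk]
    exact Submodule.mem_sup_left ((Submodule.Quotient.mk_eq_zero W).1 ((map_smul W.mkQ a e).trans ha))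
  have hlift : ∀ a : A, Ideal.Quotient.mk J a ∈ Ideal.ofList fbar →
      ∃ a' ∈ I, Ideal.Quotient.mk J a' = Ideal.Quotient.mk J a := fun a ha => by
    obtain ⟨w, hw, d, hd, hwd⟩ := Submodule.mem_sup.1 ((hθk _).1 ((hθc a).2 ha))
    have h6 : W.mkQ (a • e) ∈ J • (⊤ : Submodule A (P.X 0 ⧸ W)) := by
      rw [← hwd, map_add, show W.mkQ w = 0 from (Submodule.Quotient.mk_eq_zero W).2 hw, zero_add]
      exact Submodule.smul_top_le_comap_smul_top _ W.mkQ hd
    rw [show (⊤ : Submodule A (P.X 0 ⧸ W)) = Submodule.span A {W.mkQ e} from top_le_iff.1 hgen |>.symm,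
      Submodule.mem_smul_span_singleton] at h6
    obtain ⟨j, hj, hje⟩ := h6
    refine ⟨a - j, ?_, by rw [map_sub, Ideal.Quotient.eq_zero_iff_mem.2 hj, sub_zero]⟩
    show φ (a - j) = 0
    rw [map_sub, LinearMap.toSpanSingleton_apply, LinearMap.toSpanSingleton_apply, hje, map_smul, sub_self]
  choose! L hL hLmk using fun (f : A ⧸ J) (hf : f ∈ fbar) =>
    show ∃ a : A, a ∈ I ∧ Ideal.Quotient.mk J a = f by
      obtain ⟨a, rfl⟩ := Ideal.Quotient.mk_surjective f
      exact hlift a (Ideal.subset_span hf)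
  let fs := fbar.map L
  have hmap : fs.map (Ideal.Quotient.mk J) = fbar := by
    rw [List.map_map]
    exact (List.map_congr_left hLmk).trans (List.map_id _)
  have hfsI : Ideal.ofList fs ≤ I := Ideal.span_le.2 fun a ha => by
    obtain ⟨f, hf, rfl⟩ := List.mem_map.1 ha
    exact hL f hf
  have hI : Ideal.ofList fs = I := KF17.eq_ofList_of_flat hefp I hIfg fs hfsI fun a ha => by
    have h7 := hIle a ha
    rw [← hmap, ← Ideal.map_ofList, Ideal.mem_map_iff_of_surjective _ Ideal.Quotient.mk_surjective] at h7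
    obtain ⟨c, hc, hca⟩ := h7
    have := Submodule.add_mem_sup hc (Ideal.Quotient.eq.1 hca.symm)
    rwa [add_sub_cancel] at this
  obtain ⟨hwr, hfl'⟩ := KF17.regular_of_fibre hefp fs (hmap.symm ▸ hreg.toIsWeaklyRegular)
  have hwr' := (KF17.regular_of_fibre hefp fs.reverse (by rw [List.map_reverse, hmap]; exact hrev)).1
  obtain ⟨eA⟩ := KZeroLib.KoszulPoint.nonempty_koszul_iso A fs hwr'
  obtain ⟨eS⟩ := KF17.nonempty_iso_single P hPex
  refine ⟨fs, hmap, ⟨hwr, ?_⟩, ⟨eP.symm ≪≫ eS ≪≫ (DerivedCategory.singleFunctor (ModuleCat.{u} A) 0).mapIso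
      (((q.quotKerEquivOfSurjective hq).symm.trans ((Submodule.quotEquivOfEq _ _ hqk).trans
        (eI.symm.trans (Submodule.quotEquivOfEq _ _ hI.symm)))).toModuleIso) ≪≫ eA.symm⟩,
    hfl'⟩
  rw [smul_eq_mul, Ideal.mul_top]
  refine fun h => (IsLocalRing.maximalIdeal.isMaximal A).ne_top (top_le_iff.1 (h.le.trans (Ideal.span_le.2 fun a ha => ?_)))
  obtain ⟨f, hf, rfl⟩ := List.mem_map.1 ha
  have h8 := hfbar f hf
  rw [← hLmk f hf, Ideal.mem_map_iff_of_surjective _ Ideal.Quotient.mk_surjective] at h8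
  obtain ⟨c, hc, hcf⟩ := h8
  have := add_mem hc (hJm (Ideal.Quotient.eq.1 hcf.symm))
  rwa [add_sub_cancel] at this

end Groth.Agent.S6737
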