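import Groth.Statements.S6738
import Groth.Agent.DRingLib.KoszulSpread17
import Groth.Agent.DualLib.ShriekCompose
import Groth.Agent.EGA43.FlatOpen
import Groth.Agent.FlatMorSlice.Regular

set_option autoImplicit false
set_option backward.isDefEq.respectTransparency false
set_option backward.defeqAttrib.useBackward true
set_option linter.style.haveILetI false
universe u
open CategoryTheory
attribute [local instance] HasDerivedCategory.standard
open DEquiv

namespace Groth.Agent.S6738

open Groth.Agent.DRingLib Groth.Agent CategoryTheory.Limits RingTheory.Sequence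

/-- Suppose R → S is a flat, finite type ring map of Noetherian rings, q ⊂ S is a prime, K is a perfect
object of D(S), and f_1, …, f_r ∈ q S_q form a regular sequence for which the quotient S_q/(f_1, …,
f_r) is R-flat and K ⊗^L_S S_q agrees, up to isomorphism in D(S_q), with the Koszul complex of f_1,
…, f_r. Then one can find an element g ∈ S with g ∉ q, together with a regular sequence f'_1, …,
f'_r in S_g mapping to the f_i in S_q, such that the quotient of S_g by the ideal (f'_1, …, f'_r) is
R-flat and the Koszul complex of f'_1, …, f'_r is isomorphic, in D(S_g), to K ⊗^L_S S_g. (The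
canonical S-algebra map S_g → S_q is quantified over — it exists and is unique since g ∉ q; the
derived base change functors are assumed to exist, as instance binders.) -/
theorem result
    (R S : Type u) [CommRing R] [CommRing S] [IsNoetherianRing R] [IsNoetherianRing S] [Algebra R S]
    [Algebra.FiniteType R S] [Module.Flat R S] (q : Ideal S) [q.IsPrime]
    (K : Dual.D S) (hK : DRing.IsPerfect S K)
    (fs : List (Localization.AtPrime q)) (hfs : ∀ f ∈ fs, f ∈ IsLocalRing.maximalIdeal (Localization.AtPrime q))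
    (hreg : RingTheory.Sequence.IsRegular (Localization.AtPrime q) fs)
    (hflat : Module.Flat R ((Localization.AtPrime q) ⧸ Ideal.span {a : (Localization.AtPrime q) | a ∈ fs}))
    [DRing.HasLBaseChange (algebraMap S (Localization.AtPrime q))]
    (hKf : Nonempty ((DRing.LBaseChange (algebraMap S (Localization.AtPrime q))).obj K ≅
      DerivedCategory.Q.obj (Koszul.koszul (Localization.AtPrime q) fs))) :
    ∃ g : S, g ∉ q ∧ ∀ (φ : (Localization.Away g) →ₐ[S] (Localization.AtPrime q)), ∃ fs' : List (Localization.Away g),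
      fs'.map φ = fs ∧ RingTheory.Sequence.IsRegular (Localization.Away g) fs' ∧
      Module.Flat R ((Localization.Away g) ⧸ Ideal.span {a : (Localization.Away g) | a ∈ fs'}) ∧
      ∀ [DRing.HasLBaseChange (algebraMap S (Localization.Away g))],
        Nonempty ((DRing.LBaseChange (algebraMap S (Localization.Away g))).obj K ≅
          DerivedCategory.Q.obj (Koszul.koszul (Localization.Away g) fs')) := by
  classical
  let A := Localization.AtPrime q
  let φq := algebraMap S A
  have hlocq : @IsLocalization S _ q.primeCompl A _ φq.toAlgebra := KS17.isLocalization_toAlgebra q.primeCompl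
  have hflatq : φq.Flat := RingHom.flat_algebraMap_iff.2 (IsLocalization.flat A q.primeCompl)
  -- numerators
  obtain ⟨⟨s, hs⟩, hsint⟩ := IsLocalization.exist_integer_multiples_of_finset q.primeCompl fs.toFinset
  choose! num hnum using fun (f : A) (hf : f ∈ fs) => hsint f (List.mem_toFinset.2 hf)
  obtain ⟨b, hbdef⟩ : ∃ b : List S, b = fs.map num := ⟨_, rfl⟩
  have hsu : IsUnit (φq s) := IsLocalization.map_units A ⟨s, hs⟩
  have hb : b.map φq = fs.map (φq s * ·) := by
    rw [hbdef, List.map_map]
    exact List.map_congr_left fun f hf => (hnum f hf).trans (Algebra.smul_def s f)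
  have hrev0 : IsWeaklyRegular A fs.reverse :=
    (IsLocalRing.isRegular_of_perm hreg (List.reverse_perm fs).symm).toIsWeaklyRegular
  obtain ⟨t₁, ht₁, hcol₁⟩ := KS17.exists_colon_bound q b (by
    rw [show List.map (algebraMap S A) b = fs.map (φq s * ·) from hb]
    exact LCI15.isWeaklyRegular_map_unit hsu hreg.toIsWeaklyRegular)
  obtain ⟨t₂, ht₂, hcol₂⟩ := KS17.exists_colon_bound q b.reverse (by
    rw [show List.map (algebraMap S A) b.reverse = fs.reverse.map (φq s * ·) by
      rw [List.map_reverse, List.map_reverse]; exact congrArg _ hb]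
    exact LCI15.isWeaklyRegular_map_unit hsu hrev0)
  let I : Ideal S := Ideal.ofList b
  have hIA : I.map φq = Ideal.ofList fs := by
    rw [Ideal.map_ofList, hb, LCI15.ofList_map_unit hsu]
  -- flatness of the quotient near `q`
  have hflatI : Module.Flat R (LocalizedModule q.primeCompl (S ⧸ I)) := by
    haveI : Module.Flat R (A ⧸ I.localized' A q.primeCompl (Algebra.linearMap S A)) := by
      haveI : Module.Flat R (A ⧸ Ideal.ofList fs) := hflat
      refine Module.Flat.of_linearEquiv ((Submodule.quotEquivOfEq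
        (I.localized' A q.primeCompl (Algebra.linearMap S A)) (Ideal.ofList fs) ?_).restrictScalars R)
      rw [Ideal.localized'_eq_map]
      exact hIA
    exact Module.Flat.of_linearEquiv ((IsLocalizedModule.iso q.primeCompl
      (Submodule.toLocalizedQuotient' A q.primeCompl (Algebra.linearMap S A) I)).restrictScalars R)
  obtain ⟨U, ⟨t₃, rfl⟩, ht₃, hU⟩ := (PrimeSpectrum.isTopologicalBasis_basic_opens (R := S)).exists_subset_of_mem_open
    (u := {q' : PrimeSpectrum S | Module.Flat R (LocalizedModule q'.asIdeal.primeCompl (S ⧸ I))})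
    (show (⟨q, ‹_›⟩ : PrimeSpectrum S) ∈ _ from hflatI) (EGA43.FlatOpen.isOpen_flatLocus R S (S ⧸ I))
  -- the complex
  obtain ⟨P, lo, hi, hPv, hPp, ⟨eP⟩⟩ := hK
  obtain ⟨eKf⟩ := hKf
  obtain ⟨eKos⟩ := KZeroLib.KoszulPoint.nonempty_koszul_iso A fs hrev0
  obtain ⟨eflat⟩ := DualLib.Shriek.nonempty_lbase_flat hflatq P
  let Xq := ((ModuleCat.extendScalars.{u, u, u} φq).mapHomologicalComplex (ComplexShape.up ℤ)).obj P
  let eX : DerivedCategory.Q.obj Xq ≅ (DerivedCategory.singleFunctor (ModuleCat.{u} A) 0).obj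
      (ModuleCat.of A (A ⧸ Ideal.ofList fs)) :=
    eflat.symm ≪≫ (DRing.LBaseChange φq).mapIso eP ≪≫ eKf ≪≫ eKos
  haveI : ∀ i, Module.Finite S (P.homology i) := fun i => by
    haveI := (hPp i).1
    haveI : Module.Finite S (P.cycles i) :=
      Module.Finite.of_injective (P.iCycles i).hom ((ModuleCat.mono_iff_injective _).1 inferInstance)
    exact Module.Finite.of_surjective (P.homologyπ i).hom ((ModuleCat.epi_iff_surjective _).1 inferInstance)
  haveI hPH := KS17.preservesHomology_ext hflatq
  have hkill : ∀ i : ℤ, i ≠ 0 → ∃ t ∈ q.primeCompl, ∀ n : P.homology i, t • n = 0 := fun i hi => by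
    refine KS17.exists_killer q.primeCompl φq hlocq (P.homology i) ?_
    refine IsZero.of_iso ?_ ((P.sc i).mapHomologyIso (ModuleCat.extendScalars.{u, u, u} φq)).symm
    refine IsZero.of_iso ?_ ((DRingLib.HQ Xq i).symm ≪≫ (DRingLib.HF A i).mapIso eX)
    rcases lt_or_gt_of_ne hi with h | h
    · exact (DerivedCategory.isGE_iff _ 0).1 inferInstance i h
    · exact (DerivedCategory.isLE_iff _ 0).1 inferInstance i h
  choose! t ht htk using hkill
  haveI : Module.FinitePresentation S (P.homology 0) := Module.finitePresentation_of_finite S _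
  obtain ⟨eI⟩ := KS17.nonempty_quot_iso φq I
  obtain ⟨a, ha⟩ := KS17.exists_map_isIso q.primeCompl φq hlocq (P.homology 0) (ModuleCat.of S (S ⧸ I))
    (((P.sc 0).mapHomologyIso (ModuleCat.extendScalars.{u, u, u} φq)).symm ≪≫
      (DRingLib.HQ Xq 0).symm ≪≫ (DRingLib.HF A 0).mapIso eX ≪≫
      (DerivedCategory.singleFunctorCompHomologyFunctorIso (ModuleCat.{u} A) 0).app _ ≪≫
      (Submodule.quotEquivOfEq _ _ hIA.symm).toModuleIso ≪≫ eI.symm)
  haveI := ha
  obtain ⟨t₄, ht₄, hiso⟩ := KS17.exists_killer_map q.primeCompl φq hlocq hflatq a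
  -- the open set
  let idx : Finset ℤ := (Finset.Icc lo hi).erase 0
  let c := t₃ * (s * (t₁ * (t₂ * (t₄ * ∏ i ∈ idx, t i))))
  have hc : c ∈ q.primeCompl := mul_mem ht₃ (mul_mem hs (mul_mem ht₁ (mul_mem ht₂ (mul_mem ht₄
    (Submonoid.prod_mem _ fun i hi => ht i (Finset.mem_erase.1 hi).1)))))
  refine ⟨c, hc, fun φ => ?_⟩
  let B := Localization.Away c
  let ψ := algebraMap S B
  have hcu : IsUnit (ψ c) := IsLocalization.Away.algebraMap_isUnit c
  have hdiv : ∀ d, d ∣ c → IsUnit (ψ d) := fun d hd => isUnit_of_dvd_unit (map_dvd ψ hd) hcu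
  obtain ⟨us, hus⟩ := hdiv s ⟨t₃ * (t₁ * (t₂ * (t₄ * ∏ i ∈ idx, t i))), by show t₃ * _ = _; ring⟩
  let u : B := ↑us⁻¹
  have hu : IsUnit u := (us⁻¹).isUnit
  obtain ⟨fs', hfs'⟩ : ∃ fs' : List B, fs' = (b.map ψ).map (u * ·) := ⟨_, rfl⟩
  have hmap : fs'.map φ = fs := by
    rw [hfs', List.map_map, List.map_map, hbdef, List.map_map]
    refine (List.map_congr_left fun f hf => ?_).trans (List.map_id _)
    show φ (u * ψ (num f)) = f
    rw [map_mul, φ.commutes, hnum f hf, Algebra.smul_def, ← mul_assoc, ← φ.commutes,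
      ← map_mul]
    rw [show u * algebraMap S B s = 1 by rw [show algebraMap S B s = ↑us from hus.symm, Units.inv_mul], map_one, one_mul]
  have hwr : IsWeaklyRegular B fs' := hfs' ▸ LCI15.isWeaklyRegular_map_unit hu
    (KS17.isWeaklyRegular_map b t₁ (hdiv t₁ ⟨t₃ * (s * (t₂ * (t₄ * ∏ i ∈ idx, t i))), by show t₃ * _ = _; ring⟩)
      hcol₁ (Submonoid.powers c))
  have hwr' : IsWeaklyRegular B fs'.reverse := by
    rw [hfs', ← List.map_reverse, ← List.map_reverse]
    exact LCI15.isWeaklyRegular_map_unit hu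
      (KS17.isWeaklyRegular_map b.reverse t₂ (hdiv t₂ ⟨t₃ * (s * (t₁ * (t₄ * ∏ i ∈ idx, t i))), by show t₃ * _ = _; ring⟩)
        hcol₂ (Submonoid.powers c))
  have hIB : Ideal.ofList fs' = I.map ψ := by
    rw [hfs', LCI15.ofList_map_unit hu, Ideal.map_ofList]
  refine ⟨fs', hmap, ⟨hwr, ?_⟩, ?_, fun {_} => ?_⟩
  · rw [smul_eq_mul, Ideal.mul_top]
    intro htop
    have h1 : (1 : B) ∈ Ideal.ofList fs' := htop ▸ Submodule.mem_top
    have h2 := Ideal.mem_map_of_mem φ.toRingHom h1
    rw [map_one, Ideal.map_ofList] at h2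
    have h3 : fs'.map φ.toRingHom = fs := hmap
    rw [h3] at h2
    exact (IsLocalRing.maximalIdeal.isMaximal A).ne_top
      ((Ideal.eq_top_iff_one _).2 (Ideal.span_le.2 hfs h2))
  · haveI : Module.Flat R (B ⧸ I.localized' B (Submonoid.powers c) (Algebra.linearMap S B)) := by
      haveI := FlatMorSlice.flat_away_of_forall (A := R) (Q := S ⧸ I) c fun r _ hr => hU (a := ⟨r, ‹_›⟩)
        (show t₃ ∉ r from fun h => hr (r.mul_mem_right _ h))
      exact Module.Flat.of_linearEquiv ((IsLocalizedModule.iso (Submonoid.powers c)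
        (Submodule.toLocalizedQuotient' B (Submonoid.powers c) (Algebra.linearMap S B) I)).symm.restrictScalars R)
    refine Module.Flat.of_linearEquiv ((Submodule.quotEquivOfEq (Ideal.ofList fs')
      (I.localized' B (Submonoid.powers c) (Algebra.linearMap S B)) ?_).restrictScalars R)
    rw [Ideal.localized'_eq_map]
    exact hIB
  · have hflatB : ψ.Flat := RingHom.flat_algebraMap_iff.2 (IsLocalization.flat B (Submonoid.powers c))
    obtain ⟨eB⟩ := DualLib.Shriek.nonempty_lbase_flat hflatB P
    let X := ((ModuleCat.extendScalars.{u, u, u} ψ).mapHomologicalComplex (ComplexShape.up ℤ)).obj P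
    haveI := KS17.preservesHomology_ext hflatB
    have hex : ∀ i, i ≠ 0 → X.ExactAt i := fun i hi' => by
      by_cases hr : i < lo ∨ hi < i
      · exact HomologicalComplex.ExactAt.of_isZero ((ModuleCat.extendScalars.{u, u, u} ψ).map_isZero (hPv i hr))
      · rw [HomologicalComplex.exactAt_iff_isZero_homology]
        refine IsZero.of_iso ?_ ((P.sc i).mapHomologyIso (ModuleCat.extendScalars.{u, u, u} ψ))
        refine KS17.isZero_of_killed ψ _ (t i) (hdiv _ ?_) (htk i hi')
        exact (Finset.dvd_prod_of_mem (s := idx) t (Finset.mem_erase.2 ⟨hi', Finset.mem_Icc.2 (by omega)⟩)).trans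
          ⟨t₃ * (s * (t₁ * (t₂ * t₄))), by show t₃ * _ = _; ring⟩
    obtain ⟨eS⟩ := KF17.nonempty_iso_single X hex
    haveI := hiso B ψ hflatB (hdiv t₄ ⟨t₃ * (s * (t₁ * (t₂ * ∏ i ∈ idx, t i))), by show t₃ * _ = _; ring⟩)
    obtain ⟨eJ⟩ := KS17.nonempty_quot_iso ψ I
    obtain ⟨eKB⟩ := KZeroLib.KoszulPoint.nonempty_koszul_iso B fs' hwr'
    exact ⟨(DRing.LBaseChange ψ).mapIso eP.symm ≪≫ eB ≪≫ eS ≪≫
      (DerivedCategory.singleFunctor (ModuleCat.{u} B) 0).mapIso
        ((P.sc 0).mapHomologyIso (ModuleCat.extendScalars.{u, u, u} ψ) ≪≫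
          asIso ((ModuleCat.extendScalars.{u, u, u} ψ).map a) ≪≫ eJ ≪≫
          (Submodule.quotEquivOfEq _ _ hIB.symm).toModuleIso) ≪≫ eKB.symm⟩

end Groth.Agent.S6738
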