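import Groth.Statements.S6739
import Groth.Agent.DQCoh.PointDetect17
import Groth.Agent.BCFlat16.TenInv

set_option autoImplicit false
set_option backward.isDefEq.respectTransparency false
set_option linter.style.haveILetI false
universe u
open CategoryTheory CategoryTheory.Limits AlgebraicGeometry
attribute [local instance] HasDerivedCategory.standard
open DEquiv

namespace Groth.Agent.S6739

open Groth.Agent.Dual22Lib DerivedCategory in
/-- A map whose cone has no cohomology in degrees `i - 1` and `i` is an isomorphism in degree `i`. -/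
private theorem isIso_of_cone {C : Type*} [Category C] [Abelian C] [HasDerivedCategory C]
    (T : Pretriangulated.Triangle (DerivedCategory C)) (hT : T ∈ Pretriangulated.distinguishedTriangles) (i : ℤ)
    (h₀ : IsZero ((homologyFunctor C (i - 1)).obj T.obj₃)) (h₁ : IsZero ((homologyFunctor C i).obj T.obj₃)) :
    IsIso ((homologyFunctor C i).map T.mor₁) := by
  haveI := (HomologySequence.epi_homologyMap_mor₁_iff T hT i).2 (h₁.eq_of_tgt _ _)
  haveI := (HomologySequence.mono_homologyMap_mor₁_iff T hT (i - 1) i (by omega)).2 (h₀.eq_of_src _ _)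
  exact isIso_of_mono_of_epi _

open DerivedCategory in
/-- Vanishing of a cohomology object of the cone. -/
private theorem isZero_cone {C : Type*} [Category C] [Abelian C] [HasDerivedCategory C]
    (T : Pretriangulated.Triangle (DerivedCategory C)) (hT : T ∈ Pretriangulated.distinguishedTriangles) (i j : ℤ)
    (hij : i + 1 = j) (h₀ : Epi ((homologyFunctor C i).map T.mor₁))
    (h₁ : Mono ((homologyFunctor C j).map T.mor₁)) :
    IsZero ((homologyFunctor C i).obj T.obj₃) :=
  (HomologySequence.exact₃ T hT i j hij).isZero_X₂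
    ((HomologySequence.epi_homologyMap_mor₁_iff T hT i).1 h₀)
    ((HomologySequence.mono_homologyMap_mor₁_iff T hT i j hij).1 h₁)

/-- Let k be a field and X, Y schemes of finite type over k. Let K_0 ⟶ K_1 ⟶ K_2 ⟶ ⋯ be a system of
perfect objects of D(O_{X ×_k Y}) and m ≥ 0 an integer such that (1) H^q(K_n) = 0 for q > m and all
n, and (2) for every coherent O_X-module F whose support is a finite set of closed points, each
object R pr_{2,*}(pr_1^* F ⊗^L K_n) has zero cohomology sheaves except possibly in degrees lying in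
[-m, m] ∪ [-m-n, m-n], and whenever n > 2m, the maps induced by the system are isomorphisms on the
i-th cohomology sheaves of these objects for all i with -m ≤ i ≤ m. Then the cohomology sheaves of
each K_n are zero in every degree not in [-m, m] ∪ [-m-n, m-n], and once n > 2m, each map K_n ⟶
K_{n+1} of the system induces an isomorphism on the i-th cohomology sheaf for all i with -m ≤ i ≤ m.
(The derived functors - ⊗^L pr_1^* F and R pr_{2,*} are assumed to exist, as instance binders; pr_1
is flat, so pr_1^* F is the derived pullback. A further splitting of K_n when X and Y are smooth is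
not part of this statement.) -/
theorem result
    (k : Type u) [Field k] (X Y : Scheme.{u}) [X.Over (Spec (.of k))] [Y.Over (Spec (.of k))]
    [LocallyOfFiniteType (X ↘ Spec (.of k))] [CompactSpace X] [LocallyOfFiniteType (Y ↘ Spec (.of k))] [CompactSpace Y]
    [∀ F : X.Modules, DCoh.HasLTensorMod ((Scheme.Modules.pullback (pullback.fst (X ↘ Spec (.of k)) (Y ↘ Spec (.of k)))).obj F)]
    [DCoh.HasRpush (pullback.snd (X ↘ Spec (.of k)) (Y ↘ Spec (.of k)))]
    (K : ℕ → DCoh.D (pullback (X ↘ Spec (.of k)) (Y ↘ Spec (.of k)))) (t : ∀ n : ℕ, K n ⟶ K (n + 1)) (hK : ∀ n, DCoh.IsPerfect (K n))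
    (m : ℕ) (h1 : ∀ (n : ℕ) (q : ℤ), (m : ℤ) < q → IsZero (DCoh.HD (K n) q))
    (h2 : ∀ (F : X.Modules), Coh.IsCoh F → (CohB1.support F).Finite →
      (∀ x ∈ CohB1.support F, IsClosed ({x} : Set X)) →
      (∀ (n : ℕ) (i : ℤ), ¬ (-(m : ℤ) ≤ i ∧ i ≤ m) → ¬ (-(m : ℤ) - n ≤ i ∧ i ≤ (m : ℤ) - n) →
          IsZero (DCoh.HD ((DCoh.Rpush (pullback.snd (X ↘ Spec (.of k)) (Y ↘ Spec (.of k)))).obj ((DCoh.LTensorMod ((Scheme.Modules.pullback (pullback.fst (X ↘ Spec (.of k)) (Y ↘ Spec (.of k)))).obj F)).obj (K n))) i)) ∧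
      (∀ (n : ℕ) (i : ℤ), 2 * m < n → -(m : ℤ) ≤ i → i ≤ m →
          IsIso ((DerivedCategory.homologyFunctor _ i).map ((DCoh.Rpush (pullback.snd (X ↘ Spec (.of k)) (Y ↘ Spec (.of k)))).map ((DCoh.LTensorMod ((Scheme.Modules.pullback (pullback.fst (X ↘ Spec (.of k)) (Y ↘ Spec (.of k)))).obj F)).map (t n)))))) :
    (∀ (n : ℕ) (i : ℤ), ¬ (-(m : ℤ) ≤ i ∧ i ≤ m) → ¬ (-(m : ℤ) - n ≤ i ∧ i ≤ (m : ℤ) - n) →
        IsZero (DCoh.HD (K n) i)) ∧
    ∀ (n : ℕ) (i : ℤ), 2 * m < n → -(m : ℤ) ≤ i → i ≤ m →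
        IsIso ((DerivedCategory.homologyFunctor _ i).map (t n)) := by
  let sX := X ↘ Spec (CommRingCat.of k)
  let sY := Y ↘ Spec (CommRingCat.of k)
  refine ⟨fun n i hi hi' => DQCoh.PointDetect17.isZero_HD_of_points sX sY (K n) (hK n) i
    fun F hF hfin hcl => (h2 F hF hfin hcl).1 n i hi hi', fun n i hn hi₁ hi₂ => ?_⟩
  obtain ⟨C, a, b, hT⟩ := Pretriangulated.distinguished_cocone_triangle (t n)
  have hC : DCoh.IsPerfect C := DCat.PCTriangle.perfect_cone hT (hK n) (hK (n + 1))
  have hzero : ∀ j : ℤ, -(m : ℤ) - 1 ≤ j → j ≤ m → IsZero (DCoh.HD C j) := fun j hj₁ hj₂ =>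
    DQCoh.PointDetect17.isZero_HD_of_points sX sY C hC j fun F hF hfin hcl => by
      obtain ⟨hv, hiso⟩ := h2 F hF hfin hcl
      let G := (Scheme.Modules.pullback (pullback.fst sX sY)).obj F
      let Φ := DCoh.LTensorMod G ⋙ DCoh.Rpush (pullback.snd sX sY)
      have hΦ : Dual22Lib.WeakExact.TriExact Φ := by
        obtain ⟨e⟩ := BCFlat16.nonempty_LTensorMod_nat G
        exact (Dual22Lib.WeakExact.TriExact.of_iso e.symm (Dual22Lib.TenLocal.triExact_LTensor _)).comp
          (Dual22Lib.TenLocal.triExact_Rpush _)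
      obtain ⟨δ, hδ⟩ := hΦ _ hT
      refine isZero_cone _ hδ j (j + 1) rfl ?_ ?_
      · by_cases hj : -(m : ℤ) ≤ j
        · exact @IsIso.epi_of_iso _ _ _ _ _ (hiso n j hn hj hj₂)
        · exact ⟨fun g g' _ => (hv (n + 1) j (fun h => hj h.1) (by push_cast; omega)).eq_of_src g g'⟩
      · by_cases hj : j + 1 ≤ (m : ℤ)
        · exact @IsIso.mono_of_iso _ _ _ _ _ (hiso n (j + 1) hn (by omega) hj)
        · exact ⟨fun g g' _ => (hv n (j + 1) (fun h => hj h.2) (by omega)).eq_of_tgt g g'⟩
  exact isIso_of_cone _ hT i (hzero _ (by omega) (by omega)) (hzero _ (by omega) hi₂)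

end Groth.Agent.S6739
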