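import Groth.Statements.S6742
import Groth.Agent.Dual22Lib.HomFinite
import Groth.Agent.S1011
import Groth.Agent.S1006
-- import your own Groth.Agent.* helpers here

set_option autoImplicit false
universe u
open CategoryTheory AlgebraicGeometry
attribute [local instance] HasDerivedCategory.standard
open DEquiv

namespace Groth.Agent.S6742

/-- Let X be a scheme proper over a field k, let K be an object of D(O_X) which is bounded and has
coherent cohomology sheaves, and let E be a perfect object of D(O_X). Then the k-vector spaces
Ext^i_X(E, K) = Hom(E, K⟦i⟧) (k-linear structure induced by X → Spec k) are finite-dimensional for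
all i ∈ ℤ and nonzero for only finitely many i. -/
theorem result
    (k : Type u) [Field k] (X : Scheme.{u}) [X.Over (Spec (.of k))] [IsProper (X ↘ Spec (.of k))]
    (K : DCoh.D X) (hK : SGA6.cohbP X K) (E : DCoh.D X) (hE : DCoh.IsPerfect E) :
    (∀ i : ℤ, Module.Finite k (E ⟶ (shiftFunctor (DCoh.D X) i).obj K)) ∧
        Set.Finite {i : ℤ | Nontrivial (E ⟶ (shiftFunctor (DCoh.D X) i).obj K)} := by
  haveI : IsNoetherian X := by
    haveI := LocallyOfFiniteType.isLocallyNoetherian (X ↘ Spec (CommRingCat.of k))
    haveI : CompactSpace X := QuasiCompact.compactSpace_of_compactSpace (X ↘ Spec (CommRingCat.of k))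
    exact {}
  obtain ⟨hKc, a, b, ha, hb⟩ := hK
  obtain ⟨hEc, a', b', ha', hb'⟩ := Groth.Agent.S1006.result X E hE
  haveI := ha; haveI := hb; haveI := hb'
  refine ⟨fun i => ?_, ?_⟩
  · haveI : ((shiftFunctor (DCoh.D X) i).obj K).IsGE (a - i) :=
      DerivedCategory.TStructure.t.isGE_shift K a i (a - i) (by omega)
    exact Groth.Agent.Dual22Lib.HomFinite.finite_hom E _ b' (a - i) hEc
      (Groth.Agent.Dual22Lib.FinHom.isCohD_shift hKc i)
  · refine ((Groth.Agent.S1011.result X E hE).2 K a b (fun i => (hKc i).1) ha hb).subset fun i hi => ?_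
    haveI : Nontrivial (E ⟶ (shiftFunctor (DCoh.D X) i).obj K) := hi
    exact exists_ne 0

end Groth.Agent.S6742

#print axioms Groth.Agent.S6742.result
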