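import Groth.Statements.S6765
import Groth.Agent.DCat.SerreFunctor17
import Groth.Agent.DCat.KernelGor17
import Groth.Agent.Dual22Lib.GorMor
import Groth.Agent.CubeLib.GlobalSec

set_option autoImplicit false
set_option backward.isDefEq.respectTransparency false
universe u
open CategoryTheory AlgebraicGeometry
attribute [local instance] HasDerivedCategory.standard
open DEquiv
open Groth.Agent

namespace Groth.Agent.S6765

/-- Let X be a scheme proper over a field k which is Gorenstein, with structure morphism f : X → Spec k.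
Assume (instance binders and hypotheses, all true theorems not available at this pin) that Rf_*
exists on D(O_X) and preserves D_QCoh, that its restriction to D_QCoh has a right adjoint a, and let
ω_X^• = a(O_{Spec k}) be the dualizing complex, computed on a chosen object of D_QCoh(Spec k)
identified with O_{Spec k}⟦0⟧ and represented by a chosen complex W of O_X-modules with - ⊗^L W
defined. Then the k-linear category D_perf(O_X) of perfect objects (the instance hypothesis records
that it is a triangulated subcategory; Hom spaces are finite-dimensional as X is proper) admits a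
Serre functor — a k-linear auto-equivalence S with k-linear isomorphisms Hom(K, L) ≅ Hom(L, S K)^∨
natural in both variables — whose functor S, followed by the inclusion into D(O_X), is isomorphic to
K ↦ K ⊗^L ω_X^•. (The Serre duality isomorphisms themselves are asserted to exist, not identified
with a named pairing.) -/
theorem result
    (k : Type u) [Field k] (X : Scheme.{u}) [X.Over (Spec (.of k))] [IsProper (X ↘ Spec (.of k))]
    (hG : Dual3.IsGorenstein X)
    [DCoh.HasRpush (X ↘ Spec (.of k))] (hq : DCoh.RpushPreservesQCoh (X ↘ Spec (.of k))) [DCoh.HasShriek (X ↘ Spec (.of k)) hq]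
    (OY : DCoh.DQCoh (Spec (.of k)))
    (hOY : OY.obj ≅ DCoh.inD (Spec (.of k)) (Coh.structureModule (Spec (.of k))))
    (W : CochainComplex X.Modules ℤ) (hW : DCoh.toD X W ≅ DCoh.dualizingCx (X ↘ Spec (.of k)) hq OY)
    [DCoh.HasLTensorCx W] [(SGA6.perfP X).IsTriangulated] :
    ∃ σ : KLin.SerreFunctor k (SGA6.perfP X).FullSubcategory,
      Nonempty (σ.S.functor ⋙ ObjectProperty.ι (SGA6.perfP X) ≅
        ObjectProperty.ι (SGA6.perfP X) ⋙ DCoh.LTensorCx W) := by
  let f := X ↘ Spec (CommRingCat.of k)
  haveI : IsNoetherian (Spec (CommRingCat.of k)) := inferInstance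
  haveI : Flat f := CubeLib.flat_of_field f
  haveI : Limits.PreservesFiniteLimits (tilde.functor (CommRingCat.of k)) :=
    AffSchLib.preservesFiniteLimits_tilde _
  have hGm : Dual3.IsGorensteinMor f := fun x => (Dual22Lib.GorMor.isGorensteinAt_of_flat f hG x).1
  obtain ⟨W₀, hW₀, ⟨eW₀⟩⟩ := DCat.PullPerf.exists_kflat_rep (DCoh.toD X W)
  have pW : DCoh.IsPerfect (DerivedCategory.Q.obj W₀) :=
    DCat.PCTriangle.perfect_iso (eW₀ ≪≫ hW).symm
      (DCat.KernelGor17.isPerfect f hq _ (DCoh.shriekAdj f hq) OY hOY hGm)
  have eW : DCat.KernelDual17.EndTrivial (DerivedCategory.Q.obj W₀) :=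
    DCat.KernelDual17.endTrivial_of_iso (eW₀ ≪≫ hW).symm
      (DCat.KernelGor17.endTrivial f hq _ (DCoh.shriekAdj f hq) OY hOY)
  obtain ⟨T, hT⟩ := DCat.SerrePairing17.exists_trace hq OY hOY (DerivedCategory.Q.obj W₀) (eW₀ ≪≫ hW)
  haveI := DCat.LTensorSheaf.hasLTensorCx W₀
  obtain ⟨c⟩ := DCat.TensorCongr.nonempty_congr (E := W) (E' := W₀) eW₀.symm
  exact DCat.SerreFunctor17.exists_serreFunctor hW₀ T pW eW hT (DCoh.LTensorCx W)
    (c ≪≫ DCat.SerreLeft17.ltIso hW₀)

end Groth.Agent.S6765
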