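import Groth.Statements.S6769
import Groth.Agent.CohDer1.EWModules
-- import your own Groth.Agent.* helpers here

set_option autoImplicit false
set_option linter.style.haveILetI false
universe u
open CategoryTheory CategoryTheory.Limits TensorProduct
open scoped ModuleCat.Algebra
open FunMor

namespace Groth.Agent.S6769

/-- Let R be a commutative ring and A, B commutative R-algebras; Mod_A and Mod_B are R-linear
categories. Suppose F, F' : Mod_A ⥤ Mod_B are R-linear functors, each of which preserves finite
colimits (so is right exact) and also preserves direct sums indexed by any set. Then: (i) there is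
an A ⊗_R B-module K — a module over A and over B with commuting actions on which the two R-actions
agree — and B-linear isomorphisms K ⊗_A M ≅ F(M) natural in the A-module M; (ii) a natural
transformation F ⟶ F' is determined by its component at A, and a B-linear map φ : F(A) ⟶ F'(A) is
the component at A of some natural transformation F ⟶ F' if and only if it commutes with the
A-actions, i.e. F(a · id_A) ≫ φ = φ ≫ F'(a · id_A) for all a ∈ A. (Together: K ↦ (- ⊗_A K) is an
equivalence from Mod_{A ⊗_R B} onto the category of such functors.) -/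
theorem result
    (R : Type u) [CommRing R] (A B : Type u) [CommRing A] [CommRing B] [Algebra R A] [Algebra R B]
    (F F' : ModuleCat.{u} A ⥤ ModuleCat.{u} B) [F.Additive] [F.Linear R] [F'.Additive] [F'.Linear R]
    [PreservesFiniteColimits F] [∀ J : Type u, PreservesColimitsOfShape (Discrete J) F]
    [PreservesFiniteColimits F'] [∀ J : Type u, PreservesColimitsOfShape (Discrete J) F'] :
    (∃ (K : Type u) (_ : AddCommGroup K) (_ : Module A K) (_ : Module B K) (_ : SMulCommClass A B K),
      (∀ (r : R) (x : K), algebraMap R A r • x = algebraMap R B r • x) ∧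
      ∃ η : ∀ M : ModuleCat.{u} A, (K ⊗[A] M) ≃ₗ[B] F.obj M,
        ∀ (M N : ModuleCat.{u} A) (f : M ⟶ N) (x : K ⊗[A] M),
          η N (LinearMap.lTensor K f.hom x) = F.map f (η M x)) ∧
    (∀ t t' : F ⟶ F', t.app (ModuleCat.of A A) = t'.app (ModuleCat.of A A) → t = t') ∧
    (∀ φ : F.obj (ModuleCat.of A A) ⟶ F'.obj (ModuleCat.of A A),
      (∃ t : F ⟶ F', t.app (ModuleCat.of A A) = φ) ↔
        ∀ a : A, F.map (a • 𝟙 (ModuleCat.of A A)) ≫ φ = φ ≫ F'.map (a • 𝟙 (ModuleCat.of A A))) := by
  haveI := Groth.Agent.CohDer1.EWModules.smul_comm' F
  letI := Groth.Agent.CohDer1.EWModules.actModule F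
  letI := Groth.Agent.CohDer1.EWModules.actModule F'
  haveI := Groth.Agent.CohDer1.EWModules.smul_comm' F'
  obtain ⟨t₁, hiso, ht₁⟩ := Groth.Agent.CohDer1.EWModules.exists_eta F
  obtain ⟨t₂, -, ht₂⟩ := Groth.Agent.CohDer1.EWModules.exists_eta F'
  refine ⟨⟨F.obj (ModuleCat.of A A), inferInstance, Groth.Agent.CohDer1.EWModules.actModule F, inferInstance,
    inferInstance, fun r x => ?_, fun M => haveI := hiso M; (asIso (t₁.app M)).toLinearEquiv, fun M N f x => ?_⟩, ?_, ?_⟩
  · change F.map (algebraMap R A r • 𝟙 (ModuleCat.of A A)) x = algebraMap R B r • x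
    have h := congrArg (fun g : F.obj (ModuleCat.of A A) ⟶ F.obj (ModuleCat.of A A) => g x)
      (F.map_smul (R := R) (f := 𝟙 (ModuleCat.of A A)) r)
    refine Eq.trans ?_ (h.trans ?_)
    · refine congrArg (fun g => F.map g x) (ModuleCat.hom_ext (LinearMap.ext fun y => ?_))
      rfl
    · rw [F.map_id]
      rfl
  · exact (NatTrans.naturality_apply t₁ f x)
  · intro t t' h
    refine NatTrans.ext (funext fun M => Groth.Agent.CohDer1.EWModules.hom_ext F fun m => ?_)
    rw [t.naturality, t'.naturality, h]
  · intro φ
    constructor
    · rintro ⟨t, rfl⟩ a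
      exact t.naturality _
    · intro h
      let φl : F.obj (ModuleCat.of A A) →ₗ[A] F'.obj (ModuleCat.of A A) :=
        { toFun := φ
          map_add' := fun x y => map_add φ.hom x y
          map_smul' := fun a x => congr_arg (fun g : F.obj (ModuleCat.of A A) ⟶ F'.obj (ModuleCat.of A A) => g x) (h a) }
      let s : Groth.Agent.CohDer1.EWModules.tensorFunctor (A := A) (B := B) (F.obj (ModuleCat.of A A)) ⟶
          Groth.Agent.CohDer1.EWModules.tensorFunctor (A := A) (B := B) (F'.obj (ModuleCat.of A A)) :=
        { app := fun M => ModuleCat.ofHom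
            { toFun := LinearMap.rTensor M φl
              map_add' := map_add _
              map_smul' := fun b z => by
                induction z using TensorProduct.induction_on with
                | zero => simp
                | tmul x m => exact congrArg (fun y => y ⊗ₜ[A] m) (φ.hom.map_smul b x)
                | add p q hp hq => simp_all [smul_add] }
          naturality := fun M N f => by
            ext z
            change LinearMap.rTensor N φl (LinearMap.lTensor _ f.hom z) = LinearMap.lTensor _ f.hom (LinearMap.rTensor M φl z)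
            exact LinearMap.congr_fun ((LinearMap.rTensor_comp_lTensor _ φl f.hom).trans (LinearMap.lTensor_comp_rTensor _ φl f.hom).symm) z }
      haveI : IsIso t₁ := NatIso.isIso_of_isIso_app t₁
      refine ⟨inv t₁ ≫ s ≫ t₂, ?_⟩
      haveI := hiso (ModuleCat.of A A)
      rw [NatTrans.comp_app, NatIso.isIso_inv_app, IsIso.inv_comp_eq]
      ext z
      induction z using TensorProduct.induction_on with
      | zero => exact (map_zero _).trans (map_zero _).symm
      | add p q hp hq => exact (map_add _ p q).trans ((congr (congrArg _ hp) hq).trans (map_add _ p q).symm)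
      | tmul x m =>
        change t₂.app _ (φl x ⊗ₜ[A] m) = φ (t₁.app _ (x ⊗ₜ[A] m))
        rw [ht₁, ht₂, ← Groth.Agent.CohDer1.EWModules.smul_id_eq_eltHom]
        exact (φl.map_smul m x).symm
end Groth.Agent.S6769
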