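import Mathlib.CategoryTheory.Abelian.Basic
import Mathlib.CategoryTheory.Limits.Shapes.Pullback.IsPullback.Basic
import Mathlib.Algebra.Homology.ShortComplex.Exact
import Mathlib

set_option autoImplicit false
open CategoryTheory CategoryTheory.Limits
universe v u
open CategoryTheory CategoryTheory.Abelian

namespace Groth.Agent.S6775

/-- In an abelian category a cartesian square whose bottom arrow `k` is an epimorphism is also
cocartesian, and the arrow `f` opposite to `k` is an epimorphism. -/
theorem result {A : Type u} [Category.{v} A] [Abelian A] {w x y z : A} (f : w ⟶ y) (g : w ⟶ x) (h : y ⟶ z) (k : x ⟶ z) (sq : IsPullback f g h k) [Epi k] : IsPushout f g h k ∧ Epi f := by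
  have hf : Epi f := by
    have h' : MorphismProperty.epimorphisms A f :=
      MorphismProperty.of_isPullback (P := MorphismProperty.epimorphisms A) sq.flip
        (show MorphismProperty.epimorphisms A k from ‹_›)
    exact h'
  let S := ShortComplex.mk (kernel.ι k) k (kernel.condition k)
  have hS : S.Exact := ShortComplex.exact_of_f_is_kernel _ (kernelIsKernel k)
  have : Epi S.g := ‹Epi k›
  have key : ∀ {T : A} (a : y ⟶ T) (b : x ⟶ T), f ≫ a = g ≫ b → kernel.ι k ≫ b = 0 := by
    intro T a b hab
    obtain ⟨l, hl₁, hl₂⟩ := sq.exists_lift (0 : kernel k ⟶ y) (kernel.ι k) (by simp)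
    rw [← hl₂, Category.assoc, ← hab, ← Category.assoc, hl₁, zero_comp]
  refine ⟨IsPushout.of_isColimit' ⟨sq.w⟩ (PushoutCocone.IsColimit.mk sq.w
    (fun c => hS.desc c.inr (key c.inl c.inr c.condition)) (fun c => ?_) (fun c => ?_)
    (fun c m _ hm => ?_)), hf⟩
  · rw [← cancel_epi f, ← Category.assoc, sq.w, Category.assoc,
      hS.g_desc c.inr (key c.inl c.inr c.condition)]
    exact c.condition.symm
  · exact hS.g_desc c.inr (key c.inl c.inr c.condition)
  · rw [← cancel_epi k]
    exact hm.trans (hS.g_desc c.inr (key c.inl c.inr c.condition)).symm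

end Groth.Agent.S6775
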