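import Mathlib.CategoryTheory.Abelian.Basic
import Mathlib.CategoryTheory.Limits.Shapes.Pullback.IsPullback.Basic
import Mathlib.Algebra.Homology.ShortComplex.Exact
import Mathlib

set_option autoImplicit false
open CategoryTheory CategoryTheory.Limits
universe v u
open CategoryTheory CategoryTheory.Abelian

namespace Groth.Agent.S6776

/-- In an abelian category a cocartesian square whose left arrow `g` is a monomorphism is also
cartesian, and the arrow `h` opposite to `g` is a monomorphism. -/
theorem result {A : Type u} [Category.{v} A] [Abelian A] {w x y z : A} (f : w ⟶ y) (g : w ⟶ x) (h : y ⟶ z) (k : x ⟶ z) (sq : IsPushout f g h k) [Mono g] : IsPullback f g h k ∧ Mono h := by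
  let S := ShortComplex.mk g (cokernel.π g) (cokernel.condition g)
  have hS : S.Exact := ShortComplex.exact_cokernel g
  have : Mono S.f := ‹Mono g›
  have hh : Mono h := by
    have h' : MorphismProperty.monomorphisms A h :=
      MorphismProperty.of_isPushout (P := MorphismProperty.monomorphisms A) sq
        (show MorphismProperty.monomorphisms A g from ‹_›)
    exact h'
  obtain ⟨l, hl₁, hl₂⟩ := sq.exists_desc (0 : y ⟶ cokernel g) (cokernel.π g) (by simp)
  have key : ∀ {T : A} (a : T ⟶ y) (b : T ⟶ x), a ≫ h = b ≫ k → b ≫ cokernel.π g = 0 := by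
    intro T a b hab
    rw [← hl₂, ← Category.assoc, ← hab, Category.assoc, hl₁, comp_zero]
  refine ⟨IsPullback.of_isLimit' ⟨sq.w⟩ (PullbackCone.IsLimit.mk sq.w
    (fun c => hS.lift c.snd (key c.fst c.snd c.condition)) (fun c => ?_) (fun c => ?_)
    (fun c m _ hm => ?_)), hh⟩
  · rw [← cancel_mono h, Category.assoc, sq.w, ← Category.assoc,
      hS.lift_f c.snd (key c.fst c.snd c.condition)]
    exact c.condition.symm
  · exact hS.lift_f c.snd (key c.fst c.snd c.condition)
  · rw [← cancel_mono g]
    exact hm.trans (hS.lift_f c.snd (key c.fst c.snd c.condition)).symm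

end Groth.Agent.S6776
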