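import Mathlib.AlgebraicTopology.SimplicialSet.KanComplex
import Mathlib.AlgebraicTopology.SimplicialObject.Coskeletal
import Mathlib.AlgebraicTopology.SimplicialSet.Coskeletal
import Mathlib.AlgebraicTopology.SimplicialSet.CategoryWithFibrations
import Mathlib.AlgebraicTopology.SimplicialSet.Boundary
import Mathlib.AlgebraicTopology.SimplicialObject.Coskeletal

set_option autoImplicit false
namespace CategoryTheory
end CategoryTheory
namespace Opposite
end Opposite
open CategoryTheory Opposite
universe u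
namespace SSet
end SSet
open SSet

namespace Groth.Agent.S6782

open CategoryTheory Opposite Simplicial in
lemma ext_of_coskeletal {A V : SSet.{u}} (n : ℕ) [SimplicialObject.IsCoskeletal V n] (a b : A ⟶ V)
    (h : ∀ (d : ℕ), d ≤ n → ∀ s : A.obj (op ⦋d⦌), a.app _ s = b.app _ s) : a = b :=
  Functor.hom_ext_of_isRightKanExtension V
    (𝟙 ((SimplexCategory.Truncated.inclusion n).op ⋙ V)) a b (by
    ext ⟨⟨⟨d⟩, hd⟩⟩ s
    exact h d hd s)


/-- A map of `n`-coskeletal simplicial sets which is bijective on simplices of dimension `< n` and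
surjective on `n`-simplices is a trivial Kan fibration. -/
theorem result {U V : SSet.{u}} (f : V ⟶ U) (n : ℕ) (h1 : ∀ i : ℕ, i < n → Function.Bijective (f.app (op (SimplexCategory.mk i)))) (h2 : Function.Surjective (f.app (op (SimplexCategory.mk n)))) [SimplicialObject.IsCoskeletal U n] [SimplicialObject.IsCoskeletal V n] : SSet.modelCategoryQuillen.I.rlp f := by
  open Simplicial in
  intro A B i hi
  obtain ⟨k⟩ := hi
  refine ⟨fun {b t} sq => ?_⟩
  rcases Nat.lt_or_ge n k with hk | hk
  · -- above the coskeletal degree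
    let L : (Δ[k] : SSet.{u}) ⟶ V := V.liftOfIsRightKanExtension
      (𝟙 ((SimplexCategory.Truncated.inclusion n).op ⋙ V)) _
      { app := fun Δ => ↾fun s => b.app (op Δ.unop.obj) ⟨s, by
          have := SSet.boundary_obj_eq_univ.{u} Δ.unop.obj.len k (lt_of_le_of_lt Δ.unop.property hk)
          exact this ▸ Set.mem_univ _⟩
        naturality := fun Δ Δ' θ => by
          ext s
          exact (NatTrans.naturality_apply b θ.unop.hom.op ⟨s, _⟩) }
    have hL : ∀ (d : ℕ) (hd : d ≤ n) (s : (∂Δ[k] : SSet.{u}).obj (op ⦋d⦌)),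
        L.app _ s.1 = b.app _ s := fun d hd s =>
      ConcreteCategory.congr_hom (V.liftOfIsRightKanExtension_fac_app
        (𝟙 ((SimplexCategory.Truncated.inclusion n).op ⋙ V)) _ _ (op ⟨⦋d⦌, hd⟩)) s.1
    refine ⟨⟨⟨L, ?_, ?_⟩⟩⟩
    · exact ext_of_coskeletal n _ _ hL
    · refine ext_of_coskeletal n _ _ fun d hd s => ?_
      have hs : s ∈ (∂Δ[k] : (Δ[k] : SSet.{u}).Subcomplex).obj (op ⦋d⦌) := by
        rw [SSet.boundary_obj_eq_univ d k (lt_of_le_of_lt hd hk)]
        exact Set.mem_univ _
      exact (congrArg (f.app _) (hL d hd ⟨s, hs⟩)).trans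
        (ConcreteCategory.congr_hom (NatTrans.congr_app sq.w (op ⦋d⦌)) ⟨s, hs⟩)
  · obtain ⟨x, hx⟩ : ∃ x, f.app (op ⦋k⦌) x = SSet.yonedaEquiv t := by
      rcases hk.lt_or_eq with hk' | rfl
      · exact (h1 k hk').2 _
      · exact h2 _
    have hxt : SSet.yonedaEquiv.symm x ≫ f = t := by
      apply SSet.yonedaEquiv.injective
      rw [SSet.yonedaEquiv_comp, Equiv.apply_symm_apply, hx]
    refine ⟨⟨⟨SSet.yonedaEquiv.symm x, ?_, hxt⟩⟩⟩
    cases k with
    | zero =>
      ext Δ s
    | succ p =>
      refine SSet.boundary.hom_ext fun i => ?_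
      apply SSet.yonedaEquiv.injective
      apply (h1 p (Nat.lt_of_succ_le hk)).1
      refine (SSet.yonedaEquiv_comp _ f).symm.trans ((congrArg SSet.yonedaEquiv ?_).trans
        (SSet.yonedaEquiv_comp _ f))
      rw [Category.assoc, Category.assoc, Category.assoc, hxt, sq.w]

end Groth.Agent.S6782
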