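import Mathlib.AlgebraicTopology.SimplicialSet.KanComplex
import Mathlib.AlgebraicTopology.SimplicialObject.Coskeletal
import Mathlib.AlgebraicTopology.SimplicialSet.Coskeletal
import Mathlib.AlgebraicTopology.CechNerve
import Mathlib.AlgebraicTopology.SimplicialSet.CategoryWithFibrations
import Mathlib.AlgebraicTopology.SimplicialSet.Boundary
import Mathlib.AlgebraicTopology.CechNerve
import Mathlib.CategoryTheory.Limits.Types.Limits
import Mathlib.CategoryTheory.Limits.Shapes.WidePullbacks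

set_option autoImplicit false
namespace CategoryTheory
end CategoryTheory
open CategoryTheory
universe u
namespace SSet
end SSet
open SSet

namespace Groth.Agent.S6783

/-- For a surjective map of sets `f : A → B`, the augmentation from the Čech nerve of `f` (with
`n`-simplices the `(n+1)`-fold fibre product of `A` over `B`) to the constant simplicial set `B` is
a trivial Kan fibration. -/
theorem result {A B : Type u} (f : A ⟶ B) (hf : Function.Surjective f) : SSet.modelCategoryQuillen.I.rlp (Arrow.mk f).augmentedCechNerve.hom := by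
  open CategoryTheory.Limits Simplicial Opposite in
  intro P Q i hi
  obtain ⟨k⟩ := hi
  refine ⟨fun {σ t} sq => ?_⟩
  -- the value of the constant map `t`
  let b : B := t.app (op ⦋k⦌) (SSet.stdSimplex.objEquiv.symm (𝟙 ⦋k⦌))
  have ht : ∀ (Δ : SimplexCategoryᵒᵖ) (s : (Δ[k] : SSet.{u}).obj Δ), t.app Δ s = b := fun Δ s => by
    have h := NatTrans.naturality_apply t (SSet.stdSimplex.objEquiv s).op
      (SSet.stdSimplex.objEquiv.symm (𝟙 ⦋k⦌))
    refine Eq.trans (congrArg (t.app Δ) ?_) h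
    exact SSet.stdSimplex.objEquiv.injective (Category.comp_id _).symm
  let p : (Arrow.mk f).cechNerve.obj (op ⦋0⦌) ⟶ A :=
    WidePullback.π (fun _ : Fin 1 => f) (0 : Fin 1)
  have hv : ∀ a : Fin (k + 1), ∃ x : A, f x = b ∧
      ∀ (hm : SSet.stdSimplex.objEquiv.symm (⦋0⦌.const ⦋k⦌ a) ∈
        (∂Δ[k] : (Δ[k] : SSet.{u}).Subcomplex).obj (op ⦋0⦌)),
        x = p (σ.app (op ⦋0⦌) ⟨_, hm⟩) := fun a => by
    by_cases hm : SSet.stdSimplex.objEquiv.symm (⦋0⦌.const ⦋k⦌ a) ∈
        (∂Δ[k] : (Δ[k] : SSet.{u}).Subcomplex).obj (op ⦋0⦌)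
    · refine ⟨p (σ.app (op ⦋0⦌) ⟨_, hm⟩), ?_, fun _ => rfl⟩
      refine (ConcreteCategory.congr_hom
        (WidePullback.π_arrow (fun _ : Fin 1 => f) (0 : Fin 1)) (σ.app (op ⦋0⦌) ⟨_, hm⟩)).trans ?_
      exact (ConcreteCategory.congr_hom (NatTrans.congr_app sq.w (op ⦋0⦌)) ⟨_, hm⟩).trans (ht _ _)
    · obtain ⟨x, hx⟩ := hf b
      exact ⟨x, hx, fun h => absurd h hm⟩
  choose v hfv hvσ using hv
  let Lapp : ∀ Δ, (Δ[k] : SSet.{u}).obj Δ ⟶ (Arrow.mk f).cechNerve.obj Δ := fun Δ =>
    WidePullback.lift (↾fun _ => b)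
        (fun j => ↾fun s => v ((SSet.stdSimplex.objEquiv s).toOrderHom j))
        (fun j => by ext s; exact hfv _)
  have hLπ : ∀ (Δ : SimplexCategoryᵒᵖ) (j : Fin (Δ.unop.len + 1)) s,
      WidePullback.π (fun _ : Fin (Δ.unop.len + 1) => f) j (Lapp Δ s) =
        v ((SSet.stdSimplex.objEquiv s).toOrderHom j) := fun Δ j s =>
    ConcreteCategory.congr_hom (WidePullback.lift_π (fun _ : Fin (Δ.unop.len + 1) => f)
      (↾fun _ => b) (fun j => ↾fun s => v ((SSet.stdSimplex.objEquiv s).toOrderHom j))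
      (fun j => by ext s; exact hfv _) j) s
  have hLb : ∀ (Δ : SimplexCategoryᵒᵖ) s,
      WidePullback.base (fun _ : Fin (Δ.unop.len + 1) => f) (Lapp Δ s) = b := fun Δ s =>
    ConcreteCategory.congr_hom (WidePullback.lift_base (fun _ : Fin (Δ.unop.len + 1) => f)
      (↾fun _ => b) (fun j => ↾fun s => v ((SSet.stdSimplex.objEquiv s).toOrderHom j))
      (fun j => by ext s; exact hfv _)) s
  let L : (Δ[k] : SSet.{u}) ⟶ (Arrow.mk f).cechNerve :=
    { app := Lapp
      naturality := fun Δ Δ' θ => by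
        refine WidePullback.hom_ext _ _ _ (fun j => ?_) ?_
        · ext s
          refine (ConcreteCategory.congr_hom
            (WidePullback.lift_π (fun _ : Fin (Δ'.unop.len + 1) => f) _ _ _ j) _).trans ?_
          refine Eq.trans ?_ (ConcreteCategory.congr_hom
            (WidePullback.lift_π (fun _ : Fin (Δ'.unop.len + 1) => f) _ _ _ j) _).symm
          exact (hLπ Δ (θ.unop.toOrderHom j) s).symm
        · ext s
          refine (ConcreteCategory.congr_hom
            (WidePullback.lift_base (fun _ : Fin (Δ'.unop.len + 1) => f) _ _ _) _).trans ?_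
          refine Eq.trans ?_ (ConcreteCategory.congr_hom
            (WidePullback.lift_base (fun _ : Fin (Δ'.unop.len + 1) => f) _ _ _) _).symm
          exact (hLb Δ s).symm }
  refine ⟨⟨⟨L, ?_, ?_⟩⟩⟩
  · ext1 Δ
    apply WidePullback.hom_ext
    · intro j
      refine (Category.assoc _ _ _).trans ((congrArg (_ ≫ ·) (WidePullback.lift_π _ _ _ _ _)).trans ?_)
      ext ⟨s, hs⟩
      let θ : Δ ⟶ op ⦋0⦌ := (⦋0⦌.const Δ.unop j).op
      have hmem : SSet.stdSimplex.objEquiv.symm
          (⦋0⦌.const ⦋k⦌ ((SSet.stdSimplex.objEquiv s).toOrderHom j)) ∈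
          (∂Δ[k] : (Δ[k] : SSet.{u}).Subcomplex).obj (op ⦋0⦌) :=
        (∂Δ[k] : (Δ[k] : SSet.{u}).Subcomplex).map θ hs
      refine (hvσ _ hmem).trans ?_
      refine (congrArg p (NatTrans.naturality_apply σ θ ⟨s, hs⟩)).trans ?_
      exact ConcreteCategory.congr_hom
        (WidePullback.lift_π (fun _ : Fin 1 => f) _ _ _ (0 : Fin 1)) (σ.app Δ ⟨s, hs⟩)
    · refine (Category.assoc _ _ _).trans ((congrArg (_ ≫ ·) (WidePullback.lift_base _ _ _ _)).trans ?_)
      ext s
      exact ((ConcreteCategory.congr_hom (NatTrans.congr_app sq.w Δ) s).trans (ht Δ s.1)).symm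
  · ext Δ s
    exact (hLb Δ s).trans (ht Δ s).symm

end Groth.Agent.S6783
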