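import Mathlib.AlgebraicTopology.SimplicialSet.KanComplex
import Mathlib.AlgebraicTopology.SimplicialObject.Coskeletal
import Mathlib.AlgebraicTopology.SimplicialSet.Coskeletal
import Mathlib.AlgebraicTopology.SimplicialSet.StdSimplex
import Groth.Agent.SSet16.Cosk

set_option autoImplicit false
namespace CategoryTheory
end CategoryTheory
open CategoryTheory
universe u
namespace SSet
end SSet
open SSet

namespace Groth.Agent.S6784

/-- The standard simplex `Δ[n]` is `1`-coskeletal, i.e. it is the right Kan extension of its
`1`-truncation. -/
theorem result (n : ℕ) : SimplicialObject.IsCoskeletal (SSet.stdSimplex.{u}.obj (SimplexCategory.mk n)) 1 := by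
  exact Groth.Agent.SSet16.isCoskeletal_stdSimplex n

end Groth.Agent.S6784
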