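import Mathlib.AlgebraicTopology.SimplicialSet.KanComplex
import Mathlib.AlgebraicTopology.SimplicialObject.Coskeletal
import Mathlib.AlgebraicTopology.SimplicialSet.Coskeletal
import Mathlib.AlgebraicTopology.SimplicialSet.Homotopy
import Mathlib.AlgebraicTopology.SimplicialSet.CategoryWithFibrations
import Mathlib.AlgebraicTopology.SimplicialSet.Homotopy

set_option autoImplicit false
namespace CategoryTheory
end CategoryTheory
open CategoryTheory
universe u
namespace SSet
end SSet
open SSet

namespace Groth.Agent.S6785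

open CategoryTheory Opposite Simplicial MonoidalCategory in
/-- the two ends of a cylinder -/
def ends (X : SSet.{u}) : (X ⊗ Δ[1] : SSet.{u}).Subcomplex where
  obj Δ := {p | ∃ c : Fin 2, ∀ j, (SSet.stdSimplex.objEquiv p.2).toOrderHom j = c}
  map θ := fun p ⟨c, hc⟩ => ⟨c, fun j => hc _⟩

open CategoryTheory Opposite Simplicial MonoidalCategory in
lemma homotopy_of_comp_eq {X Y : SSet.{u}} (f : X ⟶ Y) (hf : SSet.modelCategoryQuillen.I.rlp f)
    (a b : X ⟶ X) (ha : a ≫ f = f) (hb : b ≫ f = f) : Nonempty (SSet.Homotopy a b) := by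
  let σ : (ends X : SSet.{u}) ⟶ X :=
    { app := fun Δ => ↾fun p =>
        if (SSet.stdSimplex.objEquiv p.1.2).toOrderHom 0 = 0 then a.app Δ p.1.1 else b.app Δ p.1.1
      naturality := fun Δ Δ' θ => by
        ext p
        obtain ⟨⟨x, s⟩, c, hc⟩ := p
        change (if (SSet.stdSimplex.objEquiv s).toOrderHom (θ.unop.toOrderHom 0) = 0 then
            a.app Δ' (X.map θ x) else b.app Δ' (X.map θ x)) =
          X.map θ (if (SSet.stdSimplex.objEquiv s).toOrderHom 0 = 0 then a.app Δ x else b.app Δ x)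
        rw [hc, hc]
        split_ifs
        · exact NatTrans.naturality_apply a θ x
        · exact NatTrans.naturality_apply b θ x }
  let p₁ : (X ⊗ Δ[1] : SSet.{u}) ⟶ X := { app := fun Δ => ↾fun p => p.1 }
  have hσ : σ ≫ f = (ends X).ι ≫ p₁ ≫ f := by
    ext Δ p
    change f.app Δ (if _ then a.app Δ p.1.1 else b.app Δ p.1.1) = f.app Δ p.1.1
    split_ifs
    · exact ConcreteCategory.congr_hom (NatTrans.congr_app ha Δ) p.1.1
    · exact ConcreteCategory.congr_hom (NatTrans.congr_app hb Δ) p.1.1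
  haveI : HasLiftingProperty (ends X).ι f := by
    have h' : (MorphismProperty.monomorphisms SSet.{u}).rlp f := by
      rw [SSet.rlp_monomorphisms]; exact hf
    exact h' _ (MorphismProperty.monomorphisms.infer_property _)
  have sq : CommSq σ (ends X).ι f (p₁ ≫ f) := ⟨hσ⟩
  refine ⟨{ h := sq.lift, h₀ := ?_, h₁ := ?_, rel := ?_ }⟩
  · ext Δ x
    let p := SSet.ι₀.app Δ x
    have hp : p ∈ (ends X).obj Δ := ⟨0, fun j => rfl⟩
    refine (ConcreteCategory.congr_hom (NatTrans.congr_app sq.fac_left Δ) ⟨p, hp⟩).trans ?_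
    exact if_pos (c := (SSet.stdSimplex.objEquiv p.2).toOrderHom 0 = 0) (t := a.app Δ x) (e := b.app Δ x) rfl
  · ext Δ x
    let p := SSet.ι₁.app Δ x
    have hp : p ∈ (ends X).obj Δ := ⟨1, fun j => rfl⟩
    refine (ConcreteCategory.congr_hom (NatTrans.congr_app sq.fac_left Δ) ⟨p, hp⟩).trans ?_
    exact if_neg (c := (SSet.stdSimplex.objEquiv p.2).toOrderHom 0 = 0) (t := a.app Δ x) (e := b.app Δ x)
      (show ¬ (1 : Fin 2) = 0 by decide)
  · ext Δ x
    exact x.1.2.elim


/-- A trivial Kan fibration `f : X ⟶ Y` of simplicial sets is a homotopy equivalence; more precisely it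
has a section `g`, and `g ∘ f` is homotopic to the identity of `X` by a single homotopy in each
direction. (The published statement only asserts a homotopy equivalence; the section and the
one-step homotopies are what its proof constructs.) -/
theorem result {X Y : SSet.{u}} (f : X ⟶ Y) (hf : SSet.modelCategoryQuillen.I.rlp f) : ∃ g : Y ⟶ X, g ≫ f = 𝟙 Y ∧ Nonempty (SSet.Homotopy (𝟙 X) (f ≫ g)) ∧ Nonempty (SSet.Homotopy (f ≫ g) (𝟙 X)) := by
  have h' : (MorphismProperty.monomorphisms SSet.{u}).rlp f := by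
    rw [SSet.rlp_monomorphisms]; exact hf
  haveI : HasLiftingProperty (⊥ : Y.Subcomplex).ι f :=
    h' _ (MorphismProperty.monomorphisms.infer_property _)
  have sq : CommSq (SSet.Subcomplex.isInitialBot.to X) (⊥ : Y.Subcomplex).ι f (𝟙 Y) :=
    ⟨SSet.Subcomplex.isInitialBot.hom_ext _ _⟩
  refine ⟨sq.lift, sq.fac_right, homotopy_of_comp_eq f hf (𝟙 X) (f ≫ sq.lift) (Category.id_comp f) ?_,
    homotopy_of_comp_eq f hf (f ≫ sq.lift) (𝟙 X) ?_ (Category.id_comp f)⟩
  · rw [Category.assoc, sq.fac_right, Category.comp_id]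
  · rw [Category.assoc, sq.fac_right, Category.comp_id]

end Groth.Agent.S6785
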