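import Groth.Statements.S6786
import Groth.Agent.DCat.MLSeq

set_option autoImplicit false
set_option backward.isDefEq.respectTransparency false
set_option backward.defeqAttrib.useBackward true
open CategoryTheory CategoryTheory.Limits
universe u
open HomAlg3

namespace Groth.Agent.S6786

/-- For a sequence `(A_i) ⟶ (B_i) ⟶ (C_i) ⟶ (D_i)` of inverse systems of abelian groups over `ℕ` that is
exact levelwise at the two middle places, if `(A_i)` is Mittag-Leffler then `lim B_i ⟶ lim C_i ⟶ lim
D_i` is exact. -/
theorem result {A B C D : ℕᵒᵖ ⥤ AddCommGrpCat.{u}} (a : A ⟶ B) (b : B ⟶ C) (c : C ⟶ D) (hB : ∀ i, (b.app i).hom.ker = (a.app i).hom.range) (hC : ∀ i, (c.app i).hom.ker = (b.app i).hom.range) (hA : (A ⋙ forget AddCommGrpCat).IsMittagLeffler) : (limMap c).hom.ker = (limMap b).hom.range := by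
  ext x
  constructor
  · intro hx
    have h0 : ∀ i, (c.app i).hom ((limit.π C i).hom x) = 0 := by
      intro i
      show (limit.π C i ≫ c.app i).hom x = 0
      rw [← limMap_π]
      show (limit.π D i).hom ((limMap c).hom x) = 0
      rw [show (limMap c).hom x = 0 from hx, map_zero]
    open Groth.Agent.DCat.MLSeq in
    obtain ⟨β, hβ⟩ := exists_lift_sections a b nat_cofinal hB hA (sectionOf (limit.cone C) x)
      (fun i => by
        have : (limit.π C i).hom x ∈ (c.app i).hom.ker := h0 i
        rw [hC] at this
        exact this)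
    open Groth.Agent.DCat.MLSeq in
    obtain ⟨y, hy⟩ := exists_of_section (limit.isLimit B) β
    refine ⟨y, Groth.Agent.DCat.MLSeq.ext_of_limit (limit.isLimit C) fun i => ?_⟩
    show (limMap b ≫ limit.π C i).hom y = _
    rw [limMap_π]
    show (b.app i).hom ((limit.π B i).hom y) = _
    exact (congrArg (b.app i).hom (hy i)).trans (hβ i)
  · rintro ⟨y, rfl⟩
    refine Groth.Agent.DCat.MLSeq.ext_of_limit (limit.isLimit D) fun i => ?_
    show (limMap b ≫ limMap c ≫ limit.π D i).hom y = (limit.π D i).hom 0
    rw [map_zero, limMap_π, ← Category.assoc, limMap_π, Category.assoc]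
    show (c.app i).hom ((b.app i).hom ((limit.π B i).hom y)) = 0
    have : (b.app i).hom ((limit.π B i).hom y) ∈ (c.app i).hom.ker := by rw [hC]; exact ⟨_, rfl⟩
    exact this


end Groth.Agent.S6786
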