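import Groth.Statements.S6787
import Groth.Agent.DCat.MLSeq

set_option autoImplicit false
set_option backward.isDefEq.respectTransparency false
set_option backward.defeqAttrib.useBackward true
open CategoryTheory CategoryTheory.Limits
universe u
open HomAlg3

namespace Groth.Agent.S6787

open CategoryTheory Opposite Groth.Agent.DCat.MLSeq in
lemma ml_of_essConstant {C : ℕᵒᵖ ⥤ AddCommGrpCat.{u}} {C₀ : AddCommGrpCat.{u}}
    {c : (Functor.const ℕᵒᵖ).obj C₀ ⟶ C} (h : DerCA.IsEssConstant C C₀ c) :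
    (C ⋙ forget AddCommGrpCat).IsMittagLeffler := by
  rw [ml_iff_g]
  obtain ⟨i₀, s, -, hs⟩ := h
  intro i
  obtain ⟨k, hk₀, hki, hk⟩ := hs i
  refine ⟨k, hki, fun l hkl x => ⟨(c.app (op l)).hom (s.hom (trg C hk₀ x)), ?_⟩⟩
  have h1 : trg C hki x = (c.app (op i)).hom (s.hom (trg C hk₀ x)) :=
    congrArg (fun φ => φ.hom x) hk
  rw [h1, trg_nat]
  rfl

/-- Take inverse systems `(A_i)`, `(B_i)`, `(C_i)` of abelian groups over `ℕ`, with morphisms of systems
`(A_i) ⟶ (B_i) ⟶ (C_i)` that give a short exact sequence at every index, and suppose `(C_i)` is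
essentially constant. Then `(A_i)` is Mittag-Leffler if and only if `(B_i)` is. -/
theorem result {A B C : ℕᵒᵖ ⥤ AddCommGrpCat.{u}} (a : A ⟶ B) (b : B ⟶ C) (ha : ∀ i, Function.Injective (a.app i).hom) (hb : ∀ i, Function.Surjective (b.app i).hom) (hex : ∀ i, (b.app i).hom.ker = (a.app i).hom.range) (hC : ∃ (C₀ : AddCommGrpCat.{u}) (c : (Functor.const ℕᵒᵖ).obj C₀ ⟶ C), DerCA.IsEssConstant C C₀ c) : (A ⋙ forget AddCommGrpCat).IsMittagLeffler ↔ (B ⋙ forget AddCommGrpCat).IsMittagLeffler := by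
  obtain ⟨C₀, c, hc⟩ := hC
  open Groth.Agent.DCat.MLSeq in
  refine ⟨fun hA => ml_of_exact a b hb hex hA (ml_of_essConstant hc), fun hB => ?_⟩
  open Groth.Agent.DCat.MLSeq in
  rw [ml_iff_g] at hB ⊢
  obtain ⟨i₀, s, hs1, hs⟩ := hc
  intro i
  obtain ⟨k₁, hk₁i₀, hk₁, hk₁e⟩ := hs (max i i₀)
  obtain ⟨j, hij, hj⟩ := hB (max i i₀)
  refine ⟨j, (le_max_left i i₀).trans hij, fun k hjk x => ?_⟩
  obtain ⟨k₂, hk₂i₀, hk₂, hk₂e⟩ := hs k
  let k' := max k (max k₁ k₂)
  have hkk' : k ≤ k' := le_max_left _ _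
  have hk1' : k₁ ≤ k' := (le_max_left _ _).trans (le_max_right _ _)
  have hk2' : k₂ ≤ k' := (le_max_right _ _).trans (le_max_right _ _)
  obtain ⟨y, hy⟩ := hj k' (hjk.trans hkk') ((a.app (Opposite.op j)).hom x)
  open Groth.Agent.DCat.MLSeq in
  rw [trg_nat a hij] at hy
  let z := (b.app (Opposite.op k')).hom y
  open Groth.Agent.DCat.MLSeq in
  have hz : trg C ((hij.trans hjk).trans hkk') z = 0 := by
    rw [trg_nat, show trg B _ y = _ from hy]
    have : (a.app (Opposite.op (max i i₀))).hom (trg A hij x) ∈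
        (b.app (Opposite.op (max i i₀))).hom.ker := by rw [hex]; exact ⟨_, rfl⟩
    exact this
  open Groth.Agent.DCat.MLSeq in
  have hw : s.hom (trg C (hk₁i₀.trans hk1') z) = 0 := by
    have e : trg C ((hij.trans hjk).trans hkk') z =
        (c.app (Opposite.op (max i i₀))).hom (s.hom (trg C (hk₁i₀.trans hk1') z)) := by
      rw [← trg_trg (A := C) hk₁ hk1' z, ← trg_trg (A := C) hk₁i₀ hk1' z]
      exact congrArg (fun φ => φ.hom (trg C hk1' z)) hk₁e
    rw [hz] at e
    have hinj : ∀ w, (c.app (Opposite.op (max i i₀))).hom w = 0 → w = 0 := by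
      intro w hw
      have h1 : trg C (le_max_right i i₀) ((c.app (Opposite.op (max i i₀))).hom w) =
          (c.app (Opposite.op i₀)).hom w := by rw [trg_nat]; rfl
      rw [hw] at h1
      have h2 : (c.app (Opposite.op i₀) ≫ s).hom w = 0 :=
        (congrArg s.hom h1.symm).trans (by simp [trg])
      rwa [hs1] at h2
    exact hinj _ e.symm
  open Groth.Agent.DCat.MLSeq in
  have hzk : trg B hkk' y ∈ (a.app (Opposite.op k)).hom.range := by
    rw [← hex]
    show (b.app (Opposite.op k)).hom (trg B hkk' y) = 0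
    rw [← trg_nat, ← trg_trg (A := C) hk₂ hk2' z]
    refine (congrArg (fun φ => φ.hom (trg C hk2' z)) hk₂e).trans ?_
    show (c.app (Opposite.op k)).hom (s.hom (trg C hk₂i₀ (trg C hk2' z))) = 0
    rw [trg_trg]
    exact (congrArg _ hw).trans (map_zero _)
  obtain ⟨x', hx'⟩ := hzk
  open Groth.Agent.DCat.MLSeq in
  have he : trg A (hij.trans hjk) x' = trg A hij x := by
    apply ha
    rw [← trg_nat, hx', trg_trg]
    exact hy
  refine ⟨x', ?_⟩
  open Groth.Agent.DCat.MLSeq in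
  rw [← trg_trg (A := A) (le_max_left i i₀) (hij.trans hjk) x', he, trg_trg]


end Groth.Agent.S6787
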