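import Groth.Agent.CatLoc.Colim
import Mathlib.CategoryTheory.Localization.Opposite
import Mathlib.CategoryTheory.Limits.Preserves.Opposites
import Mathlib.CategoryTheory.Localization.CalculusOfFractions
import Mathlib.CategoryTheory.Preadditive.Basic
import Mathlib.CategoryTheory.Limits.Shapes.ZeroObjects
set_option autoImplicit false
namespace CategoryTheory
end CategoryTheory
namespace CategoryTheory.Limits
end CategoryTheory.Limits
open CategoryTheory CategoryTheory.Limits
universe v u v' u'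
namespace CategoryTheory
end CategoryTheory
namespace CategoryTheory.Localization
end CategoryTheory.Localization
open CategoryTheory CategoryTheory.Localization

namespace Groth.Agent.S6788

theorem isZero_of_zero {C : Type u} [Category.{v} C] [Preadditive C] [HasZeroObject C] {D : Type u'} [Category.{v'} D]
    (L : C ⥤ D) (W : MorphismProperty C) [W.HasLeftCalculusOfFractions] [W.HasRightCalculusOfFractions]
    [L.IsLocalization W] {X Y : C} (h : W (0 : X ⟶ Y)) : IsZero (L.obj X) ∧ IsZero (L.obj Y) := by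
  have := Groth.Agent.CatLoc.preservesFiniteColimits W L
  have hop : PreservesFiniteColimits L.op := Groth.Agent.CatLoc.preservesFiniteColimits W.op L.op
  have := preservesFiniteLimits_of_op L
  obtain ⟨Z, hZ⟩ := HasZeroObject.zero (C := C)
  have hi : IsInitial (L.obj Z) := IsInitial.isInitialObj L Z hZ.isInitial
  have ht : IsTerminal (L.obj Z) := IsTerminal.isTerminalObj L Z hZ.isTerminal
  have : IsIso (L.map (0 : X ⟶ Y)) := Localization.inverts L W _ h
  have hfac : L.map (0 : X ⟶ Y) = L.map (0 : X ⟶ Z) ≫ L.map (0 : Z ⟶ Y) := by rw [← L.map_comp, Limits.zero_comp]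
  have hX : 𝟙 (L.obj X) = L.map (0 : X ⟶ Z) ≫ L.map (0 : Z ⟶ Y) ≫ inv (L.map (0 : X ⟶ Y)) := by
    rw [← Category.assoc, ← hfac, IsIso.hom_inv_id]
  have hY : 𝟙 (L.obj Y) = (inv (L.map (0 : X ⟶ Y)) ≫ L.map (0 : X ⟶ Z)) ≫ L.map (0 : Z ⟶ Y) := by
    rw [Category.assoc, ← hfac, IsIso.inv_hom_id]
  refine ⟨⟨fun T => ⟨⟨⟨L.map (0 : X ⟶ Z) ≫ hi.to T⟩, fun f => ?_⟩⟩, fun T => ⟨⟨⟨ht.from T ≫ L.map (0 : Z ⟶ Y) ≫ inv (L.map (0 : X ⟶ Y))⟩, fun f => ?_⟩⟩⟩,
    ⟨fun T => ⟨⟨⟨inv (L.map (0 : X ⟶ Y)) ≫ L.map (0 : X ⟶ Z) ≫ hi.to T⟩, fun f => ?_⟩⟩, fun T => ⟨⟨⟨ht.from T ≫ L.map (0 : Z ⟶ Y)⟩, fun f => ?_⟩⟩⟩⟩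
  · show f = _
    conv_lhs => rw [← Category.id_comp f, hX, Category.assoc]
    exact congrArg _ (hi.hom_ext _ _)
  · show f = _
    conv_lhs => rw [← Category.comp_id f, hX, ← Category.assoc]
    rw [ht.hom_ext (f ≫ L.map (0 : X ⟶ Z)) (ht.from T)]
    rfl
  · show f = _
    conv_lhs => rw [← Category.id_comp f, hY, Category.assoc]
    rw [hi.hom_ext (L.map (0 : Z ⟶ Y) ≫ f) (hi.to T), Category.assoc]
    rfl
  · show f = _
    conv_lhs => rw [← Category.comp_id f, hY, ← Category.assoc]
    rw [ht.hom_ext (f ≫ inv (L.map (0 : X ⟶ Y)) ≫ L.map (0 : X ⟶ Z)) (ht.from T)]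
    rfl


/-- For a multiplicative system `W` (left and right calculus of fractions) in a preadditive category
with a zero object and its localization functor `L`, an object `X` becomes zero in the localization
iff some zero map out of `X` lies in `W`, iff some zero map into `X` lies in `W`. (The published
statement assumes the category additive; only the zero object and the preadditive structure are
used.) -/
theorem result {C : Type u} [Category.{v} C] [Preadditive C] [HasZeroObject C] {D : Type u'} [Category.{v'} D] (L : C ⥤ D) (W : MorphismProperty C) [W.HasLeftCalculusOfFractions] [W.HasRightCalculusOfFractions] [L.IsLocalization W] (X : C) : (IsZero (L.obj X) ↔ ∃ Y : C, W (0 : X ⟶ Y)) ∧ (IsZero (L.obj X) ↔ ∃ Z : C, W (0 : Z ⟶ X)) := by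
  have hW := Localization.inverts L W
  constructor <;> constructor
  · intro h
    obtain ⟨Y, t, ht, he⟩ := (MorphismProperty.map_eq_iff_postcomp L W (𝟙 X) (0 : X ⟶ X)).1 (h.eq_of_src _ _)
    rw [Category.id_comp, Limits.zero_comp] at he
    exact ⟨Y, he ▸ ht⟩
  · rintro ⟨Y, hY⟩
    exact Groth.Agent.S6788.isZero_of_zero L W hY |>.1
  · intro h
    obtain ⟨Z, t, ht, he⟩ := (MorphismProperty.map_eq_iff_precomp L W (𝟙 X) (0 : X ⟶ X)).1 (h.eq_of_src _ _)
    rw [Category.comp_id, Limits.comp_zero] at he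
    exact ⟨Z, he ▸ ht⟩
  · rintro ⟨Z, hZ⟩
    exact Groth.Agent.S6788.isZero_of_zero L W hZ |>.2

end Groth.Agent.S6788
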