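import Mathlib.AlgebraicTopology.CechNerve
import Mathlib.AlgebraicTopology.SimplicialObject.Homotopy
import Groth.Agent.SSet16.CoskHomotopy
import Mathlib.AlgebraicTopology.CechNerve

set_option autoImplicit false
namespace CategoryTheory
end CategoryTheory
namespace CategoryTheory.Limits
end CategoryTheory.Limits
open CategoryTheory CategoryTheory.Limits
universe v u
namespace CategoryTheory
end CategoryTheory
namespace CategoryTheory.SimplicialObject
end CategoryTheory.SimplicialObject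
open CategoryTheory CategoryTheory.SimplicialObject

namespace Groth.Agent.S6789

open CategoryTheory CategoryTheory.Limits Opposite Simplicial in
lemma mapCechNerve_id {C : Type u} [Category.{v} C] {Y X : C} (f : Y ⟶ X)
    [∀ n : ℕ, HasWidePullback (Arrow.mk f).right (fun _ : Fin (n + 1) => (Arrow.mk f).left)
      (fun _ => (Arrow.mk f).hom)] :
    Arrow.mapCechNerve (𝟙 (Arrow.mk f)) = 𝟙 (Arrow.mk f).cechNerve := by
  refine NatTrans.ext (funext fun n => ?_)
  refine WidePullback.hom_ext _ _ _ (fun j => ?_) ?_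
  · exact ((WidePullback.lift_π (fun _ : Fin (n.unop.len + 1) => (Arrow.mk f).hom) _ _ _ j).trans
      (Category.comp_id _)).trans (Category.id_comp _).symm
  · exact ((WidePullback.lift_base (fun _ : Fin (n.unop.len + 1) => (Arrow.mk f).hom) _ _ _).trans
      (Category.comp_id _)).trans (Category.id_comp _).symm

open CategoryTheory CategoryTheory.Limits Opposite Simplicial in
lemma homotopy_cech {C : Type u} [Category.{v} C] {Y X : C} (f : Y ⟶ X)
    [∀ n : ℕ, HasWidePullback (Arrow.mk f).right (fun _ : Fin (n + 1) => (Arrow.mk f).left)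
      (fun _ => (Arrow.mk f).hom)]
    (φ₀ φ₁ : Arrow.mk f ⟶ Arrow.mk f) (h₀ : φ₀.right = 𝟙 X) (h₁ : φ₁.right = 𝟙 X) :
    Nonempty (SimplicialObject.Homotopy (Arrow.mapCechNerve φ₀) (Arrow.mapCechNerve φ₁)) := by
  haveI : ∀ m : ℕ, HasWidePullback X (fun _ : Fin (m + 1) => Y) (fun _ => f) := fun m =>
    inferInstanceAs (HasWidePullback (Arrow.mk f).right (fun _ : Fin (m + 1) => (Arrow.mk f).left)
      (fun _ => (Arrow.mk f).hom))
  haveI : ∀ m : ℕ, HasWidePullback X (fun _ : Fin (m + 1) => (Arrow.mk f).left)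
      (fun _ => (Arrow.mk f).hom) := fun m =>
    inferInstanceAs (HasWidePullback (Arrow.mk f).right (fun _ : Fin (m + 1) => (Arrow.mk f).left)
      (fun _ => (Arrow.mk f).hom))
  let W := (Arrow.mk f).cechNerve
  let π : ∀ (m : ℕ) (j : Fin (m + 1)), W.obj (op ⦋m⦌) ⟶ Y := fun m j =>
    WidePullback.π (fun _ : Fin (m + 1) => f) j
  let base : ∀ m : ℕ, W.obj (op ⦋m⦌) ⟶ X := fun m => WidePullback.base (fun _ : Fin (m + 1) => f)
  let e : Fin 2 → (Y ⟶ Y) := fun x => if x = 1 then φ₁.left else φ₀.left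
  have he : ∀ x, e x ≫ f = f := fun x => by
    dsimp only [e]
    split_ifs
    · exact (Arrow.w φ₁).trans (by rw [h₁]; exact Category.comp_id f)
    · exact (Arrow.w φ₀).trans (by rw [h₀]; exact Category.comp_id f)
  have hπ : ∀ (m : ℕ) (j : Fin (m + 1)), π m j ≫ f = base m := fun m j =>
    WidePullback.π_arrow (fun _ : Fin (m + 1) => f) j
  let K : ∀ m : ℕ, (⦋m⦌ ⟶ ⦋1⦌) → (W.obj (op ⦋m⦌) ⟶ W.obj (op ⦋m⦌)) := fun m α =>
    WidePullback.lift (base m) (fun j => π m j ≫ e (α.toOrderHom j))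
      (fun j => ((Category.assoc _ _ _).trans (congrArg (π m j ≫ ·) (he _))).trans (hπ m j))
  have hKπ : ∀ m α (j : Fin (m + 1)), K m α ≫ π m j = π m j ≫ e (α.toOrderHom j) := fun m α j =>
    WidePullback.lift_π (fun _ : Fin (m + 1) => f) (base m) (fun j => π m j ≫ e (α.toOrderHom j)) _ j
  have hKb : ∀ m α, K m α ≫ base m = base m := fun m α =>
    WidePullback.lift_base (fun _ : Fin (m + 1) => f) (base m) (fun j => π m j ≫ e (α.toOrderHom j)) _
  have hMπ : ∀ (φ : Arrow.mk f ⟶ Arrow.mk f) m (j : Fin (m + 1)),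
      (Arrow.mapCechNerve φ).app (op ⦋m⦌) ≫ π m j = π m j ≫ φ.left := fun φ m j =>
    WidePullback.lift_π (fun _ : Fin (m + 1) => (Arrow.mk f).hom) _ _ _ j
  have hMb : ∀ (φ : Arrow.mk f ⟶ Arrow.mk f) m,
      (Arrow.mapCechNerve φ).app (op ⦋m⦌) ≫ base m = base m ≫ φ.right := fun φ m =>
    WidePullback.lift_base (fun _ : Fin (m + 1) => (Arrow.mk f).hom) _ _ _
  have hWπ : ∀ (m m' : ℕ) (θ : ⦋m'⦌ ⟶ ⦋m⦌) (j : Fin (m' + 1)),
      W.map θ.op ≫ π m' j = π m (θ.toOrderHom j) := fun m m' θ j => WidePullback.lift_π _ _ _ _ _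
  have hWb : ∀ (m m' : ℕ) (θ : ⦋m'⦌ ⟶ ⦋m⦌), W.map θ.op ≫ base m' = base m := fun m m' θ =>
    WidePullback.lift_base _ _ _ _
  refine Groth.Agent.SSet16.homotopy_of_cyl _ _ K (fun m m' θ α => ?_) (fun m α hα => ?_)
    (fun m α hα => ?_)
  · refine WidePullback.hom_ext _ _ _ (fun j => ?_) ?_
    · show (K m α ≫ W.map θ.op) ≫ π m' j = (W.map θ.op ≫ K m' (θ ≫ α)) ≫ π m' j
      rw [Category.assoc, Category.assoc, hWπ, hKπ, hKπ, ← Category.assoc, hWπ]
      rfl
    · show (K m α ≫ W.map θ.op) ≫ base m' = (W.map θ.op ≫ K m' (θ ≫ α)) ≫ base m'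
      rw [Category.assoc, Category.assoc, hWb, hKb, hKb, hWb]
  · refine WidePullback.hom_ext _ _ _ (fun j => ?_) ?_
    · refine (hKπ m α j).trans (Eq.trans ?_ (hMπ _ m j).symm)
      simp only [e, hα, if_true]
    · refine (hKb m α).trans (Eq.trans ?_ (hMb _ m).symm)
      rw [h₁]
      exact (Category.comp_id _).symm
  · refine WidePullback.hom_ext _ _ _ (fun j => ?_) ?_
    · refine (hKπ m α j).trans (Eq.trans ?_ (hMπ _ m j).symm)
      simp only [e, hα, if_neg (show ¬ (0 : Fin 2) = 1 by decide)]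
    · refine (hKb m α).trans (Eq.trans ?_ (hMb _ m).symm)
      rw [h₀]
      exact (Category.comp_id _).symm


/-- For a morphism `f : Y ⟶ X` with a section `s`, the endomorphism of the Čech nerve of `f` (the
simplicial object of iterated fibre products of `Y` over `X`) that applies `s ∘ f` factorwise admits
simplicial homotopies to and from the identity: the published formula gives one direction and its
mirror image (exchange the roles of the identity and `s ∘ f`) gives the other. -/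
theorem result {C : Type u} [Category.{v} C] {Y X : C} (f : Y ⟶ X) (s : X ⟶ Y) (hs : s ≫ f = 𝟙 X) [∀ n : ℕ, HasWidePullback (Arrow.mk f).right (fun _ : Fin (n + 1) => (Arrow.mk f).left) (fun _ => (Arrow.mk f).hom)] (φ : Arrow.mk f ⟶ Arrow.mk f) (hφl : φ.left = f ≫ s) (hφr : φ.right = 𝟙 X) : Nonempty (SimplicialObject.Homotopy (𝟙 (Arrow.mk f).cechNerve) (Arrow.mapCechNerve φ)) ∧ Nonempty (SimplicialObject.Homotopy (Arrow.mapCechNerve φ) (𝟙 (Arrow.mk f).cechNerve)) := by
  have hid := mapCechNerve_id f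
  rw [← hid]
  exact ⟨homotopy_cech f (𝟙 (Arrow.mk f)) φ rfl hφr, homotopy_cech f φ (𝟙 (Arrow.mk f)) hφr rfl⟩

end Groth.Agent.S6789
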