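import Mathlib.CategoryTheory.Monoidal.Rigid.Basic
import Mathlib.CategoryTheory.Monoidal.Preadditive
import Mathlib.CategoryTheory.Idempotents.Basic
import Mathlib.CategoryTheory.Preadditive.Biproducts
import Mathlib.CategoryTheory.Monoidal.Rigid.Basic
import Mathlib.CategoryTheory.Idempotents.Basic
import Mathlib.Tactic.CategoryTheory.Monoidal.Basic

set_option autoImplicit false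
namespace CategoryTheory
end CategoryTheory
namespace CategoryTheory.Limits
end CategoryTheory.Limits
namespace MonoidalCategory
end MonoidalCategory
open CategoryTheory CategoryTheory.Limits MonoidalCategory
universe v u
namespace CategoryTheory
end CategoryTheory
namespace CategoryTheory.Monoidal
end CategoryTheory.Monoidal
open CategoryTheory CategoryTheory.Monoidal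

namespace Groth.Agent.S6790

/-- In an idempotent-complete additive monoidal category, a direct summand of an object admitting a dual
(with coevaluation `𝟙_ A ⟶ X ⊗ Y` and evaluation `Y ⊗ X ⟶ 𝟙_ A`) again admits such a dual. -/
theorem result {A : Type u} [Category.{v} A] [Preadditive A] [HasFiniteBiproducts A] [MonoidalCategory A] [MonoidalPreadditive A] [IsIdempotentComplete A] {X X₁ : A} (i : X₁ ⟶ X) (p : X ⟶ X₁) (hip : i ≫ p = 𝟙 X₁) [HasRightDual X] : Nonempty (HasRightDual X₁) := by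
  let q : Xᘁ ⟶ Xᘁ := (p ≫ i)ᘁ
  have hq : q ≫ q = q := by
    rw [← comp_rightAdjointMate, Category.assoc, reassoc_of% hip]
  obtain ⟨Y₁, j, r, hjr, hrj⟩ := IsIdempotentComplete.idempotents_split (Xᘁ) q hq
  have hqi : q ▷ X₁ ≫ Xᘁ ◁ i ≫ ε_ X (Xᘁ) = Xᘁ ◁ i ≫ ε_ X (Xᘁ) := by
    rw [← whisker_exchange_assoc, rightAdjointMate_comp_evaluation (p ≫ i),
      ← MonoidalCategory.whiskerLeft_comp_assoc, ← Category.assoc i p, hip, Category.id_comp]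
  have hqp : η_ X (Xᘁ) ≫ (p ≫ i) ▷ Xᘁ = η_ X (Xᘁ) ≫ X ◁ q :=
    (coevaluation_comp_rightAdjointMate (p ≫ i)).symm
  have hqr : q ≫ r = r := by rw [← hrj, Category.assoc, hjr, Category.comp_id]
  let η₁ : 𝟙_ A ⟶ X₁ ⊗ Y₁ := η_ X (Xᘁ) ≫ p ▷ Xᘁ ≫ X₁ ◁ r
  let ε₁ : Y₁ ⊗ X₁ ⟶ 𝟙_ A := j ▷ X₁ ≫ Xᘁ ◁ i ≫ ε_ X (Xᘁ)
  refine ⟨@HasRightDual.mk _ _ _ X₁ Y₁ ⟨η₁, ε₁, ?_, ?_⟩⟩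
  · calc Y₁ ◁ η₁ ≫ (α_ Y₁ X₁ Y₁).inv ≫ ε₁ ▷ Y₁
        = 𝟙 _ ⊗≫ Y₁ ◁ (η_ X (Xᘁ)) ⊗≫ (Y₁ ◁ (p ▷ Xᘁ)) ⊗≫ ((Y₁ ⊗ X₁) ◁ r ≫ j ▷ X₁ ▷ Y₁) ⊗≫
            (Xᘁ ◁ i) ▷ Y₁ ⊗≫ ε_ X (Xᘁ) ▷ Y₁ ⊗≫ 𝟙 _ := by
          simp only [η₁, ε₁]; monoidal
      _ = 𝟙 _ ⊗≫ (Y₁ ◁ (η_ X (Xᘁ) ≫ p ▷ Xᘁ) ≫ j ▷ (X₁ ⊗ Xᘁ)) ⊗≫ ((Xᘁ ⊗ X₁) ◁ r ≫ (Xᘁ ◁ i) ▷ Y₁)
            ⊗≫ ε_ X (Xᘁ) ▷ Y₁ ⊗≫ 𝟙 _ := by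
          rw [whisker_exchange]; monoidal
      _ = 𝟙 _ ⊗≫ j ▷ 𝟙_ A ⊗≫ Xᘁ ◁ (η_ X (Xᘁ) ≫ (p ≫ i) ▷ Xᘁ) ⊗≫ ((Xᘁ ⊗ X) ◁ r ≫ ε_ X (Xᘁ) ▷ Y₁)
            ⊗≫ 𝟙 _ := by
          rw [whisker_exchange, whisker_exchange]; monoidal
      _ = 𝟙 _ ⊗≫ j ▷ 𝟙_ A ⊗≫ Xᘁ ◁ (η_ X (Xᘁ) ≫ X ◁ (q ≫ r)) ⊗≫ ε_ X (Xᘁ) ▷ Y₁ ⊗≫ 𝟙 _ := by
          rw [hqp]; monoidal
      _ = 𝟙 _ ⊗≫ j ▷ 𝟙_ A ⊗≫ Xᘁ ◁ η_ X (Xᘁ) ⊗≫ ((Xᘁ ⊗ X) ◁ r ≫ ε_ X (Xᘁ) ▷ Y₁) ⊗≫ 𝟙 _ := by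
          rw [hqr]; monoidal
      _ = 𝟙 _ ⊗≫ j ⊗≫ (Xᘁ ◁ η_ X (Xᘁ) ⊗≫ ε_ X (Xᘁ) ▷ Xᘁ) ⊗≫ r ⊗≫ 𝟙 _ := by
          rw [whisker_exchange]; monoidal
      _ = (ρ_ Y₁).hom ≫ (j ≫ r) ≫ (λ_ Y₁).inv := by
          rw [ExactPairing.coevaluation_evaluation'']; monoidal
      _ = _ := by rw [hjr, Category.id_comp]
  · calc η₁ ▷ X₁ ≫ (α_ X₁ Y₁ X₁).hom ≫ X₁ ◁ ε₁
        = 𝟙 _ ⊗≫ η_ X (Xᘁ) ▷ X₁ ⊗≫ p ▷ (Xᘁ ⊗ X₁) ⊗≫ X₁ ◁ ((r ≫ j) ▷ X₁ ≫ Xᘁ ◁ i ≫ ε_ X (Xᘁ))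
            ⊗≫ 𝟙 _ := by
          simp only [η₁, ε₁]; monoidal
      _ = 𝟙 _ ⊗≫ η_ X (Xᘁ) ▷ X₁ ⊗≫ (p ▷ (Xᘁ ⊗ X₁) ≫ X₁ ◁ (Xᘁ ◁ i ≫ ε_ X (Xᘁ))) ⊗≫ 𝟙 _ := by
          rw [hrj, hqi]; monoidal
      _ = 𝟙 _ ⊗≫ (η_ X (Xᘁ) ▷ X₁ ≫ (X ⊗ Xᘁ) ◁ i) ⊗≫ X ◁ ε_ X (Xᘁ) ⊗≫ p ⊗≫ 𝟙 _ := by
          rw [← whisker_exchange]; monoidal
      _ = 𝟙 _ ⊗≫ i ⊗≫ (η_ X (Xᘁ) ▷ X ⊗≫ X ◁ ε_ X (Xᘁ)) ⊗≫ p ⊗≫ 𝟙 _ := by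
          rw [← whisker_exchange]; monoidal
      _ = (λ_ X₁).hom ≫ (i ≫ p) ≫ (ρ_ X₁).inv := by
          rw [ExactPairing.evaluation_coevaluation'']; monoidal
      _ = _ := by rw [hip, Category.id_comp]

end Groth.Agent.S6790
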