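import Mathlib.CategoryTheory.Abelian.SerreClass.MorphismProperty
import Mathlib.CategoryTheory.Localization.Predicate
import Mathlib.CategoryTheory.Limits.Preserves.Finite
import Mathlib.CategoryTheory.Abelian.SerreClass.Localization

set_option autoImplicit false
namespace CategoryTheory
end CategoryTheory
namespace CategoryTheory.Limits
end CategoryTheory.Limits
open CategoryTheory CategoryTheory.Limits
universe v u v' u' v'' u''
namespace CategoryTheory
end CategoryTheory
namespace CategoryTheory.SerreClass
end CategoryTheory.SerreClass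
open CategoryTheory CategoryTheory.SerreClass

namespace Groth.Agent.S6791

/-- For an exact functor `F : A ⥤ B` of abelian categories and a Serre class `P` of `A` killed by `F`,
with `L : A ⥤ Q` a model of the quotient `A/P` and `Fbar : Q ⥤ B` the induced functor, `P` is
exactly the kernel of `F` if and only if `Fbar` is faithful. -/
theorem result {A : Type u} [Category.{v} A] [Abelian A] {B : Type u'} [Category.{v'} B] [Abelian B] (F : A ⥤ B) [F.Additive] [PreservesFiniteLimits F] [PreservesFiniteColimits F] (P : ObjectProperty A) [P.IsSerreClass] (hP : ∀ X : A, P X → IsZero (F.obj X)) {Q : Type u''} [Category.{v''} Q] [Abelian Q] (L : A ⥤ Q) [L.IsLocalization P.isoModSerre] [L.Additive] [PreservesFiniteLimits L] [PreservesFiniteColimits L] (Fbar : Q ⥤ B) (e : L ⋙ Fbar ≅ F) : (∀ X : A, IsZero (F.obj X) → P X) ↔ Fbar.Faithful := by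
  constructor
  · intro h
    haveI := Localization.essSurj L P.isoModSerre
    have key : ∀ (X Y : A) (g g' : L.obj X ⟶ L.obj Y), Fbar.map g = Fbar.map g' → g = g' := by
      intro X Y g g' hgg
      obtain ⟨φ, rfl, rfl⟩ := Localization.exists_leftFraction₂ L P.isoModSerre g g'
      haveI : IsIso (L.map φ.s) := Localization.inverts L P.isoModSerre φ.s φ.hs
      have h1 := congrArg (fun t => t ≫ Fbar.map (L.map φ.s)) hgg
      simp only [← Fbar.map_comp] at h1
      replace h1 : Fbar.map (L.map φ.f) = Fbar.map (L.map φ.f') :=
        (congrArg Fbar.map (φ.fst.map_comp_map_s L _)).symm.trans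
          (h1.trans (congrArg Fbar.map (φ.snd.map_comp_map_s L _)))
      have h2 : F.map (φ.f - φ.f') = 0 := by
        rw [F.map_sub, sub_eq_zero]
        have ha := NatTrans.naturality e.hom φ.f
        have hb := NatTrans.naturality e.hom φ.f'
        simp only [Functor.comp_map] at ha hb
        rw [← cancel_epi (e.hom.app X), ← ha, ← hb, h1]
      have h3 : IsZero (F.obj (Abelian.image (φ.f - φ.f'))) := by
        haveI := F.map_epi (Abelian.factorThruImage (φ.f - φ.f'))
        haveI := F.map_mono (Abelian.image.ι (φ.f - φ.f'))
        have : F.map (Abelian.factorThruImage (φ.f - φ.f')) ≫ F.map (Abelian.image.ι (φ.f - φ.f')) = 0 := by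
          rw [← F.map_comp, Abelian.image.fac, h2]
        have h4 : F.map (Abelian.factorThruImage (φ.f - φ.f')) = 0 := zero_of_comp_mono _ this
        exact IsZero.of_epi_eq_zero _ h4
      have h5 : L.map φ.f = L.map φ.f' := by
        rw [← sub_eq_zero, ← L.map_sub, ObjectProperty.SerreClassLocalization.map_eq_zero_iff L P]
        exact h _ h3
      rw [← cancel_mono (L.map φ.s)]
      exact (φ.fst.map_comp_map_s L _).trans (h5.trans (φ.snd.map_comp_map_s L _).symm)
    refine ⟨fun {a b} g g' hg => ?_⟩
    let ea := L.objObjPreimageIso a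
    let eb := L.objObjPreimageIso b
    have := key _ _ (ea.hom ≫ g ≫ eb.inv) (ea.hom ≫ g' ≫ eb.inv) (by
      simp only [Fbar.map_comp, hg])
    rwa [cancel_epi, cancel_mono] at this
  · intro _ X hX
    rw [← ObjectProperty.SerreClassLocalization.isZero_obj_iff L P, IsZero.iff_id_eq_zero]
    exact Fbar.map_injective ((IsZero.of_iso hX (e.app X)).eq_of_src _ _)

end Groth.Agent.S6791
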