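import Groth.Statements.S6792
import Mathlib
-- import your own Groth.Agent.* helpers here

set_option autoImplicit false
open CategoryTheory
universe v u
open SpSeq SpSeq.FilCx

namespace Groth.Agent.S6792

/-- For a filtered complex whose filtration is finite in each degree, the associated spectral sequence
is bounded (from page `0` on), the induced filtration on each cohomology object is finite, and the
spectral sequence converges to the cohomology. -/
theorem result {A : Type u} [Category.{v} A] [Abelian A] (K : SpSeq.FilCx A) (hK : ∀ n : ℤ, (K.XFil n).IsFinite) : K.IsBounded 0 ∧ (∀ n : ℤ, (K.HFil n).IsFinite) ∧ K.Converges := by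
  open CategoryTheory.Limits in
    classical
    choose a ha using fun n => (hK n).1
    choose b hb using fun n => (hK n).2
    have htop : ∀ (n p : ℤ), p ≤ a n → K.filX p n = ⊤ := fun n p hp =>
      top_le_iff.1 ((ha n).ge.trans (K.filX_anti n hp))
    have hbot : ∀ (n p : ℤ), b n ≤ p → K.filX p n = ⊥ := fun n p hp =>
      le_bot_iff.1 ((K.filX_anti n hp).trans (hb n).le)
    have isZero_subquot : ∀ {X : A} (Z B : Subobject X) (h : B ≤ Z), Z ≤ B → IsZero (SpSeq.subquot Z B h) := by
      intro X Z B h h'
      have : Epi (B.ofLE Z h) :=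
        epi_of_epi_fac (show Z.ofLE B h' ≫ B.ofLE Z h = 𝟙 _ by rw [Subobject.ofLE_comp_ofLE, Subobject.ofLE_refl])
      exact isZero_cokernel_of_epi _
    -- boundedness
    have hbdd : K.IsBounded 0 := fun n => ((Finset.Ico (min (a n) (b n) - 1) (max (b n) (a n))).finite_toSet).subset fun p hp => by
      by_contra hnot
      rw [Finset.mem_coe, Finset.mem_Ico, not_and_or, not_le, not_lt] at hnot
      refine hp (isZero_subquot _ _ _ ?_)
      refine sup_le ?_ le_sup_right
      refine inf_le_left.trans (le_trans ?_ le_sup_right)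
      rcases hnot with h | h
      · rw [htop n (p + 1) (by omega)]; exact le_top
      · rw [hbot n p (by omega)]; exact bot_le
    -- the filtration on cohomology
    have hHtop : ∀ n, K.filH (min (min (a (n - 1)) (a n)) (a (n + 1))) n = ⊤ := by
      intro n
      let p := min (min (a (n - 1)) (a n)) (a (n + 1))
      have hiso : ∀ m, p ≤ a m → IsIso ((K.fil p).arrow.f m) := fun m hm =>
        Subobject.isIso_iff_mk_eq_top _ |>.2 (htop m p hm)
      have := hiso (n - 1) ((min_le_left _ _).trans (min_le_left _ _))
      have := hiso n ((min_le_left _ _).trans (min_le_right _ _))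
      have := hiso (n + 1) (min_le_right _ _)
      have : IsIso (HomologicalComplex.homologyMap (K.fil p).arrow n) := by
        let φ := (HomologicalComplex.shortComplexFunctor A (ComplexShape.up ℤ) n).map (K.fil p).arrow
        have : IsIso φ.τ₁ := by
          show IsIso ((K.fil p).arrow.f ((ComplexShape.up ℤ).prev n))
          rw [CochainComplex.prev]; assumption
        have : IsIso φ.τ₂ := by show IsIso ((K.fil p).arrow.f n); assumption
        have : IsIso φ.τ₃ := by
          show IsIso ((K.fil p).arrow.f ((ComplexShape.up ℤ).next n))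
          rw [CochainComplex.next]; assumption
        exact (inferInstance : IsIso (ShortComplex.homologyMap φ))
      have key : ∀ {X Y : A} (g : X ⟶ Y) [IsIso g], imageSubobject g = ⊤ := fun g _ =>
        top_le_iff.1 (Subobject.le_of_comm ((⊤ : Subobject _).arrow ≫ inv g ≫ factorThruImageSubobject g) (by simp))
      exact key _
    have hHbot : ∀ n, K.filH (b n) n = ⊥ := by
      intro n
      have h0 : IsZero ((K.fil (b n) : CochainComplex A ℤ).X n) := by
        have h2 : Subobject.mk ((K.fil (b n)).arrow.f n) = ⊥ := hbot n _ le_rfl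
        exact IsZero.of_iso (isZero_zero A) ((Subobject.underlyingIso ((K.fil (b n)).arrow.f n)).symm ≪≫
          Subobject.isoOfEq _ _ h2 ≪≫ Subobject.botCoeIsoZero)
      have h1 : IsZero ((K.fil (b n) : CochainComplex A ℤ).homology n) :=
        ((HomologicalComplex.exactAt_iff' _ (n - 1) n (n + 1) (by simp) (by simp)).2
          (ShortComplex.exact_of_isZero_X₂ _ h0)).isZero_homology
      show imageSubobject _ = ⊥
      have e : ∀ {X Y : A} (f g : X ⟶ Y), f = g → imageSubobject f = imageSubobject g :=
        fun f g h => by subst h; rfl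
      rw [e _ _ (h1.eq_of_src (HomologicalComplex.homologyMap (K.fil (b n)).arrow n) 0)]
      exact imageSubobject_zero
    have hfin : ∀ n : ℤ, (K.HFil n).IsFinite := fun n => ⟨⟨_, hHtop n⟩, ⟨_, hHbot n⟩⟩
    refine ⟨hbdd, hfin, ?_, ⟨fun p n => ⟨?_, ?_⟩, fun n => ⟨?_, ?_⟩⟩, fun n T f hf => ?_⟩
    · intro p n
      refine ⟨(b (n + 1) - p).toNat, fun r hr => ?_⟩
      rw [SpSeq.FilCx.ZSub, SpSeq.FilCx.ZSub, hbot (n + 1) (p + r) (by omega),
        hbot (n + 1) (p + (b (n + 1) - p).toNat) (by omega)]
    · -- Z infinity
      have hker : ∀ r, kernelSubobject (K.obj.d n (n + 1)) ≤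
          (Subobject.pullback (K.obj.d n (n + 1))).obj (K.filX (p + r) (n + 1)) := fun r =>
        SpSeq.FilCx.kernelSubobject_le_pullback _ _
      refine ⟨?_, fun S hS => ?_⟩
      · rintro _ ⟨r, rfl⟩
        exact sup_le_sup_right (inf_le_inf_left _ (hker r)) _
      · refine (hS ⟨(b (n + 1) - p).toNat, rfl⟩).trans ?_
        refine sup_le_sup_right (inf_le_inf_left _ ?_) _
        rw [hbot (n + 1) _ (by omega)]
        rw [Subobject.pullback_obj]
        refine le_kernelSubobject _ _ ?_
        rw [← Subobject.underlyingIso_hom_comp_eq_mk, Category.assoc]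
        rw [← pullback.condition]
        simp
    · -- B infinity
      refine ⟨?_, fun S hS => ?_⟩
      · rintro _ ⟨r, rfl⟩
        exact sup_le_sup_right (inf_le_inf_left _ (imageSubobject_comp_le _ _)) _
      · refine le_trans ?_ (hS ⟨(p + 1 - a (n - 1)).toNat, rfl⟩)
        refine sup_le_sup_right (inf_le_inf_left _ ?_) _
        have : IsIso (K.filX (p - ((p + 1 - a (n - 1)).toNat : ℕ) + 1) (n - 1)).arrow :=
          (Subobject.isIso_arrow_iff_eq_top _).2 (htop (n - 1) _ (by omega))
        exact SpSeq.FilCx.imageSubobject_le_of_fac (inv (K.filX (p - ((p + 1 - a (n - 1)).toNat : ℕ) + 1) (n - 1)).arrow) (by simp)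
    · exact ⟨fun _ _ => bot_le, fun S hS => (hS ⟨_, hHbot n⟩)⟩
    · exact ⟨fun _ _ => le_top, fun S hS => (hS ⟨_, hHtop n⟩)⟩
    · let c := b n
      have hc : ∀ q, c ≤ q → (K.HFil n).fil q = ⊥ := fun q hq =>
        le_bot_iff.1 (((K.HFil n).anti hq).trans (hHbot n).le)
      have hisoπ : ∀ q, c ≤ q → IsIso (cokernel.π ((K.HFil n).fil q).arrow) := fun q hq => by
        have : ((K.HFil n).fil q).arrow = 0 := by rw [hc q hq, Subobject.bot_arrow]
        exact cokernel.π_of_zero this
      have hcomp : ∀ q q' (h : q ≤ q'), cokernel.π ((K.HFil n).fil q').arrow ≫ (K.HFil n).quotMap h =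
          cokernel.π ((K.HFil n).fil q).arrow := fun q q' h => cokernel.π_desc _ _ _
      have := hisoπ c le_rfl
      refine ⟨f c ≫ inv (cokernel.π ((K.HFil n).fil c).arrow), fun q => ?_⟩
      rcases le_total q c with h | h
      · rw [Category.assoc, ← hcomp q c h, IsIso.inv_hom_id_assoc, hf q c h]
      · have := hisoπ q h
        have hm : IsIso ((K.HFil n).quotMap h) := IsIso.of_isIso_fac_left (hcomp c q h)
        rw [← cancel_mono ((K.HFil n).quotMap h), Category.assoc, Category.assoc, hcomp c q h,
          IsIso.inv_hom_id, Category.comp_id, hf c q h]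

end Groth.Agent.S6792
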