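import Mathlib.CategoryTheory.Preadditive.Basic
import Mathlib.CategoryTheory.Limits.Shapes.Kernels
import Mathlib.CategoryTheory.Idempotents.Basic
import Mathlib.CategoryTheory.Limits.Shapes.Countable
import Mathlib

set_option autoImplicit false
namespace CategoryTheory
end CategoryTheory
namespace CategoryTheory.Limits
end CategoryTheory.Limits
open CategoryTheory CategoryTheory.Limits
universe v u
namespace CategoryTheory
end CategoryTheory
namespace CategoryTheory.Preadditive
end CategoryTheory.Preadditive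
open CategoryTheory CategoryTheory.Preadditive

namespace Groth.Agent.S6795

/-- A preadditive category with countable products in which split epimorphisms have kernels is
idempotent complete (Karoubian). -/
theorem result {D : Type u} [Category.{v} D] [Preadditive D] [HasCountableProducts D] (hk : ∀ ⦃X Y : D⦄ (f : X ⟶ Y), IsSplitEpi f → HasKernel f) : IsIdempotentComplete D := by
  rw [Idempotents.isIdempotentComplete_iff_idempotents_have_kernels]
  intro X p hp
  have hp' : p ≫ (𝟙 X - p) = 0 := by rw [Preadditive.comp_sub, Category.comp_id, hp, sub_self]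
  have hq : (𝟙 X - p) ≫ p = 0 := by rw [Preadditive.sub_comp, Category.id_comp, hp, sub_self]
  have hqq : (𝟙 X - p) ≫ (𝟙 X - p) = 𝟙 X - p := Idempotents.idem_of_id_sub_idem p hp
  let P : D := ∏ᶜ fun _ : ℕ => X
  let π : ℕ → (P ⟶ X) := fun n => Pi.π (fun _ : ℕ => X) n
  let T : P ⟶ P := Pi.lift fun n => π n ≫ p + π (n + 1) ≫ (𝟙 X - p)
  let S : P ⟶ P := Pi.lift fun n => match n with
    | 0 => π 0 ≫ p
    | m + 1 => π (m + 1) ≫ p + π m ≫ (𝟙 X - p)
  have hTπ : ∀ n, T ≫ π n = π n ≫ p + π (n + 1) ≫ (𝟙 X - p) := fun n => Pi.lift_π _ n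
  have hS0 : S ≫ π 0 = π 0 ≫ p := Pi.lift_π _ 0
  have hS1 : ∀ m, S ≫ π (m + 1) = π (m + 1) ≫ p + π m ≫ (𝟙 X - p) := fun m => Pi.lift_π _ (m + 1)
  have hST : S ≫ T = 𝟙 P := by
    refine Pi.hom_ext _ _ fun n => ?_
    change (S ≫ T) ≫ π n = 𝟙 P ≫ π n
    rw [Category.assoc, hTπ, Preadditive.comp_add, ← Category.assoc, ← Category.assoc, hS1]
    cases n with
    | zero =>
      rw [hS0]
      simp only [Preadditive.add_comp, Category.assoc, hp, hp', hqq, comp_zero, zero_add]
      rw [← Preadditive.comp_add, add_sub_cancel, Category.comp_id, Category.id_comp]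
    | succ m =>
      rw [hS1]
      simp only [Preadditive.add_comp, Category.assoc, hp, hp', hq, hqq, comp_zero, zero_add,
        add_zero]
      rw [← Preadditive.comp_add, add_sub_cancel, Category.comp_id, Category.id_comp]
  have : HasKernel T := hk T (IsSplitEpi.mk' ⟨S, hST⟩)
  have h₁ : ∀ n, (kernel.ι T ≫ π n) ≫ p = 0 := by
    intro n
    have h := congrArg (fun t => t ≫ π n ≫ p) (kernel.condition T)
    simp only [Category.assoc, zero_comp] at h
    rw [← Category.assoc T, hTπ] at h
    simp only [Preadditive.add_comp, Category.assoc, hp, hq, comp_zero, add_zero] at h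
    rw [Category.assoc, h]
  have h₂ : ∀ n, kernel.ι T ≫ π (n + 1) = 0 := by
    intro n
    have h := congrArg (fun t => t ≫ π n) (kernel.condition T)
    simp only [Category.assoc, zero_comp] at h
    rw [hTπ, Preadditive.comp_add, ← Category.assoc, h₁, zero_add, Preadditive.comp_sub,
      Category.comp_id, Preadditive.comp_sub, ← Category.assoc (kernel.ι T) (π (n + 1)) p, h₁,
      sub_zero] at h
    exact h
  let l : ∀ {Z : D} (k : Z ⟶ X), k ≫ p = 0 → (Z ⟶ kernel T) := fun {Z} k hk =>
    kernel.lift T (Pi.lift fun n => match n with | 0 => k | _ + 1 => 0) (by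
      refine Pi.hom_ext _ _ fun n => ?_
      change (_ ≫ T) ≫ π n = 0 ≫ π n
      rw [Category.assoc, hTπ, Preadditive.comp_add, ← Category.assoc, ← Category.assoc, zero_comp]
      simp only [π, Pi.lift_π]
      cases n <;> simp [hk])
  have hl : ∀ {Z : D} (k : Z ⟶ X) (hk : k ≫ p = 0), l k hk ≫ kernel.ι T ≫ π 0 = k := by
    intro Z k hk
    simp [l, π]
  exact ⟨⟨⟨KernelFork.ofι (kernel.ι T ≫ π 0) (h₁ 0),
    KernelFork.IsLimit.ofι _ _ (fun k hk => l k hk) (fun k hk => hl k hk) (fun k hk m hm => by
      rw [← cancel_mono (kernel.ι T)]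
      refine Pi.hom_ext _ _ fun n => ?_
      simp only [l, kernel.lift_ι, Pi.lift_π, Category.assoc]
      cases n with
      | zero => exact hm
      | succ n =>
        change m ≫ kernel.ι T ≫ π (n + 1) = 0
        rw [h₂, comp_zero])⟩⟩⟩

end Groth.Agent.S6795
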