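import Mathlib.CategoryTheory.Preadditive.Basic
import Mathlib.CategoryTheory.Limits.Shapes.Kernels
import Mathlib.CategoryTheory.Idempotents.Basic
import Mathlib.CategoryTheory.Limits.Shapes.Countable
import Mathlib

set_option autoImplicit false
namespace CategoryTheory
end CategoryTheory
namespace CategoryTheory.Limits
end CategoryTheory.Limits
open CategoryTheory CategoryTheory.Limits
universe v u
namespace CategoryTheory
end CategoryTheory
namespace CategoryTheory.Preadditive
end CategoryTheory.Preadditive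
open CategoryTheory CategoryTheory.Preadditive

namespace Groth.Agent.S6796

/-- A preadditive category with countable coproducts in which split monomorphisms have cokernels is
idempotent complete (Karoubian). -/
theorem result {D : Type u} [Category.{v} D] [Preadditive D] [HasCountableCoproducts D] (hk : ∀ ⦃X Y : D⦄ (f : X ⟶ Y), IsSplitMono f → HasCokernel f) : IsIdempotentComplete D := by
  rw [Idempotents.isIdempotentComplete_iff_idempotents_have_kernels]
  intro X p hp
  have hp' : p ≫ (𝟙 X - p) = 0 := by rw [Preadditive.comp_sub, Category.comp_id, hp, sub_self]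
  have hq : (𝟙 X - p) ≫ p = 0 := by rw [Preadditive.sub_comp, Category.id_comp, hp, sub_self]
  have hqq : (𝟙 X - p) ≫ (𝟙 X - p) = 𝟙 X - p := Idempotents.idem_of_id_sub_idem p hp
  let P : D := ∐ fun _ : ℕ => X
  let ι : ℕ → (X ⟶ P) := fun n => Sigma.ι (fun _ : ℕ => X) n
  let S : P ⟶ P := Sigma.desc fun n => p ≫ ι n + (𝟙 X - p) ≫ ι (n + 1)
  let R : P ⟶ P := Sigma.desc fun n => match n with
    | 0 => p ≫ ι 0
    | m + 1 => p ≫ ι (m + 1) + (𝟙 X - p) ≫ ι m
  have hSι : ∀ n, ι n ≫ S = p ≫ ι n + (𝟙 X - p) ≫ ι (n + 1) := fun n => Sigma.ι_desc _ n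
  have hR0 : ι 0 ≫ R = p ≫ ι 0 := Sigma.ι_desc _ 0
  have hR1 : ∀ m, ι (m + 1) ≫ R = p ≫ ι (m + 1) + (𝟙 X - p) ≫ ι m := fun m => Sigma.ι_desc _ (m + 1)
  have hSR : S ≫ R = 𝟙 P := by
    refine Sigma.hom_ext _ _ fun n => ?_
    change ι n ≫ S ≫ R = ι n ≫ 𝟙 P
    rw [← Category.assoc, hSι, Preadditive.add_comp, Category.assoc, Category.assoc, hR1]
    cases n with
    | zero =>
      rw [hR0]
      simp only [Preadditive.comp_add, reassoc_of% hp, reassoc_of% hq, reassoc_of% hqq, zero_comp,
        zero_add]
      rw [← Preadditive.add_comp, add_sub_cancel, Category.id_comp, Category.comp_id]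
    | succ m =>
      rw [hR1]
      simp only [Preadditive.comp_add, reassoc_of% hp, reassoc_of% hp', reassoc_of% hq,
        reassoc_of% hqq, zero_comp, zero_add, add_zero]
      rw [← Preadditive.add_comp, add_sub_cancel, Category.id_comp, Category.comp_id]
  have : HasCokernel S := hk S (IsSplitMono.mk' ⟨R, hSR⟩)
  have h₁ : ∀ n, p ≫ ι n ≫ cokernel.π S = 0 := by
    intro n
    have h := congrArg (fun t => p ≫ ι n ≫ t) (cokernel.condition S)
    simp only [comp_zero] at h
    rw [← Category.assoc (ι n), hSι] at h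
    simp only [Preadditive.add_comp, Preadditive.comp_add, Category.assoc, reassoc_of% hp,
      reassoc_of% hp', zero_comp, add_zero] at h
    exact h
  have h₂ : ∀ n, ι (n + 1) ≫ cokernel.π S = 0 := by
    intro n
    have h := congrArg (fun t => ι n ≫ t) (cokernel.condition S)
    simp only [comp_zero] at h
    rw [← Category.assoc (ι n), hSι, Preadditive.add_comp, Category.assoc, h₁, zero_add,
      Preadditive.sub_comp, Category.id_comp, Preadditive.sub_comp, Category.assoc, h₁,
      sub_zero] at h
    exact h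
  let i : cokernel S ⟶ X :=
    cokernel.desc S (Sigma.desc fun n => match n with | 0 => 𝟙 X - p | _ + 1 => 0) (by
      refine Sigma.hom_ext _ _ fun n => ?_
      change ι n ≫ S ≫ _ = ι n ≫ 0
      rw [← Category.assoc, hSι, Preadditive.add_comp, Category.assoc, Category.assoc, comp_zero]
      simp only [ι, Sigma.ι_desc]
      cases n <;> simp [hp'])
  have hi : ι 0 ≫ cokernel.π S ≫ i = 𝟙 X - p := by simp [ι, i]
  have hie : i ≫ ι 0 ≫ cokernel.π S = 𝟙 _ := by
    rw [← cancel_epi (cokernel.π S)]
    refine Sigma.hom_ext _ _ fun n => ?_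
    simp only [i, cokernel.π_desc_assoc, Sigma.ι_desc_assoc, Category.comp_id]
    cases n with
    | zero =>
      change (𝟙 X - p) ≫ ι 0 ≫ cokernel.π S = ι 0 ≫ cokernel.π S
      rw [Preadditive.sub_comp, h₁, sub_zero, Category.id_comp]
    | succ n =>
      change 0 ≫ ι 0 ≫ cokernel.π S = ι (n + 1) ≫ cokernel.π S
      rw [h₂, zero_comp]
  have hip : i ≫ p = 0 := by
    rw [← cancel_epi (cokernel.π S), comp_zero]
    refine Sigma.hom_ext _ _ fun n => ?_
    simp only [i, cokernel.π_desc_assoc, Sigma.ι_desc_assoc, comp_zero]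
    cases n <;> simp [hq]
  exact ⟨⟨⟨KernelFork.ofι i hip,
    KernelFork.IsLimit.ofι _ _ (fun k _ => k ≫ ι 0 ≫ cokernel.π S) (fun k hk => by
      rw [Category.assoc, Category.assoc, hi, Preadditive.comp_sub, Category.comp_id, hk, sub_zero])
      (fun k hk m hm => by rw [← hm, Category.assoc, hie, Category.comp_id])⟩⟩⟩

end Groth.Agent.S6796
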