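import Mathlib.AlgebraicTopology.SimplicialSet.Homotopy
import Mathlib.AlgebraicTopology.SimplicialObject.Coskeletal
import Mathlib.AlgebraicTopology.SimplicialSet.Coskeletal
import Groth.Agent.SSet16.CoskHomotopy

set_option autoImplicit false
namespace CategoryTheory
end CategoryTheory
namespace Opposite
end Opposite
open CategoryTheory Opposite
universe u
namespace SSet
end SSet
open SSet

namespace Groth.Agent.S6799

/-- Two maps between `n`-coskeletal simplicial sets which agree on simplices of dimension `< n` are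
homotopic, by a single homotopy. -/
theorem result {U V : SSet.{u}} (f₀ f₁ : V ⟶ U) (n : ℕ) (h : ∀ i : ℕ, i < n → f₀.app (op (SimplexCategory.mk i)) = f₁.app (op (SimplexCategory.mk i))) [SimplicialObject.IsCoskeletal U n] [SimplicialObject.IsCoskeletal V n] : Nonempty (SSet.Homotopy f₀ f₁) := by
  obtain ⟨K, hK, h1, h0⟩ := Groth.Agent.SSet16.exists_cyl f₀ f₁ n h
  open MonoidalCategory in
  let H : V ⊗ SSet.stdSimplex.{u}.obj (SimplexCategory.mk 1) ⟶ U :=
    { app := fun Δ => ↾fun p => K Δ.unop.len (SSet.stdSimplex.objEquiv p.2) p.1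
      naturality := fun Δ Δ' θ => by
        ext p
        exact (ConcreteCategory.congr_hom (hK Δ.unop.len Δ'.unop.len θ.unop
          (SSet.stdSimplex.objEquiv p.2)) p.1).symm }
  refine ⟨{ h := H, h₀ := ?_, h₁ := ?_, rel := ?_ }⟩
  · ext ⟨⟨d⟩⟩ x
    exact ConcreteCategory.congr_hom (h0 d (SSet.stdSimplex.objEquiv (SSet.ι₀.app (op (SimplexCategory.mk d)) x).2) fun j => rfl) x
  · ext ⟨⟨d⟩⟩ x
    exact ConcreteCategory.congr_hom (h1 d (SSet.stdSimplex.objEquiv (SSet.ι₁.app (op (SimplexCategory.mk d)) x).2) fun j => rfl) x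
  · ext Δ x
    exact x.1.2.elim

end Groth.Agent.S6799
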