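import Mathlib.AlgebraicTopology.SimplicialObject.Basic
import Mathlib.CategoryTheory.Functor.KanExtension.Pointwise
import Mathlib.CategoryTheory.Limits.Shapes.FiniteLimits
import Groth.Agent.SSet16.Cosk

set_option autoImplicit false
namespace CategoryTheory
end CategoryTheory
namespace CategoryTheory.Limits
end CategoryTheory.Limits
open CategoryTheory CategoryTheory.Limits
universe v u
namespace CategoryTheory
end CategoryTheory
namespace CategoryTheory.SimplicialObject
end CategoryTheory.SimplicialObject
namespace CategoryTheory.SimplicialObject.Truncated
end CategoryTheory.SimplicialObject.Truncated
open CategoryTheory CategoryTheory.SimplicialObject CategoryTheory.SimplicialObject.Truncated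

namespace Groth.Agent.S6800

/-- In a category with finite limits every truncated simplicial object has a pointwise right Kan
extension along the inclusion of the truncated simplex category, i.e. the coskeleton functors exist
and are given by the limit formula. -/
theorem result {C : Type u} [Category.{v} C] [HasFiniteLimits C] (m : ℕ) (U : (SimplexCategory.Truncated m)ᵒᵖ ⥤ C) : (SimplexCategory.Truncated.inclusion m).op.HasPointwiseRightKanExtension U := by
  exact Groth.Agent.SSet16.hasPointwiseRan m U

end Groth.Agent.S6800
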