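import Mathlib.AlgebraicTopology.SimplicialSet.Degenerate
import Mathlib.AlgebraicTopology.SimplicialSet.Degenerate

set_option autoImplicit false
namespace CategoryTheory
end CategoryTheory
namespace Opposite
end Opposite
open CategoryTheory Opposite
universe u
namespace SSet
end SSet
open SSet

namespace Groth.Agent.S6808

/-- A map of simplicial sets preserving non-degeneracy of simplices and injective on non-degenerate
simplices is injective in every dimension. -/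
theorem result {U V : SSet.{u}} (f : U ⟶ V) (ha : ∀ (n : ℕ) (x : U.obj (op (SimplexCategory.mk n))), x ∈ U.nonDegenerate n → f.app (op (SimplexCategory.mk n)) x ∈ V.nonDegenerate n) (hb : ∀ n : ℕ, Set.InjOn (f.app (op (SimplexCategory.mk n))) (U.nonDegenerate n)) (n : ℕ) : Function.Injective (f.app (op (SimplexCategory.mk n))) := by
  intro x₁ x₂ h
  obtain ⟨m₁, g₁, hg₁, y₁, rfl⟩ := U.exists_nonDegenerate x₁
  obtain ⟨m₂, g₂, hg₂, y₂, rfl⟩ := U.exists_nonDegenerate x₂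
  have e₁ := NatTrans.naturality_apply f g₁.op y₁.1
  have e₂ := NatTrans.naturality_apply f g₂.op y₂.1
  obtain rfl := V.unique_nonDegenerate_dim _ g₁ ⟨_, ha _ _ y₁.2⟩ e₁ g₂ ⟨_, ha _ _ y₂.2⟩ (h.trans e₂)
  have hy := V.unique_nonDegenerate_simplex _ g₁ ⟨_, ha _ _ y₁.2⟩ e₁ g₂ ⟨_, ha _ _ y₂.2⟩ (h.trans e₂)
  have hf := V.unique_nonDegenerate_map _ g₁ ⟨_, ha _ _ y₁.2⟩ e₁ g₂ ⟨_, ha _ _ y₂.2⟩ (h.trans e₂)
  rw [hf, Subtype.ext (hb m₁ y₁.2 y₂.2 (congrArg Subtype.val hy)) (a1 := y₁) (a2 := y₂)]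

end Groth.Agent.S6808
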