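import Mathlib.AlgebraicTopology.SimplicialObject.Basic
import Mathlib.CategoryTheory.Functor.KanExtension.Pointwise
import Mathlib.CategoryTheory.Limits.Shapes.FiniteLimits
import Groth.Agent.SSet16.Cosk
import Mathlib.CategoryTheory.Limits.Shapes.FiniteLimits

set_option autoImplicit false
namespace CategoryTheory
end CategoryTheory
namespace CategoryTheory.Limits
end CategoryTheory.Limits
open CategoryTheory CategoryTheory.Limits
universe v u
namespace CategoryTheory
end CategoryTheory
namespace CategoryTheory.SimplicialObject
end CategoryTheory.SimplicialObject
namespace CategoryTheory.SimplicialObject.Truncated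
end CategoryTheory.SimplicialObject.Truncated
open CategoryTheory CategoryTheory.SimplicialObject CategoryTheory.SimplicialObject.Truncated

namespace Groth.Agent.S6810

open CategoryTheory CategoryTheory.Limits Opposite in
noncomputable instance finCategory_ca (m : ℕ) (Δ : SimplexCategoryᵒᵖ) :
    FinCategory (CostructuredArrow (SimplexCategory.Truncated.inclusion m).op Δ) where
  fintypeObj := by
    haveI : Finite (CostructuredArrow (SimplexCategory.Truncated.inclusion m).op Δ) :=
      Finite.of_injective (β := Σ a : SimplexCategory.Truncated m, (Δ.unop ⟶ a.obj))
        (fun j => ⟨j.left.unop, (show op j.left.unop.obj ⟶ Δ from j.hom).unop⟩) fun j k h => by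
          obtain ⟨a, ⟨⟨⟩⟩, f⟩ := j
          obtain ⟨b, ⟨⟨⟩⟩, g⟩ := k
          obtain ⟨h1, h2⟩ := Sigma.mk.inj_iff.1 h
          have h1' : a = b := congrArg op h1
          subst h1'
          have : f = g := Quiver.Hom.unop_inj (eq_of_heq h2)
          subst this
          rfl
    exact Fintype.ofFinite _
  fintypeHom j k := by
    haveI : Finite (j.left ⟶ k.left) :=
      Finite.of_injective (fun f => f.unop) fun _ _ h => Quiver.Hom.unop_inj h
    haveI : Finite (j ⟶ k) :=
      Finite.of_injective (fun f => f.left) fun _ _ h => CostructuredArrow.ext _ _ h
    exact Fintype.ofFinite _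

/-- In a category with finite colimits every truncated simplicial object has a pointwise left Kan
extension along the inclusion of the truncated simplex category, i.e. the left adjoints `i_{m!}` of
truncation exist and are given by the colimit formula. -/
theorem result {C : Type u} [Category.{v} C] [HasFiniteColimits C] (m : ℕ) (U : (SimplexCategory.Truncated m)ᵒᵖ ⥤ C) : (SimplexCategory.Truncated.inclusion m).op.HasPointwiseLeftKanExtension U := by
  exact fun _ => inferInstance

end Groth.Agent.S6810
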