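import Groth.Statements.S6814
import Mathlib
-- import your own Groth.Agent.* helpers here

set_option autoImplicit false
set_option backward.isDefEq.respectTransparency false
set_option backward.isDefEq.respectTransparency.types false
open CategoryTheory CategoryTheory.Limits Opposite
universe v u
open CategoryTheory CategoryTheory.SimplicialObject CategoryTheory.SimplicialObject.Truncated

namespace Groth.Agent.S6814

open SimplexCategory (Truncated)

section

variable {C : Type u} [Category.{v} C] {n : ℕ}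

/-- Underlying object of an object of the truncated category. -/
abbrev tObj {m : ℕ} (a : SimplexCategory) (ha : a.len ≤ m) : (SimplexCategory.Truncated m)ᵒᵖ := op ⟨a, ha⟩

abbrev top2 (n : ℕ) : (SimplexCategory.Truncated (n + 2))ᵒᵖ :=
  op ⟨SimplexCategory.mk (n + 2), (SimplexCategory.len_mk (n + 2)).le⟩

abbrev L (n : ℕ) := (SimplexCategory.Truncated.incl (n + 1) (n + 2) (Nat.le_succ _)).op

variable (U : (SimplexCategory.Truncated (n + 1))ᵒᵖ ⥤ C) (T : C)
  (π : Fin (n + 3) → (T ⟶ U.obj (op ⟨SimplexCategory.mk (n + 1), (SimplexCategory.len_mk (n + 1)).le⟩)))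

def Compat {S : C} (g : Fin (n + 3) → (S ⟶ U.obj (op ⟨SimplexCategory.mk (n + 1), (SimplexCategory.len_mk (n + 1)).le⟩))) : Prop :=
  ∀ i j : Fin (n + 2), i ≤ j → g (Fin.castSucc i) ≫ U.map (SimplexCategory.Truncated.δ (n + 1) j ((SimplexCategory.len_mk n).trans_le (Nat.le_succ n)) (SimplexCategory.len_mk (n + 1)).le).op = g j.succ ≫ U.map (SimplexCategory.Truncated.δ (n + 1) i ((SimplexCategory.len_mk n).trans_le (Nat.le_succ n)) (SimplexCategory.len_mk (n + 1)).le).op

abbrev pre {a : SimplexCategory} (ha : a.len ≤ n + 1) (θ : a ⟶ SimplexCategory.mk (n + 1)) :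
    (tObj (SimplexCategory.mk (n + 1)) (SimplexCategory.len_mk (n + 1)).le : (SimplexCategory.Truncated (n + 1))ᵒᵖ) ⟶ tObj a ha :=
  (SimplexCategory.Truncated.Hom.tr θ ha (SimplexCategory.len_mk (n + 1)).le).op

theorem not_surj {a : SimplexCategory} (ha : a.len ≤ n + 1) (φ : a ⟶ SimplexCategory.mk (n + 2)) :
    ¬ Function.Surjective φ.toOrderHom := fun h => by
  have := Fintype.card_le_of_surjective _ h
  simp at this
  omega

variable {U} in
theorem wd_lt {S : C} {g : Fin (n + 3) → (S ⟶ U.obj (op ⟨SimplexCategory.mk (n + 1), (SimplexCategory.len_mk (n + 1)).le⟩))}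
    (hg : Compat U g) {a : SimplexCategory} (ha : a.len ≤ n + 1) (i i' : Fin (n + 3)) (hlt : i < i')
    (θ θ' : a ⟶ SimplexCategory.mk (n + 1)) (h : θ ≫ SimplexCategory.δ i = θ' ≫ SimplexCategory.δ i') :
    g i ≫ U.map (pre ha θ) = g i' ≫ U.map (pre ha θ') := by
  obtain ⟨i₀, rfl⟩ := Fin.exists_castSucc_eq.2 (Fin.ne_last_of_lt hlt)
  obtain ⟨j, rfl⟩ := Fin.exists_succ_eq.2 (Fin.ne_zero_of_lt hlt)
  have hij : i₀ ≤ j := Fin.castSucc_lt_succ_iff.1 hlt
  obtain ⟨χ, rfl⟩ := SimplexCategory.eq_comp_δ_of_not_surjective' θ j fun x hx => by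
    have h' := DFunLike.congr_fun (congrArg (fun f => SimplexCategory.Hom.toOrderHom f) h) x
    change i₀.castSucc.succAbove (θ.toOrderHom x) = j.succ.succAbove (θ'.toOrderHom x) at h'
    rw [hx, Fin.succAbove_of_le_castSucc _ _ (Fin.castSucc_le_castSucc_iff.2 hij)] at h'
    exact Fin.succAbove_ne _ _ h'.symm
  rw [Category.assoc, ← SimplexCategory.δ_comp_δ hij, ← Category.assoc, cancel_mono] at h
  subst h
  have e : ∀ l : Fin (n + 2), pre ha (χ ≫ SimplexCategory.δ l) =
      (SimplexCategory.Truncated.δ (n + 1) l ((SimplexCategory.len_mk n).trans_le (Nat.le_succ n)) (SimplexCategory.len_mk (n + 1)).le).op ≫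
        (SimplexCategory.Truncated.Hom.tr χ ha ((SimplexCategory.len_mk n).trans_le (Nat.le_succ n))).op := fun l => rfl
  rw [e, e, U.map_comp, U.map_comp, ← Category.assoc, ← Category.assoc, hg i₀ j hij]

variable {U} in
theorem wd {S : C} {g : Fin (n + 3) → (S ⟶ U.obj (op ⟨SimplexCategory.mk (n + 1), (SimplexCategory.len_mk (n + 1)).le⟩))}
    (hg : Compat U g) {a : SimplexCategory} (ha : a.len ≤ n + 1) (i i' : Fin (n + 3))
    (θ θ' : a ⟶ SimplexCategory.mk (n + 1)) (h : θ ≫ SimplexCategory.δ i = θ' ≫ SimplexCategory.δ i') :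
    g i ≫ U.map (pre ha θ) = g i' ≫ U.map (pre ha θ') := by
  rcases lt_trichotomy i i' with h1 | h1 | h1
  · exact wd_lt hg ha i i' h1 θ θ' h
  · subst h1; rw [cancel_mono] at h; rw [h]
  · exact (wd_lt hg ha i' i h1 θ' θ h.symm).symm

abbrev arr {a : SimplexCategory} (ha : a.len ≤ n + 1) (φ : a ⟶ SimplexCategory.mk (n + 2)) :
    StructuredArrow (top2 n) (L n) :=
  StructuredArrow.mk (Y := tObj a ha)
    (SimplexCategory.Truncated.Hom.tr φ (ha.trans (Nat.le_succ _)) (SimplexCategory.len_mk (n + 2)).le).op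

noncomputable def idx {a : SimplexCategory} (ha : a.len ≤ n + 1) (φ : a ⟶ SimplexCategory.mk (n + 2)) : Fin (n + 3) :=
  (SimplexCategory.eq_comp_δ_of_not_surjective φ (not_surj ha φ)).choose

noncomputable def fct {a : SimplexCategory} (ha : a.len ≤ n + 1) (φ : a ⟶ SimplexCategory.mk (n + 2)) :
    a ⟶ SimplexCategory.mk (n + 1) :=
  (SimplexCategory.eq_comp_δ_of_not_surjective φ (not_surj ha φ)).choose_spec.choose

theorem fct_spec {a : SimplexCategory} (ha : a.len ≤ n + 1) (φ : a ⟶ SimplexCategory.mk (n + 2)) :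
    φ = fct ha φ ≫ SimplexCategory.δ (idx ha φ) :=
  (SimplexCategory.eq_comp_δ_of_not_surjective φ (not_surj ha φ)).choose_spec.choose_spec

noncomputable def cone (hπ : Compat U π) : Cone (StructuredArrow.proj (top2 n) (L n) ⋙ U) where
  pt := T
  π :=
    { app := fun g => π (idx g.right.unop.property g.hom.unop.hom) ≫
        U.map (pre g.right.unop.property (fct g.right.unop.property g.hom.unop.hom))
      naturality := fun g g' f => by
        refine (Category.id_comp _).trans ?_
        change _ = (_ ≫ U.map _) ≫ U.map f.right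
        rw [Category.assoc]
        rw [← U.map_comp]
        refine Eq.trans ?_ (wd hπ g'.right.unop.property (idx g.right.unop.property g.hom.unop.hom) (idx g'.right.unop.property g'.hom.unop.hom)
          (f.right.unop.hom ≫ fct g.right.unop.property g.hom.unop.hom) (fct g'.right.unop.property g'.hom.unop.hom) ?_).symm
        · rfl
        · rw [Category.assoc, ← fct_spec, ← fct_spec]
          exact congrArg (fun q : top2 n ⟶ (L n).obj g'.right => q.unop.hom) (StructuredArrow.w f) }

theorem cone_app (hπ : Compat U π) (g : StructuredArrow (top2 n) (L n)) (i : Fin (n + 3))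
    (θ : g.right.unop.obj ⟶ SimplexCategory.mk (n + 1)) (h : g.hom.unop.hom = θ ≫ SimplexCategory.δ i) :
    (cone U T π hπ).π.app g = π i ≫ U.map (pre g.right.unop.property θ) :=
  wd hπ _ _ _ _ _ ((fct_spec _ _).symm.trans h)

theorem sCompat (s : Cone (StructuredArrow.proj (top2 n) (L n) ⋙ U)) :
    Compat U (fun k => s.π.app (arr (SimplexCategory.len_mk (n + 1)).le (SimplexCategory.δ k))) := by
  intro i j hij
  have hn := (SimplexCategory.len_mk n).trans_le (Nat.le_succ n)
  have e : ∀ (k : Fin (n + 3)) (l : Fin (n + 2)), s.π.app (arr (SimplexCategory.len_mk (n + 1)).le (SimplexCategory.δ k)) ≫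
      U.map (SimplexCategory.Truncated.δ (n + 1) l hn (SimplexCategory.len_mk (n + 1)).le).op =
      s.π.app (arr hn (SimplexCategory.δ l ≫ SimplexCategory.δ k)) := fun k l =>
    s.w (StructuredArrow.homMk (SimplexCategory.Truncated.δ (n + 1) l hn (SimplexCategory.len_mk (n + 1)).le).op rfl :
      arr (SimplexCategory.len_mk (n + 1)).le (SimplexCategory.δ k) ⟶ arr hn (SimplexCategory.δ l ≫ SimplexCategory.δ k))
  dsimp only
  rw [e, e, SimplexCategory.δ_comp_δ hij]

noncomputable def isLimit (hπ : Compat U π)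
    (huniv : ∀ (S : C) (g : Fin (n + 3) → (S ⟶ U.obj (op ⟨SimplexCategory.mk (n + 1), (SimplexCategory.len_mk (n + 1)).le⟩))),
      Compat U g → ∃! t : S ⟶ T, ∀ k : Fin (n + 3), t ≫ π k = g k) : IsLimit (cone U T π hπ) where
  lift s := (huniv s.pt _ (sCompat U s)).choose
  fac s g := by
    change (huniv s.pt _ (sCompat U s)).choose ≫ π _ ≫ U.map _ = _
    rw [← Category.assoc, (huniv s.pt _ (sCompat U s)).choose_spec.1]
    refine s.w (StructuredArrow.homMk (pre g.right.unop.property (fct g.right.unop.property g.hom.unop.hom)) ?_ :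
      arr (SimplexCategory.len_mk (n + 1)).le (SimplexCategory.δ (idx g.right.unop.property g.hom.unop.hom)) ⟶ g)
    apply Quiver.Hom.unop_inj
    apply ObjectProperty.hom_ext
    exact (fct_spec _ _).symm
  uniq s m hm := by
    refine (huniv s.pt _ (sCompat U s)).choose_spec.2 m fun k => ?_
    have h := hm (arr (SimplexCategory.len_mk (n + 1)).le (SimplexCategory.δ k))
    rw [cone_app U T π hπ _ k (𝟙 _) (Category.id_comp _).symm] at h
    rw [← h]
    congr 1
    change π k = π k ≫ U.map (𝟙 _)
    rw [U.map_id, Category.comp_id]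

end

/-- Let `U` be an `(n+1)`-truncated simplicial object of a category `C` (so the truncation level is at
least `1`), and let `T` be an object with morphisms `π_0, …, π_{n+2} : T ⟶ U_{n+1}` satisfying the
face relations `d_j π_i = d_i π_{j+1}` for `i ≤ j` and universal among such families (that is, `T`
represents the functor of `(n+3)`-tuples of morphisms to `U_{n+1}` satisfying the face relations).
Then `U` extends to an `(n+2)`-truncated simplicial object right adjoint to restriction: the
pointwise right Kan extension of `U` along the inclusion of `(n+1)`-truncated into `(n+2)`-truncated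
simplex categories exists, and for any right Kan extension `V` of `U` the morphism `V_{n+2} ⟶ T`
matching the faces of `V` with the `π_k` is an isomorphism (the new top term is the representing
object). -/
theorem result {C : Type u} [Category.{v} C] (n : ℕ) (U : (SimplexCategory.Truncated (n + 1))ᵒᵖ ⥤ C) (T : C) (π : Fin (n + 3) → (T ⟶ U.obj (op ⟨SimplexCategory.mk (n + 1), (SimplexCategory.len_mk (n + 1)).le⟩))) (hπ : ∀ i j : Fin (n + 2), i ≤ j → π (Fin.castSucc i) ≫ U.map (SimplexCategory.Truncated.δ (n + 1) j ((SimplexCategory.len_mk n).trans_le (Nat.le_succ n)) (SimplexCategory.len_mk (n + 1)).le).op = π j.succ ≫ U.map (SimplexCategory.Truncated.δ (n + 1) i ((SimplexCategory.len_mk n).trans_le (Nat.le_succ n)) (SimplexCategory.len_mk (n + 1)).le).op) (huniv : ∀ (S : C) (g : Fin (n + 3) → (S ⟶ U.obj (op ⟨SimplexCategory.mk (n + 1), (SimplexCategory.len_mk (n + 1)).le⟩))), (∀ i j : Fin (n + 2), i ≤ j → g (Fin.castSucc i) ≫ U.map (SimplexCategory.Truncated.δ (n + 1) j ((SimplexCategory.len_mk n).trans_le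 (Nat.le_succ n)) (SimplexCategory.len_mk (n + 1)).le).op = g j.succ ≫ U.map (SimplexCategory.Truncated.δ (n + 1) i ((SimplexCategory.len_mk n).trans_le (Nat.le_succ n)) (SimplexCategory.len_mk (n + 1)).le).op) → ∃! t : S ⟶ T, ∀ k : Fin (n + 3), t ≫ π k = g k) : (SimplexCategory.Truncated.incl (n + 1) (n + 2) (Nat.le_succ _)).op.HasPointwiseRightKanExtension U ∧ ∀ (V : (SimplexCategory.Truncated (n + 2))ᵒᵖ ⥤ C) (α : (SimplexCategory.Truncated.incl (n + 1) (n + 2) (Nat.le_succ _)).op ⋙ V ⟶ U) [V.IsRightKanExtension α] (t : V.obj (op ⟨SimplexCategory.mk (n + 2), (SimplexCategory.len_mk (n + 2)).le⟩) ⟶ T), (∀ k : Fin (n + 3), t ≫ π k = V.map (SimplexCategory.Truncated.δ (n + 2) k ((SimplexCategory.len_mk (n + 1)).trans_le (Nat.le_succ (n + 1))) (SimplexCategory.len_mk (n + 2)).le).op ≫ α.app (op ⟨SimplexCategory.mk (n + 1), (SimplexCategory.len_mk (n + 1)).le⟩)) → IsIso t := by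
  have hlim := isLimit U T π hπ huniv
  have hpw : (SimplexCategory.Truncated.incl (n + 1) (n + 2) (Nat.le_succ _)).op.HasPointwiseRightKanExtension U := by
    intro Y
    obtain ⟨⟨a, ha⟩⟩ := Y
    induction a using SimplexCategory.rec with
    | _ m =>
      by_cases hm : m ≤ n + 1
      · exact HasLimit.mk ⟨_, limitOfDiagramInitial
          (StructuredArrow.mkIdInitial (T := L n) (Y := tObj (SimplexCategory.mk m) hm)) _⟩
      · have ha' : m ≤ n + 2 := ha
        obtain rfl : m = n + 2 := by omega
        exact HasLimit.mk ⟨_, hlim⟩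
  refine ⟨hpw, fun V α _ t ht => ?_⟩
  haveI := hpw
  let hV : IsLimit ((Functor.RightExtension.mk V α).coneAt (top2 n)) :=
    Functor.isPointwiseRightKanExtensionOfIsRightKanExtension V α (top2 n)
  have : t = (hV.conePointUniqueUpToIso hlim).hom := by
    refine hlim.hom_ext fun g => ?_
    refine Eq.trans ?_ (hV.conePointUniqueUpToIso_hom_comp hlim g).symm
    rw [cone_app U T π hπ g _ _ (fct_spec g.right.unop.property g.hom.unop.hom), ← Category.assoc, ht]
    change (V.map _ ≫ α.app _) ≫ U.map (pre g.right.unop.property (fct g.right.unop.property g.hom.unop.hom)) = V.map g.hom ≫ α.app g.right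
    rw [Category.assoc, ← α.naturality, Functor.comp_map, ← V.map_comp_assoc]
    congr 2
    apply Quiver.Hom.unop_inj
    apply ObjectProperty.hom_ext
    exact (fct_spec _ _).symm
  rw [this]
  infer_instance

end Groth.Agent.S6814
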