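import Mathlib.AlgebraicTopology.SimplicialObject.Homotopy
import Mathlib.CategoryTheory.Limits.FunctorCategory.Basic
import Mathlib.CategoryTheory.Limits.Shapes.Products
import Mathlib.CategoryTheory.Limits.Preserves.Shapes.Products
import Mathlib.AlgebraicTopology.SimplicialObject.Homotopy
import Mathlib.CategoryTheory.Limits.FunctorCategory.Basic
import Mathlib.CategoryTheory.Limits.Shapes.Products
import Mathlib.CategoryTheory.Limits.Preserves.Shapes.Products

set_option autoImplicit false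
namespace CategoryTheory
end CategoryTheory
namespace CategoryTheory.Limits
end CategoryTheory.Limits
open CategoryTheory CategoryTheory.Limits
universe w v u
namespace CategoryTheory
end CategoryTheory
namespace CategoryTheory.SimplicialObject
end CategoryTheory.SimplicialObject
open CategoryTheory CategoryTheory.SimplicialObject

namespace Groth.Agent.S6815

/-- Homotopies between the factors of two product morphisms of simplicial objects assemble to a homotopy
between the products. -/
theorem result {C : Type u} [Category.{v} C] {T : Type w} [HasLimitsOfShape (Discrete T) C] {X Y : T → SimplicialObject C} (a b : ∀ t, X t ⟶ Y t) (h : ∀ t, Nonempty (SimplicialObject.Homotopy (a t) (b t))) : Nonempty (SimplicialObject.Homotopy (Limits.Pi.map a) (Limits.Pi.map b)) := by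
  have pw : ∀ (Z : T → SimplicialObject C) (n : SimplexCategoryᵒᵖ),
      IsLimit (Fan.mk _ fun t => (Pi.π Z t).app n) := fun Z n =>
    isLimitFanMkObjOfIsLimit ((evaluation _ _).obj n) Z (fun t => Pi.π Z t) (productIsProduct Z)
  have hm : ∀ (c : ∀ t, X t ⟶ Y t) (n : SimplexCategoryᵒᵖ) (t : T),
      (Limits.Pi.map c).app n ≫ (Pi.π Y t).app n = (Pi.π X t).app n ≫ (c t).app n := fun c n t => by
    rw [← NatTrans.comp_app, ← NatTrans.comp_app, Limits.Pi.map_π]
  let H := fun t => (h t).some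
  let hh : ∀ {n : ℕ} (i : Fin (n + 1)), (∏ᶜ X).obj (Opposite.op (SimplexCategory.mk n)) ⟶
      (∏ᶜ Y).obj (Opposite.op (SimplexCategory.mk (n + 1))) := fun {n} i =>
    Fan.IsLimit.lift (pw Y _) fun t => (Pi.π X t).app _ ≫ (H t).h i
  have hπ : ∀ {n : ℕ} (i : Fin (n + 1)) (t : T),
      hh i ≫ (Pi.π Y t).app _ = (Pi.π X t).app _ ≫ (H t).h i := fun i t => Fan.IsLimit.fac (pw Y _) _ t
  have hδ : ∀ (Z : T → SimplicialObject C) {n : ℕ} (i : Fin (n + 2)) (t : T),
      SimplicialObject.δ (∏ᶜ Z) i ≫ (Pi.π Z t).app _ = (Pi.π Z t).app _ ≫ (Z t).δ i := fun Z n i t =>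
    (Pi.π Z t).naturality _
  have hσ : ∀ (Z : T → SimplicialObject C) {n : ℕ} (i : Fin (n + 1)) (t : T),
      SimplicialObject.σ (∏ᶜ Z) i ≫ (Pi.π Z t).app _ = (Pi.π Z t).app _ ≫ (Z t).σ i := fun Z n i t =>
    (Pi.π Z t).naturality _
  have key : ∀ {A : C} (n : SimplexCategoryᵒᵖ) (f g : A ⟶ (∏ᶜ Y).obj n),
      (∀ t, f ≫ (Pi.π Y t).app n = g ≫ (Pi.π Y t).app n) → f = g := fun n f g hfg =>
    Fan.IsLimit.hom_ext (pw Y n) f g hfg
  refine ⟨{ h := @hh, h_zero_comp_δ_zero := ?_, h_last_comp_δ_last := ?_, h_succ_comp_δ_castSucc_of_lt := ?_, h_succ_comp_δ_castSucc_succ := ?_, h_castSucc_comp_δ_succ_of_lt := ?_, h_comp_σ_castSucc_of_le := ?_, h_comp_σ_succ_of_lt := ?_ }⟩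
  all_goals intros
  all_goals refine key _ _ _ fun t => ?_
  all_goals simp only [Category.assoc, hδ, hσ, hπ, hm, reassoc_of% hπ, reassoc_of% hδ Y,
    reassoc_of% hδ X, reassoc_of% hσ Y, reassoc_of% hσ X]
  all_goals congr 1
  · exact (H t).h_zero_comp_δ_zero _
  · exact (H t).h_last_comp_δ_last _
  · exact (H t).h_succ_comp_δ_castSucc_of_lt _ _ (by assumption)
  · exact (H t).h_succ_comp_δ_castSucc_succ _
  · exact (H t).h_castSucc_comp_δ_succ_of_lt _ _ (by assumption)
  · exact (H t).h_comp_σ_castSucc_of_le _ _ (by assumption)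
  · exact (H t).h_comp_σ_succ_of_lt _ _ (by assumption)

end Groth.Agent.S6815
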