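import Groth.Statements.S6816
import Mathlib.Tactic.Abel

set_option autoImplicit false
set_option backward.isDefEq.respectTransparency false
set_option backward.defeqAttrib.useBackward true
open CategoryTheory CategoryTheory.Limits
universe v u
open CochainComplex

namespace Groth.Agent.S6816

/-- The boundary morphisms `C ⟶ A⟦1⟧` attached to two degreewise splittings of a degreewise split
sequence `A ⟶ B ⟶ C` of cochain complexes are homotopic. -/
theorem result {C : Type u} [Category.{v} C] [Preadditive C] [HasBinaryBiproducts C] (S : ShortComplex (CochainComplex C ℤ)) (σ σ' : ∀ n : ℤ, (S.map (HomologicalComplex.eval C (ComplexShape.up ℤ) n)).Splitting) : Nonempty (Homotopy (CochainComplex.homOfDegreewiseSplit S σ) (CochainComplex.homOfDegreewiseSplit S σ')) := by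
  let w : ∀ n, S.X₃.X n ⟶ S.X₁.X n := fun n => (σ' n).s ≫ (σ n).r
  have hs : ∀ n, (σ' n).s = @HAdd.hAdd (S.X₃.X n ⟶ S.X₂.X n) (S.X₃.X n ⟶ S.X₂.X n) _ _ ((σ n).s) (w n ≫ S.f.f n) := by
    intro n
    have e := (σ n).id
    have g := (σ' n).s_g
    dsimp [w] at e g ⊢
    refine (((congrArg (fun z => (σ' n).s ≫ z) e).trans (Category.comp_id _)).symm.trans ?_)
    rw [Preadditive.comp_add, reassoc_of% g, Category.assoc, add_comm]
  have hr : ∀ n, (σ' n).r = @HSub.hSub (S.X₂.X n ⟶ S.X₁.X n) (S.X₂.X n ⟶ S.X₁.X n) _ _ ((σ n).r) (S.g.f n ≫ w n) := by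
    intro n
    have e := (σ' n).id
    have f' := (σ n).f_r
    dsimp [w] at e f' ⊢
    rw [eq_sub_iff_add_eq]
    refine Eq.trans ?_ ((congrArg (fun z => z ≫ (σ n).r) e).trans (Category.id_comp _))
    rw [Preadditive.add_comp, Category.assoc, f', Category.comp_id, Category.assoc]
  refine ⟨{
    hom := fun i j => if h : j + 1 = i then w i ≫ (S.X₁.XIsoOfEq h.symm).hom else 0
    zero := fun i j h => by
      by_cases hij : j + 1 = i
      · exact absurd hij h
      · exact dif_neg hij
    comm := fun n => ?_ }⟩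
  rw [dNext_eq _ (show (ComplexShape.up ℤ).Rel n (n + 1) from rfl),
    prevD_eq _ (show (ComplexShape.up ℤ).Rel (n - 1) n from by simp),
    dif_pos rfl, dif_pos (by omega : n - 1 + 1 = n)]
  simp only [homOfDegreewiseSplit_f, cocycleOfDegreewiseSplit, HomComplex.Cocycle.mk_coe,
    HomComplex.Cochain.mk_v]
  rw [CochainComplex.shiftFunctor_obj_d', Int.negOnePow_one, Units.neg_smul, one_smul]
  simp only [Preadditive.comp_neg, Category.assoc, HomologicalComplex.XIsoOfEq_hom_comp_d]
  rw [hs n, hr (n + 1)]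
  have hw := S.zero
  have h1 : ∀ {T : C} (t : S.X₁.X (n+1) ⟶ T), S.f.f n ≫ S.X₂.d n (n + 1) ≫ (σ (n+1)).r ≫ t =
      S.X₁.d n (n + 1) ≫ t := by
    intro T t
    have h' := (σ (n + 1)).f_r
    dsimp at h'
    rw [S.f.comm_assoc, reassoc_of% h']
  have h1' : S.f.f n ≫ S.X₂.d n (n + 1) ≫ (σ (n+1)).r = S.X₁.d n (n + 1) := by
    simpa using h1 (𝟙 _)
  have h2 : (σ n).s ≫ S.X₂.d n (n + 1) ≫ S.g.f (n + 1) = S.X₃.d n (n + 1) := by
    have h' := (σ n).s_g
    dsimp at h'
    rw [← S.g.comm, reassoc_of% h']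
  have h3 : S.f.f n ≫ S.X₂.d n (n + 1) ≫ S.g.f (n + 1) = 0 := by
    rw [← S.g.comm, ← HomologicalComplex.comp_f_assoc, hw, HomologicalComplex.zero_f, zero_comp]
  simp only [Preadditive.comp_sub, Preadditive.add_comp, Category.assoc, h1',
    reassoc_of% h2, reassoc_of% h3, zero_comp, comp_zero, sub_zero, add_zero]
  simp only [HomologicalComplex.XIsoOfEq_rfl, Iso.refl_hom, Category.comp_id]
  have key : ∀ {G : Type v} [AddCommGroup G] (a b c : G), a = b + -c + (a + c - b) := by
    intros; abel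
  exact key _ _ _


end Groth.Agent.S6816
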