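import Mathlib.AlgebraicTopology.MooreComplex
import Mathlib.CategoryTheory.Abelian.Basic
import Mathlib.CategoryTheory.Subobject.Lattice
import Groth.Agent.SSet16.DegImage
import Mathlib.CategoryTheory.Subobject.Basic

set_option autoImplicit false
namespace CategoryTheory
end CategoryTheory
namespace CategoryTheory.Limits
end CategoryTheory.Limits
namespace Opposite
end Opposite
open CategoryTheory CategoryTheory.Limits Opposite
universe v u
namespace CategoryTheory
end CategoryTheory
namespace CategoryTheory.Abelian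
end CategoryTheory.Abelian
open CategoryTheory CategoryTheory.Abelian

namespace Groth.Agent.S6818

open CategoryTheory CategoryTheory.Limits in
lemma image_comp_arrow_le {A : Type*} [Category A] [Abelian A] {P Q : A} {S : Subobject P} (f : P ⟶ Q)
    (T : Subobject Q) (h : S ≤ (Subobject.pullback f).obj T) :
    imageSubobject (S.arrow ≫ f) ≤ T := by
  refine imageSubobject_le _ (Subobject.ofLE _ _ h ≫ Subobject.pullbackπ f T) ?_
  rw [Category.assoc, (Subobject.isPullback f T).w, ← Category.assoc, Subobject.ofLE_arrow]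


/-- For a simplicial object `U` of an abelian category and `n ≥ 0`, the subobjects `U'_m ⊆ U_m`
generated by the images of all `U_i ⟶ U_m` induced by maps `[m] ⟶ [i]` with `i ≤ n` form a
simplicial subobject equal to `U` in dimensions `≤ n` whose normalized part vanishes in dimensions
`> n`. Here the normalized subobject of `U_m` is the joint kernel of the faces `d_1, …, d_m`; the
published statement uses the faces `d_0, …, d_{m-1}`, the mirror-image convention, and both versions
hold. -/
theorem result {A : Type u} [Category.{v} A] [Abelian A] (U : SimplicialObject A) (n : ℕ) (U' : ∀ m : ℕ, Subobject (U.obj (op (SimplexCategory.mk m)))) (hU' : ∀ m : ℕ, IsLUB (Set.range (fun φ : Σ i : Fin (n + 1), (SimplexCategory.mk m ⟶ SimplexCategory.mk i) => imageSubobject (U.map φ.2.op))) (U' m)) : (∀ (m m' : ℕ) (ψ : SimplexCategory.mk m' ⟶ SimplexCategory.mk m), imageSubobject ((U' m).arrow ≫ U.map ψ.op) ≤ U' m') ∧ (∀ i : ℕ, i ≤ n → U' i = ⊤) ∧ (∀ m : ℕ, n < m → U' m ⊓ AlgebraicTopology.NormalizedMooreComplex.objX U m = ⊥) :=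 by
  refine ⟨fun m m' ψ => ?_, fun i hi => ?_, fun m hm => ?_⟩
  · refine image_comp_arrow_le (U.map ψ.op) (U' m') ((hU' m).2 ?_)
    rintro _ ⟨⟨i, θ⟩, rfl⟩
    dsimp only
    have hle : imageSubobject (U.map (ψ ≫ θ).op) ≤ U' m' := (hU' m').1 ⟨⟨i, ψ ≫ θ⟩, rfl⟩
    let g := factorThruImageSubobject (U.map (ψ ≫ θ).op) ≫ Subobject.ofLE _ _ hle
    have hg : g ≫ (U' m').arrow = U.map θ.op ≫ U.map ψ.op := by
      rw [Category.assoc, Subobject.ofLE_arrow, imageSubobject_arrow_comp, op_comp, Functor.map_comp]
    exact imageSubobject_le _ ((Subobject.isPullback (U.map ψ.op) (U' m')).lift g (U.map θ.op) hg)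
      ((Subobject.isPullback (U.map ψ.op) (U' m')).lift_snd g (U.map θ.op) hg)
  · refine top_le_iff.1 ?_
    have h := (hU' i).1 ⟨⟨⟨i, Nat.lt_succ_of_le hi⟩, 𝟙 _⟩, rfl⟩
    dsimp only at h
    refine le_trans ?_ h
    rw [op_id, CategoryTheory.Functor.map_id]
    exact (imageSubobject_mono (𝟙 _)).ge.trans' (le_of_eq (Subobject.top_eq_id _))
  · have hk : U' m ≤ kernelSubobject ((AlgebraicTopology.DoldKan.PInfty (X := U)).f m) := by
      refine (hU' m).2 ?_
      rintro _ ⟨⟨i, θ⟩, rfl⟩
      refine le_kernelSubobject _ _ ?_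
      dsimp only
      rw [← cancel_epi (factorThruImageSubobject (U.map θ.op)), comp_zero, ← Category.assoc,
        imageSubobject_arrow_comp]
      exact AlgebraicTopology.DoldKan.degeneracy_comp_PInfty U m θ
        (Groth.Agent.SSet16.not_mono_of_lt (lt_of_lt_of_le i.2 (Nat.succ_le_of_lt hm)) θ)
    let N := AlgebraicTopology.NormalizedMooreComplex.objX U m
    have h0 : (U' m ⊓ N).arrow = 0 := by
      rw [← Subobject.ofLE_arrow (show U' m ⊓ N ≤ N from inf_le_right),
        ← Groth.Agent.SSet16.arrow_comp_PInfty U m, ← Category.assoc, Subobject.ofLE_arrow,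
        ← Subobject.ofLE_arrow (inf_le_left.trans hk : U' m ⊓ N ≤ _), Category.assoc,
        kernelSubobject_arrow_comp, comp_zero]
    rw [← Subobject.mk_arrow (U' m ⊓ N), Subobject.mk_eq_bot_iff_zero]
    exact h0

end Groth.Agent.S6818
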