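import Groth.Statements.S6820
import Mathlib


set_option autoImplicit false
universe u
open Smoothing

namespace Groth.Agent.S6820

/-- Let A be a Noetherian ring, M a finite A-module, S a multiplicative subset of A and π an element of
A such that on the localised module S⁻¹M the kernels of multiplication by π and by π² agree. Then
there is an element s of S such that for every n > 0 the kernels of multiplication by sⁿπ and by
(sⁿπ)² on M agree. (Kernel equalities are written as implications, the reverse inclusions being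
automatic.) -/
theorem result {A : Type u} [CommRing A] [IsNoetherianRing A]
    (M : Type u) [AddCommGroup M] [Module A M] [Module.Finite A M] (S : Submonoid A) (π : A)
    (h : ∀ m : LocalizedModule S M, π ^ 2 • m = 0 → π • m = 0) :
    ∃ s ∈ S, ∀ n : ℕ, 0 < n → ∀ m : M, (s ^ n * π) ^ 2 • m = 0 → (s ^ n * π) • m = 0 := by
  obtain ⟨G, hG⟩ := IsNoetherian.noetherian (LinearMap.ker (LinearMap.lsmul A M (π ^ 2)))
  have hK : ∀ m ∈ LinearMap.ker (LinearMap.lsmul A M (π ^ 2)), ∃ t ∈ S, t • π • m = 0 := by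
    intro m hm
    have h0 : π ^ 2 • (LocalizedModule.mk m 1 : LocalizedModule S M) = 0 := by
      rw [LocalizedModule.smul'_mk, show π ^ 2 • m = 0 from hm, LocalizedModule.zero_mk]
    have h1 := h _ h0
    rw [LocalizedModule.smul'_mk] at h1
    obtain ⟨t, ht⟩ := LocalizedModule.mk_eq.1 (h1.trans (LocalizedModule.zero_mk 1).symm)
    exact ⟨t, t.2, by simpa [Submonoid.smul_def] using ht⟩
  choose t ht htm using hK
  classical
  let s0 : A := ∏ g ∈ G.attach, t g.1 (hG ▸ Submodule.subset_span g.2)
  have hs0 : s0 ∈ S := Submonoid.prod_mem _ fun g _ => ht _ _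
  have hkill : ∀ m ∈ LinearMap.ker (LinearMap.lsmul A M (π ^ 2)), s0 • π • m = 0 := by
    intro m hm
    rw [← hG] at hm
    induction hm using Submodule.span_induction with
    | mem g hg =>
      obtain ⟨c, hc⟩ := Finset.dvd_prod_of_mem
        (fun g : G => t g.1 (hG ▸ Submodule.subset_span g.2)) (Finset.mem_attach G ⟨g, hg⟩)
      rw [show s0 = _ from hc, mul_comm, mul_smul, htm, smul_zero]
    | zero => simp
    | add a b _ _ ha hb => rw [smul_add, smul_add, ha, hb, add_zero]
    | smul c a _ ha => rw [smul_comm π c a, smul_comm s0 c, ha, smul_zero]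
  let f : ℕ →o Submodule A M :=
    ⟨fun k => LinearMap.ker (LinearMap.lsmul A M (s0 ^ k)), fun a b hab m hm => by
      obtain ⟨c, rfl⟩ := Nat.exists_eq_add_of_le hab
      show s0 ^ (a + c) • m = 0
      rw [add_comm, pow_add, mul_smul, show s0 ^ a • m = 0 from hm, smul_zero]⟩
  obtain ⟨N, hN⟩ := monotone_stabilizes_iff_noetherian.2 (inferInstance : IsNoetherian A M) f
  refine ⟨s0 ^ (N + 1), pow_mem hs0 _, fun n hn m hm => ?_⟩
  have h2 : s0 • π • (((s0 ^ (N + 1)) ^ n) ^ 2 • m) = 0 := by
    refine hkill _ (show π ^ 2 • ((s0 ^ (N + 1)) ^ n) ^ 2 • m = 0 from ?_)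
    rw [← mul_smul, mul_comm, ← mul_pow]; exact hm
  have h3 : π • m ∈ f ((N + 1) * n * 2 + 1) := by
    show s0 ^ ((N + 1) * n * 2 + 1) • π • m = 0
    rw [← h2, smul_comm π (((s0 ^ (N + 1)) ^ n) ^ 2) m, ← pow_mul, ← pow_mul, pow_succ', mul_smul, mul_assoc]
  have hle : N + 1 ≤ (N + 1) * n := Nat.le_mul_of_pos_right _ hn
  have h4 : π • m ∈ f ((N + 1) * n) := by
    rw [← hN ((N + 1) * n) (by omega), hN ((N + 1) * n * 2 + 1) (by omega)]
    exact h3
  rw [mul_smul, ← pow_mul]
  exact h4

end Groth.Agent.S6820
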