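import Groth.Statements.S6825
import Groth.Agent.CAlgH.EtaleApprox
import Groth.Agent.CAlgH.GRingCompletion
-- import your own Groth.Agent.* helpers here

set_option autoImplicit false
universe u
open Smoothing

namespace Groth.Agent.S6825

/-- Let R be a Noetherian local ring with maximal ideal m which is a G-ring, R^ its m-adic completion,
and F₁, …, F_m polynomials in n variables over R having a solution a = (a₁, …, a_n) in R^. Then for
every N there are an étale R-algebra R', an R-algebra map ψ : R' → R^, a maximal ideal m' of R'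
lying over m with κ(m) = κ(m') and ψ(m') ⊆ mR^, and a solution b = (b₁, …, b_n) of the system in R'
with a_i − ψ(b_i) ∈ m^N R^ for all i. (The source compares a and b inside R^ through the
identification of R^ with the completion of R' at m'; here that comparison map is the R-algebra map
ψ.) -/
theorem result {R : Type u} [CommRing R] [IsLocalRing R] (hG : CAlg.IsGRing R)
    {n m : ℕ} (F : Fin m → MvPolynomial (Fin n) R)
    (a : Fin n → AdicCompletion (IsLocalRing.maximalIdeal R) R) (ha : ∀ j, MvPolynomial.aeval a (F j) = 0)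
    (N : ℕ) :
    ∃ (R' : Type u) (_ : CommRing R') (_ : Algebra R R'), Algebra.Etale R R' ∧
      ∃ (ψ : R' →ₐ[R] AdicCompletion (IsLocalRing.maximalIdeal R) R) (m' : Ideal R'), m'.IsMaximal ∧
        m'.comap (algebraMap R R') = IsLocalRing.maximalIdeal R ∧
        (∀ x : R', ∃ r : R, x - algebraMap R R' r ∈ m') ∧
        (∀ x ∈ m', ψ x ∈ (IsLocalRing.maximalIdeal R).map
          (algebraMap R (AdicCompletion (IsLocalRing.maximalIdeal R) R))) ∧
        ∃ b : Fin n → R', (∀ j, MvPolynomial.aeval b (F j) = 0) ∧
          ∀ i, a i - ψ (b i) ∈ (IsLocalRing.maximalIdeal R ^ N).map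
            (algebraMap R (AdicCompletion (IsLocalRing.maximalIdeal R) R)) := by
  haveI : IsNoetherianRing R := hG.1
  let T := AdicCompletion (IsLocalRing.maximalIdeal R) R
  haveI : IsNoetherianRing T := _root_.Groth.Agent.Matlis6.isNoetherianRing_adicCompletion _
  haveI := _root_.Groth.Agent.CAlgH.EtaleApprox.isAdicComplete_cpl R
  obtain ⟨R', _, _, hR', ψ, b, hb, hab⟩ := _root_.Groth.Agent.CAlgH.EtaleApprox.exists_etale_solution
    (_root_.Groth.Agent.CAlgH.isRegularHom_adicCompletion_of_isGRing R hG (IsLocalRing.maximalIdeal R))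
    (IsUnit.submonoid R) (fun s hs => (hs : IsUnit s).map _)
    (fun j y => by
      obtain ⟨r, hr⟩ := _root_.Groth.Agent.CAlgH.EtaleApprox.exists_sub_mem R j y
      exact ⟨r, 1, Submonoid.one_mem _, by rwa [map_one, one_mul]⟩) F a ha N
  have hmT : IsLocalRing.maximalIdeal T = (IsLocalRing.maximalIdeal R).map (algebraMap R T) :=
    AdicCompletion.maximalIdeal_eq_map
  let m' : Ideal R' := (IsLocalRing.maximalIdeal T).comap ψ.toRingHom
  have hsurj : Function.Surjective ((IsLocalRing.residue T).comp ψ.toRingHom) := fun z => by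
    obtain ⟨y, rfl⟩ := IsLocalRing.residue_surjective z
    obtain ⟨r, hr⟩ := _root_.Groth.Agent.CAlgH.EtaleApprox.exists_sub_mem R 1 y
    rw [pow_one] at hr
    refine ⟨algebraMap R R' r, (Ideal.Quotient.eq.2 ?_).symm⟩
    rw [show ψ.toRingHom (algebraMap R R' r) = algebraMap R T r from ψ.commutes r]
    exact hr
  have hm' : m'.IsMaximal := by
    have h := RingHom.ker_isMaximal_of_surjective _ hsurj
    rw [← RingHom.comap_ker, IsLocalRing.ker_residue] at h
    exact h
  refine ⟨R', inferInstance, inferInstance, hR', ψ, m', hm', ?_, fun x => ?_, fun x hx => ?_, b, hb, fun i => ?_⟩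
  · symm
    refine (IsLocalRing.maximalIdeal.isMaximal R).eq_of_le (Ideal.IsPrime.comap _).ne_top fun r hr => ?_
    show ψ (algebraMap R R' r) ∈ IsLocalRing.maximalIdeal T
    rw [ψ.commutes, hmT]
    exact Ideal.mem_map_of_mem _ hr
  · obtain ⟨r, hr⟩ := _root_.Groth.Agent.CAlgH.EtaleApprox.exists_sub_mem R 1 (ψ x)
    rw [pow_one] at hr
    exact ⟨r, show ψ (x - algebraMap R R' r) ∈ IsLocalRing.maximalIdeal T by rwa [map_sub, ψ.commutes]⟩
  · rw [← hmT]
    exact hx
  · rw [Ideal.map_pow, ← hmT]
    exact hab i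

end Groth.Agent.S6825
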