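import Groth.Prelude.Def_ModSite
import Mathlib.Algebra.Category.ModuleCat.Sheaf.Quasicoherent
import Groth.Agent.HTop16.LocPresOps

set_option autoImplicit false
universe u
namespace CategoryTheory
end CategoryTheory
namespace CategoryTheory.Limits
end CategoryTheory.Limits
namespace TopologicalSpace
end TopologicalSpace
open CategoryTheory CategoryTheory.Limits TopologicalSpace
namespace ModSite
end ModSite
open ModSite

namespace Groth.Agent.S6833

/-- On a ringed space (X, O), if φ : G → F is a map of O-modules with G of finite type and F of finite
presentation, then Coker(φ) is of finite presentation. -/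
theorem result {X : TopCat.{u}} (O : TopCat.Sheaf CommRingCat.{u} X)
    {G F : ModSite.Mod O} (φ : G ⟶ F) [SheafOfModules.IsFiniteType (R := ModSite.ringSh O) G] [SheafOfModules.IsFinitePresentation (R := ModSite.ringSh O) F] :
    SheafOfModules.IsFinitePresentation (R := ModSite.ringSh O) (cokernel φ) := by
  exact Groth.Agent.HTop16.LocGen.isFinitePresentation_of_fp
    (Groth.Agent.HTop16.LocGen.fp_cokernel φ (Groth.Agent.HTop16.LocGen.ft_of_isFiniteType G)
      (Groth.Agent.HTop16.LocGen.fp_of_isFinitePresentation F))

end Groth.Agent.S6833
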