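import Groth.Prelude.Def_ModSite
import Mathlib.RingTheory.Flat.Basic
import Mathlib.Algebra.Category.ModuleCat.Sheaf.Quasicoherent
import Groth.Prelude.Def_ModSite2
import Mathlib.Topology.Sheaves.Points
import Groth.Agent.SiteHom16.StalkFlat
import Mathlib.Topology.Sheaves.Points

set_option autoImplicit false
universe u
namespace CategoryTheory
end CategoryTheory
namespace CategoryTheory.Limits
end CategoryTheory.Limits
namespace TopologicalSpace
end TopologicalSpace
open CategoryTheory CategoryTheory.Limits TopologicalSpace
namespace ModSite
end ModSite
open ModSite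

namespace Groth.Agent.S6835

/-- On a ringed space (X, O), an O-module F is flat (the functor − ⊗_O F is exact) if and only if for
every point x the stalk F_x is a flat O_{X,x}-module (stalks are taken at the point of the site of
opens of X given by x). -/
theorem result {X : TopCat.{u}} (O : TopCat.Sheaf CommRingCat.{u} X) (F : ModSite.Mod O) :
    ModSite.IsFlat F ↔ ∀ x : X, Module.Flat (ModSite.stalkRing (Opens.pointGrothendieckTopology x) O)
      (ModSite.stalkMod (Opens.pointGrothendieckTopology x) F) := by
  refine ⟨fun h x => Groth.Agent.SiteHom16.flat_stalkMod _ h, fun h => ?_⟩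
  refine Groth.Agent.SiteHom16.isFlat_of_flat_stalkMod (Opens.pointsGrothendieckTopology X)
    (Opens.isConservativeFamilyOfPoints_pointsGrothendieckTopology X) ?_
  rintro q ⟨x⟩
  exact h x

end Groth.Agent.S6835
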