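import Groth.Prelude.Def_ModSite
import Mathlib.Order.Directed
import Mathlib.Algebra.Category.ModuleCat.Sheaf.Quasicoherent
import Groth.Agent.HTop16.GlobalColim
import Groth.Agent.HTop16.SpaceQC

set_option autoImplicit false
universe u
namespace CategoryTheory
end CategoryTheory
namespace CategoryTheory.Limits
end CategoryTheory.Limits
namespace TopologicalSpace
end TopologicalSpace
open CategoryTheory CategoryTheory.Limits TopologicalSpace
namespace ModSite
end ModSite
open ModSite

namespace Groth.Agent.S6840

/-- Let (X, O) be a ringed space such that every open covering of X is refined by a finite open covering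
X = ⋃ U_j whose pairwise intersections U_j ∩ U_{j'} are quasi-compact. Let I be a directed
preordered set (nonempty, with upper bounds), (F_i) a system of O-modules over I, and G an O-module
of finite presentation. Then colim_i Hom(G, F_i) → Hom(G, colim_i F_i) is bijective, i.e. Hom(G, −)
preserves the colimit of the system. -/
theorem result {X : TopCat.{u}} (O : TopCat.Sheaf CommRingCat.{u} X)
    (hX : ∀ (ι : Type u) (V : ι → Opens X), iSup V = ⊤ →
      ∃ (J : Type u) (_ : Finite J) (U : J → Opens X), iSup U = ⊤ ∧ (∀ j, ∃ i, U j ≤ V i) ∧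
        ∀ j j', IsCompact ((U j ⊓ U j' : Opens X) : Set X))
    {I : Type u} [Preorder I] [Nonempty I] [IsDirected I (· ≤ ·)] (D : I ⥤ ModSite.Mod O)
    (G : ModSite.Mod O) [SheafOfModules.IsFinitePresentation (R := ModSite.ringSh O) G] :
    PreservesColimit D (coyoneda.obj (Opposite.op G)) := by
  haveI : IsFilteredOrEmpty I := isFilteredOrEmpty_of_directed_le I
  haveI : IsFiltered I := ⟨⟩
  refine Groth.Agent.HTop16.GlobalColim.preservesColimit_hom O G inferInstance
    {K | ToposFin.IsQC (K ⨯ K)} (fun F hF => ?_) (fun K hK => hK) D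
  choose V hxV z using Groth.Agent.HTop16.SpaceQC.exists_cover_of_epi F
  obtain ⟨T, hT, U, hU, hUV, hq⟩ := hX X V (eq_top_iff.2 fun x _ => TopologicalSpace.Opens.mem_iSup.2 ⟨x, hxV x⟩)
  choose i hi using hUV
  exact ⟨∐ fun j => ToposFin.eps (Opens.grothendieckTopology X) (U j), Groth.Agent.HTop16.SpaceQC.isQC_prod U hq,
    Groth.Agent.HTop16.SpaceQC.epi_terminal_sigma U hU,
    ⟨Sigma.desc fun j => (Groth.Agent.ToposFinLib.epsHom (U j) F).symm (F.obj.map (homOfLE (hi j)).op (z (i j)).some)⟩⟩

end Groth.Agent.S6840
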