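import Groth.Statements.S6841
import Groth.Agent.CAlgH.SmoothSpecial

set_option autoImplicit false
universe u
open Smoothing

namespace Groth.Agent.S6841

open TensorProduct in
/-- Let R ⊆ Λ be an extension of discrete valuation rings of ramification index 1 (m_R Λ = m_Λ), A a
flat R-algebra of finite type with an R-algebra map A → Λ, 𝔮 its kernel and 𝔭 the inverse image of
the maximal ideal of Λ. Assume R → A is smooth at 𝔮. Provided the Λ-module Ω_{A/R} ⊗_A Λ is free,
the map R → A is also smooth at the prime 𝔭. (The published statement phrases the freeness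
hypothesis through a surjection B → A from an R-algebra smooth at the point, with kernel I, as
freeness of the cokernel of I/I² ⊗_A Λ → Ω_{B/R} ⊗_B Λ; that cokernel is Ω_{A/R} ⊗_A Λ, which is how
its proof begins, so the two forms are equivalent.) -/
theorem result {R Λ A : Type u} [CommRing R] [IsDomain R]
    [IsDiscreteValuationRing R] [CommRing Λ] [IsDomain Λ] [IsDiscreteValuationRing Λ] [Algebra R Λ]
    [NoZeroSMulDivisors R Λ] (he : (IsLocalRing.maximalIdeal R).map (algebraMap R Λ) = IsLocalRing.maximalIdeal Λ)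
    [CommRing A] [Algebra R A] [Module.Flat R A] [Algebra.FiniteType R A] [Algebra A Λ] [IsScalarTower R A Λ]
    [(RingHom.ker (algebraMap A Λ)).IsPrime]
    (hq : Algebra.IsSmoothAt R (RingHom.ker (algebraMap A Λ)))
    (hfree : Module.Free Λ (Λ ⊗[A] Ω[A⁄R])) :
    Algebra.IsSmoothAt R ((IsLocalRing.maximalIdeal Λ).comap (algebraMap A Λ)) := by
  classical
  obtain ⟨n, π, hπ⟩ := Algebra.FiniteType.iff_quotient_mvPolynomial''.mp ‹Algebra.FiniteType R A›
  let ρ : MvPolynomial (ULift.{u} (Fin n)) R →ₐ[R] A :=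
    π.comp (MvPolynomial.renameEquiv R Equiv.ulift).toAlgHom
  have hρ : Function.Surjective ρ := hπ.comp (MvPolynomial.renameEquiv R Equiv.ulift).surjective
  let e : (MvPolynomial (ULift.{u} (Fin n)) R ⧸ RingHom.ker ρ) ≃ₐ[R] A :=
    Ideal.quotientKerAlgEquivOfSurjective hρ
  set p := (IsLocalRing.maximalIdeal Λ).comap (algebraMap A Λ)
  set q := RingHom.ker (algebraMap A Λ) with hq'
  have he' : ∀ x, e (Ideal.Quotient.mk (RingHom.ker ρ) x) = ρ x := fun x => rfl
  haveI := hq
  haveI : Algebra.IsSmoothAt R (q.comap (e : (MvPolynomial (ULift.{u} (Fin n)) R ⧸ RingHom.ker ρ) →+* A)) :=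
    _root_.Groth.Agent.CAlgH.SmoothSpecial.isSmoothAt_of_algEquiv e.symm _ q (Ideal.ext fun a => by simp)
  haveI : Algebra.IsSmoothAt R (p.comap (e : (MvPolynomial (ULift.{u} (Fin n)) R ⧸ RingHom.ker ρ) →+* A)) := by
    refine _root_.Groth.Agent.CAlgH.SmoothSpecial.isSmoothAt_quotient_special (RingHom.ker ρ)
      ((algebraMap A Λ).comp ρ.toRingHom) ?_
      (q.comap (e : (MvPolynomial (ULift.{u} (Fin n)) R ⧸ RingHom.ker ρ) →+* A)) ?_ inferInstance _ ?_ ?_
    · intro x hx
      simp [RingHom.mem_ker, RingHom.mem_ker.mp hx]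
    · ext x
      simp [hq', he', RingHom.mem_ker]
    · ext x
      simp [p, he']
    · intro ϖ y hϖ hy
      exact _root_.Groth.Agent.CAlgH.SmoothSpecial.saturated ρ hρ ϖ y hϖ hy
  exact _root_.Groth.Agent.CAlgH.SmoothSpecial.isSmoothAt_of_algEquiv e p _ rfl

end Groth.Agent.S6841
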