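import Groth.Statements.S6843
import Groth.Agent.CAlgH.EtaleApprox
import Groth.Agent.CAlgH.GRingCompletion
import Groth.Agent.CAlgH.WEtRegular
-- import your own Groth.Agent.* helpers here

set_option autoImplicit false
universe u
open Smoothing

namespace Groth.Agent.S6843

/-- Let R be a Noetherian ring, p ⊆ R a prime with R_p a G-ring, (R_p)^ the completion of R_p, and F₁,
…, F_m polynomials in n variables over R with a solution a in (R_p)^. Then for every N there are an
étale R-algebra R', a ring map ψ : R' → (R_p)^ compatible with the maps from R, a prime p' ⊆ R'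
lying over p with κ(p) = κ(p') (every element of R'/p' is a fraction of elements of R/p) and ψ(p') ⊆
p(R_p)^, and a solution b of the system in R' with a_i − ψ(b_i) ∈ p^N (R_p)^. (The source compares a
and b through the identification of (R_p)^ with the completion of R'_{p'}; here the comparison map
is ψ.) -/
theorem result {R : Type u} [CommRing R] [IsNoetherianRing R]
    (p : Ideal R) [p.IsPrime] (hG : CAlg.IsGRing (Localization.AtPrime p)) {n m : ℕ}
    (F : Fin m → MvPolynomial (Fin n) R)
    (a : Fin n → AdicCompletion (IsLocalRing.maximalIdeal (Localization.AtPrime p)) (Localization.AtPrime p))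
    (ha : ∀ j, MvPolynomial.aeval a (MvPolynomial.map (algebraMap R (Localization.AtPrime p)) (F j)) = 0) (N : ℕ) :
    ∃ (R' : Type u) (_ : CommRing R') (_ : Algebra R R'), Algebra.Etale R R' ∧
      ∃ (ψ : R' →+* AdicCompletion (IsLocalRing.maximalIdeal (Localization.AtPrime p)) (Localization.AtPrime p))
        (p' : Ideal R'), p'.IsPrime ∧
        (∀ r : R, ψ (algebraMap R R' r) =
          algebraMap (Localization.AtPrime p) _ (algebraMap R (Localization.AtPrime p) r)) ∧
        p'.comap (algebraMap R R') = p ∧
        (∀ x : R', ∃ r s : R, s ∉ p ∧ algebraMap R R' s * x - algebraMap R R' r ∈ p') ∧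
        (∀ x ∈ p', ψ x ∈ (IsLocalRing.maximalIdeal (Localization.AtPrime p)).map
          (algebraMap (Localization.AtPrime p)
            (AdicCompletion (IsLocalRing.maximalIdeal (Localization.AtPrime p)) (Localization.AtPrime p)))) ∧
        ∃ b : Fin n → R', (∀ j, MvPolynomial.aeval b (F j) = 0) ∧
          ∀ i, a i - ψ (b i) ∈ (IsLocalRing.maximalIdeal (Localization.AtPrime p) ^ N).map
            (algebraMap (Localization.AtPrime p)
              (AdicCompletion (IsLocalRing.maximalIdeal (Localization.AtPrime p)) (Localization.AtPrime p))) := by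
  let Rp := Localization.AtPrime p
  let T := AdicCompletion (IsLocalRing.maximalIdeal Rp) Rp
  haveI : IsNoetherianRing Rp := hG.1
  haveI : IsNoetherianRing T := _root_.Groth.Agent.Matlis6.isNoetherianRing_adicCompletion _
  haveI := _root_.Groth.Agent.CAlgH.EtaleApprox.isAdicComplete_cpl Rp
  haveI : IsScalarTower R Rp T := inferInstance
  have hmT : IsLocalRing.maximalIdeal T = (IsLocalRing.maximalIdeal Rp).map (algebraMap Rp T) :=
    AdicCompletion.maximalIdeal_eq_map
  have hdense : ∀ (j : ℕ) (y : T), ∃ r : R, ∃ s ∈ p.primeCompl,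
      algebraMap R T s * y - algebraMap R T r ∈ IsLocalRing.maximalIdeal T ^ j := by
    intro j y
    obtain ⟨z, hz⟩ := _root_.Groth.Agent.CAlgH.EtaleApprox.exists_sub_mem Rp j y
    obtain ⟨r, s, rfl⟩ := IsLocalization.exists_mk'_eq p.primeCompl z
    refine ⟨r, s, s.2, ?_⟩
    have he : algebraMap R T r = algebraMap R T s * algebraMap Rp T (IsLocalization.mk' Rp r s) := by
      rw [IsScalarTower.algebraMap_apply R Rp T s, ← map_mul, IsLocalization.mk'_spec',
        ← IsScalarTower.algebraMap_apply]
    rw [he, ← mul_sub]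
    exact Ideal.mul_mem_left _ _ hz
  have hunit : ∀ s ∈ p.primeCompl, IsUnit (algebraMap R T s) := fun s hs =>
    (IsLocalization.map_units Rp (⟨s, hs⟩ : p.primeCompl)).map (algebraMap Rp T)
  obtain ⟨R', _, _, hR', ψ, b, hb, hab⟩ := _root_.Groth.Agent.CAlgH.EtaleApprox.exists_etale_solution
    (_root_.Groth.Agent.CAlgH.isRegularHom_localization_comp R Rp T p.primeCompl
      (_root_.Groth.Agent.CAlgH.isRegularHom_adicCompletion_of_isGRing Rp hG (IsLocalRing.maximalIdeal Rp)))
    p.primeCompl hunit hdense F a (fun j => by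
      rw [← MvPolynomial.aeval_map_algebraMap Rp]; exact ha j) N
  have hcomap : ∀ r : R, algebraMap R T r ∈ IsLocalRing.maximalIdeal T ↔ r ∈ p := fun r => by
    constructor
    · exact fun h => by_contra fun hr => h (hunit r hr)
    · intro h
      rw [hmT]
      exact Ideal.mem_map_of_mem _ ((IsLocalization.AtPrime.to_map_mem_maximal_iff Rp p r).2 h)
  refine ⟨R', inferInstance, inferInstance, hR', ψ.toRingHom, (IsLocalRing.maximalIdeal T).comap ψ.toRingHom,
    Ideal.IsPrime.comap _, fun r => ψ.commutes r, ?_, fun x => ?_, fun x hx => ?_, b, hb, fun i => ?_⟩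
  · ext r
    show ψ (algebraMap R R' r) ∈ IsLocalRing.maximalIdeal T ↔ r ∈ p
    rw [ψ.commutes, hcomap]
  · obtain ⟨r, s, hs, hr⟩ := hdense 1 (ψ x)
    rw [pow_one] at hr
    refine ⟨r, s, hs, show ψ (algebraMap R R' s * x - algebraMap R R' r) ∈ IsLocalRing.maximalIdeal T from ?_⟩
    rwa [map_sub, map_mul, ψ.commutes, ψ.commutes]
  · rw [← hmT]
    exact hx
  · rw [Ideal.map_pow, ← hmT]
    exact hab i

end Groth.Agent.S6843
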