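import Groth.Prelude.Def_ModSite
import Groth.Prelude.Def_ModSite2
import Mathlib.Algebra.Category.ModuleCat.Sheaf.Quasicoherent
import Mathlib.RingTheory.RingHom.Flat
import Mathlib.Topology.Sheaves.Stalks
import Groth.Agent.HTop16.SiteStalkSpace

set_option autoImplicit false
universe u
namespace CategoryTheory
end CategoryTheory
namespace CategoryTheory.Limits
end CategoryTheory.Limits
namespace TopologicalSpace
end TopologicalSpace
open CategoryTheory CategoryTheory.Limits TopologicalSpace
namespace ModSite
end ModSite
open ModSite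

namespace Groth.Agent.S6845

/-- Let f : (X, O_X) → (Y, O_Y) be a flat morphism of ringed spaces, i.e. for every x ∈ X the ring map
of stalks O_{Y, f(x)} → O_{X, x} is flat. In this situation, pulling back modules along f gives an
exact functor f^* from Mod(O_Y) to Mod(O_X) (it is a left adjoint, so the content is that it
preserves finite limits). -/
theorem result {X Y : TopCat.{u}} (f : X ⟶ Y) (O_X : TopCat.Sheaf CommRingCat.{u} X)
    (O_Y : TopCat.Sheaf CommRingCat.{u} Y)
    (c : O_Y ⟶ ((TopologicalSpace.Opens.map f).sheafPushforwardContinuous CommRingCat.{u}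
      (Opens.grothendieckTopology Y) (Opens.grothendieckTopology X)).obj O_X)
    (hflat : ∀ x : X, ((TopCat.Presheaf.stalkFunctor CommRingCat.{u} (f x)).map
        (show O_Y.presheaf ⟶ (TopCat.Presheaf.pushforward CommRingCat.{u} f).obj O_X.presheaf from c.hom) ≫
      TopCat.Presheaf.stalkPushforward CommRingCat.{u} f O_X.presheaf x).hom.Flat) :
    ModSite.RMor.IsFlat (ModSite.RMor.ofFlat (TopologicalSpace.Opens.map f) c) := by
  haveI : (ModSite.RMor.ofFlat (TopologicalSpace.Opens.map f) c).pull.PreservesMonomorphisms := ⟨fun {M N} g _ => by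
    refine Groth.Agent.HTop16.SiteStalk.mono_of_stalks
      (Opens.isConservativeFamilyOfPoints_pointsGrothendieckTopology X) _ ?_
    rintro ⟨_, ⟨x⟩⟩
    let φ := (ModSite.RMor.ofFlat (TopologicalSpace.Opens.map f) c)
    let r := Groth.Agent.HTop16.SiteStalk.stalkRingMap φ (Opens.pointGrothendieckTopology x)
      (Opens.pointGrothendieckTopology (f x)) (Groth.Agent.HTop16.SiteStalk.opensPointIso f x)
    have hr : r.hom.Flat := by
      have hb := Groth.Agent.HTop16.SiteStalk.bijective_spaceStalkMap O_X x
      let θ := RingEquiv.ofBijective _ hb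
      let s := ((TopCat.Presheaf.stalkFunctor CommRingCat.{u} (f x)).map
        (show O_Y.presheaf ⟶ (TopCat.Presheaf.pushforward CommRingCat.{u} f).obj O_X.presheaf from c.hom) ≫
        TopCat.Presheaf.stalkPushforward CommRingCat.{u} f O_X.presheaf x)
      have h1 : r.hom = θ.symm.toRingHom.comp
          (RingHom.comp s.hom (Groth.Agent.HTop16.SiteStalk.spaceStalkMap O_Y (f x)).hom) := by
        refine RingHom.ext fun a => ?_
        refine θ.injective ?_
        refine Eq.trans ?_ (θ.apply_symm_apply _).symm
        exact congrArg (fun k => k.hom a) (Groth.Agent.HTop16.SiteStalk.spaceStalkMap_comp O_X x f O_Y c)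
      rw [h1]
      exact RingHom.Flat.comp (RingHom.Flat.comp
        (RingHom.Flat.of_bijective (Groth.Agent.HTop16.SiteStalk.bijective_spaceStalkMap O_Y (f x))) (hflat x))
        (RingHom.Flat.of_bijective θ.symm.bijective)
    haveI := Groth.Agent.HTop16.SiteStalk.preservesMonomorphisms_extendScalars r.hom hr
    have e := Groth.Agent.HTop16.SiteStalk.pullStalkIso φ (Opens.pointGrothendieckTopology x)
      (Opens.pointGrothendieckTopology (f x)) (Groth.Agent.HTop16.SiteStalk.opensPointIso f x)
    haveI : Mono ((Groth.Agent.HTop16.SiteStalk.stalkM (Opens.pointGrothendieckTopology (f x)) ⋙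
      ModuleCat.extendScalars r.hom).map g) := inferInstance
    show Mono ((φ.pull ⋙ Groth.Agent.HTop16.SiteStalk.stalkM (Opens.pointGrothendieckTopology x)).map g)
    rw [← NatIso.naturality_2 e g]
    infer_instance⟩
  haveI : (ModSite.RMor.ofFlat (TopologicalSpace.Opens.map f) c).pull.IsLeftAdjoint :=
    (ModSite.RMor.ofFlat (TopologicalSpace.Opens.map f) c).adj.isLeftAdjoint
  haveI : (ModSite.RMor.ofFlat (TopologicalSpace.Opens.map f) c).pull.Additive :=
    (ModSite.RMor.ofFlat (TopologicalSpace.Opens.map f) c).adj.left_adjoint_additive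
  haveI := Functor.preservesHomology_of_preservesMonos_and_cokernels
    (ModSite.RMor.ofFlat (TopologicalSpace.Opens.map f) c).pull
  exact Functor.preservesFiniteLimits_of_preservesHomology _

end Groth.Agent.S6845
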