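import Groth.Prelude.Def_ModSite
import Mathlib.Algebra.Category.ModuleCat.Sheaf.Quasicoherent
import Mathlib.RingTheory.LocalRing.Basic
import Mathlib.Topology.Sheaves.Stalks
import Groth.Agent.HTop16.LocPresOps

set_option autoImplicit false
universe u
namespace CategoryTheory
end CategoryTheory
namespace CategoryTheory.Limits
end CategoryTheory.Limits
namespace TopologicalSpace
end TopologicalSpace
open CategoryTheory CategoryTheory.Limits TopologicalSpace
namespace ModSite
end ModSite
open ModSite

namespace Groth.Agent.S6849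

/-- Let (X, O) be a ringed space all of whose stalks O_{X,x} are local rings, H a finite locally free
O-module (every point has an open neighbourhood U with H|_U ≅ O_U^n, the free O_U-module on n
generators, for some n) and F a direct summand of H (maps F → H → F composing to the identity). Then
F is finite locally free. -/
theorem result {X : TopCat.{u}}
    (O : TopCat.Sheaf CommRingCat.{u} X) (hO : ∀ x : X, IsLocalRing (O.presheaf.stalk x)) {F H : ModSite.Mod O}
    (hH : ∀ x : X, ∃ (U : Opens X) (n : ℕ), x ∈ U ∧
      Nonempty ((ModSite.restr O U).obj H ≅ SheafOfModules.free (ULift.{u} (Fin n))))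
    (i : F ⟶ H) (p : H ⟶ F) (hip : i ≫ p = 𝟙 F) (x : X) :
    ∃ (U : Opens X) (n : ℕ), x ∈ U ∧
      Nonempty ((ModSite.restr O U).obj F ≅ SheafOfModules.free (ULift.{u} (Fin n))) := by
  haveI : IsLocalRing (Groth.Agent.HTop16.LocGen.Rx O x) :=
    haveI := hO x
    (RingEquiv.ofBijective (Groth.Agent.HTop16.SiteStalk.spaceStalkMap O x).hom
      (Groth.Agent.HTop16.SiteStalk.bijective_spaceStalkMap O x)).symm.isLocalRing
  obtain ⟨U, n, hxU, ⟨e⟩⟩ := hH x
  obtain ⟨s, hs⟩ := Groth.Agent.HTop16.LocGen.exists_basisOn_of_iso e
  exact Groth.Agent.HTop16.LocGen.exists_iso_free_retract i p hip hs x hxU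

end Groth.Agent.S6849
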