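import Groth.Prelude.Def_ModSite
import Mathlib.Algebra.Category.ModuleCat.Sheaf.Quasicoherent
import Groth.Agent.HTop16.PullTensor
import Groth.Agent.HTop16.ModInvertible
import Mathlib.Algebra.Category.ModuleCat.Sheaf.PullbackFree
import Mathlib.CategoryTheory.Functor.Flat

set_option autoImplicit false
universe u
namespace CategoryTheory
end CategoryTheory
namespace CategoryTheory.Limits
end CategoryTheory.Limits
namespace TopologicalSpace
end TopologicalSpace
open CategoryTheory CategoryTheory.Limits TopologicalSpace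
namespace ModSite
end ModSite
open ModSite

namespace Groth.Agent.S6853

/-- Let f : (X, O_X) → (Y, O_Y) be a morphism of ringed spaces and L an invertible O_Y-module, i.e. N ↦
L ⊗ N is an equivalence of Mod(O_Y). Then f^*L is an invertible O_X-module: M ↦ f^*L ⊗ M is an
equivalence of Mod(O_X). -/
theorem result {X Y : TopCat.{u}} (f : X ⟶ Y) (O_X : TopCat.Sheaf CommRingCat.{u} X)
    (O_Y : TopCat.Sheaf CommRingCat.{u} Y)
    (c : O_Y ⟶ ((TopologicalSpace.Opens.map f).sheafPushforwardContinuous CommRingCat.{u}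
      (Opens.grothendieckTopology Y) (Opens.grothendieckTopology X)).obj O_X)
    (L : ModSite.Mod O_Y) (hL : ((ModSite.tensorBi O_Y).obj L).IsEquivalence) :
    ((ModSite.tensorBi O_X).obj ((ModSite.RMor.ofFlat (TopologicalSpace.Opens.map f) c).pull.obj L)).IsEquivalence := by
  obtain ⟨N, ⟨e⟩⟩ := Groth.Agent.HTop16.ModInvertible.exists_iso_of_isEquivalence hL
  let φ := ModSite.RMor.ofFlat (TopologicalSpace.Opens.map f) c
  haveI : IsFiltered (TopologicalSpace.Opens Y) := CategoryTheory.isFiltered_of_directed_le_nonempty _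
  haveI : (TopologicalSpace.Opens.map f).Final := Functor.final_of_exists_of_isFiltered _
    (fun d => ⟨⊤, ⟨homOfLE (fun x _ => trivial)⟩⟩)
    (fun {d c} s s' => ⟨c, 𝟙 c, Subsingleton.elim _ _⟩)
  haveI : φ.fn.Final := (inferInstance : (TopologicalSpace.Opens.map f).Final)
  exact Groth.Agent.HTop16.ModInvertible.isEquivalence_of_iso (N := φ.pull.obj N)
    ((Groth.Agent.HTop16.PullTensor.pullTensorIso φ L N).symm ≪≫ φ.pull.mapIso e ≪≫
      asIso (SheafOfModules.pullbackObjUnitToUnit φ.sharpR))

end Groth.Agent.S6853
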