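import Groth.Statements.S6855


set_option autoImplicit false
universe u
open CategoryTheory CategoryTheory.Limits TopologicalSpace
open ModSite

set_option backward.isDefEq.respectTransparency.types false
set_option backward.isDefEq.respectTransparency false

namespace Groth.Agent.S6855


/-- Let X be a topological space and O a sheaf of rings on X. Then the support of O, the set of points x
with nonzero stalk O_x, is closed in X. -/
theorem result {X : TopCat.{u}} (O : TopCat.Sheaf CommRingCat.{u} X) :
    IsClosed {x : X | Nontrivial (O.presheaf.stalk x)} := by
  rw [← isOpen_compl_iff, isOpen_iff_forall_mem_open]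
  intro x hx
  haveI : Subsingleton (O.presheaf.stalk x) := not_nontrivial_iff_subsingleton.1 hx
  obtain ⟨W, hxW, i₁, i₂, h⟩ := TopCat.Presheaf.germ_eq O.presheaf (U := (⊤ : TopologicalSpace.Opens X))
    (V := ⊤) x trivial trivial 1 0 (Subsingleton.elim _ _)
  rw [map_one, map_zero] at h
  refine ⟨W, fun y hy => not_nontrivial_iff_subsingleton.2 (subsingleton_iff_zero_eq_one.1 ?_), W.2, hxW⟩
  have := congrArg (O.presheaf.germ W y hy) h
  rw [map_one, map_zero] at this
  exact this.symm

end Groth.Agent.S6855
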