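import Groth.Prelude.Def_ModSite
import Mathlib.Algebra.Category.ModuleCat.Sheaf.Quasicoherent
import Groth.Agent.HTop16.ModInvertible

set_option autoImplicit false
universe u
namespace CategoryTheory
end CategoryTheory
namespace CategoryTheory.Limits
end CategoryTheory.Limits
namespace TopologicalSpace
end TopologicalSpace
open CategoryTheory CategoryTheory.Limits TopologicalSpace
namespace ModSite
end ModSite
open ModSite

namespace Groth.Agent.S6856

/-- On a ringed space (X, O), (1) if L and N are invertible O-modules (tensoring with each is an
equivalence of Mod(O)) then L ⊗_O N is invertible; (2) if L is invertible then Hom_O(L, O) is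
invertible and the evaluation map Hom_O(L, O) ⊗_O L → O, the counit of the adjunction between − ⊗ L
and Hom_O(L, −) at O, is an isomorphism. -/
theorem result {X : TopCat.{u}} (O : TopCat.Sheaf CommRingCat.{u} X)
    (L N : ModSite.Mod O) (hL : ((ModSite.tensorBi O).obj L).IsEquivalence) [ModSite.HasSheafHom L] :
    (((ModSite.tensorBi O).obj N).IsEquivalence →
        ((ModSite.tensorBi O).obj (((ModSite.tensorBi O).obj L).obj N)).IsEquivalence) ∧
      ((ModSite.tensorBi O).obj ((ModSite.sheafHom L).obj (ModSite.unit O))).IsEquivalence ∧
      IsIso ((ModSite.sheafHomAdj L).counit.app (ModSite.unit O)) := by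
  haveI := hL
  have hflip : ((ModSite.tensorBi O).flip.obj L).IsEquivalence :=
    Functor.isEquivalence_of_iso (Groth.Agent.SiteTen.tenFlipIso L).symm
  haveI := hflip
  haveI hsh : (ModSite.sheafHom L).IsEquivalence := (ModSite.sheafHomAdj L).isEquivalence_right_of_isEquivalence_left
  refine ⟨fun hN => ?_, ?_, inferInstance⟩
  · haveI := hN
    exact Functor.isEquivalence_of_iso (Groth.Agent.HTop16.ModInvertible.assocNatIso L N).symm
  · haveI : IsIso ((ModSite.sheafHomAdj L).counit.app (ModSite.unit O)) := inferInstance
    exact Groth.Agent.HTop16.ModInvertible.isEquivalence_of_iso (N := L)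
      (asIso ((ModSite.sheafHomAdj L).counit.app (ModSite.unit O)))

end Groth.Agent.S6856
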