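import Groth.Prelude.Def_CohTop
import Mathlib.Topology.Maps.Basic
import Mathlib.CategoryTheory.Limits.Preserves.Finite
import Groth.Agent.ShSp.EmbAb

set_option autoImplicit false
universe u
namespace CategoryTheory
end CategoryTheory
namespace CategoryTheory.Limits
end CategoryTheory.Limits
namespace TopologicalSpace
end TopologicalSpace
open CategoryTheory CategoryTheory.Limits TopologicalSpace
namespace CohTop
end CohTop
open CohTop

namespace Groth.Agent.S6857

/-- Let i : Z → X be the inclusion of a closed subset of a topological space (a closed embedding). Then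
i_* : Ab(Z) → Ab(X) is exact (right exactness being the content, i_* is a right adjoint) and fully
faithful, an abelian sheaf on X lies in its essential image exactly when its stalks at points
outside i(Z) are zero (support contained in Z), and i⁻¹ ∘ i_* is isomorphic to the identity functor
(existence of an isomorphism of functors is asserted). -/
theorem result {Z X : TopCat.{u}} (i : Z ⟶ X)
    (hi : Topology.IsClosedEmbedding i) :
    PreservesFiniteColimits (CohTop.push i) ∧ (CohTop.push i).Full ∧ (CohTop.push i).Faithful ∧
      (∀ F : CohTop.Ab X, (CohTop.push i).essImage F ↔ ∀ x : X, x ∉ Set.range i → IsZero (CohTop.stalk F x)) ∧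
      Nonempty (CohTop.push i ⋙ CohTop.pull i ≅ 𝟭 (CohTop.Ab Z)) := by
  have := Groth.Agent.ShSp.EmbAb.isIso_counit i hi.isInducing
  have : IsIso (Groth.Agent.ShSp.EmbAb.adj i).counit := NatIso.isIso_of_isIso_app _
  exact ⟨Groth.Agent.ShSp.EmbAb.preservesFiniteColimits_push i hi, (Groth.Agent.ShSp.EmbAb.fullyFaithful i hi.isInducing).1,
    (Groth.Agent.ShSp.EmbAb.fullyFaithful i hi.isInducing).2, Groth.Agent.ShSp.EmbAb.essImage_iff i hi,
    ⟨asIso (Groth.Agent.ShSp.EmbAb.adj i).counit⟩⟩

end Groth.Agent.S6857
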