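import Groth.Prelude.Def_ModSite
import Mathlib.Algebra.Category.ModuleCat.Sheaf.Quasicoherent
import Mathlib.Algebra.Category.ModuleCat.Sheaf.LocallyFree
import Mathlib.Topology.LocallyConstant.Basic
import Mathlib.SetTheory.Cardinal.Finite
import Mathlib.Topology.Sheaves.Stalks
import Groth.Agent.HTop16.LocGenProps

set_option autoImplicit false
universe u
namespace CategoryTheory
end CategoryTheory
namespace CategoryTheory.Limits
end CategoryTheory.Limits
namespace TopologicalSpace
end TopologicalSpace
open CategoryTheory CategoryTheory.Limits TopologicalSpace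
namespace ModSite
end ModSite
open ModSite

namespace Groth.Agent.S6858

/-- Let (X, O) be a ringed space all of whose stalks O_{X,x} are nonzero rings and F a locally free
O-module. Then there is a locally constant function rank_F : X → ℕ ∪ {∞} such that for every point
x, every open neighbourhood U of x and every index set I with F|_U ≅ ⊕_{i ∈ I} O_U, the cardinality
of I (a natural number or ∞) is rank_F(x). -/
theorem result {X : TopCat.{u}} (O : TopCat.Sheaf CommRingCat.{u} X)
    (hO : ∀ x : X, Nontrivial (O.presheaf.stalk x)) (F : ModSite.Mod O)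
    [SheafOfModules.IsLocallyFree (R := ModSite.ringSh O) F] :
    ∃ rk : X → ℕ∞, IsLocallyConstant rk ∧
      ∀ (x : X) (U : Opens X) (I : Type u), x ∈ U →
        Nonempty ((ModSite.restr O U).obj F ≅ SheafOfModules.free I) → ENat.card I = rk x := by
  obtain ⟨q, hq⟩ := SheafOfModules.IsLocallyFree.exists_isLocallyFreeData (M := F)
  have hnt : ∀ x : X, Nontrivial (Groth.Agent.HTop16.LocGen.Rx O x) := fun x =>
    letI := hO x
    Function.Surjective.nontrivial
      (Groth.Agent.HTop16.SiteStalk.bijective_spaceStalkMap O x).2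
  have hcov : ∀ x : X, ∃ i, x ∈ q.X i := fun x => by
    obtain ⟨W, g, ⟨i, ⟨k⟩⟩, hxW⟩ := q.coversTop ⊤ x trivial
    exact ⟨i, leOfHom k hxW⟩
  choose i hi using hcov
  let e : ∀ j, (ModSite.restr O (q.X j)).obj F ≅
      SheafOfModules.free (R := ModSite.ringSh (O.over (q.X j))) (q.generators j).I := fun j =>
    haveI := hq.isIso j
    (asIso (q.generators j).π).symm
  have key : ∀ (j : q.I) (y : X), y ∈ q.X j → ∀ (U : TopologicalSpace.Opens X) (I : Type u), y ∈ U →
      Nonempty ((ModSite.restr O U).obj F ≅ SheafOfModules.free I) →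
      ENat.card I = ENat.card (q.generators j).I := fun j y hy U I hyU ⟨f⟩ => by
    obtain ⟨s, hs⟩ := Groth.Agent.HTop16.LocGen.exists_basisOn_of_iso f
    obtain ⟨t, ht⟩ := Groth.Agent.HTop16.LocGen.exists_basisOn_of_iso (e j)
    haveI := hnt y
    exact Groth.Agent.HTop16.LocGen.card_eq_of_basis y hyU hy hs ht
  refine ⟨fun x => ENat.card (q.generators (i x)).I, ?_,
    fun x U I hxU h => key (i x) x (hi x) U I hxU h⟩
  rw [IsLocallyConstant.iff_exists_open]
  exact fun x => ⟨(q.X (i x) : Set X), (q.X (i x)).2, hi x,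
    fun y hy => key (i x) y hy _ _ (hi y) ⟨e (i y)⟩⟩

end Groth.Agent.S6858
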