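import Groth.Prelude.Def_ModSite
import Mathlib.Algebra.Category.ModuleCat.Sheaf.Quasicoherent
import Mathlib.RingTheory.Flat.Basic
import Mathlib.CategoryTheory.Limits.Preserves.Finite
import Groth.Prelude.Def_ModSite2
import Mathlib.Topology.Sheaves.Points
import Groth.Agent.HTop16.SiteStalkSpace
import Groth.Agent.HTop16.SiteStalkTensor
import Groth.Agent.HTop16.SiteStalkInv
import Groth.Agent.SiteTen.Flat
import Mathlib.LinearAlgebra.TensorProduct.Tower
import Mathlib.Algebra.Algebra.RestrictScalars

set_option autoImplicit false
universe u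
namespace CategoryTheory
end CategoryTheory
namespace CategoryTheory.Limits
end CategoryTheory.Limits
namespace TopologicalSpace
end TopologicalSpace
open CategoryTheory CategoryTheory.Limits TopologicalSpace
namespace ModSite
end ModSite
open ModSite

namespace Groth.Agent.S6859

set_option linter.all false
open MonoidalCategory Groth.Agent.HTop16.SiteStalk
open scoped TensorProduct

/-- Tensoring an extension of scalars with a module flat over the base preserves monomorphisms. -/
lemma mono_whisker_extendScalars {R S : Type u} [CommRing R] [CommRing S] (r : R →+* S) (N : ModuleCat.{u} S)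
    (hN : @Module.Flat R N _ _ (Module.compHom N r)) {M M' : ModuleCat.{u} R} (g : M ⟶ M') [Mono g] :
    Mono ((ModuleCat.extendScalars r).map g ▷ N) := by
  letI := r.toAlgebra
  letI : Module R N := Module.compHom N r
  haveI : IsScalarTower R S N := IsScalarTower.of_compHom R S N
  haveI : Module.Flat R N := hN
  rw [ModuleCat.mono_iff_injective]
  have hg : Function.Injective g.hom := (ModuleCat.mono_iff_injective g).1 inferInstance
  show Function.Injective (LinearMap.rTensor N (g.hom.baseChange S))
  refine (LinearMap.lTensor_inj_iff_rTensor_inj _ _).1 ?_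
  have h : ∀ z, TensorProduct.AlgebraTensorModule.cancelBaseChange R S S N M'
      (LinearMap.lTensor N (g.hom.baseChange S) z) =
      LinearMap.lTensor N g.hom (TensorProduct.AlgebraTensorModule.cancelBaseChange R S S N M z) := by
    intro z
    induction z using TensorProduct.induction_on with
    | zero => simp
    | tmul n w =>
      induction w using TensorProduct.induction_on with
      | zero => simp
      | tmul a m => simp
      | add a b ha hb => simp only [TensorProduct.tmul_add, map_add, ha, hb]
    | add a b ha hb => simp only [map_add, ha, hb]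
  intro a b hab
  refine (TensorProduct.AlgebraTensorModule.cancelBaseChange R S S N M).injective ?_
  refine Module.Flat.lTensor_preserves_injective_linearMap g.hom hg ?_
  rw [← h, ← h, hab]

/-- The stalk of `f^*g ⊗ F` is injective. -/
lemma mono_stalk {C D : Type u} [SmallCategory C] [SmallCategory D] {J : GrothendieckTopology C}
    {K : GrothendieckTopology D} {O_C : Sheaf J CommRingCat.{u}} {O_D : Sheaf K CommRingCat.{u}}
    (φ : ModSite.RMor O_C O_D) (p : GrothendieckTopology.Point.{u} J) (q : GrothendieckTopology.Point.{u} K)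
    (e : q.fiber ≅ φ.fn ⋙ p.fiber) (F : ModSite.Mod O_C)
    (hF : @Module.Flat (ModSite.stalkRing p φ.invRing) (ModSite.stalkAb p F) _ _
      (Module.compHom (ModSite.stalkAb p F) ((p.sheafFiber (A := CommRingCat.{u})).map φ.invSharp).hom))
    {M M' : ModSite.Mod O_D} (g : M ⟶ M') [Mono g] :
    Mono ((stalkM p).map ((φ.pull ⋙ (ModSite.tensorBi O_C).flip.obj F).map g)) := by
  have hflat : @Module.Flat (ModSite.stalkRing q O_D) (ModSite.stalkAb p F) _ _
      (Module.compHom (ModSite.stalkAb p F) (stalkRingMap φ p q e).hom) := by
    haveI := isIso_invStalkMap φ p q e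
    let θ := (asIso (invStalkMap φ p q e)).commRingCatIsoToRingEquiv
    letI := θ.toRingHom.toAlgebra
    letI : Module (ModSite.stalkRing p φ.invRing) (ModSite.stalkAb p F) :=
      Module.compHom (ModSite.stalkAb p F) ((p.sheafFiber (A := CommRingCat.{u})).map φ.invSharp).hom
    letI : Module (ModSite.stalkRing q O_D) (ModSite.stalkAb p F) :=
      Module.compHom (ModSite.stalkAb p F) (stalkRingMap φ p q e).hom
    haveI : IsScalarTower (ModSite.stalkRing q O_D) (ModSite.stalkRing p φ.invRing) (ModSite.stalkAb p F) := by
      refine IsScalarTower.of_algebraMap_smul fun a m => ?_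
      show ((p.sheafFiber (A := CommRingCat.{u})).map φ.invSharp).hom ((invStalkMap φ p q e).hom a) • m =
        (stalkRingMap φ p q e).hom a • m
      rw [← invStalkMap_comp φ p q e]
      rfl
    haveI : Module.Flat (ModSite.stalkRing q O_D) (ModSite.stalkRing p φ.invRing) :=
      RingHom.Flat.of_bijective (f := θ.toRingHom) θ.bijective
    haveI : Module.Flat (ModSite.stalkRing p φ.invRing) (ModSite.stalkAb p F) := hF
    exact Module.Flat.trans (ModSite.stalkRing q O_D) (ModSite.stalkRing p φ.invRing) (ModSite.stalkAb p F)
  haveI : Mono ((stalkM q).map g) := inferInstance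
  have hm : Mono ((stalkM q ⋙ ModuleCat.extendScalars (stalkRingMap φ p q e).hom).map g ▷ (stalkM p).obj F) :=
    mono_whisker_extendScalars (stalkRingMap φ p q e).hom ((stalkM p).obj F) hflat ((stalkM q).map g)
  have h2 : Mono ((φ.pull ⋙ stalkM p).map g ▷ (stalkM p).obj F) := by
    rw [← NatIso.naturality_2 (pullStalkIso φ p q e) g, comp_whiskerRight, comp_whiskerRight]
    infer_instance
  have hn : (stalkM p).map ((φ.pull ⋙ (ModSite.tensorBi O_C).flip.obj F).map g) =
      (stalkTensorIso p (φ.pull.obj M) F).hom ≫ ((φ.pull ⋙ stalkM p).map g ▷ (stalkM p).obj F) ≫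
        (stalkTensorIso p (φ.pull.obj M') F).inv := by
    rw [← Category.assoc, Iso.eq_comp_inv]
    exact stalkTensorIso_natural_left p (φ.pull.map g) F
  rw [hn]
  infer_instance

/-- Let f : (X, O_X) → (Y, O_Y) be a morphism of ringed spaces and F an O_X-module flat over Y, i.e. for
every x ∈ X the stalk F_x is a flat O_{Y, f(x)}-module through the ring map O_{Y, f(x)} → O_{X, x}.
Then the functor Mod(O_Y) → Mod(O_X), G ↦ f^*G ⊗_{O_X} F, is exact (preserves finite limits and
finite colimits). Here stalks are taken at the point of the site of opens of X given by x, and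
flatness over O_{Y, f(x)} is written over the stalk at x of the pulled-back sheaf of rings f⁻¹O_Y,
which is O_{Y, f(x)}, through the stalk at x of the ring map f⁻¹O_Y → O_X adjoint to O_Y → f_*O_X,
which is the stalk map O_{Y, f(x)} → O_{X, x}. -/
theorem result {X Y : TopCat.{u}} (f : X ⟶ Y) (O_X : TopCat.Sheaf CommRingCat.{u} X)
    (O_Y : TopCat.Sheaf CommRingCat.{u} Y)
    (c : O_Y ⟶ ((TopologicalSpace.Opens.map f).sheafPushforwardContinuous CommRingCat.{u}
      (Opens.grothendieckTopology Y) (Opens.grothendieckTopology X)).obj O_X)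
    (F : ModSite.Mod O_X)
    (hF : ∀ x : X, @Module.Flat
      (ModSite.stalkRing (Opens.pointGrothendieckTopology x)
        (ModSite.RMor.ofFlat (TopologicalSpace.Opens.map f) c).invRing)
      (ModSite.stalkAb (Opens.pointGrothendieckTopology x) F) _ _
      (Module.compHom (ModSite.stalkAb (Opens.pointGrothendieckTopology x) F)
        (((Opens.pointGrothendieckTopology x).sheafFiber (A := CommRingCat.{u})).map
          (ModSite.RMor.ofFlat (TopologicalSpace.Opens.map f) c).invSharp).hom)) :
    PreservesFiniteLimits ((ModSite.RMor.ofFlat (TopologicalSpace.Opens.map f) c).pull ⋙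
        (ModSite.tensorBi O_X).flip.obj F) ∧
      PreservesFiniteColimits ((ModSite.RMor.ofFlat (TopologicalSpace.Opens.map f) c).pull ⋙
        (ModSite.tensorBi O_X).flip.obj F) := by
  let φ := (ModSite.RMor.ofFlat (TopologicalSpace.Opens.map f) c)
  haveI : φ.pull.IsLeftAdjoint := φ.adj.isLeftAdjoint
  haveI : φ.pull.Additive := φ.adj.left_adjoint_additive
  haveI : PreservesFiniteColimits (φ.pull ⋙ (ModSite.tensorBi O_X).flip.obj F) := inferInstance
  refine ⟨?_, inferInstance⟩
  haveI : (φ.pull ⋙ (ModSite.tensorBi O_X).flip.obj F).PreservesMonomorphisms := ⟨fun {M M'} g _ => by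
    refine Groth.Agent.HTop16.SiteStalk.mono_of_stalks
      (Opens.isConservativeFamilyOfPoints_pointsGrothendieckTopology X) _ ?_
    rintro ⟨_, ⟨x⟩⟩
    exact mono_stalk φ (Opens.pointGrothendieckTopology x) (Opens.pointGrothendieckTopology (f x))
      (Groth.Agent.HTop16.SiteStalk.opensPointIso f x) F (hF x) g⟩
  haveI := Functor.preservesHomology_of_preservesMonos_and_cokernels
    (φ.pull ⋙ (ModSite.tensorBi O_X).flip.obj F)
  exact Functor.preservesFiniteLimits_of_preservesHomology _

end Groth.Agent.S6859
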