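import Groth.Statements.S6861
import Groth.Agent.CAlgH.NeronBlowupSmooth

set_option autoImplicit false
universe u
open Smoothing

namespace Groth.Agent.S6861

/-- Let R ⊆ Λ be an extension of discrete valuation rings of ramification index 1 (m_R Λ = m_Λ) whose
residue field extension is separable (geometrically reduced), π a uniformizer of R, A a flat
R-algebra of finite type with an R-algebra map A → Λ, and 𝔭 ⊆ A the inverse image of m_Λ. Assume R →
A is smooth at 𝔭. Let A' = A[𝔭/π] ⊆ A_π be the affine blowup algebra (Néron's blowup) and A' → Λ the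
induced map, i.e. the A-algebra map compatible with A_π → Λ_π (it exists and is unique; it is taken
as a datum here). Then R → A' is smooth at the inverse image 𝔭' of m_Λ in A'. (The source also gives
a short exact sequence relating the differentials of A and A' at 𝔭'; that part is not restated.) -/
theorem result {R Λ A : Type u} [CommRing R] [IsDomain R]
    [IsDiscreteValuationRing R] [CommRing Λ] [IsDomain Λ] [IsDiscreteValuationRing Λ] [Algebra R Λ]
    [NoZeroSMulDivisors R Λ] [IsLocalHom (algebraMap R Λ)]
    (he : (IsLocalRing.maximalIdeal R).map (algebraMap R Λ) = IsLocalRing.maximalIdeal Λ)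
    (hsep : Algebra.IsGeometricallyReduced (IsLocalRing.ResidueField R) (IsLocalRing.ResidueField Λ))
    [CommRing A] [Algebra R A] [Module.Flat R A] [Algebra.FiniteType R A] [Algebra A Λ] [IsScalarTower R A Λ]
    (π : R) (hπ : IsLocalRing.maximalIdeal R = Ideal.span {π})
    (hsm : Algebra.IsSmoothAt R ((IsLocalRing.maximalIdeal Λ).comap (algebraMap A Λ)))
    (φ' : BlowUp.affineAlgebra A ((IsLocalRing.maximalIdeal Λ).comap (algebraMap A Λ)) (algebraMap R A π) →ₐ[A] Λ)
    (hφ' : ∀ a' : BlowUp.affineAlgebra A ((IsLocalRing.maximalIdeal Λ).comap (algebraMap A Λ)) (algebraMap R A π),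
      algebraMap Λ (Localization.Away (algebraMap A Λ (algebraMap R A π))) (φ' a') =
        Localization.awayMap (algebraMap A Λ) (algebraMap R A π) a'.val) :
    Algebra.IsSmoothAt R ((IsLocalRing.maximalIdeal Λ).comap φ'.toRingHom) := by
  let p : Ideal A := (IsLocalRing.maximalIdeal Λ).comap (algebraMap A Λ)
  haveI : IsNoetherianRing A := Algebra.FiniteType.isNoetherianRing R A
  have hπR : π ∈ IsLocalRing.maximalIdeal R := hπ ▸ Ideal.mem_span_singleton_self π
  have hπp : algebraMap R A π ∈ p := by
    show algebraMap A Λ (algebraMap R A π) ∈ IsLocalRing.maximalIdeal Λ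
    rw [← IsScalarTower.algebraMap_apply]
    exact fun h => hπR (isUnit_of_map_unit (algebraMap R Λ) π h)
  have hπ0 : π ∈ nonZeroDivisors R := by
    refine mem_nonZeroDivisors_of_ne_zero fun h => ?_
    subst h
    exact IsDiscreteValuationRing.not_a_field R (hπ.trans (Ideal.span_singleton_eq_bot.2 rfl))
  let ι : p.ResidueField →+* IsLocalRing.ResidueField Λ := Ideal.ResidueField.lift p
    ((IsLocalRing.residue Λ).comp (algebraMap A Λ))
    (fun y hy => by
      show IsLocalRing.residue Λ (algebraMap A Λ y) = 0
      exact (IsLocalRing.residue_eq_zero_iff _).2 hy)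
    (fun y hy => by
      show IsUnit (IsLocalRing.residue Λ (algebraMap A Λ y))
      refine IsUnit.map _ ?_
      exact not_not.1 hy)
  have hι : ∀ r : R, ι (algebraMap R p.ResidueField r) =
      algebraMap (IsLocalRing.ResidueField R) (IsLocalRing.ResidueField Λ) (IsLocalRing.residue R r) := fun r => by
    rw [IsScalarTower.algebraMap_apply R A p.ResidueField, Ideal.ResidueField.lift_algebraMap, RingHom.comp_apply,
      ← IsScalarTower.algebraMap_apply]
    rfl
  obtain ⟨κ, _, x, hx, hli, hgen⟩ :=
    _root_.Groth.Agent.CAlgH.NeronBlowupParams.exists_params p π hπ hπp ι hι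
  haveI : Algebra.IsSmoothAt R p := hsm
  exact _root_.Groth.Agent.CAlgH.NeronBlowupSmooth.isSmoothAt_chart p π x hπp hπ0 hx hli hgen _
    ((Ideal.comap_comap _ _).trans (congrArg (fun f => Ideal.comap f (IsLocalRing.maximalIdeal Λ)) φ'.comp_algebraMap))

end Groth.Agent.S6861
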