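import Mathlib.Algebra.Module.StablyFree.Basic
import Mathlib.Algebra.Exact.Basic
import Mathlib

set_option autoImplicit false
universe u
namespace CAlg
end CAlg
open CAlg

namespace Groth.Agent.S6862

/-- Let `R` be a commutative ring and `P'`, `P`, `P''` finitely generated projective `R`-modules in an
exact sequence `0 → P' → P → P'' → 0`. Whenever two of the three are stably free, the remaining one
is stably free too (all three cases are stated). -/
theorem result {R : Type u} [CommRing R] {P' P P'' : Type u}
    [AddCommGroup P'] [Module R P'] [Module.Finite R P'] [Module.Projective R P']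
    [AddCommGroup P] [Module R P] [Module.Finite R P] [Module.Projective R P]
    [AddCommGroup P''] [Module R P''] [Module.Finite R P''] [Module.Projective R P'']
    (f : P' →ₗ[R] P) (g : P →ₗ[R] P'') (hf : Function.Injective f) (hg : Function.Surjective g)
    (hfg : Function.Exact f g) :
    (Module.IsStablyFree R P' → Module.IsStablyFree R P → Module.IsStablyFree R P'') ∧
    (Module.IsStablyFree R P' → Module.IsStablyFree R P'' → Module.IsStablyFree R P) ∧
    (Module.IsStablyFree R P → Module.IsStablyFree R P'' → Module.IsStablyFree R P') := by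
  obtain ⟨s, hs⟩ := Module.projective_lifting_property g LinearMap.id hg
  have hgs : ∀ z, g (s z) = z := fun z => LinearMap.congr_fun hs z
  have hgf : ∀ z, g (f z) = 0 := fun z => (hfg _).2 ⟨z, rfl⟩
  let e : (P' × P'') ≃ₗ[R] P := LinearEquiv.ofBijective (f.coprod s) ⟨by
      rw [injective_iff_map_eq_zero]
      rintro ⟨a, b⟩ h
      have h' : f a + s b = 0 := h
      obtain rfl : b = 0 := by simpa [hgf, hgs] using congrArg g h'
      simp only [map_zero, add_zero] at h'
      obtain rfl : a = 0 := hf (h'.trans (map_zero f).symm)
      rfl, fun x => by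
      obtain ⟨a, ha⟩ := (hfg (x - s (g x))).1 (by simp [hgs])
      exact ⟨(a, g x), by simp [ha]⟩⟩
  refine ⟨fun h₁ h₂ => ?_, fun h₁ h₂ => ?_, fun h₁ h₂ => ?_⟩
  · obtain ⟨A, _, _, _, _, hA⟩ := h₁.exist_free_prod
    obtain ⟨B, _, _, _, _, hB⟩ := h₂.exist_free_prod
    haveI : Module.Free R (P'' × (P' × A) × B) := Module.Free.of_equiv
      (({ toFun := fun x => ((e.symm x.1.1).2, ((e.symm x.1.1).1, x.2), x.1.2)
          invFun := fun y => ((e (y.2.1.1, y.1), y.2.2), y.2.1.2)
          map_add' := fun x y => by simp
          map_smul' := fun c x => by simp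
          left_inv := fun x => by simp
          right_inv := fun y => by simp } : ((P × B) × A) ≃ₗ[R] (P'' × (P' × A) × B)))
    exact Module.IsStablyFree.of_free_prod R P'' ((P' × A) × B)
  · obtain ⟨A, _, _, _, _, hA⟩ := h₁.exist_free_prod
    obtain ⟨B, _, _, _, _, hB⟩ := h₂.exist_free_prod
    haveI : Module.Free R (P × A × B) := Module.Free.of_equiv
      (({ toFun := fun x => (e (x.1.1, x.2.1), x.1.2, x.2.2)
          invFun := fun y => (((e.symm y.1).1, y.2.1), ((e.symm y.1).2, y.2.2))
          map_add' := fun x y => by ext <;> simp [← map_add]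
          map_smul' := fun c x => by ext <;> simp [← map_smul]
          left_inv := fun x => by simp
          right_inv := fun y => by simp } : ((P' × A) × (P'' × B)) ≃ₗ[R] (P × A × B)))
    exact Module.IsStablyFree.of_free_prod R P (A × B)
  · obtain ⟨A, _, _, _, _, hA⟩ := h₂.exist_free_prod
    obtain ⟨B, _, _, _, _, hB⟩ := h₁.exist_free_prod
    haveI : Module.Free R (P' × (P'' × A) × B) := Module.Free.of_equiv
      (({ toFun := fun x => ((e.symm x.1.1).1, ((e.symm x.1.1).2, x.2), x.1.2)
          invFun := fun y => ((e (y.1, y.2.1.1), y.2.2), y.2.1.2)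
          map_add' := fun x y => by simp
          map_smul' := fun c x => by simp
          left_inv := fun x => by simp
          right_inv := fun y => by simp } : ((P × B) × A) ≃ₗ[R] (P' × (P'' × A) × B)))
    exact Module.IsStablyFree.of_free_prod R P' ((P'' × A) × B)

end Groth.Agent.S6862
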