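import Mathlib.Algebra.Module.StablyFree.Basic
import Mathlib.RingTheory.Jacobson.Ideal
import Mathlib.RingTheory.TensorProduct.Basic
import Mathlib.RingTheory.Ideal.Quotient.Operations
import Groth.Agent.CAlgMisc2.LiftProjMod
import Mathlib

set_option autoImplicit false
universe u
namespace TensorProduct
end TensorProduct
open TensorProduct
namespace CAlg
end CAlg
open CAlg

namespace Groth.Agent.S6863
open TensorProduct

/-- Let `I` be an ideal of a commutative ring `R` contained in the Jacobson radical (equivalently, `1 +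
i` is a unit for each `i ∈ I`). Then each finitely generated stably free module `E` over `R/I`
lifts: there is a finite stably free `R`-module `M` with `M/IM ≅ E` (existence of an isomorphism
only; the published statement names no map). -/
theorem result {R : Type u} [CommRing R] (I : Ideal R)
    (hI : I ≤ Ideal.jacobson (⊥ : Ideal R)) (E : Type u) [AddCommGroup E] [Module (R ⧸ I) E]
    [Module.Finite (R ⧸ I) E] [Module.IsStablyFree (R ⧸ I) E] :
    ∃ (M : Type u) (_ : AddCommGroup M) (_ : Module R M), Module.Finite R M ∧ Module.IsStablyFree R M ∧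
      Nonempty ((R ⧸ I) ⊗[R] M ≃ₗ[R ⧸ I] E) := by
  classical
  obtain ⟨N, _, _, _, _, _⟩ := Module.IsStablyFree.exist_free_prod (R ⧸ I) E
  let bN := Module.Free.chooseBasis (R ⧸ I) N
  let bF := Module.Free.chooseBasis (R ⧸ I) (E × N)
  let eN := bN.equivFun ≪≫ₗ LinearEquiv.funCongrLeft (R ⧸ I) (R ⧸ I) (Fintype.equivFin _).symm
  let eF := bF.equivFun ≪≫ₗ LinearEquiv.funCongrLeft (R ⧸ I) (R ⧸ I) (Fintype.equivFin _).symm
  let m := Fintype.card (Module.Free.ChooseBasisIndex (R ⧸ I) N)
  let n := Fintype.card (Module.Free.ChooseBasisIndex (R ⧸ I) (E × N))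
  let φ : (E × (Fin m → R ⧸ I)) ≃ₗ[R ⧸ I] (Fin n → R ⧸ I) :=
    ((LinearEquiv.refl _ E).prodCongr eN.symm) ≪≫ₗ eF
  have lift : ∀ {a b : ℕ} (g : (Fin a → R ⧸ I) →ₗ[R ⧸ I] (Fin b → R ⧸ I)), ∃ f : (Fin a → R) →ₗ[R] (Fin b → R),
      ∀ x k, Ideal.Quotient.mk I (f x k) = g (fun j => Ideal.Quotient.mk I (x j)) k := by
    intro a b g
    refine ⟨Matrix.toLin' ((LinearMap.toMatrix' g).map (Function.surjInv Ideal.Quotient.mk_surjective)), fun x k => ?_⟩
    rw [Matrix.toLin'_apply, RingHom.map_mulVec, ← Matrix.toLin'_toMatrix' g, Matrix.toLin'_apply,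
      Matrix.toLin'_toMatrix']
    congr 1
    ext i j
    simp [Function.surjInv_eq Ideal.Quotient.mk_surjective]
  obtain ⟨π, hπ⟩ := lift ((LinearMap.snd (R ⧸ I) E (Fin m → R ⧸ I)) ∘ₗ φ.symm.toLinearMap)
  obtain ⟨σ, hσ⟩ := lift (φ.toLinearMap ∘ₗ LinearMap.inr (R ⧸ I) E (Fin m → R ⧸ I))
  have hπσ : ∀ y k, Ideal.Quotient.mk I (π (σ y) k) = Ideal.Quotient.mk I (y k) := fun y k => by
    rw [hπ, show (fun j => Ideal.Quotient.mk I (σ y j)) = _ from funext (hσ y)]
    simp
  have hsurj : Function.Surjective (π ∘ₗ σ) := by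
    rw [← LinearMap.range_eq_top, eq_top_iff]
    refine Submodule.le_of_le_smul_of_le_jacobson_bot Module.Finite.fg_top hI ?_
    intro y _
    refine Submodule.mem_sup.2 ⟨(π ∘ₗ σ) y, ⟨y, rfl⟩, y - (π ∘ₗ σ) y, ?_, by abel⟩
    rw [pi_eq_sum_univ (y - (π ∘ₗ σ) y)]
    refine Submodule.sum_mem _ fun k _ => Submodule.smul_mem_smul ?_ Submodule.mem_top
    rw [Pi.sub_apply, ← Ideal.Quotient.eq]
    exact (hπσ y k).symm
  let u := LinearEquiv.ofBijective _ (OrzechProperty.bijective_of_surjective_endomorphism _ hsurj)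
  let σ' := σ ∘ₗ u.symm.toLinearMap
  have hπσ' : ∀ y, π (σ' y) = y := fun y => u.apply_symm_apply y
  have hσ' : ∀ y k, Ideal.Quotient.mk I (σ' y k) = φ (0, fun j => Ideal.Quotient.mk I (y j)) k := fun y k => by
    show Ideal.Quotient.mk I (σ (u.symm y) k) = _
    rw [hσ, show (fun j => Ideal.Quotient.mk I (u.symm y j)) = fun j => Ideal.Quotient.mk I (y j) from funext fun j => by
      conv_rhs => rw [← hπσ' y]
      exact (hπσ _ j).symm]
    rfl
  let e : (Fin n → R) →ₗ[R] (Fin n → R) := LinearMap.id - σ' ∘ₗ π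
  have he0 : ∀ x, π (e x) = 0 := fun x => by simp [e, hπσ']
  have he : ∀ x, e (e x) = e x := fun x => by
    show e x - σ' (π (e x)) = e x
    rw [he0, map_zero, sub_zero]
  haveI : Module.Finite R (LinearMap.range e) := Module.Finite.of_surjective e.rangeRestrict e.surjective_rangeRestrict
  haveI : Module.Free R (LinearMap.range e × (Fin m → R)) := Module.Free.of_equiv
    (({ toFun := fun x => (e.rangeRestrict x, π x)
        invFun := fun z => (z.1 : Fin n → R) + σ' z.2
        map_add' := fun x y => by simp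
        map_smul' := fun c x => by simp
        left_inv := fun x => by simp [e]
        right_inv := fun ⟨⟨w, hw⟩, y⟩ => by
          obtain ⟨x, rfl⟩ := hw
          have h1 : π (e x + σ' y) = y := by rw [map_add, he0, hπσ', zero_add]
          refine Prod.ext (Subtype.ext ?_) h1
          show (e x + σ' y) - σ' (π (e x + σ' y)) = e x
          rw [h1, add_sub_cancel_right] } : (Fin n → R) ≃ₗ[R] (LinearMap.range e × (Fin m → R))))
  refine ⟨LinearMap.range e, inferInstance, inferInstance, inferInstance,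
    Module.IsStablyFree.of_free_prod R _ (Fin m → R),
    Groth.Agent.CAlgMisc2.exists_baseChange_equiv_range I e he (φ.toLinearMap ∘ₗ LinearMap.inl _ _ _)
      (LinearMap.fst _ _ _ ∘ₗ φ.symm.toLinearMap) (fun v => by simp) fun x => ?_⟩
  funext k
  show Ideal.Quotient.mk I (x k - σ' (π x) k) = φ ((φ.symm fun j => Ideal.Quotient.mk I (x j)).1, 0) k
  rw [map_sub, hσ', show (fun j => Ideal.Quotient.mk I (π x j)) = (φ.symm fun j => Ideal.Quotient.mk I (x j)).2 from
    funext fun j => by rw [hπ]; rfl]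
  set z := φ.symm fun j => Ideal.Quotient.mk I (x j) with hz
  have hx : Ideal.Quotient.mk I (x k) = φ z k := by rw [hz, φ.apply_symm_apply]
  rw [hx, ← Pi.sub_apply, ← map_sub]
  rw [show z - (0, z.2) = (z.1, 0) from by ext <;> simp]

end Groth.Agent.S6863
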