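import Mathlib.Algebra.Module.Projective
import Mathlib.RingTheory.Jacobson.Ideal
import Mathlib.RingTheory.TensorProduct.Basic
import Mathlib.RingTheory.Ideal.Quotient.Operations
import Mathlib.RingTheory.Finiteness.Defs
import Groth.Agent.CAlgMisc1.Local

set_option autoImplicit false
universe u
namespace TensorProduct
end TensorProduct
open TensorProduct
namespace CAlg
end CAlg
open CAlg

namespace Groth.Agent.S6864

/-- Let `I` be an ideal of a commutative ring `R` contained in the Jacobson radical and let `φ : P → P'`
be an `R`-linear map between finite projective `R`-modules. If the induced map `P/IP → P'/IP'` is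
bijective, then `φ` is bijective. -/
theorem result {R : Type u} [CommRing R] (I : Ideal R)
    (hI : I ≤ Ideal.jacobson (⊥ : Ideal R)) {P P' : Type u}
    [AddCommGroup P] [Module R P] [Module.Finite R P] [Module.Projective R P]
    [AddCommGroup P'] [Module R P'] [Module.Finite R P'] [Module.Projective R P'] (φ : P →ₗ[R] P')
    (h : Function.Bijective (φ.baseChange (R ⧸ I))) : Function.Bijective φ := by
  exact Groth.Agent.CAlgMisc1.bijective_of_baseChange_bijective I hI φ h

end Groth.Agent.S6864
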