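import Mathlib.Algebra.Module.Projective
import Mathlib.RingTheory.Jacobson.Ideal
import Mathlib.RingTheory.TensorProduct.Basic
import Mathlib.RingTheory.Ideal.Quotient.Operations
import Mathlib.RingTheory.Finiteness.Defs
import Groth.Agent.CAlgMisc1.Local

set_option autoImplicit false
universe u
namespace TensorProduct
end TensorProduct
open TensorProduct
namespace CAlg
end CAlg
open CAlg

namespace Groth.Agent.S6865
open TensorProduct

/-- Let `I` be an ideal of a commutative ring `R` contained in the Jacobson radical and let `P, P'` be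
finite projective `R`-modules. If `P/IP` and `P'/IP'` are isomorphic `R/I`-modules, then `P` and
`P'` are isomorphic. -/
theorem result {R : Type u} [CommRing R] (I : Ideal R)
    (hI : I ≤ Ideal.jacobson (⊥ : Ideal R)) (P P' : Type u)
    [AddCommGroup P] [Module R P] [Module.Finite R P] [Module.Projective R P]
    [AddCommGroup P'] [Module R P'] [Module.Finite R P'] [Module.Projective R P']
    (e : (R ⧸ I) ⊗[R] P ≃ₗ[R ⧸ I] (R ⧸ I) ⊗[R] P') : Nonempty (P ≃ₗ[R] P') := by
  obtain ⟨φ, hφ⟩ := Module.projective_lifting_property ((I • ⊤ : Submodule R P').mkQ)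
    ((quotTensorEquivQuotSMul P' I).toLinearMap ∘ₗ e.toLinearMap.restrictScalars R ∘ₗ
      TensorProduct.mk R (R ⧸ I) P 1) (Submodule.mkQ_surjective _)
  have key : φ.baseChange (R ⧸ I) = e.toLinearMap := by
    refine TensorProduct.AlgebraTensorModule.ext fun c x => ?_
    rw [show c ⊗ₜ[R] x = c • ((1 : R ⧸ I) ⊗ₜ[R] x) by simp [TensorProduct.smul_tmul'],
      map_smul, map_smul]
    congr 1
    apply (quotTensorEquivQuotSMul P' I).injective
    rw [LinearMap.baseChange_tmul, ← map_one (Ideal.Quotient.mk I), quotTensorEquivQuotSMul_mk_tmul,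
      one_smul, map_one]
    exact LinearMap.congr_fun hφ x
  exact ⟨LinearEquiv.ofBijective φ (Groth.Agent.CAlgMisc1.bijective_of_baseChange_bijective I hI φ
    (key ▸ e.bijective))⟩

end Groth.Agent.S6865
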