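import Groth.Prelude.Def_CAlg
import Mathlib.Algebra.Module.Torsion.Free
import Mathlib.RingTheory.Ideal.AssociatedPrime.Basic
import Mathlib.RingTheory.Support
import Mathlib.RingTheory.Noetherian.Basic
import Groth.Agent.CommAlg6.SerreOne

set_option autoImplicit false
universe u
namespace CAlg
end CAlg
open CAlg

namespace Groth.Agent.S6868

/-- (1) ⇔ (3) ⇔ (4): for a Noetherian domain `R` and a nonzero finite `R`-module `M`, torsion-freeness
of `M` is equivalent to `(0)` being the unique associated prime of `M`, and also to the conjunction: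
`(0)` belongs to the support of `M` and `M` satisfies Serre's condition `(S_1)`. (The published
statement also lists embedding into a finite free module and the absence of embedded associated
primes; this row states the other three conditions.) -/
theorem result (R : Type u) [CommRing R]
    [IsDomain R] [IsNoetherianRing R] (M : Type u) [AddCommGroup M] [Module R M] [Module.Finite R M] [Nontrivial M] :
    (Module.IsTorsionFree R M ↔ associatedPrimes R M = {⊥}) ∧
    (Module.IsTorsionFree R M ↔
      (⟨⊥, Ideal.isPrime_bot⟩ : PrimeSpectrum R) ∈ Module.support R M ∧ LocCoh.HasSk 1 R M) := by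
  have hbot : ∀ p ∈ associatedPrimes R M, Module.IsTorsionFree R M → p = ⊥ := by
    intro p hp htf
    rw [eq_bot_iff]
    intro r hr
    obtain ⟨-, y, hy⟩ := isAssociatedPrime_iff.1 hp
    by_contra hr0
    rw [hy, Submodule.mem_colon_singleton, Submodule.mem_bot] at hr
    have : y = 0 := (smul_eq_zero.1 hr).resolve_left hr0
    exact hp.isPrime.ne_top (hy.trans (by subst this; ext; simp [Submodule.mem_colon_singleton]))
  have h1 : Module.IsTorsionFree R M ↔ associatedPrimes R M = {⊥} := by
    refine ⟨fun htf => ?_, fun h => ?_⟩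
    · obtain ⟨p, hp⟩ := associatedPrimes.nonempty R M
      exact Set.eq_singleton_iff_unique_mem.2 ⟨hbot p hp htf ▸ hp, fun q hq => hbot q hq htf⟩
    · refine ⟨fun r hr => ?_⟩
      rw [isSMulRegular_iff_right_eq_zero_of_smul]
      intro m hm
      by_contra hm0
      have hmem : r ∈ ⋃ p ∈ associatedPrimes R M, (p : Set R) := by
        rw [biUnion_associatedPrimes_eq_zero_divisors]; exact ⟨m, hm0, hm⟩
      simp [h, hr.ne_zero] at hmem
  refine ⟨h1, h1.trans ⟨fun h => ?_, fun h => ?_⟩⟩
  · refine ⟨(Module.support_eq_zeroLocus (R := R) (M := M)).symm ▸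
      (Submodule.annihilator_top (R := R) (M := M) ▸ IsAssociatedPrime.annihilator_le (h.symm ▸ rfl : (⊥ : Ideal R) ∈ associatedPrimes R M)),
      Groth.Agent.CommAlg6.hasSk_one_iff.2 fun p hp r _ hr => ?_⟩
    rw [h, Set.mem_singleton_iff] at hp
    rw [hp] at hr ⊢
    exact le_bot_iff.1 hr
  · obtain ⟨p, hp⟩ := associatedPrimes.nonempty R M
    have hall : ∀ q ∈ associatedPrimes R M, q = ⊥ := fun q hq =>
      (Groth.Agent.CommAlg6.hasSk_one_iff.1 h.2 ⟨q, hq.isPrime⟩ hq ⟨⊥, Ideal.isPrime_bot⟩ h.1 bot_le).symm
    exact Set.eq_singleton_iff_unique_mem.2 ⟨hall p hp ▸ hp, hall⟩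

end Groth.Agent.S6868
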