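import Mathlib.LinearAlgebra.Dual.Lemmas
import Mathlib.Algebra.Module.Torsion.Free
import Mathlib.RingTheory.Finiteness.Defs
import Mathlib.RingTheory.Noetherian.Basic
import Groth.Agent.CAlgMisc2.TorsionFree

set_option autoImplicit false
universe u
namespace CAlg
end CAlg
open CAlg

namespace Groth.Agent.S6869

/-- For a domain `R` and a finite `R`-module `M`, the evaluation map `M → M**` into the double dual is
injective exactly when `M` is torsion free. -/
theorem result (R : Type u) [CommRing R] [IsDomain R] (M : Type u)
    [AddCommGroup M] [Module R M] [Module.Finite R M] :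
    Function.Injective (Module.Dual.eval R M) ↔ Module.IsTorsionFree R M := by
  exact ⟨fun h => Groth.Agent.CAlgMisc2.isTorsionFree_of_injective _ h,
    fun _ => Groth.Agent.CAlgMisc2.eval_injective⟩

end Groth.Agent.S6869
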