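import Groth.Prelude.Def_CAlg
import Mathlib.RingTheory.Finiteness.Defs
import Mathlib.RingTheory.Noetherian.Basic
import Groth.Agent.CAlgMisc2.HomDepth

set_option autoImplicit false
universe u
namespace CAlg
end CAlg
open CAlg

namespace Groth.Agent.S6876

/-- Let `R` be a Noetherian local ring and `M, N` finite `R`-modules. If `N` has depth `≥ 1` then so
does `Hom_R(M, N)`; if `N` has depth `≥ 2` then so does `Hom_R(M, N)`. -/
theorem result (R : Type u) [CommRing R] [IsNoetherianRing R] [IsLocalRing R]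
    (M N : Type u) [AddCommGroup M] [Module R M] [Module.Finite R M] [AddCommGroup N] [Module R N] [Module.Finite R N] :
    (1 ≤ LocCoh.depth R N → 1 ≤ LocCoh.depth R (M →ₗ[R] N)) ∧
    (2 ≤ LocCoh.depth R N → 2 ≤ LocCoh.depth R (M →ₗ[R] N)) := by
  refine ⟨fun h => le_trans (le_min ?_ h) (Groth.Agent.CAlgMisc2.min_two_depth_le_depth_hom M N),
    fun h => le_trans (le_min le_rfl h) (Groth.Agent.CAlgMisc2.min_two_depth_le_depth_hom M N)⟩
  norm_num

end Groth.Agent.S6876
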