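import Mathlib.LinearAlgebra.Dual.Lemmas
import Mathlib.Algebra.Module.Torsion.Free
import Mathlib.RingTheory.Finiteness.Defs
import Mathlib.RingTheory.Noetherian.Basic
import Mathlib.RingTheory.DiscreteValuationRing.Basic
import Groth.Agent.CAlgMisc2.Reflexive

set_option autoImplicit false
universe u
namespace CAlg
end CAlg
open CAlg

namespace Groth.Agent.S6882

/-- For a finite module `M` over a discrete valuation ring `R`, the evaluation map from `M` to its
double dual `M**` is surjective. -/
theorem result (R : Type u) [CommRing R] [IsDomain R]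
    [IsDiscreteValuationRing R] (M : Type u) [AddCommGroup M] [Module R M] [Module.Finite R M] :
    Function.Surjective (Module.Dual.eval R M) := by
  let π := (Submodule.torsion R M).mkQ
  have hπ : Function.Surjective π := Submodule.mkQ_surjective _
  have : Module.Free R (M ⧸ Submodule.torsion R M) := Module.free_of_finite_type_torsion_free'
  have hsurj : Function.Surjective π.dualMap := fun φ => by
    suffices hker : Submodule.torsion R M ≤ LinearMap.ker φ from
      ⟨(Submodule.torsion R M).liftQ φ hker, Submodule.liftQ_mkQ _ _ hker⟩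
    intro x hx
    obtain ⟨⟨c, hc⟩, hcx⟩ := (Submodule.mem_torsion_iff x).1 hx
    rw [LinearMap.mem_ker]
    refine (mul_eq_zero.1 ?_).resolve_left (nonZeroDivisors.ne_zero hc)
    rw [← smul_eq_mul, ← map_smul]
    exact (congrArg φ hcx).trans (map_zero φ)
  intro y
  obtain ⟨q, hq⟩ := (Module.bijective_dual_eval R (M ⧸ Submodule.torsion R M)).2 (π.dualMap.dualMap y)
  obtain ⟨m, rfl⟩ := hπ q
  refine ⟨m, LinearMap.dualMap_injective_of_surjective hsurj ?_⟩
  rw [← hq]
  rfl

end Groth.Agent.S6882
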