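import Mathlib.RingTheory.Henselian
import Mathlib.RingTheory.Jacobson.Ideal
import Mathlib.Algebra.Polynomial.AlgebraMap
import Mathlib.RingTheory.Ideal.Quotient.Operations
import Groth.Agent.CAlgMisc1.Imports
import Mathlib

set_option autoImplicit false
universe u
namespace Polynomial
end Polynomial
open Polynomial
namespace CAlg
end CAlg
open CAlg

namespace Groth.Agent.S6888

/-- Let `A` be absolutely integrally closed (every monic polynomial over `A` is a product of linear
factors) and `I ⊆ A` an ideal contained in the Jacobson radical such that `A → A/I` is surjective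
(hence bijective) on idempotents. Then `(A, I)` is a henselian pair. (The published statement also
records the converse, which holds for every henselian pair; this row states the sufficiency only.) -/
theorem result (A : Type u) [CommRing A]
    (hA : ∀ f : A[X], f.Monic → ∃ s : Multiset A, f = (s.map fun a => X - C a).prod) (I : Ideal A)
    (hI : I ≤ Ideal.jacobson (⊥ : Ideal A))
    (hidem : ∀ e : A ⧸ I, IsIdempotentElem e → ∃ e' : A, IsIdempotentElem e' ∧ Ideal.Quotient.mk I e' = e) :
    HenselianRing A I := by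
  classical
  refine ⟨hI, fun f hf a₀ h0 h1 => ?_⟩
  obtain ⟨s, rfl⟩ := hA f hf
  obtain ⟨n, r, rfl⟩ : ∃ (n : ℕ) (r : Fin n → A), s = Finset.univ.val.map r :=
    ⟨s.toList.length, fun i => s.toList.get i, by rw [Fin.univ_val_map, List.ofFn_get, Multiset.coe_toList]⟩
  have hprod : ((Finset.univ.val.map r).map fun a => Polynomial.X - Polynomial.C a).prod =
      ∏ i, (Polynomial.X - Polynomial.C (r i)) := by rw [Multiset.map_map]; rfl
  rw [hprod] at h0 h1 ⊢
  let π := Ideal.Quotient.mk I
  let u : Fin n → A ⧸ I := fun i => π (a₀ - r i)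
  let P : Fin n → A ⧸ I := fun i => ∏ j ∈ Finset.univ.erase i, u j
  have hev : ∀ (a : A), (∏ i, (Polynomial.X - Polynomial.C (r i))).eval a = ∏ i, (a - r i) := fun a => by
    simp [Polynomial.eval_prod]
  have hall : ∏ i, u i = 0 := by
    rw [← map_prod, ← hev]; exact Ideal.Quotient.eq_zero_iff_mem.2 h0
  have hder : π ((∏ i, (Polynomial.X - Polynomial.C (r i))).derivative.eval a₀) = ∑ i, P i := by
    rw [Polynomial.derivative_prod_finset]
    simp [P, u, π, Polynomial.eval_finsetSum, Polynomial.eval_prod]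
  rw [hder] at h1
  obtain ⟨v, hv⟩ := h1
  let e : Fin n → A ⧸ I := fun i => (↑v⁻¹ : A ⧸ I) * P i
  have hsum : ∑ i, e i = 1 := by rw [← Finset.mul_sum, ← hv, Units.inv_mul]
  have huP : ∀ i, u i * P i = 0 := fun i => by
    rw [Finset.mul_prod_erase _ _ (Finset.mem_univ i), hall]
  have hee : ∀ i j, i ≠ j → e i * e j = 0 := by
    intro i j hij
    have hd : u i ∣ P j := Finset.dvd_prod_of_mem _ (Finset.mem_erase.2 ⟨hij, Finset.mem_univ _⟩)
    obtain ⟨c, hc⟩ := hd
    show (↑v⁻¹ : A ⧸ I) * P i * (↑v⁻¹ * P j) = 0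
    rw [hc, show (↑v⁻¹ : A ⧸ I) * P i * (↑v⁻¹ * (u i * c)) = ↑v⁻¹ * ↑v⁻¹ * c * (u i * P i) by ring, huP, mul_zero]
  have hidem' : ∀ i, IsIdempotentElem (e i) := fun i => by
    show e i * e i = e i
    have := congrArg (e i * ·) hsum
    simp only [Finset.mul_sum, mul_one] at this
    rwa [Finset.sum_eq_single i (fun j _ hj => hee i j (Ne.symm hj)) (fun h => absurd (Finset.mem_univ i) h)] at this
  choose E hE hEe using fun i => hidem (e i) (hidem' i)
  have hjac0 : ∀ x : A, IsIdempotentElem x → π x = 0 → x = 0 := by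
    intro x hx h
    have hu : IsUnit (x * (-1) + 1) := Ideal.mem_jacobson_bot.1 (hI (Ideal.Quotient.eq_zero_iff_mem.1 h)) (-1)
    refine hu.mul_left_eq_zero.1 ?_
    rw [mul_add, ← mul_assoc, hx.eq, mul_neg_one, mul_one, neg_add_cancel]
  have horth : ∀ i j, i ≠ j → E i * E j = 0 := fun i j hij => hjac0 _ ((hE i).mul (hE j)) (by
    rw [map_mul, hEe, hEe, hee i j hij])
  have hEsum : ∑ i, E i = 1 := by
    refine (sub_eq_zero.1 (hjac0 (1 - ∑ i, E i) (IsIdempotentElem.one_sub ?_) (by
      rw [map_sub, map_one, map_sum, Finset.sum_congr rfl fun i _ => hEe i, hsum, sub_self]))).symm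
    show _ * _ = _
    rw [Finset.sum_mul]
    refine Finset.sum_congr rfl fun i _ => ?_
    rw [Finset.mul_sum, Finset.sum_eq_single i (fun j _ hj => horth i j (Ne.symm hj)) (fun h => absurd (Finset.mem_univ i) h)]
    exact hE i
  let a := ∑ i, E i * r i
  have hEa : ∀ i, E i * (a - r i) = 0 := by
    intro i
    rw [mul_sub, Finset.mul_sum, Finset.sum_eq_single i
      (fun j _ hj => by rw [← mul_assoc, horth i j (Ne.symm hj), zero_mul]) (fun h => absurd (Finset.mem_univ i) h),
      ← mul_assoc, (hE i).eq, sub_self]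
  refine ⟨a, ?_, Ideal.Quotient.eq.1 ?_⟩
  · show (∏ i, (Polynomial.X - Polynomial.C (r i))).eval a = 0
    rw [hev]
    calc ∏ j, (a - r j) = ∑ i, E i * ∏ j, (a - r j) := by rw [← Finset.sum_mul, hEsum, one_mul]
      _ = 0 := Finset.sum_eq_zero fun i _ => by
        rw [← Finset.mul_prod_erase _ _ (Finset.mem_univ i), ← mul_assoc, hEa, zero_mul]
  · show π a = π a₀
    calc π a = ∑ i, e i * π (r i) := by simp only [a, π, map_sum, map_mul, hEe]
      _ = ∑ i, e i * π a₀ := Finset.sum_congr rfl fun i _ => by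
        rw [← sub_eq_zero, ← mul_sub, ← map_sub]
        show (↑v⁻¹ * P i) * _ = 0
        rw [mul_assoc, ← neg_sub, map_neg, mul_neg, mul_comm (P i), huP, neg_zero, mul_zero]
      _ = π a₀ := by rw [← Finset.sum_mul, hsum, one_mul]

end Groth.Agent.S6888
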