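import Groth.Prelude.Def_Fitting
import Mathlib.RingTheory.Finiteness.Defs
import Mathlib.LinearAlgebra.Matrix.Determinant.Basic
import Mathlib.RingTheory.TensorProduct.Basic
import Groth.Agent.FittLib.Basic

set_option autoImplicit false
universe u
namespace TensorProduct
end TensorProduct
open TensorProduct
namespace Fitt
end Fitt
open Fitt

namespace Groth.Agent.S6890
open TensorProduct

/-- For a finite `R`-module `M` and a ring map `R → R'`, the `k`-th Fitting ideal of `R' ⊗_R M` over
`R'` is the extension of `Fit_k(M)` along `R → R'`. -/
theorem result {R R' : Type u} [CommRing R] [CommRing R'] [Algebra R R'] (M : Type u) [AddCommGroup M]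
    [Module R M] [Module.Finite R M] (k : ℕ) :
    Fitt.ideal R' (R' ⊗[R] M) k = (Fitt.ideal R M k).map (algebraMap R R') := by
  exact Groth.Agent.FittLib.ideal_baseChange k

end Groth.Agent.S6890
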