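import Groth.Prelude.Def_Fitting
import Mathlib.RingTheory.Finiteness.Defs
import Mathlib.LinearAlgebra.Matrix.Determinant.Basic
import Mathlib.RingTheory.Support
import Mathlib.RingTheory.Ideal.Quotient.Operations
import Groth.Agent.FittLib.Basic

set_option autoImplicit false
universe u
namespace Fitt
end Fitt
open Fitt

namespace Groth.Agent.S6891

/-- Let `M` be a finite `R`-module. Then `Fit_0(M) ⊆ Ann_R(M)`, the closed set `V(Fit_0(M))` equals
`Supp(M)`, and for an ideal `I` one has `Fit_0(R/I) = I`. -/
theorem result {R : Type u} [CommRing R] (M : Type u) [AddCommGroup M]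
    [Module R M] [Module.Finite R M] (I : Ideal R) :
    Fitt.ideal R M 0 ≤ Module.annihilator R M ∧
    PrimeSpectrum.zeroLocus (Fitt.ideal R M 0 : Set R) = Module.support R M ∧
    Fitt.ideal R (R ⧸ I) 0 = I := by
  exact ⟨Groth.Agent.FittLib.ideal_zero_le_annihilator, Groth.Agent.FittLib.zeroLocus_ideal_zero,
    Groth.Agent.FittLib.ideal_quotient I⟩

end Groth.Agent.S6891
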