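import Groth.Prelude.Def_Fitting
import Mathlib.RingTheory.Finiteness.Defs
import Mathlib.LinearAlgebra.Matrix.Determinant.Basic
import Mathlib.RingTheory.LocalRing.Basic
import Mathlib.LinearAlgebra.Quotient.Basic
import Mathlib.RingTheory.Ideal.Span
import Groth.Agent.FittLib.Local

set_option autoImplicit false
universe u
namespace Fitt
end Fitt
open Fitt

namespace Groth.Agent.S6896

/-- Let `R` be a local ring, `M` a finite `R`-module and `k ≥ 0` with `Fit_k(M) = (f)` principal. Then
the quotient `M'` of `M` by the submodule `{x ∈ M | f x = 0}` can be generated by `k` elements. -/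
theorem result {R : Type u} [CommRing R] [IsLocalRing R]
    (M : Type u) [AddCommGroup M] [Module R M] [Module.Finite R M] (k : ℕ) (f : R)
    (hf : Fitt.ideal R M k = Ideal.span {f}) :
    ∃ g : Fin k → M ⧸ LinearMap.ker (f • (LinearMap.id : M →ₗ[R] M)),
      Submodule.span R (Set.range g) = ⊤ := by
  let N : Submodule R M := LinearMap.ker (f • (LinearMap.id : M →ₗ[R] M))
  have hN : ∀ m : M, f • m = 0 → m ∈ N := fun m hm => by simpa [N] using hm
  obtain ⟨n, x, hx⟩ := Groth.Agent.FittLib.exists_generators R M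
  have hy : f ∈ Groth.Agent.FittLib.minorsOf (Groth.Agent.FittLib.rels R x : Set (Fin n → R)) (n - k) := by
    rw [← Groth.Agent.FittLib.ideal_eq x hx, hf]; exact Ideal.mem_span_singleton_self f
  obtain ⟨α, hα, hα'⟩ := Groth.Agent.FittLib.exists_radical_ideal_quotient x hx k 1 f Set.Subset.rfl
    (fun d hd => by
      rw [one_mul]
      exact Ideal.mem_span_singleton.1 (hf ▸ (Groth.Agent.FittLib.ideal_eq x hx k).ge hd)) N hN hy
  rw [one_mul] at hα'
  by_cases hu : IsUnit α
  · exact Groth.Agent.FittLib.exists_span_of_ideal_eq_top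
      (Ideal.radical_eq_top.1 (Ideal.eq_top_of_isUnit_mem _ hα hu))
  · have h1 : IsUnit (1 - α) := (IsLocalRing.isUnit_or_isUnit_one_sub_self α).resolve_left hu
    have hf0 : f = 0 := (h1.mul_left_eq_zero).1 (by rw [mul_sub, mul_one, ← hα', sub_self])
    subst hf0
    refine ⟨0, Submodule.eq_top_iff'.2 fun y => ?_⟩
    obtain ⟨m, rfl⟩ := Submodule.Quotient.mk_surjective _ y
    rw [(Submodule.Quotient.mk_eq_zero _).2 (by simp)]
    exact zero_mem _

end Groth.Agent.S6896
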