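import Mathlib.RingTheory.Flat.Basic
import Mathlib.RingTheory.LocalRing.ResidueField.Basic
import Mathlib.RingTheory.TensorProduct.Basic
import Mathlib.Order.Bounds.Defs
import Mathlib

set_option autoImplicit false
universe u
namespace TensorProduct
end TensorProduct
open TensorProduct
namespace CAlg
end CAlg
open CAlg

namespace Groth.Agent.S6898
open TensorProduct

/-- Let `(A, 𝔪)` be a local ring and `u : M → N` a linear map between flat `A`-modules whose reduction
`M/𝔪M → N/𝔪N` is injective. If `I` is the content ideal of some `x ∈ M` (the least ideal `I` with `x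
∈ IM`), then `I` is also the least ideal `J` with `u(x) ∈ J·N`. -/
theorem result {A : Type u} [CommRing A] [IsLocalRing A] {M N : Type u}
    [AddCommGroup M] [Module A M] [Module.Flat A M] [AddCommGroup N] [Module A N] [Module.Flat A N] (u : M →ₗ[A] N)
    (hu : Function.Injective (u.baseChange (IsLocalRing.ResidueField A))) (x : M) (I : Ideal A)
    (hx : IsLeast {J : Ideal A | x ∈ J • (⊤ : Submodule A M)} I) :
    IsLeast {J : Ideal A | u x ∈ J • (⊤ : Submodule A N)} I := by
  classical
  set k := IsLocalRing.ResidueField A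
  set m := IsLocalRing.maximalIdeal A
  have hI : x ∈ I • (⊤ : Submodule A M) := hx.1
  refine ⟨?_, fun J hJ => ?_⟩
  · show u x ∈ I • (⊤ : Submodule A N)
    have : u x ∈ Submodule.map u (I • ⊤) := ⟨x, hI, rfl⟩
    rw [Submodule.map_smul''] at this
    exact Submodule.smul_mono le_rfl le_top this
  have hIfg : I.FG := by
    obtain ⟨I₀, hI₀, hfg, hxI⟩ : ∃ I₀ : Ideal A, I₀ ≤ I ∧ I₀.FG ∧ x ∈ I₀ • (⊤ : Submodule A M) := by
      refine Submodule.smul_induction_on hI (fun a ha y _ => ⟨Ideal.span {a}, (Ideal.span_singleton_le_iff_mem I).2 ha,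
        ⟨{a}, by simp⟩, Submodule.smul_mem_smul (Ideal.mem_span_singleton_self a) Submodule.mem_top⟩) ?_
      rintro y z ⟨I₁, h1, g1, m1⟩ ⟨I₂, h2, g2, m2⟩
      exact ⟨I₁ ⊔ I₂, sup_le h1 h2, Submodule.FG.sup g1 g2, add_mem (Submodule.smul_mono_left le_sup_left m1) (Submodule.smul_mono_left le_sup_right m2)⟩
    rwa [le_antisymm (hx.2 hxI) hI₀]
  let J' : Ideal A := m • I ⊔ J
  suffices hxJ' : x ∈ J' • (⊤ : Submodule A M) by
    refine Submodule.le_of_le_smul_of_le_jacobson_bot hIfg (IsLocalRing.maximalIdeal_le_jacobson ⊥) ?_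
    refine (hx.2 hxJ').trans ?_
    rw [sup_comm]
  let V : Submodule A (A ⧸ J') := Submodule.map J'.mkQ I
  have hV : ∀ r ∈ m, ∀ v : V, r • v = 0 := by
    rintro r hr ⟨_, a, ha, rfl⟩
    apply Subtype.ext
    show r • J'.mkQ a = 0
    rw [← map_smul, Submodule.mkQ_apply, Submodule.Quotient.mk_eq_zero]
    exact Submodule.mem_sup_left (Submodule.smul_mem_smul hr ha)
  obtain ⟨z, hz⟩ : ∃ z : V ⊗[A] M, V.subtype.rTensor M z = J'.mkQ (1 : A) ⊗ₜ[A] x := by
    refine Submodule.smul_induction_on hI (fun a ha y _ => ⟨(⟨J'.mkQ a, a, ha, rfl⟩ : V) ⊗ₜ y, ?_⟩) ?_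
    · rw [LinearMap.rTensor_tmul, ← TensorProduct.smul_tmul]
      congr 1
      show J'.mkQ a = a • J'.mkQ 1
      rw [← map_smul, smul_eq_mul, mul_one]
    · rintro y w ⟨z1, h1⟩ ⟨z2, h2⟩
      exact ⟨z1 + z2, by rw [map_add, h1, h2, TensorProduct.tmul_add]⟩
  letI : Module k V := Module.IsTorsionBySet.module (fun v r => hV r r.2 v)
  haveI : IsScalarTower A k V := Module.IsTorsionBySet.isScalarTower (fun v r => hV r r.2 v)
  have hVu : Function.Injective (u.lTensor V) := by
    let eM := TensorProduct.AlgebraTensorModule.cancelBaseChange A k k V M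
    let eN := TensorProduct.AlgebraTensorModule.cancelBaseChange A k k V N
    have hc : ∀ t, u.lTensor V (eM t) = eN ((u.baseChange k).lTensor V t) := by
      intro t
      induction t with
      | zero => simp
      | add a b ha hb => simp only [map_add, ha, hb]
      | tmul v w =>
        induction w with
        | zero => simp
        | add a b ha hb => simp only [TensorProduct.tmul_add, map_add, ha, hb]
        | tmul c y => simp [eM, eN]
    intro a b hab
    obtain ⟨a, rfl⟩ := eM.surjective a
    obtain ⟨b, rfl⟩ := eM.surjective b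
    rw [hc, hc] at hab
    exact congrArg eM (Module.Flat.lTensor_preserves_injective_linearMap (u.baseChange k) hu (eN.injective hab))
  have hz0 : u.lTensor V z = 0 := by
    apply Module.Flat.rTensor_preserves_injective_linearMap (M := N) V.subtype V.subtype_injective
    have h1 : V.subtype.rTensor N (u.lTensor V z) = u.lTensor (A ⧸ J') (V.subtype.rTensor M z) := by
      rw [← LinearMap.comp_apply, ← LinearMap.comp_apply, LinearMap.rTensor_comp_lTensor, LinearMap.lTensor_comp_rTensor]
    rw [h1, hz, LinearMap.lTensor_tmul, map_zero]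
    apply (TensorProduct.quotTensorEquivQuotSMul N J').injective
    rw [Submodule.mkQ_apply, Ideal.Quotient.mk_eq_mk, TensorProduct.quotTensorEquivQuotSMul_mk_tmul, one_smul, map_zero,
      Submodule.Quotient.mk_eq_zero]
    exact Submodule.smul_mono_left le_sup_right hJ
  have hz1 : z = 0 := hVu (hz0.trans (map_zero _).symm)
  rw [hz1, map_zero, Submodule.mkQ_apply, Ideal.Quotient.mk_eq_mk] at hz
  have := congrArg (TensorProduct.quotTensorEquivQuotSMul M J') hz.symm
  rw [TensorProduct.quotTensorEquivQuotSMul_mk_tmul, one_smul, map_zero, Submodule.Quotient.mk_eq_zero] at this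
  exact this

end Groth.Agent.S6898
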