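import Groth.Statements.S6899
import Groth.Agent.HenselLib.MilnorGlue

set_option autoImplicit false
universe u
open TensorProduct
open EtAlg

namespace Groth.Agent.S6899

/-- Let `B' = B ×_A A'` be a fibre square of rings with `A' → A` surjective, and let `(N₁, M₁', φ₁) →
(N₂, M₂', φ₂)` be a morphism of glueing data (a `B`-linear `u : N₁ → N₂` and an `A'`-linear `v : M₁'
→ M₂'` compatible with the `φ_i`) with `u` and `v` surjective. Then the induced map of glued modules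
`N₁ ×_{φ₁} M₁' → N₂ ×_{φ₂} M₂'` is surjective. -/
theorem result (B' B A' A : Type u) [CommRing B'] [CommRing B] [CommRing A'] [CommRing A]
    [Algebra B' B] [Algebra B' A'] [Algebra B A] [Algebra A' A] [Algebra B' A] [IsScalarTower B' B A] [IsScalarTower B' A' A]
    (hsq : EtMil.IsFibreSquare B' B A' A)
    {N₁ N₂ M₁' M₂' : Type u} [AddCommGroup N₁] [Module B N₁] [Module B' N₁] [IsScalarTower B' B N₁]
    [AddCommGroup N₂] [Module B N₂] [Module B' N₂] [IsScalarTower B' B N₂]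
    [AddCommGroup M₁'] [Module A' M₁'] [Module B' M₁'] [IsScalarTower B' A' M₁']
    [AddCommGroup M₂'] [Module A' M₂'] [Module B' M₂'] [IsScalarTower B' A' M₂']
    (φ₁ : A ⊗[B] N₁ ≃ₗ[A] A ⊗[A'] M₁') (φ₂ : A ⊗[B] N₂ ≃ₗ[A] A ⊗[A'] M₂') (u : N₁ →ₗ[B] N₂) (v : M₁' →ₗ[A'] M₂')
    (hc : (v.baseChange A).comp φ₁.toLinearMap = φ₂.toLinearMap.comp (u.baseChange A))
    (hu : Function.Surjective u) (hv : Function.Surjective v) :
    ∀ y : N₂ × M₂', y ∈ EtMil.glue B' φ₂ → ∃ x : N₁ × M₁', x ∈ EtMil.glue B' φ₁ ∧ u x.1 = y.1 ∧ v x.2 = y.2 := by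
  have w := HenselLib.Milnor.isWeakSquare hsq
  intro y hy
  obtain ⟨n, hn⟩ := hu y.1
  obtain ⟨g, rfl⟩ := HenselLib.Milnor.glueFst_surjective w φ₁ n
  have h1 : φ₁ (1 ⊗ₜ g.1.1) = 1 ⊗ₜ g.1.2 := g.2
  have h2 : φ₂ (1 ⊗ₜ y.1) = 1 ⊗ₜ y.2 := hy
  have h3 : ((1 : A) ⊗ₜ[A'] (y.2 - v g.1.2) : A ⊗[A'] M₂') = 0 := by
    have := LinearMap.congr_fun hc (1 ⊗ₜ g.1.1)
    simp only [LinearMap.comp_apply, LinearEquiv.coe_coe, h1, LinearMap.baseChange_tmul] at this
    rw [show u g.1.1 = y.1 from hn, h2] at this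
    rw [TensorProduct.tmul_sub, ← this, sub_self]
  rw [HenselLib.Milnor.tmul_eq_zero_iff_mem w.surjA] at h3
  have h4 : RingHom.ker (algebraMap A' A) • (⊤ : Submodule A' M₂') =
      Submodule.map v (RingHom.ker (algebraMap A' A) • ⊤) := by
    rw [Submodule.map_smul'', Submodule.map_top, LinearMap.range_eq_top.mpr hv]
  rw [h4] at h3
  obtain ⟨e, he, he'⟩ := h3
  have he0 : ((1 : A) ⊗ₜ[A'] e : A ⊗[A'] M₁') = 0 :=
    (HenselLib.Milnor.tmul_eq_zero_iff_mem w.surjA e).mpr he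
  refine ⟨g.1 + (0, e), add_mem g.2 (HenselLib.Milnor.mk_zero_mem_glue φ₁ he0), ?_, ?_⟩
  · simp only [Prod.fst_add, add_zero]; exact hn
  · simp only [Prod.snd_add, map_add, he']; abel

end Groth.Agent.S6899
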