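import Groth.Statements.S6900
import Groth.Agent.HenselLib.MilnorAlg
-- import your own Groth.Agent.* helpers here

set_option autoImplicit false
universe u
open TensorProduct
open EtAlg

namespace Groth.Agent.S6900

/-- Let `B' = B ×_A A'` be a fibre square of rings with `A' → A` surjective. Let `D` be a `B`-algebra
and `C'` an `A'`-algebra with a common base change `C = D ⊗_B A = C' ⊗_{A'} A`, and let `D' = D ×_C
C'` be the fibre product ring with its `B'`-algebra structure. Then `B' → D'` is of finite type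
(resp. flat, resp. flat and of finite presentation, resp. smooth, resp. étale) if and only if `B →
D` and `A' → C'` both are. -/
theorem result (B' B A' A : Type u) [CommRing B'] [CommRing B] [CommRing A'] [CommRing A]
    [Algebra B' B] [Algebra B' A'] [Algebra B A] [Algebra A' A] [Algebra B' A] [IsScalarTower B' B A] [IsScalarTower B' A' A]
    (hsq : EtMil.IsFibreSquare B' B A' A)
    (D' D C' C : Type u) [CommRing D'] [CommRing D] [CommRing C'] [CommRing C]
    [Algebra D' D] [Algebra D' C'] [Algebra D C] [Algebra C' C] [Algebra D' C] [IsScalarTower D' D C] [IsScalarTower D' C' C]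
    (hsq' : EtMil.IsFibreSquare D' D C' C)
    [Algebra B' D'] [Algebra B D] [Algebra A' C'] [Algebra A C]
    [Algebra B' D] [IsScalarTower B' B D] [IsScalarTower B' D' D]
    [Algebra B' C'] [IsScalarTower B' A' C'] [IsScalarTower B' D' C']
    [Algebra B C] [IsScalarTower B A C] [IsScalarTower B D C]
    [Algebra A' C] [IsScalarTower A' A C] [IsScalarTower A' C' C]
    [Algebra.IsPushout B D A C] [Algebra.IsPushout A' C' A C] :
    (Algebra.FiniteType B' D' ↔ Algebra.FiniteType B D ∧ Algebra.FiniteType A' C') ∧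
    (Module.Flat B' D' ↔ Module.Flat B D ∧ Module.Flat A' C') ∧
    (Module.Flat B' D' ∧ Algebra.FinitePresentation B' D' ↔
      (Module.Flat B D ∧ Algebra.FinitePresentation B D) ∧ (Module.Flat A' C' ∧ Algebra.FinitePresentation A' C')) ∧
    (Algebra.Smooth B' D' ↔ Algebra.Smooth B D ∧ Algebra.Smooth A' C') ∧
    (Algebra.Etale B' D' ↔ Algebra.Etale B D ∧ Algebra.Etale A' C') := by
  obtain ⟨hpD, hpC, hflat⟩ := HenselLib.MilnorAlg.main_facts hsq hsq'
  haveI := hpD
  haveI := hpC
  let eD := Algebra.IsPushout.equiv B' B D' D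
  let eC := Algebra.IsPushout.equiv B' A' D' C'
  have toFlat : Module.Flat B' D' → Module.Flat B D ∧ Module.Flat A' C' := fun _ =>
    ⟨Module.Flat.of_linearEquiv eD.symm.toLinearEquiv, Module.Flat.of_linearEquiv eC.symm.toLinearEquiv⟩
  refine ⟨⟨fun _ => ?_, fun ⟨_, _⟩ => HenselLib.MilnorAlg.finiteType hsq hsq'⟩, ⟨toFlat, fun ⟨h1, h2⟩ => hflat h1 h2⟩,
    ⟨fun ⟨hf, _⟩ => ?_, fun ⟨⟨_, _⟩, ⟨_, _⟩⟩ =>
      ⟨hflat inferInstance inferInstance, HenselLib.MilnorAlg.finitePresentation_of_flat hsq hsq'⟩⟩,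
    ⟨fun _ => ?_, fun ⟨_, _⟩ => HenselLib.MilnorAlg.smooth hsq hsq'⟩, ⟨fun _ => ?_, fun ⟨_, _⟩ => ?_⟩⟩
  · exact ⟨Algebra.FiniteType.equiv (Algebra.FiniteType.baseChange (A := D') B) eD,
      Algebra.FiniteType.equiv (Algebra.FiniteType.baseChange (A := D') A') eC⟩
  · exact ⟨⟨(toFlat hf).1, Algebra.FinitePresentation.equiv eD⟩, ⟨(toFlat hf).2, Algebra.FinitePresentation.equiv eC⟩⟩
  · exact ⟨Algebra.Smooth.of_equiv eD, Algebra.Smooth.of_equiv eC⟩
  · exact ⟨Algebra.Etale.of_equiv eD, Algebra.Etale.of_equiv eC⟩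
  · haveI : Module.Flat B' D' := hflat inferInstance inferInstance
    haveI := HenselLib.MilnorAlg.finitePresentation_of_flat hsq hsq'
    haveI := HenselLib.MilnorAlg.formallyUnramified hsq hsq'
    exact Algebra.Etale.of_formallyUnramified_of_flat

end Groth.Agent.S6900
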