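import Groth.Statements.S6904
import Groth.Agent.DCat.PureAcyclic

set_option autoImplicit false
set_option backward.isDefEq.respectTransparency false
set_option backward.defeqAttrib.useBackward true
universe u
open CategoryTheory CategoryTheory.Limits MonoidalCategory
open DRing

namespace Groth.Agent.S6904

/-- Let `K•` be a complex of `R`-modules such that `K• ⊗_R M` is acyclic for every finitely presented
`R`-module `M`. Then `K•` is K-flat. -/
theorem result (R : Type u) [CommRing R] (K : DRing.Cx R)
    (hK : ∀ (M : Type u) [AddCommGroup M] [Module R M], Module.FinitePresentation R M →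
      (∀ i : ℤ, IsZero ((DRing.tensorCx K (ModuleCat.of R M)).homology i))) :
    (∀ L : DRing.Cx R, (∀ i : ℤ, IsZero (L.homology i)) → ∀ i : ℤ, IsZero ((L ⊗ K).homology i)) := by
  intro L _ i
  have h := Groth.Agent.DCat.acyclic_tot_of_finitePresentation K (fun M _ _ hM n => by
    rw [HomologicalComplex.exactAt_iff_isZero_homology]
    exact hK M hM n) L
  exact (HomologicalComplex.exactAt_iff_isZero_homology _ _).1
    (Groth.Agent.DCat.acyclic_of_iso' (Groth.Agent.DCat.totSymm K L) h i)


end Groth.Agent.S6904
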