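import Groth.Statements.S6907
import Groth.Agent.DCat.KFlatRes

set_option autoImplicit false
set_option backward.isDefEq.respectTransparency false
set_option backward.defeqAttrib.useBackward true
universe u
open CategoryTheory CategoryTheory.Limits MonoidalCategory
open DRing

namespace Groth.Agent.S6907

/-- Let `K•` be a K-flat complex of `R`-modules. Then `L• ↦ Tot(L• ⊗_R K•)` sends quasi-isomorphisms to
quasi-isomorphisms; and if `α : P• → Q•` is a quasi-isomorphism between K-flat complexes, then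
`Tot(id_L ⊗ α)` is a quasi-isomorphism for every complex `L•`. -/
theorem result (R : Type u) [CommRing R] :
    (∀ (K : DRing.Cx R), (∀ L : DRing.Cx R, (∀ i : ℤ, IsZero (L.homology i)) → ∀ i : ℤ, IsZero ((L ⊗ K).homology i)) →
      ∀ (L₁ L₂ : DRing.Cx R) (f : L₁ ⟶ L₂), QuasiIso f → QuasiIso (f ▷ K)) ∧
    (∀ (P Q : DRing.Cx R) (α : P ⟶ Q), (∀ L : DRing.Cx R, (∀ i : ℤ, IsZero (L.homology i)) → ∀ i : ℤ, IsZero ((L ⊗ P).homology i)) →
      (∀ L : DRing.Cx R, (∀ i : ℤ, IsZero (L.homology i)) → ∀ i : ℤ, IsZero ((L ⊗ Q).homology i)) → QuasiIso α →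
        ∀ L : DRing.Cx R, QuasiIso (L ◁ α)) := by
  refine ⟨fun K hK L₁ L₂ f hf => ?_, fun P Q α hP hQ hα L => ?_⟩
  · haveI := hf
    exact ((Groth.Agent.DCat.isKFlat_iff K).1 hK).quasiIso_map f
  · haveI := hα
    exact Groth.Agent.DCat.quasiIso_tot_of_kflat ((Groth.Agent.DCat.isKFlat_iff P).1 hP)
      ((Groth.Agent.DCat.isKFlat_iff Q).1 hQ) α L


end Groth.Agent.S6907
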