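import Groth.Statements.S6908
import Groth.Agent.DCat.KFlatRes

set_option autoImplicit false
set_option backward.isDefEq.respectTransparency false
set_option backward.defeqAttrib.useBackward true
universe u
open CategoryTheory CategoryTheory.Limits MonoidalCategory
open DRing

namespace Groth.Agent.S6908

/-- For a morphism `a : K• → L•` of complexes of `R`-modules with `K•` K-flat, there are a K-flat
complex `N•`, maps `b : K• → N•` and `c : N• → L•` with `c` a quasi-isomorphism and `a` homotopic to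
`c ∘ b`; if the terms of `K•` are flat, `N•` may be chosen with flat terms as well. -/
theorem result (R : Type u) [CommRing R] (K L : DRing.Cx R) (a : K ⟶ L)
    (hK : (∀ L : DRing.Cx R, (∀ i : ℤ, IsZero (L.homology i)) → ∀ i : ℤ, IsZero ((L ⊗ K).homology i))) :
    (∃ (N : DRing.Cx R) (b : K ⟶ N) (c : N ⟶ L), (∀ L : DRing.Cx R, (∀ i : ℤ, IsZero (L.homology i)) → ∀ i : ℤ, IsZero ((L ⊗ N).homology i)) ∧
      QuasiIso c ∧ Nonempty (Homotopy a (b ≫ c))) ∧
    (DRing.TermwiseFlat K → ∃ (N : DRing.Cx R) (b : K ⟶ N) (c : N ⟶ L), (∀ L : DRing.Cx R, (∀ i : ℤ, IsZero (L.homology i)) → ∀ i : ℤ, IsZero ((L ⊗ N).homology i)) ∧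
      DRing.TermwiseFlat N ∧ QuasiIso c ∧ Nonempty (Homotopy a (b ≫ c))) := by
  obtain ⟨N, b, c, hN, hc, -, h, hflat⟩ :=
    Groth.Agent.DCat.exists_kflat_res a ((Groth.Agent.DCat.isKFlat_iff K).1 hK)
  exact ⟨⟨N, b, c, (Groth.Agent.DCat.isKFlat_iff N).2 hN, hc, ⟨Homotopy.ofEq h.symm⟩⟩,
    fun hK' => ⟨N, b, c, (Groth.Agent.DCat.isKFlat_iff N).2 hN, hflat hK', hc, ⟨Homotopy.ofEq h.symm⟩⟩⟩


end Groth.Agent.S6908
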