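import Mathlib.RingTheory.Noetherian.Basic
import Mathlib.RingTheory.Jacobson.Ideal
import Mathlib.RingTheory.Finiteness.Defs
import Mathlib.Algebra.Exact.Basic
import Mathlib.Algebra.Algebra.Operations
import Mathlib

set_option autoImplicit false
universe u
namespace CAlg
end CAlg
open CAlg

namespace Groth.Agent.S6909

/-- Let `A` be a Noetherian ring, `I ⊆ A` an ideal inside the Jacobson radical, and `L → M → N` two
complexes `(f, g)` and `(f', g')` of finite `A`-modules with `f' ≡ f` modulo `I^{c+1}M` and `g' ≡ g`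
modulo `I^{c+1}N`. If `c` works in the Artin–Rees lemma for `f` and for `g` (that is `f(L) ∩ IⁿM ⊆
f(I^{n-c}L)` for `n ≥ c`, and likewise for `g`) and `(f, g)` is exact, then `c` works for `g'` and
`(f', g')` is exact. -/
theorem result {A : Type u} [CommRing A] [IsNoetherianRing A] (I : Ideal A)
    (hI : I ≤ Ideal.jacobson (⊥ : Ideal A)) {L M N : Type u} [AddCommGroup L] [Module A L] [Module.Finite A L]
    [AddCommGroup M] [Module A M] [Module.Finite A M] [AddCommGroup N] [Module A N] [Module.Finite A N]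
    (f f' : L →ₗ[A] M) (g g' : M →ₗ[A] N) (c : ℕ) (hgf : g.comp f = 0) (hgf' : g'.comp f' = 0)
    (hf : (∀ n : ℕ, c ≤ n → LinearMap.range f ⊓ (I ^ n • (⊤ : Submodule A M)) ≤ Submodule.map f (I ^ (n - c) • (⊤ : Submodule A L))))
    (hg : (∀ n : ℕ, c ≤ n → LinearMap.range g ⊓ (I ^ n • (⊤ : Submodule A N)) ≤ Submodule.map g (I ^ (n - c) • (⊤ : Submodule A M))))
    (hex : Function.Exact f g)
    (hff' : ∀ x : L, f x - f' x ∈ I ^ (c + 1) • (⊤ : Submodule A M))
    (hgg' : ∀ y : M, g y - g' y ∈ I ^ (c + 1) • (⊤ : Submodule A N)) :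
    (∀ n : ℕ, c ≤ n → LinearMap.range g' ⊓ (I ^ n • (⊤ : Submodule A N)) ≤ Submodule.map g' (I ^ (n - c) • (⊤ : Submodule A M))) ∧
    Function.Exact f' g' := by
  have step : ∀ (n k : ℕ), k + c ≤ n ∨ k = 0 → ∀ y, g' y ∈ I ^ n • (⊤ : Submodule A N) →
      ∃ y' ∈ I ^ k • (⊤ : Submodule A M), y - y' ∈ LinearMap.range f' := by
    intro n k
    induction k with
    | zero => exact fun _ y _ => ⟨y, by simp, by simp⟩
    | succ k ih =>
      intro hk y hy
      have hk' : k + 1 + c ≤ n := by omega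
      obtain ⟨y₁, hy₁, x₁, hx₁⟩ := ih (Or.inl (by omega)) y hy
      have e1 : g' y₁ = g' y := by
        have := LinearMap.congr_fun hgf' x₁
        rw [LinearMap.comp_apply, hx₁, map_sub, LinearMap.zero_apply, sub_eq_zero] at this
        exact this.symm
      have key : ∀ {P Q : Type u} [AddCommGroup P] [Module A P] [AddCommGroup Q] [Module A Q]
          (d : P →ₗ[A] Q) (i j : ℕ), (∀ p, d p ∈ I ^ j • (⊤ : Submodule A Q)) →
          ∀ p ∈ I ^ i • (⊤ : Submodule A P), d p ∈ I ^ (i + j) • (⊤ : Submodule A Q) := by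
        intro P Q _ _ _ _ d i j hd p hp
        refine Submodule.smul_induction_on hp (fun a ha q _ => ?_) (fun u v hu hv => ?_)
        · rw [map_smul, pow_add, Submodule.mul_smul]
          exact Submodule.smul_mem_smul ha (hd q)
        · rw [map_add]; exact add_mem hu hv
      have hanti : ∀ {P : Type u} [AddCommGroup P] [Module A P] {i j : ℕ}, i ≤ j →
          (I ^ j • (⊤ : Submodule A P)) ≤ I ^ i • ⊤ :=
        fun h => Submodule.smul_mono_left (Ideal.pow_le_pow_right h)
      have hgy : g y₁ ∈ I ^ (k + (c + 1)) • (⊤ : Submodule A N) := by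
        have h1 := key (g - g') k (c + 1) (fun p => hgg' p) y₁ hy₁
        have h2 : g' y₁ ∈ I ^ (k + (c + 1)) • (⊤ : Submodule A N) := hanti (by omega) (e1 ▸ hy)
        have := add_mem h1 h2
        rwa [LinearMap.sub_apply, sub_add_cancel] at this
      obtain ⟨z, hz, hzy⟩ := hg _ (by omega) ⟨⟨y₁, rfl⟩, hgy⟩
      have hz' : z ∈ I ^ (k + 1) • (⊤ : Submodule A M) := hanti (by omega) hz
      obtain ⟨x, hx⟩ := (hex (y₁ - z)).1 (by rw [map_sub, hzy, sub_self])
      have hfx : f x ∈ I ^ k • (⊤ : Submodule A M) := hx ▸ sub_mem hy₁ (hanti (Nat.le_succ k) hz')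
      obtain ⟨x', hx', hfx'⟩ : ∃ x' ∈ I ^ (k - c) • (⊤ : Submodule A L), f x' = f x := by
        by_cases hkc : c ≤ k
        · exact hf k hkc ⟨⟨x, rfl⟩, hfx⟩
        · exact ⟨x, by rw [Nat.sub_eq_zero_of_le (by omega)]; simp, rfl⟩
      refine ⟨y₁ - f' x', ?_, x₁ + x', by rw [map_add, hx₁]; abel⟩
      have h3 : (f - f') x' ∈ I ^ (k + 1) • (⊤ : Submodule A M) :=
        hanti (by omega) (key (f - f') (k - c) (c + 1) (fun p => hff' p) x' hx')
      have : y₁ - f' x' = z + (f - f') x' := by rw [LinearMap.sub_apply, hfx', hx]; abel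
      exact this ▸ add_mem hz' h3
  refine ⟨fun n hn => ?_, ?_⟩
  · rintro _ ⟨⟨y, rfl⟩, hy⟩
    obtain ⟨y', hy', x, hx⟩ := step n (n - c) (Or.inl (by omega)) y hy
    refine ⟨y', hy', ?_⟩
    have := LinearMap.congr_fun hgf' x
    rw [LinearMap.comp_apply, hx, map_sub, LinearMap.zero_apply, sub_eq_zero] at this
    exact this.symm
  · refine LinearMap.exact_of_comp_eq_zero_of_ker_le_range hgf' fun y hy => ?_
    rw [← Submodule.Quotient.mk_eq_zero]
    refine (IsHausdorff.of_le_jacobson I (M ⧸ LinearMap.range f') hI).haus _ fun k => ?_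
    rw [SModEq.zero]
    obtain ⟨y', hy', hyy⟩ := step (k + c) k (Or.inl le_rfl) y (by rw [LinearMap.mem_ker.1 hy]; exact zero_mem _)
    rw [(Submodule.Quotient.eq _).2 hyy]
    have h1 := Submodule.mem_map_of_mem (f := (LinearMap.range f').mkQ) hy'
    rw [Submodule.map_smul''] at h1
    exact Submodule.smul_mono le_rfl le_top h1

end Groth.Agent.S6909
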