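import Mathlib.RingTheory.Noetherian.Basic
import Mathlib.RingTheory.Jacobson.Ideal
import Mathlib.RingTheory.Finiteness.Defs
import Mathlib.Algebra.Exact.Basic
import Mathlib.Algebra.Algebra.Operations
import Mathlib

set_option autoImplicit false
universe u
namespace CAlg
end CAlg
open CAlg

namespace Groth.Agent.S6910

/-- Let `A` be a Noetherian ring, `I ⊆ A` an ideal inside the Jacobson radical, and `L → M → N` two
complexes `(f, g)` and `(f', g')` of finite `A`-modules with `f' ≡ f` modulo `I^{c+1}M` and `g' ≡ g`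
modulo `I^{c+1}N`, such that the Artin–Rees bound holds with constant `c` for both `f` and `g`, and
`(f, g)` is exact. Then for every `n` the submodules `I^{n+1}N + g(M) ∩ IⁿN` and `I^{n+1}N + g'(M) ∩
IⁿN` of `N` are equal; consequently the associated graded modules of `Coker g` and `Coker g'` with
respect to `I` coincide degreewise as subquotients of `N`. -/
theorem result {A : Type u} [CommRing A] [IsNoetherianRing A] (I : Ideal A)
    (hI : I ≤ Ideal.jacobson (⊥ : Ideal A)) {L M N : Type u} [AddCommGroup L] [Module A L] [Module.Finite A L]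
    [AddCommGroup M] [Module A M] [Module.Finite A M] [AddCommGroup N] [Module A N] [Module.Finite A N]
    (f f' : L →ₗ[A] M) (g g' : M →ₗ[A] N) (c : ℕ) (hgf : g.comp f = 0) (hgf' : g'.comp f' = 0)
    (hf : (∀ n : ℕ, c ≤ n → LinearMap.range f ⊓ (I ^ n • (⊤ : Submodule A M)) ≤ Submodule.map f (I ^ (n - c) • (⊤ : Submodule A L))))
    (hg : (∀ n : ℕ, c ≤ n → LinearMap.range g ⊓ (I ^ n • (⊤ : Submodule A N)) ≤ Submodule.map g (I ^ (n - c) • (⊤ : Submodule A M))))
    (hex : Function.Exact f g)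
    (hff' : ∀ x : L, f x - f' x ∈ I ^ (c + 1) • (⊤ : Submodule A M))
    (hgg' : ∀ y : M, g y - g' y ∈ I ^ (c + 1) • (⊤ : Submodule A N)) (n : ℕ) :
    I ^ (n + 1) • (⊤ : Submodule A N) ⊔ (LinearMap.range g ⊓ I ^ n • (⊤ : Submodule A N)) =
      I ^ (n + 1) • (⊤ : Submodule A N) ⊔ (LinearMap.range g' ⊓ I ^ n • (⊤ : Submodule A N)) := by
  have hd : ∀ {V W : Type u} [AddCommGroup V] [AddCommGroup W] [Module A V] [Module A W] (φ : V →ₗ[A] W) (a b : ℕ),
      (∀ v, φ v ∈ I ^ a • (⊤ : Submodule A W)) → ∀ v ∈ I ^ b • (⊤ : Submodule A V), φ v ∈ I ^ (b + a) • (⊤ : Submodule A W) := by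
    intro V W _ _ _ _ φ a b h v hv
    have h1 : φ v ∈ Submodule.map φ (I ^ b • ⊤) := ⟨v, hv, rfl⟩
    rw [Submodule.map_smul'', Submodule.map_top] at h1
    rw [pow_add, Submodule.mul_smul]
    exact Submodule.smul_mono le_rfl (by rintro w ⟨u, rfl⟩; exact h u) h1
  have hpm : ∀ {V : Type u} [AddCommGroup V] [Module A V] {a b : ℕ}, a ≤ b → I ^ b • (⊤ : Submodule A V) ≤ I ^ a • ⊤ :=
    fun h => Submodule.smul_mono_left (Ideal.pow_le_pow_right h)
  have hd1 : ∀ y, (g - g') y ∈ I ^ (c + 1) • (⊤ : Submodule A N) := fun y => by simpa using hgg' y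
  have hd2 : ∀ y, (f - f') y ∈ I ^ (c + 1) • (⊤ : Submodule A M) := fun y => by simpa using hff' y
  have hg' : ∀ j, j + c ≤ n → ∀ m, g' m ∈ I ^ n • (⊤ : Submodule A N) →
      ∃ m' ∈ I ^ j • (⊤ : Submodule A M), g' m' = g' m := by
    intro j
    induction j with
    | zero => intro _ m _; exact ⟨m, by simp, rfl⟩
    | succ j ih =>
      intro hj m hm
      obtain ⟨m₁, hm₁, hm₁'⟩ := ih (by omega) m hm
      have hgm : g m₁ ∈ I ^ (j + (c + 1)) • (⊤ : Submodule A N) := by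
        have h2 := hd _ (c + 1) j hd1 m₁ hm₁
        have : g m₁ = (g - g') m₁ + g' m₁ := by simp
        rw [this, hm₁']
        exact add_mem h2 (hpm (by omega) hm)
      obtain ⟨m₂, hm₂, hm₂'⟩ := hg (j + (c + 1)) (by omega) ⟨⟨m₁, rfl⟩, hgm⟩
      have hm₂1 : m₂ ∈ I ^ (j + 1) • (⊤ : Submodule A M) := hpm (by omega) hm₂
      obtain ⟨x, hx⟩ := (hex (m₁ - m₂)).1 (by rw [map_sub, hm₂', sub_self])
      have hdiff : m₁ - m₂ ∈ I ^ j • (⊤ : Submodule A M) := sub_mem hm₁ (hpm (Nat.le_succ j) hm₂1)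
      obtain ⟨x', hx', hfx'⟩ : ∃ x' : L, (f - f') x' ∈ I ^ (j + 1) • (⊤ : Submodule A M) ∧ f x' = m₁ - m₂ := by
        rcases le_or_gt c j with hcj | hcj
        · obtain ⟨x', hx', hfx'⟩ := hf j hcj ⟨⟨x, hx⟩, hdiff⟩
          exact ⟨x', hpm (by omega) (hd _ (c + 1) (j - c) hd2 x' hx'), hfx'⟩
        · exact ⟨x, hpm (by omega) (hd2 x), hx⟩
      refine ⟨m₁ - f' x', ?_, ?_⟩
      · have : m₁ - f' x' = m₂ + (f - f') x' := by rw [LinearMap.sub_apply, hfx']; abel
        rw [this]; exact add_mem hm₂1 hx'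
      · rw [map_sub, ← LinearMap.comp_apply g' f', hgf', LinearMap.zero_apply, sub_zero, hm₁']
  apply le_antisymm
  · refine sup_le le_sup_left ?_
    rintro _ ⟨⟨m, rfl⟩, hm⟩
    obtain ⟨m', hm', hgm⟩ : ∃ m' : M, (g - g') m' ∈ I ^ (n + 1) • (⊤ : Submodule A N) ∧ g m' = g m := by
      rcases le_or_gt c n with h | h
      · obtain ⟨m', h1, h2⟩ := hg n h ⟨⟨m, rfl⟩, hm⟩
        exact ⟨m', hpm (by omega) (hd _ (c + 1) (n - c) hd1 m' h1), h2⟩
      · exact ⟨m, hpm (by omega) (hd1 m), rfl⟩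
    refine Submodule.mem_sup.2 ⟨(g - g') m', hm', g' m', ⟨⟨m', rfl⟩, ?_⟩, by simp [hgm]⟩
    have : g' m' = g m' - (g - g') m' := by simp
    rw [this, hgm]
    exact sub_mem hm (hpm n.le_succ hm')
  · refine sup_le le_sup_left ?_
    rintro _ ⟨⟨m, rfl⟩, hm⟩
    obtain ⟨m', hm', hgm⟩ : ∃ m' : M, (g - g') m' ∈ I ^ (n + 1) • (⊤ : Submodule A N) ∧ g' m' = g' m := by
      rcases le_or_gt c n with h | h
      · obtain ⟨m', h1, h2⟩ := hg' (n - c) (by omega) m hm
        exact ⟨m', hpm (by omega) (hd _ (c + 1) (n - c) hd1 m' h1), h2⟩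
      · exact ⟨m, hpm (by omega) (hd1 m), rfl⟩
    refine Submodule.mem_sup.2 ⟨-(g - g') m', neg_mem hm', g m', ⟨⟨m', rfl⟩, ?_⟩, by simp [hgm]⟩
    have : g m' = g' m' + (g - g') m' := by simp
    rw [this, hgm]
    exact add_mem hm (hpm n.le_succ hm')

end Groth.Agent.S6910
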