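import Mathlib.RingTheory.Noetherian.Basic
import Mathlib.RingTheory.Finiteness.Defs
import Mathlib.RingTheory.Flat.Basic
import Mathlib.RingTheory.TensorProduct.Basic
import Mathlib.Algebra.Algebra.Operations
import Mathlib

set_option autoImplicit false
universe u
namespace TensorProduct
end TensorProduct
open TensorProduct
namespace CAlg
end CAlg
open CAlg

namespace Groth.Agent.S6911

/-- Let `A → B` be a flat map of Noetherian rings, `I ⊆ A` an ideal and `f : M → N` a map of finite
`A`-modules such that `c` works for `f` in the Artin–Rees lemma (`f(M) ∩ IⁿN ⊆ f(I^{n-c}M)` for `n ≥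
c`). Then `c` works for `f ⊗ 1 : M ⊗_A B → N ⊗_A B` and the ideal `IB`. -/
theorem result {A B : Type u} [CommRing A] [IsNoetherianRing A] [CommRing B]
    [IsNoetherianRing B] [Algebra A B] [Module.Flat A B] (I : Ideal A) {M N : Type u} [AddCommGroup M] [Module A M]
    [Module.Finite A M] [AddCommGroup N] [Module A N] [Module.Finite A N] (f : M →ₗ[A] N) (c : ℕ)
    (hf : (∀ n : ℕ, c ≤ n → LinearMap.range f ⊓ (I ^ n • (⊤ : Submodule A N)) ≤ Submodule.map f (I ^ (n - c) • (⊤ : Submodule A M)))) :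
    ∀ n : ℕ, c ≤ n →
      LinearMap.range (f.baseChange B) ⊓ ((I.map (algebraMap A B)) ^ n • (⊤ : Submodule B (B ⊗[A] N))) ≤
        Submodule.map (f.baseChange B) ((I.map (algebraMap A B)) ^ (n - c) • (⊤ : Submodule B (B ⊗[A] M))) := by
  intro n hn x hx
  obtain ⟨hx1, hx2⟩ := hx
  set K : Submodule A N := I ^ n • ⊤
  let C := N ⧸ LinearMap.range f
  let q : N →ₗ[A] C := (LinearMap.range f).mkQ
  have hJ : ∀ (V : Type u) [AddCommGroup V] [Module A V] (k : ℕ),
      (I.map (algebraMap A B)) ^ k • (⊤ : Submodule B (B ⊗[A] V)) ≤ LinearMap.range ((I ^ k • ⊤ : Submodule A V).subtype.baseChange B) := by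
    intro V _ _ k
    refine Submodule.smul_le.2 fun b hb z hz0 => ?_
    clear hz0
    rw [← Ideal.map_pow] at hb
    refine Submodule.span_induction (p := fun b _ => b • z ∈ LinearMap.range ((I ^ k • ⊤ : Submodule A V).subtype.baseChange B)) ?_ ?_ ?_ ?_ hb
    · rintro _ ⟨a, ha, rfl⟩
      rw [algebraMap_smul]
      induction z with
      | zero => simp
      | add z w hz hw => rw [smul_add]; exact add_mem hz hw
      | tmul c v => exact ⟨c ⊗ₜ ⟨a • v, Submodule.smul_mem_smul ha Submodule.mem_top⟩, by simp [TensorProduct.tmul_smul]⟩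
    · simp
    · intro b b' _ _ h h'; rw [add_smul]; exact add_mem h h'
    · intro c b _ h; rw [smul_eq_mul, mul_smul]; exact Submodule.smul_mem _ c h
  have hJ' : ∀ (k : ℕ) (z : B ⊗[A] (I ^ k • ⊤ : Submodule A M)),
      (I ^ k • ⊤ : Submodule A M).subtype.baseChange B z ∈ (I.map (algebraMap A B)) ^ k • (⊤ : Submodule B (B ⊗[A] M)) := by
    intro k z
    induction z with
    | zero => simp
    | add z w hz hw => rw [map_add]; exact add_mem hz hw
    | tmul c v =>
      rw [LinearMap.baseChange_tmul]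
      obtain ⟨v, hv⟩ := v
      show c ⊗ₜ[A] v ∈ _
      refine Submodule.smul_induction_on hv (fun a ha w _ => ?_) fun w w' hw hw' => by rw [TensorProduct.tmul_add]; exact add_mem hw hw'
      rw [TensorProduct.tmul_smul, ← algebraMap_smul B a (c ⊗ₜ[A] w), ← Ideal.map_pow]
      exact Submodule.smul_mem_smul (Ideal.mem_map_of_mem _ ha) Submodule.mem_top
  obtain ⟨y, rfl⟩ := hJ N n hx2
  obtain ⟨w, hw⟩ := hx1
  let qK : K →ₗ[A] C := q ∘ₗ K.subtype
  have hex : Function.Exact ((LinearMap.ker qK).subtype.lTensor B) (qK.lTensor B) :=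
    Module.Flat.lTensor_exact B (LinearMap.exact_subtype_ker_map qK)
  have hy : qK.lTensor B y = 0 := by
    have h1 : qK.lTensor B y = q.baseChange B (K.subtype.baseChange B y) := by
      simp only [qK, LinearMap.lTensor_comp, LinearMap.comp_apply]
      rfl
    rw [h1, ← hw]
    show q.lTensor B (f.lTensor B w) = 0
    rw [← LinearMap.comp_apply, ← LinearMap.lTensor_comp]
    rw [show q ∘ₗ f = 0 from LinearMap.range_mkQ_comp f]
    simp
  obtain ⟨z, rfl⟩ := (hex y).1 hy
  clear hy hw hx2
  induction z with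
  | zero => simp
  | add z z' hz hz' => simp only [map_add] at *; exact add_mem hz hz'
  | tmul c' v =>
    obtain ⟨⟨v, hvK⟩, hv⟩ := v
    have hvr : v ∈ LinearMap.range f := (Submodule.Quotient.mk_eq_zero _).1 hv
    obtain ⟨u, hu, huv⟩ := hf n hn ⟨hvr, hvK⟩
    refine ⟨c' ⊗ₜ u, ?_, ?_⟩
    · simpa using hJ' (n - c) (c' ⊗ₜ ⟨u, hu⟩)
    · simp [huv]

end Groth.Agent.S6911
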