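import Mathlib.LinearAlgebra.Dimension.Basic
import Mathlib.LinearAlgebra.TensorProduct.Basic
import Mathlib.Algebra.Module.FinitePresentation
import Mathlib

set_option autoImplicit false
universe u
namespace TensorProduct
end TensorProduct
open TensorProduct
namespace CAlg
end CAlg
open CAlg

namespace Groth.Agent.S6912

/-- Let `R` be a domain and `M`, `N` two `R`-modules; rank means dimension over the fraction field after
base change. Then `rank (M ⊗_R N) = rank M · rank N`, and when `M` is finitely presented also `rank
Hom_R(M, N) = rank M · rank N`. -/
theorem result (R : Type u) [CommRing R] [IsDomain R] (M N : Type u)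
    [AddCommGroup M] [Module R M] [AddCommGroup N] [Module R N] :
    Module.rank R (M ⊗[R] N) = Module.rank R M * Module.rank R N ∧
    (Module.FinitePresentation R M → Module.rank R (M →ₗ[R] N) = Module.rank R M * Module.rank R N) := by
  have hK : ∀ (V : Type u) [AddCommGroup V] [Module R V],
      Module.rank (FractionRing R) (LocalizedModule (nonZeroDivisors R) V) = Module.rank R V := by
    intro V _ _
    rw [IsLocalization.rank_eq (FractionRing R) (nonZeroDivisors R) le_rfl]
    exact IsLocalizedModule.rank_eq (nonZeroDivisors R) le_rfl (LocalizedModule.mkLinearMap (nonZeroDivisors R) V)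
  refine ⟨?_, fun hfp => ?_⟩
  · have h1 := IsBaseChange.rank_eq (R := R) (T := FractionRing R)
      (g := TensorProduct.mk R (FractionRing R) (M ⊗[R] N) 1) (TensorProduct.isBaseChange R _ _)
    have h2 := IsBaseChange.rank_eq (R := R) (T := FractionRing R)
      (g := TensorProduct.mk R (FractionRing R) M 1) (TensorProduct.isBaseChange R _ _)
    have h3 := IsBaseChange.rank_eq (R := R) (T := FractionRing R)
      (g := TensorProduct.mk R (FractionRing R) N 1) (TensorProduct.isBaseChange R _ _)
    rw [← h1, ← h2, ← h3, LinearEquiv.rank_eq (TensorProduct.AlgebraTensorModule.distribBaseChange R (FractionRing R) M N)]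
    exact rank_tensorProduct'
  · rw [← IsLocalizedModule.rank_eq (nonZeroDivisors R) le_rfl (LocalizedModule.mkLinearMap (nonZeroDivisors R) (M →ₗ[R] N)),
      ← hK M, ← hK N, LinearEquiv.rank_eq (Module.FinitePresentation.linearEquivMapExtendScalars (nonZeroDivisors R) (M := M) (N := N)),
      ← IsLocalization.rank_eq (Localization (nonZeroDivisors R)) (nonZeroDivisors R) le_rfl]
    haveI : Module.Finite (FractionRing R) (LocalizedModule (nonZeroDivisors R) M) :=
      Module.Finite.of_isLocalizedModule (nonZeroDivisors R) (LocalizedModule.mkLinearMap (nonZeroDivisors R) M)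
    rw [Module.rank_linearMap, Cardinal.lift_id, Cardinal.lift_id]

end Groth.Agent.S6912
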