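import Mathlib.LinearAlgebra.Dimension.Finrank
import Mathlib.RingTheory.Finiteness.Defs
import Mathlib.Algebra.Module.LocalizedModule.Basic
import Mathlib.RingTheory.Localization.Away.Basic
import Mathlib.LinearAlgebra.FreeModule.Basic
import Mathlib.LinearAlgebra.Dimension.Localization
import Groth.Agent.CAlgMisc2.Reflexive

set_option autoImplicit false
universe u
namespace CAlg
end CAlg
open CAlg

namespace Groth.Agent.S6913

/-- Let `R` be a domain and `M` a finite `R`-module, of (finite) rank `r`. Then: some linear map `M →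
R^r` has torsion kernel and torsion cokernel; some nonzero `f ∈ R` makes `M_f` free of rank `r` over
`R_f`; and some injective linear map `R^r → M` has torsion cokernel. -/
theorem result (R : Type u) [CommRing R] [IsDomain R] (M : Type u) [AddCommGroup M]
    [Module R M] [Module.Finite R M] :
    (∃ h : M →ₗ[R] (Fin (Module.finrank R M) → R),
      (∀ x : M, h x = 0 → ∃ c : R, c ≠ 0 ∧ c • x = 0) ∧
      (∀ y : Fin (Module.finrank R M) → R, ∃ c : R, c ≠ 0 ∧ c • y ∈ LinearMap.range h)) ∧
    (∃ f : R, f ≠ 0 ∧ Module.Free (Localization.Away f) (LocalizedModule (Submonoid.powers f) M) ∧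
      Module.finrank (Localization.Away f) (LocalizedModule (Submonoid.powers f) M) = Module.finrank R M) ∧
    (∃ g : (Fin (Module.finrank R M) → R) →ₗ[R] M, Function.Injective g ∧
      ∀ x : M, ∃ c : R, c ≠ 0 ∧ c • x ∈ LinearMap.range g) := by
  obtain ⟨c, g, h, hc, hg, hhg, hgh⟩ := Groth.Agent.CAlgMisc2.exists_rank_maps R M
  refine ⟨⟨h, fun x hx => ⟨c, hc, by rw [← hgh, hx, map_zero]⟩, fun y => ⟨c, hc, g y, hhg y⟩⟩,
    ⟨c, hc, ?_⟩, ⟨g, hg, fun x => ⟨c, hc, h x, hgh x⟩⟩⟩
  have hnz : (0 : R) ∉ Submonoid.powers c := fun ⟨n, hn⟩ => pow_ne_zero n hc hn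
  have : IsDomain (Localization.Away c) :=
    IsLocalization.isDomain_localization (powers_le_nonZeroDivisors_of_noZeroDivisors hc)
  let gc := LocalizedModule.map (Submonoid.powers c) g
  have hgc : Function.Bijective gc := ⟨(Groth.Agent.CAlgMisc1.injective_map_iff _ g).2
      fun v hv => ⟨1, one_mem _, by rw [one_smul]; exact hg (by rw [hv, map_zero])⟩,
    (Groth.Agent.CAlgMisc1.surjective_map_iff _ g).2 fun x => ⟨c, Submonoid.mem_powers c, h x, hgh x⟩⟩
  let e := ((LinearEquiv.ofBijective gc hgc).symm).trans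
    ((LocalizedModule.equivTensorProduct (Submonoid.powers c) (Fin (Module.finrank R M) → R)).trans
      (TensorProduct.piScalarRight R (Localization.Away c) (Localization.Away c) (Fin (Module.finrank R M))))
  refine ⟨Module.Free.of_equiv e.symm, ?_⟩
  rw [e.finrank_eq, Module.finrank_fin_fun]

end Groth.Agent.S6913
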