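import Groth.Prelude.Def_Fitting
import Groth.Prelude.Def_BlowUp2
import Groth.Prelude.Def_FlatCA
import Mathlib.RingTheory.TensorProduct.Basic
import Mathlib.LinearAlgebra.Quotient.Basic
import Mathlib.RingTheory.Finiteness.Defs
import Mathlib.Algebra.Algebra.Equiv
import Groth.Agent.FittLib.StrictTransform

set_option autoImplicit false
universe u
namespace TensorProduct
end TensorProduct
open TensorProduct
namespace Fitt
end Fitt
open Fitt

namespace Groth.Agent.S6914
open TensorProduct

/-- Let `M` be a finite `R`-module, `k ≥ 0`, `I = Fit_k(M)` and `a ∈ I`; let `R₁ ≅ R[I/a]` be (a copy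
of) the affine blow-up algebra and `M' = (M ⊗_R R₁)/(a-power torsion)` the strict transform. Then
`Fit_k(M') = R₁`. -/
theorem result {R : Type u} [CommRing R] (M : Type u) [AddCommGroup M] [Module R M]
    [Module.Finite R M] (k : ℕ) (a : R) (ha : a ∈ Fitt.ideal R M k)
    (R₁ : Type u) [CommRing R₁] [Algebra R R₁] (e : R₁ ≃ₐ[R] ↥(BlowUp.affineAlgebra R (Fitt.ideal R M k) a)) :
    Fitt.ideal R₁ ((R₁ ⊗[R] M) ⧸ FlatCA.powTorsion R₁ (algebraMap R R₁ a) (R₁ ⊗[R] M)) k = ⊤ := by
  exact Groth.Agent.FittLib.ideal_strictTransform_eq_top k ha rfl e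

end Groth.Agent.S6914
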