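import Groth.Prelude.Def_Fitting
import Groth.Prelude.Def_BlowUp2
import Groth.Prelude.Def_FlatCA
import Mathlib.RingTheory.TensorProduct.Basic
import Mathlib.LinearAlgebra.Quotient.Basic
import Mathlib.RingTheory.Finiteness.Defs
import Mathlib.RingTheory.Localization.AtPrime.Basic
import Mathlib.RingTheory.Localization.Away.Basic
import Mathlib.LinearAlgebra.FreeModule.Basic
import Mathlib.LinearAlgebra.Dimension.Finrank
import Mathlib.Algebra.Algebra.Equiv
import Groth.Agent.FittLib.StrictTransform

set_option autoImplicit false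
universe u
namespace TensorProduct
end TensorProduct
open TensorProduct
namespace Fitt
end Fitt
open Fitt

namespace Groth.Agent.S6915
open TensorProduct

/-- Let `M` be a finite `R`-module, `k ≥ 0` and `I = Fit_k(M)`, and assume `M_𝔭` is free of rank `k` for
every prime `𝔭` not containing `I`. Then for every `a ∈ I` and (a copy `R₁` of) the affine blow-up
algebra `R[I/a]`, the strict transform `M' = (M ⊗_R R₁)/(a-power torsion)` is finite locally free of
rank `k`: every prime of `R₁` has a basic open neighbourhood over which `M'` is free of rank `k`. -/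
theorem result {R : Type u} [CommRing R] (M : Type u) [AddCommGroup M]
    [Module R M] [Module.Finite R M] (k : ℕ)
    (hfree : ∀ (p : Ideal R) [p.IsPrime], ¬ Fitt.ideal R M k ≤ p →
      Module.Free (Localization.AtPrime p) (LocalizedModule p.primeCompl M) ∧
        Module.finrank (Localization.AtPrime p) (LocalizedModule p.primeCompl M) = k)
    (a : R) (ha : a ∈ Fitt.ideal R M k) (R₁ : Type u) [CommRing R₁] [Algebra R R₁] (e : R₁ ≃ₐ[R] ↥(BlowUp.affineAlgebra R (Fitt.ideal R M k) a)) :
    ∀ (p' : Ideal R₁) [p'.IsPrime], ∃ g : R₁, g ∉ p' ∧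
      Module.Free (Localization.Away g) (LocalizedModule (Submonoid.powers g) ((R₁ ⊗[R] M) ⧸ FlatCA.powTorsion R₁ (algebraMap R R₁ a) (R₁ ⊗[R] M))) ∧
      Module.finrank (Localization.Away g) (LocalizedModule (Submonoid.powers g) ((R₁ ⊗[R] M) ⧸ FlatCA.powTorsion R₁ (algebraMap R R₁ a) (R₁ ⊗[R] M))) = k := by
  refine Groth.Agent.FittLib.strictTransform_locallyFree k (Groth.Agent.FittLib.self_mem_nonZeroDivisors_blowup e)
    (Groth.Agent.FittLib.ideal_strictTransform_eq_top k ha rfl e) fun j hj d hd => ?_
  refine Groth.Agent.FittLib.exists_pow_mul_eq_zero_of_forall_prime fun p hp hap => ?_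
  obtain ⟨hfr, hrank⟩ := hfree p fun hle => hap (hle ha)
  haveI : Module.Finite (Localization.AtPrime p) (LocalizedModule p.primeCompl M) :=
    Module.Finite.of_isLocalizedModule p.primeCompl (LocalizedModule.mkLinearMap p.primeCompl M)
  have h0 : Fitt.ideal (Localization p.primeCompl) (LocalizedModule p.primeCompl M) j = ⊥ :=
    Groth.Agent.FittLib.ideal_eq_bot_of_basis (Module.finBasisOfFinrankEq (Localization.AtPrime p) _ hrank) hj
  rw [Groth.Agent.FittLib.ideal_localizedModule, Ideal.map_eq_bot_iff_le_ker] at h0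
  obtain ⟨⟨s, hs⟩, hsd⟩ := (IsLocalization.map_eq_zero_iff p.primeCompl (Localization p.primeCompl) d).1 (h0 hd)
  exact ⟨s, hs, hsd⟩

end Groth.Agent.S6915
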