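import Groth.Statements.S6917
import Groth.Agent.HenselLib.MilnorGlue
import Mathlib.CategoryTheory.Limits.Shapes.Pullback.IsPullback.Basic

set_option autoImplicit false
universe u
open CategoryTheory
open EtAlg

namespace Groth.Agent.S6917

/-- Let `B' = B ×_A A'` be a fibre square of rings with `A' → A` surjective. Then `Spec(B') = Spec(B)
⨿_{Spec(A)} Spec(A')`: the square of prime spectra is a pushout of topological spaces. -/
theorem result (B' B A' A : Type u) [CommRing B'] [CommRing B] [CommRing A'] [CommRing A]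
    [Algebra B' B] [Algebra B' A'] [Algebra B A] [Algebra A' A] [Algebra B' A] [IsScalarTower B' B A] [IsScalarTower B' A' A]
    (hsq : EtMil.IsFibreSquare B' B A' A) :
    IsPushout (TopCat.ofHom (ContinuousMap.mk (PrimeSpectrum.comap (algebraMap B A)) (PrimeSpectrum.continuous_comap _))) (TopCat.ofHom (ContinuousMap.mk (PrimeSpectrum.comap (algebraMap A' A)) (PrimeSpectrum.continuous_comap _)))
      (TopCat.ofHom (ContinuousMap.mk (PrimeSpectrum.comap (algebraMap B' B)) (PrimeSpectrum.continuous_comap _)))
      (TopCat.ofHom (ContinuousMap.mk (PrimeSpectrum.comap (algebraMap B' A')) (PrimeSpectrum.continuous_comap _))) := by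
  classical
  have w := HenselLib.Milnor.isWeakSquare hsq
  have hp : Topology.IsClosedEmbedding (PrimeSpectrum.comap (algebraMap B' B)) :=
    PrimeSpectrum.isClosedEmbedding_comap_of_surjective B _ w.surjB
  have hcomm : ∀ z : PrimeSpectrum A, PrimeSpectrum.comap (algebraMap B' B)
      (PrimeSpectrum.comap (algebraMap B A) z) =
      PrimeSpectrum.comap (algebraMap B' A') (PrimeSpectrum.comap (algebraMap A' A) z) := by
    intro z
    apply PrimeSpectrum.ext
    simp only [PrimeSpectrum.comap_asIdeal, Ideal.comap_comap, ← IsScalarTower.algebraMap_eq]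
  -- points of `Spec A'` over `V(J)` come from `Spec A`
  have hA : ∀ (x : PrimeSpectrum B) (y : PrimeSpectrum A'),
      PrimeSpectrum.comap (algebraMap B' B) x = PrimeSpectrum.comap (algebraMap B' A') y →
      ∃ z, PrimeSpectrum.comap (algebraMap A' A) z = y ∧ PrimeSpectrum.comap (algebraMap B A) z = x := by
    intro x y h
    have hy : y ∈ Set.range (PrimeSpectrum.comap (algebraMap A' A)) := by
      rw [range_comap_of_surjective _ _ w.surjA]
      intro i hi
      obtain ⟨j, hj, rfl⟩ := w.lift i hi
      have : j ∈ (PrimeSpectrum.comap (algebraMap B' A') y).asIdeal := by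
        rw [← h, PrimeSpectrum.comap_asIdeal, Ideal.mem_comap, hj]; exact zero_mem _
      exact this
    obtain ⟨z, rfl⟩ := hy
    exact ⟨z, rfl, hp.injective ((hcomm z).trans h.symm)⟩
  -- away from `V(J)` the map from `Spec A'` is injective
  have hinj : ∀ y y' : PrimeSpectrum A',
      PrimeSpectrum.comap (algebraMap B' A') y = PrimeSpectrum.comap (algebraMap B' A') y' →
      (∀ x, PrimeSpectrum.comap (algebraMap B' B) x ≠ PrimeSpectrum.comap (algebraMap B' A') y) →
      y = y' := by
    intro y y' h hne
    obtain ⟨j₀, hj₀, hj₀'⟩ : ∃ j, algebraMap B' B j = 0 ∧ algebraMap B' A' j ∉ y.asIdeal := by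
      by_contra! hc
      have : PrimeSpectrum.comap (algebraMap B' A') y ∈
          Set.range (PrimeSpectrum.comap (algebraMap B' B)) := by
        rw [range_comap_of_surjective _ _ w.surjB]
        exact fun j hj => hc j hj
      obtain ⟨x, hx⟩ := this
      exact hne x hx
    have hmem : ∀ j, algebraMap B' A' j ∈ y.asIdeal ↔ algebraMap B' A' j ∈ y'.asIdeal := fun j => by
      have := congrArg (fun P : PrimeSpectrum B' => j ∈ P.asIdeal) h
      simpa using this.to_iff
    have hj₁ : algebraMap B' A' j₀ ∉ y'.asIdeal := fun hh => hj₀' ((hmem _).mpr hh)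
    apply PrimeSpectrum.ext
    ext a
    obtain ⟨j, -, hj'⟩ := w.lift (algebraMap B' A' j₀ * a) (by
      rw [map_mul, HenselLib.Milnor.map_kernels (B := B) j₀ hj₀, zero_mul])
    have e1 := y.2.mul_mem_iff_mem_or_mem (x := algebraMap B' A' j₀) (y := a)
    have e2 := y'.2.mul_mem_iff_mem_or_mem (x := algebraMap B' A' j₀) (y := a)
    rw [← hj', hmem] at e1
    rw [← hj'] at e2
    constructor <;> intro ha
    · exact (e2.mp (e1.mpr (Or.inr ha))).resolve_left hj₁
    · exact (e1.mp (e2.mpr (Or.inr ha))).resolve_left hj₀'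
  -- joint surjectivity
  have hsurj : ∀ P : PrimeSpectrum B', (∃ x, PrimeSpectrum.comap (algebraMap B' B) x = P) ∨
      ∃ y, PrimeSpectrum.comap (algebraMap B' A') y = P := by
    intro P
    by_cases hP : RingHom.ker (algebraMap B' B) ≤ P.asIdeal
    · left
      have : P ∈ Set.range (PrimeSpectrum.comap (algebraMap B' B)) := by
        rw [range_comap_of_surjective _ _ w.surjB]; exact hP
      exact this
    right
    obtain ⟨j₀, hj₀, hj₀'⟩ := SetLike.not_le_iff_exists.mp hP
    have hz : ∀ a, algebraMap A' A (algebraMap B' A' j₀ * a) = 0 := fun a => by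
      rw [map_mul, HenselLib.Milnor.map_kernels (B := B) j₀ hj₀, zero_mul]
    choose c hc hc' using fun a => w.lift _ (hz a)
    have hadd : ∀ a b, c (a + b) = c a + c b := fun a b =>
      HenselLib.Milnor.ext_of_isFibreSquare hsq (by simp [hc]) (by simp [hc', mul_add])
    have hmul : ∀ a b, j₀ * c (a * b) = c a * c b := fun a b =>
      HenselLib.Milnor.ext_of_isFibreSquare hsq (by simp [hc]) (by simp [hc']; ring)
    have hsm : ∀ b, c (algebraMap B' A' b) = j₀ * b := fun b =>
      HenselLib.Milnor.ext_of_isFibreSquare hsq (by rw [hc, map_mul, RingHom.mem_ker.mp hj₀, zero_mul])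
        (by rw [hc', map_mul])
    let Q : Ideal A' :=
      { carrier := {a | c a ∈ P.asIdeal}
        add_mem' := fun {a b} ha hb => by rw [Set.mem_setOf_eq, hadd]; exact add_mem ha hb
        zero_mem' := by
          have : c 0 = 0 := by rw [← map_zero (algebraMap B' A'), hsm, mul_zero]
          rw [Set.mem_setOf_eq, this]; exact zero_mem _
        smul_mem' := fun r a ha => by
          have : j₀ * c (r * a) ∈ P.asIdeal := hmul r a ▸ Ideal.mul_mem_left _ _ ha
          exact (P.2.mem_or_mem this).resolve_left hj₀' }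
    have hQ : Q.IsPrime := by
      refine ⟨fun htop => ?_, fun {a b} hab => ?_⟩
      · have : c 1 ∈ P.asIdeal := (Ideal.eq_top_iff_one _).mp htop
        rw [← map_one (algebraMap B' A'), hsm, mul_one] at this
        exact hj₀' this
      · have : c a * c b ∈ P.asIdeal := hmul a b ▸ Ideal.mul_mem_left _ _ hab
        exact P.2.mem_or_mem this
    refine ⟨⟨Q, hQ⟩, PrimeSpectrum.ext (Ideal.ext fun b => ?_)⟩
    change c (algebraMap B' A' b) ∈ P.asIdeal ↔ _
    rw [hsm]
    exact ⟨fun h => (P.2.mem_or_mem h).resolve_left hj₀', fun h => Ideal.mul_mem_left _ _ h⟩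
  -- the topology is the final one
  have hopen : ∀ U : Set (PrimeSpectrum B'), IsOpen (PrimeSpectrum.comap (algebraMap B' B) ⁻¹' U) →
      IsOpen (PrimeSpectrum.comap (algebraMap B' A') ⁻¹' U) → IsOpen U := by
    intro U hU1 hU2
    rw [isOpen_iff_forall_mem_open]
    intro P hP
    suffices ∃ h : B', h ∉ P.asIdeal ∧
        (∀ x : PrimeSpectrum B, algebraMap B' B h ∉ x.asIdeal →
          PrimeSpectrum.comap (algebraMap B' B) x ∈ U) ∧
        (∀ y : PrimeSpectrum A', algebraMap B' A' h ∉ y.asIdeal →
          PrimeSpectrum.comap (algebraMap B' A') y ∈ U) by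
      obtain ⟨h, h1, h2, h3⟩ := this
      refine ⟨PrimeSpectrum.basicOpen h, fun Q hQ => ?_, (PrimeSpectrum.basicOpen h).2, h1⟩
      rcases hsurj Q with ⟨x, rfl⟩ | ⟨y, rfl⟩
      · exact h2 x hQ
      · exact h3 y hQ
    obtain ⟨S, hS⟩ := (PrimeSpectrum.isOpen_iff _).mp hU2
    have hS' : ∀ y : PrimeSpectrum A', PrimeSpectrum.comap (algebraMap B' A') y ∈ U ↔ ¬ S ⊆ y.asIdeal := by
      intro y
      have := Set.ext_iff.mp hS y
      simp only [Set.mem_compl_iff, Set.mem_preimage, PrimeSpectrum.mem_zeroLocus] at this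
      tauto
    by_cases hPB : ∃ x, PrimeSpectrum.comap (algebraMap B' B) x = P
    · obtain ⟨x, rfl⟩ := hPB
      obtain ⟨_, ⟨_, ⟨g, rfl⟩, rfl⟩, hxg, hg⟩ :=
        PrimeSpectrum.isBasis_basic_opens.exists_subset_of_mem_open (show x ∈ PrimeSpectrum.comap (algebraMap B' B) ⁻¹' U from hP) hU1
      obtain ⟨h₀, rfl⟩ := w.surjB g
      -- `q h₀` lies in the radical of `span S + I`
      have hrad : algebraMap B' A' h₀ ∈
          (Ideal.span S ⊔ RingHom.ker (algebraMap A' A)).radical := by
        rw [Ideal.radical_eq_sInf, Submodule.mem_sInf]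
        rintro Y ⟨hY, hYp⟩
        by_contra hh
        have hy : (⟨Y, hYp⟩ : PrimeSpectrum A') ∈ Set.range (PrimeSpectrum.comap (algebraMap A' A)) := by
          rw [range_comap_of_surjective _ _ w.surjA]
          exact le_sup_right.trans hY
        obtain ⟨z, hz⟩ := hy
        have hz' : PrimeSpectrum.comap (algebraMap B A) z ∈ PrimeSpectrum.basicOpen (algebraMap B' B h₀) := by
          change algebraMap B A (algebraMap B' B h₀) ∉ z.asIdeal
          rw [← IsScalarTower.algebraMap_apply, IsScalarTower.algebraMap_apply B' A' A]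
          intro hmem
          exact hh (by rw [← show (PrimeSpectrum.comap (algebraMap A' A) z).asIdeal = Y from congrArg PrimeSpectrum.asIdeal hz]; exact hmem)
        have := hg hz'
        rw [Set.mem_preimage, hcomm, hz, hS'] at this
        exact this fun a ha => hY (Ideal.mem_sup_left (Ideal.subset_span ha))
      obtain ⟨n, hn⟩ := hrad
      obtain ⟨a, ha, i, hi, hai⟩ := Submodule.mem_sup.mp hn
      obtain ⟨j, hj, rfl⟩ := w.lift i hi
      refine ⟨(h₀ ^ (n + 1)) - h₀ * j, ?_, fun x' hx' => ?_, fun y hy => ?_⟩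
      · change algebraMap B' B _ ∉ x.asIdeal
        rw [map_sub, map_mul, hj, mul_zero, sub_zero, map_pow]
        exact fun hh => hxg (x.2.mem_of_pow_mem _ hh)
      · refine hg (fun hh => hx' ?_)
        rw [map_sub, map_mul, hj, mul_zero, sub_zero, map_pow]
        exact Ideal.pow_mem_of_mem _ hh _ n.succ_pos
      · rw [hS']
        intro hSy
        apply hy
        have : algebraMap B' A' (h₀ ^ (n + 1) - h₀ * j) = algebraMap B' A' h₀ * a := by
          rw [map_sub, map_mul, map_pow, pow_succ', ← hai]; ring
        rw [this]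
        exact Ideal.mul_mem_left _ _ (Ideal.span_le.mpr hSy ha)
    · rcases hsurj P with hx | ⟨y, rfl⟩
      · exact absurd hx hPB
      obtain ⟨j₀, hj₀, hj₀'⟩ : ∃ j, algebraMap B' B j = 0 ∧ algebraMap B' A' j ∉ y.asIdeal := by
        by_contra! hc
        apply hPB
        have : PrimeSpectrum.comap (algebraMap B' A') y ∈
            Set.range (PrimeSpectrum.comap (algebraMap B' B)) := by
          rw [range_comap_of_surjective _ _ w.surjB]
          exact fun j hj => hc j hj
        exact this
      obtain ⟨a, haS, ha⟩ := Set.not_subset.mp ((hS' y).mp hP)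
      obtain ⟨j, hj, hj'⟩ := w.lift (algebraMap B' A' j₀ * a) (by
        rw [map_mul, HenselLib.Milnor.map_kernels (B := B) j₀ hj₀, zero_mul])
      refine ⟨j, ?_, fun x' hx' => absurd ?_ hx', fun y' hy' => (hS' y').mpr fun hSy => hy' ?_⟩
      · change algebraMap B' A' j ∉ y.asIdeal
        rw [hj']
        exact fun hh => (y.2.mem_or_mem hh).elim hj₀' ha
      · rw [hj]; exact zero_mem _
      · rw [hj']; exact Ideal.mul_mem_left _ _ (hSy haS)
  refine ⟨⟨TopCat.ext fun z => hcomm z⟩, ⟨Limits.PushoutCocone.IsColimit.mk _ (fun s => ?_) ?_ ?_ ?_⟩⟩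
  · refine TopCat.ofHom ⟨fun P => if hP : ∃ x, PrimeSpectrum.comap (algebraMap B' B) x = P
      then s.inl hP.choose else s.inr ((hsurj P).resolve_left hP).choose, ?_⟩
    have key1 : ∀ x, (fun P => if hP : ∃ x, PrimeSpectrum.comap (algebraMap B' B) x = P
        then s.inl hP.choose else s.inr ((hsurj P).resolve_left hP).choose)
        (PrimeSpectrum.comap (algebraMap B' B) x) = s.inl x := fun x => by
      have he : ∃ x', PrimeSpectrum.comap (algebraMap B' B) x' = PrimeSpectrum.comap (algebraMap B' B) x := ⟨x, rfl⟩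
      simp only [dif_pos he]
      exact congrArg _ (hp.injective he.choose_spec)
    have key2 : ∀ y, (fun P => if hP : ∃ x, PrimeSpectrum.comap (algebraMap B' B) x = P
        then s.inl hP.choose else s.inr ((hsurj P).resolve_left hP).choose)
        (PrimeSpectrum.comap (algebraMap B' A') y) = s.inr y := fun y => by
      by_cases hP : ∃ x, PrimeSpectrum.comap (algebraMap B' B) x = PrimeSpectrum.comap (algebraMap B' A') y
      · simp only [dif_pos hP]
        obtain ⟨z, hz1, hz2⟩ := hA _ _ hP.choose_spec
        have := ConcreteCategory.congr_hom s.condition z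
        rw [← hz2, ← hz1]
        exact this
      · simp only [dif_neg hP]
        exact congrArg _ (hinj _ _ ((hsurj _).resolve_left hP).choose_spec.symm
          fun x hx => hP ⟨x, hx⟩).symm
    refine ⟨fun U hU => hopen _ ?_ ?_⟩
    · convert hU.preimage s.inl.hom.continuous using 1
      exact Set.ext fun x => iff_of_eq (congrArg (· ∈ U) (key1 x))
    · convert hU.preimage s.inr.hom.continuous using 1
      exact Set.ext fun y => iff_of_eq (congrArg (· ∈ U) (key2 y))
  · intro s
    refine TopCat.ext fun (x : PrimeSpectrum B) => ?_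
    have he : ∃ x', PrimeSpectrum.comap (algebraMap B' B) x' = PrimeSpectrum.comap (algebraMap B' B) x := ⟨x, rfl⟩
    refine (dif_pos he).trans ?_
    exact congrArg _ (hp.injective he.choose_spec)
  · intro s
    refine TopCat.ext fun (y : PrimeSpectrum A') => ?_
    by_cases hP : ∃ x, PrimeSpectrum.comap (algebraMap B' B) x = PrimeSpectrum.comap (algebraMap B' A') y
    · refine (dif_pos hP).trans ?_
      obtain ⟨z, hz1, hz2⟩ := hA _ _ hP.choose_spec
      have := ConcreteCategory.congr_hom s.condition z
      rw [← hz2, ← hz1]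
      exact this
    · refine (dif_neg hP).trans ?_
      exact congrArg _ (hinj _ _ ((hsurj _).resolve_left hP).choose_spec.symm
        fun x hx => hP ⟨x, hx⟩).symm
  · intro s m h1 h2
    refine TopCat.ext fun (P : PrimeSpectrum B') => ?_
    by_cases hP : ∃ x, PrimeSpectrum.comap (algebraMap B' B) x = P
    · refine Eq.trans ?_ (dif_pos hP).symm
      refine Eq.trans ?_ (ConcreteCategory.congr_hom h1 hP.choose)
      exact congrArg m hP.choose_spec.symm
    · refine Eq.trans ?_ (dif_neg hP).symm
      refine Eq.trans ?_ (ConcreteCategory.congr_hom h2 ((hsurj P).resolve_left hP).choose)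
      exact congrArg m ((hsurj P).resolve_left hP).choose_spec.symm

end Groth.Agent.S6917
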