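import Groth.Statements.S6920
import Mathlib.Algebra.Category.Ring.Epi
-- import your own Groth.Agent.* helpers here

set_option autoImplicit false
set_option linter.style.haveILetI false
universe u
open CategoryTheory CategoryTheory.Limits MonoidalCategory
open DRing
open TensorProduct

namespace Groth.Agent.S6920

/-- For an epimorphism of rings `φ : R → S` and a complex `I•` of `S`-modules, if the underlying complex
of `R`-modules of `I•` is K-injective, then `I•` itself is K-injective over `S`. -/
theorem result (R S : Type u) [CommRing R] [CommRing S] (φ : R →+* S)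
    (hφ : Epi (CommRingCat.ofHom φ)) (I : DRing.Cx S)
    [CochainComplex.IsKInjective ((DRing.restrictCx φ).obj I)] : CochainComplex.IsKInjective I := by
  letI := φ.toAlgebra
  haveI : Algebra.IsEpi R S := CommRingCat.epi_iff_epi.1 hφ
  haveI : (ModuleCat.restrictScalars φ).Full := ⟨fun {M N} g => by
    letI : Module R M := Module.compHom M φ
    letI : Module R N := Module.compHom N φ
    haveI : IsScalarTower R S M := IsScalarTower.of_algebraMap_smul fun _ _ => rfl
    haveI : IsScalarTower R S N := IsScalarTower.of_algebraMap_smul fun _ _ => rfl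
    let g₀ : M →ₗ[R] N := g.hom
    have key : ∀ (a : S) (m : M), g₀ (a • m) = a • g₀ m := fun a m => by
      have e : (1 : S) ⊗ₜ[R] (a • m) = a ⊗ₜ[R] m := Algebra.injective_lift_lsmul R S M (by simp)
      simpa using congrArg (TensorProduct.lift ((LinearMap.restrictScalars₁₂ R R (LinearMap.lsmul S N)).compl₂ g₀)) e
    exact ⟨ModuleCat.ofHom { toFun := g₀, map_add' := g₀.map_add, map_smul' := key }, rfl⟩⟩
  refine ⟨fun {K} f hK => ?_⟩
  have hK' : ((DRing.restrictCx φ).obj K).Acyclic := fun i => ((HomologicalComplex.exactAt_iff _ i).2
    (((HomologicalComplex.exactAt_iff _ i).1 (hK i)).map (ModuleCat.restrictScalars φ)))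
  obtain ⟨h⟩ := CochainComplex.IsKInjective.nonempty_homotopy_zero ((DRing.restrictCx φ).map f) hK'
  exact ⟨(ModuleCat.restrictScalars φ).preimageHomotopy (h.trans (Homotopy.ofEq (((ModuleCat.restrictScalars φ).mapHomologicalComplex (ComplexShape.up ℤ)).map_zero K I).symm))⟩

end Groth.Agent.S6920

#print axioms Groth.Agent.S6920.result
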