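import Groth.Statements.S6921
import Groth.Agent.HenselLib.MilnorGlue

set_option autoImplicit false
universe u
open TensorProduct
open EtAlg

namespace Groth.Agent.S6921

/-- Let `B' = B ×_A A'` be a fibre square of rings with `A' → A` surjective, `B' → D'` a ring map, and
`D = D' ⊗_{B'} B`, `C' = D' ⊗_{B'} A'`, `C = D' ⊗_{B'} A`. Let `N` be a finite `D`-module, `M'` a
finite `C'`-module and `φ : N ⊗_D C ≅ M' ⊗_{C'} C` a `C`-linear isomorphism. Then the glued module
`N ×_φ M'` is a finite `D'`-module. -/
theorem result (B' B A' A : Type u) [CommRing B'] [CommRing B] [CommRing A'] [CommRing A]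
    [Algebra B' B] [Algebra B' A'] [Algebra B A] [Algebra A' A] [Algebra B' A] [IsScalarTower B' B A] [IsScalarTower B' A' A]
    (hsq : EtMil.IsFibreSquare B' B A' A)
    (D' D C' C : Type u) [CommRing D'] [CommRing D] [CommRing C'] [CommRing C]
    [Algebra B' D'] [Algebra B D] [Algebra A' C'] [Algebra A C]
    [Algebra D' D] [Algebra B' D] [IsScalarTower B' B D] [IsScalarTower B' D' D] [Algebra.IsPushout B' B D' D]
    [Algebra D' C'] [Algebra B' C'] [IsScalarTower B' A' C'] [IsScalarTower B' D' C'] [Algebra.IsPushout B' A' D' C']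
    [Algebra D' C] [Algebra B' C] [IsScalarTower B' A C] [IsScalarTower B' D' C] [Algebra.IsPushout B' A D' C]
    [Algebra D C] [IsScalarTower D' D C] [Algebra B C] [IsScalarTower B A C] [IsScalarTower B D C]
    [Algebra C' C] [IsScalarTower D' C' C] [Algebra A' C] [IsScalarTower A' A C] [IsScalarTower A' C' C]
    {N M' : Type u} [AddCommGroup N] [Module D N] [Module D' N] [IsScalarTower D' D N]
    [AddCommGroup M'] [Module C' M'] [Module D' M'] [IsScalarTower D' C' M'] (φ : C ⊗[D] N ≃ₗ[C] C ⊗[C'] M')
    [Module.Finite D N] [Module.Finite C' M'] : Module.Finite D' ↥(EtMil.glue D' φ) := by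
  have w := HenselLib.Milnor.isWeakSquare hsq
  let eC' := Algebra.IsPushout.equiv B' A' D' C'
  let eC := Algebra.IsPushout.equiv B' A D' C
  let g := (IsScalarTower.toAlgHom B' A' A).toLinearMap
  have hcomp : ∀ z, eC (g.rTensor D' z) = algebraMap C' C (eC' z) := by
    intro z
    induction z with
    | zero => simp
    | add x y hx hy => simp only [map_add, hx, hy]
    | tmul a d =>
      simp only [eC, eC', g, LinearMap.rTensor_tmul, Algebra.IsPushout.equiv_tmul, map_mul,
        ← IsScalarTower.algebraMap_apply, AlgHom.toLinearMap_apply, IsScalarTower.coe_toAlgHom',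
        Algebra.smul_def]
  have wD : HenselLib.Milnor.IsWeakSquare D' D C' C := by
    refine ⟨fun c => ?_, fun x => ?_, fun c hc => ?_⟩
    · induction c using (Algebra.IsPushout.out (R := B') (S := A) (R' := D') (S' := C)).inductionOn with
      | zero => exact ⟨0, map_zero _⟩
      | tmul d => exact ⟨algebraMap D' C' d, (IsScalarTower.algebraMap_apply D' C' C d).symm⟩
      | smul a c hc =>
        obtain ⟨x, rfl⟩ := hc
        obtain ⟨a', rfl⟩ := w.surjA a
        exact ⟨a' • x, by rw [Algebra.smul_def, map_mul, Algebra.smul_def,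
          ← IsScalarTower.algebraMap_apply, ← IsScalarTower.algebraMap_apply]⟩
      | add x y hx hy =>
        obtain ⟨a, rfl⟩ := hx
        obtain ⟨b, rfl⟩ := hy
        exact ⟨a + b, map_add _ _ _⟩
    · induction x using (Algebra.IsPushout.out (R := B') (S := B) (R' := D') (S' := D)).inductionOn with
      | zero => exact ⟨0, map_zero _⟩
      | tmul d => exact ⟨d, rfl⟩
      | smul b c hc =>
        obtain ⟨x, rfl⟩ := hc
        obtain ⟨r, rfl⟩ := w.surjB b
        exact ⟨r • x, by rw [IsScalarTower.algebraMap_smul, Algebra.smul_def, map_mul,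
          ← IsScalarTower.algebraMap_apply, Algebra.smul_def]⟩
      | add x y hx hy =>
        obtain ⟨a, rfl⟩ := hx
        obtain ⟨b, rfl⟩ := hy
        exact ⟨a + b, map_add _ _ _⟩
    · obtain ⟨z, rfl⟩ := eC'.surjective c
      have hz : g.rTensor D' z = 0 := eC.injective (by rw [hcomp, hc, map_zero])
      obtain ⟨d, hd, rfl⟩ := HenselLib.Milnor.surjective_to_pairs w D' 0 z
        (by rw [map_zero]; exact hz.symm)
      refine ⟨d, ?_, ?_⟩
      · have := congrArg (Algebra.IsPushout.equiv B' B D' D) hd
        rwa [Algebra.IsPushout.equiv_tmul, map_one, one_mul, map_zero] at this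
      · simp [eC', Algebra.IsPushout.equiv_tmul]
  exact HenselLib.Milnor.finite_glue wD φ

end Groth.Agent.S6921
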