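import Groth.Statements.S6922
import Groth.Agent.HenselLib.MilnorRel
import Groth.Agent.S6921
-- import your own Groth.Agent.* helpers here

set_option autoImplicit false
set_option linter.all false
universe u
open TensorProduct
open EtAlg

namespace Groth.Agent.S6922

/-- In the relative situation (`B' = B ×_A A'` with `A' → A` surjective, `B' → D'`, `D = D' ⊗_{B'} B`,
`C' = D' ⊗_{B'} A'`, `C = D' ⊗_{B'} A`), let `N` be a flat `B`-module that is finitely presented as
a `D`-module and `M'` a flat `A'`-module that is finitely presented as a `C'`-module, with a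
`C`-isomorphism `φ : N ⊗_D C ≅ M' ⊗_{C'} C`, and suppose `B' → D'` is the composite of a flat ring
map `B' → D''` and a ring map `D'' → D'` of finite presentation. Then `N ×_φ M'` is finitely
presented over `D'`. -/
theorem result (B' B A' A : Type u) [CommRing B'] [CommRing B] [CommRing A'] [CommRing A]
    [Algebra B' B] [Algebra B' A'] [Algebra B A] [Algebra A' A] [Algebra B' A] [IsScalarTower B' B A] [IsScalarTower B' A' A]
    (hsq : EtMil.IsFibreSquare B' B A' A)
    (D' D C' C : Type u) [CommRing D'] [CommRing D] [CommRing C'] [CommRing C]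
    [Algebra B' D'] [Algebra B D] [Algebra A' C'] [Algebra A C]
    [Algebra D' D] [Algebra B' D] [IsScalarTower B' B D] [IsScalarTower B' D' D] [Algebra.IsPushout B' B D' D]
    [Algebra D' C'] [Algebra B' C'] [IsScalarTower B' A' C'] [IsScalarTower B' D' C'] [Algebra.IsPushout B' A' D' C']
    [Algebra D' C] [Algebra B' C] [IsScalarTower B' A C] [IsScalarTower B' D' C] [Algebra.IsPushout B' A D' C]
    [Algebra D C] [IsScalarTower D' D C] [Algebra B C] [IsScalarTower B A C] [IsScalarTower B D C]
    [Algebra C' C] [IsScalarTower D' C' C] [Algebra A' C] [IsScalarTower A' A C] [IsScalarTower A' C' C]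
    {N M' : Type u} [AddCommGroup N] [Module D N] [Module D' N] [IsScalarTower D' D N]
    [AddCommGroup M'] [Module C' M'] [Module D' M'] [IsScalarTower D' C' M'] (φ : C ⊗[D] N ≃ₗ[C] C ⊗[C'] M')
    [Module B N] [IsScalarTower B D N] [Module A' M'] [IsScalarTower A' C' M']
    [Module.FinitePresentation D N] [Module.Flat B N] [Module.FinitePresentation C' M'] [Module.Flat A' M']
    (D'' : Type u) [CommRing D''] [Algebra B' D''] [Algebra D'' D'] [IsScalarTower B' D'' D'] [Module.Flat B' D'']
    [Algebra.FinitePresentation D'' D'] :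
    Module.FinitePresentation D' ↥(EtMil.glue D' φ) := by
  classical
  haveI : Module.Finite D' ↥(EtMil.glue D' φ) := S6921.result B' B A' A hsq D' D C' C φ
  -- presentation of `D'`
  obtain ⟨r, π₀, hπ₀, hker₀⟩ := Algebra.FinitePresentation.out (R := D'') (A := D')
  let P := MvPolynomial (Fin r) D''
  letI : Algebra P D' := π₀.toRingHom.toAlgebra
  haveI : IsScalarTower B' P D' := IsScalarTower.of_algebraMap_eq fun b => by
    rw [IsScalarTower.algebraMap_apply B' D'' D', IsScalarTower.algebraMap_apply B' D'' P]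
    exact (π₀.commutes (algebraMap B' D'' b)).symm
  haveI : Module.Flat B' P := Module.Flat.trans B' D'' P
  haveI : Algebra.FinitePresentation P D' :=
    (RingHom.finitePresentation_algebraMap).1 (RingHom.FinitePresentation.of_surjective π₀.toRingHom hπ₀ hker₀)
  haveI : Module.Finite P D' := Module.Finite.of_surjective (Algebra.linearMap P D') hπ₀
  haveI : Module.FinitePresentation P D' := Module.FinitePresentation.of_finite_of_finitePresentation P D'
  -- module structures over `P`, `B'`
  letI mP : Module P ↥(EtMil.glue D' φ) := Module.compHom _ (algebraMap P D')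
  haveI : IsScalarTower P D' ↥(EtMil.glue D' φ) := ⟨fun p d x => by
    change ((algebraMap P D' p) * d) • x = (algebraMap P D' p) • d • x
    rw [mul_smul]⟩
  letI mB : Module B' ↥(EtMil.glue D' φ) := Module.compHom _ (algebraMap B' D')
  haveI : IsScalarTower B' D' ↥(EtMil.glue D' φ) := ⟨fun b d x => by
    rw [Algebra.smul_def, mul_smul]; rfl⟩
  haveI : IsScalarTower B' P ↥(EtMil.glue D' φ) := ⟨fun b p x => by
    change algebraMap P D' (b • p) • x = algebraMap B' D' b • algebraMap P D' p • x
    rw [Algebra.smul_def, map_mul, mul_smul, ← IsScalarTower.algebraMap_apply]⟩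
  haveI : Module.Finite P ↥(EtMil.glue D' φ) := Module.Finite.trans D' _
  letI : Module B' N := Module.compHom N (algebraMap B' B)
  haveI : IsScalarTower B' B N := ⟨fun b c x => by rw [Algebra.smul_def, mul_smul]; rfl⟩
  letI : Module B' M' := Module.compHom M' (algebraMap B' A')
  haveI : IsScalarTower B' A' M' := ⟨fun b c x => by rw [Algebra.smul_def, mul_smul]; rfl⟩
  -- the identification with glueing over the corners
  haveI : IsScalarTower B' D C := IsScalarTower.of_algebraMap_eq fun b => by
    rw [IsScalarTower.algebraMap_apply B' D' D, ← IsScalarTower.algebraMap_apply D' D C, ← IsScalarTower.algebraMap_apply]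
  haveI : IsScalarTower B' C' C := IsScalarTower.of_algebraMap_eq fun b => by
    rw [IsScalarTower.algebraMap_apply B' D' C', ← IsScalarTower.algebraMap_apply D' C' C, ← IsScalarTower.algebraMap_apply]
  haveI hAD : Algebra.IsPushout B A D C := (Algebra.IsPushout.comp_iff B' B D' D).mp inferInstance
  haveI hAC : Algebra.IsPushout A' A C' C := (Algebra.IsPushout.comp_iff B' A' D' C').mp inferInstance
  let ψN : C ⊗[D] N ≃ₗ[A] A ⊗[B] N := Algebra.IsPushout.cancelBaseChange B A D C N
  let ψM : C ⊗[C'] M' ≃ₗ[A] A ⊗[A'] M' := Algebra.IsPushout.cancelBaseChange A' A C' C M'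
  let φA : A ⊗[B] N ≃ₗ[A] A ⊗[A'] M' := ψN.symm ≪≫ₗ φ.restrictScalars A ≪≫ₗ ψM
  have hmem : ∀ x : N × M', x ∈ EtMil.glue B' φA ↔ x ∈ EtMil.glue D' φ := by
    intro x
    change ψM (φ (ψN.symm (1 ⊗ₜ x.1))) = 1 ⊗ₜ x.2 ↔ φ (1 ⊗ₜ x.1) = 1 ⊗ₜ x.2
    rw [← LinearEquiv.eq_symm_apply ψM, Algebra.IsPushout.cancelBaseChange_symm_tmul,
      Algebra.IsPushout.cancelBaseChange_symm_tmul, map_one]
  have hBD : ∀ b : B', algebraMap D' D (algebraMap B' D' b) = algebraMap B D (algebraMap B' B b) := fun b => by
    rw [← IsScalarTower.algebraMap_apply, ← IsScalarTower.algebraMap_apply]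
  have hAC' : ∀ b : B', algebraMap D' C' (algebraMap B' D' b) = algebraMap A' C' (algebraMap B' A' b) := fun b => by
    rw [← IsScalarTower.algebraMap_apply, ← IsScalarTower.algebraMap_apply]
  let E : ↥(EtMil.glue D' φ) ≃ₗ[B'] ↥(EtMil.glue B' φA) :=
    { toFun := fun x => ⟨x.1, (hmem _).2 x.2⟩
      invFun := fun x => ⟨x.1, (hmem _).1 x.2⟩
      left_inv := fun _ => rfl
      right_inv := fun _ => rfl
      map_add' := fun _ _ => rfl
      map_smul' := fun b x => Subtype.ext (Prod.ext
        (by
          change algebraMap B' D' b • x.1.1 = algebraMap B' B b • x.1.1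
          rw [← IsScalarTower.algebraMap_smul D (algebraMap B' D' b), hBD, IsScalarTower.algebraMap_smul])
        (by
          change algebraMap B' D' b • x.1.2 = algebraMap B' A' b • x.1.2
          rw [← IsScalarTower.algebraMap_smul C' (algebraMap B' D' b), hAC', IsScalarTower.algebraMap_smul])) }
  let eN : B ⊗[B'] ↥(EtMil.glue D' φ) ≃ₗ[B] N :=
    E.baseChange B' B _ _ ≪≫ₗ LinearEquiv.ofBijective _ (HenselLib.Milnor.bijective_liftBaseChange_glueFst hsq φA)
  let eM : A' ⊗[B'] ↥(EtMil.glue D' φ) ≃ₗ[A'] M' :=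
    E.baseChange B' A' _ _ ≪≫ₗ LinearEquiv.ofBijective _ (HenselLib.Milnor.bijective_liftBaseChange_glueSnd hsq φA)
  have heN : ∀ x, eN (1 ⊗ₜ x) = x.1.1 := fun x => by
    change LinearMap.liftBaseChange B (EtMil.glueFst B' φA) (E.baseChange B' B _ _ (1 ⊗ₜ x)) = _
    rw [LinearEquiv.baseChange_tmul, LinearMap.liftBaseChange_tmul, one_smul]; rfl
  have heM : ∀ x, eM (1 ⊗ₜ x) = x.1.2 := fun x => by
    change LinearMap.liftBaseChange A' (EtMil.glueSnd B' φA) (E.baseChange B' A' _ _ (1 ⊗ₜ x)) = _
    rw [LinearEquiv.baseChange_tmul, LinearMap.liftBaseChange_tmul, one_smul]; rfl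
  haveI : Module.Flat B (B ⊗[B'] ↥(EtMil.glue D' φ)) := .of_linearEquiv eN
  haveI : Module.Flat A' (A' ⊗[B'] ↥(EtMil.glue D' φ)) := .of_linearEquiv eM
  haveI hfp : Module.FinitePresentation P ↥(EtMil.glue D' φ) :=
    HenselLib.MilnorRel.finitePresentation_of_flat hsq P _
      (HenselLib.MilnorRel.corner (S := B) (D := D') (E := D) P eN (F := EtMil.glueFst D' φ) heN)
      (HenselLib.MilnorRel.corner (S := A') (D := D') (E := C') P eM (F := EtMil.glueSnd D' φ) heM)
  obtain ⟨n, π, hπ⟩ := Module.Finite.exists_fin' D' ↥(EtMil.glue D' φ)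
  refine Module.finitePresentation_of_surjective π hπ ?_
  have hfg : (LinearMap.ker (π.restrictScalars P)).FG := Module.FinitePresentation.fg_ker (π.restrictScalars P) hπ
  obtain ⟨t, ht⟩ := hfg
  refine ⟨t, le_antisymm (Submodule.span_le.2 fun x hx => ?_) fun x hx => ?_⟩
  · exact (ht.le (Submodule.subset_span hx) : x ∈ LinearMap.ker (π.restrictScalars P))
  · exact Submodule.span_le_restrictScalars P D' _ (ht.ge hx)

end Groth.Agent.S6922
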