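import Groth.Statements.S6923
import Mathlib.RingTheory.Idempotents
import Mathlib.RingTheory.Flat.EquationalCriterion
import Mathlib.LinearAlgebra.Matrix.ToLin

set_option autoImplicit false
universe u
open Hensel

namespace Groth.Agent.S6923


open Matrix

section

variable {R : Type*} [CommRing R] {m : ℕ} {N : Type*} [AddCommGroup N] [Module R N]

/-- The map `R^m → N` given by `g`. -/
noncomputable abbrev comb (g : Fin m → N) : (Fin m → R) →ₗ[R] N := Fintype.linearCombination R g

theorem isNilpotent_matrix (B : Matrix (Fin m) (Fin m) R) (h : ∀ i j, IsNilpotent (B i j)) : IsNilpotent B := by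
  let J : Ideal R := Ideal.span (Set.range fun p : Fin m × Fin m => B p.1 p.2)
  have hJ : J.FG := Submodule.fg_span (Set.finite_range _)
  obtain ⟨k, hk⟩ := (Ideal.FG.isNilpotent_iff_le_nilradical hJ).2 (Ideal.span_le.2 (by
    rintro _ ⟨p, rfl⟩
    exact mem_nilradical.2 (h _ _)))
  have hpow : ∀ (l : ℕ) (i j), (B ^ l) i j ∈ J ^ l := by
    intro l
    induction l with
    | zero => intro i j; simp
    | succ l ih =>
      intro i j
      rw [pow_succ B, Matrix.mul_apply, pow_succ J]
      exact Ideal.sum_mem _ fun p _ => Ideal.mul_mem_mul (ih i p) (Ideal.subset_span ⟨(p, j), rfl⟩)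
  refine ⟨k, Matrix.ext fun i j => ?_⟩
  have := hpow k i j
  rwa [hk] at this

end

section Step

variable {R S : Type*} [CommRing R] [CommRing S] (t : R →+* S)
  {N N₀ : Type*} [AddCommGroup N] [Module R N] [AddCommGroup N₀] [Module S N₀] (u : N →ₛₗ[t] N₀)
  {m : ℕ} (g : Fin m → N) (g₀ : Fin m → N₀)

/-- `e` is the projection of `R^m` on a complement of the kernel of `g`. -/
def Splits (g : Fin m → N) (e : Matrix (Fin m) (Fin m) R) : Prop :=
  (∀ x, comb g (e *ᵥ x) = comb g x) ∧ ∀ x, comb g x = 0 → e *ᵥ x = 0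

theorem Splits.idem {g : Fin m → N} {e : Matrix (Fin m) (Fin m) R} (h : Splits g e) (x : Fin m → R) :
    e *ᵥ (e *ᵥ x) = e *ᵥ x := by
  rw [← sub_eq_zero, ← Matrix.mulVec_sub]
  exact h.2 _ (by rw [map_sub, h.1, sub_self])

theorem comb_map (hg : ∀ i, u (g i) = g₀ i) (x : Fin m → R) : u (comb g x) = comb g₀ (t ∘ x) := by
  simp [comb, Fintype.linearCombination_apply, map_sum, LinearMap.map_smulₛₗ, hg]

theorem jac_of_nil (hnil : ∀ x, t x = 0 → IsNilpotent x) : RingHom.ker t ≤ Ideal.jacobson ⊥ := fun x hx =>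
  Ideal.mem_jacobson_bot.2 fun y =>
    ((Commute.all x y).isNilpotent_mul_right (hnil x hx)).isUnit_add_one

theorem step [Module.Finite R N] [Module.Flat R N] (ht : Function.Surjective t)
    (hnil : ∀ x, t x = 0 → IsNilpotent x) (hu : Function.Surjective u)
    (hker : LinearMap.ker u = RingHom.ker t • (⊤ : Submodule R N))
    (hg : ∀ i, u (g i) = g₀ i) (hg₀ : Function.Surjective (comb (R := S) g₀))
    (e₀ : Matrix (Fin m) (Fin m) S) (he₀ : Splits g₀ e₀) :
    Function.Surjective (comb (R := R) g) ∧ ∃ e, Splits g e ∧ e.map t = e₀ := by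
  classical
  obtain ⟨E', hE'i, hE't⟩ := exists_isIdempotentElem_eq_of_ker_isNilpotent (R := Matrix (Fin m) (Fin m) R) (S := Matrix (Fin m) (Fin m) S) (RingHom.mapMatrix (m := Fin m) t)
    (fun B hB => isNilpotent_matrix B fun i j => hnil _ (by
      have h0 : (RingHom.mapMatrix t B : Matrix (Fin m) (Fin m) S) = 0 := RingHom.mem_ker.1 hB
      exact Matrix.ext_iff.2 h0 i j)) e₀ (by
      refine ⟨Matrix.of fun i j => Function.surjInv ht (e₀ i j), Matrix.ext fun i j => ?_⟩
      simp [Function.surjInv_eq ht])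
    (Matrix.ext_of_mulVec_single fun i => by rw [← Matrix.mulVec_mulVec]; exact he₀.idem _)
  have hE'm : E'.map t = e₀ := hE't
  have hmv : ∀ (A : Matrix (Fin m) (Fin m) R) (x : Fin m → R), t ∘ (A *ᵥ x) = (A.map t) *ᵥ (t ∘ x) :=
    fun A x => funext fun i => RingHom.map_mulVec t A x i
  have hEE : ∀ x, E' *ᵥ (E' *ᵥ x) = E' *ᵥ x := fun x => by rw [Matrix.mulVec_mulVec, hE'i.eq]
  -- surjectivity on the range of `E'`
  have hsur : LinearMap.range ((comb (R := R) g).comp E'.mulVecLin) = ⊤ := by
    refine top_le_iff.1 (Submodule.le_of_le_smul_of_le_jacobson_bot Module.Finite.fg_top (jac_of_nil t hnil) fun y _ => ?_)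
    obtain ⟨v, hv⟩ := hg₀ (u y)
    obtain ⟨w, rfl⟩ : ∃ w : Fin m → R, t ∘ w = v :=
      ⟨fun i => Function.surjInv ht (v i), funext fun i => Function.surjInv_eq ht _⟩
    refine Submodule.mem_sup.2 ⟨comb g (E' *ᵥ w), ⟨w, rfl⟩, y - comb g (E' *ᵥ w), ?_, add_sub_cancel _ _⟩
    rw [← hker, LinearMap.mem_ker, map_sub, comb_map t u g g₀ hg, hmv, hE'm, he₀.1, hv, sub_self]
  -- injectivity on the range of `E'`
  have hinj : ∀ x, E' *ᵥ x = x → comb g x = 0 → x = 0 := by
    intro x hx hx0
    obtain ⟨k, a, y, hy, ha⟩ := Module.Flat.isTrivialRelation_of_sum_smul_eq_zero (f := x) (x := g) hx0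
    have hqs : Function.Surjective (comb (R := R) g) := fun z => by
      obtain ⟨w, hw⟩ := hsur.ge (Submodule.mem_top (x := z))
      exact ⟨_, hw⟩
    choose c hc using fun j => hqs (y j)
    let b : Fin m → Fin m → R := fun i => Pi.single i 1 - ∑ j, a i j • c j
    have hb : ∀ i, comb g (b i) = 0 := fun i => by
      show comb g (Pi.single i 1 - ∑ j, a i j • c j) = 0
      rw [map_sub, map_sum, Fintype.linearCombination_apply_single, one_smul, hy i, sub_eq_zero]
      simp only [map_smul, hc]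
    let B : Matrix (Fin m) (Fin m) R := Matrix.of fun k i => (E' *ᵥ b i) k
    have hBn : IsNilpotent B := isNilpotent_matrix B fun k i => hnil _ (by
      show t ((E' *ᵥ b i) k) = 0
      rw [show t ((E' *ᵥ b i) k) = (t ∘ (E' *ᵥ b i)) k from rfl, hmv, hE'm, he₀.2 _ (by
        rw [← comb_map t u g g₀ hg, hb, map_zero])]
      rfl)
    have hsum : ∑ i, x i • b i = x := by
      simp only [b, smul_sub, Finset.sum_sub_distrib, Finset.smul_sum, smul_smul]
      rw [Finset.sum_comm (f := fun i j => (x i * a i j) • c j)]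
      simp only [← Finset.sum_smul, ha, zero_smul, Finset.sum_const_zero, sub_zero]
      exact (pi_eq_sum_univ' x).symm
    have hBx : B *ᵥ x = x := by
      conv_rhs => rw [← hx, ← hsum, Matrix.mulVec_sum]
      funext k
      simp [B, Matrix.mulVec, dotProduct, Matrix.mulVec_smul, mul_comm]
    obtain ⟨l, hl⟩ := hBn
    have : ∀ l, (B ^ l) *ᵥ x = x := fun l => by
      induction l with
      | zero => simp
      | succ l ih => rw [pow_succ, ← Matrix.mulVec_mulVec, hBx, ih]
    rw [← this l, hl, Matrix.zero_mulVec]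
  choose z hz using fun i => hsur.ge (Submodule.mem_top (x := g i))
  let e : Matrix (Fin m) (Fin m) R := Matrix.of fun k i => (E' *ᵥ z i) k
  have hcol : ∀ x, e *ᵥ x = E' *ᵥ ∑ i, x i • z i := fun x => by
    rw [Matrix.mulVec_sum]
    funext k
    simp [e, Matrix.mulVec, dotProduct, Matrix.mulVec_smul, mul_comm]
  have he : ∀ x, comb g (e *ᵥ x) = comb g x := fun x => by
    rw [hcol]
    show ((comb g).comp E'.mulVecLin) (∑ i, x i • z i) = _
    rw [map_sum, Fintype.linearCombination_apply]
    simp only [map_smul, hz]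
  refine ⟨fun y => ?_, e, ⟨he, fun x hx => hinj _ (by rw [hcol, hEE]) (by rw [he, hx])⟩, ?_⟩
  · obtain ⟨w, hw⟩ := hsur.ge (Submodule.mem_top (x := y))
    exact ⟨_, hw⟩
  · refine Matrix.ext_of_mulVec_single fun i => ?_
    have h1 : (e.map t) *ᵥ Pi.single i 1 = t ∘ (E' *ᵥ z i) := by
      funext k; simp [e]
    rw [h1]
    have h2 : e₀ *ᵥ (t ∘ (E' *ᵥ z i)) = t ∘ (E' *ᵥ z i) := by rw [hmv, hE'm, he₀.idem]
    rw [← h2, ← sub_eq_zero, ← Matrix.mulVec_sub]
    refine he₀.2 _ ?_
    rw [map_sub, ← comb_map t u g g₀ hg, Fintype.linearCombination_apply_single, one_smul, ← hg i]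
    exact sub_eq_zero.2 (congrArg u (hz i))

theorem exists_splits [Module.Finite R N] [Module.Projective R N] :
    ∃ (m : ℕ) (g : Fin m → N) (e : Matrix (Fin m) (Fin m) R),
      Function.Surjective (comb (R := R) g) ∧ Splits g e := by
  classical
  obtain ⟨m, f, hf⟩ := Module.Finite.exists_fin' R N
  obtain ⟨s, hs⟩ := Module.projective_lifting_property f LinearMap.id hf
  have hfg : comb (fun i => f (Pi.single i 1)) = f := LinearMap.pi_ext' fun i => LinearMap.ext_ring (by simp)
  refine ⟨m, fun i => f (Pi.single i 1), LinearMap.toMatrix' (s.comp f), by rw [hfg]; exact hf, fun x => ?_, fun x hx => ?_⟩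
  · rw [hfg, LinearMap.toMatrix'_mulVec]
    exact LinearMap.congr_fun hs (f x)
  · rw [hfg] at hx
    rw [LinearMap.toMatrix'_mulVec, LinearMap.comp_apply, hx, map_zero]

end Step

theorem surjective_proj {A : Type u} [CommRing A] {An : ℕ → Type u} [∀ n, CommRing (An n)]
    {t : ∀ n, An (n + 1) →+* An n} {π : ∀ n, A →+* An n} (ht : ∀ n, Function.Surjective (t n))
    (hA : FlatCA.IsRingLimit A An t π) (n : ℕ) : Function.Surjective (π n) := by
  intro a
  suffices h : ∀ n (a : An n), ∃ y : ∀ k, An k, y n = a ∧ ∀ k, t k (y (k + 1)) = y k by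
    obtain ⟨y, hy, hy'⟩ := h n a
    obtain ⟨b, hb⟩ := hA.2.2 y hy'
    exact ⟨b, (hb n).trans hy⟩
  intro n
  induction n with
  | zero =>
    intro a
    exact ⟨fun k => Nat.rec (motive := fun k => An k) a (fun k x => Function.surjInv (ht k) x) k, rfl,
      fun k => Function.surjInv_eq (ht k) _⟩
  | succ n ih =>
    intro a
    -- lift the sequence of the image, correcting above `n`
    have key : ∀ (N : ℕ) (a : An (N + 1)) (low : ∀ k, k ≤ N + 1 → An k),
        low (N + 1) le_rfl = a → (∀ k (h : k + 1 ≤ N + 1), t k (low (k + 1) h) = low k (by omega)) →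
        ∃ y : ∀ k, An k, y (N + 1) = a ∧ ∀ k, t k (y (k + 1)) = y k := by
      intro N a low hlow hc
      let y : ∀ k, An k := fun k => Nat.rec (motive := fun k => An k) (low 0 (Nat.zero_le _))
        (fun k x => if h : k + 1 ≤ N + 1 then low (k + 1) h else Function.surjInv (ht k) x) k
      have hy : ∀ k (h : k ≤ N + 1), y k = low k h := fun k h => by
        cases k with
        | zero => rfl
        | succ k => exact dif_pos h
      refine ⟨y, (hy _ le_rfl).trans hlow, fun k => ?_⟩
      by_cases h : k + 1 ≤ N + 1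
      · rw [hy _ h, hy k (by omega)]; exact hc k h
      · show t k (dite _ _ _) = _
        rw [dif_neg h]; exact Function.surjInv_eq (ht k) _
    obtain ⟨y, hy, hy'⟩ := ih (t n a)
    refine key n a (fun k hk => if h : k = n + 1 then h ▸ a else y k) (by simp) fun k hk => ?_
    rw [dif_neg (by omega : ¬ k = n + 1)]
    by_cases h : k = n
    · subst h; simp [hy]
    · rw [dif_neg (by omega : ¬ k + 1 = n + 1)]; exact hy' k

/-- Let `A = lim A_n` be the limit of an inverse system of rings `(A_n)_{n ≥ 0}` in which each map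
`A_{n+1} → A_n` is onto and every element of its kernel is nilpotent. Let `M_n` be `A_n`-modules
with compatible maps `M_{n+1} → M_n` such that `M_0` is finite projective, every `M_n` is finite and
flat over `A_n`, and the maps induce isomorphisms `M_{n+1} ⊗_{A_{n+1}} A_n → M_n` (i.e. are
surjective with kernel `Ker(A_{n+1} → A_n) M_{n+1}`). Then the inverse limit of the `M_n` is a
finitely generated projective `A`-module whose base change to each `A_n` maps onto `M_n`
isomorphically: there is a finite projective `A`-module `P` with compatible maps `P → M_n`, each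
surjective with kernel `Ker(A → A_n) P`, through which `P` maps bijectively onto the compatible
sequences in `∏ M_n`. -/
theorem result (A : Type u) [CommRing A] (An : ℕ → Type u)
    [∀ n, CommRing (An n)] (t : ∀ n, An (n + 1) →+* An n) (π : ∀ n, A →+* An n)
    (ht : ∀ n, Function.Surjective (t n)) (hnil : ∀ n (x : An (n + 1)), t n x = 0 → IsNilpotent x)
    (hA : FlatCA.IsRingLimit A An t π)
    (M : ℕ → Type u) [∀ n, AddCommGroup (M n)] [∀ n, Module (An n) (M n)] (u : ∀ n, M (n + 1) →ₛₗ[t n] M n)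
    [Module.Projective (An 0) (M 0)] (hfin : ∀ n, Module.Finite (An n) (M n)) (hflat : ∀ n, Module.Flat (An n) (M n))
    (hu : ∀ n, Function.Surjective (u n) ∧ LinearMap.ker (u n) = RingHom.ker (t n) • (⊤ : Submodule (An (n + 1)) (M (n + 1)))) :
    ∃ (P : Type u) (_ : AddCommGroup P) (_ : Module A P) (p : ∀ n, P →ₛₗ[π n] M n),
      Module.Finite A P ∧ Module.Projective A P ∧ (∀ n (x : P), u n (p (n + 1) x) = p n x) ∧
      (∀ n, Function.Surjective (p n) ∧ LinearMap.ker (p n) = RingHom.ker (π n) • (⊤ : Submodule A P)) ∧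
      (∀ x : (∀ n, M n), (∀ n, u n (x (n + 1)) = x n) → ∃! q : P, ∀ n, p n q = x n) := by
  classical
  obtain ⟨hcomp, hext, hglue⟩ := hA
  have hcomp' : ∀ n a, t n (π (n + 1) a) = π n a := fun n a => RingHom.congr_fun (hcomp n) a
  haveI := hfin
  haveI := hflat
  obtain ⟨m, g0, e0, hs0, he0⟩ := exists_splits (R := An 0) (N := M 0)
  let g : ∀ n, Fin m → M n := fun n => Nat.rec (motive := fun n => Fin m → M n) g0
    (fun n x i => Function.surjInv (hu n).1 (x i)) n
  have hg : ∀ n i, u n (g (n + 1) i) = g n i := fun n i => Function.surjInv_eq (hu n).1 _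
  -- compatible projections
  let D : ℕ → Type _ := fun n => {e : Matrix (Fin m) (Fin m) (An n) // Function.Surjective (comb (R := An n) (g n)) ∧ Splits (g n) e}
  have hstep : ∀ n (d : D n), ∃ d' : D (n + 1), d'.1.map (t n) = d.1 := fun n d => by
    obtain ⟨h1, e, h2, h3⟩ := step (t n) (u n) (g (n + 1)) (g n) (ht n) (hnil n) (hu n).1 (hu n).2 (hg n) d.2.1 d.1 d.2.2
    exact ⟨⟨e, h1, h2⟩, h3⟩
  choose next hnext using hstep
  let d : ∀ n, D n := fun n => Nat.rec (motive := D) ⟨e0, hs0, he0⟩ next n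
  have hd : ∀ n, (d (n + 1)).1.map (t n) = (d n).1 := fun n => hnext n (d n)
  have hex : ∀ i j, ∃ a : A, ∀ n, π n a = (d n).1 i j := fun i j =>
    hglue (fun n => (d n).1 i j) fun n => congrFun (congrFun (hd n) i) j
  choose E hE using hex
  have hEn : ∀ n, (Matrix.of E).map (π n) = (d n).1 := fun n => Matrix.ext fun i j => hE i j n
  have hmv : ∀ n (x : Fin m → A), π n ∘ (Matrix.of E *ᵥ x) = (d n).1 *ᵥ (π n ∘ x) := fun n x => by
    rw [← hEn n]; exact funext fun i => RingHom.map_mulVec (π n) _ x i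
  have hvext : ∀ x y : Fin m → A, (∀ n, π n ∘ x = π n ∘ y) → x = y := fun x y h =>
    funext fun i => hext _ _ fun n => congrFun (h n) i
  have hEE : ∀ x, Matrix.of E *ᵥ (Matrix.of E *ᵥ x) = Matrix.of E *ᵥ x := fun x =>
    hvext _ _ fun n => by rw [hmv, hmv]; exact (d n).2.2.idem _
  let eL : (Fin m → A) →ₗ[A] (Fin m → A) := (Matrix.of E).mulVecLin
  let P := LinearMap.range eL
  have hP : ∀ x : P, Matrix.of E *ᵥ x.1 = x.1 := fun x => by
    obtain ⟨w, hw⟩ := x.2
    rw [← hw]; exact hEE w
  let p : ∀ n, P →ₛₗ[π n] M n := fun n =>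
    { toFun := fun x => comb (g n) (π n ∘ x.1)
      map_add' := fun x y => by
        rw [← map_add]
        exact congrArg _ (funext fun i => map_add _ _ _)
      map_smul' := fun a x => by
        rw [← map_smul]
        exact congrArg _ (funext fun i => map_mul _ _ _) }
  have hpinj : ∀ n (x : P), p n x = 0 → π n ∘ x.1 = 0 := fun n x hx => by
    rw [← hP x, hmv]; exact (d n).2.2.2 _ hx
  refine ⟨P, inferInstance, inferInstance, p, ?_, ?_, fun n x => ?_, fun n => ⟨fun y => ?_, ?_⟩, fun x hx => ?_⟩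
  · exact Module.Finite.of_surjective eL.rangeRestrict eL.surjective_rangeRestrict
  · exact Module.Projective.of_split (LinearMap.range eL).subtype eL.rangeRestrict
      (LinearMap.ext fun x => Subtype.ext (hP x))
  · refine (comb_map (t n) (u n) (g (n + 1)) (g n) (hg n) _).trans ?_
    exact congrArg _ (funext fun i => hcomp' n _)
  · obtain ⟨v, rfl⟩ := (d n).2.1 y
    choose w hw using fun i => surjective_proj ht ⟨hcomp, hext, hglue⟩ n (v i)
    refine ⟨eL.rangeRestrict w, ?_⟩
    show comb (g n) (π n ∘ (Matrix.of E *ᵥ w)) = _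
    rw [hmv, (d n).2.2.1]
    exact congrArg _ (funext hw)
  · refine le_antisymm (fun x hx => ?_) (Submodule.smul_le.2 fun a ha x _ => ?_)
    · have h0 := hpinj n x hx
      have : x = ∑ i, x.1 i • eL.rangeRestrict (Pi.single i 1) := by
        refine Subtype.ext ?_
        rw [Submodule.coe_sum]
        conv_lhs => rw [← hP x]
        funext k
        simp [eL, Matrix.mulVec, dotProduct, mul_comm]
      rw [this]
      exact Submodule.sum_mem _ fun i _ => Submodule.smul_mem_smul (congrFun h0 i) trivial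
    · rw [LinearMap.mem_ker, LinearMap.map_smulₛₗ, RingHom.mem_ker.1 ha, zero_smul]
  · have hv : ∀ n, ∃ v, (d n).1 *ᵥ v = v ∧ comb (g n) v = x n := fun n => by
      obtain ⟨v, hv⟩ := (d n).2.1 (x n)
      exact ⟨(d n).1 *ᵥ v, (d n).2.2.idem v, by rw [(d n).2.2.1, hv]⟩
    choose v hv1 hv2 using hv
    have hvc : ∀ n, t n ∘ v (n + 1) = v n := fun n => by
      have h1 : (d n).1 *ᵥ (t n ∘ v (n + 1)) = t n ∘ v (n + 1) := by
        conv_rhs => rw [← hv1 (n + 1)]
        rw [← hd n]
        exact funext fun i => (RingHom.map_mulVec (t n) _ _ i).symm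
      rw [← h1, ← hv1 n, ← sub_eq_zero, ← Matrix.mulVec_sub]
      refine (d n).2.2.2 _ ?_
      rw [map_sub, ← comb_map (t n) (u n) (g (n + 1)) (g n) (hg n), hv2, hv2, hx, sub_self]
    choose w hw using fun i => hglue (fun n => v n i) fun n => congrFun (hvc n) i
    have hwn : ∀ n, π n ∘ w = v n := fun n => funext fun i => hw i n
    have hwP : w ∈ P := ⟨w, hvext _ _ fun n => by
      show π n ∘ (Matrix.of E *ᵥ w) = π n ∘ w
      rw [hmv, hwn, hv1]⟩
    refine ⟨⟨w, hwP⟩, fun n => (congrArg _ (hwn n)).trans (hv2 n), fun q hq => Subtype.ext (hvext _ _ fun n => ?_)⟩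
    rw [hwn, ← hP q, hmv, ← hv1 n, ← sub_eq_zero, ← Matrix.mulVec_sub]
    refine (d n).2.2.2 _ ?_
    rw [map_sub, hv2]
    exact sub_eq_zero.2 (hq n)

end Groth.Agent.S6923
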