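import Groth.Statements.S6929
import Mathlib.RingTheory.Adjoin.Tower
import Mathlib.RingTheory.FiniteType
import Mathlib.RingTheory.Finiteness.Basic
import Mathlib.RingTheory.AdjoinRoot

set_option autoImplicit false
universe u
open EtAlg

namespace Groth.Agent.S6929

/-- Let `R` be a Noetherian ring, `ι` a finite index type, and `φ_i : A_i → B_i`, `ψ_i : Q → B_i`
surjective `R`-algebra maps, where `Q` and all `A_i`, `B_i` are `R`-algebras of finite type. Then
the fibre product ring `P = Q ×_{∏ B_i} ∏ A_i` (pairs `(q, a)` with `ψ_i(q) = φ_i(a_i)` for all `i`)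
is an `R`-algebra of finite type. -/
theorem result (R : Type u) [CommRing R] [IsNoetherianRing R] {ι : Type u} [Fintype ι]
    (Q : Type u) [CommRing Q] [Algebra R Q] [Algebra.FiniteType R Q] (A B : ι → Type u) [∀ i, CommRing (A i)]
    [∀ i, CommRing (B i)] [∀ i, Algebra R (A i)] [∀ i, Algebra R (B i)] (hA : ∀ i, Algebra.FiniteType R (A i))
    (hB : ∀ i, Algebra.FiniteType R (B i)) (φ : ∀ i, A i →ₐ[R] B i) (ψ : ∀ i, Q →ₐ[R] B i)
    (hφ : ∀ i, Function.Surjective (φ i)) (hψ : ∀ i, Function.Surjective (ψ i)) :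
    Algebra.FiniteType R ↥(AlgHom.equalizer ((AlgHom.pi ψ).comp (AlgHom.fst R Q (∀ i, A i)))
      ((AlgHom.pi fun i => (φ i).comp (Pi.evalAlgHom R A i)).comp (AlgHom.snd R Q (∀ i, A i)))) := by
  classical
  set P := AlgHom.equalizer ((AlgHom.pi ψ).comp (AlgHom.fst R Q (∀ i, A i)))
      ((AlgHom.pi fun i => (φ i).comp (Pi.evalAlgHom R A i)).comp (AlgHom.snd R Q (∀ i, A i)))
  have hmem : ∀ (q : Q) (a : ∀ i, A i), (∀ i, ψ i q = φ i (a i)) → ((q, a) : Q × ∀ i, A i) ∈ P :=
    fun q a h => funext h
  have smul : ∀ (p : P) (z : Q × ∀ i, A i), p • z = p.1 * z := fun p z => rfl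
  choose l hl using hφ
  choose m hm using hψ
  let gens : Finset (Q × ∀ i, A i) :=
    {((1 : Q), (0 : ∀ i, A i))} ∪ Finset.univ.image (fun i => ((0 : Q), Pi.single i (1 : A i)))
  set M : Submodule P (Q × ∀ i, A i) := Submodule.span P (gens : Set (Q × ∀ i, A i))
  have hQ : ∀ q, (q, (0 : ∀ i, A i)) ∈ M := fun q => by
    have := M.smul_mem ⟨(q, fun i => l i (ψ i q)), hmem _ _ fun i => (hl i _).symm⟩
      (Submodule.subset_span (Finset.mem_union_left _ (Finset.mem_singleton_self _)) :
        ((1 : Q), (0 : ∀ i, A i)) ∈ M)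
    simpa [smul] using this
  have hAM : ∀ i (x : A i), ((0 : Q), Pi.single i x) ∈ M := fun i x => by
    let q := m i (φ i x)
    let a : ∀ j, A j := Function.update (fun j => l j (ψ j q)) i x
    have h : ∀ j, ψ j q = φ j (a j) := fun j => by
      by_cases hj : j = i
      · subst hj; simp only [a, Function.update_self, q, hm]
      · simp only [a, Function.update_of_ne hj, hl]
    have := M.smul_mem ⟨(q, a), hmem _ _ h⟩
      (Submodule.subset_span (Finset.mem_union_right _ (Finset.mem_image_of_mem _ (Finset.mem_univ i))) :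
        ((0 : Q), Pi.single i (1 : A i)) ∈ M)
    convert this using 1
    rw [smul]
    refine Prod.ext (by simp) (funext fun j => ?_)
    by_cases hj : j = i
    · subst hj; simp [a]
    · simp [a, hj]
  haveI hfin : Module.Finite P (Q × ∀ i, A i) := ⟨⟨gens, eq_top_iff.mpr fun z _ => by
    have := add_mem (hQ z.1) (Submodule.sum_mem (t := Finset.univ) _ fun i _ => hAM i (z.2 i))
    convert this using 1
    refine Prod.ext (by simp [Prod.fst_sum]) ?_
    simp [Prod.snd_sum, Finset.univ_sum_single]⟩⟩
  haveI : Algebra.FiniteType R (∀ i, A i) := by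
    choose g hg using fun i => (hA i).out
    let G : Finset (∀ i, A i) := Finset.univ.biUnion fun i => (insert 1 (g i)).image (Pi.single i)
    refine ⟨⟨G, eq_top_iff.mpr fun z _ => ?_⟩⟩
    have key : ∀ i (x : A i), Pi.single i x ∈ Algebra.adjoin R (G : Set (∀ i, A i)) := by
      intro i x
      have h1 : Pi.single i (1 : A i) ∈ Algebra.adjoin R (G : Set (∀ i, A i)) := Algebra.subset_adjoin
        (Finset.mem_biUnion.mpr ⟨i, Finset.mem_univ _, Finset.mem_image_of_mem _ (Finset.mem_insert_self _ _)⟩)
      have hx : x ∈ Algebra.adjoin R (g i : Set (A i)) := hg i ▸ Algebra.mem_top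
      induction hx using Algebra.adjoin_induction with
      | mem x hx =>
        exact Algebra.subset_adjoin (Finset.mem_biUnion.mpr
          ⟨i, Finset.mem_univ _, Finset.mem_image_of_mem _ (Finset.mem_insert_of_mem hx)⟩)
      | algebraMap r =>
        have : Pi.single i (algebraMap R (A i) r) = r • (Pi.single i (1 : A i) : ∀ i, A i) := by
          rw [Algebra.algebraMap_eq_smul_one, Pi.single_smul]
        rw [this]
        exact Subalgebra.smul_mem _ h1 r
      | add x y _ _ hx hy => rw [Pi.single_add]; exact add_mem hx hy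
      | mul x y _ _ hx hy => rw [Pi.single_mul]; exact mul_mem hx hy
    rw [← Finset.univ_sum_single z]
    exact sum_mem fun i _ => key i (z i)
  haveI : Algebra.FiniteType R (Q × ∀ i, A i) := inferInstance
  exact ⟨fg_of_fg_of_fg (A := R) (B := P) (C := Q × ∀ i, A i) Algebra.FiniteType.out hfin.fg_top
    Subtype.val_injective⟩

end Groth.Agent.S6929
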