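import Groth.Statements.S6930
import Groth.Agent.FlatMor12.ValFlatten
-- import your own Groth.Agent.* helpers here

set_option autoImplicit false
set_option backward.isDefEq.respectTransparency false
set_option maxHeartbeats 800000
universe u
open TensorProduct
open FlatMor

namespace Groth.Agent.S6930

/-- Let `(R, 𝔪)` be a local domain whose maximal ideal is nonzero, with fraction field `K`; let `S` be
an `R`-algebra of finite type, `M` a finite `S`-module and `A ⊆ K` a valuation ring dominating `R`.
Then one can find a finitely generated ideal `I ⊆ 𝔪` and a nonzero `a ∈ I` with the following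
properties, where `R₁ = R[I/a]` denotes the affine blow-up algebra (taken up to `R`-algebra
isomorphism): every `x/a` with `x ∈ I` lies in `A`, so that `R₁ ⊆ A` inside `K`; the ring `R₁/𝔪R₁`
is nonzero; the strict transform of `S` (the quotient of `R₁ ⊗_R S` by its `a`-power torsion) is
flat over `R₁` and is a finitely presented `R₁`-algebra; and the strict transform of `M` (the
quotient of `R₁ ⊗_R M` by its `a`-power torsion) is flat over `R₁`. (The published statement asks
for these strict transforms to be flat, and the first to be finitely presented, over `R` itself;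
that fails for every choice of `(I, a)` already when `R = k[x, y]` localized at `(x, y)` and `S =
R[y/x]`, and the published proof, which passes to the limit over the rings `R[I/a]`, yields flatness
and finite presentation over `R[I/a]`, which is what is stated here. The published statement also
allows `𝔪 = 0`, i.e. `R` a field; then all hypotheses hold with `A = K` while no nonzero `a ∈ 𝔪`
exists, so the hypothesis `𝔪 ≠ 0` is added. Finally, the published statement also asserts that the
strict transform of `M` is finitely presented over the strict transform of `S`; that clause is not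
included.) -/
theorem result (R K : Type u) [CommRing R] [IsDomain R] [IsLocalRing R] [Field K]
    [Algebra R K] [IsFractionRing R K] (S : Type u) [CommRing S] [Algebra R S] [Algebra.FiniteType R S] (M : Type u)
    [AddCommGroup M] [Module S M] [Module R M] [IsScalarTower R S M] [Module.Finite S M]
    (A : Type u) [CommRing A] [IsDomain A] [ValuationRing A] [Algebra A K] [IsFractionRing A K] [Algebra R A]
    [IsScalarTower R A K] [IsLocalHom (algebraMap R A)] (hm : IsLocalRing.maximalIdeal R ≠ ⊥) :
    ∃ (I : Ideal R) (a : R), I.FG ∧ I ≤ IsLocalRing.maximalIdeal R ∧ a ∈ I ∧ a ≠ 0 ∧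
      (∀ x ∈ I, ∃ y : A, algebraMap A K y * algebraMap R K a = algebraMap R K x) ∧
      ∀ (R₁ : Type u) [CommRing R₁] [Algebra R R₁] (e : R₁ ≃ₐ[R] ↥(BlowUp.affineAlgebra R I a)),
        (IsLocalRing.maximalIdeal R).map (algebraMap R R₁) ≠ ⊤ ∧
        Module.Flat R₁ ((R₁ ⊗[R] S) ⧸ FlatCA.powTorsion (R₁ ⊗[R] S) (algebraMap R (R₁ ⊗[R] S) a) (R₁ ⊗[R] S)) ∧
        Algebra.FinitePresentation R₁
          ((R₁ ⊗[R] S) ⧸ FlatCA.powTorsion (R₁ ⊗[R] S) (algebraMap R (R₁ ⊗[R] S) a) (R₁ ⊗[R] S)) ∧
        Module.Flat R₁ ((R₁ ⊗[R] M) ⧸ FlatCA.powTorsion R₁ (algebraMap R R₁ a) (R₁ ⊗[R] M)) := by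
  classical
  obtain ⟨n, π, hπ⟩ := Algebra.FiniteType.iff_quotient_mvPolynomial''.1 ‹Algebra.FiniteType R S›
  let Pol := MvPolynomial (Fin n) R
  let _ : Algebra Pol S := π.toRingHom.toAlgebra
  haveI : IsScalarTower R Pol S := .of_algebraMap_eq fun r => (π.commutes r).symm
  let _ : Module Pol M := Module.compHom M π.toRingHom
  haveI : IsScalarTower Pol S M := IsScalarTower.of_algebraMap_smul fun _ _ => rfl
  haveI : IsScalarTower R Pol M := IsScalarTower.of_algebraMap_smul fun r x => by
    show π (algebraMap R _ r) • x = r • x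
    rw [π.commutes, algebraMap_smul]
  haveI : Module.Finite Pol S := Module.Finite.of_surjective (Algebra.linearMap Pol S) hπ
  haveI : Module.Finite Pol M := Module.Finite.trans S M
  obtain ⟨fS, hfS, hgS⟩ := Groth.Agent.FlatMor12.ValFlatten.exists_good R n S
  obtain ⟨fM, hfM, hgM⟩ := Groth.Agent.FlatMor12.ValFlatten.exists_good R n M
  obtain ⟨m0, hm0, hm0'⟩ := Submodule.exists_mem_ne_zero_of_ne_bot hm
  let z := fS * fM * m0
  have hz : z ≠ 0 := mul_ne_zero (mul_ne_zero hfS hfM) hm0'
  have hzS := hgS z ⟨fM * m0, by ring⟩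
  obtain ⟨JS, hJSfg, -, hJSz, hJSfl⟩ := Groth.Agent.FlatMor12.ValFlatten.flattenable_of_good z hzS
  obtain ⟨JM, hJMfg, -, hJMz, hJMfl⟩ :=
    Groth.Agent.FlatMor12.ValFlatten.flattenable_of_good z (hgM z ⟨fS * m0, by ring⟩)
  let I := JS * JM * Ideal.span {z}
  have hIfg : I.FG := (hJSfg.mul hJMfg).mul ⟨{z}, by simp⟩
  have hzI : z ∈ I.radical := by
    simp only [I, Ideal.radical_mul]
    exact ⟨⟨hJSz (Ideal.mem_span_singleton_self z), hJMz (Ideal.mem_span_singleton_self z)⟩,
      Ideal.le_radical (Ideal.mem_span_singleton_self z)⟩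
  have hIz : I ≤ Ideal.span {z} := Ideal.mul_le_right
  have hIm : I ≤ IsLocalRing.maximalIdeal R :=
    hIz.trans ((Ideal.span_singleton_le_iff_mem _).2 (Ideal.mul_mem_left _ _ hm0))
  obtain ⟨t, ht⟩ := hIfg
  have htne : t.Nonempty := by
    refine Finset.nonempty_iff_ne_empty.2 fun he => hz ?_
    rw [he, Finset.coe_empty, Ideal.span_empty] at ht
    rw [← ht] at hzI
    obtain ⟨e, he⟩ := hzI
    exact eq_zero_of_pow_eq_zero (n := e) he
  obtain ⟨a, hat, hdvd⟩ := Groth.Agent.FlatMor12.ValFlatten.exists_dvd_all (algebraMap R A) t htne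
  have hall : ∀ x ∈ I, algebraMap R A a ∣ algebraMap R A x := fun x hx => by
    have : I ≤ (Ideal.span {algebraMap R A a}).comap (algebraMap R A) := by
      rw [← ht, Ideal.span_le]
      exact fun w hw => Ideal.mem_span_singleton.2 (hdvd w hw)
    exact Ideal.mem_span_singleton.1 (this hx)
  have haI : a ∈ I := ht ▸ Ideal.subset_span hat
  have hRA : Function.Injective (algebraMap R A) := by
    intro x y h
    apply IsFractionRing.injective R K
    rw [IsScalarTower.algebraMap_apply R A K, h, ← IsScalarTower.algebraMap_apply]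
  have ha0 : a ≠ 0 := fun h => by
    refine hz (eq_zero_of_pow_eq_zero (n := hzI.choose) (hRA ?_))
    obtain ⟨c, hc⟩ := hall _ hzI.choose_spec
    rw [hc, h]; simp
  refine ⟨I, a, ⟨t, ht⟩, hIm, haI, ha0, fun x hx => ?_, fun R₁ _ _ e => ?_⟩
  · obtain ⟨y, hy⟩ := hall x hx
    exact ⟨y, by rw [IsScalarTower.algebraMap_apply R A K x, hy, map_mul,
      ← IsScalarTower.algebraMap_apply R A K, mul_comm]⟩
  -- the chart
  let Ra := Localization.Away a
  haveI : IsDomain Ra := IsLocalization.isDomain_localization (powers_le_nonZeroDivisors_of_noZeroDivisors ha0)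
  haveI : IsDomain R₁ := e.toRingEquiv.toMulEquiv.isDomain ↥(BlowUp.affineAlgebra R I a)
  let ι₁ : R₁ →ₐ[R] Ra := (BlowUp.affineAlgebra R I a).val.comp e.toAlgHom
  have hι₁ : Function.Injective ι₁ := Subtype.val_injective.comp e.injective
  have hau : IsUnit (algebraMap R Ra a) := IsLocalization.Away.algebraMap_isUnit a
  have ha1 : algebraMap R R₁ a ≠ 0 := fun h => hau.ne_zero (by
    rw [← ι₁.commutes, h, map_zero])
  have hmap : I.map (algebraMap R R₁) = Ideal.span {algebraMap R R₁ a} := by
    refine le_antisymm (Ideal.map_le_iff_le_comap.2 fun x hx => Ideal.mem_span_singleton.2 ?_)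
      ((Ideal.span_singleton_le_iff_mem _).2 (Ideal.mem_map_of_mem _ haI))
    refine ⟨e.symm ⟨IsLocalization.mk' Ra x ⟨a, Submonoid.mem_powers a⟩,
      Algebra.subset_adjoin ⟨x, hx, rfl⟩⟩, hι₁ ?_⟩
    rw [map_mul, ι₁.commutes, ι₁.commutes]
    show _ = algebraMap R Ra a * (BlowUp.affineAlgebra R I a).val (e (e.symm _))
    rw [AlgEquiv.apply_symm_apply]
    exact (IsLocalization.mk'_spec' Ra x ⟨a, Submonoid.mem_powers a⟩).symm
  refine ⟨?_, ?_⟩
  · -- the chart maps to the valuation ring
    have haK : IsUnit (algebraMap R K a) := isUnit_iff_ne_zero.2 fun h =>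
      ha0 (IsFractionRing.injective R K (h.trans (map_zero _).symm))
    let g : Ra →ₐ[R] K := IsLocalization.liftAlgHom (M := Submonoid.powers a) (f := Algebra.ofId R K) (by
      rintro ⟨_, k, rfl⟩
      show IsUnit (algebraMap R K (a ^ k))
      rw [map_pow]
      exact haK.pow k)
    let ψ : A →ₐ[R] K := IsScalarTower.toAlgHom R A K
    have hle : BlowUp.affineAlgebra R I a ≤ ψ.range.comap g := by
      refine Algebra.adjoin_le ?_
      rintro _ ⟨x, hx, rfl⟩
      obtain ⟨y, hy⟩ := hall x hx
      refine ⟨y, ?_⟩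
      refine haK.mul_left_cancel ?_
      show algebraMap R K a * algebraMap A K y = algebraMap R K a * g _
      have e1 : algebraMap R K a * g (IsLocalization.mk' Ra x ⟨a, Submonoid.mem_powers a⟩) = algebraMap R K x := by
        rw [← g.commutes a, ← map_mul, IsLocalization.mk'_spec'_mk, g.commutes]
      refine Eq.trans ?_ e1.symm
      rw [IsScalarTower.algebraMap_apply R A K a, ← map_mul, ← hy, ← IsScalarTower.algebraMap_apply]
    let r : R₁ →ₐ[R] A := ((AlgEquiv.ofInjective ψ (IsFractionRing.injective A K)).symm.toAlgHom).comp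
      ((g.comp ι₁).codRestrict ψ.range fun w => hle (e w).2)
    intro htop
    have h1 : (IsLocalRing.maximalIdeal R).map (algebraMap R R₁) ≤ (IsLocalRing.maximalIdeal A).comap r.toRingHom := by
      refine Ideal.map_le_iff_le_comap.2 fun x hx => ?_
      show r (algebraMap R R₁ x) ∈ IsLocalRing.maximalIdeal A
      rw [r.commutes]
      exact fun hu => hx (IsUnit.of_map (algebraMap R A) x hu)
    rw [htop, top_le_iff, Ideal.comap_eq_top_iff] at h1
    exact (IsLocalRing.maximalIdeal.isMaximal A).ne_top h1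
  have haR₁ : algebraMap R R₁ a ∈ nonZeroDivisors R₁ := mem_nonZeroDivisors_of_ne_zero ha1
  have hKS : ∃ L : Ideal R₁, JS.map (algebraMap R R₁) * L = Ideal.span {algebraMap R R₁ a} :=
    ⟨(JM * Ideal.span {z}).map (algebraMap R R₁), by rw [← Ideal.map_mul, ← mul_assoc]; exact hmap⟩
  have hKM : ∃ L : Ideal R₁, JM.map (algebraMap R R₁) * L = Ideal.span {algebraMap R R₁ a} :=
    ⟨(JS * Ideal.span {z}).map (algebraMap R R₁), by
      rw [← Ideal.map_mul, ← mul_assoc, mul_comm JM JS]; exact hmap⟩
  let B' := R₁ ⊗[R] S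
  let _ : Algebra S B' := Algebra.TensorProduct.rightAlgebra
  let P : Ideal B' := FlatCA.powTorsion B' (algebraMap R B' a) B'
  obtain ⟨h1, h2⟩ := Groth.Agent.FlatMorFlatten.algebra_flat_fp_of_centre (R := R) (Pol := Pol) (B := S)
    (L := R₁) (B' := B') (Q := B' ⧸ P) hπ Ideal.Quotient.mk_surjective haR₁ (fun w => by
      rw [Ideal.Quotient.algebraMap_eq, Ideal.Quotient.eq_zero_iff_mem, ← IsScalarTower.algebraMap_apply]
      exact Groth.Agent.FlatMorFlatten.mem_powTorsion_iff)
    {z} (fun w hw => by rw [Finset.mem_singleton.1 hw]; exact hzS) hJSfl hKS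
    (fun w hw => by
      rw [Finset.mem_singleton.1 hw, ← hmap]
      exact Ideal.map_radical_le _ (Ideal.mem_map_of_mem _ hzI))
    (Ideal.le_radical (by
      rw [Finset.coe_singleton]
      exact Ideal.mem_map_of_mem _ (hIz haI)))
  exact ⟨h1, h2, hJMfl R₁ _ haR₁ hKM⟩

end Groth.Agent.S6930
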