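import Groth.Statements.S6933
import Groth.Agent.InjHullLib.Basic
import Mathlib.Algebra.Category.Grp.EpiMono

set_option autoImplicit false
universe u
open CategoryTheory
open InjHull

namespace Groth.Agent.S6933

/-- An abelian group `J` that is injective as an object of the category of abelian groups is divisible:
`n J = J` for every nonzero integer `n`. (The published statement is an equivalence; this row states
the implication from injective to divisible.) -/
theorem result (J : Type u) [AddCommGroup J] (hJ : Injective (AddCommGrpCat.of J))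
    (n : ℤ) (hn : n ≠ 0) (x : J) : ∃ y : J, n • y = x := by
  haveI := hJ
  let φ : AddCommGrpCat.of (ULift.{u} ℤ) ⟶ AddCommGrpCat.of (ULift.{u} ℤ) :=
    AddCommGrpCat.ofHom { toFun := fun k => ⟨n * k.down⟩, map_zero' := by ext; simp
                          map_add' := fun a b => by ext; simp [mul_add] }
  haveI : Mono φ := (AddCommGrpCat.mono_iff_injective φ).2 fun a b hab => by
    have h : n * a.down = n * b.down := congrArg ULift.down hab
    exact ULift.ext _ _ (mul_left_cancel₀ hn h)
  let g : AddCommGrpCat.of (ULift.{u} ℤ) ⟶ AddCommGrpCat.of J :=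
    AddCommGrpCat.ofHom { toFun := fun k => k.down • x, map_zero' := by simp
                          map_add' := fun a b => by simp [add_smul] }
  let h := Injective.factorThru g φ
  refine ⟨h (⟨1⟩ : ULift.{u} ℤ), ?_⟩
  have h1 := ConcreteCategory.congr_hom (Injective.comp_factorThru g φ) (⟨1⟩ : ULift.{u} ℤ)
  have h2 : n • h (⟨1⟩ : ULift.{u} ℤ) = h (n • (⟨1⟩ : ULift.{u} ℤ)) := (map_zsmul h.hom n _).symm
  rw [h2]
  have h3 : (n • (⟨1⟩ : ULift.{u} ℤ)) = ⟨n * 1⟩ := ULift.ext _ _ (by simp)
  rw [h3]
  show h ⟨n * (1 : ℤ)⟩ = x
  refine h1.trans ?_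
  show (1 : ℤ) • x = x
  simp

end Groth.Agent.S6933
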