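import Groth.Statements.S6934
import Mathlib.RingTheory.Localization.Away.Basic
import Mathlib.Tactic.LinearCombination
import Mathlib.Tactic.Ring

set_option autoImplicit false
universe u
open EtAlg

namespace Groth.Agent.S6934

/-- Let `s : B → R`, `t : R' → R` be ring maps and `B' = B ×_R R'` the fibre product ring, i.e. a ring
`B'` with maps `p : B' → B`, `q : B' → R'`, `s ∘ p = t ∘ q`, such that `(p, q)` is injective with
image the pairs `(b, r')` with `s(b) = t(r')`. Let `h ∈ B'` with images `g = p(h)`, `f = q(h)`. Then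
the square of localizations `B'_h → B_g`, `B'_h → R'_f`, `B_g → R_{s(g)}`, `R'_f → R_{t(f)} =
R_{s(g)}` (the induced maps) is cartesian as well: `B'_h = B_g ×_{R_{s(g)}} R'_f`. -/
theorem result {B R R' B' : Type u} [CommRing B] [CommRing R] [CommRing R'] [CommRing B']
    (s : B →+* R) (t : R' →+* R) (p : B' →+* B) (q : B' →+* R') (hc : s.comp p = t.comp q)
    (hinj : ∀ x y : B', p x = p y → q x = q y → x = y) (hsurj : ∀ (b : B) (r' : R'), s b = t r' → ∃ x : B', p x = b ∧ q x = r')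
    (h : B') (Bh Bg Rf Rsg : Type u) [CommRing Bh] [CommRing Bg] [CommRing Rf] [CommRing Rsg]
    [Algebra B' Bh] [IsLocalization.Away h Bh] [Algebra B Bg] [IsLocalization.Away (p h) Bg]
    [Algebra R' Rf] [IsLocalization.Away (q h) Rf] [Algebra R Rsg] [IsLocalization.Away (s (p h)) Rsg]
    (pL : Bh →+* Bg) (qL : Bh →+* Rf) (sL : Bg →+* Rsg) (tL : Rf →+* Rsg)
    (hp : pL.comp (algebraMap B' Bh) = (algebraMap B Bg).comp p) (hq : qL.comp (algebraMap B' Bh) = (algebraMap R' Rf).comp q)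
    (hs : sL.comp (algebraMap B Bg) = (algebraMap R Rsg).comp s) (ht : tL.comp (algebraMap R' Rf) = (algebraMap R Rsg).comp t) :
    (∀ x y : Bh, pL x = pL y → qL x = qL y → x = y) ∧
    (∀ (b : Bg) (r : Rf), sL b = tL r → ∃ x : Bh, pL x = b ∧ qL x = r) := by
  have hs' : s (p h) = t (q h) := RingHom.congr_fun hc h
  have hpL : ∀ a, pL (algebraMap B' Bh a) = algebraMap B Bg (p a) := RingHom.congr_fun hp
  have hqL : ∀ a, qL (algebraMap B' Bh a) = algebraMap R' Rf (q a) := RingHom.congr_fun hq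
  have hsL : ∀ a, sL (algebraMap B Bg a) = algebraMap R Rsg (s a) := RingHom.congr_fun hs
  have htL : ∀ a, tL (algebraMap R' Rf a) = algebraMap R Rsg (t a) := RingHom.congr_fun ht
  have hu : IsUnit (algebraMap B' Bh h) := IsLocalization.Away.algebraMap_isUnit h
  constructor
  · intro x y h1 h2
    obtain ⟨n, a, ha⟩ := IsLocalization.Away.surj h x
    obtain ⟨m, b, hb⟩ := IsLocalization.Away.surj h y
    rw [← (hu.pow (n + m)).mul_left_inj]
    have ex : x * algebraMap B' Bh h ^ (n + m) = algebraMap B' Bh (a * h ^ m) := by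
      rw [pow_add, ← mul_assoc, ha, map_mul, map_pow]
    have ey : y * algebraMap B' Bh h ^ (n + m) = algebraMap B' Bh (b * h ^ n) := by
      rw [add_comm n m, pow_add, ← mul_assoc, hb, map_mul, map_pow]
    rw [ex, ey]
    have h1' := congrArg (· * pL (algebraMap B' Bh h ^ (n + m))) h1
    have h2' := congrArg (· * qL (algebraMap B' Bh h ^ (n + m))) h2
    simp only [← map_mul, ex, ey, hpL, hqL] at h1' h2'
    obtain ⟨⟨_, k, rfl⟩, hk⟩ := (IsLocalization.eq_iff_exists (Submonoid.powers (p h)) Bg).mp h1'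
    obtain ⟨⟨_, k', rfl⟩, hk'⟩ := (IsLocalization.eq_iff_exists (Submonoid.powers (q h)) Rf).mp h2'
    refine (IsLocalization.eq_iff_exists (Submonoid.powers h) Bh).mpr
      ⟨⟨h ^ (k + k'), _, rfl⟩, hinj _ _ ?_ ?_⟩
    · simp only [map_mul, map_pow, pow_add] at hk ⊢
      linear_combination (p h) ^ k' * hk
    · simp only [map_mul, map_pow, pow_add] at hk' ⊢
      linear_combination (q h) ^ k * hk'
  · intro b r hbr
    obtain ⟨n, β, hβ⟩ := IsLocalization.Away.surj (p h) b
    obtain ⟨m, ρ, hρ⟩ := IsLocalization.Away.surj (q h) r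
    have hβ' : b * algebraMap B Bg (p h) ^ (n + m) = algebraMap B Bg (β * p h ^ m) := by
      rw [pow_add, ← mul_assoc, hβ, map_mul, map_pow]
    have hρ' : r * algebraMap R' Rf (q h) ^ (n + m) = algebraMap R' Rf (ρ * q h ^ n) := by
      rw [add_comm n m, pow_add, ← mul_assoc, hρ, map_mul, map_pow]
    have e : algebraMap R Rsg (s (β * p h ^ m)) = algebraMap R Rsg (t (ρ * q h ^ n)) := by
      rw [← hsL, ← htL, ← hβ', ← hρ', map_mul, map_mul, map_pow, map_pow, hbr, hsL, htL, hs']
    obtain ⟨⟨_, k, rfl⟩, hk⟩ := (IsLocalization.eq_iff_exists (Submonoid.powers (s (p h))) Rsg).mp e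
    obtain ⟨x₀, hx₁, hx₂⟩ := hsurj (p h ^ k * (β * p h ^ m)) (q h ^ k * (ρ * q h ^ n)) (by
      simp only [map_mul, map_pow] at hk ⊢
      rw [← hs'] at hk ⊢; exact hk)
    obtain ⟨u, hu'⟩ := hu.pow (k + (n + m))
    refine ⟨algebraMap B' Bh x₀ * ↑u⁻¹, ?_, ?_⟩
    · apply ((IsLocalization.Away.algebraMap_isUnit (S := Bg) (p h)).pow (k + (n + m))).mul_left_inj.mp
      have : pL (↑u⁻¹) * algebraMap B Bg (p h) ^ (k + (n + m)) = 1 := by
        rw [← hpL, ← map_pow, ← hu', ← map_mul, Units.inv_mul, map_one]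
      rw [map_mul, mul_assoc, this, mul_one, hpL, hx₁, map_mul, ← hβ', map_pow, pow_add]
      ring
    · apply ((IsLocalization.Away.algebraMap_isUnit (S := Rf) (q h)).pow (k + (n + m))).mul_left_inj.mp
      have : qL (↑u⁻¹) * algebraMap R' Rf (q h) ^ (k + (n + m)) = 1 := by
        rw [← hqL, ← map_pow, ← hu', ← map_mul, Units.inv_mul, map_one]
      rw [map_mul, mul_assoc, this, mul_one, hqL, hx₂, map_mul, ← hρ', map_pow, pow_add]
      ring

end Groth.Agent.S6934
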