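import Groth.Statements.S6940
import Groth.Agent.DRingLib.PCRestrict

set_option autoImplicit false
set_option backward.isDefEq.respectTransparency false
set_option backward.defeqAttrib.useBackward true
universe u
open CategoryTheory CategoryTheory.Limits
attribute [local instance] HasDerivedCategory.standard
open DRing

namespace Groth.Agent.S6940

/-- Let A → B be a homomorphism of commutative rings making B a pseudo-coherent A-module; let K be an
object of D(B) and m an integer. Then m-pseudo-coherence of K over B is equivalent to
m-pseudo-coherence over A of K with its scalars restricted to A, and likewise pseudo-coherence of K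
over B is equivalent to pseudo-coherence over A of its restriction. -/
theorem result {A B : Type u} [CommRing A]
    [CommRing B] [Algebra A B] (hB : DRing.IsPseudoCoherentModule' A B) (K : Dual.D B) (m : ℤ) :
    (DRing.IsPseudoCoherent B m K ↔ DRing.IsPseudoCoherent A m ((DRing.restrictD (algebraMap A B)).obj K)) ∧
      (DRing.IsPseudoCoherent' B K ↔ DRing.IsPseudoCoherent' A ((DRing.restrictD (algebraMap A B)).obj K)) := by
  let e : (ModuleCat.restrictScalars.{u} (algebraMap A B)).obj (ModuleCat.of B B) ≅ ModuleCat.of A B :=
    LinearEquiv.toModuleIso (X₁ := (ModuleCat.restrictScalars.{u} (algebraMap A B)).obj (ModuleCat.of B B))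
      { AddEquiv.refl B with map_smul' := fun a (x : B) => (Algebra.smul_def a x).symm }
  have h : ∀ n, DRing.IsPseudoCoherentModule A n ((ModuleCat.restrictScalars.{u} (algebraMap A B)).obj (ModuleCat.of B B)) :=
    fun n => DRingLib.pcModule_retract e.retract (DRingLib.pc_of_pc' hB n)
  refine ⟨DRingLib.pc_restrict_iff h K m, ?_⟩
  rw [DRingLib.pc'_iff, DRingLib.pc'_iff]
  exact forall_congr' fun n => DRingLib.pc_restrict_iff h K n


end Groth.Agent.S6940
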