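import Groth.Statements.S6942
import Groth.Agent.DRingLib.PCGen

set_option autoImplicit false
set_option backward.isDefEq.respectTransparency false
set_option backward.defeqAttrib.useBackward true
universe u
open CategoryTheory CategoryTheory.Limits
attribute [local instance] HasDerivedCategory.standard
open DRing

namespace Groth.Agent.S6942

/-- Let R be a Noetherian commutative ring and m an integer. An object K of D(R) is m-pseudo-coherent
exactly when H^i(K) = 0 for all large i and H^i(K) is a finitely generated R-module for each i ≥ m.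
Every finitely generated R-module M is pseudo-coherent, and conversely. -/
theorem result (R : Type u) [CommRing R]
    [IsNoetherianRing R] (m : ℤ) (K : Dual.D R) (M : Type u) [AddCommGroup M] [Module R M] :
    (DRing.IsPseudoCoherent R m K ↔
      (∃ b : ℤ, ∀ i : ℤ, b < i → Subsingleton (Dual.HD R K i)) ∧ ∀ i : ℤ, m ≤ i → Module.Finite R (Dual.HD R K i)) ∧
      (DRing.IsPseudoCoherentModule' R M ↔ Module.Finite R M) := by
  refine ⟨⟨fun h => ?_, fun ⟨⟨b, hb⟩, hfin⟩ => ?_⟩, ⟨fun h => ?_, fun h => ?_⟩⟩
  · obtain ⟨⟨b, hb⟩, hfin⟩ := Groth.Agent.DRingLib.finite_homology_of_pc h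
    exact ⟨⟨b, (Groth.Agent.DRingLib.isLE_iff_HD K b).1 hb⟩, hfin⟩
  · exact Groth.Agent.DRingLib.pc_of_finite_homology ((Groth.Agent.DRingLib.isLE_iff_HD K b).2 hb) hfin
  · exact (Groth.Agent.DRingLib.module_pc_zero_iff M).1 (Groth.Agent.DRingLib.pc_of_pc' h 0)
  · refine Groth.Agent.DRingLib.pc'_of_forall fun n =>
      Groth.Agent.DRingLib.pc_of_finite_homology (b := 0) inferInstance fun i _ => ?_
    by_cases hi : i = 0
    · subst hi
      exact Groth.Agent.DRingLib.finite_of_iso (Groth.Agent.DRingLib.hfInD M).symm h
    · haveI : Subsingleton (Dual.HD R (Dual.inD R M) i) := by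
        rcases lt_or_gt_of_ne hi with hi | hi
        · exact ModuleCat.subsingleton_of_isZero (DerivedCategory.isZero_of_isGE (Dual.inD R M) 0 i hi)
        · exact ModuleCat.subsingleton_of_isZero (DerivedCategory.isZero_of_isLE (Dual.inD R M) 0 i hi)
      infer_instance


end Groth.Agent.S6942
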