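import Groth.Statements.S6947
import Groth.Agent.Dual22Lib.TorAmpRestrict

set_option autoImplicit false
universe u
open CategoryTheory CategoryTheory.Limits
attribute [local instance] HasDerivedCategory.standard
open DRing

namespace Groth.Agent.S6947

/-- Let A → B be a homomorphism of commutative rings such that B, as an A-module, has tor dimension at
most d: B[0] is isomorphic in D(A) to a complex of flat A-modules vanishing outside [-d, 0]. Let K
be an object of D(B) with tor amplitude in [a, b] over B. Then K, with scalars restricted to A, has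
tor amplitude in [a - d, b] over A. -/
theorem result {A B : Type u} [CommRing A] [CommRing B]
    [Algebra A B] (d : ℕ) (hB : DRing.HasTorAmplitudeIn A (-(d : ℤ)) 0 (Dual.inD A B)) (K : Dual.D B)
    (a b : ℤ) (hK : DRing.HasTorAmplitudeIn B a b K) :
    DRing.HasTorAmplitudeIn A (a - d) b ((DRing.restrictD (algebraMap A B)).obj K) := by
  obtain ⟨T, hT, hTf, ⟨e⟩⟩ := hK
  let φ := algebraMap A B
  let r := ModuleCat.restrictScalars.{u} φ
  let ι : ((r.obj (ModuleCat.of B B)) : Type u) ≃ₗ[A] B :=
    { toFun := id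
      invFun := id
      left_inv := fun _ => rfl
      right_inv := fun _ => rfl
      map_add' := fun _ _ => rfl
      map_smul' := fun x (y : B) => (Algebra.smul_def x y).symm }
  obtain ⟨T₀, hT₀, hT₀f, ⟨e₀⟩⟩ := hB
  obtain ⟨E, hE, hEf, ⟨eE⟩⟩ := Dual22Lib.TorAmpRestrict.amp_restrict φ d
    ⟨T₀, hT₀, hT₀f, ⟨e₀ ≪≫ (DerivedCategory.singleFunctor (ModuleCat.{u} A) 0).mapIso
      (ι.toModuleIso (X₁ := r.obj (ModuleCat.of B B)) (X₂ := ModuleCat.of A B)).symm⟩⟩ T a b hT hTf
  exact ⟨E, hE, hEf, ⟨eE ≪≫ (r.mapDerivedCategoryFactors.app T).symm ≪≫ r.mapDerivedCategory.mapIso e⟩⟩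

end Groth.Agent.S6947
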