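import Groth.Statements.S6951
import Groth.Agent.FlatCx12.AmpTensor
import Groth.Agent.DualLib.BaseTensor
import Groth.Agent.CAlgSmall.PCZariski
-- import your own Groth.Agent.* helpers here

set_option autoImplicit false
set_option backward.isDefEq.respectTransparency false
set_option backward.defeqAttrib.useBackward true
universe u
open CategoryTheory CategoryTheory.Limits
attribute [local instance] HasDerivedCategory.standard
open DRing

namespace Groth.Agent.S6951

open Groth.Agent Groth.Agent.DCat Groth.Agent.CAlgSmall.PCZariski HomologicalComplex MonoidalCategory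

theorem amp_restrict_iff {R A : Type u} [CommRing R] [CommRing A] (φ : R →+* A) (K : DRing.Cx A) (a b : ℤ) :
    DRing.HasTorAmplitudeIn R a b ((DRing.restrictD φ).obj (DRing.toD K)) ↔
      ∀ (N : ModuleCat.{u} R) (i : ℤ), i < a ∨ b < i → ∀ (L : DRing.Cx R), IsKFlatFor (modT R) L →
        ∀ (c : L ⟶ (HomologicalComplex.single (ModuleCat.{u} R) (ComplexShape.up ℤ) 0).obj N), QuasiIso c →
        (tot (modT A) K (((ModuleCat.extendScalars.{u, u, u} φ).mapHomologicalComplex (ComplexShape.up ℤ)).obj L)).ExactAt i := by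
  let r := ModuleCat.restrictScalars.{u} φ
  have e : (DRing.restrictD φ).obj (DRing.toD K) ≅ DRing.toD ((r.mapHomologicalComplex (ComplexShape.up ℤ)).obj K) :=
    r.mapDerivedCategoryFactors.app K
  constructor
  · intro h N i hi L hL c hc
    haveI := hc
    have h1 := ((FlatCx12.AmpTensor.zero_iff_tot _ N hL c i).1
      (FlatCx12.TorAmpComp.amp_iff_vanish.1 (FlatCx12.TorAmpComp.amp_iso e h) N i hi)).of_iso (totExtIso φ K L).symm
    rw [exactAt_iff] at h1 ⊢
    exact (ShortComplex.exact_map_iff_of_faithful _ r).1 h1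
  · intro h
    refine FlatCx12.TorAmpComp.amp_iso e.symm (FlatCx12.TorAmpComp.amp_iff_vanish.2 fun N i hi => ?_)
    obtain ⟨L, c, hL, -, hc, -⟩ := exists_kflat ((HomologicalComplex.single (ModuleCat.{u} R) (ComplexShape.up ℤ) 0).obj N)
    haveI := hc
    refine (FlatCx12.AmpTensor.zero_iff_tot _ N hL c i).2 (ExactAt.of_iso ?_ (totExtIso φ K L))
    have h1 := h N i hi L hL c hc
    rw [exactAt_iff] at h1 ⊢
    exact h1.map r

theorem exactAt_ext_iff {A B : Type u} [CommRing A] [CommRing B] [Algebra A B] [Module.FaithfullyFlat A B]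
    (M : DRing.Cx A) (i : ℤ) :
    ((((ModuleCat.extendScalars.{u, u, u} (algebraMap A B)).mapHomologicalComplex (ComplexShape.up ℤ))).obj M).ExactAt i
      ↔ M.ExactAt i := by
  haveI := preservesHomology_ext (algebraMap A B) (RingHom.flat_algebraMap_iff.2 inferInstance)
  refine ⟨fun h => ?_, fun h => ?_⟩
  swap
  · rw [exactAt_iff] at h ⊢
    exact h.map (ModuleCat.extendScalars.{u, u, u} (algebraMap A B))
  rw [exactAt_iff_isZero_homology] at h ⊢
  have h1 := (ext_tensor_iff (A := B) (M.homology i)).1
    (isZero_ext_homology _ (RingHom.flat_algebraMap_iff.2 inferInstance) M i h)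
  haveI : Subsingleton (M.homology i) := (Module.FaithfullyFlat.subsingleton_tensorProduct_iff_right A B).1 h1
  exact ModuleCat.isZero_of_subsingleton _

/-- Let R → A → B be homomorphisms of commutative rings with A → B faithfully flat, such that the
derived base change D(A) → D(B) exists, and let K be an object of D(A). Then for all integers a, b,
the following are equivalent: the restriction of K to D(R) is of tor amplitude within [a, b]; the
restriction of K ⊗^L_A B to D(R) is of tor amplitude within [a, b]. -/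
theorem result {R A B : Type u}
    [CommRing R] [CommRing A] [CommRing B] [Algebra R A] [Algebra A B] [Algebra R B] [IsScalarTower R A B]
    [Module.FaithfullyFlat A B] [DRing.HasLBaseChange (algebraMap A B)] (K : Dual.D A) (a b : ℤ) :
    DRing.HasTorAmplitudeIn R a b ((DRing.restrictD (algebraMap R A)).obj K) ↔
      DRing.HasTorAmplitudeIn R a b ((DRing.restrictD (algebraMap R B)).obj ((DRing.LBaseChange (algebraMap A B)).obj K)) := by
  obtain ⟨K₀, ⟨eK⟩⟩ : ∃ K₀, Nonempty (DRing.toD K₀ ≅ K) :=
    ⟨DerivedCategory.Q.objPreimage K, ⟨DerivedCategory.Q.objObjPreimageIso K⟩⟩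
  obtain ⟨eB⟩ := nonempty_lbaseChange_iso (algebraMap A B) (RingHom.flat_algebraMap_iff.2 inferInstance) K₀
  let F := (ModuleCat.extendScalars.{u, u, u} (algebraMap A B)).mapHomologicalComplex (ComplexShape.up ℤ)
  have eB' : DRing.toD (F.obj K₀) ≅ (DRing.LBaseChange (algebraMap A B)).obj K :=
    eB.symm ≪≫ (DRing.LBaseChange (algebraMap A B)).mapIso eK
  have h1 : ∀ {C : Type u} [CommRing C] (χ : R →+* C) {M N : Dual.D C}, (M ≅ N) →
      (DRing.HasTorAmplitudeIn R a b ((DRing.restrictD χ).obj M) ↔
        DRing.HasTorAmplitudeIn R a b ((DRing.restrictD χ).obj N)) := fun {C} _ χ {M N} j =>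
    ⟨FlatCx12.TorAmpComp.amp_iso ((DRing.restrictD χ).mapIso j),
      FlatCx12.TorAmpComp.amp_iso ((DRing.restrictD χ).mapIso j.symm)⟩
  rw [← h1 _ eK, ← h1 _ eB', amp_restrict_iff, amp_restrict_iff]
  refine forall_congr' fun N => forall_congr' fun i => forall_congr' fun _ => forall_congr' fun L =>
    forall_congr' fun _ => forall_congr' fun c => forall_congr' fun _ => ?_
  let F₁ := (ModuleCat.extendScalars.{u, u, u} (algebraMap R A)).mapHomologicalComplex (ComplexShape.up ℤ)
  let F₂ := (ModuleCat.extendScalars.{u, u, u} (algebraMap R B)).mapHomologicalComplex (ComplexShape.up ℤ)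
  let e : tot (modT B) (F.obj K₀) (F₂.obj L) ≅ F.obj (tot (modT A) K₀ (F₁.obj L)) :=
    ((modT B).map₂CochainComplex.obj (F.obj K₀)).mapIso
      (eqToIso (by rw [show F₂ = (ModuleCat.extendScalars.{u, u, u} ((algebraMap A B).comp (algebraMap R A))).mapHomologicalComplex _ by
        rw [← IsScalarTower.algebraMap_eq]]) ≪≫ (NatIso.mapHomologicalComplex
          (ModuleCat.extendScalarsComp (algebraMap R A) (algebraMap A B)) (ComplexShape.up ℤ)).app L) ≪≫
      (DualLib.BaseTensor.extTensorIso (algebraMap A B) K₀ (F₁.obj L)).symm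
  exact ⟨fun h => ((exactAt_ext_iff _ i).2 h).of_iso e.symm,
    fun h => (exactAt_ext_iff _ i).1 (h.of_iso e)⟩

end Groth.Agent.S6951
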