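import Groth.Statements.S6952
import Groth.Agent.DCat.NilpotentBC

set_option autoImplicit false
set_option backward.isDefEq.respectTransparency false
set_option backward.defeqAttrib.useBackward true
universe u
open CategoryTheory CategoryTheory.Limits
attribute [local instance] HasDerivedCategory.standard
open DRing

namespace Groth.Agent.S6952

/-- Let R' → R be a surjective homomorphism of commutative rings whose kernel is a nilpotent ideal, such
that the derived base change D(R') → D(R) exists. Let K' be an object of D(R') and a, b integers.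
Then K' ⊗^L R has tor amplitude in [a, b] over R if and only if K' has tor amplitude in [a, b] over
R'. -/
theorem result {R' R : Type u} [CommRing R']
    [CommRing R] (φ : R' →+* R) (hφ : Function.Surjective φ) (hnil : IsNilpotent (RingHom.ker φ))
    [DRing.HasLBaseChange φ] (K' : Dual.D R') (a b : ℤ) :
    DRing.HasTorAmplitudeIn R a b ((DRing.LBaseChange φ).obj K') ↔ DRing.HasTorAmplitudeIn R' a b K' := by
  haveI : ∀ A : ModuleCat.{u} R', DRing.HasLTensor R' A := fun A => DCat.hasLTensor A
  haveI : ∀ A : ModuleCat.{u} R, DRing.HasLTensor R A := fun A => DCat.hasLTensor A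
  refine ⟨fun h => ?_, fun h => DCat.flatAmp_lbaseChange φ h⟩
  obtain ⟨P, c, hP, hPf, hc, -⟩ := DCat.exists_kflat (DerivedCategory.Q.objPreimage K')
  haveI := hc
  let e : DRing.toD P ≅ K' := asIso (DerivedCategory.Q.map c) ≪≫ DerivedCategory.Q.objObjPreimageIso K'
  refine DCat.flatAmp_of_vanish fun M i hi => ?_
  rw [DCat.isZero_ltensor_iff M hP e i]
  refine DCat.exactAt_of_killed (RingHom.ker φ) hnil P hPf i (fun N hN => ?_) M
  obtain ⟨M₀, ⟨eN⟩⟩ := DCat.exists_restrict_of_killed φ hφ N hN
  exact ((DCat.isZero_ltensor_base_iff φ hP e M₀ i).1 (DCat.vanish_of_flatAmp h M₀ hi)).of_iso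
    ((NatIso.mapHomologicalComplex ((MonoidalCategory.tensoringRight (ModuleCat.{u} R')).mapIso eN) _).app P)


end Groth.Agent.S6952
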