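import Groth.Statements.S6953
import Groth.Agent.Dual22Lib.TorAmpTensor

set_option autoImplicit false
universe u
open CategoryTheory CategoryTheory.Limits
attribute [local instance] HasDerivedCategory.standard
open DRing

namespace Groth.Agent.S6953

open Groth.Agent


/-- Let A → B be a homomorphism of commutative rings, K an object of D(B) with tor amplitude in [a, b]
over B, and L a cochain complex of B-modules whose restriction of scalars to A lies in D(A) with tor
amplitude contained in [c, d]. Assume the derived tensor product - ⊗^L_B L exists on D(B). Then K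
⊗^L_B L, with scalars restricted to A, has tor amplitude in [a + c, b + d] over A. -/
theorem result {A B : Type u} [CommRing A] [CommRing B] [Algebra A B]
    (K : Dual.D B) (a b c d : ℤ) (hK : DRing.HasTorAmplitudeIn B a b K) (L : DRing.Cx B)
    (hL : DRing.HasTorAmplitudeIn A c d (DRing.toD ((DRing.restrictCx (algebraMap A B)).obj L)))
    [DRing.HasLTensorCx B L] :
    DRing.HasTorAmplitudeIn A (a + c) (b + d)
      ((DRing.restrictD (algebraMap A B)).obj ((DRing.LTensorCx B L).obj K)) := by
  obtain ⟨T, hT, hTf, ⟨e⟩⟩ := hK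
  let r := ModuleCat.restrictScalars.{u} (algebraMap A B)
  obtain ⟨E, hE, hEf, ⟨eE⟩⟩ := Dual22Lib.TorAmpTensor.amp_tensor (algebraMap A B) T L a b c d hT hTf hL
  exact ⟨E, hE, hEf, ⟨eE ≪≫ (r.mapDerivedCategoryFactors.app _).symm ≪≫ r.mapDerivedCategory.mapIso
    ((DCat.ltensorCxIso L (DCat.isKFlatFor_of_vanishesAbove T b (fun n hn => hT n (Or.inr hn)) hTf)).symm ≪≫
      (DRing.LTensorCx B L).mapIso e)⟩⟩

end Groth.Agent.S6953
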