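import Groth.Statements.S6955
import Groth.Agent.FlatCx12.PerfectModule
import Groth.Agent.DRingLib.TorDimAmp
-- import your own Groth.Agent.* helpers here

set_option autoImplicit false
set_option backward.isDefEq.respectTransparency false
set_option backward.isDefEq.respectTransparency.types false
set_option linter.style.haveILetI false
universe u
open CategoryTheory CategoryTheory.Limits
attribute [local instance] HasDerivedCategory.standard
open DRing

namespace Groth.Agent.S6955

/-- Let R be a commutative ring and M an R-module. Then M is perfect (M[0] is isomorphic in D(R) to a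
bounded complex of finite projective modules) if and only if M admits a projective resolution of
finite length whose terms are finitely generated, i.e. a resolution 0 → F_d → ... → F_0 → M → 0 by
finite projective modules. -/
theorem result (R : Type u) [CommRing R] (M : Type u)
    [AddCommGroup M] [Module R M] :
    DRing.IsPerfectModule R M ↔
      ∃ (P : ProjectiveResolution (ModuleCat.of R M)) (d : ℕ),
        (∀ i : ℕ, d < i → IsZero (P.complex.X i)) ∧ ∀ i : ℕ, Module.Finite R (P.complex.X i) := by
  constructor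
  · intro h
    obtain ⟨hpc, d, hd⟩ := (FlatCx12.PerfectModule.isPerfectModule_iff M).1 h
    have hamp := DRingLib.amp_of_torDimLE M hd
    obtain ⟨E, hE, hEp, ⟨eE⟩⟩ := DRingLib.exists_finiteProjective (by omega) (DRingLib.pc_of_perfect h _) hamp
    let S : DRing.Cx R := (HomologicalComplex.single (ModuleCat.{u} R) (ComplexShape.up ℤ) 0).obj (ModuleCat.of R M)
    haveI := DRingLib.isKProjective_of_outside hE (fun i => (hEp i).2)
    obtain ⟨a, ha⟩ := DRingLib.exists_Q_map (P := E) (L := S)
      (eE ≪≫ (DerivedCategory.singleFunctorIsoCompQ (ModuleCat.{u} R) 0).app (ModuleCat.of R M)).hom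
    haveI : IsIso (DerivedCategory.Q.map a) := by
      rw [ha]
      infer_instance
    haveI hqi : QuasiIso a := (DerivedCategory.isIso_Q_map_iff_quasiIso _ a).1 inferInstance
    have hS : ∀ i : ℤ, i ≠ 0 → IsZero (S.X i) := fun i hi => HomologicalComplex.isZero_single_obj_X _ _ _ _ hi
    let X : ℕ → ModuleCat.{u} R := fun n => E.X (-(n : ℤ))
    let δ : ∀ n, X (n + 1) ⟶ X n := fun n => E.d _ _
    let K : ChainComplex (ModuleCat.{u} R) ℕ := ChainComplex.of X δ (fun n => E.d_comp_d _ _ _)
    have hK : ∀ n, K.d (n + 1) n = δ n := fun n => ChainComplex.of_d X δ n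
    let τ : K.X 0 ⟶ ModuleCat.of R M := a.f 0 ≫ (HomologicalComplex.singleObjXSelf (ComplexShape.up ℤ) 0 _).hom
    have hτ : K.d 1 0 ≫ τ = 0 := by
      rw [hK 0]
      show E.d (-1) 0 ≫ a.f 0 ≫ _ = 0
      rw [← a.comm_assoc, (hS (-1) (by omega)).eq_of_src (S.d (-1) 0) 0]
      simp
    let π : K ⟶ (ChainComplex.single₀ (ModuleCat.{u} R)).obj (ModuleCat.of R M) := (ChainComplex.toSingle₀Equiv K _).symm ⟨τ, hτ⟩
    have hq0 := (quasiIsoAt_iff' a (-1) 0 1 (by simp) (by simp)).1 inferInstance
    obtain ⟨hex, hep⟩ := (ShortComplex.quasiIso_iff_of_zeros' _ ((hE 1 (Or.inr one_pos)).eq_of_tgt _ _)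
      ((hS (-1) (by omega)).eq_of_src _ _) ((hS 1 (by omega)).eq_of_tgt _ _)).1 hq0
    haveI : QuasiIso π := ⟨fun n => by
      rcases n with _ | n
      · rw [ChainComplex.quasiIsoAt₀_iff, ShortComplex.quasiIso_iff_of_zeros' _ (K.shape _ _ (by simp)) rfl rfl]
        refine ⟨ShortComplex.exact_of_iso (ShortComplex.isoMk (Iso.refl _) (Iso.refl _)
          (HomologicalComplex.singleObjXSelf (ComplexShape.up ℤ) 0 (ModuleCat.of R M)) ?_ ?_) hex, ?_⟩
        · simp [hK, δ]
        · simp [π, τ, HomologicalComplex.singleObjXSelf, HomologicalComplex.singleObjXIsoOfEq]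
          erw [Category.comp_id]
        · have hep' : Epi (a.f 0) := hep
          simp [π, τ]
          infer_instance
      · rw [quasiIsoAt_iff_exactAt' (hL := ChainComplex.exactAt_succ_single_obj _ _),
          K.exactAt_iff' (n + 1 + 1) (n + 1) n (by simp) (by simp)]
        have h1 : E.ExactAt (-((n : ℤ) + 1)) := (quasiIsoAt_iff_exactAt' a _
          (hL := HomologicalComplex.exactAt_single_obj _ _ _ _ (by omega))).1 inferInstance
        rw [E.exactAt_iff' (-((n + 1 + 1 : ℕ) : ℤ)) _ (-(n : ℤ)) (by simp; omega) (by simp)] at h1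
        refine ShortComplex.exact_of_iso (ShortComplex.isoMk (S₁ := E.sc' (-((n + 1 + 1 : ℕ) : ℤ)) (-((n : ℤ) + 1)) (-(n : ℤ)))
        (S₂ := K.sc' (n + 1 + 1) (n + 1) n) (Iso.refl _) (Iso.refl _) (Iso.refl _) ?_ ?_) h1
        · simp [hK, δ]
        · simp [hK, δ]⟩
    refine ⟨{ complex := K, π := π, projective := fun n => (IsProjective.iff_projective _).1 (hEp (-(n : ℤ))).2 },
      d + 1, fun i hi => hE _ (Or.inl (by omega)), fun i => (hEp (-(i : ℤ))).1⟩
  · rintro ⟨P, d, hd, hf⟩
    refine ⟨P.cochainComplex, -(d : ℤ), 0, fun i hi => ?_, fun i => ?_,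
      ⟨asIso (DerivedCategory.Q.map P.π') ≪≫ ((DerivedCategory.singleFunctorIsoCompQ (ModuleCat.{u} R) 0).app (ModuleCat.of R M)).symm⟩⟩
    · rcases hi with hi | hi
      · exact (hd (-i).toNat (by omega)).of_iso (P.cochainComplexXIso i (-i).toNat (by omega))
      · exact CochainComplex.isZero_of_isStrictlyLE P.cochainComplex 0 i hi
    · by_cases hi : i ≤ 0
      · have e := P.cochainComplexXIso i (-i).toNat (by omega)
        haveI := hf (-i).toNat
        haveI : Module.Projective R (P.complex.X (-i).toNat) := (IsProjective.iff_projective _).2 (P.projective _)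
        exact ⟨Module.Finite.equiv e.symm.toLinearEquiv, Module.Projective.of_equiv e.symm.toLinearEquiv⟩
      · haveI := ModuleCat.subsingleton_of_isZero (CochainComplex.isZero_of_isStrictlyLE P.cochainComplex 0 i (by omega))
        exact ⟨inferInstance, inferInstance⟩

end Groth.Agent.S6955

#print axioms Groth.Agent.S6955.result
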