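import Groth.Statements.S6957
import Groth.Agent.DCat.LTensorModule

set_option autoImplicit false
set_option backward.isDefEq.respectTransparency false
set_option backward.defeqAttrib.useBackward true
universe u
open CategoryTheory CategoryTheory.Limits
attribute [local instance] HasDerivedCategory.standard
open DRing

namespace Groth.Agent.S6957

/-- Let A → B be a homomorphism of commutative rings such that the derived base change D(A) → D(B)
exists, and let K be a perfect object of D(A). Then K ⊗^L_A B is a perfect object of D(B). -/
theorem result {A B : Type u} [CommRing A] [CommRing B] (φ : A →+* B)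
    [DRing.HasLBaseChange φ] (K : Dual.D A) (hK : DRing.IsPerfect A K) :
    DRing.IsPerfect B ((DRing.LBaseChange φ).obj K) := by
  obtain ⟨P, a, b, hPz, hPp, ⟨e⟩⟩ := hK
  have hflat : DRing.TermwiseFlat P := fun i => by
    haveI := (hPp i).2
    exact Module.Flat.of_projective
  refine ⟨((ModuleCat.extendScalars φ).mapHomologicalComplex (ComplexShape.up ℤ)).obj P, a, b,
    fun i hi => (ModuleCat.extendScalars φ).map_isZero (hPz i hi), fun i => ?_,
    ⟨(Groth.Agent.DCat.lbaseChangeIso φ (Groth.Agent.DCat.isKFlatFor_of_vanishesAbove P b
      (fun n hn => hPz n (Or.inr hn)) hflat)).symm ≪≫ (DRing.LBaseChange φ).mapIso e⟩⟩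
  letI := φ.toAlgebra
  haveI := (hPp i).1
  haveI := (hPp i).2
  exact ⟨Module.Finite.base_change A B (P.X i),
    Module.Projective.tensorProduct (R₀ := A) (R := B) (M := B) (N := P.X i)⟩


end Groth.Agent.S6957
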