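import Groth.Statements.S6959
import Groth.Agent.DRingLib.PCGen
import Groth.Agent.DCat.DTenEval
import Groth.Agent.DCat.LTensorCx

set_option autoImplicit false
set_option backward.isDefEq.respectTransparency false
set_option backward.defeqAttrib.useBackward true
universe u
open CategoryTheory CategoryTheory.Limits
attribute [local instance] HasDerivedCategory.standard
open DRing

namespace Groth.Agent.S6959

/-- Let R be a commutative ring, K a perfect object of D(R) and L a cochain complex of R-modules
defining a perfect object of D(R); assume the derived tensor product - ⊗^L_R L exists on D(R). Then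
K ⊗^L_R L is a perfect object of D(R). -/
theorem result (R : Type u) [CommRing R] (K : Dual.D R) (hK : DRing.IsPerfect R K)
    (L : DRing.Cx R) (hL : DRing.IsPerfect R (DRing.toD L)) [DRing.HasLTensorCx R L] :
    DRing.IsPerfect R ((DRing.LTensorCx R L).obj K) := by
  haveI := Groth.Agent.DCat.hasLTen R
  obtain ⟨E, a, b, hE, hp, ⟨e⟩⟩ := hK
  have hEk : Groth.Agent.DCat.IsKFlatFor (Groth.Agent.DCat.modT R) E :=
    Groth.Agent.DCat.isKFlatFor_of_flat E b (fun i hi => hE i (Or.inr hi)) (fun i => haveI := (hp i).2; inferInstance)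
  let X := DerivedCategory.Q.obj L
  have h0 : DRing.IsPerfect R ((DTen.tensorRightD R X).obj (DerivedCategory.Q.obj E)) := by
    refine Groth.Agent.DCat.devissage (fun M => DRing.IsPerfect R ((DTen.tensorRightD R X).obj M))
      (fun f h => Groth.Agent.DRingLib.perfect_of_iso ((DTen.tensorRightD R X).mapIso f) h)
      (fun T hT h₁ h₂ _ _ => ?_) (fun r h => Groth.Agent.DRingLib.perfect_retract (r.map _) h) (fun n => ?_)
      ⟨E, a, b, hE, hp, ⟨Iso.refl _⟩⟩
    · obtain ⟨δ, hδ⟩ := Groth.Agent.DCat.mapsTri_tensorRightD X T hT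
      exact Groth.Agent.DRingLib.perfect_cone hδ h₁ h₂
    · haveI := Groth.Agent.DCat.isIso_ε_of_left (L := L) (Groth.Agent.DCat.isKFlatFor_unitShift (A := R) n)
      refine Groth.Agent.DRingLib.perfect_of_iso ?_ (Groth.Agent.DRingLib.perfect_shift hL (-n))
      let e₁ := (Groth.Agent.DCat.modT R).map₂CochainComplex.flip.obj L
      exact (DerivedCategory.Q.commShiftIso (-n)).symm.app L ≪≫ DerivedCategory.Q.mapIso
          ((shiftFunctor (DRing.Cx R) (-n)).mapIso (MonoidalCategoryStruct.leftUnitor L).symm ≪≫ (e₁.commShiftIso (-n)).symm.app (MonoidalCategoryStruct.tensorUnit (DRing.Cx R)) ≪≫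
            e₁.mapIso (((CochainComplex.singleFunctors (ModuleCat.{u} R)).shiftIso (-n) n 0 (by omega)).app
              (MonoidalCategoryStruct.tensorUnit (ModuleCat.{u} R)))) ≪≫
        (asIso ((DTen.ε R).app (Groth.Agent.DCat.unitShift R n, L))).symm
  haveI := Groth.Agent.DCat.isIso_ε_of_left (L := L) hEk
  haveI := Groth.Agent.DCat.isIso_ltensorCx_counit L hEk
  exact Groth.Agent.DRingLib.perfect_of_iso
    (asIso ((DTen.ε R).app (E, L)) ≪≫ (asIso (((DRing.tensorCxQ R L).totalLeftDerivedCounit DerivedCategory.Q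
      (HomologicalComplex.quasiIso (ModuleCat.{u} R) (ComplexShape.up ℤ))).app E)).symm ≪≫
      (DRing.LTensorCx R L).mapIso e) h0


end Groth.Agent.S6959
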