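import Groth.Statements.S6964
import Groth.Agent.DCat.ProjAmp

set_option autoImplicit false
set_option backward.isDefEq.respectTransparency false
set_option backward.defeqAttrib.useBackward true
universe u
open CategoryTheory CategoryTheory.Limits
attribute [local instance] HasDerivedCategory.standard
open DRing

namespace Groth.Agent.S6964

/-- Let R be a commutative ring, K an object of D(R) and a, b integers. These four conditions are
equivalent: (1) the projective amplitude of K lies in [a, b], meaning K is isomorphic in D(R) to a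
complex of projective R-modules vanishing outside [a, b]; (2) Hom(K, N[i]) = 0 in D(R) for every
R-module N and every integer i outside [-b, -a]; (3) H^n(K) = 0 for all n > b and Hom(K, N[i]) = 0
for every R-module N and every i > -a; (4) H^n(K) = 0 for all n outside [a - 1, b] and Hom(K, N[-a +
1]) = 0 for every R-module N. -/
theorem result (R : Type u) [CommRing R] (K : Dual.D R) (a b : ℤ) :
    [∃ P : DRing.Cx R, DRing.VanishesOutside P a b ∧ (∀ i : ℤ, Module.Projective R (P.X i)) ∧
        Nonempty (DRing.toD P ≅ K),
      ∀ (N : Type u) [AddCommGroup N] [Module R N] (i : ℤ), (i < -b ∨ -a < i) →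
        Subsingleton (DRing.ExtD R K (Dual.inD R N) i),
      (∀ n : ℤ, b < n → Subsingleton (Dual.HD R K n)) ∧
        ∀ (N : Type u) [AddCommGroup N] [Module R N] (i : ℤ), -a < i → Subsingleton (DRing.ExtD R K (Dual.inD R N) i),
      (∀ n : ℤ, (n < a - 1 ∨ b < n) → Subsingleton (Dual.HD R K n)) ∧
        ∀ (N : Type u) [AddCommGroup N] [Module R N], Subsingleton (DRing.ExtD R K (Dual.inD R N) (-a + 1))].TFAE := by
  tfae_have 1 → 2 := by
    rintro ⟨P, hP, hPp, ⟨e⟩⟩ N _ _ i hi
    have : P.IsStrictlyLE b := (CochainComplex.isStrictlyLE_iff P b).2 fun n hn => hP n (Or.inr hn)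
    have hp : ∀ n, CategoryTheory.Projective (P.X n) := fun n => by
      have := hPp n
      have : CategoryTheory.Projective (ModuleCat.of R (P.X n)) := inferInstance
      exact this
    have : P.IsKProjective := CochainComplex.isKProjective_of_projective P b
    refine subsingleton_of_forall_eq 0 ?_
    exact (DCat.Amplitude.to_shift_iff e (ModuleCat.of R N) i).2
      ((DCat.Amplitude.to_single_iff P (ModuleCat.of R N) (-i)).2 fun f _ =>
        ⟨0, by rw [(hP (-i) (by omega)).eq_of_src f 0, comp_zero]⟩)
  tfae_have 2 → 3 := fun h => ⟨fun n hn => DCat.ProjAmp.subsingleton_hd K n fun N _ _ => h N (-n) (by omega),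
    fun N _ _ i hi => h N i (Or.inr hi)⟩
  tfae_have 3 → 4 := by
    rintro ⟨h1, h2⟩
    refine ⟨fun n hn => ?_, fun N _ _ => h2 N (-a + 1) (by omega)⟩
    rcases hn with hn | hn
    · exact DCat.ProjAmp.subsingleton_hd K n fun N _ _ => h2 N (-n) (by omega)
    · exact h1 n hn
  tfae_have 4 → 1 := by
    rintro ⟨h1, h2⟩
    obtain ⟨c, rfl⟩ : ∃ c, a = c + 1 := ⟨a - 1, by omega⟩
    have h2' : ∀ (N : Type u) [AddCommGroup N] [Module R N],
        Subsingleton (DRing.ExtD R K (Dual.inD R N) (-c)) := fun N _ _ => by
      have e : -(c + 1) + 1 = -c := by omega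
      exact e ▸ h2 N
    have : K.IsGE (c + 1) := (DerivedCategory.isGE_iff K (c + 1)).2 fun i hi => by
      refine @ModuleCat.isZero_of_subsingleton R _ _ ?_
      by_cases hc : i = c
      · subst hc
        exact DCat.ProjAmp.subsingleton_hd K i h2'
      · exact h1 i (by omega)
    have : K.IsLE b := (DerivedCategory.isLE_iff K b).2 fun i hi =>
      @ModuleCat.isZero_of_subsingleton R _ _ (h1 i (Or.inr hi))
    exact DCat.ProjAmp.exists_rep K c b fun X φ => @Subsingleton.elim _ (h2' X) φ 0
  tfae_finish


end Groth.Agent.S6964
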