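import Groth.Statements.S6966
import Mathlib
-- import your own Groth.Agent.* helpers here

set_option autoImplicit false
universe u
open CategoryTheory CategoryTheory.Limits
attribute [local instance] HasDerivedCategory.standard
open CAlg

namespace Groth.Agent.S6966

attribute [local instance] HasDerivedCategory.standard

open CategoryTheory CategoryTheory.Limits DerivedCategory in
theorem zero_of_projective {R : Type u} [CommRing R] (P Y : ModuleCat.{u} R) [CategoryTheory.Projective P]
    (e : (DerivedCategory.singleFunctor (ModuleCat.{u} R) 0).obj P ⟶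
      ((DerivedCategory.singleFunctor (ModuleCat.{u} R) 0).obj Y)⟦(1 : ℤ)⟧) : e = 0 := by
  rw [← cancel_mono (((singleFunctors (ModuleCat.{u} R)).shiftIso 1 (-1) 0 (by lia)).hom.app _), Limits.zero_comp]
  exact from_singleFunctor_obj_eq_zero_of_projective
    (L := (CochainComplex.singleFunctor (ModuleCat.{u} R) (-1)).obj Y) _ (-1) (by lia)

open CategoryTheory CategoryTheory.Limits in
/-- Let R be a commutative ring, I an ideal of R and M an R-module. Then the following two conditions
coincide: for each a ∈ I, the endomorphism of M given by multiplication by a can be written as a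
composite M → P → M with P some projective R-module; and for every R-module N and every a ∈ I, a
annihilates Ext^1_R(M, N) = Hom(M[0], N[1]) in D(R). -/
theorem result (R : Type u) [CommRing R] (I : Ideal R) (M : Type u)
    [AddCommGroup M] [Module R M] :
    (∀ a ∈ I, ∃ (P : Type u) (_ : AddCommGroup P) (_ : Module R P) (_ : Module.Projective R P)
        (f : M →ₗ[R] P) (g : P →ₗ[R] M), g ∘ₗ f = a • LinearMap.id) ↔
      ∀ (N : Type u) [AddCommGroup N] [Module R N], ∀ a ∈ I,
        ∀ x : DRing.ExtD R (Dual.inD R M) (Dual.inD R N) 1, a • x = 0 := by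
  let Q' := DerivedCategory.singleFunctor (ModuleCat.{u} R) 0
  constructor
  · intro h N _ _ a ha x
    obtain ⟨P, _, _, _, f, g, hfg⟩ := h a ha
    haveI : CategoryTheory.Projective (ModuleCat.of R P) := (IsProjective.iff_projective _).1 inferInstance
    have h0 : (ModuleCat.ofHom f ≫ ModuleCat.ofHom g) = a • 𝟙 (ModuleCat.of R M) := ModuleCat.hom_ext hfg
    calc a • x = Q'.map (a • 𝟙 (ModuleCat.of R M)) ≫ x := by
          rw [Functor.map_smul, CategoryTheory.Linear.smul_comp, CategoryTheory.Functor.map_id, Category.id_comp]
      _ = Q'.map (ModuleCat.ofHom f) ≫ (Q'.map (ModuleCat.ofHom g) ≫ x) := by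
          rw [← h0, Functor.map_comp, Category.assoc]
      _ = 0 := by
          have : Q'.map (ModuleCat.ofHom g) ≫ x = 0 := zero_of_projective (ModuleCat.of R P) (ModuleCat.of R N) _
          rw [this, comp_zero]
  · intro h a ha
    refine ⟨M →₀ R, inferInstance, inferInstance, inferInstance, ?_⟩
    let π : (M →₀ R) →ₗ[R] M := Finsupp.linearCombination R id
    have hπ : Function.Surjective π := fun m => ⟨Finsupp.single m 1, by simp [π]⟩
    let K := LinearMap.ker π
    let S : ShortComplex (ModuleCat.{u} R) := ShortComplex.mk (ModuleCat.ofHom (X := ↥K) (Y := M →₀ R) K.subtype) (ModuleCat.ofHom π)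
      (ModuleCat.hom_ext (LinearMap.ext fun (x : ↥K) => x.2))
    have hS : S.ShortExact :=
      { exact := (ShortComplex.moduleCat_exact_iff S).2 fun x hx => ⟨⟨x, hx⟩, rfl⟩
        mono_f := (ModuleCat.mono_iff_injective _).2 (Submodule.injective_subtype _)
        epi_g := (ModuleCat.epi_iff_surjective _).2 hπ }
    have hz : (a • 𝟙 (Q'.obj (ModuleCat.of R M))) ≫ hS.singleδ = 0 := by
      rw [CategoryTheory.Linear.smul_comp, Category.id_comp]
      exact h K a ha hS.singleδ
    obtain ⟨y, hy⟩ := Pretriangulated.Triangle.coyoneda_exact₃ _ hS.singleTriangle_distinguished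
      (a • 𝟙 (Q'.obj (ModuleCat.of R M))) hz
    obtain ⟨q, hq⟩ := Q'.map_surjective y
    refine ⟨q.hom, π, ?_⟩
    have : q ≫ ModuleCat.ofHom π = a • 𝟙 (ModuleCat.of R M) := by
      apply Q'.map_injective
      rw [Functor.map_comp, Functor.map_smul, CategoryTheory.Functor.map_id, hq]
      exact hy.symm
    exact congrArg ModuleCat.Hom.hom this

end Groth.Agent.S6966
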