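import Mathlib.Algebra.Module.Projective
import Mathlib.LinearAlgebra.Span.Basic
import Mathlib.Algebra.Module.LinearMap.Basic
import Mathlib.RingTheory.Ideal.Defs
import Mathlib

set_option autoImplicit false
universe u
namespace CAlg
end CAlg
open CAlg

namespace Groth.Agent.S6967

/-- Let R be a commutative ring, I an ideal of R and 0 → K → P → M → 0 a short exact sequence of
R-modules with P projective. If multiplication by a on M factors through a projective R-module for
every a ∈ I, then multiplication by a on K factors through a projective R-module for every a ∈ I. -/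
theorem result (R : Type u) [CommRing R] (I : Ideal R)
    {K P M : Type u} [AddCommGroup K] [Module R K] [AddCommGroup P] [Module R P] [Module.Projective R P]
    [AddCommGroup M] [Module R M] (f : K →ₗ[R] P) (g : P →ₗ[R] M) (hf : Function.Injective f)
    (hg : Function.Surjective g) (hfg : LinearMap.range f = LinearMap.ker g)
    (hM : ∀ a ∈ I, ∃ (P : Type u) (_ : AddCommGroup P) (_ : Module R P) (_ : Module.Projective R P)
        (f : M →ₗ[R] P) (g : P →ₗ[R] M), g ∘ₗ f = a • LinearMap.id) :
    ∀ a ∈ I, ∃ (P : Type u) (_ : AddCommGroup P) (_ : Module R P) (_ : Module.Projective R P)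
        (f : K →ₗ[R] P) (g : P →ₗ[R] K), g ∘ₗ f = a • LinearMap.id := by
  intro a ha
  obtain ⟨P', i1, i2, i3, f', g', hfg'⟩ := hM a ha
  obtain ⟨h, hh⟩ := Module.projective_lifting_property g g' hg
  let e : P →ₗ[R] P := a • LinearMap.id - (h ∘ₗ f') ∘ₗ g
  have he : ∀ x, e x ∈ LinearMap.range f := fun x => by
    rw [hfg, LinearMap.mem_ker]
    simp only [e, LinearMap.sub_apply, LinearMap.smul_apply, LinearMap.id_apply, LinearMap.comp_apply, map_sub, map_smul]
    rw [← LinearMap.comp_apply g h, hh, ← LinearMap.comp_apply g' f', hfg']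
    simp
  let ef := LinearEquiv.ofInjective f hf
  refine ⟨P, inferInstance, inferInstance, inferInstance, f, ef.symm.toLinearMap ∘ₗ LinearMap.codRestrict _ e he, ?_⟩
  ext k
  apply hf
  have h0 : g (f k) = 0 := by
    have : f k ∈ LinearMap.ker g := hfg ▸ ⟨k, rfl⟩
    exact this
  have h1 : ∀ z : LinearMap.range f, f (ef.symm z) = (z : P) := fun z => congrArg Subtype.val (ef.apply_symm_apply z)
  simp only [LinearMap.comp_apply, LinearEquiv.coe_coe, LinearMap.smul_apply, LinearMap.id_apply, h1,
    LinearMap.codRestrict_apply, map_smul]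
  simp [e, h0]

end Groth.Agent.S6967
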