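import Mathlib.Algebra.Module.Projective
import Mathlib.LinearAlgebra.Dual.Defs
import Mathlib.RingTheory.Finiteness.Defs
import Mathlib.RingTheory.Ideal.Defs
import Mathlib

set_option autoImplicit false
universe u
namespace CAlg
end CAlg
open CAlg

namespace Groth.Agent.S6968

/-- Let R be a commutative ring, I an ideal of R and M a finitely generated R-module such that
multiplication by a on M factors through a projective R-module for every a ∈ I. Then multiplication
by a on the dual module Hom_R(M, R) factors through a projective R-module for every a ∈ I. -/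
theorem result (R : Type u) [CommRing R] (I : Ideal R) (M : Type u) [AddCommGroup M]
    [Module R M] [Module.Finite R M]
    (hM : ∀ a ∈ I, ∃ (P : Type u) (_ : AddCommGroup P) (_ : Module R P) (_ : Module.Projective R P)
        (f : M →ₗ[R] P) (g : P →ₗ[R] M), g ∘ₗ f = a • LinearMap.id) :
    ∀ a ∈ I, ∃ (P : Type u) (_ : AddCommGroup P) (_ : Module R P) (_ : Module.Projective R P)
        (f : Module.Dual R M →ₗ[R] P) (g : P →ₗ[R] Module.Dual R M), g ∘ₗ f = a • LinearMap.id := by
  intro a ha
  obtain ⟨P', i1, i2, i3, f', g', hfg'⟩ := hM a ha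
  obtain ⟨k, π, hπ⟩ := Module.Finite.exists_fin' R M
  obtain ⟨h, hh⟩ := Module.projective_lifting_property π g' hπ
  refine ⟨Module.Dual R (Fin k → R), inferInstance, inferInstance, inferInstance, π.dualMap,
    (h ∘ₗ f').dualMap, ?_⟩
  ext φ m
  simp only [LinearMap.comp_apply, LinearMap.dualMap_apply, LinearMap.smul_apply, LinearMap.id_apply]
  rw [← LinearMap.comp_apply π h, hh, ← LinearMap.comp_apply g' f', hfg']
  simp

end Groth.Agent.S6968
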