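import Mathlib.Algebra.Module.Projective
import Mathlib.RingTheory.Finiteness.Defs
import Mathlib.RingTheory.Ideal.Defs
import Groth.Agent.CAlgMisc1.Imports

set_option autoImplicit false
universe u
namespace CAlg
end CAlg
open CAlg

namespace Groth.Agent.S6969

/-- Let R be a commutative ring and φ : M → N an R-linear map which factors through a projective
R-module. If M is finitely generated, then φ factors through a finitely generated projective
R-module. -/
theorem result (R : Type u) [CommRing R] {M N : Type u} [AddCommGroup M]
    [Module R M] [Module.Finite R M] [AddCommGroup N] [Module R N] (φ : M →ₗ[R] N)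
    (h : ∃ (P : Type u) (_ : AddCommGroup P) (_ : Module R P) (_ : Module.Projective R P) (f : M →ₗ[R] P)
      (g : P →ₗ[R] N), g ∘ₗ f = φ) :
    ∃ (P : Type u) (_ : AddCommGroup P) (_ : Module R P) (_ : Module.Projective R P) (_ : Module.Finite R P)
      (f : M →ₗ[R] P) (g : P →ₗ[R] N), g ∘ₗ f = φ := by
  classical
  obtain ⟨P, _, _, _, f, g, hfg⟩ := h
  obtain ⟨s, hs⟩ := Module.projective_lifting_property (Finsupp.linearCombination R (id : P → P))
    LinearMap.id (Finsupp.linearCombination_id_surjective R P)
  obtain ⟨t, ht⟩ := Module.Finite.fg_top (R := R) (M := M)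
  let T : Finset P := t.biUnion fun m => (s (f m)).support
  have hT : ∀ m, s (f m) ∈ Finsupp.supported R R (↑T : Set P) := by
    intro m
    have : Submodule.span R (↑t : Set M) ≤ (Finsupp.supported R R (↑T : Set P)).comap (s ∘ₗ f) :=
      Submodule.span_le.2 fun m hm => (Finsupp.mem_supported R _).2 fun z hz =>
        Finset.mem_biUnion.2 ⟨m, hm, hz⟩
    exact this (ht ▸ Submodule.mem_top)
  let e := Finsupp.supportedEquivFinsupp (R := R) (M := R) (↑T : Set P)
  have : Module.Projective R (Finsupp.supported R R (↑T : Set P)) := Module.Projective.of_equiv e.symm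
  have : Module.Finite R (Finsupp.supported R R (↑T : Set P)) := Module.Finite.equiv e.symm
  refine ⟨Finsupp.supported R R (↑T : Set P), inferInstance, inferInstance, inferInstance, inferInstance,
    (s ∘ₗ f).codRestrict _ hT,
    g ∘ₗ Finsupp.linearCombination R id ∘ₗ (Finsupp.supported R R (↑T : Set P)).subtype, ?_⟩
  ext m
  show g (Finsupp.linearCombination R id (s (f m))) = φ m
  rw [← LinearMap.comp_apply (Finsupp.linearCombination R id), hs]
  exact LinearMap.congr_fun hfg m

end Groth.Agent.S6969
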