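import Groth.Statements.S6970
import Groth.Agent.DRingLib.LiftProj
import Groth.Agent.DCat.LeftRes

set_option autoImplicit false
set_option backward.isDefEq.respectTransparency false
set_option backward.defeqAttrib.useBackward true
universe u
open CategoryTheory CategoryTheory.Limits
attribute [local instance] HasDerivedCategory.standard
open DRing

namespace Groth.Agent.S6970

lemma exists_projective_rep {R : Type u} [CommRing R] (K : Dual.D R) (b : ℤ) [K.IsLE b] :
    ∃ (Q : DRing.Cx R), DRing.VanishesAbove Q b ∧ (∀ i, Module.Projective R (Q.X i)) ∧ Nonempty (DRing.toD Q ≅ K) := by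
  obtain ⟨L, hL, ⟨e⟩⟩ := DerivedCategory.exists_iso_Q_obj_of_isLE K b
  haveI := hL
  obtain ⟨Q, α, hQ, hQP, -, hq⟩ := DCat.LeftRes.exists_resolution (fun M : ModuleCat.{u} R => Projective M)
    ⟨ModuleCat.of R PUnit.{u + 1}, ModuleCat.isZero_of_subsingleton _, (IsProjective.iff_projective (R := R) _).1 inferInstance⟩ (fun M => ⟨Projective.over M, Projective.π M, inferInstance, inferInstance⟩) L b
  haveI := hq
  exact ⟨Q, (CochainComplex.isStrictlyLE_iff Q b).1 hQ, fun i => (IsProjective.iff_projective (R := R) _).2 (hQP i),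
    ⟨asIso (DerivedCategory.Q.map α) ≪≫ e.symm⟩⟩

lemma isLE_of_base {R : Type u} [CommRing R] {I : Ideal R} (hI : IsNilpotent I)
    [DRing.HasLBaseChange (Ideal.Quotient.mk I)] (K : Dual.D R) (E : DRing.Cx (R ⧸ I)) (b : ℤ)
    (hEb : DRing.VanishesAbove E b) (hEp : ∀ i : ℤ, Module.Projective (R ⧸ I) (E.X i))
    (eE : DRing.toD E ≅ (DRing.LBaseChange (Ideal.Quotient.mk I)).obj K) : K.IsLE b := by
  haveI : ∀ M : ModuleCat.{u} R, DRing.HasLTensor R M := fun M => DCat.hasLTensor M
  haveI : ∀ M : ModuleCat.{u} (R ⧸ I), DRing.HasLTensor (R ⧸ I) M := fun M => DCat.hasLTensor M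
  obtain ⟨P, c, hP, hPf, hc, -⟩ := DCat.exists_kflat (DerivedCategory.Q.objPreimage K)
  haveI := hc
  let e : DRing.toD P ≅ K := asIso (DerivedCategory.Q.map c) ≪≫ DerivedCategory.Q.objObjPreimageIso K
  refine (DerivedCategory.isLE_iff K b).2 fun i hi => ?_
  refine DCat.exactAt_of_vanish ((DCat.isZero_ltensor_iff _ hP e i).2
    (DCat.exactAt_of_killed (RingHom.ker (Ideal.Quotient.mk I)) (by rwa [Ideal.mk_ker]) P hPf i (fun N hN => ?_) _))
  obtain ⟨M₀, ⟨eN⟩⟩ := DCat.exists_restrict_of_killed _ Ideal.Quotient.mk_surjective N hN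
  refine ((DCat.isZero_ltensor_base_iff _ hP e M₀ i).1 ?_).of_iso
    ((NatIso.mapHomologicalComplex ((MonoidalCategory.tensoringRight (ModuleCat.{u} R)).mapIso eN) _).app P)
  rw [DCat.isZero_ltensor_iff M₀ (DCat.isKFlatFor_of_vanishesAbove E b hEb (DRingLib.termwiseFlat_of_projective hEp)) eE i]
  exact HomologicalComplex.ExactAt.of_isZero ((MonoidalCategory.tensorRight M₀).map_isZero (hEb i hi))

/-- Let R be a commutative ring and I a nilpotent ideal of R such that the derived base change D(R) →
D(R/I) exists. Let K be an object of D(R) and E a bounded above cochain complex of projective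
R/I-modules which is isomorphic in D(R/I) to K ⊗^L_R R/I. Then there is a bounded above cochain
complex P of projective R-modules which is isomorphic to K in D(R) and whose termwise reduction P
⊗_R R/I is isomorphic to E as a complex of R/I-modules. -/
theorem result (R : Type u) [CommRing R] (I : Ideal R)
    (hI : IsNilpotent I) [DRing.HasLBaseChange (Ideal.Quotient.mk I)] (K : Dual.D R)
    (E : DRing.Cx (R ⧸ I)) (b : ℤ) (hEb : DRing.VanishesAbove E b)
    (hEp : ∀ i : ℤ, Module.Projective (R ⧸ I) (E.X i))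
    (hE : Nonempty (DRing.toD E ≅ (DRing.LBaseChange (Ideal.Quotient.mk I)).obj K)) :
    ∃ (P : DRing.Cx R) (b' : ℤ), DRing.VanishesAbove P b' ∧ (∀ i : ℤ, Module.Projective R (P.X i)) ∧
      Nonempty (DRing.toD P ≅ K) ∧ Nonempty ((((ModuleCat.extendScalars (Ideal.Quotient.mk I)).mapHomologicalComplex (ComplexShape.up ℤ)).obj P) ≅ E) := by
  obtain ⟨eE⟩ := hE
  haveI := isLE_of_base hI K E b hEb hEp eE
  obtain ⟨Q, hQb, hQ, ⟨eQ⟩⟩ := exists_projective_rep K b
  let Pc : ObjectProperty (ModuleCat.{u} R) := fun M => Module.Projective R M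
  haveI : Pc.IsClosedUnderIsomorphisms := ⟨fun e h => by
    haveI : Module.Projective R _ := h
    exact Module.Projective.of_equiv e.toLinearEquiv⟩
  exact DRingLib.exists_lift_mod I (DRingLib.liftData I Pc (fun X h => h)
    (fun X Y hX h => by
      haveI : Module.Projective R (X × Y) := h
      exact Module.Projective.of_split (LinearMap.inr R X Y) (LinearMap.snd R X Y) (LinearMap.snd_comp_inr _ _ _))
    (fun X Y f hX hY h => DRingLib.surjective_of_nilpotent I hI f h))
    (fun {X Y} hX hY => by
      haveI : Module.Projective R X := hX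
      haveI : Module.Projective R Y := hY
      exact Module.Projective.of_equiv (ModuleCat.biprodIsoProd X Y).symm.toLinearEquiv)
    K Q b hQb hQ eQ E b hEb
    (fun i => by
      haveI := hEp i
      exact DRingLib.exists_projective_lift I hI (E.X i)) eE


end Groth.Agent.S6970
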