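import Groth.Statements.S6973
import Groth.Agent.DRingLib.LiftProj
import Groth.Agent.DRingLib.PCRes

set_option autoImplicit false
set_option backward.isDefEq.respectTransparency false
set_option backward.defeqAttrib.useBackward true
universe u
open CategoryTheory CategoryTheory.Limits
attribute [local instance] HasDerivedCategory.standard
open DRing

namespace Groth.Agent.S6973

/-- Let (R, I) be a henselian pair such that the derived base change D(R) → D(R/I) exists, K a
pseudo-coherent object of D(R), and E a bounded above cochain complex of finite projective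
R/I-modules which is isomorphic in D(R/I) to K ⊗^L_R R/I. Then there is a bounded above cochain
complex P of finite projective R-modules, isomorphic to K in D(R), whose termwise reduction P ⊗_R
R/I is isomorphic to E as a complex, and such that P^i is free for every i for which E^i is free. -/
theorem result (R : Type u) [CommRing R]
    (I : Ideal R) [HenselianRing R I] [DRing.HasLBaseChange (Ideal.Quotient.mk I)] (K : Dual.D R)
    (hK : DRing.IsPseudoCoherent' R K) (E : DRing.Cx (R ⧸ I)) (b : ℤ) (hEb : DRing.VanishesAbove E b)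
    (hEp : DRing.TermwiseFiniteProjective E)
    (hE : Nonempty (DRing.toD E ≅ (DRing.LBaseChange (Ideal.Quotient.mk I)).obj K)) :
    ∃ (P : DRing.Cx R) (b' : ℤ), DRing.VanishesAbove P b' ∧ DRing.TermwiseFiniteProjective P ∧
      Nonempty (DRing.toD P ≅ K) ∧ Nonempty ((((ModuleCat.extendScalars (Ideal.Quotient.mk I)).mapHomologicalComplex (ComplexShape.up ℤ)).obj P) ≅ E) ∧
      ∀ i : ℤ, Module.Free (R ⧸ I) (E.X i) → Module.Free R (P.X i) := by
  obtain ⟨eE⟩ := hE
  obtain ⟨Q, c, hQc, hQ, ⟨eQ⟩⟩ := hK
  let Pc : ObjectProperty (ModuleCat.{u} R) := fun M => Module.Finite R M ∧ Module.Projective R M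
  haveI : Pc.IsClosedUnderIsomorphisms := ⟨fun e h => by
    haveI := h.1
    haveI := h.2
    exact ⟨Module.Finite.equiv e.toLinearEquiv, Module.Projective.of_equiv e.toLinearEquiv⟩⟩
  have hJ := ‹HenselianRing R I›.jac
  let D := DRingLib.liftData I Pc (fun X h => h.2)
    (fun X Y hX h => by
      haveI : Module.Finite R (X × Y) := h.1
      haveI : Module.Projective R (X × Y) := h.2
      exact ⟨Module.Finite.of_surjective (LinearMap.snd R X Y) LinearMap.snd_surjective,
        Module.Projective.of_split (LinearMap.inr R X Y) (LinearMap.snd R X Y) (LinearMap.snd_comp_inr _ _ _)⟩)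
    (fun X Y f hX hY h => by
      haveI := hY.1
      exact DRingLib.surjective_of_jacobson I hJ f h)
  obtain ⟨P, b', hPb, hP, hPK, ⟨ePE⟩⟩ := DRingLib.exists_lift_mod I D
    (fun {X Y} hX hY => by
      haveI := hX.1
      haveI := hX.2
      haveI := hY.1
      haveI := hY.2
      exact Pc.prop_of_iso (ModuleCat.biprodIsoProd X Y).symm
        (show Module.Finite R (X × Y) ∧ Module.Projective R (X × Y) from ⟨inferInstance, inferInstance⟩))
    K Q c hQc (fun i => ⟨(hQ i).1, by haveI := (hQ i).2; infer_instance⟩) eQ E b hEb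
    (fun i => by
      haveI := (hEp i).1
      haveI := (hEp i).2
      exact DRingLib.exists_finite_projective_lift I (E.X i)) eE
  refine ⟨P, b', hPb, hP, hPK, ⟨ePE⟩, fun i hi => ?_⟩
  haveI := hi
  haveI := (hEp i).1
  obtain ⟨n, ⟨e⟩⟩ : ∃ n, Nonempty (E.X i ≃ₗ[R ⧸ I] (Fin n → R ⧸ I)) := by
    rcases subsingleton_or_nontrivial (R ⧸ I) with h | h
    · haveI := Module.subsingleton (R ⧸ I) (E.X i)
      exact ⟨0, ⟨LinearEquiv.ofSubsingleton _ _⟩⟩
    exact ⟨_, ⟨(Module.finBasis (R ⧸ I) (E.X i)).equivFun⟩⟩
  obtain ⟨u⟩ := D.uniq (hP i) (show Pc (ModuleCat.of R (Fin n → R)) from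
      (show Module.Finite R (Fin n → R) ∧ Module.Projective R (Fin n → R) from ⟨inferInstance, inferInstance⟩))
    ((HomologicalComplex.Hom.isoApp ePE i) ≪≫
      (DRingLib.redIso I (ModuleCat.of R (Fin n → R)) ((TensorProduct.piScalarRight R (R ⧸ I) (R ⧸ I) (Fin n)).trans e.symm)).symm)
  exact Module.Free.of_equiv u.symm.toLinearEquiv


end Groth.Agent.S6973
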