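import Groth.Statements.S6975
import Groth.Agent.DRingLib.FibreExact

set_option autoImplicit false
set_option backward.isDefEq.respectTransparency false
set_option backward.defeqAttrib.useBackward true
universe u
open CategoryTheory CategoryTheory.Limits
attribute [local instance] HasDerivedCategory.standard
open DRing

namespace Groth.Agent.S6975

/-- Let R be a local commutative ring with residue field κ such that the derived base change D(R) → D(κ)
exists, and let K be a pseudo-coherent object of D(R). If there is an integer a with H^i(K ⊗^L_R κ)
= 0 for all i < a, then K is perfect. -/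
theorem result (R : Type u) [CommRing R] [IsLocalRing R]
    [DRing.HasLBaseChange (IsLocalRing.residue R)] (K : Dual.D R) (hK : DRing.IsPseudoCoherent' R K) (a : ℤ)
    (h : ∀ i : ℤ, i < a → Subsingleton (Dual.HD (IsLocalRing.ResidueField R)
      ((DRing.LBaseChange (IsLocalRing.residue R)).obj K) i)) :
    DRing.IsPerfect R K := by
  obtain ⟨P, b₀, hPb, hPf, ⟨e⟩⟩ := hK
  refine (DRingLib.torAmp_of_fibres K P b₀ hPb hPf e a b₀ fun m hm i hi => ?_).2
  obtain rfl := IsLocalRing.eq_maximalIdeal hm
  obtain hi | hi := hi
  · exact DRingLib.exactAt_ext_of_subsingleton (IsLocalRing.residue R)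
      (DRingLib.kflat_of_finiteFree hPb hPf) e i (h i hi)
  · exact HomologicalComplex.ExactAt.of_isZero ((DRingLib.vanishesAbove_ext _ hPb) i hi)


end Groth.Agent.S6975
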