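import Groth.Statements.S6977
import Groth.Agent.RelPerfH3.FibreGlobalDim
import Groth.Agent.CAlgH3.ProjDim
import Mathlib.RingTheory.TensorProduct.Quotient

set_option autoImplicit false
universe u
open CategoryTheory CategoryTheory.Limits
attribute [local instance] HasDerivedCategory.standard
open DRing

set_option backward.isDefEq.respectTransparency false
set_option backward.defeqAttrib.useBackward true
set_option backward.isDefEq.respectTransparency.types false
set_option linter.style.haveILetI false
attribute [local instance] HasDerivedCategory.standard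
open scoped TensorProduct

namespace Groth.Agent.S6977

/-- Let A → B be a flat local homomorphism of local commutative rings such that B/m_A B is a regular
local ring of dimension d, and assume the derived base change D(A) → D(κ_A) to the residue field of
A exists. Let a, b be integers and K a pseudo-coherent object of D(B) such that H^i((K regarded in
D(A)) ⊗^L_A κ_A) = 0 for every i outside [a, b]. Then K is perfect as an object of D(B) and has tor
amplitude in [a - d, b] over B. -/
theorem result {A B : Type u} [CommRing A] [CommRing B] [IsLocalRing A]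
    [IsLocalRing B] [Algebra A B] [IsLocalHom (algebraMap A B)] [Module.Flat A B] (d : ℕ)
    [IsRegularLocalRing (B ⧸ (IsLocalRing.maximalIdeal A).map (algebraMap A B))]
    (hd : ringKrullDim (B ⧸ (IsLocalRing.maximalIdeal A).map (algebraMap A B)) = d)
    [DRing.HasLBaseChange (IsLocalRing.residue A)] (a b : ℤ) (K : Dual.D B) (hK : DRing.IsPseudoCoherent' B K)
    (h : ∀ i : ℤ, (i < a ∨ b < i) → Subsingleton (Dual.HD (IsLocalRing.ResidueField A)
      ((DRing.LBaseChange (IsLocalRing.residue A)).obj ((DRing.restrictD (algebraMap A B)).obj K)) i)) :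
    DRing.IsPerfect B K ∧ DRing.HasTorAmplitudeIn B (a - d) b K := by
  obtain ⟨P, b₀, hPb, hPf, ⟨e⟩⟩ := hK
  refine (DRingLib.torAmp_of_fibres K P b₀ hPb hPf e (a - d) b fun m hm i hi => ?_).symm
  obtain rfl := IsLocalRing.eq_maximalIdeal hm
  let e₁ : B ⧸ (IsLocalRing.maximalIdeal A).map (algebraMap A B) ≃+* IsLocalRing.ResidueField A ⊗[A] B :=
    (Algebra.TensorProduct.quotIdealMapEquivTensorQuot B (IsLocalRing.maximalIdeal A)).toRingEquiv.trans
      (Algebra.TensorProduct.comm A B (A ⧸ IsLocalRing.maximalIdeal A)).toRingEquiv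
  haveI : IsRegularLocalRing (IsLocalRing.ResidueField A ⊗[A] B) := IsRegularLocalRing.of_ringEquiv e₁
  have hd' : (IsLocalRing.maximalIdeal (IsLocalRing.ResidueField A ⊗[A] B)).spanFinrank = d := by
    have h1 := IsRegularLocalRing.spanFinrank_maximalIdeal (R := IsLocalRing.ResidueField A ⊗[A] B)
    rw [← ringKrullDim_eq_of_ringEquiv e₁, hd] at h1
    exact_mod_cast h1
  refine RelPerfH3.FibreGlobalDim.exactAt_closedFibre (A := A) (k := IsLocalRing.ResidueField A) d (fun M => ?_) P b₀ hPb hPf (a := a) (b := b)
    (fun j hj => ?_) (Ideal.Quotient.mk _) (IsLocalRing.ResidueField.map (algebraMap A B))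
    (RingHom.ext fun r => rfl) hi
  · have h1 := CAlgH3.pd_all (R := IsLocalRing.ResidueField A ⊗[A] B) (M : Type u)
    rw [hd'] at h1
    exact h1
  let P₀ := ((ModuleCat.restrictScalars (algebraMap A B)).mapHomologicalComplex (ComplexShape.up ℤ)).obj P
  have hP₀ : DRing.VanishesAbove P₀ b₀ := fun n hn =>
    (ModuleCat.restrictScalars (algebraMap A B)).map_isZero (hPb n hn)
  have hP₀f : DRing.TermwiseFlat P₀ := fun n => by
    letI : Module A (P.X n) := Module.compHom (P.X n) (algebraMap A B)
    haveI : IsScalarTower A B (P.X n) := IsScalarTower.of_algebraMap_smul fun _ _ => rfl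
    haveI := (hPf n).2
    exact Module.Flat.trans A B (P.X n)
  let e₀ : DRing.toD P₀ ≅ (DRing.restrictD (algebraMap A B)).obj K :=
    ((ModuleCat.restrictScalars (algebraMap A B)).mapDerivedCategoryFactors.app P).symm ≪≫
      (DRing.restrictD (algebraMap A B)).mapIso e
  exact DRingLib.exactAt_ext_of_subsingleton (IsLocalRing.residue A)
    (DCat.isKFlatFor_of_vanishesAbove P₀ b₀ hP₀ hP₀f) e₀ j (h j hj)

end Groth.Agent.S6977
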