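import Groth.Statements.S6979
import Groth.Agent.DRingLib.PCDescent

set_option autoImplicit false
set_option backward.isDefEq.respectTransparency false
set_option backward.defeqAttrib.useBackward true
universe u
open CategoryTheory CategoryTheory.Limits
attribute [local instance] HasDerivedCategory.standard
open DRing

namespace Groth.Agent.S6979

/-- Let R be a commutative ring and I a nilpotent ideal of R such that the derived base change D(R) →
D(R/I) exists, and let K be an object of D(R). If K ⊗^L_R R/I is a perfect object of D(R/I), then K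
is a perfect object of D(R). -/
theorem result (R : Type u) [CommRing R] (I : Ideal R)
    (hI : IsNilpotent I) [DRing.HasLBaseChange (Ideal.Quotient.mk I)] (K : Dual.D R)
    (hK : DRing.IsPerfect (R ⧸ I) ((DRing.LBaseChange (Ideal.Quotient.mk I)).obj K)) :
    DRing.IsPerfect R K := by
  haveI : ∀ A : ModuleCat.{u} R, DRing.HasLTensor R A := fun A => DCat.hasLTensor A
  haveI : ∀ A : ModuleCat.{u} (R ⧸ I), DRing.HasLTensor (R ⧸ I) A := fun A => DCat.hasLTensor A
  obtain ⟨hpc, a, b, ht⟩ := (DRingLib.perfect_iff _).1 hK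
  have hnil : IsNilpotent (RingHom.ker (Ideal.Quotient.mk I)) := by rwa [Ideal.mk_ker]
  refine (DRingLib.perfect_iff K).2
    ⟨DRingLib.pc'_descend _ Ideal.Quotient.mk_surjective hnil K hpc, a, b, ?_⟩
  obtain ⟨P, c, hP, hPf, hc, -⟩ := DCat.exists_kflat (DerivedCategory.Q.objPreimage K)
  haveI := hc
  let e : DRing.toD P ≅ K := asIso (DerivedCategory.Q.map c) ≪≫ DerivedCategory.Q.objObjPreimageIso K
  refine DCat.flatAmp_of_vanish fun M i hi => ?_
  rw [DCat.isZero_ltensor_iff M hP e i]
  refine DCat.exactAt_of_killed _ hnil P hPf i (fun N hN => ?_) M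
  obtain ⟨M₀, ⟨eN⟩⟩ := DCat.exists_restrict_of_killed _ Ideal.Quotient.mk_surjective N hN
  exact ((DCat.isZero_ltensor_base_iff _ hP e M₀ i).1 (DCat.vanish_of_flatAmp ht M₀ hi)).of_iso
    ((NatIso.mapHomologicalComplex ((MonoidalCategory.tensoringRight (ModuleCat.{u} R)).mapIso eN) _).app P)


end Groth.Agent.S6979
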