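import Groth.Statements.S6980
import Groth.Agent.DRingLib.PCDescentPair

set_option autoImplicit false
set_option backward.isDefEq.respectTransparency false
set_option backward.defeqAttrib.useBackward true
universe u
open CategoryTheory CategoryTheory.Limits
attribute [local instance] HasDerivedCategory.standard
open DRing

namespace Groth.Agent.S6980

lemma transfer {R A B : Type u} [CommRing R] [CommRing A] [CommRing B] (π : R →+* A) (φ : A →+* B)
    [DRing.HasLBaseChange π] [DRing.HasLBaseChange φ] [DRing.HasLBaseChange (φ.comp π)] (K : Dual.D R)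
    (h : DRing.IsPerfect B ((DRing.LBaseChange (φ.comp π)).obj K)) :
    DRing.IsPerfect B ((DRing.LBaseChange φ).obj ((DRing.LBaseChange π).obj K)) := by
  obtain ⟨P, c, hP, -, hc, -⟩ := DCat.exists_kflat (DerivedCategory.Q.objPreimage K)
  haveI := hc
  let e : DRing.toD P ≅ K := asIso (DerivedCategory.Q.map c) ≪≫ DerivedCategory.Q.objObjPreimageIso K
  obtain ⟨E, a, b, hE₁, hE₂, ⟨eE⟩⟩ := h
  exact ⟨E, a, b, hE₁, hE₂, ⟨eE ≪≫ (DRing.LBaseChange (φ.comp π)).mapIso e.symm ≪≫ DCat.lbaseChangeIso (φ.comp π) hP ≪≫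
    (show DRing.toD (((ModuleCat.extendScalars.{u, u, u} (φ.comp π)).mapHomologicalComplex (ComplexShape.up ℤ)).obj P) ≅ DRing.toD (((ModuleCat.extendScalars.{u, u, u} φ).mapHomologicalComplex (ComplexShape.up ℤ)).obj (((ModuleCat.extendScalars.{u, u, u} π).mapHomologicalComplex (ComplexShape.up ℤ)).obj P)) from DerivedCategory.Q.mapIso (((NatIso.mapHomologicalComplex (ModuleCat.extendScalarsComp π φ) (ComplexShape.up ℤ)).app P))) ≪≫
    (DCat.lbaseChangeIso φ (DCat.isKFlatFor_ext π hP)).symm ≪≫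
    (DRing.LBaseChange φ).mapIso ((DCat.lbaseChangeIso π hP).symm ≪≫ (DRing.LBaseChange π).mapIso e)⟩⟩

/-- Let R be a commutative ring, I and J ideals of R such that the derived base changes D(R) → D(R/I),
D(R/J), D(R/IJ) exist, and K an object of D(R). If K ⊗^L_R R/I is perfect in D(R/I) and K ⊗^L_R R/J
is perfect in D(R/J), then K ⊗^L_R R/IJ is perfect in D(R/IJ). -/
theorem result (R : Type u) [CommRing R] (I J : Ideal R)
    [DRing.HasLBaseChange (Ideal.Quotient.mk I)] [DRing.HasLBaseChange (Ideal.Quotient.mk J)]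
    [DRing.HasLBaseChange (Ideal.Quotient.mk (I * J))] (K : Dual.D R)
    (hI : DRing.IsPerfect (R ⧸ I) ((DRing.LBaseChange (Ideal.Quotient.mk I)).obj K))
    (hJ : DRing.IsPerfect (R ⧸ J) ((DRing.LBaseChange (Ideal.Quotient.mk J)).obj K)) :
    DRing.IsPerfect (R ⧸ (I * J)) ((DRing.LBaseChange (Ideal.Quotient.mk (I * J))).obj K) := by
  let fI : R ⧸ (I * J) →+* R ⧸ I := Ideal.Quotient.factor (show I * J ≤ I from Ideal.mul_le.2 fun r hr s _ => I.mul_mem_right s hr)
  let fJ : R ⧸ (I * J) →+* R ⧸ J := Ideal.Quotient.factor (show I * J ≤ J from Ideal.mul_le.2 fun r _ s hs => J.mul_mem_left r hs)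
  have eI : fI.comp (Ideal.Quotient.mk (I * J)) = Ideal.Quotient.mk I := RingHom.ext fun r => rfl
  have eJ : fJ.comp (Ideal.Quotient.mk (I * J)) = Ideal.Quotient.mk J := RingHom.ext fun r => rfl
  haveI := DCat.hasLBaseChange fI
  haveI := DCat.hasLBaseChange fJ
  haveI : DRing.HasLBaseChange (fI.comp (Ideal.Quotient.mk (I * J))) := DCat.hasLBaseChange _
  haveI : DRing.HasLBaseChange (fJ.comp (Ideal.Quotient.mk (I * J))) := DCat.hasLBaseChange _
  refine DRingLib.perfect_descend₂ fI fJ (Ideal.Quotient.factor_surjective _) (Ideal.Quotient.factor_surjective _) ?_ _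
    (transfer _ _ K ?_) (transfer _ _ K ?_)
  · rw [Ideal.Quotient.factor_ker, Ideal.Quotient.factor_ker, ← Ideal.map_mul, Ideal.map_quotient_self]
  · convert hI
  · convert hJ


end Groth.Agent.S6980
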