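import Groth.Statements.S6982
import Groth.Agent.DCat.ExtKFlat
import Groth.Agent.DCat.NilpotentBC
import Groth.Agent.DCat.DCNakayama
import Mathlib.Algebra.Polynomial.Inductions
import Mathlib.Algebra.Homology.HomotopyCategory.ShortExact
import Mathlib.Algebra.Homology.DerivedCategory.ShortExact

set_option autoImplicit false
set_option backward.isDefEq.respectTransparency false
set_option backward.defeqAttrib.useBackward true
universe u
open CategoryTheory CategoryTheory.Limits
attribute [local instance] HasDerivedCategory.standard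
open DRing

namespace Groth.Agent.S6982

open CategoryTheory.Pretriangulated Polynomial TensorProduct

variable {R : Type u} [CommRing R]

/-- Extension of scalars to `R[X]`. -/
noncomputable abbrev F₁ : ModuleCat.{u} R ⥤ ModuleCat.{u} R[X] := ModuleCat.extendScalars.{u, u, u} (C : R →+* R[X])

/-- Evaluation at zero. -/
noncomputable abbrev ev : R[X] →+* R := evalRingHom (0 : R)

lemma ev_comp : (ev (R := R)).comp C = RingHom.id R := by ext r; simp [ev]

/-- Setting `X` to zero on extended modules. -/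
noncomputable def τ : F₁ (R := R) ⟶ ModuleCat.restrictScalars.{u} (ev (R := R)) :=
  (Functor.leftUnitor _).inv ≫
    Functor.whiskerRight ((ModuleCat.restrictScalarsId' _ (ev_comp (R := R))).inv ≫
      (ModuleCat.restrictScalarsComp' C ev _ rfl).hom) F₁ ≫
    (Functor.associator _ _ _).hom ≫
    Functor.whiskerLeft _ (ModuleCat.extendRestrictScalarsAdj.{u, u, u} (C : R →+* R[X])).counit ≫
    (Functor.rightUnitor _).hom

lemma τ_apply (M : ModuleCat.{u} R) (a : R[X]) (m : M) : ((τ.app M).hom (a ⊗ₜ[R] m) : M) = ev a • m := rfl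

lemma X_smul_apply (M : ModuleCat.{u} R) (a : R[X]) (m : M) :
    ((X : R[X]) • (a ⊗ₜ[R] m : F₁.obj M)) = (((X : R[X]) * a) ⊗ₜ[R] m : F₁.obj M) := rfl

/-- `m ↦ 1 ⊗ m`. -/
noncomputable def inc (M : ModuleCat.{u} R) (m : M) : F₁.obj M := (1 : R[X]) ⊗ₜ[R] m

lemma shortExact_deg (M : ModuleCat.{u} R) :
    ∃ w, (ShortComplex.mk ((X : R[X]) • 𝟙 (F₁.obj M)) (τ.app M) w).ShortExact := by
  let T : ModuleCat.{u} R := (ModuleCat.restrictScalars (C : R →+* R[X])).obj (ModuleCat.of R[X] R[X])
  let δ : (T : Type u) →ₗ[R] T :=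
    { toFun := fun p => (divX (p : R[X]) : R[X])
      map_add' := fun p q => divX_add
      map_smul' := fun r p => divX_C_mul }
  let r : (F₁.obj M : Type u) →+ (F₁.obj M : Type u) := (δ.rTensor M).toAddMonoidHom
  have hr : ∀ (a : R[X]) (m : M), r (a ⊗ₜ[R] m) = (divX a ⊗ₜ[R] m : F₁.obj M) := fun a m => rfl
  have hid : ∀ z : F₁.obj M, r ((X : R[X]) • z) = z := fun z => by
    induction z using TensorProduct.induction_on with
    | zero => simp
    | tmul a m =>
      rw [X_smul_apply, hr]
      congr 1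
      show divX ((X : R[X]) * (show R[X] from a)) = (show R[X] from a)
      ext n
      simp [coeff_divX, coeff_X_mul]
    | add u v hu hv => rw [smul_add, map_add, hu, hv]
  have hdec : ∀ z : F₁.obj M, z = (X : R[X]) • r z + inc M ((τ.app M).hom z : M) := fun z => by
    induction z using TensorProduct.induction_on with
    | zero => simp [inc]
    | tmul a m =>
      show (a ⊗ₜ[R] m : F₁.obj M) = _
      rw [hr, X_smul_apply, τ_apply]
      let a' : R[X] := a
      have hinc : inc M (ev a' • m) = ((C (eval 0 a') * 1 : R[X]) ⊗ₜ[R] m : F₁.obj M) := by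
        refine Eq.trans ?_ (congrArg (fun b : ((ModuleCat.restrictScalars (C : R →+* R[X])).obj (ModuleCat.of R[X] R[X])) =>
          (b ⊗ₜ[R] m : F₁.obj M)) (ModuleCat.restrictScalars.smul_def (M := ModuleCat.of R[X] R[X]) (C : R →+* R[X]) (ev a') ((1 : R[X]))))
        unfold inc
        let one : (ModuleCat.restrictScalars (C : R →+* R[X])).obj (ModuleCat.of R[X] R[X]) := (1 : R[X])
        exact (TensorProduct.smul_tmul (R := R) (R' := R) (ev a') one m).symm
      refine Eq.trans ?_ (congrArg ((((X : R[X]) * divX a') ⊗ₜ[R] m : F₁.obj M) + ·) hinc.symm)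
      refine Eq.trans ?_ (TensorProduct.add_tmul _ _ m)
      congr 1
      show a' = X * divX a' + C (eval 0 a') * 1
      rw [mul_one, ← coeff_zero_eq_eval_zero, X_mul_divX_add]
    | add u v hu hv =>
      have h2 : ∀ a b : M, inc M (a + b) = inc M a + inc M b := fun a b => TensorProduct.tmul_add _ _ _
      conv_lhs => rw [hu, hv]
      rw [map_add r, map_add (τ.app M).hom, smul_add]
      refine Eq.trans ?_ (congrArg (_ + ·) (h2 _ _).symm)
      abel
  have hτX : ∀ z : F₁.obj M, (τ.app M).hom ((X : R[X]) • z) = 0 := fun z => by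
    rw [map_smul]
    show ev (X : R[X]) • ((τ.app M).hom z : M) = 0
    simp [ev]
  have hw : ((X : R[X]) • 𝟙 (F₁.obj M)) ≫ τ.app M = 0 := ModuleCat.hom_ext (LinearMap.ext fun z => hτX z)
  refine ⟨hw, { exact := ?_, mono_f := ?_, epi_g := ?_ }⟩
  · refine (ShortComplex.moduleCat_exact_iff _).2 fun z hz => ⟨r z, ?_⟩
    refine Eq.trans ?_ (hdec z).symm
    show (X : R[X]) • r z = _
    rw [show ((τ.app M).hom z : M) = 0 from hz, show inc M 0 = 0 from TensorProduct.tmul_zero _ _, add_zero]
  · exact (ModuleCat.mono_iff_injective _).2 fun u v h => by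
      rw [← hid u, ← hid v]; exact congrArg r h
  · refine (ModuleCat.epi_iff_surjective _).2 fun m => ⟨inc M m, ?_⟩
    show ((τ.app M).hom ((1 : R[X]) ⊗ₜ[R] (m : M)) : M) = (m : M)
    rw [τ_apply, map_one, one_smul]

lemma map_X_smul (Y : ModuleCat.{u} R[X]) :
    (ModuleCat.extendScalars.{u, u, u} (ev (R := R))).map ((X : R[X]) • 𝟙 Y) = 0 := by
  refine ModuleCat.hom_ext (LinearMap.ext fun z => ?_)
  induction z using TensorProduct.induction_on with
  | zero => exact map_zero _
  | tmul a y =>
    show (a ⊗ₜ[R[X]] ((X : R[X]) • y) : (ModuleCat.extendScalars.{u, u, u} (ev (R := R))).obj Y) = 0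
    rw [TensorProduct.tmul_smul, TensorProduct.smul_tmul']
    refine (congrArg (fun b : R => (b ⊗ₜ[R[X]] y : (ModuleCat.extendScalars.{u, u, u} (ev (R := R))).obj Y))
      (show ev (X : R[X]) * (show R from a) = 0 by simp [ev])).trans (TensorProduct.zero_tmul _ _)
  | add u v hu hv => exact (map_add _ u v).trans ((congrArg₂ (· + ·) hu hv).trans (map_add _ u v).symm)

/-- Let R be a commutative ring, K an object of D(R) and φ : R[x] → R the R-algebra homomorphism sending
x to 0; assume the derived base change D(R[x]) → D(R) along φ exists. Then the derived base change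
along φ of K (regarded as an object of D(R[x]) via φ) is isomorphic in D(R) to K ⊕ K[1]. -/
theorem result (R : Type u) [CommRing R]
    [DRing.HasLBaseChange (Polynomial.evalRingHom (0 : R))] (K : Dual.D R)
    [HasBinaryBiproduct K ((shiftFunctor (Dual.D R) (1 : ℤ)).obj K)] :
    Nonempty ((DRing.LBaseChange (Polynomial.evalRingHom (0 : R))).obj
        ((DRing.restrictD (Polynomial.evalRingHom (0 : R))).obj K) ≅
      K ⊞ (shiftFunctor (Dual.D R) (1 : ℤ)).obj K) := by
  haveI : DRing.HasLBaseChange (ev (R := R)) := ‹_›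
  obtain ⟨P, c, hP, -, hc, -⟩ := DCat.exists_kflat (DerivedCategory.Q.objPreimage K)
  haveI := hc
  let e : DRing.toD P ≅ K := asIso (DerivedCategory.Q.map c) ≪≫ DerivedCategory.Q.objObjPreimageIso K
  let G₁ := (F₁ (R := R)).mapHomologicalComplex (ComplexShape.up ℤ)
  let G₂ := (ModuleCat.extendScalars.{u, u, u} (ev (R := R))).mapHomologicalComplex (ComplexShape.up ℤ)
  let μ : G₁.obj P ⟶ G₁.obj P := (X : R[X]) • 𝟙 (G₁.obj P)
  let ν : G₁.obj P ⟶ (DRing.restrictCx (ev (R := R))).obj P := (NatTrans.mapHomologicalComplex τ _).app P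
  have hw : μ ≫ ν = 0 := by
    ext i : 1
    exact (shortExact_deg (P.X i)).choose
  let S := ShortComplex.mk μ ν hw
  have hS : S.ShortExact := HomologicalComplex.shortExact_of_degreewise_shortExact _ fun i => (shortExact_deg (P.X i)).choose_spec
  haveI := CochainComplex.mappingCone.quasiIso_descShortComplex hS
  let e₁ : DRing.toD (CochainComplex.mappingCone μ) ≅ (DRing.restrictD (ev (R := R))).obj K :=
    asIso (DerivedCategory.Q.map (CochainComplex.mappingCone.descShortComplex S)) ≪≫
      ((ModuleCat.restrictScalars.{u} (ev (R := R))).mapDerivedCategoryFactors.app P).symm ≪≫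
      (DRing.restrictD (ev (R := R))).mapIso e
  have hk := DCat.isKFlatFor_ext (C : R →+* R[X]) hP
  let e₂ := (DRing.LBaseChange (ev (R := R))).mapIso e₁.symm ≪≫
    DCat.lbaseChangeIso (ev (R := R)) (DCat.isKFlatFor_cone μ hk hk) ≪≫
    DerivedCategory.Q.mapIso (CochainComplex.mappingCone.mapHomologicalComplexIso μ _)
  have h0 : G₂.map μ = 0 := by
    ext i : 1
    exact map_X_smul _
  let eP : DRing.toD (G₂.obj (G₁.obj P)) ≅ K :=
    (show DRing.toD (G₂.obj (G₁.obj P)) ≅ DRing.toD P from DerivedCategory.Q.mapIso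
      (((NatIso.mapHomologicalComplex
        ((ModuleCat.extendScalarsComp (C : R →+* R[X]) ev).symm ≪≫
          eqToIso (congrArg ModuleCat.extendScalars.{u, u, u} (ev_comp (R := R))) ≪≫ ModuleCat.extendScalarsId R)
        (ComplexShape.up ℤ)).app P) ≪≫ ((Functor.mapHomologicalComplexIdIso _ _).app P))) ≪≫ e
  have hT := rot_of_distTriang _ (DerivedCategory.mappingCone_triangle_distinguished (G₂.map μ))
  obtain ⟨e₃, -, -⟩ := exists_iso_binaryBiproduct_of_distTriang _ hT (by
    show -((DerivedCategory.Q.map (G₂.map μ))⟦(1 : ℤ)⟧') = 0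
    rw [h0, Functor.map_zero, Functor.map_zero, neg_zero])
  exact ⟨e₂ ≪≫ e₃ ≪≫ biprod.mapIso eP ((shiftFunctor (Dual.D R) (1 : ℤ)).mapIso eP)⟩


end Groth.Agent.S6982
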