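import Groth.Statements.S6988
import Groth.Agent.DRingLib.PCGen

set_option autoImplicit false
set_option backward.isDefEq.respectTransparency false
set_option backward.defeqAttrib.useBackward true
universe u
open CategoryTheory CategoryTheory.Limits
attribute [local instance] HasDerivedCategory.standard
open DRing

namespace Groth.Agent.S6988

/-- Let R be a commutative ring, K a pseudo-coherent object of D(R) and i an integer. Then some finitely
presented R-module M admits a morphism K → M[-i] in D(R) that is injective on H^i (here H^i(M[-i]) =
M). -/
theorem result (R : Type u) [CommRing R] (K : Dual.D R)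
    (hK : DRing.IsPseudoCoherent' R K) (i : ℤ) :
    ∃ (M : Type u) (_ : AddCommGroup M) (_ : Module R M) (_ : Module.FinitePresentation R M)
      (f : K ⟶ (shiftFunctor (Dual.D R) (-i)).obj (Dual.inD R M)),
      Mono ((DerivedCategory.homologyFunctor (ModuleCat.{u} R) i).map f) := by
  obtain ⟨E, b, -, hf, ⟨e⟩⟩ := hK
  let M := E.opcycles i
  let f : E ⟶ (HomologicalComplex.single (ModuleCat.{u} R) (ComplexShape.up ℤ) i).obj M :=
    HomologicalComplex.mkHomToSingle (E.pOpcycles i) fun k _ => by simp
  refine ⟨M, inferInstance, inferInstance, Groth.Agent.DRingLib.finitePresentation_opcycles hf i,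
    e.inv ≫ DerivedCategory.Q.map f ≫ (Groth.Agent.DRingLib.singleIso i M).inv, ?_⟩
  have hm : Mono (HomologicalComplex.homologyMap f i) := by
    haveI : Mono (HomologicalComplex.opcyclesMap f i) := by
      haveI := HomologicalComplex.isIso_pOpcycles ((HomologicalComplex.single (ModuleCat.{u} R) (ComplexShape.up ℤ) i).obj M)
        (i - 1) i (by simp) (HomologicalComplex.single_obj_d _ _ _ _ _)
      have h1 : HomologicalComplex.opcyclesMap f i =
          (HomologicalComplex.singleObjXSelf (ComplexShape.up ℤ) i M).inv ≫
            ((HomologicalComplex.single (ModuleCat.{u} R) (ComplexShape.up ℤ) i).obj M).pOpcycles i := by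
        rw [← cancel_epi (E.pOpcycles i)]
        simp [f, M]
      rw [h1]
      infer_instance
    haveI : Mono (HomologicalComplex.homologyMap f i ≫ HomologicalComplex.homologyι _ i) := by
      rw [HomologicalComplex.homologyι_naturality]
      infer_instance
    exact mono_of_mono (HomologicalComplex.homologyMap f i) (HomologicalComplex.homologyι _ i)
  haveI : Mono ((Groth.Agent.DRingLib.HF R i).map (DerivedCategory.Q.map f)) := by
    haveI := hm
    have := NatIso.naturality_2 (DerivedCategory.homologyFunctorFactors (ModuleCat.{u} R) i) f
    dsimp at this
    rw [← this]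
    infer_instance
  rw [Functor.map_comp, Functor.map_comp]
  infer_instance


end Groth.Agent.S6988
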