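import Groth.Statements.S6989
import Groth.Agent.DRingLib.PCGen
import Groth.Agent.DRingLib.PCRes
import Mathlib.RingTheory.Filtration
import Mathlib.Algebra.Homology.SingleHomology
-- import your own Groth.Agent.* helpers here

set_option autoImplicit false
set_option backward.isDefEq.respectTransparency false
set_option backward.isDefEq.respectTransparency.types false
set_option linter.style.haveILetI false
universe u
open CategoryTheory CategoryTheory.Limits
attribute [local instance] HasDerivedCategory.standard
open DRing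

namespace Groth.Agent.S6989

/-- Let A be a Noetherian commutative ring, K an object of D(A) whose cohomology vanishes in large
degrees and whose cohomology modules are all finitely generated, m a maximal ideal of A and i an
integer such that m H^i(K) ≠ H^i(K). Then some finitely generated A-module E killed by a power of m
receives a morphism K → E[-i] in D(A) whose induced map H^i(K) → H^i(E[-i]) is nonzero. -/
theorem result (A : Type u) [CommRing A]
    [IsNoetherianRing A] (K : Dual.D A) (hb : ∃ b : ℤ, ∀ j : ℤ, b < j → Subsingleton (Dual.HD A K j))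
    (hfin : ∀ j : ℤ, Module.Finite A (Dual.HD A K j)) (m : Ideal A) [m.IsMaximal] (i : ℤ)
    (hi : m • (⊤ : Submodule A (Dual.HD A K i)) ≠ ⊤) :
    ∃ (E : Type u) (_ : AddCommGroup E) (_ : Module A E) (_ : Module.Finite A E) (n : ℕ)
      (_ : m ^ n • (⊤ : Submodule A E) = ⊥) (f : K ⟶ (shiftFunctor (Dual.D A) (-i)).obj (Dual.inD A E)),
      (DerivedCategory.homologyFunctor (ModuleCat.{u} A) i).map f ≠ 0 := by
  obtain ⟨b, hb⟩ := hb
  have hKb : K.IsLE b := (DerivedCategory.isLE_iff _ b).2 fun j hj => @ModuleCat.isZero_of_subsingleton _ _ _ (hb j hj)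
  obtain ⟨P, b₀, -, hPf, ⟨eK⟩⟩ := DRingLib.pc'_of_forall (fun m₀ => DRingLib.pc_of_finite_homology (m := m₀) hKb (fun j _ => hfin j))
  haveI := (hPf i).1
  let M : ModuleCat.{u} A := P.opcycles i
  haveI : Module.Finite A M := Module.Finite.of_surjective (P.pOpcycles i).hom ((ModuleCat.epi_iff_surjective _).1 inferInstance)
  let ι : P.homology i →ₗ[A] M := (P.homologyι i).hom
  have hι : Function.Injective ι := (ModuleCat.mono_iff_injective _).1 inferInstance
  obtain ⟨k, hk⟩ := Ideal.exists_pow_inf_eq_pow_smul m (LinearMap.range ι)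
  let N₀ : Submodule A M := m ^ (k + 1) • ⊤
  have key : ¬ LinearMap.range ι ≤ N₀ := fun hle => by
    apply hi
    have e := hk (k + 1) (by omega)
    rw [inf_eq_right.2 hle, show k + 1 - k = 1 by omega, pow_one] at e
    have h1 : LinearMap.range ι ≤ m • LinearMap.range ι := e.le.trans (Submodule.smul_mono le_rfl inf_le_right)
    let eH : Dual.HD A K i ≃ₗ[A] P.homology i := ((DerivedCategory.homologyFunctor _ i).mapIso eK.symm ≪≫ (DerivedCategory.homologyFunctorFactors _ i).app P).toLinearEquiv
    have h2 : (⊤ : Submodule A (P.homology i)) ≤ m • ⊤ := by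
      intro x _
      have hx := h1 ⟨x, rfl⟩
      rw [← Submodule.map_top, ← Submodule.map_smul''] at hx
      obtain ⟨y, hy, hyx⟩ := hx
      rwa [← hι hyx]
    rw [eq_top_iff]
    intro x _
    have hx : eH x ∈ (m • ⊤ : Submodule A (P.homology i)) := h2 trivial
    rw [← LinearEquiv.range eH, ← Submodule.map_top, ← Submodule.map_smul''] at hx
    obtain ⟨y, hy, hyx⟩ := hx
    rwa [← eH.injective hyx]
  let E := M ⧸ N₀
  let q : M ⟶ ModuleCat.of A E := ModuleCat.ofHom N₀.mkQ
  let c : P ⟶ (HomologicalComplex.single (ModuleCat.{u} A) (ComplexShape.up ℤ) i).obj (ModuleCat.of A E) :=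
    HomologicalComplex.mkHomToSingle (P.pOpcycles i ≫ q) (fun j _ => by rw [P.d_pOpcycles_assoc, Limits.zero_comp])
  have hc : HomologicalComplex.homologyMap c i ≠ 0 := fun h0 => by
    have e := HomologicalComplex.homologyι_naturality c i
    rw [h0, Limits.zero_comp] at e
    let S := (HomologicalComplex.single (ModuleCat.{u} A) (ComplexShape.up ℤ) i).obj (ModuleCat.of A E)
    have e2 : HomologicalComplex.opcyclesMap c i = q ≫ (HomologicalComplex.singleObjXSelf (ComplexShape.up ℤ) i (ModuleCat.of A E)).inv ≫ S.pOpcycles i := by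
      rw [← cancel_epi (P.pOpcycles i), HomologicalComplex.p_opcyclesMap]
      simp [c, S, HomologicalComplex.mkHomToSingle_f]
    haveI : IsIso (S.pOpcycles i) := S.isIso_pOpcycles (i - 1) i (by simp) (HomologicalComplex.single_obj_d _ _ _ _ _)
    rw [e2, ← Category.assoc] at e
    have e3 : P.homologyι i ≫ q = 0 := by
      rw [← cancel_mono ((HomologicalComplex.singleObjXSelf (ComplexShape.up ℤ) i (ModuleCat.of A E)).inv ≫ S.pOpcycles i), Limits.zero_comp]
      exact e.symm
    refine key ?_
    rintro _ ⟨x, rfl⟩
    exact (Submodule.Quotient.mk_eq_zero N₀).1 (congrArg (fun f : P.homology i ⟶ ModuleCat.of A E => f.hom x) e3)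
  let g : DerivedCategory.Q.obj ((HomologicalComplex.single (ModuleCat.{u} A) (ComplexShape.up ℤ) i).obj (ModuleCat.of A E)) ≅
      (shiftFunctor (Dual.D A) (-i)).obj (Dual.inD A E) :=
    ((DerivedCategory.singleFunctorIsoCompQ (ModuleCat.{u} A) i).app (ModuleCat.of A E)).symm ≪≫
      (((DerivedCategory.singleFunctors (ModuleCat.{u} A)).shiftIso (-i) i 0 (by omega)).app (ModuleCat.of A E)).symm
  refine ⟨E, inferInstance, inferInstance, inferInstance, k + 1, ?_, eK.inv ≫ DerivedCategory.Q.map c ≫ g.hom, fun h0 => hc ?_⟩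
  · rw [← Submodule.range_mkQ N₀, ← Submodule.map_top, ← Submodule.map_smul'']
    rw [← le_bot_iff, Submodule.map_le_iff_le_comap]
    exact (Submodule.ker_mkQ N₀).ge
  · rw [Functor.map_comp, Functor.map_comp] at h0
    have h1 : (DerivedCategory.homologyFunctor _ i).map (DerivedCategory.Q.map c) = 0 := by
      rw [← cancel_epi ((DerivedCategory.homologyFunctor _ i).map eK.inv), ← cancel_mono ((DerivedCategory.homologyFunctor _ i).map g.hom), Category.assoc, h0]
      simp
    have hn := (DerivedCategory.homologyFunctorFactors (ModuleCat.{u} A) i).hom.naturality c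
    rw [Functor.comp_map, h1, Limits.zero_comp] at hn
    exact (cancel_epi ((DerivedCategory.homologyFunctorFactors (ModuleCat.{u} A) i).hom.app P)).1 (hn.symm.trans Limits.comp_zero.symm)

end Groth.Agent.S6989

#print axioms Groth.Agent.S6989.result
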