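import Mathlib.RingTheory.MvPolynomial.Basic
import Mathlib.Algebra.Module.FinitePresentation
import Mathlib.RingTheory.FiniteType
import Groth.Agent.CAlgMisc2.FPSurj

set_option autoImplicit false
universe u
namespace CAlg
end CAlg
open CAlg

namespace Groth.Agent.S6991

/-- Let R → A be a finite type homomorphism of commutative rings, M an A-module, and α : R[x_1, ...,
x_n] → A, β : R[y_1, ..., y_k] → A surjective R-algebra homomorphisms. Then M is finitely presented
as an R[x_1, ..., x_n]-module through α if and only if M is finitely presented as an R[y_1, ...,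
y_k]-module through β. If this holds, M is a finitely presented A-module. -/
theorem result {R A : Type u} [CommRing R] [CommRing A] [Algebra R A]
    [Algebra.FiniteType R A] (M : Type u) [AddCommGroup M] [Module A M] {n k : ℕ}
    (α : MvPolynomial (Fin n) R →ₐ[R] A) (hα : Function.Surjective α)
    (β : MvPolynomial (Fin k) R →ₐ[R] A) (hβ : Function.Surjective β) :
    (@Module.FinitePresentation (MvPolynomial (Fin n) R) M _ _ (Module.compHom M α.toRingHom) ↔
      @Module.FinitePresentation (MvPolynomial (Fin k) R) M _ _ (Module.compHom M β.toRingHom)) ∧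
      (@Module.FinitePresentation (MvPolynomial (Fin n) R) M _ _ (Module.compHom M α.toRingHom) →
        Module.FinitePresentation A M) := by
  classical
  obtain ⟨a, ha⟩ : ∃ a : Fin k → MvPolynomial (Fin n) R, ∀ j, α (a j) = β (MvPolynomial.X j) :=
    ⟨fun j => (hα _).choose, fun j => (hα _).choose_spec⟩
  obtain ⟨b, hb⟩ : ∃ b : Fin n → MvPolynomial (Fin k) R, ∀ i, β (b i) = α (MvPolynomial.X i) :=
    ⟨fun j => (hβ _).choose, fun j => (hβ _).choose_spec⟩
  let γ : MvPolynomial (Fin n ⊕ Fin k) R →ₐ[R] A :=
    MvPolynomial.aeval (Sum.elim (fun i => α (MvPolynomial.X i)) (fun j => β (MvPolynomial.X j)))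
  let φ : MvPolynomial (Fin n ⊕ Fin k) R →ₐ[R] MvPolynomial (Fin n) R := MvPolynomial.aeval (Sum.elim MvPolynomial.X a)
  let ψ : MvPolynomial (Fin n ⊕ Fin k) R →ₐ[R] MvPolynomial (Fin k) R := MvPolynomial.aeval (Sum.elim b MvPolynomial.X)
  have hφ : Function.Surjective φ := fun x => ⟨MvPolynomial.rename Sum.inl x, by
    simp only [φ, MvPolynomial.aeval_rename, Sum.elim_comp_inl, MvPolynomial.aeval_X_left_apply]⟩
  have hψ : Function.Surjective ψ := fun x => ⟨MvPolynomial.rename Sum.inr x, by
    simp only [ψ, MvPolynomial.aeval_rename, Sum.elim_comp_inr, MvPolynomial.aeval_X_left_apply]⟩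
  have h1 : α.comp φ = γ := MvPolynomial.algHom_ext fun i => by rcases i with i | j <;> simp [φ, γ, ha]
  have h2 : β.comp ψ = γ := MvPolynomial.algHom_ext fun i => by rcases i with i | j <;> simp [ψ, γ, hb]
  refine ⟨(Groth.Agent.CAlgMisc2.fp_presentation_iff γ α φ hφ h1).trans
    (Groth.Agent.CAlgMisc2.fp_presentation_iff γ β ψ hψ h2).symm, fun h => ?_⟩
  letI : Module (MvPolynomial (Fin n) R) M := Module.compHom M α.toRingHom
  letI : Algebra (MvPolynomial (Fin n) R) A := α.toRingHom.toAlgebra
  haveI : IsScalarTower (MvPolynomial (Fin n) R) A M := IsScalarTower.of_algebraMap_smul fun p m => rfl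
  exact Groth.Agent.CAlgMisc2.fp_of_surjective (P := MvPolynomial (Fin n) R) hα

end Groth.Agent.S6991
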