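import Groth.Statements.S6995
import Groth.Agent.DRingLib.GlobalDim
import Groth.Agent.DRingLib.PCGen
import Groth.Agent.DCat.Trunc
import Mathlib.CategoryTheory.Triangulated.Pretriangulated

set_option autoImplicit false
set_option backward.isDefEq.respectTransparency false
set_option backward.defeqAttrib.useBackward true
universe u
open CategoryTheory CategoryTheory.Limits
attribute [local instance] HasDerivedCategory.standard
open DRing

namespace Groth.Agent.S6995

open CategoryTheory.Pretriangulated in

/-- Let R be a Noetherian regular commutative ring of finite Krull dimension d ≥ 1, K a perfect object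
of D(R) and k an integer such that H^i(K) = 0 for every i with k - d + 2 ≤ i ≤ k. Then K splits in
D(R) as the direct sum of its canonical truncations: there is an isomorphism K ≅ τ_(≤ k-d+1) K ⊕
τ_(≥ k+1) K under which the truncation map τ_(≤ k-d+1) K → K becomes the first inclusion and K →
τ_(≥ k+1) K the second projection. -/
theorem result (R : Type u) [CommRing R] [IsNoetherianRing R]
    (hreg : ∀ p : PrimeSpectrum R, IsRegularLocalRing (Localization.AtPrime p.asIdeal)) (d : ℕ) (hd1 : 1 ≤ d)
    (hd : ringKrullDim R = d) (K : Dual.D R) (hK : DRing.IsPerfect R K) (k : ℤ)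
    (hgap : ∀ i : ℤ, k - d + 2 ≤ i → i ≤ k → Subsingleton (Dual.HD R K i))
    [HasBinaryBiproduct
      (((DerivedCategory.TStructure.t : Triangulated.TStructure (Dual.D R)).truncLT (k - d + 2)).obj K)
      (((DerivedCategory.TStructure.t : Triangulated.TStructure (Dual.D R)).truncGE (k + 1)).obj K)] :
    ∃ e : K ≅
      ((DerivedCategory.TStructure.t : Triangulated.TStructure (Dual.D R)).truncLT (k - d + 2)).obj K ⊞
        ((DerivedCategory.TStructure.t : Triangulated.TStructure (Dual.D R)).truncGE (k + 1)).obj K,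
      ((DerivedCategory.TStructure.t : Triangulated.TStructure (Dual.D R)).truncLTι (k - d + 2)).app K ≫ e.hom =
          biprod.inl ∧
        e.hom ≫ biprod.snd =
          ((DerivedCategory.TStructure.t : Triangulated.TStructure (Dual.D R)).truncGEπ (k + 1)).app K := by
  let t := @DerivedCategory.TStructure.t (ModuleCat.{u} R) _ _ _
  obtain ⟨E, a', b', hE, -, ⟨e⟩⟩ := hK
  haveI hLE : K.IsLE b' := by
    refine (DerivedCategory.isLE_iff K b').2 fun i hi => ?_
    refine IsZero.of_iso ?_ ((DRingLib.HF R i).mapIso e.symm ≪≫ DRingLib.HQ E i)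
    exact (HomologicalComplex.exactAt_iff_isZero_homology _ _).1
      (HomologicalComplex.ExactAt.of_isZero (hE i (Or.inr hi)))
  have hiso : IsIso ((t.natTransTruncGEOfLE (k - d + 2) (k + 1) (by omega)).app K) := by
    haveI : ((t.truncGE (k - d + 2)).obj K).IsGE (k + 1) := by
      refine (DerivedCategory.isGE_iff _ (k + 1)).2 fun i hi => ?_
      by_cases h : i < k - d + 2
      · exact DerivedCategory.isZero_of_isGE _ (k - d + 2) i h
      · haveI := DCat.epi_homology_truncGEπ K (k - d + 2) i
        exact IsZero.of_epi ((DerivedCategory.homologyFunctor (ModuleCat.{u} R) i).map ((t.truncGEπ (k - d + 2)).app K))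
          (@ModuleCat.isZero_of_subsingleton R _ _ (hgap i (by omega) (by omega)))
    haveI := t.isIso_truncGE_map_truncGEπ_app (k + 1) (k - d + 2) (by omega) K
    haveI : t.IsGE ((t.truncGE (k + 1)).obj K) (k - d + 2) := t.isGE_of_ge _ _ (k + 1) (by omega)
    have : (t.natTransTruncGEOfLE (k - d + 2) (k + 1) (by omega)).app K =
        (t.truncGEπ (k + 1)).app ((t.truncGE (k - d + 2)).obj K) ≫
          inv ((t.truncGE (k + 1)).map ((t.truncGEπ (k - d + 2)).app K)) := by
      apply t.from_truncGE_obj_ext
      rw [t.π_natTransTruncGEOfLE_app, ← Category.assoc, IsIso.eq_comp_inv]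
      exact ((t.truncGEπ (k + 1)).naturality ((t.truncGEπ (k - d + 2)).app K)).symm
    rw [this]
    infer_instance
  have hle : k - d + 2 ≤ k + 1 := by omega
  let ι := (t.truncLTι (k - d + 2)).app K
  let π := (t.truncGEπ (k + 1)).app K
  obtain ⟨δ, hT⟩ : ∃ δ, Triangle.mk ι π δ ∈ distinguishedTriangles := by
    refine ⟨inv ((t.natTransTruncGEOfLE (k - d + 2) (k + 1) hle).app K) ≫
      (t.truncGEδLT (k - d + 2)).app K, isomorphic_distinguished _ (t.triangleLTGE_distinguished (k - d + 2) K) _ ?_⟩
    refine Triangle.isoMk _ _ (Iso.refl _) (Iso.refl _)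
      (asIso ((t.natTransTruncGEOfLE (k - d + 2) (k + 1) hle).app K)).symm ?_ ?_ ?_
    · exact (Category.comp_id _).trans (Category.id_comp _).symm
    · show π ≫ inv _ = 𝟙 K ≫ _
      rw [IsIso.comp_inv_eq, Category.id_comp]
      exact (t.π_natTransTruncGEOfLE_app _ _ _ K).symm
    · show (_ ≫ _) ≫ (𝟙 _)⟦(1 : ℤ)⟧' = _
      rw [CategoryTheory.Functor.map_id, Category.comp_id]
      rfl
  have hδ : δ = 0 := by
    haveI h1 : ((t.truncLT (k - d + 2)).obj K).IsLE (k - d + 1) := t.isLE_truncLT_obj K _ _ (by omega)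
    haveI : (((t.truncLT (k - d + 2)).obj K)⟦(1 : ℤ)⟧).IsLE (k - d) := t.isLE_shift _ (k - d + 1) 1 _ (by omega)
    haveI : ((t.truncGE (k + 1)).obj K).IsGE (k + 1) := inferInstance
    haveI : ((t.truncGE (k + 1)).obj K).IsLE b' := inferInstance
    exact DRingLib.hom_eq_zero hreg d hd.le _ _ (k + 1) b' (k - d) (by omega) δ
  obtain ⟨e, he₁, he₂⟩ := exists_iso_binaryBiproduct_of_distTriang _ hT hδ
  exact ⟨e, he₁, he₂.symm⟩


end Groth.Agent.S6995
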