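import Groth.Statements.S6999
import Groth.Agent.DRingLib.PCColimit

set_option autoImplicit false
set_option backward.isDefEq.respectTransparency false
set_option backward.defeqAttrib.useBackward true
universe u
open CategoryTheory CategoryTheory.Limits
attribute [local instance] HasDerivedCategory.standard
open DRing

namespace Groth.Agent.S6999

open CategoryTheory.Pretriangulated HomologicalComplex

lemma ιnat {R : Type u} [CommRing R] (n : ℤ) {X Y : ModuleCat.{u} R} (g : X ⟶ Y) :
    (shiftFunctor (Dual.D R) n).map ((DerivedCategory.singleFunctor (ModuleCat.{u} R) 0).map g) ≫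
      (DCat.Amplitude.shiftSingleIso n Y).hom = (DCat.Amplitude.shiftSingleIso n X).hom ≫
        DerivedCategory.Q.map ((CochainComplex.singleFunctor (ModuleCat.{u} R) (-n)).map g) := by
  have h1 := ((DerivedCategory.singleFunctors (ModuleCat.{u} R)).shiftIso n (-n) 0 (by omega)).hom.naturality g
  have h2 := (DerivedCategory.singleFunctorIsoCompQ (ModuleCat.{u} R) (-n)).hom.naturality g
  simp only [DCat.Amplitude.shiftSingleIso, Iso.trans_hom, Iso.app_hom]
  exact (Category.assoc _ _ _).symm.trans ((congrArg (· ≫ _) h1).trans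
    ((Category.assoc _ _ _).trans ((congrArg _ h2).trans (Category.assoc _ _ _).symm)))

lemma ιnat' {R : Type u} [CommRing R] (n : ℤ) {X Y : ModuleCat.{u} R} (g : X ⟶ Y) :
    (DCat.Amplitude.shiftSingleIso n X).inv ≫
      (shiftFunctor (Dual.D R) n).map ((DerivedCategory.singleFunctor (ModuleCat.{u} R) 0).map g) =
        DerivedCategory.Q.map ((CochainComplex.singleFunctor (ModuleCat.{u} R) (-n)).map g) ≫
          (DCat.Amplitude.shiftSingleIso n Y).inv :=
  (Iso.inv_comp_eq _).2 (((Category.assoc _ _ _).symm.trans ((congrArg (· ≫ _) (ιnat n g).symm).trans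
    ((Category.assoc _ _ _).trans ((congrArg _ (Iso.hom_inv_id _)).trans (Category.comp_id _))))).symm)

/-- Let R be a commutative ring, m an integer, K an m-pseudo-coherent object of D(R), and (M_j) a
diagram of R-modules over a small filtered category with colimit cocone M. Then the canonical map
colim_j Hom(K, M_j[n]) → Hom(K, M[n]) in D(R) is bijective for n < -m and injective for n = -m.
Unfolded: for n < -m every morphism K → M[n] factors through M_j[n] → M[n] for some j; and for n ≤
-m, a morphism K → M_j[n] whose composite with M_j[n] → M[n] is zero already has zero composite with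
M_j[n] → M_(j')[n] for some j → j'. -/
theorem result (R : Type u) [CommRing R] (m : ℤ) (K : Dual.D R)
    (hK : DRing.IsPseudoCoherent R m K) {J : Type u} [SmallCategory J] [IsFiltered J]
    (F : J ⥤ ModuleCat.{u} R) (c : Cocone F) (hc : IsColimit c) :
    (∀ n : ℤ, n < -m → ∀ x : K ⟶ (shiftFunctor (Dual.D R) n).obj (Dual.inD R c.pt),
      ∃ (j : J) (y : K ⟶ (shiftFunctor (Dual.D R) n).obj (Dual.inD R (F.obj j))),
        y ≫ (shiftFunctor (Dual.D R) n).map
          ((DerivedCategory.singleFunctor (ModuleCat.{u} R) 0).map (c.ι.app j)) = x) ∧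
    (∀ n : ℤ, n ≤ -m → ∀ (j : J) (y : K ⟶ (shiftFunctor (Dual.D R) n).obj (Dual.inD R (F.obj j))),
      y ≫ (shiftFunctor (Dual.D R) n).map
          ((DerivedCategory.singleFunctor (ModuleCat.{u} R) 0).map (c.ι.app j)) = 0 →
      ∃ (j' : J) (f : j ⟶ j'), y ≫ (shiftFunctor (Dual.D R) n).map
          ((DerivedCategory.singleFunctor (ModuleCat.{u} R) 0).map (F.map f)) = 0) := by
  obtain ⟨E, a, b, α, hEv, hEf, hα⟩ := hK
  haveI := DRingLib.isKProjective_of_outside hEv (DRingLib.projective_of_free hEf)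
  obtain ⟨C, v, w, hT⟩ := distinguished_cocone_triangle α
  haveI hC : C.IsLE (m - 1) := (DRingLib.apx_iff_isLE m _ hT).1 hα
  let t := DerivedCategory.TStructure.t (C := ModuleCat.{u} R)
  have hGE : ∀ (n : ℤ) (X : ModuleCat.{u} R),
      ((shiftFunctor (Dual.D R) n).obj (Dual.inD R X)).IsGE (-n) := fun n X => t.isGE_shift _ 0 n (-n) (by omega)
  have hinj : ∀ (n : ℤ) (X : ModuleCat.{u} R) (x : K ⟶ (shiftFunctor (Dual.D R) n).obj (Dual.inD R X)),
      n ≤ -m → α ≫ x = 0 → x = 0 := by
    intro n X x hn h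
    obtain ⟨z, rfl⟩ := Triangle.yoneda_exact₂ _ hT x h
    have hz : z = 0 := t.zero_of_isLE_of_isGE z (m - 1) (-n) (by omega) hC (hGE n X)
    rw [hz]
    exact comp_zero
  have hext : ∀ (n : ℤ) (X : ModuleCat.{u} R)
      (y : DRing.toD E ⟶ (shiftFunctor (Dual.D R) n).obj (Dual.inD R X)),
      n < -m → ∃ x, y = α ≫ x := by
    intro n X y hn
    have hC1 : (C⟦(-1 : ℤ)⟧).IsLE m := t.isLE_shift C (m - 1) (-1) m (by omega)
    exact Triangle.yoneda_exact₂ _ (inv_rot_of_distTriang _ hT) y
      (t.zero_of_isLE_of_isGE _ m (-n) (by omega) hC1 (hGE n X))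
  constructor
  · intro n hn x
    let e := DCat.Amplitude.shiftSingleIso n c.pt
    obtain ⟨g, hg⟩ := DRingLib.exists_Q_map (P := E) (L := (CochainComplex.singleFunctor (ModuleCat.{u} R) (-n)).obj c.pt)
      (α ≫ x ≫ e.hom)
    haveI := (hEf (-n)).1
    haveI := (hEf (-n)).2
    haveI := (hEf (-n - 1)).1
    obtain ⟨j, y, hy⟩ := DRingLib.exists_factor hc (E.X (-n))
      (g.f (-n) ≫ (singleObjXSelf (ComplexShape.up ℤ) (-n) c.pt).hom)
    obtain ⟨j', f, hf⟩ := DRingLib.exists_kill_hom hc (E.X (-n - 1)) (E.d (-n - 1) (-n) ≫ y) (by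
      rw [Category.assoc, hy, ← g.comm_assoc]
      simp)
    let g' : E ⟶ (CochainComplex.singleFunctor (ModuleCat.{u} R) (-n)).obj (F.obj j') :=
      mkHomToSingle (y ≫ F.map f) fun k hk => by
        obtain rfl : k = -n - 1 := by simp at hk; omega
        rw [← Category.assoc]; exact hf
    have hg' : g' ≫ (CochainComplex.singleFunctor (ModuleCat.{u} R) (-n)).map (c.ι.app j') = g := by
      apply to_single_hom_ext
      show ((mkHomToSingle (y ≫ F.map f) _).f (-n) ≫
        ((single (ModuleCat.{u} R) (ComplexShape.up ℤ) (-n)).map (c.ι.app j')).f (-n)) = _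
      simp only [mkHomToSingle_f, single_map_f_self, Category.assoc, Iso.inv_hom_id_assoc]
      rw [c.w_assoc f, reassoc_of% hy]
      simp
    obtain ⟨x', hx'⟩ := hext n (F.obj j') (DerivedCategory.Q.map g' ≫ (DCat.Amplitude.shiftSingleIso n (F.obj j')).inv) hn
    refine ⟨j', x', sub_eq_zero.1 (hinj n c.pt _ hn.le ((Preadditive.comp_sub _ _ _).trans (sub_eq_zero.2 ?_)))⟩
    refine (Category.assoc _ _ _).symm.trans ((congrArg (· ≫ _) hx'.symm).trans ?_)
    refine (Category.assoc _ _ _).trans ((congrArg _ (ιnat' n (c.ι.app j'))).trans ?_)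
    refine (Category.assoc _ _ _).symm.trans ?_
    refine (congrArg (· ≫ _) ((DerivedCategory.Q.map_comp _ _).symm.trans (congrArg DerivedCategory.Q.map hg'))).trans ?_
    refine (congrArg (· ≫ _) hg).trans ?_
    simp [e]
  · intro n hn j y hy
    obtain ⟨g, hg⟩ := DRingLib.exists_Q_map (P := E) (L := (CochainComplex.singleFunctor (ModuleCat.{u} R) (-n)).obj (F.obj j))
      (α ≫ y ≫ (DCat.Amplitude.shiftSingleIso n (F.obj j)).hom)
    have h0 : DerivedCategory.Q.map (g ≫ (CochainComplex.singleFunctor (ModuleCat.{u} R) (-n)).map (c.ι.app j)) = 0 := by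
      rw [Functor.map_comp, hg, Category.assoc, Category.assoc, ← ιnat, reassoc_of% hy]
      simp
    obtain ⟨k, hk⟩ := (DRingLib.Q_map_single_eq_zero_iff E _).1 h0
    haveI := (hEf (-n + 1)).1
    haveI := (hEf (-n + 1)).2
    haveI := (hEf (-n)).1
    obtain ⟨j₁, k₁, hk₁⟩ := DRingLib.exists_factor hc (E.X (-n + 1)) k
    let l := IsFiltered.max j j₁
    let g₀ : E.X (-n) ⟶ F.obj j := g.f (-n) ≫ (singleObjXSelf (ComplexShape.up ℤ) (-n) (F.obj j)).hom
    obtain ⟨j', f, hf⟩ := DRingLib.exists_kill_hom hc (E.X (-n))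
      (g₀ ≫ F.map (IsFiltered.leftToMax j j₁) - E.d (-n) (-n + 1) ≫ k₁ ≫ F.map (IsFiltered.rightToMax j j₁)) (by
      rw [Preadditive.sub_comp, sub_eq_zero, Category.assoc, Category.assoc, Category.assoc, c.w]
      refine Eq.trans ?_ (congrArg (E.d (-n) (-n + 1) ≫ ·) (congrArg (k₁ ≫ ·) (c.w (IsFiltered.rightToMax j j₁)))).symm
      rw [hk₁, ← hk]
      simp [g₀, CochainComplex.singleFunctor, CochainComplex.singleFunctors, single_map_f_self])
    refine ⟨j', IsFiltered.leftToMax j j₁ ≫ f, hinj n _ _ hn ?_⟩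
    refine (cancel_mono (DCat.Amplitude.shiftSingleIso n (F.obj j')).hom).1 (Eq.trans ?_ zero_comp.symm)
    refine (Category.assoc _ _ _).trans ((congrArg _ ((Category.assoc _ _ _).trans
      (congrArg _ (ιnat n (F.map (IsFiltered.leftToMax j j₁ ≫ f)))))).trans ?_)
    refine (congrArg _ (Category.assoc _ _ _).symm).trans ((Category.assoc _ _ _).symm.trans ?_)
    refine (congrArg (· ≫ _) hg.symm).trans ((DerivedCategory.Q.map_comp _ _).symm.trans ?_)
    refine (DRingLib.Q_map_single_eq_zero_iff E _).2 ⟨k₁ ≫ F.map (IsFiltered.rightToMax j j₁) ≫ F.map f, ?_⟩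
    rw [Preadditive.sub_comp, sub_eq_zero] at hf
    simp only [Category.assoc] at hf
    rw [← hf]
    simp [g₀, CochainComplex.singleFunctor, CochainComplex.singleFunctors, single_map_f_self]


end Groth.Agent.S6999
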