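import Groth.Statements.S7000
import Groth.Agent.FlatMorPerfect.PC
-- import your own Groth.Agent.* helpers here

set_option autoImplicit false
universe u
open CategoryTheory CategoryTheory.Limits
attribute [local instance] HasDerivedCategory.standard
open DRing

namespace Groth.Agent.S7000

/-- Let A → B be a flat homomorphism of commutative rings, m an integer and M an A-module. If M is
m-pseudo-coherent then the B-module B ⊗_A M is m-pseudo-coherent; if M is pseudo-coherent then B ⊗_A
M is pseudo-coherent. -/
theorem result {A B : Type u} [CommRing A] [CommRing B] [Algebra A B]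
    [Module.Flat A B] (m : ℤ) (M : Type u) [AddCommGroup M] [Module A M] :
    (DRing.IsPseudoCoherentModule A m M → DRing.IsPseudoCoherentModule B m (TensorProduct A B M)) ∧
      (DRing.IsPseudoCoherentModule' A M → DRing.IsPseudoCoherentModule' B (TensorProduct A B M)) := by
  have key : ∀ n : ℤ, DRing.IsPseudoCoherentModule A n M → DRing.IsPseudoCoherentModule B n (TensorProduct A B M) := by
    intro n h
    by_cases hn : n ≤ 0
    · obtain ⟨k, rfl⟩ : ∃ k : ℕ, n = -(k : ℤ) := ⟨(-n).toNat, by omega⟩
      exact Groth.Agent.FlatMorPerfect.pc_baseChange k M h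
    · exact Groth.Agent.DRingLib.pc_of_isLE (n := 0) (by omega)
  exact ⟨key m, fun h => Groth.Agent.FlatMorPerfect.pc'_iff_forall.2 fun k =>
    Groth.Agent.FlatMorPerfect.pc_baseChange k M (Groth.Agent.FlatMorPerfect.pc'_iff_forall.1 h k)⟩

end Groth.Agent.S7000
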