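import Groth.Statements.S7004
import Groth.Agent.DCat.ProjAmp

set_option autoImplicit false
set_option backward.isDefEq.respectTransparency false
set_option backward.defeqAttrib.useBackward true
universe u
open CategoryTheory CategoryTheory.Limits
attribute [local instance] HasDerivedCategory.standard
open DRing

namespace Groth.Agent.S7004

/-- Let R be a commutative ring, a an integer and K an object of D(R) whose cohomology vanishes in large
degrees, such that Hom(K, M[-a]) = 0 in D(R) for every R-module M. Then K ≅ τ_(≤ a-1) K ⊕ τ_(≥ a+1)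
K by an isomorphism carrying τ_(≤ a-1) K → K to the first inclusion and K → τ_(≥ a+1) K to the
second projection, and τ_(≥ a+1) K is isomorphic in D(R) to a complex of projective modules
vanishing outside [a+1, b] for some integer b. (The published statement also asserts that the
decomposition is unique; that part is not restated.) -/
theorem result (R : Type u) [CommRing R] (a : ℤ) (K : Dual.D R)
    (hKb : ∃ b : ℤ, ∀ i : ℤ, b < i → Subsingleton (Dual.HD R K i))
    (h : ∀ (M : Type u) [AddCommGroup M] [Module R M],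
      Subsingleton (K ⟶ (shiftFunctor (Dual.D R) (-a)).obj (Dual.inD R M)))
    [HasBinaryBiproduct (((DerivedCategory.TStructure.t : Triangulated.TStructure (Dual.D R)).truncLT a).obj K) (((DerivedCategory.TStructure.t : Triangulated.TStructure (Dual.D R)).truncGE (a + 1)).obj K)] :
    (∃ e : K ≅ ((DerivedCategory.TStructure.t : Triangulated.TStructure (Dual.D R)).truncLT a).obj K ⊞ ((DerivedCategory.TStructure.t : Triangulated.TStructure (Dual.D R)).truncGE (a + 1)).obj K,
      ((DerivedCategory.TStructure.t : Triangulated.TStructure (Dual.D R)).truncLTι a).app K ≫ e.hom = biprod.inl ∧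
        e.hom ≫ biprod.snd = ((DerivedCategory.TStructure.t : Triangulated.TStructure (Dual.D R)).truncGEπ (a + 1)).app K) ∧
      ∃ (P : DRing.Cx R) (b : ℤ), DRing.VanishesOutside P (a + 1) b ∧ (∀ i : ℤ, Module.Projective R (P.X i)) ∧
        Nonempty (DRing.toD P ≅ ((DerivedCategory.TStructure.t : Triangulated.TStructure (Dual.D R)).truncGE (a + 1)).obj K) := by
  let t := (DerivedCategory.TStructure.t : Triangulated.TStructure (Dual.D R))
  let T := (t.triangleLTGE (a + 1)).obj K
  have hT : T ∈ Pretriangulated.distinguishedTriangles := t.triangleLTGE_distinguished (a + 1) K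
  obtain ⟨b, hb⟩ := hKb
  have hKa : Subsingleton (Dual.HD R K a) := DCat.ProjAmp.subsingleton_hd K a fun N _ _ => h N
  have hX : T.obj₁.IsLE a := t.isLE_truncLT_obj K (a + 1) a (by omega)
  have hY : T.obj₃.IsGE (a + 1) := inferInstanceAs (t.IsGE ((t.truncGE (a + 1)).obj K) (a + 1))
  have hX' : T.obj₁.IsLE (a - 1) := (DerivedCategory.isLE_iff T.obj₁ (a - 1)).2 fun i hi => by
    by_cases hia : i = a
    · subst hia
      exact (DerivedCategory.HomologySequence.exact₁ T hT (i - 1) i (by omega)).isZero_of_both_zeros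
        ((DerivedCategory.isZero_of_isGE T.obj₃ (i + 1) (i - 1) (by omega)).eq_of_src _ _)
        ((@ModuleCat.isZero_of_subsingleton R _ _ hKa).eq_of_tgt _ _)
    · exact DerivedCategory.isZero_of_isLE T.obj₁ a i (by omega)
  have hYb : T.obj₃.IsLE (max a b) := (DerivedCategory.isLE_iff T.obj₃ (max a b)).2 fun i hi =>
    (DerivedCategory.HomologySequence.exact₃ T hT i (i + 1)).isZero_of_both_zeros
      ((@ModuleCat.isZero_of_subsingleton R _ _ (hb i (by omega))).eq_of_src _ _)
      ((DerivedCategory.isZero_of_isLE T.obj₁ a (i + 1) (by omega)).eq_of_tgt _ _)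
  have key : ∀ (X : ModuleCat.{u} R)
      (φ : T.obj₃ ⟶ ((DerivedCategory.singleFunctor (ModuleCat.{u} R) 0).obj X)⟦-a⟧), φ = 0 := by
    intro X φ
    obtain ⟨ψ, rfl⟩ := Pretriangulated.Triangle.yoneda_exact₃ T hT φ (@Subsingleton.elim _ (h X) _ _)
    have : (T.obj₁⟦(1 : ℤ)⟧).IsLE (a - 1) := t.isLE_shift T.obj₁ a 1 (a - 1) (by omega)
    have : (((DerivedCategory.singleFunctor (ModuleCat.{u} R) 0).obj X)⟦-a⟧).IsGE a :=
      t.isGE_shift _ 0 (-a) a (by omega)
    rw [t.zero ψ (a - 1) a (by omega), comp_zero]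
  obtain ⟨P, hP, hPp, ⟨eP⟩⟩ := DCat.ProjAmp.exists_rep T.obj₃ a (max a b) key
  let ν := (t.natTransTruncLTOfLE a (a + 1) (by omega)).app K
  have hν : ν ≫ T.mor₁ = (t.truncLTι a).app K := t.natTransTruncLTOfLE_ι_app a (a + 1) (by omega) K
  have : IsIso ν := by
    rw [DerivedCategory.isIso_iff]
    intro q
    let T' := (t.triangleLTGE a).obj K
    have hT' : T' ∈ Pretriangulated.distinguishedTriangles := t.triangleLTGE_distinguished a K
    have h1 : T'.obj₁.IsLE (a - 1) := t.isLE_truncLT_obj K a (a - 1) (by omega)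
    have h3 : T'.obj₃.IsGE a := inferInstanceAs (t.IsGE ((t.truncGE a).obj K) a)
    let H := DerivedCategory.homologyFunctor (ModuleCat.{u} R) q
    by_cases hq : q < a
    · have hi : ∀ (T : Pretriangulated.Triangle (Dual.D R)) (n : ℤ),
          T ∈ Pretriangulated.distinguishedTriangles → T.obj₃.IsGE n → q < n → IsIso (H.map T.mor₁) := by
        intro T n hT _ hn
        have : Mono (H.map T.mor₁) := (DerivedCategory.HomologySequence.mono_homologyMap_mor₁_iff T hT (q - 1) q).2
          ((DerivedCategory.isZero_of_isGE T.obj₃ n (q - 1) (by omega)).eq_of_src _ _)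
        have : Epi (H.map T.mor₁) := (DerivedCategory.HomologySequence.epi_homologyMap_mor₁_iff T hT q).2
          ((DerivedCategory.isZero_of_isGE T.obj₃ n q hn).eq_of_tgt _ _)
        exact isIso_of_mono_of_epi _
      have i1 := hi T (a + 1) hT hY (by omega)
      have i2 : IsIso (H.map ((t.truncLTι a).app K)) := hi T' a hT' h3 hq
      rw [← hν, H.map_comp] at i2
      exact IsIso.of_isIso_comp_right (H.map ν) (H.map T.mor₁)
    · exact isIso_of_source_target_iso_zero _
        (DerivedCategory.isZero_of_isLE T'.obj₁ (a - 1) q (by omega)).isoZero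
        (DerivedCategory.isZero_of_isLE T.obj₁ (a - 1) q (by omega)).isoZero
  let T₂ := Pretriangulated.Triangle.mk ((t.truncLTι a).app K) T.mor₂ (T.mor₃ ≫ (inv ν)⟦(1 : ℤ)⟧')
  have hT₂ : T₂ ∈ Pretriangulated.distinguishedTriangles := by
    refine Pretriangulated.isomorphic_distinguished _ hT _ ?_
    refine Pretriangulated.Triangle.isoMk _ _ (asIso ν) (Iso.refl _) (Iso.refl _) ?_ ?_ ?_
    · simp [T₂, hν]
    · simp [T₂]
    · simp [T₂, ← Functor.map_comp]
  have h3 : T.mor₃ = 0 := DCat.ProjAmp.eq_zero_of_rep P (a + 1) (max a b) hP hPp eP (fun i hi => by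
    have : (T.obj₁⟦(1 : ℤ)⟧).IsLE (a - 1) := t.isLE_shift T.obj₁ a 1 (a - 1) (by omega)
    exact DerivedCategory.isZero_of_isLE _ (a - 1) i (by omega)) _
  obtain ⟨e, he1, he2⟩ := Pretriangulated.exists_iso_binaryBiproduct_of_distTriang T₂ hT₂
    (show T.mor₃ ≫ _ = 0 by rw [h3, zero_comp])
  exact ⟨⟨e, he1, he2.symm⟩, P, max a b, hP, hPp, ⟨eP⟩⟩


end Groth.Agent.S7004
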