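import Groth.Statements.S7002
import Groth.Agent.DRingLib.SplitFibre17
import Groth.Agent.S7004
-- import your own Groth.Agent.* helpers here

set_option autoImplicit false
set_option backward.isDefEq.respectTransparency false
set_option linter.style.haveILetI false
set_option maxHeartbeats 400000
universe u
open CategoryTheory CategoryTheory.Limits
attribute [local instance] HasDerivedCategory.standard
open DRing

namespace Groth.Agent.S7002

/-- Let R be a commutative ring, p a prime ideal of R with residue field κ(p), such that the derived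
base change D(R) → D(κ(p)) exists; let i be an integer and K a cochain complex of R-modules which is
pseudo-coherent in D(R) and satisfies H^i(K ⊗^L_R κ(p)) = 0. Then there is an element f ∈ R with f ∉
p such that, for the termwise localization K_f of K over R_f, the truncation τ_(≥ i+1) K_f is
perfect in D(R_f), its tor amplitude lying in [i+1, b] for some integer b, and K_f ≅ τ_(≥ i+1) K_f ⊕
τ_(≤ i-1) K_f in D(R_f) by an isomorphism carrying K_f → τ_(≥ i+1) K_f to the first projection and
τ_(≤ i-1) K_f → K_f to the second inclusion. -/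
theorem result (R : Type u) [CommRing R]
    (p : Ideal R) [p.IsPrime] [DRing.HasLBaseChange (algebraMap R p.ResidueField)] (i : ℤ) (K : DRing.Cx R)
    (hK : DRing.IsPseudoCoherent' R (DRing.toD K))
    (hi : Subsingleton (Dual.HD p.ResidueField ((DRing.LBaseChange (algebraMap R p.ResidueField)).obj (DRing.toD K)) i)) :
    ∃ f : R, f ∉ p ∧
      let Kf := DRing.toD (((ModuleCat.extendScalars (algebraMap R (Localization.Away f))).mapHomologicalComplex
        (ComplexShape.up ℤ)).obj K)
      let t := (DerivedCategory.TStructure.t : Triangulated.TStructure (Dual.D (Localization.Away f)))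
      let Kge := (t.truncGE (i + 1)).obj Kf
      let Klt := (t.truncLT i).obj Kf
      DRing.IsPerfect (Localization.Away f) Kge ∧
        (∃ b : ℤ, DRing.HasTorAmplitudeIn (Localization.Away f) (i + 1) b Kge) ∧
        ∀ [HasBinaryBiproduct Kge Klt], ∃ e : Kf ≅ Kge ⊞ Klt,
          e.hom ≫ biprod.fst = (t.truncGEπ (i + 1)).app Kf ∧ (t.truncLTι i).app Kf ≫ e.hom = biprod.inr := by
  obtain ⟨P, b, hPb, hPf, ⟨e⟩⟩ := hK
  haveI := (hPf i).1
  haveI := (hPf i).2
  haveI := (hPf (i + 1)).1
  haveI := (hPf (i + 1)).2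
  have hk := Groth.Agent.DRingLib.exactAt_ext_of_subsingleton (algebraMap R p.ResidueField)
    (Groth.Agent.DRingLib.kflat_of_finiteFree hPb hPf) e i hi
  replace hk := Groth.Agent.DRingLib.SplitFibre17.exact_baseChange P i hk
  obtain ⟨s, t, hdet⟩ := Groth.Agent.DRingLib.SplitFibre17.exists_unit_det (P.d (i - 1) i).hom (P.d i (i + 1)).hom p hk
  refine ⟨LinearMap.det ((P.d (i - 1) i).hom ∘ₗ s + t ∘ₗ (P.d i (i + 1)).hom), hdet, ?_⟩
  generalize hf : LinearMap.det ((P.d (i - 1) i).hom ∘ₗ s + t ∘ₗ (P.d i (i + 1)).hom) = f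
  intro Kf T Kge Klt
  let A := Localization.Away f
  let E := (ModuleCat.extendScalars.{u, u, u} (algebraMap R A)).mapHomologicalComplex (ComplexShape.up ℤ)
  haveI hflat : Module.Flat R A := IsLocalization.flat A (Submonoid.powers f)
  haveI : PreservesFiniteLimits (ModuleCat.extendScalars.{u, u, u} (algebraMap R A)) :=
    ModuleCat.preservesFiniteLimits_extendScalars_of_flat (RingHom.flat_algebraMap_iff.2 hflat)
  haveI : P.IsStrictlyLE b := (CochainComplex.isStrictlyLE_iff P b).2 hPb
  haveI : ∀ j, Projective (P.X j) := fun j => by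
    haveI := (hPf j).2
    haveI : Projective (ModuleCat.of R (P.X j)) := inferInstance
    exact this
  haveI := CochainComplex.isKProjective_of_projective P b
  obtain ⟨φ, hφ⟩ := Groth.Agent.DRingLib.exists_Q_map e.hom
  haveI : QuasiIso φ := (DerivedCategory.isIso_Q_map_iff_quasiIso _ φ).1 (by rw [hφ]; infer_instance)
  haveI : QuasiIso (E.map φ) := inferInstance
  let eP : DRing.toD (E.obj P) ≅ Kf := asIso (DerivedCategory.Q.map (E.map φ))
  have hPb' : DRing.VanishesAbove (E.obj P) b := fun j hj =>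
    (ModuleCat.extendScalars.{u, u, u} (algebraMap R A)).map_isZero (hPb j hj)
  obtain ⟨hPf', s', t', hu⟩ := Groth.Agent.DRingLib.SplitFibre17.exists_extend (algebraMap R A) hPf i s t
    (by rw [hf]; exact IsLocalization.Away.algebraMap_isUnit f)
  have hKb : ∃ c : ℤ, ∀ j : ℤ, c < j → Subsingleton (Dual.HD A Kf j) := by
    haveI : CochainComplex.IsStrictlyLE (E.obj P) b := (CochainComplex.isStrictlyLE_iff _ b).2 hPb'
    haveI : (DRing.toD (E.obj P)).IsLE b := inferInstance
    haveI := DerivedCategory.TStructure.t.isLE_of_iso eP b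
    exact ⟨b, (Groth.Agent.DRingLib.isLE_iff_HD Kf b).1 ‹_›⟩
  have hpc : ∀ m, DRing.IsPseudoCoherent A m Kf := fun m =>
    Groth.Agent.DRingLib.pc_of_pc' ⟨E.obj P, b, hPb', hPf', ⟨eP⟩⟩ m
  have main := Groth.Agent.S7004.result A i Kf hKb fun M _ _ =>
    Groth.Agent.DRingLib.SplitFibre17.subsingleton_hom hPb' hPf' eP i _ _ hu M
  obtain ⟨⟨e₀, he₁, he₂⟩, Q, c, hQ, hQp, ⟨eQ⟩⟩ := main
  have hamp : DRing.HasTorAmplitudeIn A (i + 1) c Kge :=
    ⟨Q, hQ, fun j => haveI := hQp j; inferInstance, ⟨eQ⟩⟩
  have hperf : DRing.IsPerfect A Kge := (Groth.Agent.DRingLib.perfect_iff Kge).2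
    ⟨Groth.Agent.DRingLib.pc'_of_forall fun m => Groth.Agent.DRingLib.pc_retract
      ⟨biprod.inr ≫ e₀.inv, e₀.hom ≫ biprod.snd, by rw [Category.assoc, e₀.inv_hom_id_assoc]; exact biprod.inr_snd⟩ (hpc m), i + 1, c, hamp⟩
  refine ⟨hperf, ⟨c, hamp⟩, fun {_} => ⟨e₀ ≪≫ biprod.braiding _ _, ?_, ?_⟩⟩
  · rw [Iso.trans_hom, Category.assoc]
    refine Eq.trans (congrArg (e₀.hom ≫ ·) ?_) he₂
    exact biprod.lift_fst _ _
  · show ((DerivedCategory.TStructure.t : Triangulated.TStructure (Dual.D A)).truncLTι i).app Kf ≫ e₀.hom ≫ _ = _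
    rw [reassoc_of% he₁]
    exact biprod.hom_ext _ _ ((Category.assoc _ _ _).trans ((congrArg (biprod.inl ≫ ·) (biprod.lift_fst _ _)).trans
      (biprod.inl_snd.trans biprod.inr_fst.symm))) ((Category.assoc _ _ _).trans
      ((congrArg (biprod.inl ≫ ·) (biprod.lift_snd _ _)).trans (biprod.inl_fst.trans biprod.inr_snd.symm)))

end Groth.Agent.S7002

#print axioms Groth.Agent.S7002.result
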