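import Groth.Statements.S7003
import Groth.Agent.DCat.ProjAmp

set_option autoImplicit false
set_option backward.isDefEq.respectTransparency false
set_option backward.defeqAttrib.useBackward true
universe u
open CategoryTheory CategoryTheory.Limits
attribute [local instance] HasDerivedCategory.standard
open DRing

namespace Groth.Agent.S7003

/-- Let R be a commutative ring, a an integer and K an object of D(R) whose cohomology vanishes in large
degrees. Assume that for every injective R-linear map M → M' the induced map Hom(K, M[-a]) → Hom(K,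
M'[-a]) in D(R) is injective. Then K ≅ τ_(≤ a) K ⊕ τ_(≥ a+1) K by an isomorphism carrying τ_(≤ a) K
→ K to the first inclusion and K → τ_(≥ a+1) K to the second projection, and τ_(≥ a+1) K is
isomorphic in D(R) to a complex of projective modules vanishing outside [a+1, b] for some integer b.
(The published statement also asserts that the decomposition is unique; that part is not restated.) -/
theorem result (R : Type u) [CommRing R] (a : ℤ) (K : Dual.D R)
    (hKb : ∃ b : ℤ, ∀ i : ℤ, b < i → Subsingleton (Dual.HD R K i))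
    (h : ∀ (M M' : Type u) [AddCommGroup M] [Module R M] [AddCommGroup M'] [Module R M'] (g : M →ₗ[R] M'),
      Function.Injective g → Function.Injective (fun x : K ⟶ (shiftFunctor (Dual.D R) (-a)).obj (Dual.inD R M) =>
        x ≫ (shiftFunctor (Dual.D R) (-a)).map
          ((DerivedCategory.singleFunctor (ModuleCat.{u} R) 0).map (ModuleCat.ofHom g))))
    [HasBinaryBiproduct (((DerivedCategory.TStructure.t : Triangulated.TStructure (Dual.D R)).truncLT (a + 1)).obj K) (((DerivedCategory.TStructure.t : Triangulated.TStructure (Dual.D R)).truncGE (a + 1)).obj K)] :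
    (∃ e : K ≅ ((DerivedCategory.TStructure.t : Triangulated.TStructure (Dual.D R)).truncLT (a + 1)).obj K ⊞ ((DerivedCategory.TStructure.t : Triangulated.TStructure (Dual.D R)).truncGE (a + 1)).obj K,
      ((DerivedCategory.TStructure.t : Triangulated.TStructure (Dual.D R)).truncLTι (a + 1)).app K ≫ e.hom = biprod.inl ∧
        e.hom ≫ biprod.snd = ((DerivedCategory.TStructure.t : Triangulated.TStructure (Dual.D R)).truncGEπ (a + 1)).app K) ∧
      ∃ (P : DRing.Cx R) (b : ℤ), DRing.VanishesOutside P (a + 1) b ∧ (∀ i : ℤ, Module.Projective R (P.X i)) ∧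
        Nonempty (DRing.toD P ≅ ((DerivedCategory.TStructure.t : Triangulated.TStructure (Dual.D R)).truncGE (a + 1)).obj K) := by
  let t := (DerivedCategory.TStructure.t : Triangulated.TStructure (Dual.D R))
  let T := (t.triangleLTGE (a + 1)).obj K
  have hT : T ∈ Pretriangulated.distinguishedTriangles := t.triangleLTGE_distinguished (a + 1) K
  obtain ⟨b, hb⟩ := hKb
  have hX : T.obj₁.IsLE a := t.isLE_truncLT_obj K (a + 1) a (by omega)
  have hY : T.obj₃.IsGE (a + 1) := inferInstanceAs (t.IsGE ((t.truncGE (a + 1)).obj K) (a + 1))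
  have hYb : T.obj₃.IsLE (max a b) := (DerivedCategory.isLE_iff T.obj₃ (max a b)).2 fun i hi =>
    (DerivedCategory.HomologySequence.exact₃ T hT i (i + 1)).isZero_of_both_zeros
      ((@ModuleCat.isZero_of_subsingleton R _ _ (hb i (by omega))).eq_of_src _ _)
      ((DerivedCategory.isZero_of_isLE T.obj₁ a (i + 1) (by omega)).eq_of_tgt _ _)
  have key : ∀ (X : ModuleCat.{u} R)
      (φ : T.obj₃ ⟶ ((DerivedCategory.singleFunctor (ModuleCat.{u} R) 0).obj X)⟦-a⟧), φ = 0 := by
    intro X φ
    let E : ModuleCat.{u} R := CategoryTheory.Injective.under X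
    have hmono : Function.Injective (CategoryTheory.Injective.ι X).hom :=
      (ModuleCat.mono_iff_injective _).1 inferInstance
    have h0 : φ ≫ ((DerivedCategory.singleFunctor (ModuleCat.{u} R) 0).map (CategoryTheory.Injective.ι X))⟦-a⟧' = 0 := by
      let L := DerivedCategory.Q.objPreimage T.obj₃
      let e := DerivedCategory.Q.objObjPreimageIso T.obj₃
      have hz : IsZero (L.homology a) := (DerivedCategory.isZero_of_isGE T.obj₃ (a + 1) a (by omega)).of_iso
        (((DerivedCategory.homologyFunctorFactors _ a).app L).symm ≪≫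
          (DerivedCategory.homologyFunctor (ModuleCat.{u} R) a).mapIso e)
      refine (DCat.Amplitude.to_shift_iff e (CategoryTheory.Injective.under X) (-a)).2 ?_ _
      rw [neg_neg]
      exact DCat.Amplitude.to_injective_eq_zero L a hz _
    have h1 : T.mor₂ ≫ φ = 0 := h X E (show ↑X →ₗ[R] ↑E from (CategoryTheory.Injective.ι X).hom) hmono (by
      dsimp only
      rw [zero_comp, Category.assoc]
      exact (congrArg (fun z => T.mor₂ ≫ z) h0).trans comp_zero)
    obtain ⟨ψ, rfl⟩ := Pretriangulated.Triangle.yoneda_exact₃ T hT φ h1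
    have : (T.obj₁⟦(1 : ℤ)⟧).IsLE (a - 1) := t.isLE_shift T.obj₁ a 1 (a - 1) (by omega)
    have : (((DerivedCategory.singleFunctor (ModuleCat.{u} R) 0).obj X)⟦-a⟧).IsGE a :=
      t.isGE_shift _ 0 (-a) a (by omega)
    rw [t.zero ψ (a - 1) a (by omega), comp_zero]
  obtain ⟨P, hP, hPp, ⟨eP⟩⟩ := DCat.ProjAmp.exists_rep T.obj₃ a (max a b) key
  have h3 : T.mor₃ = 0 := DCat.ProjAmp.eq_zero_of_rep P (a + 1) (max a b) hP hPp eP (fun i hi => by
    have : (T.obj₁⟦(1 : ℤ)⟧).IsLE (a - 1) := t.isLE_shift T.obj₁ a 1 (a - 1) (by omega)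
    exact DerivedCategory.isZero_of_isLE _ (a - 1) i (by omega)) _
  obtain ⟨e, he1, he2⟩ := Pretriangulated.exists_iso_binaryBiproduct_of_distTriang T hT h3
  exact ⟨⟨e, he1, he2.symm⟩, P, max a b, hP, hPp, ⟨eP⟩⟩


end Groth.Agent.S7003
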