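import Groth.Statements.S7010
import Groth.Agent.DCat.DTenEval

set_option autoImplicit false
set_option backward.isDefEq.respectTransparency false
set_option backward.defeqAttrib.useBackward true
universe u
open CategoryTheory CategoryTheory.Limits
attribute [local instance] HasDerivedCategory.standard
open DRing

namespace Groth.Agent.S7010

open CategoryTheory.Pretriangulated in
/-- The inclusion of the perfect objects in the subcategory generated by R: let R be a commutative ring
and P a property of objects of D(R) which is closed under isomorphisms, holds for R[0], is stable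
under all shifts, is closed under extensions (if it holds for the outer terms of a distinguished
triangle it holds for the middle term) and is closed under taking direct summands. Then P holds for
every perfect object of D(R). -/
theorem result (R : Type u) [CommRing R]
    (P : ObjectProperty (Dual.D R)) [P.IsClosedUnderIsomorphisms] (hR : P (Dual.inD R R))
    (hshift : ∀ (K : Dual.D R) (n : ℤ), P K → P ((shiftFunctor (Dual.D R) n).obj K))
    (hext : ∀ T : Triangle (Dual.D R), T ∈ distinguishedTriangles → P T.obj₁ → P T.obj₃ → P T.obj₂)
    (hsum : ∀ (X Y : Dual.D R) [HasBinaryBiproduct X Y], P (X ⊞ Y) → P X)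
    (K : Dual.D R) (hK : DRing.IsPerfect R K) : P K := by
  refine Groth.Agent.DCat.devissage P (fun e h => P.prop_of_iso e h) (fun T hT _ h₂ h₄ _ => ?_) (fun {K L} r h => ?_) (fun n => ?_) hK
  · exact hext _ (rot_of_distTriang _ hT) h₂ h₄
  · obtain ⟨Z, g, δ, hT⟩ := distinguished_cocone_triangle r.i
    have hδ : δ = 0 := by
      haveI : IsSplitMono r.i := ⟨⟨⟨r.r, r.retract⟩⟩⟩
      haveI : Mono (r.i⟦(1 : ℤ)⟧') := inferInstance
      rw [← cancel_mono (r.i⟦(1 : ℤ)⟧'), zero_comp]
      exact comp_distTriang_mor_zero₃₁ _ hT
    obtain ⟨e, -⟩ := exists_iso_binaryBiproduct_of_distTriang _ hT hδ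
    exact hsum K Z (P.prop_of_iso e h)
  · refine P.prop_of_iso ?_ (hshift (Dual.inD R R) (-n) hR)
    exact (DerivedCategory.Q.commShiftIso (-n)).symm.app _ ≪≫ DerivedCategory.Q.mapIso
      (((CochainComplex.singleFunctors (ModuleCat.{u} R)).shiftIso (-n) n 0 (by omega)).app _)


end Groth.Agent.S7010
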