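import Groth.Statements.S7011
import Groth.Agent.DRingLib.LiftProj
import Groth.Agent.DRingLib.PCRes

set_option autoImplicit false
set_option backward.isDefEq.respectTransparency false
set_option backward.defeqAttrib.useBackward true
universe u
open CategoryTheory CategoryTheory.Limits
attribute [local instance] HasDerivedCategory.standard
open DRing

namespace Groth.Agent.S7011

lemma sf_of_prod {R : Type u} [CommRing R] {X Y : Type u} [AddCommGroup X] [Module R X] [AddCommGroup Y] [Module R Y]
    [Module.Finite R X] [Module.IsStablyFree R X] [Module.IsStablyFree R (X × Y)] : Module.IsStablyFree R Y := by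
  obtain ⟨N, _, _, _, _, hN⟩ := Module.IsStablyFree.exist_free_prod R X
  obtain ⟨M, _, _, _, _, hM⟩ := Module.IsStablyFree.exist_free_prod R (X × Y)
  haveI := hN
  haveI := hM
  haveI : Module.Free R (Y × ((X × N) × M)) := Module.Free.of_equiv
    (M := ((X × Y) × M) × N)
    (show (((X × Y) × M) × N) ≃ₗ[R] Y × ((X × N) × M) from
    { toFun := fun v => (v.1.1.2, ((v.1.1.1, v.2), v.1.2))
      invFun := fun v => (((v.2.1.1, v.1), v.2.2), v.2.1.2)
      map_add' := fun _ _ => rfl
      map_smul' := fun _ _ => rfl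
      left_inv := fun _ => rfl
      right_inv := fun _ => rfl })
  exact Module.IsStablyFree.of_free_prod R Y ((X × N) × M)

lemma sf_prod {R : Type u} [CommRing R] {X Y : Type u} [AddCommGroup X] [Module R X] [AddCommGroup Y] [Module R Y]
    [Module.IsStablyFree R X] [Module.IsStablyFree R Y] : Module.IsStablyFree R (X × Y) := by
  obtain ⟨N, _, _, _, _, hN⟩ := Module.IsStablyFree.exist_free_prod R X
  obtain ⟨M, _, _, _, _, hM⟩ := Module.IsStablyFree.exist_free_prod R Y
  haveI := hN
  haveI := hM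
  haveI : Module.Free R ((X × Y) × (N × M)) := Module.Free.of_equiv (M := (X × N) × (Y × M))
    (LinearEquiv.prodProdProdComm R X N Y M)
  exact Module.IsStablyFree.of_free_prod R (X × Y) (N × M)

/-- Let R be a commutative ring and I an ideal contained in the Jacobson radical of R (every element of
1 + I is a unit), such that the derived base change D(R) → D(R/I) exists. Let K be a pseudo-coherent
object of D(R) and E a bounded above cochain complex of finitely generated stably free R/I-modules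
which is isomorphic in D(R/I) to K ⊗^L_R R/I. Then there is a bounded above cochain complex P of
finitely generated stably free R-modules, isomorphic to K in D(R), whose termwise reduction P ⊗_R
R/I is isomorphic to E as a complex, and such that P^i is free for every i for which E^i is free. -/
theorem result (R : Type u) [CommRing R] (I : Ideal R)
    (hI : I ≤ Ideal.jacobson (⊥ : Ideal R)) [DRing.HasLBaseChange (Ideal.Quotient.mk I)] (K : Dual.D R)
    (hK : DRing.IsPseudoCoherent' R K) (E : DRing.Cx (R ⧸ I)) (b : ℤ) (hEb : DRing.VanishesAbove E b)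
    (hEs : ∀ i : ℤ, Module.Finite (R ⧸ I) (E.X i) ∧ Module.IsStablyFree (R ⧸ I) (E.X i))
    (hE : Nonempty (DRing.toD E ≅ (DRing.LBaseChange (Ideal.Quotient.mk I)).obj K)) :
    ∃ (P : DRing.Cx R) (b' : ℤ), DRing.VanishesAbove P b' ∧
      (∀ i : ℤ, Module.Finite R (P.X i) ∧ Module.IsStablyFree R (P.X i)) ∧
      Nonempty (DRing.toD P ≅ K) ∧ Nonempty ((((ModuleCat.extendScalars (Ideal.Quotient.mk I)).mapHomologicalComplex (ComplexShape.up ℤ)).obj P) ≅ E) ∧
      ∀ i : ℤ, Module.Free (R ⧸ I) (E.X i) → Module.Free R (P.X i) := by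
  obtain ⟨eE⟩ := hE
  obtain ⟨Q, c, hQc, hQ, ⟨eQ⟩⟩ := hK
  let Pc : ObjectProperty (ModuleCat.{u} R) := fun M => Module.Finite R M ∧ Module.IsStablyFree R M
  haveI : Pc.IsClosedUnderIsomorphisms := ⟨fun e h => by
    haveI := h.1
    haveI := h.2
    exact ⟨Module.Finite.equiv e.toLinearEquiv, Module.IsStablyFree.equiv e.toLinearEquiv⟩⟩
  let D := DRingLib.liftData I Pc
    (fun X h => by haveI := h.2; infer_instance)
    (fun X Y hX h => by
      haveI : Module.Finite R (X × Y) := h.1
      haveI : Module.IsStablyFree R (X × Y) := h.2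
      haveI := hX.1
      haveI := hX.2
      exact ⟨Module.Finite.of_surjective (LinearMap.snd R X Y) LinearMap.snd_surjective, sf_of_prod (X := X)⟩)
    (fun X Y f hX hY h => by
      haveI := hY.1
      exact DRingLib.surjective_of_jacobson I hI f h)
  have hfree : ∀ n : ℕ, Pc (ModuleCat.of R (Fin n → R)) := fun n =>
    show Module.Finite R (Fin n → R) ∧ Module.IsStablyFree R (Fin n → R) from ⟨inferInstance, inferInstance⟩
  let eF : ∀ n, (DRingLib.redF I).obj (ModuleCat.of R (Fin n → R)) ≅ ModuleCat.of (R ⧸ I) (Fin n → R ⧸ I) := fun n =>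
    DRingLib.redIso I (ModuleCat.of R (Fin n → R)) (TensorProduct.piScalarRight R (R ⧸ I) (R ⧸ I) (Fin n))
  have hbasis : ∀ (M : Type u) [AddCommGroup M] [Module (R ⧸ I) M] [Module.Finite (R ⧸ I) M] [Module.Free (R ⧸ I) M],
      ∃ n, Nonempty (M ≃ₗ[R ⧸ I] (Fin n → R ⧸ I)) := fun M _ _ _ _ => by
    rcases subsingleton_or_nontrivial (R ⧸ I) with h | h
    · haveI := Module.subsingleton (R ⧸ I) M
      exact ⟨0, ⟨LinearEquiv.ofSubsingleton _ _⟩⟩
    exact ⟨_, ⟨(Module.finBasis (R ⧸ I) M).equivFun⟩⟩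
  obtain ⟨P, b', hPb, hP, hPK, ⟨ePE⟩⟩ := DRingLib.exists_lift_mod I D
    (fun {X Y} hX hY => by
      haveI := hX.1
      haveI := hX.2
      haveI := hY.1
      haveI := hY.2
      exact Pc.prop_of_iso (ModuleCat.biprodIsoProd X Y).symm
        (show Module.Finite R (X × Y) ∧ Module.IsStablyFree R (X × Y) from ⟨inferInstance, sf_prod⟩))
    K Q c hQc (fun i => by
      haveI := (hQ i).1
      haveI := (hQ i).2
      exact ⟨inferInstance, inferInstance⟩) eQ E b hEb
    (fun i => by
      haveI := (hEs i).1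
      haveI := (hEs i).2
      obtain ⟨N, _, _, _, _, hN⟩ := Module.IsStablyFree.exist_free_prod (R ⧸ I) (E.X i)
      haveI := hN
      obtain ⟨n, ⟨eN⟩⟩ := hbasis N
      obtain ⟨m, ⟨eM⟩⟩ := hbasis ((↑(E.X i) : Type u) × N)
      let π : ModuleCat.of (R ⧸ I) ((↑(E.X i) : Type u) × N) ⟶ ModuleCat.of (R ⧸ I) N := ModuleCat.ofHom (LinearMap.snd _ _ _)
      haveI : Epi π := (ModuleCat.epi_iff_surjective _).2 LinearMap.snd_surjective
      obtain ⟨K', hK', ⟨eK⟩, -⟩ := D.exists_kernel π (hfree m) (hfree n) (eF m ≪≫ eM.symm.toModuleIso)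
        (eF n ≪≫ eN.symm.toModuleIso)
      refine ⟨K', hK', ⟨eK ≪≫ ModuleCat.kernelIsoKer π ≪≫ LinearEquiv.toModuleIso ?_⟩⟩
      exact (LinearEquiv.ofEq _ _ (by show LinearMap.ker (LinearMap.snd _ _ _) = _; rw [LinearMap.ker_snd])).trans
        (LinearEquiv.ofInjective (LinearMap.inl _ _ _) LinearMap.inl_injective).symm) eE
  refine ⟨P, b', hPb, hP, hPK, ⟨ePE⟩, fun i hi => ?_⟩
  haveI := hi
  haveI := (hEs i).1
  obtain ⟨n, ⟨e⟩⟩ := hbasis (E.X i)
  obtain ⟨u⟩ := D.uniq (hP i) (hfree n)
    ((HomologicalComplex.Hom.isoApp ePE i) ≪≫ e.toModuleIso ≪≫ (eF n).symm)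
  exact Module.Free.of_equiv u.symm.toLinearEquiv


end Groth.Agent.S7011
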