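import Groth.Statements.S7014
import Groth.Agent.S0985
import Groth.Agent.DCat.KFlatModule
import Groth.Agent.DCat.DerivedLimits
import Mathlib.Algebra.Category.ModuleCat.AB
import Mathlib.CategoryTheory.Limits.Preserves.Shapes.Products

set_option autoImplicit false
set_option backward.isDefEq.respectTransparency false
set_option backward.defeqAttrib.useBackward true
universe u
open CategoryTheory CategoryTheory.Limits
attribute [local instance] HasDerivedCategory.standard
open DRing

namespace Groth.Agent.S7014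

open CategoryTheory.Pretriangulated

section Tel

variable {D : Type*} [Category D] [Preadditive D] [HasColimitsOfShape (Discrete ℕ) D]

/-- Every map into `G (∐ K)` is fixed by almost all truncations. -/
def Fin' (C : D) (G : D ⥤ D) (K : ℕ → D) : Prop :=
  ∀ α : C ⟶ G.obj (∐ K), ∃ N : ℕ, ∀ p : ∐ K ⟶ ∐ K, (∀ k, k < N → Sigma.ι K k ≫ p = Sigma.ι K k) → α ≫ G.map p = α

lemma tel_inj {C : D} {G : D ⥤ D} [G.Additive] {K : ℕ → D} (f : ∀ n, K n ⟶ K (n + 1)) (hC : Fin' C G K)
    (α : C ⟶ G.obj (∐ K)) (hα : α ≫ G.map (𝟙 (∐ K) - DerLim.shiftMap K f) = 0) : α = 0 := by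
  classical
  rw [G.map_sub, G.map_id, Preadditive.comp_sub, Category.comp_id, sub_eq_zero] at hα
  obtain ⟨N, hN⟩ := hC α
  let p : ∐ K ⟶ ∐ K := Sigma.desc fun k => if k < N then Sigma.ι K k else 0
  have hp : α ≫ G.map p = α := hN p fun k hk => by simp [p, hk]
  let pw : ℕ → (∐ K ⟶ ∐ K) := fun M => Nat.rec (𝟙 _) (fun _ g => DerLim.shiftMap K f ≫ g) M
  have hpow : ∀ M, α ≫ G.map (pw M) = α := fun M => by
    induction M with
    | zero => simp [pw]
    | succ M ih =>
      change α ≫ G.map (DerLim.shiftMap K f ≫ pw M) = α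
      rw [G.map_comp, ← Category.assoc, ← hα, ih]
  have hkill : ∀ M k, N ≤ k + M → Sigma.ι K k ≫ pw M ≫ p = 0 := fun M => by
    induction M with
    | zero => intro k hk; simp [pw, p, show ¬ k < N by omega]
    | succ M ih =>
      intro k hk
      change Sigma.ι K k ≫ (DerLim.shiftMap K f ≫ pw M) ≫ p = 0
      simp only [Category.assoc, DerLim.shiftMap, Sigma.ι_desc_assoc, ih (k + 1) (by omega), comp_zero]
  rw [← hp, ← hpow N, Category.assoc, ← G.map_comp, show pw N ≫ p = 0 from Sigma.hom_ext _ _ fun k => by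
    rw [hkill N k (by omega), comp_zero], G.map_zero, comp_zero]

lemma fin'_of_preserves {C : D} {G : D ⥤ D} [G.Additive] {K : ℕ → D}
    [PreservesColimit (Discrete.functor K) G]
    (h : ∀ (K' : ℕ → D), Fin' C (𝟭 D) K') : Fin' C G K := fun α => by
  let s := PreservesCoproduct.iso G K
  obtain ⟨N, hN⟩ := h (fun n => G.obj (K n)) (α ≫ s.hom)
  refine ⟨N, fun p hp => ?_⟩
  have h1 := hN (s.inv ≫ G.map p ≫ s.hom) fun k hk => by
    rw [PreservesCoproduct.inv_hom, ι_comp_sigmaComparison_assoc, ← G.map_comp_assoc, hp k hk,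
      ← ι_comp_sigmaComparison G K k, Category.assoc, ← PreservesCoproduct.inv_hom, Iso.inv_hom_id, Category.comp_id]
  rw [← cancel_mono s.hom]
  simpa using h1

end Tel

/-- The localization functor preserves countable sums. -/
lemma preserves_Q (R : Type u) [CommRing R] (L : ℕ → DRing.Cx R) :
    PreservesColimit (Discrete.functor L) (DerivedCategory.Q (C := ModuleCat.{u} R)) := by
  let A := ModuleCat.{u} R
  let qt := HomotopyCategory.quotient A (ComplexShape.up ℤ)
  haveI : (DerivedCategory.Qh (C := A)).IsLeftAdjoint :=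
    (DCat.rhoAdj DCat.enoughKInj_of_isGrothendieckAbelian).isLeftAdjoint
  haveI : PreservesColimit (Discrete.functor L) qt :=
    preservesColimit_of_preserves_colimit_cocone (coproductIsCoproduct L)
      ((isColimitMapCoconeCofanMkEquiv _ _ _).symm (DCat.isColimitCofanQuotient (coproductIsCoproduct L)))
  haveI : PreservesColimit (Discrete.functor L) (qt ⋙ DerivedCategory.Qh) := inferInstance
  exact preservesColimit_of_natIso _ (DerivedCategory.quotientCompQhIso A)

/-- Let R be a commutative ring and K an object of D(R) such that for every sequence (E_n) of objects of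
D(R) the canonical map from the direct sum of the Hom(K, E_n) to Hom(K, ⊕_n E_n) is bijective. Let
L_0 → L_1 → L_2 → ... be a sequence of cochain complexes of R-modules with colimit L (computed
termwise). Then every morphism K → L in D(R) factors through L_n → L for some n, and a morphism K →
L_n in D(R) whose composite with L_n → L vanishes already has vanishing composite with L_n → L_m for
some m ≥ n. -/
theorem result (R : Type u) [CommRing R] (K : Dual.D R)
    (hK : ∀ (E : ℕ → Dual.D R) [HasCoproduct fun i : ULift.{u + 1} ℕ => E i.down],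
      Function.Bijective (CohDer.homSumToHomCoprod K (fun i : ULift.{u + 1} ℕ => E i.down)))
    (L : ℕ ⥤ DRing.Cx R) (c : Cocone L) (hc : IsColimit c) :
    (∀ x : K ⟶ DRing.toD c.pt, ∃ (n : ℕ) (y : K ⟶ DRing.toD (L.obj n)),
        y ≫ DerivedCategory.Q.map (c.ι.app n) = x) ∧
      (∀ (n : ℕ) (y : K ⟶ DRing.toD (L.obj n)), y ≫ DerivedCategory.Q.map (c.ι.app n) = 0 →
        ∃ (m : ℕ) (h : n ≤ m), y ≫ DerivedCategory.Q.map (L.map (homOfLE h)) = 0) := by
  classical
  let A := ModuleCat.{u} R
  haveI : HasColimitsOfShape (Discrete ℕ) (Dual.D R) :=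
    DCat.hasCoproductsOfShape_derived DCat.enoughKInj_of_isGrothendieckAbelian ℕ
  haveI := preserves_Q R L.obj
  let Kn : ℕ → Dual.D R := fun n => DerivedCategory.Q.obj (L.obj n)
  let f : ∀ n, Kn n ⟶ Kn (n + 1) := fun n => DerivedCategory.Q.map (L.map (homOfLE (Nat.le_succ n)))
  obtain ⟨δ, hT⟩ := S0985.result (A := A) L
  have hfin : ∀ K' : ℕ → Dual.D R, Fin' K (𝟭 (Dual.D R)) K' := by
    intro K' α
    haveI : HasColimitsOfShape (Discrete (ULift.{u + 1} ℕ)) (Dual.D R) :=
      hasColimitsOfShape_of_equivalence (Discrete.equivalence Equiv.ulift.symm)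
    let X' : ULift.{u + 1} ℕ → Dual.D R := fun n => K' n.down
    let s : ∐ K' ⟶ ∐ X' := Sigma.desc fun n => Sigma.ι X' ⟨n⟩
    let s' : ∐ X' ⟶ ∐ K' := Sigma.desc fun n => Sigma.ι K' n.down
    obtain ⟨z, hz⟩ := (hK K').2 (α ≫ s)
    refine ⟨(z.support.image ULift.down).sup id + 1, fun p hp => ?_⟩
    have e : α = (CohDer.homSumToHomCoprod K X' z) ≫ s' := by
      rw [hz, Category.assoc, show s ≫ s' = 𝟙 _ from Sigma.hom_ext _ _ fun n => by simp [s, s', X']]
      exact (Category.comp_id α).symm
    show α ≫ p = α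
    rw [e, ← DirectSum.sum_support_of z, map_sum, Preadditive.sum_comp, Preadditive.sum_comp]
    refine Finset.sum_congr rfl fun i hi => ?_
    simp only [CohDer.homSumToHomCoprod]
    erw [DirectSum.toAddMonoid_of]
    change ((z i ≫ Sigma.ι X' i) ≫ s') ≫ p = (z i ≫ Sigma.ι X' i) ≫ s'
    simp only [s', Category.assoc, Sigma.ι_desc_assoc, Sigma.ι_desc]
    rw [hp i.down (Nat.lt_succ_of_le (Finset.le_sup (f := id) (Finset.mem_image_of_mem ULift.down hi)))]
  let tom : ∀ M k, Kn k ⟶ Kn M := fun M k => if h : k ≤ M then DerivedCategory.Q.map (L.map (homOfLE h)) else 0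
  have htom : ∀ M k, k < M → tom M k = f k ≫ tom M (k + 1) := fun M k hk => by
    simp only [tom, f, dif_pos hk.le, dif_pos (show k + 1 ≤ M by omega), ← Functor.map_comp]
    rfl
  let e := (colimit.isColimit L).coconePointUniqueUpToIso hc
  have he : ∀ n, colimit.ι L n ≫ e.hom = c.ι.app n := fun n =>
    IsColimit.comp_coconePointUniqueUpToIso_hom (colimit.isColimit L) hc n
  let j : ∐ Kn ⟶ DerivedCategory.Q.obj (colimit L) := Sigma.desc fun n => DerivedCategory.Q.map (colimit.ι L n)
  refine ⟨fun x => ?_, fun n y hy => ?_⟩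
  · let x' := x ≫ DerivedCategory.Q.map e.inv
    have h0 : x' ≫ δ = 0 :=
      tel_inj f (fin'_of_preserves (G := shiftFunctor (Dual.D R) (1 : ℤ)) hfin) _ (by
        rw [Category.assoc, show δ ≫ (shiftFunctor (Dual.D R) (1 : ℤ)).map (𝟙 (∐ Kn) - DerLim.shiftMap Kn f) = 0
          from comp_distTriang_mor_zero₃₁ _ hT, comp_zero])
    obtain ⟨α, hα⟩ := Triangle.coyoneda_exact₃ _ hT x' h0
    obtain ⟨N, hN⟩ := hfin Kn α
    let p : ∐ Kn ⟶ ∐ Kn := Sigma.desc fun k => if k < N then Sigma.ι Kn k else 0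
    have hp : α ≫ p = α := hN p fun k hk => by simp [p, hk]
    refine ⟨N, α ≫ Sigma.desc (fun k => tom N k), ?_⟩
    have e1 : p ≫ Sigma.desc (fun k => tom N k) ≫ DerivedCategory.Q.map (c.ι.app N) =
        p ≫ j ≫ DerivedCategory.Q.map e.hom := Sigma.hom_ext _ _ fun k => by
      simp only [p, Sigma.ι_desc_assoc]
      split_ifs with hk
      · simp only [j, Sigma.ι_desc_assoc, tom, dif_pos hk.le, ← Functor.map_comp, he]
        rw [Cocone.w]
      · simp
    conv_lhs => rw [← hp, Category.assoc, Category.assoc, e1, ← Category.assoc, hp]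
    rw [← Category.assoc, show α ≫ j = x' from hα.symm]
    simp [x', ← Functor.map_comp]
  · let y' : K ⟶ ∐ Kn := y ≫ Sigma.ι Kn n
    have hy' : y' ≫ j = 0 := by
      simp only [y', j, Category.assoc, Sigma.ι_desc]
      rw [← cancel_mono (DerivedCategory.Q.map e.hom), Category.assoc, ← Functor.map_comp, he, zero_comp]
      exact hy
    obtain ⟨α, hα⟩ := Triangle.coyoneda_exact₂ _ hT y' hy'
    obtain ⟨N, hN⟩ := hfin Kn α
    let p : ∐ Kn ⟶ ∐ Kn := Sigma.desc fun k => if k < N then Sigma.ι Kn k else 0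
    have hp : α ≫ p = α := hN p fun k hk => by simp [p, hk]
    refine ⟨max n N, le_max_left _ _, ?_⟩
    have e1 : p ≫ (𝟙 (∐ Kn) - DerLim.shiftMap Kn f) ≫ Sigma.desc (fun k => tom (max n N) k) = 0 :=
      Sigma.hom_ext _ _ fun k => by
        simp only [p, Sigma.ι_desc_assoc, comp_zero]
        split_ifs with hk
        · simp [DerLim.shiftMap, Preadditive.comp_sub, Preadditive.sub_comp, ← htom _ k (lt_of_lt_of_le hk (le_max_right _ _))]
        · simp
    have e2 : y' ≫ Sigma.desc (fun k => tom (max n N) k) = 0 := by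
      rw [hα]
      change (α ≫ (𝟙 (∐ Kn) - DerLim.shiftMap Kn f)) ≫ _ = 0
      rw [← hp, Category.assoc, Category.assoc, e1, comp_zero]
    simpa [y', tom] using e2


end Groth.Agent.S7014
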