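import Groth.Statements.S7015
import Mathlib.LinearAlgebra.TensorProduct.Finiteness
import Mathlib.RingTheory.Finiteness.Projective
import Mathlib.LinearAlgebra.FreeModule.Basic

set_option autoImplicit false
set_option backward.isDefEq.respectTransparency false
set_option backward.defeqAttrib.useBackward true
universe u
open CategoryTheory MonoidalCategory
open DRing

namespace Groth.Agent.S7015

open TensorProduct in
lemma finiteProjective {R : Type u} [CommRing R] {M : Type u} [AddCommGroup M] [Module R M]
    {ι : Type u} [Fintype ι] (g : ι → M) (φ : ι → (M →ₗ[R] R))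
    (h : ∀ m, ∑ i, φ i m • g i = m) : Module.Finite R M ∧ Module.Projective R M := by
  let P : (ι → R) →ₗ[R] M := Fintype.linearCombination R g
  let I : M →ₗ[R] (ι → R) := LinearMap.pi φ
  have hPI : P ∘ₗ I = LinearMap.id := by
    ext m
    simp [P, I, Fintype.linearCombination_apply, h]
  exact ⟨Module.Finite.of_surjective P (fun m => ⟨I m, LinearMap.congr_fun hPI m⟩),
    Module.Projective.of_split I P hPI⟩

/-- Let R be a commutative ring and M, N R-modules such that N is a left dual of M for the tensor
product of R-modules, i.e. there are a coevaluation R → M ⊗ N and an evaluation N ⊗ M → R satisfying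
the triangle identities (an exact pairing). Then M and N are finitely generated projective
R-modules. -/
theorem result (R : Type u) [CommRing R] (M N : Type u) [AddCommGroup M]
    [Module R M] [AddCommGroup N] [Module R N] [ExactPairing (ModuleCat.of R M) (ModuleCat.of R N)] :
    Module.Finite R M ∧ Module.Projective R M ∧ Module.Finite R N ∧ Module.Projective R N := by
  obtain ⟨S, hS⟩ := TensorProduct.exists_finset
    (show TensorProduct R M N from (η_ (ModuleCat.of R M) (ModuleCat.of R N)).hom (1 : R))
  let ε : TensorProduct R N M →ₗ[R] R := (ε_ (ModuleCat.of R M) (ModuleCat.of R N)).hom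
  let η : TensorProduct R M N := (η_ (ModuleCat.of R M) (ModuleCat.of R N)).hom (1 : R)
  have hη : η = ∑ i ∈ S, i.1 ⊗ₜ[R] i.2 := hS
  have kM : ∀ m : M, TensorProduct.rid R M (ε.lTensor M (TensorProduct.assoc R M N M (η ⊗ₜ[R] m))) = m := by
    intro m
    have h := LinearMap.congr_fun
      (congrArg ModuleCat.Hom.hom (ExactPairing.evaluation_coevaluation (ModuleCat.of R M) (ModuleCat.of R N)))
      ((1 : R) ⊗ₜ[R] m)
    have h' : ε.lTensor M (TensorProduct.assoc R M N M (η ⊗ₜ[R] m)) =
        (TensorProduct.rid R M).symm (TensorProduct.lid R M ((1 : R) ⊗ₜ[R] m)) := h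
    rw [h', LinearEquiv.apply_symm_apply, TensorProduct.lid_tmul, one_smul]
  have kN : ∀ n : N,
      TensorProduct.lid R N (ε.rTensor N ((TensorProduct.assoc R N M N).symm (n ⊗ₜ[R] η))) = n := by
    intro n
    have h := LinearMap.congr_fun
      (congrArg ModuleCat.Hom.hom (ExactPairing.coevaluation_evaluation (ModuleCat.of R M) (ModuleCat.of R N)))
      (n ⊗ₜ[R] (1 : R))
    have h' : ε.rTensor N ((TensorProduct.assoc R N M N).symm (n ⊗ₜ[R] η)) =
        (TensorProduct.lid R N).symm (TensorProduct.rid R N (n ⊗ₜ[R] (1 : R))) := h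
    rw [h', LinearEquiv.apply_symm_apply, TensorProduct.rid_tmul, one_smul]
  have hM : ∀ m : M, ∑ i : S, ε (i.1.2 ⊗ₜ[R] m) • i.1.1 = m := by
    intro m
    conv_rhs => rw [← kM m, hη]
    rw [Finset.sum_coe_sort S (fun i => ε (i.2 ⊗ₜ[R] m) • i.1)]
    simp [TensorProduct.sum_tmul, map_sum]
  have hN : ∀ n : N, ∑ i : S, ε (n ⊗ₜ[R] i.1.1) • i.1.2 = n := by
    intro n
    conv_rhs => rw [← kN n, hη]
    rw [Finset.sum_coe_sort S (fun i => ε (n ⊗ₜ[R] i.1) • i.2)]
    simp [TensorProduct.tmul_sum, map_sum]
  obtain ⟨h1, h2⟩ := finiteProjective (fun i : S => i.1.1)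
    (fun i => ε ∘ₗ TensorProduct.mk R N M i.1.2) hM
  obtain ⟨h3, h4⟩ := finiteProjective (fun i : S => i.1.2)
    (fun i => ε ∘ₗ (TensorProduct.mk R N M).flip i.1.1) hN
  exact ⟨h1, h2, h3, h4⟩


end Groth.Agent.S7015
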