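import Groth.Statements.S7031
import Groth.Agent.DRingLib.PCRegular

set_option autoImplicit false
set_option backward.isDefEq.respectTransparency false
set_option backward.defeqAttrib.useBackward true
universe u
open CategoryTheory CategoryTheory.Limits
attribute [local instance] HasDerivedCategory.standard
open DRing

namespace Groth.Agent.S7031

/-- Let R be a regular commutative ring (Noetherian, with regular local rings at all primes) such that
the derived tensor product - ⊗^L_R M exists on D(R) for every R-module M, and let K be an object of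
D(R). Then K is perfect if and only if H^i(K) = 0 outside a bounded range of degrees and every
H^i(K) is a finitely generated R-module. -/
theorem result (R : Type u) [CommRing R] [IsNoetherianRing R]
    (hreg : ∀ p : PrimeSpectrum R, IsRegularLocalRing (Localization.AtPrime p.asIdeal)) [∀ M : ModuleCat.{u} R, DRing.HasLTensor R M] (K : Dual.D R) :
    DRing.IsPerfect R K ↔
      (∃ a b : ℤ, ∀ i : ℤ, (i < a ∨ b < i) → Subsingleton (Dual.HD R K i)) ∧ ∀ i : ℤ, Module.Finite R (Dual.HD R K i) := by
  refine ⟨fun h => ?_, fun ⟨⟨a, b, hz⟩, hfin⟩ => ?_⟩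
  · obtain ⟨E, a, b, hE, hp, ⟨e⟩⟩ := h
    refine ⟨⟨a, b, fun i hi => ?_⟩, fun i => ?_⟩
    · refine ModuleCat.subsingleton_of_isZero (IsZero.of_iso ?_
        ((Groth.Agent.DRingLib.HF R i).mapIso e.symm ≪≫ Groth.Agent.DRingLib.HQ E i))
      rw [← HomologicalComplex.exactAt_iff_isZero_homology]
      exact HomologicalComplex.ExactAt.of_isZero (hE i hi)
    · exact (Groth.Agent.DRingLib.finite_homology_of_pc
        (Groth.Agent.DRingLib.pc_of_perfect ⟨E, a, b, hE, hp, ⟨e⟩⟩ i)).2 i le_rfl
  · exact Groth.Agent.DRingLib.perfect_of_homology hreg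
      ((Groth.Agent.DRingLib.isGE_iff_HD K a).2 fun i hi => hz i (Or.inl hi))
      ((Groth.Agent.DRingLib.isLE_iff_HD K b).2 fun i hi => hz i (Or.inr hi)) hfin


end Groth.Agent.S7031
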