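import Groth.Statements.S7035
import Groth.Agent.RelPerfH3.FibreGlobalDim
import Groth.Agent.DRingLib.PCBase

set_option autoImplicit false
universe u
open CategoryTheory CategoryTheory.Limits
attribute [local instance] HasDerivedCategory.standard
open DRing

set_option backward.isDefEq.respectTransparency false
set_option backward.defeqAttrib.useBackward true
set_option backward.isDefEq.respectTransparency.types false
set_option linter.style.haveILetI false
attribute [local instance] HasDerivedCategory.standard

namespace Groth.Agent.S7035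

/-- Let A → B be a flat homomorphism of commutative rings and d a natural number such that for every
prime p of A, with residue field κ(p), every module over κ(p) ⊗_A B has projective dimension at most
d; assume the derived tensor products - ⊗^L M exist on D(κ(p) ⊗_A B) for all p and the derived base
changes D(B) → D(B/m) exist for all ideals m of B. Let a, b be integers and K an object of D(B)
which is pseudo-coherent over B and, with scalars restricted to A, has tor amplitude in [a, b]. Then
K is perfect over B and has tor amplitude in [a - d, b] over B. -/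
theorem result {A B : Type u} [CommRing A] [CommRing B] [Algebra A B]
    [Module.Flat A B] (d : ℕ)
    (hgl : ∀ (p : PrimeSpectrum A) (M : Type u) [AddCommGroup M]
      [Module (TensorProduct A p.asIdeal.ResidueField B) M],
      HasProjectiveDimensionLT (ModuleCat.of (TensorProduct A p.asIdeal.ResidueField B) M) (d + 1))
    [∀ (p : PrimeSpectrum A) (M : ModuleCat.{u} (TensorProduct A p.asIdeal.ResidueField B)),
      DRing.HasLTensor (TensorProduct A p.asIdeal.ResidueField B) M]
    [∀ m : Ideal B, DRing.HasLBaseChange (Ideal.Quotient.mk m)] (a b : ℤ) (K : Dual.D B)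
    (hK : DRing.IsPseudoCoherent' B K)
    (hKa : DRing.HasTorAmplitudeIn A a b ((DRing.restrictD (algebraMap A B)).obj K)) :
    DRing.IsPerfect B K ∧ DRing.HasTorAmplitudeIn B (a - d) b K := by
  obtain ⟨P, b₀, hPb, hPf, ⟨e⟩⟩ := hK
  refine (DRingLib.torAmp_of_fibres K P b₀ hPb hPf e (a - d) b fun m hm i hi => ?_).symm
  let p : PrimeSpectrum A := ⟨m.comap (algebraMap A B), inferInstance⟩
  letI : Field (B ⧸ m) := Ideal.Quotient.field m
  let g : A →+* B ⧸ m := (Ideal.Quotient.mk m).comp (algebraMap A B)
  have hg₁ : p.asIdeal ≤ RingHom.ker g := fun r hr => RingHom.mem_ker.2 (Ideal.Quotient.eq_zero_iff_mem.2 hr)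
  have hg₂ : p.asIdeal.primeCompl ≤ (IsUnit.submonoid (B ⧸ m)).comap g := fun r hr =>
    Submonoid.mem_comap.2 ((IsUnit.mem_submonoid_iff _).2
      (isUnit_iff_ne_zero.2 fun h => hr (Ideal.mem_comap.2 (Ideal.Quotient.eq_zero_iff_mem.1 h))))
  let σ : p.asIdeal.ResidueField →+* B ⧸ m := Ideal.ResidueField.lift p.asIdeal g hg₁ hg₂
  refine RelPerfH3.FibreGlobalDim.exactAt_closedFibre d
    (fun M => hgl p (M : Type u)) P b₀ hPb hPf (a := a) (b := b) (fun j hj => ?_)
    (Ideal.Quotient.mk m) σ (RingHom.ext fun r => Ideal.ResidueField.lift_algebraMap (I := p.asIdeal) g hg₁ hg₂ r) hi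
  let P₀ := ((ModuleCat.restrictScalars (algebraMap A B)).mapHomologicalComplex (ComplexShape.up ℤ)).obj P
  have hP₀ : DRing.VanishesAbove P₀ b₀ := fun n hn =>
    (ModuleCat.restrictScalars (algebraMap A B)).map_isZero (hPb n hn)
  have hP₀f : DRing.TermwiseFlat P₀ := fun n => by
    letI : Module A (P.X n) := Module.compHom (P.X n) (algebraMap A B)
    haveI : IsScalarTower A B (P.X n) := IsScalarTower.of_algebraMap_smul fun _ _ => rfl
    haveI := (hPf n).2
    exact Module.Flat.trans A B (P.X n)
  let N : ModuleCat.{u} A := (ModuleCat.restrictScalars (algebraMap A p.asIdeal.ResidueField)).obj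
    (ModuleCat.of p.asIdeal.ResidueField p.asIdeal.ResidueField)
  haveI : DRing.HasLTensor A N := DCat.hasLTensor N
  let e₀ : DRing.toD P₀ ≅ (DRing.restrictD (algebraMap A B)).obj K :=
    ((ModuleCat.restrictScalars (algebraMap A B)).mapDerivedCategoryFactors.app P).symm ≪≫
      (DRing.restrictD (algebraMap A B)).mapIso e
  rw [RelPerfH3.FibreGlobalDim.exactAt_ext_iff, ← DCat.isZero_ltensor_iff N
    (DCat.isKFlatFor_of_vanishesAbove P₀ b₀ hP₀ hP₀f) e₀ j]
  exact DCat.vanish_of_flatAmp hKa N hj

end Groth.Agent.S7035
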