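import Groth.Statements.S7036
import Groth.Agent.DRingLib.InjTerms
-- import your own Groth.Agent.* helpers here

set_option autoImplicit false
universe u
open CategoryTheory CategoryTheory.Limits
attribute [local instance] HasDerivedCategory.standard
open DRing

namespace Groth.Agent.S7036

/-- Let R be a commutative ring. (1) If K is an object of D(R) whose cohomology vanishes outside a
bounded range and every cohomology module H^i(K), placed in degree 0, has finite injective
dimension, then K has finite injective dimension. (2) If K is a bounded cochain complex of R-modules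
and every term K^i, placed in degree 0, has finite injective dimension, then K has finite injective
dimension. -/
theorem result (R : Type u) [CommRing R] :
    (∀ (K : Dual.D R), (∃ a b : ℤ, ∀ i : ℤ, (i < a ∨ b < i) → Subsingleton (Dual.HD R K i)) →
        (∀ i : ℤ, DRing.HasFiniteInjDim R (Dual.inD R (Dual.HD R K i))) → DRing.HasFiniteInjDim R K) ∧
      (∀ (K : DRing.Cx R) (a b : ℤ), DRing.VanishesOutside K a b →
        (∀ i : ℤ, DRing.HasFiniteInjDim R (Dual.inD R (K.X i))) → DRing.HasFiniteInjDim R (DRing.toD K)) := by
  refine ⟨fun K h hK => ?_, fun K a b hab h => Groth.Agent.DRingLib.injDim_of_terms K hab h⟩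
  obtain ⟨a, b, hb⟩ := h
  exact Groth.Agent.DRingLib.injDim_of_homology (Groth.Agent.DRingLib.isGE_of_subsingleton (c := a) fun i hi => hb i (Or.inl hi))
    (Groth.Agent.DRingLib.isLE_of_subsingleton (d := b) fun i hi => hb i (Or.inr hi)) hK

end Groth.Agent.S7036

#print axioms Groth.Agent.S7036.result
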