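import Groth.Statements.S7038

set_option autoImplicit false
universe u
open LocCoh

namespace Groth.Agent.S7038

/-- For an ideal I of a commutative ring R and an R-module M, if every element of M is killed by a power
of I then the support of M is contained in the closed set V(I); conversely, when I is finitely
generated and the support of M is contained in V(I), every element of M is killed by a power of I.
(Finite generation is used only for the converse.) -/
theorem result {R : Type u} [CommRing R] (I : Ideal R)
    (M : Type u) [AddCommGroup M] [Module R M] :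
    (LocCoh.IsPowerTorsion I M → Module.support R M ⊆ PrimeSpectrum.zeroLocus (I : Set R)) ∧
    (I.FG → Module.support R M ⊆ PrimeSpectrum.zeroLocus (I : Set R) → LocCoh.IsPowerTorsion I M) := by
  refine ⟨fun hM p hp => ?_, fun hI hsupp m => ?_⟩
  · obtain ⟨m, hm⟩ := Module.mem_support_iff'.1 hp
    intro a ha
    by_contra hap
    obtain ⟨n, hn⟩ := hM m
    exact hm (a ^ n) (fun h => hap (p.2.mem_of_pow_mem n h)) (hn _ (Ideal.pow_mem_pow ha n))
  · have hle : I ≤ (Module.annihilator R (Submodule.span R {m})).radical := by
      rw [Ideal.radical_eq_sInf]
      refine le_sInf fun J ⟨hJ, hJp⟩ => ?_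
      have hp : (⟨J, hJp⟩ : PrimeSpectrum R) ∈ Module.support R M := by
        rw [Module.mem_support_iff']
        exact ⟨m, fun r hr h0 => hr (hJ (Module.mem_annihilator.2 fun x => Subtype.ext (by
          obtain ⟨c, hc⟩ := Submodule.mem_span_singleton.1 x.2
          show r • (x : M) = 0
          rw [← hc, smul_comm, h0, smul_zero])))⟩
      exact hsupp hp
    obtain ⟨n, hn⟩ := Ideal.exists_pow_le_of_le_radical_of_fg hle hI
    exact ⟨n, fun a ha => congrArg Subtype.val
      (Module.mem_annihilator.1 (hn ha) ⟨m, Submodule.mem_span_singleton_self m⟩)⟩

end Groth.Agent.S7038
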