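import Groth.Statements.S7039

set_option autoImplicit false
universe u
open LocCoh

namespace Groth.Agent.S7039

/-- For a finitely generated ideal I of a commutative ring R and any R-module M, the quotient of M by
its submodule of I-power torsion elements has no nonzero element annihilated by I. -/
theorem result {R : Type u} [CommRing R] (I : Ideal R) (hI : I.FG)
    (M : Type u) [AddCommGroup M] [Module R M] :
    LocCoh.torsionBy I (M ⧸ DRing.torsionSub I M) = ⊥ := by
  refine eq_bot_iff.2 ?_
  intro q hq
  obtain ⟨m, rfl⟩ := Submodule.Quotient.mk_surjective _ q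
  rw [Submodule.mem_bot, Submodule.Quotient.mk_eq_zero]
  have hm : ∀ a ∈ I, a • m ∈ DRing.torsionSub I M := fun a ha => by
    rw [← Submodule.Quotient.mk_eq_zero (DRing.torsionSub I M), Submodule.Quotient.mk_smul]
    exact (Submodule.mem_torsionBySet_iff _ _).1 hq ⟨a, ha⟩
  obtain ⟨s, hs⟩ := hI
  choose k hk using fun a : (s : Set R) => hm a.1 (hs ▸ Submodule.subset_span a.2)
  classical
  refine ⟨Finset.univ.sup k + 1, fun c hc => ?_⟩
  rw [pow_succ] at hc
  induction hc using Submodule.mul_induction_on' with
  | mem_mul_mem x hx y hy =>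
    rw [← hs] at hy
    induction hy using Submodule.span_induction with
    | mem z hz =>
      rw [mul_smul]
      exact hk ⟨z, hz⟩ x (Ideal.pow_le_pow_right (Finset.le_sup (f := k) (Finset.mem_univ _)) hx)
    | zero => simp
    | add z w _ _ hz hw => rw [mul_add, add_smul, hz, hw, add_zero]
    | smul r z _ hz => rw [smul_eq_mul, mul_left_comm, mul_smul, hz, smul_zero]
  | add x _ y _ hx hy => rw [add_smul, hx, hy, add_zero]

end Groth.Agent.S7039
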