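import Groth.Statements.S7040
import Mathlib.Algebra.Homology.ShortComplex.ModuleCat

set_option autoImplicit false
universe u
open CategoryTheory
open LocCoh

namespace Groth.Agent.S7040

/-- For a finitely generated ideal I of a commutative ring R, the property of being an I-power torsion
module (every element killed by a power of I) is a Serre class in the category of R-modules: it
holds for 0 and is closed under subobjects, quotients and extensions. -/
theorem result {R : Type u} [CommRing R] (I : Ideal R) (hI : I.FG) :
    ObjectProperty.IsSerreClass (C := ModuleCat.{u} R) (fun M => LocCoh.IsPowerTorsion I M) := by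
  exact
  { exists_zero := ⟨ModuleCat.of R PUnit.{u + 1}, ModuleCat.isZero_of_subsingleton _,
      fun m => ⟨0, fun a _ => Subsingleton.elim _ _⟩⟩
    prop_of_mono := fun {X Y} f _ hY m => by
      obtain ⟨n, hn⟩ := hY (f.hom m)
      exact ⟨n, fun a ha => (ModuleCat.mono_iff_injective f).1 inferInstance (by
        rw [map_smul, map_zero]; exact hn a ha)⟩
    prop_of_epi := fun {X Y} f _ hX y => by
      obtain ⟨x, rfl⟩ := (ModuleCat.epi_iff_surjective f).1 inferInstance y
      obtain ⟨n, hn⟩ := hX x
      exact ⟨n, fun a ha => by rw [← map_smul, hn a ha, map_zero]⟩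
    prop_X₂_of_shortExact := fun {S} hS h₁ h₃ m => by
      obtain ⟨n, hn⟩ := h₃ (S.g.hom m)
      obtain ⟨s, hs⟩ := hI.pow (n := n)
      have hx : ∀ a ∈ I ^ n, ∃ x, S.f.hom x = a • m := fun a ha =>
        ((ShortComplex.ShortExact.moduleCat_exact_iff_function_exact _).1 hS.exact _).1
          (by rw [map_smul]; exact hn a ha)
      choose x hx' using fun a : (s : Set R) => hx a.1 (hs ▸ Submodule.subset_span a.2)
      choose k hk using fun a => h₁ (x a)
      classical
      refine ⟨Finset.univ.sup k + n, fun c hc => ?_⟩
      rw [pow_add] at hc
      induction hc using Submodule.mul_induction_on' with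
      | mem_mul_mem b hb y hy =>
        rw [← hs] at hy
        induction hy using Submodule.span_induction with
        | mem z hz =>
          rw [mul_smul, ← hx' ⟨z, hz⟩, ← map_smul, hk ⟨z, hz⟩ b
            (Ideal.pow_le_pow_right (Finset.le_sup (f := k) (Finset.mem_univ _)) hb), map_zero]
        | zero => simp
        | add z w _ _ hz hw => rw [mul_add, add_smul, hz, hw, add_zero]
        | smul r z _ hz => rw [smul_eq_mul, mul_left_comm, mul_smul, hz, smul_zero]
      | add p _ q _ hp hq => rw [add_smul, hp, hq, add_zero] }

end Groth.Agent.S7040
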