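import Groth.Statements.S7041

set_option autoImplicit false
universe u
open TensorProduct
open LocCoh

namespace Groth.Agent.S7041

/-- Let R → R' be a homomorphism of commutative rings and I an ideal of R such that the induced map
R/I^n → R'/I^n R' is bijective for every n > 0. Then for every R-module M in which every element is
killed by a power of I, the map M → R' ⊗_R M sending m to 1 ⊗ m is bijective. -/
theorem result {R R' : Type u} [CommRing R] [CommRing R'] [Algebra R R']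
    (I : Ideal R)
    (hq : ∀ n : ℕ, 0 < n → Function.Bijective
      (Ideal.quotientMap (Ideal.map (algebraMap R R') (I ^ n)) (algebraMap R R') Ideal.le_comap_map))
    (M : Type u) [AddCommGroup M] [Module R M] (hM : LocCoh.IsPowerTorsion I M) :
    Function.Bijective (fun m : M => (1 : R') ⊗ₜ[R] m) := by
  let φ := algebraMap R R'
  let J : ℕ → Ideal R' := fun n => Ideal.map φ (I ^ n)
  let P : R' → M → M → Prop := fun r' m x => ∃ (n : ℕ) (r : R), 0 < n ∧
    (∀ a ∈ I ^ n, a • m = 0) ∧ r' - φ r ∈ J n ∧ x = r • m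
  have hex : ∀ r' m, ∃ x, P r' m x := fun r' m => by
    obtain ⟨n, hn⟩ := hM m
    obtain ⟨q, hq'⟩ := (hq (n + 1) n.succ_pos).2 (Ideal.Quotient.mk _ r')
    obtain ⟨r, rfl⟩ := Ideal.Quotient.mk_surjective q
    exact ⟨r • m, n + 1, r, n.succ_pos, fun a ha => hn a (Ideal.pow_le_pow_right n.le_succ ha),
      Ideal.Quotient.eq.1 (hq'.symm.trans (Ideal.quotientMap_mk ..)), rfl⟩
  have huni : ∀ r' m x y, P r' m x → P r' m y → x = y := by
    rintro r' m _ _ ⟨n, r, hn0, hn, hr, rfl⟩ ⟨k, s, hk0, hk, hs, rfl⟩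
    have key : ∀ l, 0 < l → (∀ a ∈ I ^ l, a • m = 0) → φ r - φ s ∈ J l → r • m = s • m := by
      intro l hl0 hl hmem
      have h1 : Ideal.Quotient.mk (I ^ l) r = Ideal.Quotient.mk (I ^ l) s := (hq l hl0).1 (by
        rw [Ideal.quotientMap_mk, Ideal.quotientMap_mk, Ideal.Quotient.eq]
        exact hmem)
      rw [← sub_eq_zero, ← sub_smul]
      exact hl _ (Ideal.Quotient.eq.1 h1)
    rcases le_total n k with h | h
    · refine key n hn0 hn ?_
      have : φ r - φ s = (r' - φ s) - (r' - φ r) := by ring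
      rw [this]
      exact sub_mem (Ideal.map_mono (Ideal.pow_le_pow_right h) hs) hr
    · refine key k hk0 hk ?_
      have : φ r - φ s = (r' - φ s) - (r' - φ r) := by ring
      rw [this]
      exact sub_mem hs (Ideal.map_mono (Ideal.pow_le_pow_right h) hr)
  choose ρ hρ using hex
  have hρeq : ∀ r' m x, P r' m x → ρ r' m = x := fun r' m x h => huni r' m _ _ (hρ r' m) h
  have hmin : ∀ (r' : R') (m : M) (N : ℕ), ∃ (n : ℕ) (r : R), N ≤ n ∧ 0 < n ∧
      (∀ a ∈ I ^ n, a • m = 0) ∧ r' - φ r ∈ J n := fun r' m N => by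
    obtain ⟨n, hn⟩ := hM m
    obtain ⟨q, hq'⟩ := (hq (n + N + 1) (Nat.succ_pos _)).2 (Ideal.Quotient.mk _ r')
    obtain ⟨r, rfl⟩ := Ideal.Quotient.mk_surjective q
    exact ⟨n + N + 1, r, by omega, Nat.succ_pos _,
      fun a ha => hn a (Ideal.pow_le_pow_right (by omega) ha),
      Ideal.Quotient.eq.1 (hq'.symm.trans (Ideal.quotientMap_mk ..))⟩
  let β : R' →ₗ[R] M →ₗ[R] M := LinearMap.mk₂ R ρ
    (fun a b m => by
      obtain ⟨n, hn⟩ := hM m
      obtain ⟨n₁, r, h₁, h₁', hk₁, hr⟩ := hmin a m n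
      obtain ⟨n₂, s, h₂, h₂', hk₂, hs⟩ := hmin b m n₁
      rw [hρeq a m _ ⟨n₁, r, h₁', hk₁, hr, rfl⟩, hρeq b m _ ⟨n₂, s, h₂', hk₂, hs, rfl⟩]
      refine hρeq _ _ _ ⟨n₁, r + s, h₁', hk₁, ?_, (add_smul r s m).symm⟩
      rw [map_add, add_sub_add_comm]
      exact add_mem hr (Ideal.map_mono (Ideal.pow_le_pow_right h₂) hs))
    (fun c a m => by
      obtain ⟨n₁, r, -, h₁', hk₁, hr⟩ := hmin a m 0
      rw [hρeq a m _ ⟨n₁, r, h₁', hk₁, hr, rfl⟩]
      refine hρeq _ _ _ ⟨n₁, c * r, h₁', hk₁, ?_, (mul_smul c r m).symm⟩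
      rw [map_mul, Algebra.smul_def, ← mul_sub]
      exact Ideal.mul_mem_left _ _ hr)
    (fun a m m' => by
      obtain ⟨n, hn⟩ := hM m'
      obtain ⟨n₁, r, h₁, h₁', hk₁, hr⟩ := hmin a m n
      rw [hρeq a m _ ⟨n₁, r, h₁', hk₁, hr, rfl⟩,
        hρeq a m' _ ⟨n₁, r, h₁', fun c hc => hn c (Ideal.pow_le_pow_right h₁ hc), hr, rfl⟩]
      refine hρeq _ _ _ ⟨n₁, r, h₁', fun c hc => ?_, hr, (smul_add r m m').symm⟩
      rw [smul_add, hk₁ c hc, hn c (Ideal.pow_le_pow_right h₁ hc), add_zero])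
    (fun c a m => by
      obtain ⟨n₁, r, -, h₁', hk₁, hr⟩ := hmin a m 0
      rw [hρeq a m _ ⟨n₁, r, h₁', hk₁, hr, rfl⟩]
      exact hρeq _ _ _ ⟨n₁, r, h₁', fun d hd => by rw [smul_comm, hk₁ d hd, smul_zero], hr,
        smul_comm c r m⟩)
  have hleft : ∀ m, TensorProduct.lift β ((1 : R') ⊗ₜ[R] m) = m := fun m => by
    obtain ⟨n, hn⟩ := hM m
    rw [TensorProduct.lift.tmul]
    exact hρeq _ _ _ ⟨n + 1, 1, n.succ_pos, fun a ha => hn a (Ideal.pow_le_pow_right n.le_succ ha),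
      by rw [map_one, sub_self]; exact zero_mem _, (one_smul R m).symm⟩
  refine ⟨fun m m' h => by rw [← hleft m, ← hleft m']; exact congrArg _ h, fun z => ?_⟩
  induction z using TensorProduct.induction_on with
  | zero => exact ⟨0, TensorProduct.tmul_zero _ _⟩
  | tmul r' m =>
    obtain ⟨n, r, -, -, hk, hr⟩ := hmin r' m 0
    refine ⟨r • m, ?_⟩
    have h1 : ∀ y ∈ J n, y ⊗ₜ[R] m = 0 := fun y hy => by
      induction hy using Submodule.span_induction with
      | mem y hy =>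
        obtain ⟨a, ha, rfl⟩ := hy
        rw [Algebra.algebraMap_eq_smul_one, TensorProduct.smul_tmul, hk a ha, TensorProduct.tmul_zero]
      | zero => exact TensorProduct.zero_tmul _ _
      | add y z _ _ hy hz => rw [TensorProduct.add_tmul, hy, hz, add_zero]
      | smul c y _ hy =>
        have := congrArg (LinearMap.rTensor M (LinearMap.mulLeft R c)) hy
        rwa [map_zero] at this
    show (1 : R') ⊗ₜ[R] (r • m) = r' ⊗ₜ[R] m
    rw [← TensorProduct.smul_tmul, ← Algebra.algebraMap_eq_smul_one, eq_comm, ← sub_eq_zero,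
      ← TensorProduct.sub_tmul]
    exact h1 _ hr
  | add y z hy hz =>
    obtain ⟨a, ha⟩ := hy
    obtain ⟨b, hb⟩ := hz
    exact ⟨a + b, (TensorProduct.tmul_add _ _ _).trans (congrArg₂ (· + ·) ha hb)⟩

end Groth.Agent.S7041
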