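import Groth.Statements.S7042
import Groth.Agent.DCat.DComplete
import Groth.Agent.DCat.DCompleteAdic

set_option autoImplicit false
set_option backward.isDefEq.respectTransparency false
set_option backward.defeqAttrib.useBackward true
universe u
attribute [local instance] HasDerivedCategory.standard
open DRing

namespace Groth.Agent.S7042

/-- Let I be a finitely generated ideal of a commutative ring A and let M be an A-module which, placed
in degree 0, is derived complete with respect to I, and in which every element is killed by a power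
of I. Then a single power of I kills M. -/
theorem result {A : Type u} [CommRing A]
    (I : Ideal A) (hI : I.FG) (M : Type u) [AddCommGroup M] [Module A M]
    (hc : DRing.IsDerivedComplete I (Dual.inD A M)) (ht : LocCoh.IsPowerTorsion I M) :
    ∃ n : ℕ, I ^ n • (⊤ : Submodule A M) = ⊥ := by
  classical
  have h := (DCat.DC.isDerivedComplete_inD_iff M).1 hc
  obtain ⟨s, rfl⟩ := hI
  have hb : ∀ f : A, ∃ n : ℕ, f ∈ s → ∀ x : M, f ^ n • x = 0 := fun f => by
    by_cases hf : f ∈ s
    · have hf' : f ∈ Ideal.span (↑s : Set A) := Ideal.subset_span hf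
      obtain ⟨n, hn⟩ := DCat.DC.exists_pow_smul_eq_zero h hf' fun x =>
        (ht x).imp fun n hn => hn _ (Ideal.pow_mem_pow hf' n)
      exact ⟨n, fun _ => hn⟩
    · exact ⟨0, fun h => absurd h hf⟩
  choose N hN using hb
  let k := s.sup N
  obtain ⟨m, hm⟩ := DCat.DC.exists_pow_le_span_pow s k
  refine ⟨m, le_bot_iff.1 ((Submodule.smul_mono_left hm).trans ?_)⟩
  intro x hx
  obtain ⟨y, rfl⟩ := DCat.DC.exists_sum_of_mem s k hx
  refine (Submodule.mem_bot A).2 (Finset.sum_eq_zero fun f hf => ?_)
  show f ^ (s.sup N) • y f = 0
  rw [← Nat.sub_add_cancel (Finset.le_sup (f := N) hf), pow_add, mul_smul, hN f hf, smul_zero]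


end Groth.Agent.S7042
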