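import Groth.Statements.S7043
import Groth.Agent.DCat.DComplete

set_option autoImplicit false
set_option backward.isDefEq.respectTransparency false
set_option backward.defeqAttrib.useBackward true
universe u
attribute [local instance] HasDerivedCategory.standard
open DRing

namespace Groth.Agent.S7043

/-- Let f be an element of a commutative ring A and let M be an A-module which, placed in degree 0, is
derived complete with respect to the ideal (f). Then the ideal J = ⋂ f^n A annihilates the submodule
⋂ f^n M, which is the kernel of M → lim M/f^n M. (The case M = A says that J has square zero when A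
itself is derived complete.) -/
theorem result {A : Type u} [CommRing A] (f : A)
    (M : Type u) [AddCommGroup M] [Module A M]
    (hc : DRing.IsDerivedComplete (Ideal.span {f}) (Dual.inD A M)) :
    (⨅ n : ℕ, Ideal.span {f ^ n}) • (⨅ n : ℕ, (Ideal.span {f ^ n}) • (⊤ : Submodule A M)) = (⊥ : Submodule A M) := by
  have hM : DCat.DC.ModDC (Ideal.span {f}) M := (DCat.DC.isDerivedComplete_inD_iff M).1 hc
  refine le_bot_iff.1 (Submodule.smul_le.2 fun a ha z hz => ?_)
  rw [Submodule.mem_iInf] at ha hz
  choose c hc' using fun n => Ideal.mem_span_singleton'.1 (ha n)
  have hz' : ∀ n, ∃ w : M, z = f ^ n • w := fun n => by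
    have h1 := hz n
    rw [Submodule.ideal_span_singleton_smul] at h1
    obtain ⟨w, -, hw⟩ := h1
    exact ⟨w, hw.symm⟩
  choose w hw using hz'
  have key := DCat.DC.eq_zero (hM f (Ideal.mem_span_singleton_self f)) (x := fun n => c n • z) fun n => by
    show c n • z = f • c (n + 1) • z
    rw [← sub_eq_zero, smul_smul, ← sub_smul]
    conv_lhs => rw [hw n, smul_smul]
    have e : (c n - f * c (n + 1)) * f ^ n = 0 := by
      linear_combination hc' n - hc' (n + 1)
    rw [e, zero_smul]
  rw [Submodule.mem_bot]
  have h0 := congrFun key 0
  have : c 0 = a := by simpa using hc' 0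
  simpa [this] using h0


end Groth.Agent.S7043
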