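import Groth.Statements.S7046
import Groth.Agent.DCat.DComplete
import Groth.Agent.DCat.DCompleteAdic

set_option autoImplicit false
set_option backward.isDefEq.respectTransparency false
set_option backward.defeqAttrib.useBackward true
universe u
attribute [local instance] HasDerivedCategory.standard
open DRing

namespace Groth.Agent.S7046

/-- A reduced commutative ring A which, placed in degree 0 of D(A), is derived complete with respect to
a finitely generated ideal I is I-adically complete, i.e. separated and complete for the I-adic
topology. -/
theorem result {A : Type u} [CommRing A] [IsReduced A]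
    (I : Ideal A) (hI : I.FG) (hc : DRing.IsDerivedComplete I (Dual.inD A A)) :
    IsAdicComplete I A := by
  have h := (DCat.DC.isDerivedComplete_inD_iff A).1 hc
  obtain ⟨s, hs⟩ := id hI
  refine AdicCompletion.of_bijective_iff.1 ⟨(injective_iff_map_eq_zero _).2 fun x hx => ?_,
    DCat.DC.surjective_completion hI h⟩
  have hmem : x ∈ ⨅ n : ℕ, I ^ n := (Submodule.mem_iInf _).2 fun n => by
    have e := congrArg (fun z => z.val n) hx
    simp only [AdicCompletion.of_apply] at e
    simpa using (Submodule.Quotient.mk_eq_zero _).1 e
  have h0 := Ideal.pow_mem_pow hmem (2 ^ s.card)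
  rw [DCat.DC.iInf_pow_pow_eq_bot s hs h, Ideal.mem_bot] at h0
  exact eq_zero_of_pow_eq_zero h0


end Groth.Agent.S7046
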