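import Groth.Statements.S7047
import Groth.Agent.DCat.DComplete

set_option autoImplicit false
set_option backward.isDefEq.respectTransparency false
set_option backward.defeqAttrib.useBackward true
universe u
attribute [local instance] HasDerivedCategory.standard
open DRing

namespace Groth.Agent.S7047

/-- For a commutative ring A and an object K of D(A), the set of elements f of A such that every
morphism from A_f (placed in degree 0) to any shift K[n] vanishes is a radical ideal of A. -/
theorem result {A : Type u} [CommRing A] (K : Dual.D A) :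
    ∃ J : Ideal A, J.IsRadical ∧
      (J : Set A) = {f : A | ∀ n : ℤ, Subsingleton (Dual.inD A (Localization.Away f) ⟶ K⟦n⟧)} := by
  refine ⟨⨅ i : ℤ, DCat.DC.dcIdeal (Dual.HD A K i), fun f hf => ?_, Set.ext fun f => ?_⟩
  · obtain ⟨n, hn⟩ := hf
    rw [Submodule.mem_iInf] at hn ⊢
    exact fun i => DCat.DC.isRadical_dcIdeal ⟨n, hn i⟩
  · show f ∈ (⨅ i : ℤ, DCat.DC.dcIdeal (Dual.HD A K i)) ↔ ∀ n, _
    rw [DCat.DC.forall_subsingleton_iff, Submodule.mem_iInf]
    rfl


end Groth.Agent.S7047
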