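import Groth.Statements.S7048
import Groth.Agent.DCat.DComplete

set_option autoImplicit false
set_option backward.isDefEq.respectTransparency false
set_option backward.defeqAttrib.useBackward true
universe u
attribute [local instance] HasDerivedCategory.standard
open DRing

namespace Groth.Agent.S7048

open DCat.DC in
lemma modDC_of_isAdicComplete {A : Type u} [CommRing A] (I : Ideal A)
    (M : Type u) [AddCommGroup M] [Module A M] [IsAdicComplete I M] : ModDC I M := by
  intro f hf
  have mem : ∀ (k : ℕ) (z : M), f ^ k • z ∈ (I ^ k • ⊤ : Submodule A M) := fun k z =>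
    Submodule.smul_mem_smul (Ideal.pow_mem_pow hf k) Submodule.mem_top
  refine comp_of (fun x hx => ?_) fun y => ?_
  · have e : ∀ k, x 0 = f ^ k • x k := by
      intro k
      induction k with
      | zero => simp
      | succ k ih => rw [ih, hx k, pow_succ, mul_smul]; rfl
    exact IsHausdorff.haus (I := I) inferInstance (x 0) fun k => SModEq.zero.2 (e k ▸ mem k (x k))
  · let s : ℕ → ℕ → M := fun k K => ∑ j ∈ Finset.range K, f ^ j • y (k + j)
    have hs : ∀ k, ∃ L : M, ∀ K, s k K - L ∈ (I ^ K • ⊤ : Submodule A M) := by
      intro k
      obtain ⟨L, hL⟩ := IsPrecomplete.prec (I := I) (f := s k) inferInstance (fun {m n} hmn => by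
        refine SModEq.symm (SModEq.sub_mem.2 ?_)
        rw [← Nat.add_sub_cancel' hmn]
        simp only [s, Finset.sum_range_add, add_sub_cancel_left]
        refine Submodule.sum_mem _ fun j _ => ?_
        rw [pow_add, mul_smul]
        exact mem m _)
      exact ⟨L, fun K => SModEq.sub_mem.1 (hL K)⟩
    choose L hL using hs
    refine ⟨L, fun k => ?_⟩
    rw [← sub_eq_zero]
    refine IsHausdorff.haus (I := I) inferInstance _ fun K => SModEq.zero.2 ?_
    have h1 : s k (K + 1) = y k + f • s (k + 1) K := by
      simp only [s, Finset.smul_sum, smul_smul, ← pow_succ']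
      rw [Finset.sum_range_succ', pow_zero, one_smul, add_zero, add_comm]
      congr 1
      exact Finset.sum_congr rfl fun j _ => by rw [show k + (j + 1) = k + 1 + j by omega]
    have h2 : L k - f • L (k + 1) - y k = f • (s (k + 1) K - L (k + 1)) - (s k (K + 1) - L k) := by
      rw [h1, smul_sub]; abel
    show L k - f • L (k + 1) - y k ∈ _
    rw [h2]
    exact sub_mem (Submodule.smul_mem _ f (hL _ K))
      (Submodule.smul_mono_left (Ideal.pow_le_pow_right (Nat.le_succ K)) (hL k (K + 1)))

/-- For a commutative ring A, an ideal I and an A-module M which is I-adically complete, the object M[0]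
of D(A) is derived complete with respect to I. -/
theorem result {A : Type u} [CommRing A] (I : Ideal A)
    (M : Type u) [AddCommGroup M] [Module A M] [IsAdicComplete I M] :
    DRing.IsDerivedComplete I (Dual.inD A M) := by
  exact (DCat.DC.isDerivedComplete_inD_iff M).2 (modDC_of_isAdicComplete I M)


end Groth.Agent.S7048
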