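import Groth.Statements.S7052
import Groth.Agent.DCat.DComplete

set_option autoImplicit false
set_option backward.isDefEq.respectTransparency false
set_option backward.defeqAttrib.useBackward true
universe u
attribute [local instance] HasDerivedCategory.standard
open DRing

namespace Groth.Agent.S7052

/-- For a commutative ring A, an ideal I, an A-module M and a submodule M₁ such that both M₁ and M/M₁
(placed in degree 0) are derived complete with respect to I, the module M is derived complete with
respect to I. -/
theorem result {A : Type u} [CommRing A] (I : Ideal A)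
    (M : Type u) [AddCommGroup M] [Module A M] (M₁ : Submodule A M)
    (h1 : DRing.IsDerivedComplete I (Dual.inD A M₁)) (h3 : DRing.IsDerivedComplete I (Dual.inD A (M ⧸ M₁))) :
    DRing.IsDerivedComplete I (Dual.inD A M) := by
  have h1' := (DCat.DC.isDerivedComplete_inD_iff (I := I) M₁).1 h1
  have h3' := (DCat.DC.isDerivedComplete_inD_iff (I := I) (M ⧸ M₁)).1 h3
  refine (DCat.DC.isDerivedComplete_inD_iff M).2 fun f hf => DCat.DC.comp_of (fun x hx => ?_) fun y => ?_
  · have hq := DCat.DC.eq_zero (h3' f hf) (x := fun m => (Submodule.Quotient.mk (x m) : M ⧸ M₁)) fun m => by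
      show (Submodule.Quotient.mk (x m) : M ⧸ M₁) = f • Submodule.Quotient.mk (x (m + 1))
      rw [hx m]; rfl
    have hm : ∀ m, x m ∈ M₁ := fun m => (Submodule.Quotient.mk_eq_zero M₁).1 (congrFun hq m)
    have h0 := DCat.DC.eq_zero (h1' f hf) (x := fun m => (⟨x m, hm m⟩ : M₁)) fun m => Subtype.ext (hx m)
    exact congrArg Subtype.val (congrFun h0 0)
  · choose x hx using fun m => Submodule.Quotient.mk_surjective M₁
      (DCat.DC.sol (h3' f hf) (fun k => Submodule.Quotient.mk (y k)) m)
    have hm : ∀ m, y m - (x m - f • x (m + 1)) ∈ M₁ := fun m => by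
      rw [← Submodule.Quotient.mk_eq_zero M₁, Submodule.Quotient.mk_sub, Submodule.Quotient.mk_sub,
        Submodule.Quotient.mk_smul, hx, hx]
      exact sub_eq_zero.2 (DCat.DC.sol_spec (h3' f hf) (fun k => Submodule.Quotient.mk (y k)) m).symm
    refine ⟨fun m => x m + (DCat.DC.sol (h1' f hf) (fun k => (⟨_, hm k⟩ : M₁)) m : M), fun m => ?_⟩
    have e := congrArg Subtype.val (DCat.DC.sol_spec (h1' f hf) (fun k => (⟨_, hm k⟩ : M₁)) m)
    simp only [DCat.DC.sm, DistribSMul.toAddMonoidHom_apply, AddSubgroupClass.coe_sub,
      SetLike.val_smul] at e ⊢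
    rw [smul_add]
    linear_combination (norm := abel) e


end Groth.Agent.S7052
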