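import Groth.Statements.S7054
import Groth.Agent.DCat.DComplete
import Mathlib.Algebra.Homology.ShortComplex.ModuleCat

set_option autoImplicit false
set_option backward.isDefEq.respectTransparency false
set_option backward.defeqAttrib.useBackward true
universe u
attribute [local instance] HasDerivedCategory.standard
open DRing

namespace Groth.Agent.S7054

open CategoryTheory DCat.DC

lemma modDC_homology {A : Type u} [CommRing A] {I : Ideal A} (S : ShortComplex (ModuleCat.{u} A))
    (h1 : ModDC I S.X₁) (h2 : ModDC I S.X₂) (h3 : ModDC I S.X₃) : ModDC I S.homology :=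
  (h1.coker (h2.ker h3 S.g.hom) S.moduleCatToCycles).of_equiv S.moduleCatHomologyIso.toLinearEquiv.symm

/-- For a commutative ring A and an ideal I such that A, placed in degree 0, is derived complete with
respect to I, every object of D(A) isomorphic to a bounded above complex of finite free A-modules is
derived complete with respect to I. -/
theorem result {A : Type u} [CommRing A] (I : Ideal A)
    (hA : DRing.IsDerivedComplete I (Dual.inD A A)) (K : Dual.D A) (hK : DRing.IsPseudoCoherent' A K) :
    DRing.IsDerivedComplete I K := by
  obtain ⟨E, b, -, hE, ⟨e⟩⟩ := hK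
  rw [DCat.DC.isDerivedComplete_iff]
  have hA' : DCat.DC.ModDC I A := (DCat.DC.isDerivedComplete_inD_iff A).1 hA
  have hX : ∀ i, DCat.DC.ModDC I (E.X i) := fun i => by
    obtain ⟨h1, h2⟩ := hE i
    let bas := Module.Free.chooseBasis A (E.X i)
    exact (hA'.pi (ι := Module.Free.ChooseBasisIndex A (E.X i))).of_equiv bas.equivFun.symm
  intro n
  have h := modDC_homology (E.sc n) (hX _) (hX _) (hX _)
  exact h.of_equiv ((DerivedCategory.homologyFunctorFactors _ n).app E).symm.toLinearEquiv
    |>.of_equiv ((DerivedCategory.homologyFunctor _ n).mapIso e).toLinearEquiv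


end Groth.Agent.S7054
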