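import Groth.Statements.S7056
import Groth.Agent.DCat.DCNakayama

set_option autoImplicit false
set_option backward.isDefEq.respectTransparency false
set_option backward.defeqAttrib.useBackward true
universe u
attribute [local instance] HasDerivedCategory.standard
open CategoryTheory
open DRing

namespace Groth.Agent.S7056

/-- (1)⇔(2): for a commutative ring A, a finitely generated ideal I and an object K of D(A) which is
derived complete with respect to I, the cohomology of K vanishes in all positive degrees if and only
if the cohomology of K ⊗^L_A A/I does. The derived tensor product with the module A/I is the total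
left derived functor, assumed to exist. -/
theorem result {A : Type u} [CommRing A]
    (I : Ideal A) (hI : I.FG) [DRing.HasLTensor A (ModuleCat.of A (A ⧸ I))]
    (K : Dual.D A) (hc : DRing.IsDerivedComplete I K) :
    (∀ i : ℤ, 0 < i → Subsingleton (Dual.HD A K i)) ↔
      ∀ i : ℤ, 0 < i → Subsingleton (Dual.HD A ((DRing.LTensor A (ModuleCat.of A (A ⧸ I))).obj K) i) := by
  constructor
  · intro h i hi
    obtain ⟨P, hP, -, hPb, ⟨e⟩⟩ := DCat.exists_flat_rep (b := 0) (K := K)
      (fun j hj => (DCat.subsingleton_HD_iff K j).1 (h j hj))
    rw [DCat.subsingleton_HD_iff, DCat.isZero_ltensor_iff _ hP e i, HomologicalComplex.exactAt_iff]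
    exact ShortComplex.exact_of_isZero_X₂ _ ((MonoidalCategory.tensorRight _).map_isZero (hPb i hi))
  · intro h
    obtain ⟨s, hs⟩ := hI
    refine DCat.DC.subsingleton_hd_of_noHom (I := I) 0 s.toList K
      (fun a ha => hs ▸ Ideal.subset_span (Finset.mem_toList.1 ha)) hc (fun N hN k hk φ => ?_)
    refine DCat.DC.noHom_of_ltensor I 0 K h N (fun a ha x => ?_) k hk φ
    rw [SetLike.mem_coe, ← hs] at ha
    induction ha using Submodule.span_induction with
    | mem a ha => exact hN a (Finset.mem_toList.2 ha) x
    | zero => exact zero_smul A x
    | add a b _ _ h1 h2 => rw [add_smul, h1, h2, add_zero]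
    | smul c a _ h1 => rw [smul_eq_mul, mul_smul, h1, smul_zero]


end Groth.Agent.S7056
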