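import Groth.Statements.S7057
import Groth.Agent.DCat.DComplete

set_option autoImplicit false
set_option backward.isDefEq.respectTransparency false
set_option backward.defeqAttrib.useBackward true
universe u
attribute [local instance] HasDerivedCategory.standard
open DRing

namespace Groth.Agent.S7057

open CategoryTheory DCat.DC

lemma comp_res_iff {A B : Type u} [CommRing A] [CommRing B] (φ : A →+* B) (N : ModuleCat.{u} B) (g : A) :
    Comp (sm ((ModuleCat.restrictScalars φ).obj N) g) ↔ Comp (sm N (φ g)) := Iff.rfl

lemma hd_restrict {A B : Type u} [CommRing A] [CommRing B] (φ : A →+* B) (L : Dual.D B) (n : ℤ) :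
    Nonempty ((DerivedCategory.homologyFunctor (ModuleCat.{u} A) n).obj ((DRing.restrictD φ).obj L) ≅
      (ModuleCat.restrictScalars φ).obj
        ((DerivedCategory.homologyFunctor (ModuleCat.{u} B) n).obj L)) := by
  let F := ModuleCat.restrictScalars.{u} φ
  let K := DerivedCategory.Q.objPreimage L
  let e := DerivedCategory.Q.objObjPreimageIso L
  let e2 : (DRing.restrictD φ).obj L ≅
      DerivedCategory.Q.obj ((F.mapHomologicalComplex (ComplexShape.up ℤ)).obj K) :=
    (DRing.restrictD φ).mapIso e.symm ≪≫ F.mapDerivedCategoryFactors.app K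
  exact ⟨(DerivedCategory.homologyFunctor _ n).mapIso e2 ≪≫
    (DerivedCategory.homologyFunctorFactors _ n).app _ ≪≫
    (K.sc n).mapHomologyIso F ≪≫
    F.mapIso ((DerivedCategory.homologyFunctorFactors _ n).symm.app K ≪≫
      (DerivedCategory.homologyFunctor _ n).mapIso e)⟩

/-- For a homomorphism of commutative rings A → B, an ideal I of A and an object L of D(B), L is derived
complete with respect to the extended ideal IB if and only if L viewed in D(A) by restriction of
scalars is derived complete with respect to I. -/
theorem result {A B : Type u} [CommRing A] [CommRing B] (φ : A →+* B)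
    (I : Ideal A) (L : Dual.D B) :
    DRing.IsDerivedComplete (I.map φ) L ↔ DRing.IsDerivedComplete I ((DRing.restrictD φ).obj L) := by
  rw [DCat.DC.isDerivedComplete_iff, DCat.DC.isDerivedComplete_iff]
  refine forall_congr' fun n => ?_
  obtain ⟨e⟩ := hd_restrict φ L n
  rw [modDC_congr e.toLinearEquiv]
  constructor
  · exact fun h g hg => (comp_res_iff φ _ g).2 (h _ (Ideal.mem_map_of_mem φ hg))
  · intro h
    show I.map φ ≤ dcIdeal (Dual.HD B L n)
    refine (Ideal.map_le_iff_le_comap (f := φ)).2 fun g hg => ?_
    exact (comp_res_iff φ _ g).1 (h g hg)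


end Groth.Agent.S7057
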