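import Groth.Statements.S7058
import Groth.Agent.DCat.DCompletion
import Mathlib.Algebra.Homology.DerivedCategory.Linear

set_option autoImplicit false
set_option backward.isDefEq.respectTransparency false
set_option backward.defeqAttrib.useBackward true
universe u
attribute [local instance] HasDerivedCategory.standard
open CategoryTheory
open DRing

namespace Groth.Agent.S7058

/-- Let A be a commutative ring, I a finitely generated ideal, and assume the derived completion functor
(left adjoint to the inclusion of derived complete objects of D(A)) exists. If K is a cochain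
complex of A-modules and some f in I acts bijectively on every term of K, then the derived
completion of K is zero. -/
theorem result {A : Type u} [CommRing A] (I : Ideal A) (hI : I.FG)
    [DRing.HasDerivedCompletion I] (K : DRing.Cx A) (f : A) (hf : f ∈ I)
    (hK : ∀ i : ℤ, Function.Bijective (fun x : K.X i => f • x)) :
    Limits.IsZero ((DRing.derivedCompletion I).obj (DRing.toD K)).obj := by
  have hinv : DCat.DC.FInv f (DRing.toD K) := by
    have : ∀ i, IsIso ((f • 𝟙 K : K ⟶ K).f i) := fun i => by
      rw [ConcreteCategory.isIso_iff_bijective]
      exact hK i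
    have : IsIso (f • 𝟙 K : K ⟶ K) := HomologicalComplex.Hom.isIso_of_components _
    show IsIso (f • 𝟙 (DRing.toD K))
    have e : f • 𝟙 (DRing.toD K) = DerivedCategory.Q.map (f • 𝟙 K) := by
      rw [Functor.map_smul, CategoryTheory.Functor.map_id]
    rw [e]
    infer_instance
  have hq := DCat.DC.isCompl_toDerivedCompletion I (DRing.toD K)
  set C := ((DRing.derivedCompletion I).obj (DRing.toD K))
  have hC : DRing.IsDerivedComplete I C.obj := C.property
  have hdc : DCat.DC.DCf f C.obj := DCat.DC.dcf_of_isDerivedComplete hC hf
  rw [Limits.IsZero.iff_id_eq_zero]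
  refine (hq.2 C.obj hC).1 ?_
  show DRing.toDerivedCompletion I _ ≫ 𝟙 _ = DRing.toDerivedCompletion I _ ≫ 0
  exact (DCat.DC.eq_zero_of_finv hinv hdc _).trans (DCat.DC.eq_zero_of_finv hinv hdc _).symm


end Groth.Agent.S7058
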