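import Groth.Statements.S7059
import Groth.Agent.DCat.DCFinite
import Groth.Agent.DCat.DComplete
import Groth.Agent.AdicRing.Basic
import Mathlib.RingTheory.AdicCompletion.AsTensorProduct
import Mathlib.RingTheory.AdicCompletion.Completeness

set_option autoImplicit false
set_option backward.isDefEq.respectTransparency false
set_option backward.defeqAttrib.useBackward true
universe u
attribute [local instance] HasDerivedCategory.standard
open DRing

namespace Groth.Agent.S7059

/-- Let A be a Noetherian commutative ring, I an ideal and M an A-module which, placed in degree 0 of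
D(A), is derived complete with respect to I. If M/IM is a finite module, then M is I-adically
complete, and M (identified with its I-adic completion) is a finite module over the I-adic
completion of A. -/
theorem result {A : Type u} [CommRing A]
    [IsNoetherianRing A] (I : Ideal A) (M : Type u) [AddCommGroup M] [Module A M]
    (hc : DRing.IsDerivedComplete I (Dual.inD A M))
    (hf : Module.Finite A (M ⧸ I • (⊤ : Submodule A M))) :
    IsAdicComplete I M ∧ Module.Finite (AdicCompletion I A) (AdicCompletion I M) := by
  have hI : I.FG := IsNoetherian.noetherian I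
  have hM : DCat.DC.ModDC I M := (DCat.DC.isDerivedComplete_inD_iff M).1 hc
  obtain ⟨s, hs⟩ := hI
  have hI : I.FG := ⟨s, hs⟩
  have hset : Ideal.span {f | f ∈ s.toList} = I := by
    rw [← hs]; congr 1; ext f; simp
  have hbot : DCat.DC.ModDC (⊥ : Ideal A) A ∧ DCat.DC.ModDC (⊥ : Ideal A) M :=
    ⟨DCat.DC.modDC_iff_le.2 bot_le, DCat.DC.modDC_iff_le.2 bot_le⟩
  haveI : IsHausdorff I M := ⟨fun z hz =>
    DCat.DC.haus_of_finite_quotient _ A M ⊥ s.toList rfl hbot.1 hbot.2
      (fun f hf' => hM f (hs ▸ Ideal.subset_span (Finset.mem_toList.1 hf')))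
      (by rw [hset, bot_sup_eq]; exact hf) z
      fun k => by rw [hset, bot_sup_eq]; exact SModEq.zero.1 (hz k)⟩
  have hbij : Function.Bijective (AdicCompletion.of I M) :=
    ⟨AdicCompletion.of_injective I M, DCat.DC.surjective_completion hI hM⟩
  haveI : IsAdicComplete I M := AdicCompletion.of_bijective_iff.1 hbij
  refine ⟨inferInstance, ?_⟩
  obtain ⟨r, p, hp⟩ := Module.Finite.exists_fin' A (M ⧸ I • (⊤ : Submodule A M))
  obtain ⟨g, hg⟩ := Module.projective_lifting_property (I • (⊤ : Submodule A M)).mkQ p
    (Submodule.mkQ_surjective _)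
  haveI := AdicCompletion.isAdicComplete (I := I) (M := Fin r → A) hI
  haveI := AdicCompletion.isAdicComplete (I := I) (M := M) hI
  haveI : Module.Finite (AdicCompletion I A) (AdicCompletion I (Fin r → A)) :=
    Module.Finite.of_surjective (AdicCompletion.ofTensorProduct I (Fin r → A))
      (AdicCompletion.ofTensorProduct_surjective_of_finite I (Fin r → A))
  refine Module.Finite.of_surjective (AdicCompletion.map I g) ?_
  show Function.Surjective ((AdicCompletion.map I g).restrictScalars A)
  refine AdicRing.surjective_of_sup_smul_top I _ (top_le_iff.1 fun y _ => ?_)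
  obtain ⟨x, rfl⟩ := hbij.2 y
  obtain ⟨c, hc⟩ := hp (Submodule.Quotient.mk x)
  have hd : x - g c ∈ I • (⊤ : Submodule A M) := by
    rw [← Submodule.Quotient.eq, ← hc, ← hg]
    rfl
  have e : AdicCompletion.of I M (g c) ∈ LinearMap.range ((AdicCompletion.map I g).restrictScalars A) :=
    ⟨AdicCompletion.of I (Fin r → A) c, by simp [AdicCompletion.map_of]⟩
  have h2 := Submodule.mem_map_of_mem (f := AdicCompletion.of I M) hd
  rw [Submodule.map_smul''] at h2
  have h3 : AdicCompletion.of I M (x - g c) ∈ I • (⊤ : Submodule A (AdicCompletion I M)) :=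
    Submodule.smul_mono le_rfl le_top h2
  have := Submodule.add_mem_sup e h3
  rwa [← map_add, add_sub_cancel] at this


end Groth.Agent.S7059
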