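import Groth.Statements.S7062
import Groth.Agent.Et18.GlueTor
-- import your own Groth.Agent.* helpers here

set_option autoImplicit false
universe u
open EtGlue

open scoped TensorProduct
namespace Groth.Agent.S7062

/-- For a glueing pair (R → R', f), i.e. R/f^nR → R'/f^nR' is bijective for all n > 0 and the sequence 0
→ R → R' ⊕ R_f → R'_f → 0 is exact, the group Tor_1^R(R', f^n R) vanishes for every n > 0 (Tor
computed by resolving the second argument, the ideal f^n R). -/
theorem result {R R' : Type u} [CommRing R] [CommRing R'] [Algebra R R']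
    (f : R) (h : EtGlue.IsGlueingPair R R' f) (n : ℕ) (hn : 0 < n) :
    Subsingleton (DRing.Tor R 1 R' ↥(Ideal.span ({f ^ n} : Set R))) := by
  let I : Ideal R := Ideal.span ({f ^ n} : Set R)
  haveI : Module.Flat (Localization.Away f) (Localization.Away f ⊗[R] ↥I) := by
    have hb : Function.Bijective (I.subtype.baseChange (Localization.Away f)) := by
      refine ⟨fun a b hab => Module.Flat.lTensor_preserves_injective_linearMap (M := Localization.Away f)
        I.subtype Subtype.val_injective hab, fun z => ?_⟩
      induction z with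
      | zero => exact ⟨0, map_zero _⟩
      | add a b ha hb =>
        obtain ⟨a', rfl⟩ := ha
        obtain ⟨b', rfl⟩ := hb
        exact ⟨a' + b', map_add _ _ _⟩
      | tmul a r =>
        obtain ⟨w, hw⟩ :=
          (IsLocalization.Away.algebraMap_isUnit (S := Localization.Away f) f).pow n |>.exists_left_inv
        refine ⟨(a * w) ⊗ₜ[R] (⟨r * f ^ n, Ideal.mul_mem_left _ _ (Ideal.mem_span_singleton_self _)⟩ : ↥I), ?_⟩
        rw [LinearMap.baseChange_tmul]
        change (a * w) ⊗ₜ[R] (r * f ^ n) = a ⊗ₜ[R] r
        rw [show r * f ^ n = f ^ n • r by rw [smul_eq_mul, mul_comm], ← TensorProduct.smul_tmul, Algebra.smul_def, map_pow,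
          mul_left_comm, mul_comm (algebraMap R _ f ^ n) w, hw, mul_one]
    exact Et18.GlueTor.flat_of_bijective _ hb
  exact Et18.GlueTor.subsingleton_tor h _

end Groth.Agent.S7062
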