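import Groth.Statements.S7063
import Groth.Agent.Et18.GlueTor
-- import your own Groth.Agent.* helpers here

set_option autoImplicit false
universe u
open EtGlue

open scoped TensorProduct
namespace Groth.Agent.S7063

/-- For a glueing pair (R → R', f), the group Tor_1^R(R', R/R[f^∞]) vanishes, where R[f^∞] is the
submodule of elements of R killed by a power of f (Tor computed by resolving the second argument). -/
theorem result {R R' : Type u} [CommRing R] [CommRing R']
    [Algebra R R'] (f : R) (h : EtGlue.IsGlueingPair R R' f) :
    Subsingleton (DRing.Tor R 1 R' (R ⧸ DRing.torsionSub (Ideal.span ({f} : Set R)) R)) := by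
  let T := DRing.torsionSub (Ideal.span ({f} : Set R)) R
  haveI : Subsingleton (Localization.Away f ⊗[R] ↥T) := by
    refine Et18.GlueTor.subsingleton_away_tensor _ fun t => ?_
    obtain ⟨n, hn⟩ := t.2
    exact ⟨n, Subtype.ext (hn _ (Ideal.pow_mem_pow (Ideal.mem_span_singleton_self f) n))⟩
  haveI : Module.Flat (Localization.Away f) (Localization.Away f ⊗[R] (R ⧸ T)) := by
    have hex := lTensor_exact (Localization.Away f) (LinearMap.exact_subtype_mkQ T) T.mkQ_surjective
    have hb : Function.Bijective (T.mkQ.baseChange (Localization.Away f)) := by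
      refine ⟨(injective_iff_map_eq_zero _).2 fun x hx => ?_,
        LinearMap.lTensor_surjective (Localization.Away f) T.mkQ_surjective⟩
      obtain ⟨y, rfl⟩ := (hex x).1 hx
      rw [Subsingleton.elim y 0, map_zero]
    let e := (LinearEquiv.ofBijective _ hb).symm
    exact Et18.GlueTor.flat_of_bijective e.toLinearMap e.bijective
  exact Et18.GlueTor.subsingleton_tor h _

end Groth.Agent.S7063
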