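import Groth.Statements.S7064
import Groth.Agent.Et18.GlueTor
-- import your own Groth.Agent.* helpers here

set_option autoImplicit false
universe u
open EtGlue

open scoped TensorProduct
namespace Groth.Agent.S7064

/-- For a glueing pair (R → R', f) and any R-module M, the group Tor_1^R(R', Coker(M → M_f)) vanishes,
where M_f is the localization of M at the powers of f (Tor computed by resolving the second
argument). -/
theorem result {R R' : Type u} [CommRing R] [CommRing R']
    [Algebra R R'] (f : R) (h : EtGlue.IsGlueingPair R R' f) (M : Type u) [AddCommGroup M] [Module R M] :
    Subsingleton (DRing.Tor R 1 R'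
      (LocalizedModule (Submonoid.powers f) M ⧸
        LinearMap.range (LocalizedModule.mkLinearMap (Submonoid.powers f) M))) := by
  haveI : Subsingleton (Localization.Away f ⊗[R] (LocalizedModule (Submonoid.powers f) M ⧸
      LinearMap.range (LocalizedModule.mkLinearMap (Submonoid.powers f) M))) := by
    refine Et18.GlueTor.subsingleton_away_tensor _ fun c => ?_
    induction c using Submodule.Quotient.induction_on with
    | H y =>
      induction y using LocalizedModule.induction_on with
      | h m s =>
        obtain ⟨n, hn⟩ := s.2
        refine ⟨n, ?_⟩
        rw [← Submodule.Quotient.mk_smul, Submodule.Quotient.mk_eq_zero]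
        refine ⟨m, ?_⟩
        rw [LocalizedModule.mkLinearMap_apply, show f ^ n = (s : R) from hn, LocalizedModule.smul'_mk]
        exact (LocalizedModule.mk_cancel s m).symm
  exact Et18.GlueTor.subsingleton_tor h _

end Groth.Agent.S7064
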