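import Groth.Statements.S7066
import Groth.Agent.FlatMorPerfect.Smooth
import Groth.Agent.FlatCx12.PerfectModule

set_option autoImplicit false
universe u
attribute [local instance] HasDerivedCategory.standard
open MoreMor

namespace Groth.Agent.S7066

/-- A homomorphism of commutative rings A → B is perfect, i.e. pseudo-coherent with B of finite tor
dimension as an A-module, if and only if B is a quotient of a polynomial ring A[x_1, …, x_n] over
which B is a perfect module, i.e. B placed in degree 0 is isomorphic in the derived category of the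
polynomial ring to a bounded complex of finite projective modules. -/
theorem result (A B : Type u) [CommRing A] [CommRing B] [Algebra A B] :
    MoreMor.IsPerfectHom A B ↔
      ∃ (n : ℕ) (φ : MvPolynomial (Fin n) A →ₐ[A] B), Function.Surjective φ ∧
        letI := φ.toRingHom.toAlgebra
        DRing.IsPerfectModule (MvPolynomial (Fin n) A) B := by
  constructor
  · rintro ⟨hpc, htd⟩
    obtain ⟨n, φ, hφ, h⟩ := id hpc
    refine ⟨n, φ, hφ, ?_⟩
    let := φ.toRingHom.toAlgebra
    rw [Groth.Agent.FlatCx12.PerfectModule.isPerfectModule_iff]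
    refine ⟨h, ?_⟩
    haveI : Algebra.Smooth A (MvPolynomial (Fin n) A) := ⟨inferInstance, inferInstance⟩
    have hAB : Groth.Agent.FlatMorPerfect.RingPerf (algebraMap A B) := by
      unfold Groth.Agent.FlatMorPerfect.RingPerf
      rw [toAlgebra_algebraMap]
      exact ⟨hpc, htd⟩
    exact (Groth.Agent.FlatMorPerfect.ringPerf_of_smooth φ hAB).2
  · rintro ⟨n, φ, hφ, h⟩
    have h2 : @DRing.HasFiniteTorDim (MvPolynomial (Fin n) A) _ B _ φ.toRingHom.toAlgebra.toModule ∧
        @DRing.IsPseudoCoherentModule' (MvPolynomial (Fin n) A) _ B _ φ.toRingHom.toAlgebra.toModule := by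
      letI := φ.toRingHom.toAlgebra
      exact ((Groth.Agent.FlatCx12.PerfectModule.isPerfectModule_iff B).1 h).symm
    refine ⟨⟨n, φ, hφ, h2.2⟩, ?_⟩
    have hP : Groth.Agent.FlatMorPerfect.RingTD (algebraMap A (MvPolynomial (Fin n) A)) :=
      Groth.Agent.FlatMorPerfect.ringTD_algebraMap.2 ⟨0, Groth.Agent.FlatMorPerfect.td_of_flat 0⟩
    have hB : Groth.Agent.FlatMorPerfect.RingTD φ.toRingHom := by
      letI := φ.toRingHom.toAlgebra
      exact Groth.Agent.FlatMorPerfect.hasFiniteTorDim_iff.1 h2.1
    have h3 := hP.comp hB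
    rw [AlgHom.toRingHom_eq_coe, φ.comp_algebraMap] at h3
    exact Groth.Agent.FlatMorPerfect.hasFiniteTorDim_iff.2 (Groth.Agent.FlatMorPerfect.ringTD_algebraMap.1 h3)

end Groth.Agent.S7066
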