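import Groth.Statements.S7074
import Groth.Agent.DRingLib.PCGen
import Groth.Agent.DRingLib.PCRes
import Groth.Agent.FlatCx12.RelPCFlatModuleRing
import Groth.Agent.DCat.LTensorModule

set_option autoImplicit false
universe u
attribute [local instance] HasDerivedCategory.standard
open CategoryTheory
open Dual2

namespace Groth.Agent.S7074

/-- For a flat homomorphism of finite presentation R → A of commutative rings and an object K of D(A), K
is R-perfect (pseudo-coherent over A and of finite tor dimension over R) if and only if K is
isomorphic in D(A) to a bounded complex whose terms are finitely presented A-modules that are flat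
as R-modules. -/
theorem result (R A : Type u) [CommRing R] [CommRing A] [Algebra R A]
    [Module.Flat R A] [Algebra.FinitePresentation R A] (K : Dual.D A) :
    Dual2.IsRelPerfect R A K ↔
      ∃ (E : DRing.Cx A) (a b : ℤ), DRing.VanishesOutside E a b ∧
        (∀ i : ℤ, Module.FinitePresentation A (E.X i) ∧
          Module.Flat R ((ModuleCat.restrictScalars (algebraMap R A)).obj (E.X i))) ∧
        Nonempty (DRing.toD E ≅ K) := by
  open Groth.Agent CategoryTheory.Limits in
  haveI : ∀ M : ModuleCat.{u} R, DRing.HasLTensor R M := fun M => DCat.hasLTensor M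
  let rA := ModuleCat.restrictScalars.{u} (algebraMap R A)
  constructor
  · rintro ⟨⟨P, b, hPb, hPf, ⟨e⟩⟩, a', b', hT⟩
    have hflat : ∀ i, Module.Flat R (rA.obj (P.X i)) := fun i => by
      haveI := (hPf i).2
      letI : Module R (P.X i) := Module.compHom _ (algebraMap R A)
      haveI : IsScalarTower R A (P.X i) := IsScalarTower.of_algebraMap_smul fun _ _ => rfl
      exact Module.Flat.trans R A (P.X i)
    let C := (DRing.restrictCx (algebraMap R A)).obj P
    have hkR : DCat.IsKFlatFor (DCat.modT R) C :=
      DCat.isKFlatFor_of_vanishesAbove _ b (fun i hi => rA.map_isZero (hPb i hi)) hflat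
    let eC : DRing.toD C ≅ (DRing.restrictD (algebraMap R A)).obj K :=
      (rA.mapDerivedCategoryFactors.app P).symm ≪≫ (DRing.restrictD (algebraMap R A)).mapIso e
    haveI : P.IsGE a' := by
      rw [CochainComplex.isGE_iff]
      intro i hi
      have h : C.ExactAt i := by
        rw [← DCat.isZero_homology_toD_iff]
        exact (DCat.exactAt_of_vanish (DCat.vanish_of_flatAmp hT _ (Or.inl hi))).of_iso
          ((DerivedCategory.homologyFunctor (ModuleCat.{u} R) i).mapIso eC)
      rw [HomologicalComplex.exactAt_iff] at h ⊢
      exact (ShortComplex.exact_map_iff_of_faithful (P.sc i) rA).1 h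
    haveI : P.IsStrictlyLE (max a' b) := (CochainComplex.isStrictlyLE_iff _ _).2
      fun i hi => hPb i (lt_of_le_of_lt (le_max_right _ _) hi)
    have hQ : Module.Flat R (cokernel (C.d (a' - 1) a') : ModuleCat.{u} R) :=
      DCat.flat_cokernel_cat C hkR hflat a' eC fun N => DCat.vanish_of_flatAmp hT N (Or.inl (by omega))
    refine ⟨P.truncGE a', a', max a' b, fun i hi => ?_, fun i => ?_,
      ⟨(asIso (DerivedCategory.Q.map (P.πTruncGE a'))).symm ≪≫ e⟩⟩
    · rcases hi with hi | hi
      · exact CochainComplex.isZero_of_isStrictlyGE _ a' i hi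
      · exact ((CochainComplex.isStrictlyLE_iff P _).1 inferInstance i hi).of_iso
          (P.truncGEXIso a' i (lt_of_le_of_lt (le_max_left _ _) hi))
    · rcases lt_trichotomy i a' with hi | rfl | hi
      · have hz := CochainComplex.isZero_of_isStrictlyGE (P.truncGE a') a' i hi
        haveI := ModuleCat.subsingleton_of_isZero hz
        haveI := ModuleCat.subsingleton_of_isZero (rA.map_isZero hz)
        exact ⟨Module.finitePresentation_of_projective _ _, inferInstance⟩
      · let c := IsColimit.coconePointUniqueUpToIso (colimit.isColimit _)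
          (P.opcyclesIsCokernel (i - 1) i (by simp)) ≪≫ (P.truncGEXIsoOpcycles i).symm
        refine ⟨?_, ?_⟩
        · haveI : ∀ j, Module.Finite A (P.X j) := fun j => (hPf j).1
          haveI : Module.Free A (P.X i) := (hPf i).2
          haveI : Module.FinitePresentation A (P.X i) := Module.finitePresentation_of_projective _ _
          haveI : Module.FinitePresentation A (P.X i ⧸ LinearMap.range (P.d (i - 1) i).hom) :=
            Module.finitePresentation_of_surjective _ (Submodule.mkQ_surjective _)
              (by rw [Submodule.ker_mkQ, LinearMap.range_eq_map]; exact (Module.Finite.fg_top).map _)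
          exact Module.FinitePresentation.of_equiv
            ((ModuleCat.cokernelIsoRangeQuotient (P.d (i - 1) i)).symm ≪≫ c).toLinearEquiv
        · exact @Module.Flat.of_linearEquiv _ _ _ _ _ _ _ _ hQ
            ((PreservesCokernel.iso rA _).symm ≪≫ rA.mapIso c).toLinearEquiv.symm
      · haveI := (hPf i).1
        haveI := (hPf i).2
        haveI := hflat i
        haveI : Module.FinitePresentation A (P.X i) := Module.finitePresentation_of_projective _ _
        exact ⟨Module.FinitePresentation.of_equiv (P.truncGEXIso a' i hi).toLinearEquiv.symm,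
          Module.Flat.of_linearEquiv (rA.mapIso (P.truncGEXIso a' i hi)).toLinearEquiv⟩
  · rintro ⟨E, a, b, hE, hEt, ⟨e⟩⟩
    refine ⟨DRingLib.pc'_of_forall fun m => DRingLib.pc_iso e
      (DRingLib.pc_of_terms E (b := b) (fun i hi => hE i (Or.inr hi)) fun i => ?_), a, b,
      (DRing.restrictCx (algebraMap R A)).obj E, fun i hi => rA.map_isZero (hE i hi), fun i => (hEt i).2,
      ⟨(rA.mapDerivedCategoryFactors.app E).symm ≪≫ (DRing.restrictD (algebraMap R A)).mapIso e⟩⟩
    haveI := (hEt i).1
    letI : Module R (E.X i) := Module.compHom _ (algebraMap R A)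
    haveI : IsScalarTower R A (E.X i) := IsScalarTower.of_algebraMap_smul fun _ _ => rfl
    haveI : Module.Flat R (E.X i) := (hEt i).2
    exact DRingLib.pc_mono (show -((i - m).toNat : ℤ) ≤ m - i by omega)
      (FlatCx12.RelPCFlatModuleRing.pc_of_flat_fp R A (E.X i) (i - m).toNat)

end Groth.Agent.S7074
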