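import Groth.Statements.S7075
import Groth.Agent.DualLib.TorAmpOps
import Groth.Agent.RelPC.BaseChange
import Groth.Agent.DCat.LTensorModule

set_option autoImplicit false
universe u
attribute [local instance] HasDerivedCategory.standard
open TensorProduct
open Dual2

namespace Groth.Agent.S7075

/-- Let R → A be a flat homomorphism of finite presentation of commutative rings, R → R' any ring map
and A' = R' ⊗_R A. If K in D(A) is R-perfect then its derived base change K ⊗^L_A A' (the total left
derived functor of extension of scalars, assumed to exist) is R'-perfect in D(A'). -/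
theorem result (R A R' : Type u) [CommRing R] [CommRing A] [Algebra R A] [CommRing R'] [Algebra R R']
    [Module.Flat R A] [Algebra.FinitePresentation R A]
    [DRing.HasLBaseChange (Algebra.TensorProduct.includeRight.toRingHom : A →+* R' ⊗[R] A)]
    (K : Dual.D A) (hK : Dual2.IsRelPerfect R A K) :
    Dual2.IsRelPerfect R' (R' ⊗[R] A)
      ((DRing.LBaseChange (Algebra.TensorProduct.includeRight.toRingHom : A →+* R' ⊗[R] A)).obj K) := by
  open Groth.Agent CategoryTheory CategoryTheory.Limits in
  obtain ⟨⟨P, b, hPb, hPf, ⟨e⟩⟩, a', b', hT⟩ := hK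
  let α : A →+* R' ⊗[R] A := (Algebra.TensorProduct.includeRight : A →ₐ[R] R' ⊗[R] A).toRingHom
  let rA := ModuleCat.restrictScalars.{u} (algebraMap R A)
  have hflat : ∀ i, Module.Flat R (rA.obj (P.X i)) := fun i => by
    haveI := (hPf i).2
    letI : Module R (P.X i) := Module.compHom _ (algebraMap R A)
    haveI : IsScalarTower R A (P.X i) := IsScalarTower.of_algebraMap_smul fun _ _ => rfl
    exact Module.Flat.trans R A (P.X i)
  have hkR : DCat.IsKFlatFor (DCat.modT R) ((DRing.restrictCx (algebraMap R A)).obj P) :=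
    DCat.isKFlatFor_of_vanishesAbove _ b (fun i hi => rA.map_isZero (hPb i hi)) hflat
  have hkA : DCat.IsKFlatFor (DCat.modT A) P :=
    DCat.isKFlatFor_of_vanishesAbove _ b hPb fun i => haveI := (hPf i).2; inferInstance
  let P' := ((ModuleCat.extendScalars.{u, u, u} α).mapHomologicalComplex (ComplexShape.up ℤ)).obj P
  let e' : DRing.toD P' ≅ (DRing.LBaseChange α).obj K :=
    (DCat.lbaseChangeIso α hkA).symm ≪≫ (DRing.LBaseChange α).mapIso e
  refine ⟨⟨P', b, fun i hi => (ModuleCat.extendScalars.{u, u, u} α).map_isZero (hPb i hi), fun i => ?_, ⟨e'⟩⟩, a', b', ?_⟩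
  · letI := α.toAlgebra
    haveI := (hPf i).1
    haveI := (hPf i).2
    exact ⟨Module.Finite.base_change (R := A) (A := R' ⊗[R] A) (M := P.X i),
      Module.Free.of_basis ((Module.Free.chooseBasis A (P.X i)).baseChange (R' ⊗[R] A))⟩
  · letI : Algebra A (R' ⊗[R] A) := Algebra.TensorProduct.rightAlgebra
    haveI : DRing.HasLBaseChange (algebraMap R R') := DCat.hasLBaseChange _
    let ι := RelPC.extRestrictIso R R' A (R' ⊗[R] A) _ _ _ _ _ (RelPC.isCocartesian R R' A (R' ⊗[R] A))
    refine DualLib.TorAmpOps.amp_of_iso ?_ (DCat.flatAmp_lbaseChange (algebraMap R R') hT)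
    exact (DRing.LBaseChange (algebraMap R R')).mapIso ((DRing.restrictD (algebraMap R A)).mapIso e.symm ≪≫
        (rA.mapDerivedCategoryFactors).app P) ≪≫
      DCat.lbaseChangeIso (algebraMap R R') hkR ≪≫
      DerivedCategory.Q.mapIso ((NatIso.mapHomologicalComplex ι (ComplexShape.up ℤ)).app P) ≪≫
      ((ModuleCat.restrictScalars.{u} (algebraMap R' (R' ⊗[R] A))).mapDerivedCategoryFactors.app P').symm ≪≫
      (DRing.restrictD (algebraMap R' (R' ⊗[R] A))).mapIso e'

end Groth.Agent.S7075
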