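import Groth.Statements.S7076
import Groth.Agent.FlatCx12.AmpThickRing
import Groth.Agent.DRingLib.PCDescent
import Groth.Agent.DualLib.TorAmpOps

set_option autoImplicit false
universe u
attribute [local instance] HasDerivedCategory.standard
open TensorProduct
open Dual2

namespace Groth.Agent.S7076

/-- Let R' → A' be a flat homomorphism of finite presentation of commutative rings, R' → R a surjective
homomorphism of rings with nilpotent kernel, A = R ⊗_{R'} A', and K' an object of D(A'). If the
derived base change K' ⊗^L_{A'} A (total left derived functor of extension of scalars, assumed to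
exist) is R-perfect in D(A), then K' is R'-perfect in D(A'). -/
theorem result (R' A' R : Type u) [CommRing R'] [CommRing A'] [Algebra R' A']
    [CommRing R] [Algebra R' R] [Module.Flat R' A'] [Algebra.FinitePresentation R' A']
    (hs : Function.Surjective (algebraMap R' R)) (hn : IsNilpotent (RingHom.ker (algebraMap R' R)))
    [DRing.HasLBaseChange (Algebra.TensorProduct.includeRight.toRingHom : A' →+* R ⊗[R'] A')]
    (K' : Dual.D A')
    (hK : Dual2.IsRelPerfect R (R ⊗[R'] A')
      ((DRing.LBaseChange (Algebra.TensorProduct.includeRight.toRingHom : A' →+* R ⊗[R'] A')).obj K')) :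
    Dual2.IsRelPerfect R' A' K' := by
  open Groth.Agent CategoryTheory CategoryTheory.Limits in
  obtain ⟨hpc, a, b, hT⟩ := hK
  let φ : A' →+* R ⊗[R'] A' := (Algebra.TensorProduct.includeRight : A' →ₐ[R'] R ⊗[R'] A').toRingHom
  have hfac : ∀ x, φ x = Algebra.TensorProduct.map (Algebra.ofId R' R) (AlgHom.id R' A')
      ((Algebra.TensorProduct.lid R' A').symm x) := fun x => by
    simp [φ, Algebra.TensorProduct.lid_symm_apply, Algebra.ofId_apply]
  have hφ : Function.Surjective φ := fun y => by
    obtain ⟨z, hz⟩ := LinearMap.rTensor_surjective A' (g := (Algebra.ofId R' R).toLinearMap) hs y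
    exact ⟨Algebra.TensorProduct.lid R' A' z, by rw [hfac, AlgEquiv.symm_apply_apply]; exact hz⟩
  have hker : RingHom.ker φ = (RingHom.ker (algebraMap R' R)).map (algebraMap R' A') := by
    have h1 : RingHom.ker φ = Ideal.comap (Algebra.TensorProduct.lid R' A').symm.toRingEquiv.toRingHom
        (RingHom.ker (Algebra.TensorProduct.map (Algebra.ofId R' R) (AlgHom.id R' A')).toRingHom) := by
      ext x
      simp only [RingHom.mem_ker, Ideal.mem_comap]
      rw [hfac]
      rfl
    rw [h1]
    show Ideal.comap _ (RingHom.ker (Algebra.TensorProduct.map (Algebra.ofId R' R) (AlgHom.id R' A'))) = _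
    rw [Algebra.TensorProduct.rTensor_ker _ hs]
    show Ideal.comap ((Algebra.TensorProduct.lid R' A').symm.toRingEquiv : A' →+* R' ⊗[R'] A')
      (Ideal.map _ (RingHom.ker (algebraMap R' R))) = _
    rw [Ideal.comap_coe, ← Ideal.map_symm]
    show Ideal.map ((Algebra.TensorProduct.lid R' A') : R' ⊗[R'] A' →+* A') (Ideal.map _ _) = _
    rw [← Ideal.map_coe (Algebra.TensorProduct.includeLeft : R' →ₐ[R'] R' ⊗[R'] A'), Ideal.map_map]
    congr 1
    ext r
    simp [Algebra.TensorProduct.lid_tmul, Algebra.smul_def]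
  have hnil : IsNilpotent (RingHom.ker φ) := by
    obtain ⟨n, hn⟩ := hn
    exact ⟨n, by rw [hker, ← Ideal.map_pow, hn]; exact Ideal.map_bot⟩
  have hpc' := DRingLib.pc'_descend φ hφ hnil K' hpc
  obtain ⟨P, c, hPc, hPf, ⟨e⟩⟩ := id hpc'
  have hkA : DCat.IsKFlatFor (DCat.modT A') P :=
    DCat.isKFlatFor_of_vanishesAbove _ c hPc fun i => haveI := (hPf i).2; inferInstance
  let rA := ModuleCat.restrictScalars.{u} (algebraMap R' A')
  refine ⟨hpc', a, b, DualLib.TorAmpOps.amp_of_iso
    ((rA.mapDerivedCategoryFactors.app P).symm ≪≫ (DRing.restrictD (algebraMap R' A')).mapIso e) ?_⟩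
  exact FlatCx12.AmpThickRing.amp_descend (algebraMap R' A') (algebraMap R' R) φ (algebraMap R (R ⊗[R'] A'))
    (RingHom.ext fun r => by simp [φ, Algebra.TensorProduct.algebraMap_apply, TensorProduct.smul_tmul',
      Algebra.algebraMap_eq_smul_one, TensorProduct.tmul_smul])
    (RingHom.flat_algebraMap_iff.2 ‹_›) hs hφ hker hn P hkA
    (fun i => haveI := (hPf i).2; inferInstance) a b
    (DualLib.TorAmpOps.amp_of_iso ((DRing.restrictD (algebraMap R (R ⊗[R'] A'))).mapIso
      ((DRing.LBaseChange φ).mapIso e.symm ≪≫ DCat.lbaseChangeIso φ hkA) ≪≫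
      (ModuleCat.restrictScalars.{u} (algebraMap R (R ⊗[R'] A'))).mapDerivedCategoryFactors.app _) hT)

end Groth.Agent.S7076
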