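import Groth.Statements.S7077
import Groth.Agent.DCat.TwoTermRep
import Groth.Agent.DCat.ProjHomology

set_option autoImplicit false
set_option backward.isDefEq.respectTransparency false
set_option backward.defeqAttrib.useBackward true
universe u
attribute [local instance] HasDerivedCategory.standard
open CategoryTheory
open DRing

namespace Groth.Agent.S7077

open CategoryTheory

lemma hd_minus_one {R : Type u} [CommRing R] (E : DRing.Cx R) (hE : DRing.VanishesOutside E (-1) 0)
    (hm : Function.Injective (E.d (-1) 0)) : Limits.IsZero (E.homology (-1)) := by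
  rw [← HomologicalComplex.exactAt_iff_isZero_homology,
    E.exactAt_iff' (i := -2) (j := -1) (k := 0) (by simp) (by simp), ShortComplex.moduleCat_exact_iff]
  intro x hx
  exact ⟨0, by rw [map_zero]; exact (hm (hx.trans (map_zero _).symm)).symm⟩

/-- (1)⇔(2): let R be a commutative ring and K an object of D(R) whose cohomology modules vanish outside
degrees -1 and 0. Then H^{-1}(K) vanishes and H^0(K) is a projective R-module if and only if
Ext^1_R(K, M) = Hom_{D(R)}(K, M[1]) vanishes for every R-module M. -/
theorem result {R : Type u} [CommRing R] (K : Dual.D R)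
    (hK : ∀ i : ℤ, i ≠ -1 → i ≠ 0 → Subsingleton (Dual.HD R K i)) :
    (Subsingleton (Dual.HD R K (-1)) ∧ Module.Projective R (Dual.HD R K 0)) ↔
      ∀ (M : Type u) [AddCommGroup M] [Module R M], Subsingleton (K ⟶ (Dual.inD R M)⟦(1 : ℤ)⟧) := by
  constructor
  · rintro ⟨h1, h0⟩ M _ _
    have : K.IsGE 0 := (DerivedCategory.isGE_iff K 0).2 fun i hi => by
      by_cases h : i = -1
      · subst h; exact @ModuleCat.isZero_of_subsingleton R _ _ h1
      · exact @ModuleCat.isZero_of_subsingleton R _ _ (hK i h (by omega))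
    have : K.IsLE 0 := (DerivedCategory.isLE_iff K 0).2 fun i hi =>
      @ModuleCat.isZero_of_subsingleton R _ _ (hK i (by omega) (by omega))
    obtain ⟨P, ⟨e⟩⟩ := DerivedCategory.exists_iso_singleFunctor_obj_of_isGE_of_isLE K 0
    let eP : Dual.HD R K 0 ≃ₗ[R] P := ((DerivedCategory.homologyFunctor (ModuleCat.{u} R) 0).mapIso e ≪≫
      (DerivedCategory.singleFunctorCompHomologyFunctorIso (ModuleCat.{u} R) 0).app P).toLinearEquiv
    have : Module.Projective R P := Module.Projective.of_equiv eP
    have : CategoryTheory.Projective (ModuleCat.of R P) := inferInstance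
    have : CategoryTheory.Projective P := this
    let S0 := (DerivedCategory.singleFunctor (ModuleCat.{u} R) 0).obj (ModuleCat.of R M)
    have hz : Limits.IsZero ((DerivedCategory.homologyFunctor (ModuleCat.{u} R) 0).obj (S0⟦(1 : ℤ)⟧)) :=
      (DerivedCategory.isZero_of_isLE S0 0 1 (by omega)).of_iso
        (((DerivedCategory.homologyFunctor (ModuleCat.{u} R) 0).shiftIso (1 : ℤ) 0 1 (by omega)).app S0)
    refine subsingleton_of_forall_eq 0 fun φ => ?_
    exact (cancel_epi e.inv).1 ((DCat.ProjHomology.bijective_toH P _).1 (hz.eq_of_tgt _ _))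
  · intro H
    obtain ⟨E, hE, hP, ⟨e⟩⟩ := DCat.TwoTerm.exists_projective_rep K hK
    obtain ⟨ξ, hξ⟩ := DCat.TwoTerm.exists_ext_of E hE (𝟙 (E.X (-1)))
    obtain ⟨h, hh⟩ := (hξ 1).1 (by
      rw [one_smul, ← cancel_epi e.inv, Limits.comp_zero]
      exact @Subsingleton.elim _ (H (E.X (-1))) _ _)
    rw [one_smul] at hh
    have hid : ∀ z : E.X (-1), h ((E.d (-1) 0) z) = z := fun z => (ConcreteCategory.congr_hom hh z).symm
    have hinj : Function.Injective (E.d (-1) 0) := fun x y hxy => by rw [← hid x, hxy, hid]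
    constructor
    · exact ModuleCat.subsingleton_of_isZero ((hd_minus_one E hE hinj).of_iso
        ((DerivedCategory.homologyFunctor (ModuleCat.{u} R) (-1)).mapIso e.symm ≪≫
          (DerivedCategory.homologyFunctorFactors _ (-1)).app E))
    · let S := E.sc' (-1) 0 1
      let eH : Dual.HD R K 0 ≃ₗ[R] LinearMap.ker S.g.hom ⧸ LinearMap.range S.moduleCatToCycles :=
        ((DerivedCategory.homologyFunctor (ModuleCat.{u} R) 0).mapIso e.symm ≪≫
          (DerivedCategory.homologyFunctorFactors _ 0).app E ≪≫
          E.homologyIsoSc' (-1) 0 1 (by simp) (by simp) ≪≫ S.moduleCatHomologyIso).toLinearEquiv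
      let p : E.X 0 →ₗ[R] LinearMap.ker S.g.hom :=
        (LinearMap.id - (E.d (-1) 0).hom ∘ₗ h.hom).codRestrict _ fun x =>
          @Subsingleton.elim _ (ModuleCat.subsingleton_of_isZero (hE 1 (Or.inr one_pos))) _ _
      let s : (LinearMap.ker S.g.hom ⧸ LinearMap.range S.moduleCatToCycles) →ₗ[R] E.X 0 :=
        Submodule.liftQ _ ((LinearMap.id - (E.d (-1) 0).hom ∘ₗ h.hom) ∘ₗ (LinearMap.ker S.g.hom).subtype) (by
          rintro _ ⟨z, rfl⟩
          have e1 : ∀ w : E.X (-1), (E.d (-1) 0) w - (E.d (-1) 0) (h ((E.d (-1) 0) w)) = 0 := fun w => by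
            rw [hid, sub_self]
          exact e1 z)
      have : Module.Projective R (LinearMap.ker S.g.hom ⧸ LinearMap.range S.moduleCatToCycles) :=
        Module.Projective.of_split s ((LinearMap.range S.moduleCatToCycles).mkQ ∘ₗ p) (by
          refine Submodule.linearMap_qext _ (LinearMap.ext fun z => ?_)
          have e1 : ∀ w : E.X 0, (E.d (-1) 0) (-(h w)) =
              ((w - (E.d (-1) 0) (h w)) - (E.d (-1) 0) (h (w - (E.d (-1) 0) (h w)))) - w := fun w => by
            simp only [map_neg, map_sub, hid]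
            abel
          exact (Submodule.Quotient.eq _).2 ⟨-(h (show E.X 0 from z.1)), Subtype.ext (e1 z.1)⟩)
      exact Module.Projective.of_equiv eH.symm


end Groth.Agent.S7077
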