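import Groth.Statements.S7079
import Groth.Agent.DCat.TwoTermRep

set_option autoImplicit false
set_option backward.isDefEq.respectTransparency false
set_option backward.defeqAttrib.useBackward true
universe u
attribute [local instance] HasDerivedCategory.standard
open CategoryTheory
open DRing

namespace Groth.Agent.S7079

/-- For a Noetherian commutative ring R and an object K of D(R) whose cohomology modules vanish outside
degrees -1 and 0 and are finite modules in those two degrees, K is represented by a two-term complex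
K^{-1} → K^0 with K^0 finite free and K^{-1} finite. -/
theorem result {R : Type u} [CommRing R] [IsNoetherianRing R] (K : Dual.D R)
    (hK : ∀ i : ℤ, i ≠ -1 → i ≠ 0 → Subsingleton (Dual.HD R K i))
    (h1 : Module.Finite R (Dual.HD R K (-1))) (h0 : Module.Finite R (Dual.HD R K 0)) :
    ∃ E : DRing.Cx R, DRing.VanishesOutside E (-1) 0 ∧ Module.Free R (E.X 0) ∧ Module.Finite R (E.X 0) ∧
      Module.Finite R (E.X (-1)) ∧ Nonempty (DRing.toD E ≅ K) := by
  obtain ⟨E, hE, ⟨e⟩⟩ := DCat.TwoTerm.exists_strict K hK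
  let S := E.sc' (-1) 0 1
  let S' := E.sc' (-2) (-1) 0
  let e0 : Dual.HD R K 0 ≃ₗ[R] LinearMap.ker S.g.hom ⧸ LinearMap.range S.moduleCatToCycles :=
    ((DerivedCategory.homologyFunctor (ModuleCat.{u} R) 0).mapIso e.symm ≪≫
      (DerivedCategory.homologyFunctorFactors _ 0).app E ≪≫
      E.homologyIsoSc' (-1) 0 1 (by simp) (by simp) ≪≫ S.moduleCatHomologyIso).toLinearEquiv
  let e1 : Dual.HD R K (-1) ≃ₗ[R] LinearMap.ker S'.g.hom ⧸ LinearMap.range S'.moduleCatToCycles :=
    ((DerivedCategory.homologyFunctor (ModuleCat.{u} R) (-1)).mapIso e.symm ≪≫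
      (DerivedCategory.homologyFunctorFactors _ (-1)).app E ≪≫
      E.homologyIsoSc' (-2) (-1) 0 (by simp) (by simp) ≪≫ S'.moduleCatHomologyIso).toLinearEquiv
  have : Subsingleton (E.X 1) := ModuleCat.subsingleton_of_isZero (hE 1 (Or.inr one_pos))
  have : Subsingleton (E.X (-2)) := ModuleCat.subsingleton_of_isZero (hE (-2) (Or.inl (by omega)))
  obtain ⟨n, s, hs⟩ := Module.Finite.exists_fin' R (Dual.HD R K 0)
  obtain ⟨p, hp⟩ := Module.projective_lifting_property
    (LinearMap.range S.moduleCatToCycles).mkQ (e0.toLinearMap ∘ₗ s) (Submodule.mkQ_surjective _)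
  let π : (Fin n → R) →ₗ[R] E.X 0 := (LinearMap.ker S.g.hom).subtype ∘ₗ p
  have hπ : LinearMap.range π ⊔ LinearMap.range (E.d (-1) 0).hom = ⊤ := by
    refine eq_top_iff.2 fun y _ => ?_
    have hy : (show S.X₂ from y) ∈ LinearMap.ker S.g.hom := @Subsingleton.elim (E.X 1) _ _ _
    obtain ⟨w, hw⟩ := (LinearEquiv.surjective e0) (Submodule.Quotient.mk ⟨y, hy⟩)
    obtain ⟨c, rfl⟩ := hs w
    obtain ⟨k, hk⟩ := (Submodule.Quotient.eq _).1 (((LinearMap.congr_fun hp c).trans hw).symm)
    refine Submodule.mem_sup.2 ⟨π c, ⟨c, rfl⟩, (E.d (-1) 0) k, ⟨k, rfl⟩, ?_⟩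
    have hk' : (E.d (-1) 0) k = y - π c := congrArg Subtype.val hk
    rw [hk']; abel
  obtain ⟨F, hF, ⟨f0⟩, ⟨f1⟩, ⟨f⟩⟩ := DCat.TwoTerm.exists_cover E hE (Fin n → R) π hπ
  refine ⟨F, hF, Module.Free.of_equiv f0.symm.toLinearEquiv, Module.Finite.equiv f0.symm.toLinearEquiv, ?_,
    ⟨f ≪≫ e⟩⟩
  have hker : Module.Finite R (LinearMap.ker S'.g.hom) :=
    Module.Finite.equiv (e1.trans (Submodule.quotEquivOfEqBot _ (LinearMap.range_eq_bot.2
      (LinearMap.ext fun z => by rw [@Subsingleton.elim (E.X (-2)) _ z 0, map_zero, map_zero]))))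
  let Q := LinearMap.ker (π ∘ₗ LinearMap.fst R (Fin n → R) (E.X (-1)) -
    (E.d (-1) 0).hom ∘ₗ LinearMap.snd R (Fin n → R) (E.X (-1)))
  let q : Q →ₗ[R] (Fin n → R) := LinearMap.fst R (Fin n → R) (E.X (-1)) ∘ₗ Q.subtype
  let j : LinearMap.ker q →ₗ[R] LinearMap.ker S'.g.hom :=
    (LinearMap.snd R (Fin n → R) (E.X (-1)) ∘ₗ Q.subtype ∘ₗ (LinearMap.ker q).subtype).codRestrict _ fun x => by
      have h2 : π x.1.1.1 = (E.d (-1) 0) x.1.1.2 := sub_eq_zero.1 x.1.2
      rw [show x.1.1.1 = 0 from x.2, map_zero] at h2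
      exact h2.symm
  have hj : Function.Injective j := fun a b hab =>
    Subtype.ext (Subtype.ext (Prod.ext (a.2.trans b.2.symm) (congrArg Subtype.val hab)))
  have : IsNoetherian R (LinearMap.ker S'.g.hom) := isNoetherian_of_isNoetherianRing_of_finite _ _
  have hq1 : Module.Finite R (LinearMap.ker q) := Module.Finite.of_injective j hj
  have hq2 : (Submodule.map q ⊤).FG := IsNoetherian.noetherian _
  have : Module.Finite R Q := ⟨Submodule.fg_of_fg_map_of_fg_inf_ker q hq2
    (by rw [top_inf_eq]; exact Module.Finite.iff_fg.1 hq1)⟩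
  exact Module.Finite.equiv f1.symm.toLinearEquiv


end Groth.Agent.S7079
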