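import Groth.Statements.S7080
import Groth.Agent.DCat.TwoTermRep

set_option autoImplicit false
set_option backward.isDefEq.respectTransparency false
set_option backward.defeqAttrib.useBackward true
universe u
attribute [local instance] HasDerivedCategory.standard
open CategoryTheory
open DRing

namespace Groth.Agent.S7080

open CategoryTheory

/-- Let R be a commutative ring and α : K → K' a morphism in D(R) between objects whose cohomology
vanishes outside degrees -1 and 0, such that H^0(α) is an isomorphism and H^{-1}(α) is surjective.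
If multiplication by an element f of R is the zero endomorphism of K in D(R), then it is also the
zero endomorphism of K'. -/
theorem result {R : Type u} [CommRing R] {K K' : Dual.D R} (α : K ⟶ K')
    (hK : ∀ i : ℤ, i ≠ -1 → i ≠ 0 → Subsingleton (Dual.HD R K i))
    (hK' : ∀ i : ℤ, i ≠ -1 → i ≠ 0 → Subsingleton (Dual.HD R K' i))
    (h0 : IsIso ((DerivedCategory.homologyFunctor (ModuleCat.{u} R) 0).map α))
    (h1 : Epi ((DerivedCategory.homologyFunctor (ModuleCat.{u} R) (-1)).map α))
    (f : R) (hf : f • (𝟙 K) = 0) : f • (𝟙 K') = 0 := by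
  obtain ⟨C, v, w, hT⟩ := Pretriangulated.distinguished_cocone_triangle α
  have hz : ∀ i : ℤ, -2 < i → Limits.IsZero ((DerivedCategory.homologyFunctor (ModuleCat.{u} R) i).obj C) := by
    intro i hi
    by_cases h : i ≤ 0
    · have he : Epi ((DerivedCategory.homologyFunctor (ModuleCat.{u} R) i).map α) := by
        obtain rfl | rfl : i = -1 ∨ i = 0 := by omega
        · exact h1
        · infer_instance
      have hm : Mono ((DerivedCategory.homologyFunctor (ModuleCat.{u} R) (i + 1)).map α) := by
        obtain rfl | rfl : i = -1 ∨ i = 0 := by omega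
        · show Mono ((DerivedCategory.homologyFunctor (ModuleCat.{u} R) 0).map α)
          infer_instance
        · exact ⟨fun g k _ => (@ModuleCat.isZero_of_subsingleton R _ _ (hK 1 (by omega) (by omega))).eq_of_tgt g k⟩
      exact (DerivedCategory.HomologySequence.exact₃ _ hT i (i + 1)).isZero_of_both_zeros
        ((DerivedCategory.HomologySequence.epi_homologyMap_mor₁_iff _ hT i).1 he)
        ((DerivedCategory.HomologySequence.mono_homologyMap_mor₁_iff _ hT i (i + 1)).1 hm)
    · exact (DerivedCategory.HomologySequence.exact₃ _ hT i (i + 1)).isZero_of_both_zeros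
        ((@ModuleCat.isZero_of_subsingleton R _ _ (hK' i (by omega) (by omega))).eq_of_src _ _)
        ((@ModuleCat.isZero_of_subsingleton R _ _ (hK (i + 1) (by omega) (by omega))).eq_of_tgt _ _)
  have : C.IsLE (-2) := (DerivedCategory.isLE_iff C (-2)).2 hz
  have : K'.IsGE (-1) := (DerivedCategory.isGE_iff K' (-1)).2 fun i hi =>
    @ModuleCat.isZero_of_subsingleton R _ _ (hK' i (by omega) (by omega))
  obtain ⟨θ, hθ⟩ := Pretriangulated.Triangle.yoneda_exact₂ _ hT (f • 𝟙 K') (by
    show α ≫ (f • 𝟙 K') = 0
    rw [Linear.comp_smul, Category.comp_id, ← Category.id_comp α, ← Linear.smul_comp, hf, Limits.zero_comp])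
  have hθ0 : θ = 0 := DerivedCategory.TStructure.t.zero (show C ⟶ K' from θ) (-2) (-1) (by omega)
  rw [hθ, hθ0, Limits.comp_zero]


end Groth.Agent.S7080
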