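import Groth.Statements.S7081
import Groth.Agent.DCat.Trunc

set_option autoImplicit false
set_option backward.isDefEq.respectTransparency false
set_option backward.defeqAttrib.useBackward true
universe u
attribute [local instance] HasDerivedCategory.standard
open CategoryTheory
open DRing

namespace Groth.Agent.S7081

open CategoryTheory.Pretriangulated in

/-- Let R be a commutative ring and φ : K₁ → K₂, ψ : K₂ → K₃ morphisms in D(R) between objects whose
cohomology vanishes outside degrees -1 and 0. If φ induces the zero map on H^0 and ψ induces the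
zero map on H^{-1}, then the composite K₁ → K₃ is zero. -/
theorem result {R : Type u} [CommRing R] {K₁ K₂ K₃ : Dual.D R}
    (φ : K₁ ⟶ K₂) (ψ : K₂ ⟶ K₃)
    (h₁ : ∀ i : ℤ, i ≠ -1 → i ≠ 0 → Subsingleton (Dual.HD R K₁ i))
    (h₂ : ∀ i : ℤ, i ≠ -1 → i ≠ 0 → Subsingleton (Dual.HD R K₂ i))
    (h₃ : ∀ i : ℤ, i ≠ -1 → i ≠ 0 → Subsingleton (Dual.HD R K₃ i))
    (hφ : (DerivedCategory.homologyFunctor (ModuleCat.{u} R) 0).map φ = 0)
    (hψ : (DerivedCategory.homologyFunctor (ModuleCat.{u} R) (-1)).map ψ = 0) :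
    φ ≫ ψ = 0 := by
  have hle : ∀ (K : Dual.D R), (∀ i : ℤ, i ≠ -1 → i ≠ 0 → Subsingleton (Dual.HD R K i)) →
      K.IsGE (-1) ∧ K.IsLE 0 := fun K hK =>
    ⟨(DerivedCategory.isGE_iff K (-1)).2 fun i hi =>
      @ModuleCat.isZero_of_subsingleton R _ _ (hK i (by omega) (by omega)),
    (DerivedCategory.isLE_iff K 0).2 fun i hi =>
      @ModuleCat.isZero_of_subsingleton R _ _ (hK i (by omega) (by omega))⟩
  obtain ⟨_, _⟩ := hle K₁ h₁
  obtain ⟨_, _⟩ := hle K₂ h₂
  obtain ⟨_, _⟩ := hle K₃ h₃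
  obtain ⟨g, rfl⟩ := DCat.exists_lift_truncLT φ 0 hφ
  let t := DerivedCategory.TStructure.t (C := ModuleCat.{u} R)
  have : ((t.truncLT 0).obj K₂).IsLE (-1) := t.isLE_truncLT_obj _ _ _ (by omega)
  have : ((t.truncLT 0).obj K₃).IsLE (-1) := t.isLE_truncLT_obj _ _ _ (by omega)
  obtain ⟨v, hv⟩ := Triangle.coyoneda_exact₂ _ (t.triangleLTGE_distinguished 0 K₃)
    ((t.truncLTι 0).app K₂ ≫ ψ) (t.zero_of_isLE_of_isGE _ (-1) 0 (by omega) inferInstance inferInstance)
  have : v = 0 := by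
    have : ((t.truncLT 0).obj K₃).IsGE (-1) := inferInstance
    have : ((t.triangleLTGE 0).obj K₃).obj₁.IsGE (-1) := this
    have : ((t.triangleLTGE 0).obj K₃).obj₁.IsLE (-1) := t.isLE_truncLT_obj _ _ _ (by omega)
    refine DCat.eq_zero_of_homology_map_eq_zero v (-1) ?_
    have := DCat.mono_homology_truncLTι K₃ 0 (-1)
    rw [← cancel_mono ((DerivedCategory.homologyFunctor (ModuleCat.{u} R) (-1)).map ((t.truncLTι 0).app K₃)),
      Limits.zero_comp, ← Functor.map_comp]
    refine (congrArg _ hv.symm).trans ?_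
    rw [Functor.map_comp, hψ, Limits.comp_zero]
  rw [Category.assoc, hv, this, Limits.zero_comp, Limits.comp_zero]


end Groth.Agent.S7081
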