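import Groth.Statements.S7082
import Groth.Agent.DCat.TwoTermRep

set_option autoImplicit false
set_option backward.isDefEq.respectTransparency false
set_option backward.defeqAttrib.useBackward true
universe u
attribute [local instance] HasDerivedCategory.standard
open CategoryTheory
open DRing

namespace Groth.Agent.S7082

open CategoryTheory

lemma smul_iso_left {R : Type u} [CommRing R] {X Y Z : Dual.D R} (e : X ≅ Y) (a : R) (ξ : Y ⟶ Z) :
    a • (e.hom ≫ ξ) = 0 ↔ a • ξ = 0 := by
  rw [← Linear.comp_smul]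
  exact ⟨fun h => (cancel_epi e.hom).1 (h.trans Limits.comp_zero.symm), fun h => by rw [h, Limits.comp_zero]⟩

/-- (1)⇔(3): let R be a commutative ring, I an ideal and K an object of D(R) whose cohomology vanishes
outside degrees -1 and 0. Then I annihilates Ext^1_R(K, N) = Hom_{D(R)}(K, N[1]) for every R-module
N if and only if, for every two-term complex E in degrees -1 and 0 with E^0 projective that
represents K, and every a in I, multiplication by a on E^{-1} factors through the differential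
E^{-1} → E^0. -/
theorem result {R : Type u} [CommRing R] (I : Ideal R) (K : Dual.D R)
    (hK : ∀ i : ℤ, i ≠ -1 → i ≠ 0 → Subsingleton (Dual.HD R K i)) :
    (∀ (N : Type u) [AddCommGroup N] [Module R N] (a : R), a ∈ I →
        ∀ ξ : K ⟶ (Dual.inD R N)⟦(1 : ℤ)⟧, a • ξ = 0) ↔
      ∀ (E : DRing.Cx R), DRing.VanishesOutside E (-1) 0 → Module.Projective R (E.X 0) →
        Nonempty (DRing.toD E ≅ K) → ∀ a : R, a ∈ I →
          ∃ h : E.X 0 ⟶ E.X (-1), E.d (-1) 0 ≫ h = a • 𝟙 (E.X (-1)) := by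
  constructor
  · intro H E hE hP ⟨e⟩ a ha
    obtain ⟨ξ, hξ⟩ := DCat.TwoTerm.exists_ext_of E hE (𝟙 (E.X (-1)))
    obtain ⟨h, hh⟩ := (hξ a).1 (by
      have := (smul_iso_left e a (e.inv ≫ ξ)).2 (H (E.X (-1)) a ha (e.inv ≫ ξ))
      rwa [Iso.hom_inv_id_assoc] at this)
    exact ⟨h, hh.symm⟩
  · intro H N _ _ a ha ξ
    obtain ⟨E, hE, hP, ⟨e⟩⟩ := DCat.TwoTerm.exists_projective_rep K hK
    obtain ⟨h, hh⟩ := H E hE hP ⟨e⟩ a ha
    exact (smul_iso_left e a ξ).1 (DCat.TwoTerm.smul_ext_eq_zero E hE _ a h hh)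


end Groth.Agent.S7082
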