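import Groth.Statements.S7083
import Groth.Agent.DCat.Trunc
import Mathlib.Algebra.Homology.DerivedCategory.Linear

set_option autoImplicit false
set_option backward.isDefEq.respectTransparency false
set_option backward.defeqAttrib.useBackward true
universe u
attribute [local instance] HasDerivedCategory.standard
open CategoryTheory
open DRing

namespace Groth.Agent.S7083

open CategoryTheory.Pretriangulated in

/-- Let R be a commutative ring, I an ideal, and α : K → K' a morphism in D(R) between objects whose
cohomology vanishes outside degrees -1 and 0, such that H^0(α) is an isomorphism and H^{-1}(α) is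
surjective. If I annihilates Ext^1_R(K, N) = Hom_{D(R)}(K, N[1]) for every R-module N, then I
annihilates Ext^1_R(K', N) for every R-module N. -/
theorem result {R : Type u} [CommRing R] (I : Ideal R) {K K' : Dual.D R}
    (α : K ⟶ K')
    (hK : ∀ i : ℤ, i ≠ -1 → i ≠ 0 → Subsingleton (Dual.HD R K i))
    (hK' : ∀ i : ℤ, i ≠ -1 → i ≠ 0 → Subsingleton (Dual.HD R K' i))
    (h0 : IsIso ((DerivedCategory.homologyFunctor (ModuleCat.{u} R) 0).map α))
    (h1 : Epi ((DerivedCategory.homologyFunctor (ModuleCat.{u} R) (-1)).map α))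
    (hI : ∀ (N : Type u) [AddCommGroup N] [Module R N] (a : R), a ∈ I →
        ∀ ξ : K ⟶ (Dual.inD R N)⟦(1 : ℤ)⟧, a • ξ = 0)
    (N : Type u) [AddCommGroup N] [Module R N] (a : R) (ha : a ∈ I) (ξ : K' ⟶ (Dual.inD R N)⟦(1 : ℤ)⟧) :
    a • ξ = 0 := by
  obtain ⟨C, v, w, hT⟩ := distinguished_cocone_triangle α
  have hC : C.IsLE (-2) := (DerivedCategory.isLE_iff C (-2)).2 fun i hi => by
    refine (DerivedCategory.HomologySequence.exact₃ _ hT i (i + 1)).isZero_of_both_zeros ?_ ?_
    · refine (DerivedCategory.HomologySequence.epi_homologyMap_mor₁_iff _ hT i).1 ?_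
      show Epi ((DerivedCategory.homologyFunctor (ModuleCat.{u} R) i).map α)
      by_cases h : i = -1
      · subst h; exact h1
      · by_cases h' : i = 0
        · subst h'; infer_instance
        · exact ⟨fun a b _ => (@ModuleCat.isZero_of_subsingleton R _ _ (hK' i h h')).eq_of_src a b⟩
    · refine (DerivedCategory.HomologySequence.mono_homologyMap_mor₁_iff _ hT i (i + 1) (by omega)).1 ?_
      show Mono ((DerivedCategory.homologyFunctor (ModuleCat.{u} R) (i + 1)).map α)
      by_cases h : i = -1
      · subst h; exact inferInstanceAs (Mono ((DerivedCategory.homologyFunctor (ModuleCat.{u} R) 0).map α))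
      · exact ⟨fun a b _ => (@ModuleCat.isZero_of_subsingleton R _ _
          (hK (i + 1) (by omega) (by omega))).eq_of_tgt a b⟩
  have h0 : α ≫ (a • ξ) = 0 := by
    rw [Linear.comp_smul]
    exact hI N a ha (α ≫ ξ)
  obtain ⟨g, hg⟩ := Triangle.yoneda_exact₂ _ hT (a • ξ) h0
  have : ((Dual.inD R N)⟦(1 : ℤ)⟧).IsGE (-1) :=
    (DerivedCategory.TStructure.t (C := ModuleCat.{u} R)).isGE_shift _ 0 1 (-1) (by omega)
  have hg0 : g = 0 :=
    (DerivedCategory.TStructure.t (C := ModuleCat.{u} R)).zero_of_isLE_of_isGE g (-2) (-1) (by omega) hC this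
  rw [hg, hg0]
  exact Limits.comp_zero


end Groth.Agent.S7083
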