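import Groth.Statements.S7084
import Groth.Agent.DCat.NilpotentBC
import Groth.Agent.DCat.DCNakayama
-- import your own Groth.Agent.* helpers here

set_option autoImplicit false
universe u
attribute [local instance] HasDerivedCategory.standard
open CategoryTheory
open LocCoh

namespace Groth.Agent.S7084

/-- Parts (1)–(2) in the case of a module killed by a power of the ideal: let R be a commutative ring, I
an ideal and K an object of D(R) such that K ⊗^L_R R/I has no cohomology in positive degrees. Then
for every R-module N annihilated by some power of I, K ⊗^L_R N has no cohomology in positive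
degrees. (The published statement allows any I-power torsion module N; this row takes N annihilated
by a single power of I, the case the published argument carries out in full, which contains the case
N = R/I^n.) The derived tensor products with modules are total left derived functors, assumed to
exist. -/
theorem result {R : Type u} [CommRing R] (I : Ideal R)
    [DRing.HasLTensor R (ModuleCat.of R (R ⧸ I))] (K : Dual.D R)
    (hK : ∀ i : ℤ, 0 < i → Subsingleton (Dual.HD R ((DRing.LTensor R (ModuleCat.of R (R ⧸ I))).obj K) i))
    (N : Type u) [AddCommGroup N] [Module R N] (n : ℕ) (hN : I ^ n • (⊤ : Submodule R N) = ⊥)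
    [DRing.HasLTensor R (ModuleCat.of R N)] (i : ℤ) (hi : 0 < i) :
    Subsingleton (Dual.HD R ((DRing.LTensor R (ModuleCat.of R N)).obj K) i) := by
  open Groth.Agent.DCat in
  open CategoryTheory.Limits in
    let φ := Ideal.Quotient.mk I
    haveI := hasLBaseChange φ
    haveI : ∀ M : ModuleCat.{u} (R ⧸ I), DRing.HasLTensor (R ⧸ I) M := fun M => hasLTensor M
    obtain ⟨P, cc, hP, hPf, hc, -⟩ := exists_kflat (DerivedCategory.Q.objPreimage K)
    haveI := hc
    let e : DRing.toD P ≅ K := asIso (DerivedCategory.Q.map cc) ≪≫ DerivedCategory.Q.objObjPreimageIso K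
    haveI hX : ((DRing.LBaseChange φ).obj K).IsLE 0 := by
      refine (DerivedCategory.isLE_iff _ 0).2 fun j hj => ?_
      refine IsZero.of_iso ?_ ((DerivedCategory.homologyFunctor (ModuleCat.{u} (R ⧸ I)) j).mapIso
        ((DRing.LBaseChange φ).mapIso e.symm ≪≫ lbaseChangeIso φ hP))
      rw [isZero_homology_toD_iff, HomologicalComplex.exactAt_iff]
      refine (ShortComplex.exact_map_iff_of_faithful _ (ModuleCat.restrictScalars φ)).1 ?_
      have h0 := (isZero_ltensor_iff (ModuleCat.of R (R ⧸ I)) hP e j).1 ((subsingleton_HD_iff _ j).1 (hK j hj))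
      rw [HomologicalComplex.exactAt_iff] at h0
      let ε : MonoidalCategory.tensorRight (ModuleCat.of R (R ⧸ I)) ≅ ModuleCat.extendScalars φ ⋙ ModuleCat.restrictScalars φ :=
        (MonoidalCategory.tensoringRight (ModuleCat.{u} R)).mapIso (DC.quotIso I).symm ≪≫
          (BraidedCategory.tensorLeftIsoTensorRight _).symm ≪≫ restrictExtIso φ
      exact (ShortComplex.exact_iff_of_iso ((HomologicalComplex.shortComplexFunctor _ _ j).mapIso
        ((NatIso.mapHomologicalComplex ε (ComplexShape.up ℤ)).app P))).1 h0
    obtain ⟨L, hL, ⟨eL⟩⟩ := DerivedCategory.exists_iso_Q_obj_of_isLE ((DRing.LBaseChange φ).obj K) 0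
    obtain ⟨Q, c, hQ, -, hc', hQ0⟩ := exists_kflat_le L 0 (fun j hj => L.isZero_of_isStrictlyLE 0 j hj)
    haveI := hc'
    rw [subsingleton_HD_iff, isZero_ltensor_iff (ModuleCat.of R N) hP e i]
    refine exactAt_of_pow_killed I P hPf i (fun N₀ hN₀ => ?_) n (ModuleCat.of R N) hN
    obtain ⟨M, ⟨eM⟩⟩ := exists_restrict_of_killed φ Ideal.Quotient.mk_surjective N₀ (by rwa [Ideal.mk_ker])
    refine HomologicalComplex.ExactAt.of_iso ((isZero_ltensor_base_iff φ hP e M i).1 ?_) ((NatIso.mapHomologicalComplex
      ((MonoidalCategory.tensoringRight (ModuleCat.{u} R)).mapIso eM) (ComplexShape.up ℤ)).app P)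
    refine (isZero_ltensor_iff M hQ (asIso (DerivedCategory.Q.map c) ≪≫ eL.symm) i).2 ?_
    rw [HomologicalComplex.exactAt_iff]
    exact ShortComplex.exact_of_isZero_X₂ _ ((MonoidalCategory.tensorRight M).map_isZero (hQ0 i hi))

end Groth.Agent.S7084
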