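import Groth.Statements.S7085

set_option autoImplicit false
universe u
open LocCoh

namespace Groth.Agent.S7085

/-- Let R be a commutative ring, I an ideal generated by finitely many elements f_1, …, f_t, and M an
R-module. Then: M has no nonzero element killed by I if and only if it has no nonzero element killed
by I^n for every n ≥ 1; and M has no nonzero element killed by I if and only if an element of M
vanishing in every localization M_{f_i} is zero. -/
theorem result {R : Type u} [CommRing R] {t : ℕ} (f : Fin t → R)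
    (I : Ideal R) (hI : Ideal.span (Set.range f) = I) (M : Type u) [AddCommGroup M] [Module R M] :
    (LocCoh.torsionBy I M = ⊥ ↔ ∀ n : ℕ, 1 ≤ n → LocCoh.torsionBy (I ^ n) M = ⊥) ∧
    (LocCoh.torsionBy I M = ⊥ ↔
      ∀ m : M, (∀ i : Fin t, LocalizedModule.mkLinearMap (Submonoid.powers (f i)) M m = 0) → m = 0) := by
  subst hI
  have key : LocCoh.torsionBy (Ideal.span (Set.range f)) M = ⊥ →
      ∀ n : ℕ, ∀ m : M, (∀ a ∈ Ideal.span (Set.range f) ^ n, a • m = 0) → m = 0 := by
    intro h n
    induction n with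
    | zero => intro m hm; simpa using hm 1 (by simp)
    | succ n ih =>
      intro m hm
      refine ih m fun a ha => (Submodule.mem_bot R).1 (h ▸ (Submodule.mem_torsionBySet_iff _ _).2 fun c => ?_)
      show (c : R) • a • m = 0
      rw [← mul_smul]
      exact hm _ (by rw [pow_succ']; exact Ideal.mul_mem_mul c.2 ha)
  refine ⟨⟨fun h n _ => eq_bot_iff.2 fun m hm => (Submodule.mem_bot R).2 (key h n m fun a ha =>
    (Submodule.mem_torsionBySet_iff _ _).1 hm ⟨a, ha⟩), fun h => by simpa using h 1 le_rfl⟩,
    ⟨fun h m hm => ?_, fun h => eq_bot_iff.2 fun m hm => (Submodule.mem_bot R).2 (h m fun i =>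
      (IsLocalizedModule.eq_zero_iff (Submonoid.powers (f i))
        (LocalizedModule.mkLinearMap (Submonoid.powers (f i)) M)).2 ⟨⟨f i, Submonoid.mem_powers _⟩,
          (Submodule.mem_torsionBySet_iff _ _).1 hm ⟨f i, Ideal.subset_span ⟨i, rfl⟩⟩⟩)⟩⟩
  have hk : ∀ i, ∃ k : ℕ, f i ^ k • m = 0 := fun i => by
    obtain ⟨⟨_, k, rfl⟩, hk⟩ := (IsLocalizedModule.eq_zero_iff (Submonoid.powers (f i))
      (LocalizedModule.mkLinearMap (Submonoid.powers (f i)) M)).1 (hm i)
    exact ⟨k, hk⟩
  have hle : Ideal.span (Set.range f) ≤ (Module.annihilator R (Submodule.span R {m})).radical := by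
    rw [Ideal.span_le]
    rintro _ ⟨i, rfl⟩
    obtain ⟨k, hk⟩ := hk i
    refine ⟨k, Module.mem_annihilator.2 fun x => Subtype.ext ?_⟩
    obtain ⟨c, hc⟩ := Submodule.mem_span_singleton.1 x.2
    show f i ^ k • (x : M) = 0
    rw [← hc, smul_comm, hk, smul_zero]
  obtain ⟨n, hn⟩ := Ideal.exists_pow_le_of_le_radical_of_fg hle (Submodule.fg_span (Set.finite_range f))
  exact key h n m fun a ha => congrArg Subtype.val
    (Module.mem_annihilator.1 (hn ha) ⟨m, Submodule.mem_span_singleton_self m⟩)

end Groth.Agent.S7085
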