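import Groth.Statements.S7089
import Mathlib
-- import your own Groth.Agent.* helpers here

set_option autoImplicit false
universe u
open CategoryTheory
open LocCoh

namespace Groth.Agent.S7089

open CategoryTheory CategoryTheory.Limits

noncomputable section

variable {R : Type u} [CommRing R] (I : Ideal R)

/-- Power torsion modules. -/
structure PT where
  M : ModuleCat.{u} R
  h : LocCoh.IsPowerTorsion I M

variable {I}

/-- Indexing set of the standard cover. -/
abbrev Idx (M : PT I) : Type u := Σ n : ℕ, {m : M.M // ∀ a ∈ I ^ n, a • m = 0}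

/-- The standard cover. -/
abbrev Cov (M : PT I) : ModuleCat.{u} R := ModuleCat.of R (DirectSum (Idx M) fun j => R ⧸ I ^ j.1)

open Classical in
/-- The covering map. -/
def cov (M : PT I) : Cov M ⟶ M.M :=
  ModuleCat.ofHom (DirectSum.toModule R (Idx M) M.M fun j =>
    Submodule.liftQ (I ^ j.1) (LinearMap.toSpanSingleton R M.M j.2.1) fun a ha => j.2.2 a ha)

theorem cov_surjective (M : PT I) : Function.Surjective (cov M).hom := fun m => by
  classical
  obtain ⟨n, hn⟩ := M.h m
  refine ⟨DirectSum.lof R _ _ (⟨n, m, fun a ha => hn a ha⟩ : Idx M) (Submodule.Quotient.mk 1), ?_⟩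
  show DirectSum.toModule R (Idx M) M.M _ _ = m
  rw [DirectSum.toModule_lof]
  exact one_smul R m

theorem cov_torsion (M : PT I) (x : Cov M) : ∃ n : ℕ, ∀ a ∈ I ^ n, a • x = 0 := by
  classical
  induction x using DirectSum.induction_on with
  | zero => exact ⟨0, fun a _ => smul_zero a⟩
  | of j y =>
    refine ⟨j.1, fun a ha => ?_⟩
    rw [← DirectSum.lof_eq_of R, ← map_smul]
    obtain ⟨r, rfl⟩ := Submodule.Quotient.mk_surjective _ y
    rw [show a • (Submodule.Quotient.mk r : R ⧸ I ^ j.1) = 0 from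
      (Submodule.Quotient.mk_eq_zero (I ^ j.1)).2 (show a • r ∈ I ^ j.1 from Ideal.mul_mem_right r _ ha), map_zero]
  | add x y hx hy =>
    obtain ⟨p, hp⟩ := hx
    obtain ⟨q, hq⟩ := hy
    exact ⟨p + q, fun a ha => by
      rw [smul_add, hp a (Ideal.pow_le_pow_right (Nat.le_add_right p q) ha),
        hq a (Ideal.pow_le_pow_right (Nat.le_add_left q p) ha), add_zero]⟩

/-- The syzygy. -/
def syz (M : PT I) : PT I where
  M := ModuleCat.of R (LinearMap.ker (cov M).hom)
  h := fun x => by
    obtain ⟨n, hn⟩ := cov_torsion M x.1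
    exact ⟨n, fun a ha => Subtype.ext (hn a ha)⟩

/-- The iterated syzygies. -/
def Z (M : PT I) : ℕ → PT I
  | 0 => M
  | i + 1 => syz (Z M i)

/-- The differential. -/
def dd (M : PT I) (i : ℕ) : Cov (Z M (i + 1)) ⟶ Cov (Z M i) :=
  cov (Z M (i + 1)) ≫ ModuleCat.ofHom (LinearMap.ker (cov (Z M i)).hom).subtype

theorem dd_cov (M : PT I) (i : ℕ) : dd M i ≫ cov (Z M i) = 0 := by
  ext x
  exact ((cov (Z M (i + 1))).hom x).2

theorem dd_range (M : PT I) (i : ℕ) : LinearMap.range (dd M i).hom = LinearMap.ker (cov (Z M i)).hom := by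
  refine le_antisymm ?_ fun x hx => ?_
  · rintro _ ⟨y, rfl⟩
    exact ((cov (Z M (i + 1))).hom y).2
  · obtain ⟨y, hy⟩ := cov_surjective (Z M (i + 1)) ⟨x, hx⟩
    exact ⟨y, congrArg Subtype.val hy⟩

theorem dd_ker (M : PT I) (i : ℕ) : LinearMap.ker (dd M i).hom = LinearMap.ker (cov (Z M (i + 1))).hom := by
  ext x
  exact ⟨fun h => Subtype.ext h, fun h => congrArg Subtype.val h⟩

/-- The resolution. -/
def cx (M : PT I) : ChainComplex (ModuleCat.{u} R) ℕ :=
  ChainComplex.of (fun i => Cov (Z M i)) (dd M) fun i => by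
    refine ModuleCat.hom_ext (LinearMap.ext fun x => ?_)
    exact congrArg Subtype.val (LinearMap.congr_fun (congrArg ModuleCat.Hom.hom (dd_cov M (i + 1))) x)

theorem exists_resolution (M : PT I) :
    ∃ π : cx M ⟶ (ChainComplex.single₀ (ModuleCat.{u} R)).obj M.M, QuasiIso π := by
  refine ⟨(ChainComplex.toSingle₀Equiv _ _).symm ⟨cov M, ?_⟩, ⟨fun n => ?_⟩⟩
  · show (cx M).d 1 0 ≫ cov M = 0
    rw [show (cx M).d 1 0 = dd M 0 from ChainComplex.of_d (fun i => Cov (Z M i)) (dd M) _]
    exact dd_cov M 0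
  cases n with
  | zero =>
    rw [ChainComplex.quasiIsoAt₀_iff, ShortComplex.quasiIso_iff_of_zeros']
    · refine (ShortComplex.exact_and_epi_g_iff_of_iso ?_).2
        (show (ShortComplex.mk (dd M 0) (cov M) (dd_cov M 0)).Exact ∧ Epi (cov M) from
          ⟨(ShortComplex.moduleCat_exact_iff_range_eq_ker _).2 (dd_range M 0),
            (ModuleCat.epi_iff_surjective _).2 (cov_surjective M)⟩)
      exact ShortComplex.isoMk (Iso.refl _) (Iso.refl _) (Iso.refl _)
        (by simp [cx]; exact (Category.id_comp (dd M 0)).trans (Category.comp_id _).symm) (by simp; rfl)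
    all_goals rfl
  | succ n =>
    rw [quasiIsoAt_iff_exactAt']
    · rw [HomologicalComplex.exactAt_iff' _ (n + 1 + 1) (n + 1) n (by simp) (by simp),
        ShortComplex.moduleCat_exact_iff_range_eq_ker]
      show LinearMap.range ((cx M).d (n + 1 + 1) (n + 1)).hom = LinearMap.ker ((cx M).d (n + 1) n).hom
      rw [show (cx M).d (n + 1 + 1) (n + 1) = dd M (n + 1) from ChainComplex.of_d (fun i => Cov (Z M i)) (dd M) _,
        show (cx M).d (n + 1) n = dd M n from ChainComplex.of_d (fun i => Cov (Z M i)) (dd M) _]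
      exact (dd_range M (n + 1)).trans (dd_ker M n).symm
    · exact ChainComplex.exactAt_succ_single_obj _ _

end

/-- Let R be a commutative ring, I an ideal and M an R-module in which every element is killed by a
power of I. Then M has a left resolution by modules each of which is a direct sum of copies of R/I^n
for varying n: there are a chain complex K of R-modules, a quasi-isomorphism from K to M placed in
degree 0, and for each i an isomorphism of K_i with such a direct sum. -/
theorem result {R : Type u} [CommRing R] (I : Ideal R)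
    (M : Type u) [AddCommGroup M] [Module R M] (hM : LocCoh.IsPowerTorsion I M) :
    ∃ (K : ChainComplex (ModuleCat.{u} R) ℕ) (π : K ⟶ (ChainComplex.single₀ (ModuleCat.{u} R)).obj (ModuleCat.of R M)),
      QuasiIso π ∧ ∀ i : ℕ, ∃ (ι : Type u) (n : ι → ℕ),
        Nonempty (K.X i ≅ ModuleCat.of R (DirectSum ι fun j => R ⧸ I ^ n j)) := by
  obtain ⟨π, hπ⟩ := exists_resolution (⟨ModuleCat.of R M, hM⟩ : PT I)
  exact ⟨_, π, hπ, fun i => ⟨_, _, ⟨Iso.refl _⟩⟩⟩

end Groth.Agent.S7089
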