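import Groth.Statements.S7090
import Groth.Agent.HenselLib.FlatQuot
import Mathlib.RingTheory.Ideal.Operations

set_option autoImplicit false
universe u
open TensorProduct
open EtAlg

namespace Groth.Agent.S7090

/-- Let R → S be a flat homomorphism of commutative rings and I = (f_1, …, f_t) a finitely generated
ideal such that R/I → S/IS is bijective. Then for every R-module M the glueing complex 0 → M → (S
⊗_R M) × ∏ M_{f_i} → ∏ (S ⊗_R M)_{f_i} × ∏ M_{f_i f_j} is exact. Concretely: an element of M with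
zero image in S ⊗_R M and in every M_{f_i} is zero; and given x in S ⊗_R M and elements m_1, …, m_t
of M and N ≥ 0 such that x and m_i / f_i^N have the same image in (S ⊗_R M)_{f_i} for each i, and
m_i / f_i^N, m_j / f_j^N have the same image in M_{f_i f_j} for all i, j, there is m in M with 1 ⊗ m
= x and m / 1 = m_i / f_i^N in M_{f_i} for every i. -/
theorem result {R S : Type u} [CommRing R] [CommRing S] [Algebra R S] [Module.Flat R S]
    {t : ℕ} (f : Fin t → R) (I : Ideal R) (hI : Ideal.span (Set.range f) = I)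
    (hq : Function.Bijective
      (Ideal.quotientMap (Ideal.map (algebraMap R S) I) (algebraMap R S) Ideal.le_comap_map))
    (M : Type u) [AddCommGroup M] [Module R M] :
    (∀ m : M, (1 : S) ⊗ₜ[R] m = 0 →
        (∀ i : Fin t, LocalizedModule.mkLinearMap (Submonoid.powers (f i)) M m = 0) → m = 0) ∧
    ∀ (x : S ⊗[R] M) (N : ℕ) (m : Fin t → M),
      (∀ i : Fin t, EtGlue.locOfTensor R S (f i) M x =
          EtGlue.tensorOfLoc R S (f i) M (LocalizedModule.mk (m i) ⟨f i ^ N, Submonoid.pow_mem _ (Submonoid.mem_powers (f i)) N⟩)) →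
      (∀ i j : Fin t, ∃ e : ℕ, (f i * f j) ^ e • (f j ^ N • m i - f i ^ N • m j) = 0) →
        ∃ μ : M, (1 : S) ⊗ₜ[R] μ = x ∧
          ∀ i : Fin t, LocalizedModule.mkLinearMap (Submonoid.powers (f i)) M μ =
            LocalizedModule.mk (m i) ⟨f i ^ N, Submonoid.pow_mem _ (Submonoid.mem_powers (f i)) N⟩ := by
  classical
  have hFG : I.FG := ⟨Finset.univ.image f, by rw [Finset.coe_image, Finset.coe_univ, Set.image_univ]; exact hI⟩
  have htors : ∀ {X : Type u} [AddCommGroup X] [Module R X] (x : X),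
      (∀ i, ∃ k : ℕ, f i ^ k • x = 0) → HenselLib.FlatQuot.IsTors I x := by
    intro X _ _ x hx
    let A : Ideal R := LinearMap.ker (LinearMap.toSpanSingleton R X x)
    have hle : I ≤ A.radical := by
      rw [← hI, Ideal.span_le]
      rintro _ ⟨i, rfl⟩
      obtain ⟨k, hk⟩ := hx i
      exact ⟨k, by simpa [A] using hk⟩
    obtain ⟨n, hn⟩ := Ideal.exists_pow_le_of_le_radical_of_fg hle hFG
    exact ⟨n, fun a ha => by simpa [A] using hn ha⟩
  have hloc : ∀ (i : Fin t) (X : Type u) [AddCommGroup X] [Module R X] (x : X),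
      LocalizedModule.mkLinearMap (Submonoid.powers (f i)) X x = 0 ↔ ∃ k : ℕ, f i ^ k • x = 0 := by
    intro i X _ _ x
    rw [IsLocalizedModule.eq_zero_iff (Submonoid.powers (f i)) (LocalizedModule.mkLinearMap (Submonoid.powers (f i)) X)]
    exact ⟨by rintro ⟨⟨_, k, rfl⟩, h⟩; exact ⟨k, h⟩, fun ⟨k, h⟩ => ⟨⟨_, k, rfl⟩, h⟩⟩
  constructor
  · intro μ h0 hi
    obtain ⟨n, hn⟩ := htors μ fun i => (hloc i M μ).mp (hi i)
    let P : Submodule R M := Submodule.span R {μ}
    have hP : ∀ y : P, HenselLib.FlatQuot.IsTors I y := fun y => by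
      obtain ⟨c, hc⟩ := Submodule.mem_span_singleton.mp y.2
      exact ⟨n, fun a ha => Subtype.ext (by
        change a • y.1 = 0
        rw [← hc, smul_comm, hn a ha, smul_zero])⟩
    have : (⟨μ, Submodule.subset_span rfl⟩ : P) = 0 := by
      apply (HenselLib.FlatQuot.bijective_mk_of_torsion hq P hP).1
      rw [map_zero]
      apply Module.Flat.lTensor_preserves_injective_linearMap (M := S) P.subtype P.injective_subtype
      rw [map_zero]
      exact h0
    exact congrArg Subtype.val this
  intro x N m hx hm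
  -- uniform exponents
  have ha : ∀ i, ∃ a : ℕ, f i ^ a • (f i ^ N • x) = f i ^ a • ((1 : S) ⊗ₜ[R] m i) := by
    intro i
    have h := hx i
    rw [EtGlue.tensorOfLoc, IsLocalizedModule.mk_eq_mk', IsLocalizedModule.map_mk', EtGlue.locOfTensor,
      eq_comm, IsLocalizedModule.mk'_eq_iff, Submonoid.smul_def, ← map_smul] at h
    obtain ⟨⟨_, k, rfl⟩, hk⟩ := IsLocalizedModule.exists_of_eq (S := Submonoid.powers (f i)) h
    exact ⟨k, hk.symm⟩
  choose a ha using ha
  choose e he using hm
  obtain ⟨E, hEa, hEe⟩ : ∃ E : ℕ, (∀ i, a i ≤ E) ∧ ∀ i j, e i j ≤ E :=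
    ⟨(Finset.univ.sup a) ⊔ (Finset.univ.sup fun i => Finset.univ.sup (e i)),
      fun i => (Finset.le_sup (Finset.mem_univ i)).trans le_sup_left,
      fun i j => ((Finset.le_sup (f := e i) (Finset.mem_univ j)).trans
        (Finset.le_sup (f := fun i => Finset.univ.sup (e i)) (Finset.mem_univ i))).trans le_sup_right⟩
  let N' := E + N
  let m' : Fin t → M := fun i => f i ^ E • m i
  have h1 : ∀ i, f i ^ N' • x = (1 : S) ⊗ₜ[R] m' i := by
    intro i
    obtain ⟨d, hd⟩ := Nat.exists_eq_add_of_le (hEa i)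
    calc f i ^ N' • x = f i ^ d • f i ^ a i • f i ^ N • x := by
          rw [smul_smul, smul_smul, show N' = E + N from rfl, hd]; ring_nf
      _ = f i ^ d • f i ^ a i • ((1 : S) ⊗ₜ[R] m i) := by rw [ha i]
      _ = (1 : S) ⊗ₜ[R] m' i := by
          rw [smul_smul, ← TensorProduct.tmul_smul, ← pow_add, add_comm d, ← hd]
  have h2 : ∀ i j, f j ^ N' • m' i = f i ^ N' • m' j := by
    intro i j
    obtain ⟨d, hd⟩ := Nat.exists_eq_add_of_le (hEe i j)
    have := congrArg ((f i * f j) ^ d • ·) (he i j)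
    simp only [smul_sub, smul_zero, sub_eq_zero, smul_smul] at this
    simp only [N', m', smul_smul]
    have e1 : f j ^ (E + N) * f i ^ E = (f i * f j) ^ d * (f i * f j) ^ e i j * f j ^ N := by
      rw [hd]; ring
    have e2 : f i ^ (E + N) * f j ^ E = (f i * f j) ^ d * (f i * f j) ^ e i j * f i ^ N := by
      rw [hd]; ring
    rw [e1, e2]
    simpa only [mul_assoc] using this
  let δ : M →ₗ[R] (Fin t → M) := LinearMap.pi fun i => f i ^ N' • LinearMap.id
  let Q := (Fin t → M) ⧸ LinearMap.range δ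
  let π : (Fin t → M) →ₗ[R] Q := (LinearMap.range δ).mkQ
  have hπ : Function.Surjective π := Submodule.mkQ_surjective _
  -- `1 ⊗ m'` is the image of `x`
  have h3 : δ.lTensor S x = (1 : S) ⊗ₜ[R] m' := by
    apply (TensorProduct.piRight R R S (fun _ : Fin t => M)).injective
    refine funext fun i => ?_
    have hcomp : ∀ y : S ⊗[R] M, TensorProduct.piRight R R S (fun _ : Fin t => M) (δ.lTensor S y) i =
        f i ^ N' • y := by
      intro y
      induction y with
      | zero => simp
      | add u v hu hv => simp only [map_add, Pi.add_apply, hu, hv, smul_add]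
      | tmul s m => simp only [δ, LinearMap.lTensor_tmul, TensorProduct.piRight_apply, TensorProduct.piRightHom_tmul, LinearMap.pi_apply, LinearMap.smul_apply, LinearMap.id_apply, TensorProduct.tmul_smul]
    rw [hcomp, h1]
    simp
  obtain ⟨μ, hμ⟩ : ∃ μ, δ μ = m' := by
    have hv : HenselLib.FlatQuot.IsTors I (π m') := htors _ fun j => ⟨N', by
      rw [← map_smul, Submodule.mkQ_apply, Submodule.Quotient.mk_eq_zero]
      exact ⟨m' j, funext fun i => by simp [δ, h2 i j]⟩⟩
    obtain ⟨n, hn⟩ := hv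
    let P : Submodule R Q := Submodule.span R {π m'}
    have hP : ∀ y : P, HenselLib.FlatQuot.IsTors I y := fun y => by
      obtain ⟨c, hc⟩ := Submodule.mem_span_singleton.mp y.2
      exact ⟨n, fun a ha => Subtype.ext (by
        change a • y.1 = 0
        rw [← hc, smul_comm, hn a ha, smul_zero])⟩
    have h0 : (⟨π m', Submodule.subset_span rfl⟩ : P) = 0 := by
      apply (HenselLib.FlatQuot.bijective_mk_of_torsion hq P hP).1
      rw [map_zero]
      apply Module.Flat.lTensor_preserves_injective_linearMap (M := S) P.subtype P.injective_subtype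
      rw [map_zero, TensorProduct.mk_apply, LinearMap.lTensor_tmul]
      change (1 : S) ⊗ₜ[R] π m' = 0
      rw [← LinearMap.lTensor_tmul, ← h3, ← LinearMap.lTensor_comp_apply,
        show π ∘ₗ δ = 0 from LinearMap.ext fun z => (Submodule.Quotient.mk_eq_zero _).mpr ⟨z, rfl⟩,
        LinearMap.lTensor_zero, LinearMap.zero_apply]
    exact (Submodule.Quotient.mk_eq_zero _).mp (congrArg Subtype.val h0)
  have h4 : δ.lTensor S (x - (1 : S) ⊗ₜ[R] μ) = 0 := by
    rw [map_sub, h3, LinearMap.lTensor_tmul, hμ, sub_self]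
  have hex := Module.Flat.lTensor_exact (M := S) (N := LinearMap.ker δ) (N' := M) (N'' := Fin t → M)
    (f := (LinearMap.ker δ).subtype) (g := δ) (LinearMap.exact_subtype_ker_map δ)
  obtain ⟨η, hη⟩ := (hex _).mp h4
  obtain ⟨τ, rfl⟩ := (HenselLib.FlatQuot.bijective_mk_of_torsion (S := S) hq (LinearMap.ker δ) fun k =>
    htors k fun i => ⟨N', Subtype.ext (by simpa [δ] using congrFun k.2 i)⟩).2 η
  refine ⟨μ + τ.1, ?_, fun i => ?_⟩
  · rw [TensorProduct.tmul_add]
    rw [TensorProduct.mk_apply, LinearMap.lTensor_tmul] at hη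
    rw [show ((1 : S) ⊗ₜ[R] τ.1 : S ⊗[R] M) = x - 1 ⊗ₜ μ from hη, add_sub_cancel]
  · rw [IsLocalizedModule.mk_eq_mk', eq_comm, IsLocalizedModule.mk'_eq_iff, Submonoid.smul_def, ← map_smul]
    refine (IsLocalizedModule.eq_iff_exists (Submonoid.powers (f i))
      (LocalizedModule.mkLinearMap (Submonoid.powers (f i)) M)).mpr ⟨⟨_, E, rfl⟩, ?_⟩
    change f i ^ E • m i = f i ^ E • f i ^ N • (μ + τ.1)
    have hτ : f i ^ N' • τ.1 = 0 := by simpa [δ] using congrFun τ.2 i
    have hμi : f i ^ N' • μ = m' i := by simpa [δ] using congrFun hμ i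
    rw [smul_smul, ← pow_add, smul_add, hμi, hτ, add_zero]

end Groth.Agent.S7090
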