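import Groth.Statements.S7091
import Groth.Agent.DCat.DCompletionMap

set_option autoImplicit false
set_option backward.isDefEq.respectTransparency false
set_option backward.defeqAttrib.useBackward true
universe u
attribute [local instance] HasDerivedCategory.standard
open CategoryTheory
open DRing

namespace Groth.Agent.S7091

/-- Let A be a commutative ring, I a finitely generated ideal, and assume the derived completion functor
(left adjoint to the inclusion of derived complete objects) exists. If a morphism K → L in D(A)
induces isomorphisms on cohomology in degrees ≥ 1 and a surjection in degree 0, then so does the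
induced morphism between the derived completions. -/
theorem result {A : Type u} [CommRing A] (I : Ideal A) (hI : I.FG)
    [DRing.HasDerivedCompletion I] {K L : Dual.D A} (φ : K ⟶ L)
    (hiso : ∀ i : ℤ, 1 ≤ i → IsIso ((DerivedCategory.homologyFunctor (ModuleCat.{u} A) i).map φ))
    (hepi : Epi ((DerivedCategory.homologyFunctor (ModuleCat.{u} A) 0).map φ)) :
    (∀ i : ℤ, 1 ≤ i → IsIso ((DerivedCategory.homologyFunctor (ModuleCat.{u} A) i).map
        ((DRing.derivedCompletion I).map φ).hom)) ∧
      Epi ((DerivedCategory.homologyFunctor (ModuleCat.{u} A) 0).map ((DRing.derivedCompletion I).map φ).hom) := by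
  obtain ⟨s, hs⟩ := hI
  obtain ⟨Z, W, m, v, w, v', w', hZ, hW, hm⟩ := DCat.DC.exists_completed_cone I φ
  have hz : ∀ i : ℤ, 0 ≤ i → Subsingleton (Dual.HD A Z i) := fun i hi => by
    have : IsIso ((DerivedCategory.homologyFunctor (ModuleCat.{u} A) (i + 1)).map φ) := hiso _ (by omega)
    refine DCat.DC.subsingleton_cone hZ i ?_ ?_
    · show Epi ((DerivedCategory.homologyFunctor (ModuleCat.{u} A) i).map φ)
      rcases eq_or_lt_of_le hi with rfl | hlt
      · exact hepi
      · have := hiso i (by omega); infer_instance
    · show Mono ((DerivedCategory.homologyFunctor (ModuleCat.{u} A) (i + 1)).map φ)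
      infer_instance
  have hw : ∀ i : ℤ, 0 ≤ i → Subsingleton (Dual.HD A W i) := fun i hi =>
    hm.subsingleton_hd s hs i fun j hj _ => hz j (by omega)
  refine ⟨fun i hi => ?_, DCat.DC.epi_of_cone hW 0 (hw 0 le_rfl)⟩
  have he := DCat.DC.epi_of_cone hW i (hw i (by omega))
  have hmn := DCat.DC.mono_of_cone hW i (hw _ (by omega))
  exact @isIso_of_mono_of_epi _ _ _ _ _ _ hmn he


end Groth.Agent.S7091
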