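import Groth.Statements.S7092
import Groth.Agent.DCat.DCompletionMap

set_option autoImplicit false
set_option backward.isDefEq.respectTransparency false
set_option backward.defeqAttrib.useBackward true
universe u
attribute [local instance] HasDerivedCategory.standard
open CategoryTheory
open DRing

namespace Groth.Agent.S7092

/-- Let A be a commutative ring, I an ideal generated by a finite set of r elements, and assume the
derived completion functor exists. If a morphism K → L in D(A) induces isomorphisms on cohomology in
degrees ≤ -1 and an injection in degree 0, then the induced morphism of derived completions induces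
isomorphisms on cohomology in degrees ≤ -r-1 and an injection in degree -r. -/
theorem result {A : Type u} [CommRing A] (I : Ideal A) (s : Finset A)
    (hs : Ideal.span (s : Set A) = I) [DRing.HasDerivedCompletion I] {K L : Dual.D A} (φ : K ⟶ L)
    (hiso : ∀ i : ℤ, i ≤ -1 → IsIso ((DerivedCategory.homologyFunctor (ModuleCat.{u} A) i).map φ))
    (hmono : Mono ((DerivedCategory.homologyFunctor (ModuleCat.{u} A) 0).map φ)) :
    (∀ i : ℤ, i ≤ -(s.card : ℤ) - 1 → IsIso ((DerivedCategory.homologyFunctor (ModuleCat.{u} A) i).map
        ((DRing.derivedCompletion I).map φ).hom)) ∧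
      Mono ((DerivedCategory.homologyFunctor (ModuleCat.{u} A) (-(s.card : ℤ))).map
        ((DRing.derivedCompletion I).map φ).hom) := by
  obtain ⟨Z, W, m, v, w, v', w', hZ, hW, hm⟩ := DCat.DC.exists_completed_cone I φ
  have hz : ∀ i : ℤ, i ≤ -1 → Subsingleton (Dual.HD A Z i) := fun i hi => by
    refine DCat.DC.subsingleton_cone hZ i ?_ ?_
    · show Epi ((DerivedCategory.homologyFunctor (ModuleCat.{u} A) i).map φ)
      have := hiso i hi; infer_instance
    · show Mono ((DerivedCategory.homologyFunctor (ModuleCat.{u} A) (i + 1)).map φ)
      rcases eq_or_lt_of_le (show i + 1 ≤ 0 by omega) with h | h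
      · rw [h]; exact hmono
      · have := hiso (i + 1) (by omega); infer_instance
  have hw : ∀ i : ℤ, i ≤ -(s.card : ℤ) - 1 → Subsingleton (Dual.HD A W i) := fun i hi =>
    hm.subsingleton_hd s hs i fun j _ hj => hz j (by omega)
  refine ⟨fun i hi => ?_, DCat.DC.mono_of_cone hW _ (hw _ le_rfl)⟩
  have he := DCat.DC.epi_of_cone hW i (hw i hi)
  have hmn := DCat.DC.mono_of_cone hW i (hw _ (by omega))
  exact @isIso_of_mono_of_epi _ _ _ _ _ _ hmn he


end Groth.Agent.S7092
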