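import Groth.Statements.S7094
import Groth.Agent.DualLib.RelPerfFibres
import Groth.Agent.DualLib.TorAmpOps
import Groth.Agent.DCat.LTensorModule

set_option autoImplicit false
universe u
attribute [local instance] HasDerivedCategory.standard
open CategoryTheory
open Dual2

namespace Groth.Agent.S7094

/-- Let R → A be a flat homomorphism of finite presentation of commutative rings and K a pseudo-coherent
object of D(A). Then K is R-perfect if and only if H^i(K) = 0 for all sufficiently negative i and,
for each prime p of R, H^i(K ⊗^L_R κ(p)) = 0 for all sufficiently negative i; here K is viewed in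
D(R) by restriction of scalars and the derived tensor product with the residue field κ(p) is the
total left derived functor, assumed to exist. -/
theorem result (R A : Type u) [CommRing R] [CommRing A] [Algebra R A]
    [Module.Flat R A] [Algebra.FinitePresentation R A]
    [∀ p : PrimeSpectrum R, DRing.HasLTensor R (ModuleCat.of R p.asIdeal.ResidueField)]
    (K : Dual.D A) (hK : DRing.IsPseudoCoherent' A K) :
    Dual2.IsRelPerfect R A K ↔
      (∃ a : ℤ, ∀ i : ℤ, i < a → Subsingleton (Dual.HD A K i)) ∧
        ∀ p : PrimeSpectrum R, ∃ a : ℤ, ∀ i : ℤ, i < a →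
          Subsingleton (Dual.HD R ((DRing.LTensor R (ModuleCat.of R p.asIdeal.ResidueField)).obj
            ((DRing.restrictD (algebraMap R A)).obj K)) i) := by
  open Groth.Agent CategoryTheory.Limits in
  let rA := ModuleCat.restrictScalars.{u} (algebraMap R A)
  obtain ⟨P, b, hPb, hPf, ⟨e⟩⟩ := hK
  have hflat : ∀ i, Module.Flat R (rA.obj (P.X i)) := fun i => by
    haveI := (hPf i).2
    letI : Module R (P.X i) := Module.compHom _ (algebraMap R A)
    haveI : IsScalarTower R A (P.X i) := IsScalarTower.of_algebraMap_smul fun _ _ => rfl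
    exact Module.Flat.trans R A (P.X i)
  let C := (DRing.restrictCx (algebraMap R A)).obj P
  have hkR : DCat.IsKFlatFor (DCat.modT R) C :=
    DCat.isKFlatFor_of_vanishesAbove _ b (fun i hi => rA.map_isZero (hPb i hi)) hflat
  let eC : DRing.toD C ≅ (DRing.restrictD (algebraMap R A)).obj K :=
    (rA.mapDerivedCategoryFactors.app P).symm ≪≫ (DRing.restrictD (algebraMap R A)).mapIso e
  have hH : ∀ i, Subsingleton (Dual.HD A K i) ↔ P.ExactAt i := fun i => by
    rw [← DCat.isZero_homology_toD_iff]
    refine Iff.trans ⟨fun h => ?_, fun h => ModuleCat.subsingleton_of_isZero h⟩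
      (((DerivedCategory.homologyFunctor (ModuleCat.{u} A) i).mapIso e).isZero_iff).symm
    haveI := h
    exact ModuleCat.isZero_of_subsingleton _
  constructor
  · rintro ⟨-, a', b', hT⟩
    haveI : ∀ M : ModuleCat.{u} R, DRing.HasLTensor R M := fun M => DCat.hasLTensor M
    refine ⟨⟨a', fun i hi => (hH i).2 ?_⟩, fun p => ⟨a', fun i hi =>
      ModuleCat.subsingleton_of_isZero (DCat.vanish_of_flatAmp hT _ (Or.inl hi))⟩⟩
    have h : C.ExactAt i := by
      rw [← DCat.isZero_homology_toD_iff]
      exact (DCat.exactAt_of_vanish (DCat.vanish_of_flatAmp hT _ (Or.inl hi))).of_iso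
        ((DerivedCategory.homologyFunctor (ModuleCat.{u} R) i).mapIso eC)
    rw [HomologicalComplex.exactAt_iff] at h ⊢
    exact (ShortComplex.exact_map_iff_of_faithful (P.sc i) rA).1 h
  · rintro ⟨⟨a₀, ha₀⟩, hfib⟩
    obtain ⟨a, c, hamp⟩ := DualLib.RelPerfFibres.amp_of_pointwise (R := R) P hPf hPb (a₀ := a₀)
      (fun i hi => (hH i).1 (ha₀ i hi)) fun q => by
      obtain ⟨a, ha⟩ := hfib ⟨q.asIdeal.comap (algebraMap R A), inferInstance⟩
      refine ⟨a, fun i hi => (@DCat.isZero_ltensor_iff R _ _ (DCat.hasLTensor _) _ hkR _ eC i).1 ?_⟩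
      haveI := ha i hi
      exact ModuleCat.isZero_of_subsingleton _
    exact ⟨⟨P, b, hPb, hPf, ⟨e⟩⟩, a, c, DualLib.TorAmpOps.amp_of_iso eC hamp⟩

end Groth.Agent.S7094
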