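import Groth.Statements.S7098
import Groth.Agent.DCat.DCompletion

set_option autoImplicit false
set_option backward.isDefEq.respectTransparency false
set_option backward.defeqAttrib.useBackward true
universe u
attribute [local instance] HasDerivedCategory.standard
open DRing

namespace Groth.Agent.S7098

open CategoryTheory

lemma finv_restrict {A : Type u} [CommRing A] (f : A) (E : Dual.D (Localization.Away f)) :
    DCat.DC.FInv f ((DRing.restrictD (algebraMap A (Localization.Away f))).obj E) := by
  let B := Localization.Away f
  let ρ := algebraMap A B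
  let F := ModuleCat.restrictScalars.{u} ρ
  let K := DerivedCategory.Q.objPreimage E
  let P := (F.mapHomologicalComplex (ComplexShape.up ℤ)).obj K
  let e : (DRing.restrictD ρ).obj E ≅ DerivedCategory.Q.obj P :=
    (DRing.restrictD ρ).mapIso (DerivedCategory.Q.objObjPreimageIso E).symm ≪≫
      F.mapDerivedCategoryFactors.app K
  have hP : ∀ n, IsIso ((f • 𝟙 P : P ⟶ P).f n) := fun n => by
    rw [ConcreteCategory.isIso_iff_bijective]
    obtain ⟨u, hu⟩ := IsLocalization.Away.algebraMap_isUnit (S := B) f
    have hb : Function.Bijective (fun x : K.X n => (↑u : B) • x) :=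
      ⟨fun a b h => by simpa [smul_smul] using congrArg ((↑u⁻¹ : B) • ·) h,
        fun y => ⟨(↑u⁻¹ : B) • y, by simp [smul_smul]⟩⟩
    rw [hu] at hb
    exact hb
  have : IsIso (f • 𝟙 P : P ⟶ P) := HomologicalComplex.Hom.isIso_of_components _
  have h2 : IsIso (f • 𝟙 (DerivedCategory.Q.obj P)) := by
    rw [← CategoryTheory.Functor.map_id, ← CategoryTheory.Functor.map_smul]
    infer_instance
  have e2 : f • 𝟙 ((DRing.restrictD ρ).obj E) = e.hom ≫ (f • 𝟙 (DerivedCategory.Q.obj P)) ≫ e.inv := by
    simp
  show IsIso (f • 𝟙 _)
  rw [e2]
  infer_instance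

/-- (1)⇔(2): let A be a commutative ring, f an element of A and K an object of D(A). Then every morphism
A_f[0] → K[n] vanishes for every integer n if and only if every morphism E → K vanishes for every
object E of D(A) obtained by restriction of scalars from D(A_f). -/
theorem result {A : Type u} [CommRing A] (f : A)
    (K : Dual.D A) :
    (∀ n : ℤ, Subsingleton (Dual.inD A (Localization.Away f) ⟶ K⟦n⟧)) ↔
      ∀ E : Dual.D (Localization.Away f),
        Subsingleton ((DRing.restrictD (algebraMap A (Localization.Away f))).obj E ⟶ K) := by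
  constructor
  · intro h E
    refine subsingleton_of_forall_eq 0 fun φ => DCat.DC.eq_zero_of_finv (finv_restrict f E) ?_ φ
    exact DCat.DC.dcf_iff.2 fun n => (DCat.DC.forall_subsingleton_iff f K).1 h n
  · intro h n
    let ρ := algebraMap A (Localization.Away f)
    let S := DerivedCategory.singleFunctor (ModuleCat.{u} (Localization.Away f)) 0
    let P := (CochainComplex.singleFunctor (ModuleCat.{u} (Localization.Away f)) 0).obj
      (ModuleCat.of _ (Localization.Away f))
    let F := ModuleCat.restrictScalars.{u} ρ
    let e : (DRing.restrictD ρ).obj ((S.obj (ModuleCat.of _ (Localization.Away f)))⟦-n⟧) ≅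
        (Dual.inD A (Localization.Away f))⟦-n⟧ :=
      ((DRing.restrictD ρ).commShiftIso (-n)).app _ ≪≫
        (shiftFunctor (Dual.D A) (-n)).mapIso (F.mapDerivedCategoryFactors.app P ≪≫
          DerivedCategory.Q.mapIso ((HomologicalComplex.singleMapHomologicalComplex F (ComplexShape.up ℤ) 0).app _) ≪≫
          DerivedCategory.Q.mapIso ((CochainComplex.singleFunctor (ModuleCat.{u} A) 0).mapIso
            (LinearEquiv.toModuleIso
              (X₁ := F.obj (ModuleCat.of _ (Localization.Away f))) (X₂ := Localization.Away f)
              { toFun := id, invFun := id, map_add' := fun _ _ => rfl,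
                map_smul' := fun a x => (Algebra.smul_def a (show Localization.Away f from x)).symm,
                left_inv := fun _ => rfl, right_inv := fun _ => rfl })))
    refine subsingleton_of_forall_eq 0 fun φ => ?_
    obtain ⟨m, rfl⟩ : ∃ m, n = -m := ⟨-n, by omega⟩
    refine DCat.DC.eq_zero_of_shift (fun ψ => ?_) φ
    rw [← cancel_epi (eqToHom (show (Dual.inD A (Localization.Away f))⟦-(-m)⟧ = _ by rw [neg_neg]))]
    rw [← cancel_epi e.hom]
    exact @Subsingleton.elim _ (h _) _ _


end Groth.Agent.S7098
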