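import Groth.Statements.S7099
import Groth.Agent.CAlgH3.RGam.RHomLoc
import Groth.Agent.DCat.DTenTriple
-- import your own Groth.Agent.* helpers here

set_option autoImplicit false
universe u
attribute [local instance] HasDerivedCategory.standard
open CategoryTheory
open DRing

namespace Groth.Agent.S7099

/-- Let A be a commutative ring, f and g elements of A, and K an object of D(A). Assuming the derived
functors RHom_A(A_f, −), RHom_A(A_g, −) and RHom_A(A_{fg}, −) (total right derived functors of the
Hom complexes out of the localizations placed in degree 0) exist, RHom_A(A_f, RHom_A(A_g, K)) is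
isomorphic in D(A) to RHom_A(A_{fg}, K). (Existence of an isomorphism only.) -/
theorem result {A : Type u} [CommRing A] (f g : A)
    [DRing.HasRHomCx ((HomologicalComplex.single (ModuleCat.{u} A) (ComplexShape.up ℤ) 0).obj
      (ModuleCat.of A (Localization.Away f)))]
    [DRing.HasRHomCx ((HomologicalComplex.single (ModuleCat.{u} A) (ComplexShape.up ℤ) 0).obj
      (ModuleCat.of A (Localization.Away g)))]
    [DRing.HasRHomCx ((HomologicalComplex.single (ModuleCat.{u} A) (ComplexShape.up ℤ) 0).obj
      (ModuleCat.of A (Localization.Away (f * g))))]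
    (K : Dual.D A) :
    Nonempty ((DRing.RHomCx ((HomologicalComplex.single (ModuleCat.{u} A) (ComplexShape.up ℤ) 0).obj
        (ModuleCat.of A (Localization.Away f)))).obj
      ((DRing.RHomCx ((HomologicalComplex.single (ModuleCat.{u} A) (ComplexShape.up ℤ) 0).obj
        (ModuleCat.of A (Localization.Away g)))).obj K) ≅
      (DRing.RHomCx ((HomologicalComplex.single (ModuleCat.{u} A) (ComplexShape.up ℤ) 0).obj
        (ModuleCat.of A (Localization.Away (f * g))))).obj K) := by
  haveI := Groth.Agent.DCat.hasLTen A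
  haveI := Groth.Agent.DCat.hasLTen₃ A
  haveI := Groth.Agent.DCat.hasRHom (A := A)
  let S := fun h : A => (HomologicalComplex.single (ModuleCat.{u} A) (ComplexShape.up ℤ) 0).obj
    (ModuleCat.of A (Localization.Away h))
  obtain ⟨θf⟩ := Groth.Agent.CAlgH3.RGam.nonempty_RHomCx_iso_RHomR (S f)
  obtain ⟨θg⟩ := Groth.Agent.CAlgH3.RGam.nonempty_RHomCx_iso_RHomR (S g)
  obtain ⟨θh⟩ := Groth.Agent.CAlgH3.RGam.nonempty_RHomCx_iso_RHomR (S (f * g))
  obtain ⟨e⟩ := Groth.Agent.CAlgH3.RGam.nonempty_RHom_away_mul f g K
  exact ⟨θf.app _ ≪≫ (DTen.RHomR A _).mapIso (θg.app K) ≪≫ e ≪≫ (θh.app K).symm⟩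


end Groth.Agent.S7099
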