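import Groth.Statements.S7101
import Groth.Agent.CAlgH3.RGam.RHomBridge
-- import your own Groth.Agent.* helpers here

set_option autoImplicit false
universe u
attribute [local instance] HasDerivedCategory.standard
open CategoryTheory
open DRing

namespace Groth.Agent.S7101

/-- Let A be a commutative ring and I a finitely generated ideal; assume the derived completion functor
exists and, for a cochain complex K of A-modules, that RHom_A(K, −) exists as the total right
derived functor of Hom•(K, −). Then for every L in D(A), with L^ the derived completion of L, the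
object RHom_A(K, L^) is the derived completion of RHom_A(K, L) through the map RHom_A(K, L) →
RHom_A(K, L^) induced by the canonical morphism L → L^: RHom_A(K, L^) is derived complete with
respect to I, and every morphism from RHom_A(K, L) to a derived complete object of D(A) factors
uniquely through that map. -/
theorem result {A : Type u} [CommRing A] (I : Ideal A) (hI : I.FG) [DRing.HasDerivedCompletion I]
    (K : DRing.Cx A) [DRing.HasRHomCx K] (L : Dual.D A) :
    DRing.IsDerivedComplete I ((DRing.RHomCx K).obj ((DRing.derivedCompletion I).obj L).obj) ∧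
      ∀ E : Dual.D A, DRing.IsDerivedComplete I E →
        Function.Bijective (fun φ : (DRing.RHomCx K).obj ((DRing.derivedCompletion I).obj L).obj ⟶ E =>
          (DRing.RHomCx K).map (DRing.toDerivedCompletion I L) ≫ φ) := by
  haveI := Groth.Agent.DCat.hasLTen A
  haveI := Groth.Agent.DCat.hasRHom (A := A)
  obtain ⟨θ⟩ := Groth.Agent.CAlgH3.RGam.nonempty_RHomCx_iso_RHomR K
  let Q := DerivedCategory.Q.obj K
  have hL := ((DRing.derivedCompletion I).obj L).property
  have h1 : DRing.IsDerivedComplete I ((DRing.RHomCx K).obj ((DRing.derivedCompletion I).obj L).obj) :=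
    fun f hf n => haveI := Groth.Agent.CAlgH3.RGam.isDerivedComplete_RHomR Q hL f hf n
      (Iso.homCongr (Iso.refl _) ((shiftFunctor (Dual.D A) n).mapIso (θ.app _))).subsingleton
  have e : θ.hom.app L ≫ (DTen.RHomR A Q).map (DRing.toDerivedCompletion I L) ≫ θ.inv.app _ =
      (DRing.RHomCx K).map (DRing.toDerivedCompletion I L) := by
    rw [θ.inv.naturality, θ.hom_inv_id_app_assoc]
  have h2 : Groth.Agent.CAlgH3.RGam.CIso I ((DRing.RHomCx K).map (DRing.toDerivedCompletion I L)) :=
    e ▸ (Groth.Agent.CAlgH3.RGam.cIso_of_isIso _).comp
      ((Groth.Agent.CAlgH3.RGam.cIso_RHomR_toDerivedCompletion hI Q L).comp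
        (Groth.Agent.CAlgH3.RGam.cIso_of_isIso _))
  exact ⟨h1, h2⟩


end Groth.Agent.S7101
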