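import Groth.Statements.S7102
import Groth.Agent.DualLib.TorAmpOps
import Groth.Agent.DualLib.SurjTensorGen
import Groth.Agent.DCat.DTenEval
import Groth.Agent.DRingLib.PCRes

set_option autoImplicit false
universe u
attribute [local instance] HasDerivedCategory.standard
open Dual2

namespace Groth.Agent.S7102

/-- Let R → A be a flat homomorphism of finite presentation of commutative rings, E a bounded cochain
complex of finite projective A-modules (a perfect object of D(A)) for which the derived functor −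
⊗^L_A E exists, and M an R-perfect object of D(A). Then M ⊗^L_A E is R-perfect. -/
theorem result (R A : Type u) [CommRing R] [CommRing A] [Algebra R A]
    [Module.Flat R A] [Algebra.FinitePresentation R A] (E : DRing.Cx A) (a b : ℤ)
    (hEb : DRing.VanishesOutside E a b) (hEp : DRing.TermwiseFiniteProjective E) [DRing.HasLTensorCx A E]
    (M : Dual.D A) (hM : Dual2.IsRelPerfect R A M) :
    Dual2.IsRelPerfect R A ((DRing.LTensorCx A E).obj M) := by
  open Groth.Agent CategoryTheory CategoryTheory.Limits CategoryTheory.Pretriangulated CategoryTheory.MonoidalCategory in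
  haveI := DCat.hasLTen A
  let F := DRing.restrictD (algebraMap R A)
  let G := (DTen.LTen A).obj M
  have key : ∀ Z : Dual.D A, DRing.IsPerfect A Z → Dual2.IsRelPerfect R A (G.obj Z) := fun Z hZ => by
    refine DCat.devissage (fun Z => Dual2.IsRelPerfect R A (G.obj Z)) ?_ ?_ ?_ ?_ hZ
    · exact fun e h => ⟨DRingLib.pc'_iff.2 fun m => DRingLib.pc_iso (G.mapIso e) (DRingLib.pc_of_pc' h.1 m),
        DualLib.TorAmpOps.finTor_iso (F.mapIso (G.mapIso e)) h.2⟩
    · intro T hT h₁ h₂ _ _
      obtain ⟨δ, hδ⟩ := DCat.mapsTri_tensorLeft M T hT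
      exact ⟨DRingLib.pc'_iff.2 fun m => DRingLib.pc_cone hδ (DRingLib.pc_of_pc' h₁.1 (m + 1)) (DRingLib.pc_of_pc' h₂.1 m),
        DualLib.TorAmpOps.finTor_cone (F.map_distinguished _ hδ) h₁.2 h₂.2⟩
    · exact fun r h => ⟨DRingLib.pc'_iff.2 fun m => DRingLib.pc_retract (r.map G) (DRingLib.pc_of_pc' h.1 m),
        DualLib.TorAmpOps.finTor_retract ((r.map G).map F) h.2⟩
    · intro n
      obtain ⟨K, hK, ⟨eK⟩⟩ := DCat.exists_kflat_obj M
      haveI := DCat.isIso_ε_of_left (L := DCat.unitShift A n) hK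
      let e : G.obj (DerivedCategory.Q.obj (DCat.unitShift A n)) ≅ M⟦-n⟧ :=
        (DTen.LTen₂ A).mapIso (Iso.prod eK.symm (Iso.refl _)) ≪≫ asIso ((DTen.ε A).app (K, DCat.unitShift A n)) ≪≫
          DerivedCategory.Q.mapIso ((DualLib.SurjT.rightShiftIso n).app K) ≪≫
          (DerivedCategory.Q.commShiftIso (-n)).app K ≪≫ (shiftFunctor (Dual.D A) (-n)).mapIso eK
      exact ⟨DRingLib.pc'_iff.2 fun m => DRingLib.pc_iso e.symm
          (DRingLib.pc_shift (DRingLib.pc_of_pc' hM.1 (-n + m)) (-n) m rfl),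
        DualLib.TorAmpOps.finTor_iso ((F.commShiftIso (-n)).app M).symm
          (DualLib.TorAmpOps.finTor_shift hM.2 (-n)) |> DualLib.TorAmpOps.finTor_iso (F.mapIso e.symm)⟩
  haveI := DualLib.SurjT.isIso_toLTensorCx (P := A) E
  let eE := (asIso (DTen.toLTensorCx A E)).app M
  have h := key (DerivedCategory.Q.obj E) ⟨E, a, b, hEb, hEp, ⟨Iso.refl _⟩⟩
  exact ⟨DRingLib.pc'_iff.2 fun m => DRingLib.pc_iso eE (DRingLib.pc_of_pc' h.1 m),
    DualLib.TorAmpOps.finTor_iso (F.mapIso eE) h.2⟩

end Groth.Agent.S7102
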