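import Groth.Statements.S7104
import Groth.Agent.DualLib.LocalFibre
import Groth.Agent.FlatCx12.AmpThickRing
import Groth.Agent.DCat.LTensorModule

set_option autoImplicit false
universe u
attribute [local instance] HasDerivedCategory.standard
open CategoryTheory
open Dual2

namespace Groth.Agent.S7104

/-- Let R be a commutative ring and A an R-algebra which is flat, of finite presentation, and a quotient
of the polynomial ring R[x_1, …, x_d]. Let q be a prime of A lying over the prime p of R, and K a
pseudo-coherent object of D(A). Write K_q for the derived base change of K to A_q (assumed to exist)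
and view it in D(R_p) and in D(R) by restriction of scalars. If the cohomology of K_q ⊗^L_{R_p} κ(p)
(derived tensor with the residue field, assumed to exist) vanishes outside the degrees in [a, b],
then K_q has tor amplitude in [a - d, b] as a complex of R-modules. -/
theorem result (R A : Type u) [CommRing R] [CommRing A] [Algebra R A]
    [Module.Flat R A] [Algebra.FinitePresentation R A] (d : ℕ)
    (ψ : MvPolynomial (Fin d) R →ₐ[R] A) (hψ : Function.Surjective ψ)
    (q : Ideal A) [q.IsPrime] (p : Ideal R) [p.IsPrime] (hpq : p = Ideal.comap (algebraMap R A) q)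
    [DRing.HasLBaseChange (algebraMap A (Localization.AtPrime q))]
    [DRing.HasLTensor (Localization.AtPrime p) (ModuleCat.of (Localization.AtPrime p) p.ResidueField)]
    (K : Dual.D A) (hK : DRing.IsPseudoCoherent' A K) (a b : ℤ)
    (hfib : ∀ i : ℤ, i < a ∨ b < i → Subsingleton (Dual.HD (Localization.AtPrime p)
      ((DRing.LTensor (Localization.AtPrime p) (ModuleCat.of (Localization.AtPrime p) p.ResidueField)).obj
        ((DRing.restrictD (Localization.localRingHom p q (algebraMap R A) hpq)).obj
          ((DRing.LBaseChange (algebraMap A (Localization.AtPrime q))).obj K))) i)) :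
    DRing.HasTorAmplitudeIn R (a - d) b
      ((DRing.restrictD (algebraMap R (Localization.AtPrime q))).obj
        ((DRing.LBaseChange (algebraMap A (Localization.AtPrime q))).obj K)) := by
  open Groth.Agent CategoryTheory.Limits in
  obtain ⟨P, c, hPc, hPf, ⟨e⟩⟩ := hK
  subst hpq
  let Rp := Localization.AtPrime (Ideal.comap (algebraMap R A) q)
  let L := Localization.AtPrime q
  let φ : A →+* L := algebraMap A L
  let σ : Rp →+* L := Localization.localRingHom (Ideal.comap (algebraMap R A) q) q (algebraMap R A) rfl
  have hσ : σ.comp (algebraMap R Rp) = φ.comp (algebraMap R A) :=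
    RingHom.ext fun r => Localization.localRingHom_to_map _ _ _ rfl r
  have hφ : letI := φ.toAlgebra; IsLocalization.AtPrime L q := by
    show @IsLocalization _ _ q.primeCompl L _ φ.toAlgebra
    rw [show φ.toAlgebra = (inferInstance : Algebra A L) from Algebra.algebra_ext _ _ fun _ => rfl]
    infer_instance
  have hkA : DCat.IsKFlatFor (DCat.modT A) P :=
    DCat.isKFlatFor_of_vanishesAbove _ c hPc fun i => haveI := (hPf i).2; inferInstance
  let C₂ := ((ModuleCat.extendScalars.{u, u, u} φ).mapHomologicalComplex (ComplexShape.up ℤ)).obj P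
  let C := (DRing.restrictCx σ).obj C₂
  let e₂ : DRing.toD C₂ ≅ (DRing.LBaseChange φ).obj K :=
    (DCat.lbaseChangeIso φ hkA).symm ≪≫ (DRing.LBaseChange φ).mapIso e
  let eC : DRing.toD C ≅ (DRing.restrictD σ).obj ((DRing.LBaseChange φ).obj K) :=
    ((ModuleCat.restrictScalars.{u} σ).mapDerivedCategoryFactors.app C₂).symm ≪≫ (DRing.restrictD σ).mapIso e₂
  have hCf : ∀ i, Module.Flat Rp (C.X i) := fun i => by
    haveI : Module.Flat R L := Module.Flat.trans R A L
    letI := σ.toAlgebra
    haveI : IsScalarTower R Rp L := IsScalarTower.of_algebraMap_eq fun r => (IsScalarTower.algebraMap_apply R A L r).trans (RingHom.congr_fun hσ r).symm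
    haveI : Module.Flat Rp L :=
      (Module.flat_iff_of_isLocalization Rp (Ideal.comap (algebraMap R A) q).primeCompl L).2 inferInstance
    haveI := (hPf i).2
    haveI : Module.Flat L (C₂.X i) := by
      letI := φ.toAlgebra
      haveI : Module.Free L (C₂.X i) := Module.Free.of_basis ((Module.Free.chooseBasis A (P.X i)).baseChange L)
      infer_instance
    exact FlatCx12.AmpThickRing.flat_restrict (RingHom.flat_algebraMap_iff.2 ‹Module.Flat Rp L›) (C₂.X i)
  have hkC : DCat.IsKFlatFor (DCat.modT Rp) C := DCat.isKFlatFor_of_vanishesAbove _ c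
    (fun i hi => (ModuleCat.restrictScalars σ).map_isZero ((ModuleCat.extendScalars φ).map_isZero (hPc i hi))) hCf
  have hres : ∀ i, i < a ∨ b < i →
      (DRing.tensorCx C (ModuleCat.of Rp (IsLocalRing.ResidueField Rp))).ExactAt i := fun i hi =>
    (@DCat.isZero_ltensor_iff Rp _ _ (DCat.hasLTensor _) _ hkC _ eC i).1
      (haveI := hfib i hi; ModuleCat.isZero_of_subsingleton _)
  -- lower bound
  have hamp := FlatCx12.AmpFibreCx.amp_of_fibre P hPf (le_max_left a c)
    (fun i hi => hPc i (lt_of_le_of_lt (le_max_right _ _) hi)) ⟨q, inferInstance⟩ ⟨q, inferInstance⟩ le_rfl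
    φ hφ σ hσ φ hφ σ hσ (Ideal.comap (algebraMap R A) q).primeCompl
    (fun i hi N hN => DualLib.LocalFibre.exactAt_of_residue C i (hres i (Or.inl hi)) N (by
      rwa [← Localization.AtPrime.map_eq_maximalIdeal]))
  -- upper bound
  have habove : ∀ i, b < i → C.ExactAt i := fun i hi => by
    suffices h2 : C₂.ExactAt i from h2.map (ModuleCat.restrictScalars σ)
    refine DualLib.LocalFibre.exactAt_above ((IsLocalRing.maximalIdeal Rp).map σ) ?_ C₂ (fun j => ?_)
      (fun j hj => (ModuleCat.extendScalars φ).map_isZero (hPc j hj))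
      (fun j hj x hx => DualLib.LocalFibre.exists_sub_mem σ C₂ j (hres j (Or.inr hj)) x hx) i hi
    · rw [IsLocalRing.jacobson_eq_maximalIdeal ⊥ bot_ne_top]
      exact ((IsLocalRing.local_hom_TFAE σ).out 0 2).1 (Localization.isLocalHom_localRingHom _ _ _ rfl)
    · letI := φ.toAlgebra
      haveI := (hPf j).1
      haveI := (hPf j).2
      exact ⟨Module.Finite.base_change (R := A) (A := L) (M := P.X j),
        Module.Free.of_basis ((Module.Free.chooseBasis A (P.X j)).baseChange L)⟩
  haveI : ∀ M : ModuleCat.{u} Rp, DRing.HasLTensor Rp M := fun M => DCat.hasLTensor M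
  obtain ⟨E, hE, hEf, ⟨eE⟩⟩ : DRing.HasTorAmplitudeIn Rp a b (DRing.toD C) := by
    refine DCat.flatAmp_of_vanish fun N i hi => ?_
    rcases hi with hi | hi
    · exact DCat.vanish_of_flatAmp hamp N (Or.inl hi)
    · obtain ⟨F, hF, hFf, hFb, ⟨eF⟩⟩ := DCat.exists_flat_rep (K := DRing.toD C) (b := b) fun j hj =>
        (DCat.isZero_homology_toD_iff _ _).2 (habove j hj)
      rw [DCat.isZero_ltensor_iff N hF eF, HomologicalComplex.exactAt_iff]
      exact ShortComplex.exact_of_isZero_X₂ _ ((MonoidalCategory.tensorRight N).map_isZero (hFb i hi))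
  let rp := ModuleCat.restrictScalars.{u} (algebraMap R Rp)
  refine ⟨(DRing.restrictCx (algebraMap R Rp)).obj E, fun i hi => rp.map_isZero (hE i (by omega)), fun i => ?_, ⟨?_⟩⟩
  · haveI := hEf i
    exact FlatCx12.AmpThickRing.flat_restrict (RingHom.flat_algebraMap_iff.2 (IsLocalization.flat Rp (Ideal.comap (algebraMap R A) q).primeCompl)) (E.X i)
  · exact (rp.mapDerivedCategoryFactors.app E).symm ≪≫ (DRing.restrictD (algebraMap R Rp)).mapIso eE ≪≫
      rp.mapDerivedCategoryFactors.app C ≪≫
      DerivedCategory.Q.mapIso ((NatIso.mapHomologicalComplex (ModuleCat.restrictScalarsComp' (algebraMap R Rp) σ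
        (algebraMap R L) (hσ.trans (IsScalarTower.algebraMap_eq R A L).symm).symm).symm (ComplexShape.up ℤ)).app C₂) ≪≫
      ((ModuleCat.restrictScalars.{u} (algebraMap R L)).mapDerivedCategoryFactors.app C₂).symm ≪≫
      (DRing.restrictD (algebraMap R L)).mapIso e₂

end Groth.Agent.S7104
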