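import Groth.Statements.S7106
import Groth.Agent.DCat.TwoTermRep

set_option autoImplicit false
set_option backward.isDefEq.respectTransparency false
set_option backward.defeqAttrib.useBackward true
universe u
attribute [local instance] HasDerivedCategory.standard
open CategoryTheory
open DRing

namespace Groth.Agent.S7106

/-- Let R be a commutative ring, M a cochain complex of R-modules with M^i = 0 for i > 0 and M^0
projective, K a cochain complex with K^i = 0 for i outside [-1, 0] and K^0 projective, and a : M → K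
a chain map. Then precomposition with a is the zero map Ext^1_R(K, N) → Ext^1_R(M, N) (morphisms
into N[1] in D(R)) for every R-module N if and only if there is a map h : M^0 → K^{-1} with a^{-1} +
h ∘ d_M^{-1} = 0. (The published statement composes h^0 with the differential K^{-1} → K^0 of K,
which is not defined; this row composes it with the differential M^{-1} → M^0 of M, as the homotopy
in the published proof does.) -/
theorem result {R : Type u} [CommRing R] (M K : DRing.Cx R)
    (hM : ∀ i : ℤ, 0 < i → Limits.IsZero (M.X i)) (hM0 : Module.Projective R (M.X 0))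
    (hK : ∀ i : ℤ, i ≠ -1 → i ≠ 0 → Limits.IsZero (K.X i)) (hK0 : Module.Projective R (K.X 0))
    (a : M ⟶ K) :
    (∀ (N : Type u) [AddCommGroup N] [Module R N] (ξ : DRing.toD K ⟶ (Dual.inD R N)⟦(1 : ℤ)⟧),
        DerivedCategory.Q.map a ≫ ξ = 0) ↔
      ∃ h : M.X 0 ⟶ K.X (-1), a.f (-1) + M.d (-1) 0 ≫ h = 0 := by
  have : CategoryTheory.Projective (ModuleCat.of R (M.X 0)) := inferInstance
  have : CategoryTheory.Projective (M.X 0) := this
  have : CategoryTheory.Projective (ModuleCat.of R (K.X 0)) := inferInstance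
  have : CategoryTheory.Projective (K.X 0) := this
  have hK' : ∀ i, 0 < i → Limits.IsZero (K.X i) := fun i hi => hK i (by omega) (by omega)
  have key : ∀ {N : ModuleCat.{u} R} (g : K ⟶ (CochainComplex.singleFunctor (ModuleCat.{u} R) (-1)).obj N),
      DerivedCategory.Q.map a ≫ DerivedCategory.Q.map g ≫ (DCat.TwoTerm.extIso N).hom = 0 ↔
        ∃ h : M.X 0 ⟶ N, a.f (-1) ≫ (g.f (-1) ≫
          (HomologicalComplex.singleObjXSelf (ComplexShape.up ℤ) (-1) N).hom) = M.d (-1) 0 ≫ h := by
    intro N g
    rw [← Category.assoc, ← CategoryTheory.Functor.map_comp, DCat.TwoTerm.ext_eq_zero_iff hM]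
    simp only [HomologicalComplex.comp_f, Category.assoc]
  constructor
  · intro H
    obtain ⟨g, hg⟩ := DCat.TwoTerm.exists_hom_single hK' (𝟙 (K.X (-1)))
      ((hK (-2) (by omega) (by omega)).eq_of_src _ _)
    obtain ⟨h, hh⟩ := (key g).1 (H (K.X (-1)) (DerivedCategory.Q.map g ≫ (DCat.TwoTerm.extIso _).hom))
    rw [hg, Category.comp_id] at hh
    exact ⟨-h, by rw [hh, Preadditive.comp_neg, add_neg_cancel]⟩
  · rintro ⟨h, hh⟩ N _ _ ξ
    obtain ⟨g, rfl⟩ := DCat.TwoTerm.exists_ext hK' ξ
    refine (key g).2 ⟨-h ≫ g.f (-1) ≫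
      (HomologicalComplex.singleObjXSelf (ComplexShape.up ℤ) (-1) (ModuleCat.of R N)).hom, ?_⟩
    rw [eq_neg_of_add_eq_zero_left hh]
    simp


end Groth.Agent.S7106
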