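import Mathlib.LinearAlgebra.Finsupp.LinearCombination
import Mathlib.LinearAlgebra.Prod
import Mathlib.Algebra.Module.Equiv.Basic
import Groth.Agent.CAlgMisc1.Imports

set_option autoImplicit false
universe u
namespace CAlg
end CAlg
open CAlg

namespace Groth.Agent.S7107

/-- Let R be a ring and P, Q modules such that P ⊕ Q is isomorphic to a free module F on an infinite
basis. Then P ⊕ F is isomorphic to F. -/
theorem result (R : Type u) [CommRing R] (P Q : Type u) [AddCommGroup P] [Module R P]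
    [AddCommGroup Q] [Module R Q] (ι : Type u) [Infinite ι] (e : (P × Q) ≃ₗ[R] (ι →₀ R)) :
    Nonempty ((P × (ι →₀ R)) ≃ₗ[R] (ι →₀ R)) := by
  obtain ⟨f⟩ := Groth.Agent.CAlgMisc1.swindle e
  obtain ⟨g⟩ : Nonempty (ι × ℕ ≃ ι) := by
    rw [← Cardinal.eq, Cardinal.mk_prod, Cardinal.lift_id', Cardinal.mk_nat, Cardinal.lift_aleph0]
    exact Cardinal.mul_eq_left (Cardinal.aleph0_le_mk ι) (Cardinal.aleph0_le_mk ι) Cardinal.aleph0_ne_zero
  let E : ((ι × ℕ) →₀ R) ≃ₗ[R] (ι →₀ R) := Finsupp.domLCongr g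
  exact ⟨((LinearEquiv.refl R P).prodCongr E.symm).trans (f.trans E)⟩

end Groth.Agent.S7107
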