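import Mathlib.Algebra.Module.Projective
import Mathlib.LinearAlgebra.FreeModule.Basic
import Mathlib.LinearAlgebra.Finsupp.VectorSpace
import Groth.Agent.CAlgMisc1.Imports

set_option autoImplicit false
universe u
namespace CAlg
end CAlg
open CAlg

namespace Groth.Agent.S7108

/-- Every projective module P over a ring R becomes free after adding a suitable free module: P ⊕ F is
free for some free module F (here F is the free module on some index type). -/
theorem result (R : Type u) [CommRing R] (P : Type u) [AddCommGroup P]
    [Module R P] [Module.Projective R P] : ∃ ι : Type u, Module.Free R (P × (ι →₀ R)) := by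
  classical
  refine ⟨(P × ℕ) × ℕ, ?_⟩
  let π : ((P × ℕ) →₀ R) →ₗ[R] P := Finsupp.linearCombination R Prod.fst
  have hπ : Function.Surjective π := fun p => ⟨Finsupp.single (p, 0) 1, by simp [π]⟩
  obtain ⟨s, hs⟩ := Module.projective_lifting_property π LinearMap.id hπ
  let Q : Submodule R ((P × ℕ) →₀ R) := LinearMap.ker π
  let _ : AddCommGroup Q := Submodule.addCommGroup Q
  let c : ((P × ℕ) →₀ R) →ₗ[R] Q := (LinearMap.id - s ∘ₗ π).codRestrict Q fun z => by
    show π (z - s (π z)) = 0
    rw [map_sub, ← LinearMap.comp_apply π s, hs, LinearMap.id_apply, sub_self]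
  let e : (P × Q) ≃ₗ[R] ((P × ℕ) →₀ R) := LinearEquiv.ofLinearMap (s.coprod Q.subtype) (π.prod c)
    (LinearMap.ext fun z => by simp [c])
    (LinearMap.ext fun z => by
      obtain ⟨p, ⟨q, hq⟩⟩ := z
      have h1 : π (s p) = p := LinearMap.congr_fun hs p
      have h2 : π q = 0 := hq
      ext <;> simp [c, h1, h2])
  obtain ⟨f⟩ := Groth.Agent.CAlgMisc1.swindle e
  exact Module.Free.of_equiv f.symm

end Groth.Agent.S7108
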