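import Mathlib.Algebra.Module.Projective
import Mathlib.LinearAlgebra.FreeModule.Basic
import Mathlib.RingTheory.Finiteness.Defs
import Mathlib.LinearAlgebra.Prod
import Mathlib.Order.Disjoint
import Groth.Agent.CAlgMisc1.Imports

set_option autoImplicit false
universe u
namespace CAlg
end CAlg
open CAlg

namespace Groth.Agent.S7109

/-- Let P be a projective module over a ring R and s an element of P. Then there are a finite free
module R^n and a direct summand K of R^n ⊕ P which is finite free and contains (0, s). -/
theorem result (R : Type u) [CommRing R] (P : Type u) [AddCommGroup P]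
    [Module R P] [Module.Projective R P] (s : P) :
    ∃ (n : ℕ) (K K' : Submodule R ((Fin n → R) × P)), IsCompl K K' ∧ Module.Free R K ∧ Module.Finite R K ∧
      ((0, s) : (Fin n → R) × P) ∈ K := by
  classical
  let π : (P →₀ R) →ₗ[R] P := Finsupp.linearCombination R id
  obtain ⟨i, hi⟩ := Module.projective_lifting_property π LinearMap.id
    (Finsupp.linearCombination_id_surjective R P)
  let T := (i s).support
  let e := Finsupp.linearEquivFunOnFinite R R T
  let ext' : (Fin T.card → R) →ₗ[R] (P →₀ R) :=
    Finsupp.lmapDomain R R ((↑) : T → P) ∘ₗ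
      (Finsupp.linearEquivFunOnFinite R R T).symm.toLinearMap ∘ₗ LinearMap.funLeft R R T.equivFin
  let res : (P →₀ R) →ₗ[R] (Fin T.card → R) :=
    LinearMap.funLeft R R T.equivFin.symm ∘ₗ (Finsupp.linearEquivFunOnFinite R R T).toLinearMap ∘ₗ
      Finsupp.lcomapDomain ((↑) : T → P) Subtype.val_injective
  have hres : ∀ a, res (ext' a) = a := fun a => by
    ext k
    simp [res, ext', Finsupp.comapDomain_apply, Finsupp.mapDomain_apply Subtype.val_injective]
  have his : ext' (res (i s)) = i s := by
    ext z
    by_cases hz : z ∈ T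
    · simp [res, ext', Finsupp.comapDomain_apply]
      rw [show z = ((⟨z, hz⟩ : T) : P) from rfl, Finsupp.mapDomain_apply Subtype.val_injective]
      simp
    · simp [ext']
      rw [Finsupp.mapDomain_of_notMem_range _ _ (by simpa using hz)]
      simpa [T, eq_comm] using hz
  let ψ : (Fin T.card → R) →ₗ[R] (Fin T.card → R) × P :=
    (LinearMap.id - res ∘ₗ i ∘ₗ π ∘ₗ ext').prod (π ∘ₗ ext')
  let ρ : (Fin T.card → R) × P →ₗ[R] (Fin T.card → R) := LinearMap.id.coprod (res ∘ₗ i)
  have hρψ : ∀ a, ρ (ψ a) = a := fun a => by simp [ρ, ψ]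
  have hinj : Function.Injective ψ := Function.LeftInverse.injective hρψ
  refine ⟨T.card, LinearMap.range ψ, LinearMap.ker ρ, ?_,
    Module.Free.of_equiv (LinearEquiv.ofInjective ψ hinj),
    Module.Finite.equiv (LinearEquiv.ofInjective ψ hinj), res (i s), ?_⟩
  · exact LinearMap.isCompl_of_proj (f := ψ.rangeRestrict ∘ₗ ρ) (fun z => by
      obtain ⟨_, a, rfl⟩ := z
      exact Subtype.ext (congrArg ψ (hρψ a))) |> fun h => by
        rwa [LinearMap.ker_comp_of_ker_eq_bot _ (by
          rw [LinearMap.ker_rangeRestrict]; exact LinearMap.ker_eq_bot.2 hinj)] at h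
  · have h1 : π (i s) = s := LinearMap.congr_fun hi s
    simp [ψ, his, h1]

end Groth.Agent.S7109
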