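import Mathlib.Algebra.Module.Projective
import Mathlib.RingTheory.Jacobson.Ideal
import Mathlib.RingTheory.Noetherian.Defs
import Mathlib.Algebra.Module.LocalizedModule.Basic
import Mathlib.RingTheory.Localization.AtPrime.Basic
import Mathlib.RingTheory.Finiteness.Defs
import Mathlib.RingTheory.Ideal.Quotient.Basic
import Mathlib.LinearAlgebra.Span.Defs
import Groth.Agent.CAlgMisc2.BigProjective

set_option autoImplicit false
universe u
namespace CAlg
end CAlg
open CAlg

namespace Groth.Agent.S7110

/-- Let R be a ring whose quotient by its Jacobson radical is Noetherian, P a projective R-module such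
that for every maximal ideal m the localization P_m is not finitely generated over R_m (P has
infinite rank everywhere), s an element of P and M a submodule with Rs + M = P. Then for some m in M
the element s + m spans a free direct summand of P of rank one: there is a linear form φ on P with
φ(s + m) = 1. (Rank one is meant: the zero submodule does not count.) -/
theorem result (R : Type u) [CommRing R]
    [IsNoetherianRing (R ⧸ (⊥ : Ideal R).jacobson)]
    (P : Type u) [AddCommGroup P] [Module R P] [Module.Projective R P]
    (hP : ∀ (m : Ideal R) [m.IsMaximal],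
      ¬ Module.Finite (Localization.AtPrime m) (LocalizedModule m.primeCompl P))
    (s : P) (M : Submodule R P) (hM : Submodule.span R {s} ⊔ M = ⊤) :
    ∃ m ∈ M, ∃ φ : P →ₗ[R] R, φ (s + m) = 1 := by
  obtain ⟨c, hc⟩ := CAlgMisc2.exists_coords (R := R) (P := P)
  obtain ⟨μ, hμ, l, -, hl⟩ := CAlgMisc2.exists_unimodular_add ⊤ s M hM (fun m hm N hN => by
    obtain ⟨y, -, hy⟩ := CAlgMisc2.infRank_id hP m hm N hN
    refine ⟨y, fun n hn => ?_⟩
    by_contra hcon
    push Not at hcon
    apply hy
    have hz := CAlgMisc2.mem_of_coords_mem hc ∅ m (y - n) fun p _ => hcon ((Finsupp.lapply p) ∘ₗ c) trivial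
    rw [Finset.coe_empty, Submodule.span_empty, bot_sup_eq] at hz
    rw [← sub_add_cancel y n]
    exact add_mem (Submodule.mem_sup_right hz) (Submodule.mem_sup_left hn))
  exact ⟨μ, hμ, l, hl⟩

end Groth.Agent.S7110
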