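import Mathlib.Algebra.Module.Projective
import Mathlib.RingTheory.Jacobson.Ideal
import Mathlib.RingTheory.Noetherian.Defs
import Mathlib.Algebra.Module.LocalizedModule.Basic
import Mathlib.RingTheory.Localization.AtPrime.Basic
import Mathlib.RingTheory.Finiteness.Defs
import Mathlib.RingTheory.Ideal.Quotient.Basic
import Mathlib.Algebra.Module.StablyFree.Basic
import Mathlib.Order.Disjoint
import Groth.Agent.CAlgMisc2.BigProjective

set_option autoImplicit false
universe u
namespace CAlg
end CAlg
open CAlg

namespace Groth.Agent.S7111

/-- Let R be a ring whose quotient by its Jacobson radical is Noetherian and P a projective R-module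
such that for every maximal ideal m the localization P_m is not finitely generated over R_m (P has
infinite rank everywhere). Then every element s of P lies in a direct summand of P which is a finite
stably free module. -/
theorem result (R : Type u) [CommRing R]
    [IsNoetherianRing (R ⧸ (⊥ : Ideal R).jacobson)]
    (P : Type u) [AddCommGroup P] [Module R P] [Module.Projective R P]
    (hP : ∀ (m : Ideal R) [m.IsMaximal],
      ¬ Module.Finite (Localization.AtPrime m) (LocalizedModule m.primeCompl P))
    (s : P) :
    ∃ (K K' : Submodule R P), IsCompl K K' ∧ Module.Finite R K ∧ Module.IsStablyFree R K ∧ s ∈ K := by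
  obtain ⟨k, ι, π, h1, -, -, h4⟩ := CAlgMisc2.exists_free_containing (q := LinearMap.id) (fun _ => rfl)
    (CAlgMisc2.infRank_id hP) s
  let e := LinearEquiv.ofInjective ι (fun a b h => by rw [← h1 a, ← h1 b, h])
  haveI : Module.Free R (LinearMap.range ι) := Module.Free.of_equiv e
  refine ⟨LinearMap.range ι, LinearMap.ker π, ⟨?_, ?_⟩, Module.Finite.equiv e, inferInstance, ⟨π s, h4⟩⟩
  · rw [Submodule.disjoint_def]
    rintro _ ⟨v, rfl⟩ hv
    rw [LinearMap.mem_ker, h1] at hv
    rw [hv, map_zero]
  · rw [codisjoint_iff, eq_top_iff]
    intro x _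
    rw [← add_sub_cancel (ι (π x)) x]
    exact Submodule.add_mem_sup ⟨_, rfl⟩ (by simp [h1])

end Groth.Agent.S7111
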