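import Mathlib.Algebra.Module.Projective
import Mathlib.RingTheory.Jacobson.Ideal
import Mathlib.RingTheory.Noetherian.Defs
import Mathlib.Algebra.Module.LocalizedModule.Basic
import Mathlib.RingTheory.Localization.AtPrime.Basic
import Mathlib.RingTheory.Finiteness.Defs
import Mathlib.RingTheory.Ideal.Quotient.Basic
import Groth.Prelude.Def_Found
import Mathlib.LinearAlgebra.FreeModule.Basic
import Groth.Agent.CAlgMisc2.BigProjective

set_option autoImplicit false
universe u
namespace CAlg
end CAlg
open CAlg

namespace Groth.Agent.S7112

/-- Commutative case of a result of Bass: let R be a ring whose quotient by its Jacobson radical is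
Noetherian and P a countably generated projective R-module such that for every maximal ideal m the
localization P_m is not finitely generated over R_m (P has infinite rank everywhere). Then P is
free. -/
theorem result (R : Type u) [CommRing R]
    [IsNoetherianRing (R ⧸ (⊥ : Ideal R).jacobson)]
    (P : Type u) [AddCommGroup P] [Module R P] [Module.Projective R P]
    (hP : ∀ (m : Ideal R) [m.IsMaximal],
      ¬ Module.Finite (Localization.AtPrime m) (LocalizedModule m.primeCompl P))
    (hc : CAlg.IsCountablyGenerated R P) : Module.Free R P := by
  obtain ⟨t, htc, hts⟩ := hc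
  obtain ⟨g, hg⟩ := (htc.insert 0).exists_eq_range (Set.insert_nonempty 0 t)
  refine CAlgMisc2.free_of_countable (CAlgMisc2.infRank_id hP) g (eq_top_iff.2 ?_)
  rw [← hts, ← hg]
  exact Submodule.span_mono (Set.subset_insert 0 t)

end Groth.Agent.S7112
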