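import Mathlib.RingTheory.KrullDimension.Basic
import Mathlib.RingTheory.Ideal.MinimalPrime.Basic
import Mathlib.RingTheory.Length
import Mathlib.RingTheory.Ideal.Quotient.Operations
import Mathlib.RingTheory.Noetherian.Defs
import Mathlib.RingTheory.LocalRing.MaximalIdeal.Basic
import Mathlib.Algebra.GroupWithZero.NonZeroDivisors
import Mathlib

set_option autoImplicit false
universe u
namespace CAlg
end CAlg
open CAlg

namespace Groth.Agent.S7114

/-- Let R be a Noetherian local ring of Krull dimension one and x an element of the maximal ideal lying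
in no minimal prime of R. Then for every n the length of R/xⁿR is at most n times the length of
R/xR, and equality holds when x is a nonzerodivisor. -/
theorem result (R : Type u) [CommRing R] [IsNoetherianRing R] [IsLocalRing R]
    (hdim : ringKrullDim R = 1) (x : R) (hx : x ∈ IsLocalRing.maximalIdeal R)
    (hmin : ∀ p ∈ minimalPrimes R, x ∉ p) (n : ℕ) :
    Module.length R (R ⧸ Ideal.span {x ^ n}) ≤ (n : ℕ∞) * Module.length R (R ⧸ Ideal.span {x}) ∧
      (x ∈ nonZeroDivisors R →
        Module.length R (R ⧸ Ideal.span {x ^ n}) = (n : ℕ∞) * Module.length R (R ⧸ Ideal.span {x})) := by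
  have hstep : ∀ k : ℕ, Module.length R (R ⧸ Ideal.span {x ^ (k + 1)}) ≤
      Module.length R (R ⧸ Ideal.span {x}) + Module.length R (R ⧸ Ideal.span {x ^ k}) ∧
      (x ∈ nonZeroDivisors R → Module.length R (R ⧸ Ideal.span {x ^ (k + 1)}) =
        Module.length R (R ⧸ Ideal.span {x}) + Module.length R (R ⧸ Ideal.span {x ^ k})) := by
    intro k
    have hle : Ideal.span {x ^ (k + 1)} ≤ Ideal.span {x ^ k} :=
      Ideal.span_singleton_le_span_singleton.2 (pow_dvd_pow x k.le_succ)
    let g : (R ⧸ Ideal.span {x ^ (k + 1)}) →ₗ[R] R ⧸ Ideal.span {x ^ k} := Submodule.factor hle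
    let f : (R ⧸ Ideal.span {x}) →ₗ[R] R ⧸ Ideal.span {x ^ (k + 1)} :=
      Submodule.mapQ _ _ (LinearMap.mulLeft R (x ^ k)) (by
        rw [Ideal.submodule_span_eq.symm, Submodule.span_le]
        rintro _ rfl
        exact Ideal.mem_span_singleton.2 ⟨1, by simp [pow_succ]⟩)
    have hfmk : ∀ r, f (Ideal.Quotient.mk _ r) = Ideal.Quotient.mk _ (x ^ k * r) := fun r => rfl
    have hgmk : ∀ r, g (Ideal.Quotient.mk _ r) = Ideal.Quotient.mk _ r := fun r => rfl
    have hg : Function.Surjective g := Submodule.factor_surjective hle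
    have hex : Function.Exact f g := by
      intro y
      obtain ⟨r, rfl⟩ := Ideal.Quotient.mk_surjective y
      rw [hgmk, Ideal.Quotient.eq_zero_iff_mem, Ideal.mem_span_singleton]
      constructor
      · rintro ⟨c, rfl⟩
        exact ⟨Ideal.Quotient.mk _ c, hfmk c⟩
      · rintro ⟨z, hz⟩
        obtain ⟨c, rfl⟩ := Ideal.Quotient.mk_surjective z
        rw [hfmk, Ideal.Quotient.eq, Ideal.mem_span_singleton] at hz
        have := ((pow_dvd_pow x k.le_succ).trans hz)
        exact (dvd_sub_right (dvd_mul_right _ _)).1 this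
    constructor
    · rw [Module.length_eq_add_of_exact (LinearMap.range f).subtype g (Submodule.subtype_injective _) hg
        (by intro y; rw [hex y]; simp)]
      exact add_le_add (Module.length_le_of_surjective f.rangeRestrict f.surjective_rangeRestrict) le_rfl
    · intro hxn
      refine Module.length_eq_add_of_exact f g ?_ hg hex
      rw [injective_iff_map_eq_zero]
      intro z hz
      obtain ⟨c, rfl⟩ := Ideal.Quotient.mk_surjective z
      rw [hfmk, Ideal.Quotient.eq_zero_iff_mem, Ideal.mem_span_singleton] at hz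
      obtain ⟨d, hd⟩ := hz
      rw [Ideal.Quotient.eq_zero_iff_mem, Ideal.mem_span_singleton]
      refine ⟨d, mul_cancel_left_mem_nonZeroDivisors (pow_mem hxn k) |>.1 ?_⟩
      rw [hd, pow_succ]; ring
  induction n with
  | zero =>
    have h0 : Module.length R (R ⧸ Ideal.span {x ^ 0}) = 0 := by
      haveI : Subsingleton (R ⧸ Ideal.span {x ^ 0}) := Ideal.Quotient.subsingleton_iff.2 (by simp)
      exact Module.length_eq_zero
    rw [h0]
    simp
  | succ k ih =>
    constructor
    · refine (hstep k).1.trans ?_
      rw [Nat.cast_succ, add_mul, one_mul, add_comm]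
      exact add_le_add ih.1 le_rfl
    · intro hxn
      rw [(hstep k).2 hxn, ih.2 hxn, Nat.cast_succ, add_mul, one_mul, add_comm]

end Groth.Agent.S7114
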