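import Groth.Statements.S7115
import Mathlib.RingTheory.Ideal.MinimalPrime.Noetherian
-- import your own Groth.Agent.* helpers here

set_option autoImplicit false
set_option linter.all false
universe u
open CAlg

namespace Groth.Agent.S7115

open IsLocalRing

theorem exists_avoid (R : Type u) [CommRing R] [IsNoetherianRing R] [IsLocalRing R] (J : Ideal R) (k : ℕ) :
    ∃ g ∈ maximalIdeal R ^ (k + 1), ∀ Q ∈ J.minimalPrimes, Q ≠ maximalIdeal R → g ∉ Q := by
  classical
  have hfin : J.minimalPrimes.Finite := Ideal.finite_minimalPrimes_of_isNoetherianRing R J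
  let s : Finset (Ideal R) := hfin.toFinset.filter (· ≠ maximalIdeal R)
  have hs : ∀ Q ∈ s, Q.IsPrime := fun Q hQ => (hfin.mem_toFinset.mp (Finset.mem_filter.mp hQ).1).1.1
  by_contra! h
  have hsub : ((maximalIdeal R ^ (k + 1) : Ideal R) : Set R) ⊆ ⋃ Q ∈ (s : Set (Ideal R)), ((id Q : Ideal R) : Set R) := by
    intro g hg
    obtain ⟨Q, h1, h2, h3⟩ := h g hg
    exact Set.mem_biUnion (Finset.mem_coe.mpr (Finset.mem_filter.mpr ⟨hfin.mem_toFinset.mpr h1, h2⟩)) h3
  obtain ⟨Q, hQ, hle⟩ := (Ideal.subset_union_prime ⊥ ⊥ (fun Q hQ _ _ => hs Q hQ)).mp hsub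
  haveI := hs Q hQ
  exact (Finset.mem_filter.mp hQ).2 (le_antisymm (le_maximalIdeal (hs Q hQ).ne_top)
    (Ideal.IsPrime.le_of_pow_le hle))

theorem step (R : Type u) [CommRing R] [IsNoetherianRing R] [IsLocalRing R]
    (d : ℕ) (hd : ringKrullDim R = d) (f : R)
    (hmin : ∀ p ∈ minimalPrimes R, f ∉ p) (k : ℕ) :
    ∀ i : ℕ, ∃ g : Fin i → R, (∀ j, g j ∈ maximalIdeal R ^ (k + 1)) ∧
      ∀ P : PrimeSpectrum R, insert f (Set.range g) ⊆ (P.asIdeal : Set R) → P.asIdeal ≠ maximalIdeal R →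
        ∃ c : ℕ, Order.coheight P = c ∧ c + 1 + i ≤ d := by
  intro i
  induction i with
  | zero =>
    refine ⟨Fin.elim0, fun j => j.elim0, fun P hP _ => ?_⟩
    obtain ⟨q, hq, hqP⟩ := Ideal.exists_minimalPrimes_le (I := ⊥) (J := P.asIdeal) bot_le
    haveI : q.IsPrime := hq.1.1
    have hfq : f ∉ q := hmin q hq
    have hlt : (⟨q, inferInstance⟩ : PrimeSpectrum R) < P :=
      lt_of_le_of_ne hqP fun h => hfq (by
        have := hP (Set.mem_insert f _)
        rw [← h] at this
        exact this)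
    have h1 := (Order.coheight_add_one_le hlt).trans (le_refl _)
    have h2 : Order.coheight (⟨q, inferInstance⟩ : PrimeSpectrum R) ≤ (d : ℕ∞) := by
      rw [← WithBot.coe_le_coe]
      exact (Order.coheight_le_krullDim _).trans hd.le
    have h3 := h1.trans h2
    obtain ⟨c, hc⟩ := ENat.ne_top_iff_exists.mp (show Order.coheight P ≠ ⊤ from fun h => by simp [h] at h3)
    rw [← hc] at h3
    exact ⟨c, hc.symm, by exact_mod_cast h3⟩
  | succ i ih =>
    obtain ⟨g, hg, hgP⟩ := ih
    obtain ⟨a, ha, hav⟩ := exists_avoid R (Ideal.span (insert f (Set.range g))) k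
    refine ⟨Fin.cons a g, fun j => Fin.cases (by simpa using ha) (fun j => by simpa using hg j) j, fun P hP hPm => ?_⟩
    rw [Fin.range_cons, Set.insert_comm, Set.insert_subset_iff] at hP
    obtain ⟨Q, hQ, hQP⟩ := Ideal.exists_minimalPrimes_le (J := P.asIdeal) (Ideal.span_le.mpr hP.2)
    haveI : Q.IsPrime := hQ.1.1
    have hQm : Q ≠ maximalIdeal R := fun h =>
      hPm (le_antisymm (le_maximalIdeal P.isPrime.ne_top) (h ▸ hQP))
    have hlt : (⟨Q, inferInstance⟩ : PrimeSpectrum R) < P :=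
      lt_of_le_of_ne hQP fun h => hav Q hQ hQm (by
        have := hP.1
        rw [← h] at this
        exact this)
    obtain ⟨c, hc, hci⟩ := hgP ⟨Q, inferInstance⟩ (Ideal.subset_span.trans hQ.1.2) hQm
    have h3 := Order.coheight_add_one_le hlt
    rw [hc] at h3
    obtain ⟨c', hc'⟩ := ENat.ne_top_iff_exists.mp (show Order.coheight P ≠ ⊤ from fun h => by simp [h] at h3)
    rw [← hc'] at h3
    have h4 : c' + 1 ≤ c := by exact_mod_cast h3
    exact ⟨c', hc'.symm, by omega⟩


/-- Let R be a Noetherian local ring of Krull dimension d > 1 with maximal ideal m, let f be an element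
of m contained in no minimal prime, and let k be a natural number. Then there are elements g_1, ...,
g_{d-1} of m lying in m^k such that f, g_1, ..., g_{d-1} form a system of parameters: these d
elements of m generate an ideal whose radical is m. -/
theorem result (R : Type u) [CommRing R] [IsNoetherianRing R] [IsLocalRing R]
    (d : ℕ) (hd : ringKrullDim R = d) (h1 : 1 < d) (f : R) (hf : f ∈ IsLocalRing.maximalIdeal R)
    (hmin : ∀ p ∈ minimalPrimes R, f ∉ p) (k : ℕ) :
    ∃ g : Fin (d - 1) → R, (∀ i, g i ∈ IsLocalRing.maximalIdeal R ^ k) ∧ (∀ i, g i ∈ IsLocalRing.maximalIdeal R) ∧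
      IsLocalRing.maximalIdeal R ≤ (Ideal.span (insert f (Set.range g))).radical := by
  obtain ⟨g, hg, hgP⟩ := step R d hd f hmin k (d - 1)
  refine ⟨g, fun i => Ideal.pow_le_pow_right (Nat.le_succ k) (hg i),
    fun i => Ideal.pow_le_self (Nat.succ_ne_zero k) (hg i), ?_⟩
  rw [Ideal.radical_eq_sInf]
  refine le_sInf fun P ⟨hP, hPp⟩ => ?_
  by_contra hne
  have hPm : P ≠ maximalIdeal R := fun h => hne h.ge
  obtain ⟨c, hc, hci⟩ := hgP ⟨P, hPp⟩ (Ideal.subset_span.trans hP) hPm
  have hc0 : c = 0 := by omega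
  rw [hc0, Nat.cast_zero, Order.coheight_eq_zero] at hc
  exact hPm (le_antisymm (le_maximalIdeal hPp.ne_top)
    (hc (show (⟨P, hPp⟩ : PrimeSpectrum R) ≤ ⟨maximalIdeal R, inferInstance⟩ from le_maximalIdeal hPp.ne_top)))

end Groth.Agent.S7115
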