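import Groth.Statements.S7116
import Mathlib
-- import your own Groth.Agent.* helpers here

set_option autoImplicit false
universe u
open CAlg

namespace Groth.Agent.S7116

lemma quot_dim_succ_le {R : Type u} [CommRing R] {r : R} (hr : ∀ p ∈ minimalPrimes R, r ∉ p)
    (hr' : Ideal.span {r} ≠ ⊤) :
    ringKrullDim (R ⧸ Ideal.span {r}) + 1 ≤ ringKrullDim R := by
  have : Nonempty (PrimeSpectrum.zeroLocus (R := R) (Ideal.span {r})) := by
    rwa [Set.nonempty_coe_sort, Set.nonempty_iff_ne_empty, ne_eq,
      PrimeSpectrum.zeroLocus_empty_iff_eq_top]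
  have := Ideal.Quotient.nontrivial_iff.mpr hr'
  have := (Ideal.Quotient.mk (Ideal.span {r})).domain_nontrivial
  rw [ringKrullDim_quotient, Order.krullDim_eq_iSup_length, ringKrullDim,
    Order.krullDim_eq_iSup_length, ← WithBot.coe_one, ← WithBot.coe_add,
    ENat.iSup_add, WithBot.coe_le_coe, iSup_le_iff]
  intro l
  obtain ⟨p, hp, hp'⟩ := Ideal.exists_minimalPrimes_le (J := l.head.1.asIdeal) bot_le
  let p' : PrimeSpectrum R := ⟨p, hp.1.1⟩
  have hp' : p' < l.head := lt_of_le_of_ne hp' fun h ↦ hr p hp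
    (show r ∈ p by simpa [← h] using l.head.2)
  refine le_trans ?_ (le_iSup _ ((l.map Subtype.val (fun _ _ ↦ id)).cons p' hp'))
  simp [RelSeries.cons, RelSeries.append]
  all_goals exact le_rfl


/-- Let R be a Noetherian local ring of Krull dimension d with maximal ideal m and let f be an element
of m contained in no minimal prime. Then there are g_1, ..., g_{d-1} in m and a natural number N
such that f, g_1, ..., g_{d-1} is a system of parameters (these d elements of m generate an ideal
with radical m) and, for every h in m^N, the elements f + h, g_1, ..., g_{d-1} again form a system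
of parameters and the lengths of R/(f, g_1, ..., g_{d-1}) and R/(f + h, g_1, ..., g_{d-1}) agree. -/
theorem result (R : Type u) [CommRing R] [IsNoetherianRing R] [IsLocalRing R]
    (d : ℕ) (hd : ringKrullDim R = d) (f : R) (hf : f ∈ IsLocalRing.maximalIdeal R)
    (hmin : ∀ p ∈ minimalPrimes R, f ∉ p) :
    ∃ (g : Fin (d - 1) → R) (N : ℕ), (∀ i, g i ∈ IsLocalRing.maximalIdeal R) ∧
      IsLocalRing.maximalIdeal R ≤ (Ideal.span (insert f (Set.range g))).radical ∧
      ∀ h ∈ IsLocalRing.maximalIdeal R ^ N,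
        IsLocalRing.maximalIdeal R ≤ (Ideal.span (insert (f + h) (Set.range g))).radical ∧
        Module.length R (R ⧸ Ideal.span (insert f (Set.range g))) =
          Module.length R (R ⧸ Ideal.span (insert (f + h) (Set.range g))) := by
  classical
  set m := IsLocalRing.maximalIdeal R with hm
  have hne : Ideal.span {f} ≠ ⊤ := fun h => (IsLocalRing.maximalIdeal.isMaximal R).ne_top
    (top_le_iff.1 (h ▸ (Ideal.span_singleton_le_iff_mem _).2 hf))
  haveI := Ideal.Quotient.nontrivial_iff.2 hne
  haveI : IsLocalRing (R ⧸ Ideal.span {f}) := IsLocalRing.of_surjective' (Ideal.Quotient.mk _) Ideal.Quotient.mk_surjective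
  obtain ⟨s, hs, hsc⟩ := Ideal.exists_finset_card_eq_height_of_isNoetherianRing (IsLocalRing.maximalIdeal (R ⧸ Ideal.span {f}))
  have hcard : s.card ≤ d - 1 := by
    have h1 : ((s.card : ℕ) : WithBot ℕ∞) + 1 ≤ (d : ℕ) := by
      rw [← hd]
      refine le_trans (add_le_add ?_ le_rfl) (quot_dim_succ_le hmin hne)
      rw [← IsLocalRing.maximalIdeal_height_eq_ringKrullDim, ← hsc]
      rfl
    have : s.card + 1 ≤ d := by exact_mod_cast h1
    omega
  let l : Fin (d - 1) → R ⧸ Ideal.span {f} := fun i => if h : (i : ℕ) < s.card then (s.equivFin.symm ⟨i, h⟩ : R ⧸ Ideal.span {f}) else 0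
  choose g hg using fun i => Ideal.Quotient.mk_surjective (l i)
  have hsle : Ideal.span (s : Set (R ⧸ Ideal.span {f})) ≤ Ideal.span (Set.range l) := by
    refine Ideal.span_mono fun x hx => ?_
    refine ⟨⟨(s.equivFin ⟨x, hx⟩ : Fin s.card), lt_of_lt_of_le (s.equivFin ⟨x, hx⟩).2 hcard⟩, ?_⟩
    simp [l]
  have hgm : ∀ i, g i ∈ m := by
    intro i
    rw [hm, IsLocalRing.mem_maximalIdeal]
    intro hu
    have h1 := hu.map (Ideal.Quotient.mk (Ideal.span {f}))
    rw [hg] at h1
    simp only [l] at h1
    split_ifs at h1 with h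
    · exact (IsLocalRing.mem_maximalIdeal _).1 (hs.1.2 (Ideal.subset_span (s.equivFin.symm ⟨i, h⟩).2)) h1
    · exact not_isUnit_zero h1
  set I := Ideal.span (insert f (Set.range g)) with hI
  have hrad : m ≤ I.radical := by
    rw [Ideal.radical_eq_sInf]
    refine le_sInf ?_
    rintro P ⟨hP, hPp⟩
    haveI := hPp
    have hfP : Ideal.span {f} ≤ P := (Ideal.span_singleton_le_iff_mem _).2 (hP (Ideal.subset_span (Set.mem_insert _ _)))
    have hmk : Function.Surjective (Ideal.Quotient.mk (Ideal.span {f})) := Ideal.Quotient.mk_surjective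
    haveI := Ideal.map_isPrime_of_surjective hmk (I := P) (by rwa [Ideal.mk_ker])
    have hle : Ideal.span (s : Set (R ⧸ Ideal.span {f})) ≤ P.map (Ideal.Quotient.mk (Ideal.span {f})) := by
      refine hsle.trans (Ideal.span_le.2 ?_)
      rintro _ ⟨i, rfl⟩
      rw [← hg i]
      exact Ideal.mem_map_of_mem _ (hP (Ideal.subset_span (Set.mem_insert_of_mem _ ⟨i, rfl⟩)))
    have h2 := hs.2 (y := P.map (Ideal.Quotient.mk (Ideal.span {f}))) ⟨inferInstance, hle⟩
      (IsLocalRing.le_maximalIdeal (Ideal.IsPrime.ne_top inferInstance))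
    intro x hx
    obtain ⟨y, hy, hyx⟩ := (Ideal.mem_map_iff_of_surjective _ hmk).1
      (h2 ((IsLocalRing.mem_maximalIdeal _).2 (fun hu => by
        obtain ⟨v, hv⟩ := hu.exists_right_inv
        obtain ⟨y, rfl⟩ := Ideal.Quotient.mk_surjective v
        rw [← map_mul, ← map_one (Ideal.Quotient.mk (Ideal.span {f})), Ideal.Quotient.eq] at hv
        have h3 := (Ideal.span_singleton_le_iff_mem _).2 hf hv
        exact (IsLocalRing.maximalIdeal.isMaximal R).ne_top ((Ideal.eq_top_iff_one _).2
          ((Submodule.sub_mem_iff_right _ (Ideal.mul_mem_right y _ hx)).1 h3)))))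
    have := P.add_mem hy (hfP (Ideal.Quotient.eq.1 hyx.symm))
    rwa [add_sub_cancel] at this
  obtain ⟨N, hN⟩ := Ideal.exists_pow_le_of_le_radical_of_fg hrad (IsNoetherian.noetherian _)
  refine ⟨g, N + 1, hgm, hrad, fun h hh => ?_⟩
  have heq : Ideal.span (insert (f + h) (Set.range g)) = I := by
    have hhI : h ∈ m * I := by
      rw [pow_succ'] at hh
      exact Ideal.mul_mono_right hN hh
    refine le_antisymm (Ideal.span_le.2 (Set.insert_subset ?_ ((Set.subset_insert _ _).trans Ideal.subset_span))) ?_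
    · exact I.add_mem (Ideal.subset_span (Set.mem_insert _ _)) (Ideal.mul_le_right hhI)
    · refine Submodule.le_of_le_smul_of_le_jacobson_bot (I := m) (N := Ideal.span (insert (f + h) (Set.range g))) (N' := I)
        (IsNoetherian.noetherian I) (IsLocalRing.maximalIdeal_le_jacobson _) ?_
      rw [Ideal.smul_eq_mul]
      refine Ideal.span_le.2 (Set.insert_subset ?_ ?_)
      · refine Submodule.mem_sup.2 ⟨f + h, Ideal.subset_span (Set.mem_insert _ _), -h, Submodule.neg_mem _ hhI, by ring⟩
      · exact (Set.subset_insert _ _).trans (Ideal.subset_span.trans (fun _ => Submodule.mem_sup_left))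
  rw [heq]
  exact ⟨hrad, rfl⟩

end Groth.Agent.S7116
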