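import Mathlib.RingTheory.Bezout
import Mathlib.LinearAlgebra.FreeModule.Basic
import Mathlib.RingTheory.Finiteness.Defs
import Groth.Agent.CAlgMisc2.BezoutFree

set_option autoImplicit false
universe u
namespace CAlg
end CAlg
open CAlg

namespace Groth.Agent.S7120

/-- Over a Bézout domain, a finitely generated submodule of a free module is itself free of finite rank. -/
theorem result (R : Type u) [CommRing R] [IsDomain R] [IsBezout R]
    (F : Type u) [AddCommGroup F] [Module R F] [Module.Free R F] (N : Submodule R F) (hN : N.FG) :
    Module.Free R N ∧ Module.Finite R N := by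
  exact ⟨Groth.Agent.CAlgMisc2.free_of_fg N hN, Module.Finite.iff_fg.2 hN⟩

end Groth.Agent.S7120
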