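import Mathlib.RingTheory.Bezout
import Mathlib.Algebra.Module.FinitePresentation
import Mathlib.Algebra.Module.Torsion.Basic
import Mathlib.RingTheory.Ideal.Quotient.Defs
import Mathlib.LinearAlgebra.Pi
import Mathlib.LinearAlgebra.Prod
import Groth.Agent.CAlgMisc2.BezoutTorsion

set_option autoImplicit false
universe u
namespace CAlg
end CAlg
open CAlg

namespace Groth.Agent.S7121

/-- Over a Bézout domain R, a finitely presented module M splits as R^r ⊕ M_tors for some r, and its
torsion part M_tors is a retract (direct summand) of R/f_1R ⊕ … ⊕ R/f_nR for some nonzero f_1, …,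
f_n. -/
theorem result (R : Type u) [CommRing R] [IsDomain R] [IsBezout R]
    (M : Type u) [AddCommGroup M] [Module R M] [Module.FinitePresentation R M] :
    (∃ r : ℕ, Nonempty (M ≃ₗ[R] ((Fin r → R) × Submodule.torsion R M))) ∧
      ∃ (n : ℕ) (f : Fin n → R), (∀ j, f j ≠ 0) ∧
        ∃ (i : Submodule.torsion R M →ₗ[R] ((j : Fin n) → R ⧸ Ideal.span {f j}))
          (p : ((j : Fin n) → R ⧸ Ideal.span {f j}) →ₗ[R] Submodule.torsion R M),
          p ∘ₗ i = LinearMap.id := by
  obtain ⟨r, ⟨e⟩, hfp⟩ := CAlgMisc2.finitePresentation_free_prod_torsion R M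
  haveI := hfp
  exact ⟨⟨r, ⟨e⟩⟩, CAlgMisc2.exists_retract_cyclic R (Submodule.torsion R M) Submodule.torsion_isTorsion⟩

end Groth.Agent.S7121
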