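import Mathlib.RingTheory.Bezout
import Mathlib.LinearAlgebra.Matrix.Determinant.Basic
import Mathlib.RingTheory.Ideal.Span
import Groth.Agent.CAlgMisc2.BezoutFree

set_option autoImplicit false
universe u
namespace CAlg
end CAlg
open CAlg

namespace Groth.Agent.S7122

/-- Let R be a Bézout domain, n ≥ 1, and f_1, ..., f_n elements generating the unit ideal. Then some
invertible n × n matrix over R has (f_1, ..., f_n) as its first row. -/
theorem result (R : Type u) [CommRing R] [IsDomain R] [IsBezout R]
    (n : ℕ) (f : Fin (n + 1) → R) (hf : Ideal.span (Set.range f) = ⊤) :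
    ∃ A : Matrix (Fin (n + 1)) (Fin (n + 1)) R, IsUnit A.det ∧ A 0 = f := by
  obtain ⟨c, hc⟩ := (Ideal.mem_span_range_iff_exists_fun).1 (hf ▸ Submodule.mem_top : (1 : R) ∈ Ideal.span (Set.range f))
  let φ : (Fin (n + 1) → R) →ₗ[R] R := ∑ i, c i • LinearMap.proj i
  have hφ : φ f = 1 := by simpa [φ] using hc
  let q : (Fin (n + 1) → R) →ₗ[R] (Fin (n + 1) → R) := LinearMap.id - φ.smulRight f
  have hq : LinearMap.range q = LinearMap.ker φ := by
    ext z
    constructor
    · rintro ⟨w, rfl⟩; simp [q, hφ]
    · intro hz; exact ⟨z, by simp [q, LinearMap.mem_ker.1 hz]⟩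
  have hfg : (LinearMap.ker φ).FG := by
    rw [← hq, ← Submodule.map_top]; exact Module.Finite.fg_top.map q
  haveI := Groth.Agent.CAlgMisc2.free_of_fg (LinearMap.ker φ) hfg
  haveI : Module.Finite R (LinearMap.ker φ) := Module.Finite.iff_fg.2 hfg
  let bK := Module.finBasis R (LinearMap.ker φ)
  let b := Module.Basis.mkFinCons f bK
    (fun r z hz h => by
      have := congrArg φ h
      simpa [LinearMap.mem_ker.1 hz, hφ] using this)
    (fun z => ⟨-φ z, by simp [LinearMap.mem_ker, hφ]⟩)
  have hn : Module.finrank R (LinearMap.ker φ) + 1 = n + 1 := by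
    have := Module.finrank_eq_card_basis b
    simpa using this.symm
  let b' := b.reindex (finCongr hn)
  refine ⟨fun i => b' i, ?_, ?_⟩
  · have h : (Matrix.of fun i => b' i) = ((Pi.basisFun R (Fin (n + 1))).toMatrix b').transpose := by
      ext i j; simp [Module.Basis.toMatrix_apply]
    have hu : IsUnit ((Pi.basisFun R (Fin (n + 1))).toMatrix b').det := by
      haveI := (Pi.basisFun R (Fin (n + 1))).invertibleToMatrix b'
      exact Matrix.isUnit_det_of_invertible _
    rw [← Matrix.det_transpose, ← h] at hu
    exact hu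
  · show b' 0 = f
    simp [b', b, Module.Basis.coe_mkFinCons, finCongr_symm, finCongr_apply, Fin.cast_zero]

end Groth.Agent.S7122
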