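import Groth.Statements.S7123
import Mathlib
-- import your own Groth.Agent.* helpers here

set_option autoImplicit false
universe u
open CAlg

namespace Groth.Agent.S7123

open DirectSum in
/-- For a module P over a ring R these two conditions are equivalent: (1) P is a retract (direct
summand) of a direct sum of cyclic modules R/fR, f ranging over R; (2) for every surjection of
R-modules π : B → C whose kernel A satisfies fA = A ∩ fB for every f in R, each linear map P → C
lifts through π. -/
theorem result (R : Type u) [CommRing R] (P : Type u)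
    [AddCommGroup P] [Module R P] :
    (∃ (ι : Type u) (f : ι → R) (i : P →ₗ[R] (⨁ j, R ⧸ Ideal.span {f j}))
        (p : (⨁ j, R ⧸ Ideal.span {f j}) →ₗ[R] P), p ∘ₗ i = LinearMap.id) ↔
      ∀ (B C : Type u) [AddCommGroup B] [Module R B] [AddCommGroup C] [Module R C] (π : B →ₗ[R] C),
        Function.Surjective π →
        (∀ (f : R) (b : B), π (f • b) = 0 → ∃ a : B, π a = 0 ∧ f • a = f • b) →
        ∀ ψ : P →ₗ[R] C, ∃ φ : P →ₗ[R] B, π ∘ₗ φ = ψ := by
  classical
  constructor
  · rintro ⟨ι, f, i, p, hip⟩ B C _ _ _ _ π hπ hpure ψ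
    have hlift : ∀ j, ∃ b : B, π b = ψ (p (DirectSum.lof R ι (fun j => R ⧸ Ideal.span {f j}) j (Submodule.Quotient.mk 1))) ∧ f j • b = 0 := by
      intro j
      obtain ⟨b, hb⟩ := hπ (ψ (p (DirectSum.lof R ι (fun j => R ⧸ Ideal.span {f j}) j (Submodule.Quotient.mk 1))))
      have h0 : π (f j • b) = 0 := by
        rw [map_smul, hb, ← map_smul, ← map_smul, ← map_smul, ← Submodule.Quotient.mk_smul,
          (Submodule.Quotient.mk_eq_zero (Ideal.span {f j})).2 (by rw [smul_eq_mul, mul_one]; exact Ideal.mem_span_singleton_self _),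
          map_zero, map_zero, map_zero]
      obtain ⟨a, ha, hfa⟩ := hpure _ _ h0
      exact ⟨b - a, by rw [map_sub, ha, sub_zero, hb], by rw [smul_sub, hfa, sub_self]⟩
    choose b hb hb0 using hlift
    let φ : (⨁ j, R ⧸ Ideal.span {f j}) →ₗ[R] B := DirectSum.toModule R ι B fun j =>
      Submodule.liftQ _ (LinearMap.toSpanSingleton R B (b j)) (Submodule.span_le.2 (by simpa using hb0 j))
    refine ⟨φ ∘ₗ i, ?_⟩
    rw [← LinearMap.comp_assoc, show π ∘ₗ φ = ψ ∘ₗ p from DirectSum.linearMap_ext _ fun j =>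
      Submodule.linearMap_qext _ (LinearMap.ext_ring ?_), LinearMap.comp_assoc, hip, LinearMap.comp_id]
    show π (φ (DirectSum.lof R ι _ j (Submodule.Quotient.mk 1))) = ψ (p (DirectSum.lof R ι _ j (Submodule.Quotient.mk 1)))
    rw [DirectSum.toModule_lof, ← hb j]
    show π ((1 : R) • b j) = π (b j)
    rw [one_smul]
  · intro h
    let J := Σ f : R, {x : P // f • x = 0}
    let p : (⨁ j : J, R ⧸ Ideal.span {j.1}) →ₗ[R] P := DirectSum.toModule R J P fun j =>
      Submodule.liftQ _ (LinearMap.toSpanSingleton R P j.2.1) (Submodule.span_le.2 (by simpa using j.2.2))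
    have hp : ∀ j : J, p (DirectSum.lof R J (fun j => R ⧸ Ideal.span {j.1}) j (Submodule.Quotient.mk 1)) = j.2.1 := fun j => by
      rw [DirectSum.toModule_lof]; exact one_smul R _
    obtain ⟨i, hi⟩ := h _ P p (fun x => ⟨_, hp ⟨0, x, zero_smul R x⟩⟩) (fun f b hfb => by
      refine ⟨b - DirectSum.lof R J (fun j => R ⧸ Ideal.span {j.1}) ⟨f, p b, by rw [← map_smul]; exact hfb⟩ (Submodule.Quotient.mk 1), ?_, ?_⟩
      · rw [map_sub, hp, sub_self]
      · rw [smul_sub, ← map_smul, ← Submodule.Quotient.mk_smul,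
          (Submodule.Quotient.mk_eq_zero (Ideal.span {f})).2 (by rw [smul_eq_mul, mul_one]; exact Ideal.mem_span_singleton_self _),
          map_zero, sub_zero]) LinearMap.id
    exact ⟨J, fun j => j.1, i, p, hi⟩

end Groth.Agent.S7123
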