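import Mathlib.RingTheory.Valuation.ValuationRing
import Mathlib.RingTheory.LocalRing.ResidueField.Basic
import Mathlib.RingTheory.Localization.FractionRing
import Mathlib.GroupTheory.Index
import Mathlib.GroupTheory.QuotientGroup.Defs
import Mathlib.LinearAlgebra.Dimension.Finrank
import Mathlib.LinearAlgebra.FiniteDimensional.Defs
import Groth.Agent.CAlgMisc1.Imports
import Mathlib

set_option autoImplicit false
universe u
namespace CAlg
end CAlg
open CAlg

namespace Groth.Agent.S7124

/-- Let A ⊆ B be an extension of valuation rings (both valuation domains, the inclusion injective and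
local) with fraction fields K ⊆ L such that L/K is finite. Then the residue field of B is finite
over that of A, the value group of A has finite index in the value group of B, and (index of value
groups) · (residue degree) ≤ [L : K]. Here the value group of B is written as Lˣ modulo the units of
B, and that of A as the image of Kˣ in it. -/
theorem result (A B K L : Type u) [CommRing A] [IsDomain A]
    [ValuationRing A] [CommRing B] [IsDomain B] [ValuationRing B] [Field K] [Field L]
    [Algebra A K] [IsFractionRing A K] [Algebra B L] [IsFractionRing B L] [Algebra A B] [Algebra K L]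
    [Algebra A L] [IsScalarTower A K L] [IsScalarTower A B L] (hinj : Function.Injective (algebraMap A B))
    [IsLocalHom (algebraMap A B)] [FiniteDimensional K L] :
    let UB : Subgroup Lˣ := (Units.map (algebraMap B L).toMonoidHom).range
    let ΓA : Subgroup (Lˣ ⧸ UB) := ((QuotientGroup.mk' UB).comp (Units.map (algebraMap K L).toMonoidHom)).range
    Module.Finite (IsLocalRing.ResidueField A) (IsLocalRing.ResidueField B) ∧ ΓA.index ≠ 0 ∧
      ΓA.index * Module.finrank (IsLocalRing.ResidueField A) (IsLocalRing.ResidueField B) ≤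
        Module.finrank K L := by
  classical
  intro UB ΓA
  have hKL : Function.Injective (algebraMap K L) := (algebraMap K L).injective
  -- in a valuation ring, a nonempty finite family has a dominant member
  have dom : ∀ (O F : Type u) [CommRing O] [IsDomain O] [ValuationRing O] [Field F] [Algebra O F]
      [IsFractionRing O F] {ι : Type u} (s : Finset ι) (x : ι → F), (∃ i ∈ s, x i ≠ 0) →
      ∃ i ∈ s, x i ≠ 0 ∧ ∀ j ∈ s, ∃ c : O, x j = algebraMap O F c * x i := by
    intro O F _ _ _ _ _ _ ι s x
    induction s using Finset.induction_on with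
    | empty => rintro ⟨i, hi, -⟩; simp at hi
    | insert a s _ ih =>
      intro hne
      by_cases hs : ∃ i ∈ s, x i ≠ 0
      · obtain ⟨i, hi, hxi, hdom⟩ := ih hs
        rcases ValuationRing.isInteger_or_isInteger O (x a / x i) with ⟨c, hc⟩ | ⟨c, hc⟩
        · refine ⟨i, Finset.mem_insert_of_mem hi, hxi, fun j hj => ?_⟩
          rcases Finset.mem_insert.1 hj with rfl | hj
          · exact ⟨c, by rw [hc, div_mul_cancel₀ _ hxi]⟩
          · exact hdom j hj
        · by_cases hxa : x a = 0
          · refine ⟨i, Finset.mem_insert_of_mem hi, hxi, fun j hj => ?_⟩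
            rcases Finset.mem_insert.1 hj with rfl | hj
            · exact ⟨0, by rw [hxa, map_zero, zero_mul]⟩
            · exact hdom j hj
          · rw [inv_div] at hc
            have hia : x i = algebraMap O F c * x a := by rw [hc, div_mul_cancel₀ _ hxa]
            refine ⟨a, Finset.mem_insert_self _ _, hxa, fun j hj => ?_⟩
            rcases Finset.mem_insert.1 hj with rfl | hj
            · exact ⟨1, by rw [map_one, one_mul]⟩
            · obtain ⟨c', hc'⟩ := hdom j hj
              exact ⟨c' * c, by rw [hc', hia, map_mul, mul_assoc]⟩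
      · push_neg at hs
        obtain ⟨i, hi, hxi⟩ := hne
        rcases Finset.mem_insert.1 hi with rfl | hi
        · refine ⟨i, Finset.mem_insert_self _ _, hxi, fun j hj => ?_⟩
          rcases Finset.mem_insert.1 hj with rfl | hj
          · exact ⟨1, by rw [map_one, one_mul]⟩
          · exact ⟨0, by rw [hs j hj, map_zero, zero_mul]⟩
        · exact absurd (hs i hi) hxi
  let res := IsLocalRing.residue B
  -- independent residues times inequivalent values are independent
  have key : ∀ {ι : Type u} [Fintype ι] {κ' : Type u} [Fintype κ'] (b : ι → B) (π : κ' → Lˣ),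
      LinearIndependent (IsLocalRing.ResidueField A) (fun i => res (b i)) →
      (∀ j j', (QuotientGroup.mk (π j) : Lˣ ⧸ UB)⁻¹ * QuotientGroup.mk (π j') ∈ ΓA → j = j') →
      LinearIndependent K (fun p : ι × κ' => algebraMap B L (b p.1) * (π p.2 : L)) := by
    intro ι _ κ' _ b π hb hπ
    rw [Fintype.linearIndependent_iff]
    intro cf hcf
    by_contra hne
    push_neg at hne
    obtain ⟨⟨i₀, j₀⟩, hij⟩ := hne
    let y : κ' → L := fun j => ∑ i, cf (i, j) • algebraMap B L (b i)
    -- each nonzero column is a nonzero constant times a unit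
    have hcol : ∀ j, (∃ i, cf (i, j) ≠ 0) → ∃ (c : K) (w : B), c ≠ 0 ∧ IsUnit w ∧
        y j = algebraMap K L c * algebraMap B L w := by
      intro j ⟨i, hi⟩
      obtain ⟨m, -, hm, hdom⟩ := dom A K Finset.univ (fun i => cf (i, j)) ⟨i, Finset.mem_univ _, hi⟩
      choose a ha using fun i => hdom i (Finset.mem_univ i)
      refine ⟨cf (m, j), ∑ i, algebraMap A B (a i) * b i, hm, ?_, ?_⟩
      · by_contra hu
        have h0 : res (∑ i, algebraMap A B (a i) * b i) = 0 :=
          (IsLocalRing.residue_eq_zero_iff _).2 hu
        have h1 : ∑ i, IsLocalRing.residue A (a i) • res (b i) = 0 := by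
          rw [← h0, map_sum]
          refine Finset.sum_congr rfl fun i _ => ?_
          rw [map_mul, Algebra.smul_def]
          rfl
        have h2 := Fintype.linearIndependent_iff.1 hb _ h1 m
        have h3 : a m = 1 := IsFractionRing.injective A K (by
          rw [map_one]; exact mul_right_cancel₀ hm ((ha m).symm.trans (one_mul _).symm))
        rw [h3, map_one] at h2
        exact one_ne_zero h2
      · rw [map_sum, Finset.mul_sum]
        refine Finset.sum_congr rfl fun i _ => ?_
        rw [Algebra.smul_def, map_mul, ← IsScalarTower.algebraMap_apply A B L, IsScalarTower.algebraMap_apply A K L,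
          ← mul_assoc, ← map_mul, mul_comm (cf (m, j)), ← ha]
    have hsum : ∑ j, y j * (π j : L) = 0 := by
      rw [← hcf, Fintype.sum_prod_type, Finset.sum_comm]
      refine Finset.sum_congr rfl fun j _ => ?_
      rw [Finset.sum_mul]
      refine Finset.sum_congr rfl fun i _ => ?_
      rw [Algebra.smul_def, Algebra.smul_def, mul_assoc]
    obtain ⟨c₀, w₀, hc₀, hw₀, hy₀⟩ := hcol j₀ ⟨i₀, hij⟩
    have hx0 : y j₀ * (π j₀ : L) ≠ 0 := by
      rw [hy₀]
      exact mul_ne_zero (mul_ne_zero (by simpa using hc₀) ((hw₀.map (algebraMap B L)).ne_zero)) (π j₀).ne_zero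
    obtain ⟨m, -, hm, hdom⟩ := dom B L Finset.univ (fun j => y j * (π j : L)) ⟨j₀, Finset.mem_univ _, hx0⟩
    choose β hβ using fun j => hdom j (Finset.mem_univ j)
    have hnu : ∀ j, j ≠ m → β j ∈ IsLocalRing.maximalIdeal B := by
      intro j hj hu
      have hjy : ∃ i, cf (i, j) ≠ 0 := by
        by_contra hall
        push_neg at hall
        have : y j * (π j : L) = 0 := by simp [y, hall]
        rw [hβ j] at this
        exact mul_ne_zero ((hu.map (algebraMap B L)).ne_zero) hm this
      have hmy : ∃ i, cf (i, m) ≠ 0 := by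
        by_contra hall
        push_neg at hall
        exact hm (by simp [y, hall])
      obtain ⟨cj, wj, hcj, hwj, hyj⟩ := hcol j hjy
      obtain ⟨cm, wm, hcm, hwm, hym⟩ := hcol m hmy
      have heq := hβ j
      rw [hyj, hym] at heq
      let φK : Kˣ →* Lˣ := Units.map (algebraMap K L).toMonoidHom
      let φB : Bˣ →* Lˣ := Units.map (algebraMap B L).toMonoidHom
      have hU : φK (Units.mk0 cj hcj) * φB hwj.unit * π j = φB hu.unit * (φK (Units.mk0 cm hcm) * φB hwm.unit * π m) :=
        Units.ext heq
      refine hj (hπ j m ⟨Units.mk0 cj hcj * (Units.mk0 cm hcm)⁻¹, ?_⟩)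
      show (QuotientGroup.mk (φK (Units.mk0 cj hcj * (Units.mk0 cm hcm)⁻¹)) : Lˣ ⧸ UB) =
        QuotientGroup.mk ((π j)⁻¹ * π m)
      refine (QuotientGroup.eq).2 ⟨hwj.unit * (hu.unit * hwm.unit)⁻¹, ?_⟩
      show φB _ = _
      have hU' : π j = φB hu.unit * (φK (Units.mk0 cm hcm) * φB hwm.unit * π m) *
          (φK (Units.mk0 cj hcj) * φB hwj.unit)⁻¹ := by
        rw [← hU, mul_comm _ (π j), mul_assoc, mul_inv_cancel, mul_one]
      rw [map_mul, map_inv, map_mul, map_mul, map_inv, hU']
      generalize φK (Units.mk0 cj hcj) = X, φK (Units.mk0 cm hcm) = Y, φB hwj.unit = W, φB hwm.unit = W',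
        φB hu.unit = β', π m = P
      apply Units.ext
      simp only [Units.val_mul, Units.val_inv_eq_inv_val]
      field_simp
    have hb1 : ∑ j, β j = 0 := by
      apply IsFractionRing.injective B L
      rw [map_sum, map_zero]
      refine mul_right_cancel₀ hm ?_
      rw [Finset.sum_mul, zero_mul, ← hsum]
      exact Finset.sum_congr rfl fun j _ => (hβ j).symm
    have hβm : β m = 1 := IsFractionRing.injective B L (by
      rw [map_one]; exact mul_right_cancel₀ hm ((hβ m).symm.trans (one_mul _).symm))
    rw [← Finset.add_sum_erase _ _ (Finset.mem_univ m), hβm] at hb1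
    have : (1 : B) ∈ IsLocalRing.maximalIdeal B := by
      rw [eq_neg_of_add_eq_zero_left hb1]
      exact neg_mem (sum_mem fun j hj => hnu j (Finset.ne_of_mem_erase hj))
    exact (IsLocalRing.maximalIdeal.isMaximal B).ne_top ((Ideal.eq_top_iff_one _).2 this)
  have hcard : ∀ {ι : Type u} [Fintype ι] {κ' : Type u} [Fintype κ'] (b : ι → B) (π : κ' → Lˣ),
      LinearIndependent (IsLocalRing.ResidueField A) (fun i => res (b i)) →
      (∀ j j', (QuotientGroup.mk (π j) : Lˣ ⧸ UB)⁻¹ * QuotientGroup.mk (π j') ∈ ΓA → j = j') →
      Fintype.card ι * Fintype.card κ' ≤ Module.finrank K L := by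
    intro ι _ κ' _ b π hb hπ
    rw [← Fintype.card_prod]
    exact (key b π hb hπ).fintype_card_le_finrank
  have hfin : Module.Finite (IsLocalRing.ResidueField A) (IsLocalRing.ResidueField B) := by
    refine Module.rank_lt_aleph0_iff.1 (lt_of_le_of_lt (rank_le (n := Module.finrank K L) fun s hs => ?_)
      Cardinal.natCast_lt_aleph0)
    choose b hb using fun x : s => IsLocalRing.residue_surjective (x : IsLocalRing.ResidueField B)
    have := hcard (κ' := PUnit.{u + 1}) b (fun _ => 1) (by
      show LinearIndependent _ fun i => IsLocalRing.residue B (b i)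
      simp only [hb]; exact hs) (fun _ _ _ => rfl)
    simpa using this
  let bas := Module.finBasis (IsLocalRing.ResidueField A) (IsLocalRing.ResidueField B)
  choose b hb using fun i => IsLocalRing.residue_surjective (bas i)
  let nB := Module.finrank (IsLocalRing.ResidueField A) (IsLocalRing.ResidueField B)
  have hsur : Function.Surjective (fun x : Lˣ => (QuotientGroup.mk (QuotientGroup.mk x : Lˣ ⧸ UB) : (Lˣ ⧸ UB) ⧸ ΓA)) :=
    QuotientGroup.mk_surjective.comp QuotientGroup.mk_surjective
  have hbound : ∀ S : Finset ((Lˣ ⧸ UB) ⧸ ΓA), nB * S.card ≤ Module.finrank K L := by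
    intro S
    choose π hπ using fun j : S => hsur j.1
    have := hcard (ι := ULift.{u} (Fin nB)) (fun i => b i.down) π (by
      show LinearIndependent _ fun i : ULift.{u} (Fin nB) => IsLocalRing.residue B (b i.down)
      simp only [hb]
      exact bas.linearIndependent.comp _ ULift.down_injective) (fun j j' h => Subtype.ext (by
        rw [← hπ j, ← hπ j']; exact (QuotientGroup.eq).2 h))
    simpa using this
  have hpos : 0 < nB := Module.finrank_pos
  have : Finite ((Lˣ ⧸ UB) ⧸ ΓA) := by
    by_contra hinf
    rw [not_finite_iff_infinite] at hinf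
    obtain ⟨S, hS⟩ := Infinite.exists_subset_card_eq ((Lˣ ⧸ UB) ⧸ ΓA) (Module.finrank K L + 1)
    have := hbound S
    rw [hS] at this
    nlinarith
  have : Fintype ((Lˣ ⧸ UB) ⧸ ΓA) := Fintype.ofFinite _
  refine ⟨hfin, ?_, ?_⟩
  · rw [Subgroup.index_eq_card]; exact Nat.card_pos.ne'
  · rw [Subgroup.index_eq_card, Nat.card_eq_fintype_card, mul_comm]
    simpa using hbound Finset.univ

end Groth.Agent.S7124
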