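import Groth.Statements.S7131
import Groth.Agent.CAlgH.RelativeTorDim
import Groth.Agent.HenselLib.WEtale
import Groth.Agent.Tor15.TorDim

set_option autoImplicit false
universe u
open EtAlg

namespace Groth.Agent.S7131


open TensorProduct CategoryTheory CategoryTheory.Limits Function

open Groth.Agent.Tor15 in
section
variable {R : Type u} [CommRing R]

open Groth.Agent.Tor15 in
theorem dim_of_subsingleton {n : ℕ} {S : Type u} [AddCommGroup S] [Module R S]
    (h : ∀ (N : Type u) [AddCommGroup N] [Module R N], Subsingleton (DRing.Tor R (n + 2) S N)) (N : Type u) [AddCommGroup N] [Module R N] :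
    Dim (R := R) (n + 1) S N := by
  let Pr := projectiveResolution (ModuleCat.of R N)
  let F₁ := (MonoidalCategory.tensoringLeft (ModuleCat.{u} R)).obj (ModuleCat.of R S)
  let d : ∀ m, Pr.complex.X (m + 1) →ₗ[R] Pr.complex.X m := fun m => (Pr.complex.d (m + 1) m).hom
  let q : Pr.complex.X 0 →ₗ[R] N := (Pr.π.f 0).hom
  have hflat : ∀ m, Module.Flat R (Pr.complex.X m) := fun m => by
    have : Module.Projective R (Pr.complex.X m) := (IsProjective.iff_projective _).2 (Pr.projective m)
    infer_instance
  have hq : Surjective q := (ModuleCat.epi_iff_surjective (Pr.π.f 0)).1 inferInstance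
  have hd0 : LinearMap.range (d 0) = LinearMap.ker q :=
    (ShortComplex.exact_of_g_is_cokernel (ShortComplex.mk _ _ Pr.complex_d_comp_π_f_zero)
      Pr.isColimitCokernelCofork).moduleCat_range_eq_ker
  have hd : ∀ m, LinearMap.range (d (m + 1)) = LinearMap.ker (d m) := fun m =>
    (Pr.exact_succ m).moduleCat_range_eq_ker
  have hpres : ∀ m, Exact (LinearMap.range (d (m + 1))).subtype (d m).rangeRestrict := fun m => by
    rw [LinearMap.exact_iff, LinearMap.ker_rangeRestrict, Submodule.range_subtype, hd]
  -- the base
  have base : Dim (R := R) 0 S (LinearMap.range (d n)) := by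
    have := hflat n
    refine torVanish_symm ?_
    refine FlatCrit.TorVanish.of_presentation (LinearMap.range (d (n + 1))).subtype
      (d n).rangeRestrict (hpres n) (d n).surjective_rangeRestrict
      (haveI := hflat (n + 1); torVanish_of_flat) ?_
    have hz : Subsingleton (DRing.Tor R (n + 2) S N) := h N
    have e := Pr.isoLeftDerivedObj F₁ (n + 2)
    have hz' : IsZero ((F₁.leftDerived (n + 2)).obj (ModuleCat.of R N)) :=
      @ModuleCat.isZero_of_subsingleton R _ _ hz
    rw [Iso.isZero_iff e, HomologicalComplex.homologyFunctor_obj,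
      ← HomologicalComplex.exactAt_iff_isZero_homology,
      HomologicalComplex.exactAt_iff' _ (n + 3) (n + 2) (n + 1) (by simp) (by simp),
      ShortComplex.moduleCat_exact_iff_range_eq_ker] at hz'
    change LinearMap.range ((d (n + 2)).lTensor S) = LinearMap.ker ((d (n + 1)).lTensor S) at hz'
    rw [← LinearMap.lTensor_inj_iff_rTensor_inj, injective_iff_map_eq_zero]
    intro x hx
    obtain ⟨y, rfl⟩ := LinearMap.lTensor_surjective S (d (n + 1)).surjective_rangeRestrict x
    have hy : y ∈ LinearMap.ker ((d (n + 1)).lTensor S) := by
      rw [LinearMap.mem_ker, ← hx, ← LinearMap.comp_apply, ← LinearMap.lTensor_comp]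
      rfl
    obtain ⟨w, rfl⟩ := hz'.ge hy
    rw [← LinearMap.comp_apply, ← LinearMap.lTensor_comp]
    have : (d (n + 1)).rangeRestrict ∘ₗ d (n + 2) = 0 := by
      ext v
      have : d (n + 2) v ∈ LinearMap.ker (d (n + 1)) := hd (n + 1) ▸ LinearMap.mem_range_self _ v
      simpa using this
    rw [this, LinearMap.lTensor_zero, LinearMap.zero_apply]
  have key : ∀ i m, m + i = n → Dim (R := R) i S (LinearMap.range (d m)) := by
    intro i
    induction i with
    | zero => intro m hm; obtain rfl : m = n := hm; exact base
    | succ i ih =>
      intro m hm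
      exact ⟨_, _, inferInstance, inferInstance, inferInstance, inferInstance, hflat (m + 1), _, _,
        hpres m, (d m).surjective_rangeRestrict, Subtype.val_injective, ih (m + 1) (by lia)⟩
  refine ⟨_, _, inferInstance, inferInstance, inferInstance, inferInstance, hflat 0,
    (LinearMap.range (d 0)).subtype, q, ?_, hq, Subtype.val_injective, key n 0 (zero_add n)⟩
  rw [LinearMap.exact_iff, Submodule.range_subtype, hd0]


open Groth.Agent.Tor15 in
/-- Syzygies of index `n + 1` of a module of tor dimension `≤ n + 1` are flat. -/
theorem flat_syzygy {n : ℕ} {S : Type u} [AddCommGroup S] [Module R S]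
    (h : DRing.HasTorDimLE R (n + 1) S) (F : ℕ → Type u) [∀ i, AddCommGroup (F i)] [∀ i, Module R (F i)]
    [∀ i, Module.Flat R (F i)] (d : ∀ i, F (i + 1) →ₗ[R] F i) (q : F 0 →ₗ[R] S) (hq : Surjective q)
    (h0 : LinearMap.range (d 0) = LinearMap.ker q)
    (hd : ∀ i, LinearMap.range (d (i + 1)) = LinearMap.ker (d i)) :
    Module.Flat R (LinearMap.range (d n)) := by
  have key : ∀ i, i ≤ n → ∀ (N : Type u) [AddCommGroup N] [Module R N],
      Dim (R := R) (n - i) (LinearMap.range (d i)) N := by
    intro i
    induction i with
    | zero =>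
      intro _ N _ _
      refine dim_shift n (LinearMap.range (d 0)).subtype q ?_ hq (Submodule.injective_subtype _)
        (dim_of_subsingleton (fun N _ _ => h N (n + 2) (by omega)) N)
      rw [LinearMap.exact_iff, Submodule.range_subtype, h0]
    | succ i ih =>
      intro hi N _ _
      have h1 := ih (by omega) N
      rw [show n - i = (n - (i + 1)) + 1 by omega] at h1
      refine dim_shift _ (LinearMap.range (d (i + 1))).subtype (d i).rangeRestrict ?_
        (d i).surjective_rangeRestrict (Submodule.injective_subtype _) h1
      rw [LinearMap.exact_iff, LinearMap.ker_rangeRestrict, Submodule.range_subtype, hd]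
  exact flat_of_dim_zero fun N _ _ => by simpa using key n le_rfl N

end

open Groth.Agent.CAlgH.FlatDimension in
theorem flatDimLE_of_weaklyEtale {A B : Type u} [CommRing A] [CommRing B] [Algebra A B]
    [Algebra.WeaklyEtale A B] (d : ℕ)
    (hA : ∀ (M : Type u) [AddCommGroup M] [Module A M], DRing.HasTorDimLE A d M)
    (N : Type u) [AddCommGroup N] [Module B N] : FlatDimLE B d N := by
  haveI : Module.Flat A B := Algebra.WeaklyEtale.flat
  letI : Module A N := Module.compHom N (algebraMap A B)
  haveI : IsScalarTower A B N := IsScalarTower.of_algebraMap_smul fun r x => rfl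
  cases d with
  | zero =>
    haveI : Module.Flat A N := Groth.Agent.Tor15.flat_of_dim_zero fun L _ _ =>
      (Groth.Agent.CAlgH3.isZero_tor_one_iff N L).1
        (@ModuleCat.isZero_of_subsingleton A _ _ (hA N L 1 Nat.one_pos))
    exact Groth.Agent.HenselLib.WEt.flat_of_flat_lmul (Algebra.WeaklyEtale.flat_lmul' A B) N
  | succ n =>
    obtain ⟨F, _, _, hF, dd, q, hq, h0, hd, -⟩ := Groth.Agent.EGA43.PdFlat.exists_syzygy_data (R := B) N N
    letI : ∀ i, Module A (F i) := fun i => Module.compHom (F i) (algebraMap A B)
    haveI : ∀ i, IsScalarTower A B (F i) := fun i => IsScalarTower.of_algebraMap_smul fun r x => rfl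
    haveI : ∀ i, Module.Flat A (F i) := fun i => Module.Flat.trans A B (F i)
    haveI hflatA := flat_syzygy (hA N) F (fun i => (dd i).restrictScalars A) (q.restrictScalars A) hq
      (by rw [LinearMap.range_restrictScalars, LinearMap.ker_restrictScalars, h0])
      fun i => by rw [LinearMap.range_restrictScalars, LinearMap.ker_restrictScalars, hd]
    have key : ∀ k i, i + k = n → FlatDimLE B k (LinearMap.range (dd i)) := by
      intro k
      induction k with
      | zero =>
        intro i hi
        obtain rfl : i = n := by omega
        haveI : Module.Flat A (LinearMap.range (dd i)) :=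
          Module.Flat.of_linearEquiv
            ({ toFun := fun x => ⟨x.1, x.2⟩, invFun := fun x => ⟨x.1, x.2⟩, map_add' := fun _ _ => rfl
               map_smul' := fun _ _ => rfl } :
              LinearMap.range (dd i) ≃ₗ[A] LinearMap.range ((dd i).restrictScalars A))
        exact Groth.Agent.HenselLib.WEt.flat_of_flat_lmul (Algebra.WeaklyEtale.flat_lmul' A B) _
      | succ k ih =>
        intro i hi
        exact ⟨LinearMap.range (dd (i + 1)), F (i + 1), inferInstance, inferInstance, inferInstance, inferInstance,
          hF (i + 1), (LinearMap.range (dd (i + 1))).subtype, (dd i).rangeRestrict,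
          by rw [LinearMap.exact_iff, LinearMap.ker_rangeRestrict, Submodule.range_subtype, hd],
          (dd i).surjective_rangeRestrict, Submodule.injective_subtype _, ih (i + 1) (by omega)⟩
    exact ⟨LinearMap.range (dd 0), F 0, inferInstance, inferInstance, inferInstance, inferInstance, hF 0,
      (LinearMap.range (dd 0)).subtype, q, by rw [LinearMap.exact_iff, Submodule.range_subtype, h0], hq,
      Submodule.injective_subtype _, key n 0 (zero_add n)⟩

/-- Suppose A → B is weakly étale and every A-module has tor dimension at most d. Then every B-module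
has tor dimension at most d over B (weak dimension at most d ascends along weakly étale maps). -/
theorem result (A B : Type u) [CommRing A] [CommRing B] [Algebra A B]
    [Algebra.WeaklyEtale A B] (d : ℕ)
    (hA : ∀ (M : Type u) [AddCommGroup M] [Module A M], DRing.HasTorDimLE A d M)
    (N : Type u) [AddCommGroup N] [Module B N] : DRing.HasTorDimLE B d N := by
  exact Groth.Agent.CAlgH.RelativeTorDim.hasTorDimLE_of_flatDimLE (flatDimLE_of_weaklyEtale d hA N)

end Groth.Agent.S7131
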