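import Groth.Statements.S7134
import Groth.Agent.CAlgH.AdicSmoothFlatness
import Groth.Agent.CAlgH.AdicSmoothGeom
import Groth.Agent.CommAlg6.GeomRedJapanese

set_option autoImplicit false
universe u
open EtAlg

namespace Groth.Agent.S7134

open TensorProduct IsLocalRing Groth.Agent.CAlgH

theorem isGeometricallyRegular_of_geomReduced (k L : Type u) [Field k] [Field L] [Algebra k L]
    [Algebra.IsGeometricallyReduced k L] : CAlg.IsGeometricallyRegular k L := by
  intro k' _ _ hk'
  haveI := hk'
  haveI : Algebra.IsAlgebraic k k' := Algebra.IsAlgebraic.of_finite k k'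
  haveI : IsReduced (k' ⊗[k] L) := inferInstance
  letI : Algebra L (k' ⊗[k] L) := Algebra.TensorProduct.rightAlgebra
  haveI : Module.Finite L (k' ⊗[k] L) := Module.Finite.equiv (Algebra.TensorProduct.commRight k L k').toLinearEquiv
  haveI : IsArtinianRing (k' ⊗[k] L) := IsArtinianRing.of_finite L _
  refine isRegularRing_iff.2 fun q _ => ?_
  haveI : q.IsMaximal := IsArtinianRing.isMaximal_of_isPrime q
  haveI : IsArtinianRing (Localization.AtPrime q) := IsArtinianRing.localization_artinian q.primeCompl _
  haveI : IsReduced (Localization.AtPrime q) := isReduced_localizationPreserves q.primeCompl _ inferInstance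
  letI := (IsArtinianRing.isField_of_isReduced_of_isLocalRing (Localization.AtPrime q)).toField
  exact inferInstance

theorem weaklyUnramified_of_fs (A B : Type u) [CommRing A] [IsDomain A] [IsDiscreteValuationRing A] [CommRing B]
    [IsDomain B] [IsDiscreteValuationRing B] [Algebra A B] [IsLocalHom (algebraMap A B)]
    (hinj : Function.Injective (algebraMap A B)) (h : CAlgX.IsAdicFormallySmooth A B (maximalIdeal B)) :
    (maximalIdeal A).map (algebraMap A B) = maximalIdeal B := by
  let m := maximalIdeal A
  let J := m.map (algebraMap A B)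
  have hJ : J ≤ maximalIdeal B := map_maximalIdeal_le _
  haveI : Nontrivial (B ⧸ J) := Ideal.Quotient.nontrivial_iff.2 fun hj =>
    (IsLocalRing.maximalIdeal.isMaximal B).ne_top (top_le_iff.1 (hj ▸ hJ))
  haveI : IsLocalRing (B ⧸ J) := IsLocalRing.of_surjective' _ Ideal.Quotient.mk_surjective
  letI := Ideal.Quotient.field m
  have h0 := AdicSmooth.fibre (Ideal.Quotient.mk m) Ideal.Quotient.mk_surjective (Ideal.Quotient.mk J)
    Ideal.Quotient.mk_surjective (by rw [Ideal.mk_ker, Ideal.mk_ker]) rfl h
  rw [IsLocalRing.map_maximalIdeal_of_surjective _ Ideal.Quotient.mk_surjective] at h0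
  have hr := AdicSmooth.isGeometricallyRegular_of_adicSmooth h0 (A ⧸ m) inferInstance
  haveI : IsRegularRing (B ⧸ J) :=
    IsRegularRing.of_ringEquiv (Algebra.TensorProduct.lid (A ⧸ m) (B ⧸ J)).toRingEquiv
  haveI : IsReduced (B ⧸ J) := _root_.Groth.Agent.CAlgH.isReduced_of_isRegularRing _
  have hJne : J ≠ ⊥ := fun hb => IsDiscreteValuationRing.not_a_field A
    ((Ideal.map_eq_bot_iff_of_injective hinj).1 hb)
  obtain ⟨ϖ, hϖ⟩ := IsDiscreteValuationRing.exists_irreducible B
  obtain ⟨n, hn⟩ := IsDiscreteValuationRing.ideal_eq_span_pow_irreducible hJne hϖ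
  refine le_antisymm hJ ?_
  rw [hϖ.maximalIdeal_eq, Ideal.span_le, Set.singleton_subset_iff]
  have h1 : Ideal.Quotient.mk J ϖ ^ n = 0 := by
    rw [← map_pow, Ideal.Quotient.eq_zero_iff_mem, hn]
    exact Ideal.mem_span_singleton_self _
  exact Ideal.Quotient.eq_zero_iff_mem.1 (IsReduced.eq_zero _ ⟨n, h1⟩)

/-- For an injective local homomorphism A → B of discrete valuation rings, A → B is formally smooth for
the adic topology of the maximal ideal of B if and only if A → B is weakly unramified and the
residue field of B is a separable (possibly transcendental, i.e. geometrically reduced) extension of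
the residue field of A. -/
theorem result (A B : Type u) [CommRing A]
    [IsDomain A] [IsDiscreteValuationRing A] [CommRing B] [IsDomain B] [IsDiscreteValuationRing B] [Algebra A B]
    (hinj : Function.Injective (algebraMap A B)) [IsLocalHom (algebraMap A B)] :
    CAlgX.IsAdicFormallySmooth A B (IsLocalRing.maximalIdeal B) ↔
      EtRam.IsWeaklyUnramified A B ∧
        Algebra.IsGeometricallyReduced (IsLocalRing.ResidueField A) (IsLocalRing.ResidueField B) := by
  have hcomm : (residue B).comp (algebraMap A B) =
      (algebraMap (ResidueField A) (ResidueField B)).comp (residue A) := rfl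
  haveI : Module.Flat A B := by
    haveI : Module.IsTorsionFree A B := (Module.isTorsionFree_iff_algebraMap_injective).2 hinj
    infer_instance
  constructor
  · intro h
    have hw := weaklyUnramified_of_fs A B hinj h
    refine ⟨hw, ?_⟩
    have h0 := AdicSmooth.fibre (residue A) residue_surjective (residue B) residue_surjective
      (by rw [IsLocalRing.ker_residue, IsLocalRing.ker_residue, hw]) hcomm h
    rw [IsLocalRing.map_maximalIdeal_of_surjective _ residue_surjective] at h0
    exact _root_.Groth.Agent.CommAlg6.isGeometricallyReduced_of_isGeometricallyRegular _ _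
      (AdicSmooth.isGeometricallyRegular_of_adicSmooth h0)
  · rintro ⟨hw, hg⟩
    have hw' : (maximalIdeal A).map (algebraMap A B) = maximalIdeal B := hw
    refine AdicSmooth.of_flat_of_fibre (residue A) residue_surjective (residue B) residue_surjective
      (by rw [IsLocalRing.ker_residue, IsLocalRing.ker_residue, hw']) hcomm _
      (by rw [IsLocalRing.ker_residue, hw']) ?_
    rw [IsLocalRing.map_maximalIdeal_of_surjective _ residue_surjective]
    exact AdicSmooth.of_isGeometricallyRegular (isGeometricallyRegular_of_geomReduced _ _)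

end Groth.Agent.S7134
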