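import Groth.Statements.S7139
import Groth.Agent.GaloisTraceLib.Inertia
import Mathlib.RingTheory.DedekindDomain.IntegralClosure
import Mathlib.RingTheory.QuasiFinite.Basic
import Mathlib.RingTheory.Localization.Away.Basic
import Mathlib.FieldTheory.Galois.Basic
import Mathlib.RingTheory.Ideal.GoingUp
import Mathlib.RingTheory.Etale.Basic

set_option autoImplicit false
universe u
open EtAlg

namespace Groth.Agent.S7139

/-- A is a discrete valuation ring, K its field of fractions, and L/K is finite Galois with Galois group
G. Write B for the integral closure of A in L, equipped with the induced G-action, m a maximal ideal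
of B and I ⊆ G its inertia group. Denote by B' the integral closure of A inside the fixed field L^I,
with a map to B compatible with L^I ⊆ L. Then the image of B' in B is the ring of invariants B^I,
and A → B'_{m'} is étale, where m' = m ∩ B'. -/
theorem result (A K L B : Type u) [CommRing A] [IsDomain A]
    [IsDiscreteValuationRing A] [Field K] [Field L] [Algebra A K] [IsFractionRing A K] [Algebra K L]
    [Algebra A L] [IsScalarTower A K L] [FiniteDimensional K L] [IsGalois K L]
    [CommRing B] [Algebra A B] [Algebra B L] [IsScalarTower A B L] [IsIntegralClosure B A L]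
    [MulSemiringAction (L ≃ₐ[K] L) B]
    (hact : ∀ (σ : L ≃ₐ[K] L) (b : B), algebraMap B L (σ • b) = σ (algebraMap B L b))
    (m : Ideal B) [m.IsMaximal]
    (B' : Type u) [CommRing B'] [Algebra A B'] [Algebra B' B] [IsScalarTower A B' B] [Algebra B' L]
    [IsScalarTower B' B L]
    [Algebra B' (IntermediateField.fixedField (m.inertia (L ≃ₐ[K] L)))]
    [IsScalarTower B' (IntermediateField.fixedField (m.inertia (L ≃ₐ[K] L))) L]
    [IsIntegralClosure B' A (IntermediateField.fixedField (m.inertia (L ≃ₐ[K] L)))] :
    (∀ b : B, (∀ σ ∈ m.inertia (L ≃ₐ[K] L), σ • b = b) ↔ b ∈ Set.range (algebraMap B' B)) ∧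
      Algebra.Etale A (Localization.AtPrime (m.comap (algebraMap B' B))) := by
  classical
  have hBL : Function.Injective (algebraMap B L) := IsIntegralClosure.algebraMap_injective B A L
  have hAL : Function.Injective (algebraMap A L) := by
    rw [IsScalarTower.algebraMap_eq A K L]
    exact (algebraMap K L).injective.comp (IsFractionRing.injective A K)
  have hB'L : Function.Injective (algebraMap B' L) := by
    rw [IsScalarTower.algebraMap_eq B' (IntermediateField.fixedField (m.inertia (L ≃ₐ[K] L))) L]
    exact (algebraMap (IntermediateField.fixedField (m.inertia (L ≃ₐ[K] L))) L).injective.comp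
      (IsIntegralClosure.algebraMap_injective B' A _)
  have hB'B : Function.Injective (algebraMap B' B) := by
    intro x y hxy
    apply hB'L
    rw [IsScalarTower.algebraMap_apply B' B L, hxy, ← IsScalarTower.algebraMap_apply]
  haveI : IsScalarTower A (IntermediateField.fixedField (m.inertia (L ≃ₐ[K] L))) L :=
    .of_algebraMap_eq fun a => rfl
  haveI hAF : IsScalarTower A B' (IntermediateField.fixedField (m.inertia (L ≃ₐ[K] L))) := .of_algebraMap_eq fun a => by
    apply (algebraMap (IntermediateField.fixedField (m.inertia (L ≃ₐ[K] L))) L).injective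
    rw [← IsScalarTower.algebraMap_apply A, ← IsScalarTower.algebraMap_apply B',
      IsScalarTower.algebraMap_apply B' B L, ← IsScalarTower.algebraMap_apply A B' B,
      ← IsScalarTower.algebraMap_apply A B L]
  haveI : SMulCommClass (L ≃ₐ[K] L) A B := ⟨fun σ a b => hBL (by
    rw [hact, Algebra.smul_def, Algebra.smul_def, map_mul, map_mul, map_mul, hact,
      ← IsScalarTower.algebraMap_apply, IsScalarTower.algebraMap_apply A K L, AlgEquiv.commutes])⟩
  haveI : FaithfulSMul A B := (faithfulSMul_iff_algebraMap_injective A B).2 fun x y h => hAL (by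
    rw [IsScalarTower.algebraMap_apply A B L, h, ← IsScalarTower.algebraMap_apply])
  haveI : Algebra.IsInvariant A B (L ≃ₐ[K] L) := ⟨fun b hb => by
    obtain ⟨k, hk⟩ : algebraMap B L b ∈ Set.range (algebraMap K L) := by
      rw [IsGalois.mem_range_algebraMap_iff_fixed]
      exact fun σ => by rw [← hact, hb]
    have hint : IsIntegral A k := by
      have h1 : IsIntegral A (algebraMap B L b) := (IsIntegralClosure.isIntegral A L b).map (IsScalarTower.toAlgHom A B L)
      rw [← hk] at h1
      exact (isIntegral_algHom_iff (IsScalarTower.toAlgHom A K L) (algebraMap K L).injective).1 h1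
    obtain ⟨a, ha⟩ := IsIntegrallyClosed.algebraMap_eq_of_integral hint
    refine ⟨a, hBL ?_⟩
    rw [← IsScalarTower.algebraMap_apply, IsScalarTower.algebraMap_apply A K L, ha, hk]⟩
  have part1 : ∀ b : B, (∀ σ ∈ (m.inertia (L ≃ₐ[K] L)), σ • b = b) ↔ b ∈ Set.range (algebraMap B' B) := by
    intro b
    constructor
    · intro hb
      have hbF : algebraMap B L b ∈ IntermediateField.fixedField (m.inertia (L ≃ₐ[K] L)) := by
        rintro ⟨σ, hσ⟩
        exact (hact σ b).symm.trans (congrArg (algebraMap B L) (hb σ hσ))
      have hint : IsIntegral A (⟨_, hbF⟩ : IntermediateField.fixedField (m.inertia (L ≃ₐ[K] L))) :=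
        (isIntegral_algHom_iff ((IntermediateField.fixedField (m.inertia (L ≃ₐ[K] L))).val.restrictScalars A)
          Subtype.val_injective).1 ((IsIntegralClosure.isIntegral A L b).map (IsScalarTower.toAlgHom A B L))
      obtain ⟨b', hb'⟩ := IsIntegralClosure.isIntegral_iff (A := B').1 hint
      refine ⟨b', hBL ?_⟩
      rw [← IsScalarTower.algebraMap_apply, IsScalarTower.algebraMap_apply B' (IntermediateField.fixedField (m.inertia (L ≃ₐ[K] L))) L,
        hb']
      rfl
    · rintro ⟨b', rfl⟩ σ hσ
      apply hBL
      rw [hact, ← IsScalarTower.algebraMap_apply, IsScalarTower.algebraMap_apply B' (IntermediateField.fixedField (m.inertia (L ≃ₐ[K] L))) L]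
      exact (algebraMap B' (IntermediateField.fixedField (m.inertia (L ≃ₐ[K] L))) b').2 ⟨σ, hσ⟩
  refine ⟨part1, ?_⟩
  obtain ⟨c, hcm, hE⟩ := GaloisTraceLib.exists_etale_inertia A B (L ≃ₐ[K] L) m
  let e : B' ≃ₐ[A] FixedPoints.subalgebra A B (m.inertia (L ≃ₐ[K] L)) :=
    AlgEquiv.ofBijective ((IsScalarTower.toAlgHom A B' B).codRestrict _
      fun b' σ => (part1 _).2 ⟨b', rfl⟩ σ.1 σ.2)
      ⟨fun x y h => hB'B (congrArg Subtype.val h), fun z => by
        obtain ⟨b', hb'⟩ := (part1 z.1).1 fun σ hσ => z.2 ⟨σ, hσ⟩
        exact ⟨b', Subtype.ext hb'⟩⟩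
  set m' := m.comap (algebraMap B' B) with hm'
  have hc' : e.symm c ∉ m' := fun h => hcm (by
    have : algebraMap B' B (e.symm c) = c.1 := congrArg Subtype.val (e.apply_symm_apply c)
    rw [← this]
    exact h)
  haveI : Algebra.Etale A (Localization.Away (e.symm c)) :=
    Algebra.Etale.of_equiv (IsLocalization.algEquivOfAlgEquiv (A := A) (M := Submonoid.powers c)
      (Localization.Away c) (Localization.Away (e.symm c)) (T := Submonoid.powers (e.symm c)) e.symm
      (Submonoid.map_powers _ _))
  haveI : IsDomain B' := hB'L.isDomain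
  haveI : Module.Finite A B' := IsIntegralClosure.finite A K (IntermediateField.fixedField (m.inertia (L ≃ₐ[K] L))) B'
  haveI : Algebra.IsIntegral A B' := IsIntegralClosure.isIntegral_algebra A (IntermediateField.fixedField (m.inertia (L ≃ₐ[K] L)))
  haveI : m'.IsMaximal := by
    haveI : Algebra.IsIntegral A B := IsIntegralClosure.isIntegral_algebra A L
    haveI : Algebra.IsIntegral B' B := Algebra.IsIntegral.tower_top A
    exact Ideal.isMaximal_comap_of_isIntegral_of_isMaximal m
  -- an element cutting out `m'` among the finitely many maximal ideals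
  have hfin := Algebra.QuasiFinite.finite_primesOver (S := B') (IsLocalRing.maximalIdeal A)
  obtain ⟨f, hfm, hf⟩ : ∃ f, f ∉ m' ∧ ∀ p ∈ (IsLocalRing.maximalIdeal A).primesOver B', p ≠ m' → f ∈ p := by
    have hex : ∀ p ∈ (IsLocalRing.maximalIdeal A).primesOver B', p ≠ m' → ∃ u ∈ p, u ∉ m' := by
      intro p hp hne
      haveI := hp.1
      haveI := hp.2
      haveI : p.IsMaximal := Ideal.IsMaximal.of_liesOver_isMaximal p (IsLocalRing.maximalIdeal A)
      refine Set.not_subset.1 fun hle => hne ?_
      exact Ideal.IsMaximal.eq_of_le inferInstance (Ideal.IsMaximal.ne_top inferInstance) hle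
    choose! u hu1 hu2 using hex
    refine ⟨∏ p ∈ hfin.toFinset.erase m', u p, fun h => ?_, fun p hp hne => ?_⟩
    · obtain ⟨p, hp, hup⟩ := Ideal.IsPrime.prod_mem_iff.1 h
      rw [Finset.mem_erase, Set.Finite.mem_toFinset] at hp
      exact hu2 p hp.2 hp.1 hup
    · exact Ideal.prod_mem _ (Finset.mem_erase.2 ⟨hne, hfin.mem_toFinset.2 hp⟩) (hu1 p hp hne)
  have hg : e.symm c * f ∉ m' := fun h => ((Ideal.IsPrime.mem_or_mem inferInstance h).elim hc' hfm)
  haveI : IsLocalization.AtPrime (Localization.Away (e.symm c * f)) m' := by
    refine IsLocalization.of_le (Submonoid.powers (e.symm c * f)) m'.primeCompl ?_ fun s hs => ?_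
    · rintro _ ⟨n, rfl⟩
      exact fun h => hg (Ideal.IsPrime.mem_of_pow_mem inferInstance n h)
    · by_contra hu
      obtain ⟨M, hM, hsM⟩ := exists_max_ideal_of_mem_nonunits hu
      haveI := hM.isPrime
      let p := M.comap (algebraMap B' (Localization.Away (e.symm c * f)))
      have hgp : e.symm c * f ∉ p := fun h =>
        hM.ne_top (M.eq_top_of_isUnit_mem h (IsLocalization.Away.algebraMap_isUnit _))
      by_cases h0 : p.comap (algebraMap A B') = ⊥
      · have hp0 : p = ⊥ := Ideal.eq_bot_of_comap_eq_bot h0
        have hsp : s ∈ p := hsM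
        rw [hp0, Ideal.mem_bot] at hsp
        exact hs (hsp ▸ m'.zero_mem)
      · have hmax : p.comap (algebraMap A B') = IsLocalRing.maximalIdeal A :=
          IsLocalRing.eq_maximalIdeal ((Ideal.IsPrime.comap (algebraMap A B')).isMaximal h0)
        refine hgp (Ideal.mul_mem_left _ _ (hf p ⟨inferInstance, ⟨hmax.symm⟩⟩ fun h => hs ?_))
        rw [← h]
        exact hsM
  haveI : Algebra.Etale (Localization.Away (e.symm c))
      (Localization.Away (algebraMap B' (Localization.Away (e.symm c)) f)) :=
    Algebra.Etale.of_isLocalizationAway (algebraMap B' (Localization.Away (e.symm c)) f)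
  haveI : IsLocalization.Away (e.symm c * f)
      (Localization.Away (algebraMap B' (Localization.Away (e.symm c)) f)) :=
    mul_comm f (e.symm c) ▸ IsLocalization.Away.mul (Localization.Away (e.symm c)) _ (e.symm c) f
  haveI : Algebra.Etale A (Localization.Away (algebraMap B' (Localization.Away (e.symm c)) f)) :=
    Algebra.Etale.comp A (Localization.Away (e.symm c)) _
  haveI : IsLocalization.AtPrime (Localization.Away (algebraMap B' (Localization.Away (e.symm c)) f)) m' :=
    IsLocalization.isLocalization_of_algEquiv _
      (IsLocalization.algEquiv (Submonoid.powers (e.symm c * f)) (Localization.Away (e.symm c * f))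
        (Localization.Away (algebraMap B' (Localization.Away (e.symm c)) f)))
  exact Algebra.Etale.of_equiv ((IsLocalization.algEquiv m'.primeCompl
    (Localization.Away (algebraMap B' (Localization.Away (e.symm c)) f))
    (Localization.AtPrime m')).restrictScalars A)

end Groth.Agent.S7139
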