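import Groth.Statements.S7140
import Mathlib.RingTheory.Polynomial.Cyclotomic.Roots
import Mathlib.RingTheory.Polynomial.Cyclotomic.Basic
import Mathlib.NumberTheory.Wilson
import Mathlib.RingTheory.Polynomial.Cyclotomic.Eval
import Mathlib.RingTheory.AdjoinRoot
import Mathlib.Data.Nat.Choose.Dvd
import Mathlib.RingTheory.Polynomial.Content

set_option autoImplicit false
universe u
open EtAlg

namespace Groth.Agent.S7140

open Polynomial in
/-- Let p be a prime and A a ring with an element ζ satisfying 1 + ζ + ... + ζ^(p-1) = 0 (so that A is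
an algebra over the ring of integers of the p-th cyclotomic field); set w = 1 - ζ. Then the
polynomial ((1 + wz)^p - 1)/w^p makes sense in A[z]: there is P in A[z] with w^p·P = (1 + wz)^p - 1,
of the form z^p - z + Σ_{0<i<p} a_i z^i with all a_i in the ideal (w), and P(z₁ + z₂ + w z₁ z₂) =
P(z₁) + P(z₂) + w^p P(z₁)P(z₂) for all z₁, z₂ in any A-algebra. (The published statement asks only
for a primitive p-th root of unity; this row asks that ζ be a root of the p-th cyclotomic
polynomial, the case its proof treats. With ζ only of multiplicative order p the published statement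
fails, for example for ζ = (1, e^{2πi/p}) in ℂ × ℂ.) -/
theorem result (p : ℕ) (hp : p.Prime) (A : Type u) [CommRing A] (ζ : A)
    (hζ : aeval ζ (cyclotomic p ℤ) = 0) :
    ∃ P : A[X], C ((1 - ζ) ^ p) * P = (1 + C (1 - ζ) * X) ^ p - 1 ∧
      (∃ a : ℕ → A, (∀ i, a i ∈ Ideal.span {1 - ζ}) ∧
        P = X ^ p - X + (Finset.Ioo 0 p).sum (fun i => C (a i) * X ^ i)) ∧
      ∀ (S : Type u) [CommRing S] [Algebra A S] (z₁ z₂ : S),
        aeval (z₁ + z₂ + algebraMap A S (1 - ζ) * z₁ * z₂) P =
          aeval z₁ P + aeval z₂ P + algebraMap A S ((1 - ζ) ^ p) * aeval z₁ P * aeval z₂ P := by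
  classical
  haveI : Fact p.Prime := ⟨hp⟩
  let R₀ := AdjoinRoot (cyclotomic p ℤ)
  haveI : IsDomain R₀ :=
    AdjoinRoot.isDomain_of_prime (cyclotomic.irreducible hp.pos).prime
  let r : R₀ := AdjoinRoot.root (cyclotomic p ℤ)
  let w : R₀ := 1 - r
  have hr : (cyclotomic p R₀).IsRoot r := by
    rw [IsRoot.def, ← map_cyclotomic_int p R₀, eval_map,
      show Int.castRingHom R₀ = AdjoinRoot.of (cyclotomic p ℤ) from RingHom.ext_int _ _]
    exact AdjoinRoot.eval₂_root _
  have hinjZ : Function.Injective (algebraMap ℤ R₀) := by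
    rw [injective_iff_map_eq_zero]
    intro n hn
    have h1 : AdjoinRoot.mk (cyclotomic p ℤ) (C n) = 0 := by
      rw [AdjoinRoot.mk_C]; exact hn
    rw [AdjoinRoot.mk_eq_zero] at h1
    by_contra hne
    have h2 := natDegree_le_of_dvd h1 (C_ne_zero.mpr hne)
    rw [natDegree_C, natDegree_cyclotomic, Nat.totient_prime hp] at h2
    have := hp.two_le
    omega
  haveI : CharZero R₀ := charZero_of_injective_algebraMap hinjZ
  haveI : NeZero ((p : ℕ) : R₀) := ⟨Nat.cast_ne_zero.mpr hp.ne_zero⟩
  have hprim : IsPrimitiveRoot r p := isRoot_cyclotomic_iff.mp hr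
  have hw0 : w ≠ 0 := sub_ne_zero.mpr (Ne.symm (hprim.ne_one hp.one_lt))
  -- `p = w ^ (p - 1) * u`
  let u : R₀ := ∏ i ∈ Finset.range (p - 1), ∑ j ∈ Finset.range (i + 1), r ^ j
  have hpu : (p : R₀) = w ^ (p - 1) * u := by
    rw [← eval_one_cyclotomic_prime (R := R₀) (p := p), cyclotomic_eq_prod_X_sub_primitiveRoots hprim,
      eval_prod]
    have himg : primitiveRoots p R₀ = (Finset.range (p - 1)).image fun i => r ^ (i + 1) := by
      ext x
      rw [mem_primitiveRoots hp.pos, Finset.mem_image]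
      constructor
      · intro hx
        obtain ⟨i, hi, hi', rfl⟩ := (hprim.isPrimitiveRoot_iff).mp hx
        have hi0 : i ≠ 0 := by
          rintro rfl
          exact hp.one_lt.ne' (Nat.coprime_zero_left _ |>.mp hi')
        exact ⟨i - 1, Finset.mem_range.mpr (by omega), by rw [Nat.sub_add_cancel (Nat.pos_of_ne_zero hi0)]⟩
      · rintro ⟨i, hi, rfl⟩
        rw [Finset.mem_range] at hi
        refine hprim.pow_of_coprime _ ?_
        rw [Nat.coprime_comm, hp.coprime_iff_not_dvd]
        intro hd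
        have := Nat.le_of_dvd (Nat.succ_pos i) hd
        omega
    rw [himg, Finset.prod_image]
    · simp only [eval_sub, eval_X, eval_C]
      rw [← Finset.card_range (p - 1), ← Finset.prod_const, Finset.card_range, ← Finset.prod_mul_distrib]
      refine Finset.prod_congr rfl fun i _ => ?_
      rw [mul_comm, geom_sum_mul_neg]
    · intro i hi j hj hij
      simp only [Finset.coe_range, Set.mem_Iio] at hi hj
      have := hprim.pow_inj (by omega) (by omega) hij
      omega
  have hwdvd : ∀ j : ℕ, w ∣ r ^ j - 1 := fun j => by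
    rw [show r ^ j - 1 = -(1 - r ^ j) by ring, dvd_neg]
    exact (one_sub_dvd_one_sub_pow _ _)
  have hu : w ∣ u + 1 := by
    have h1 : ∀ i : ℕ, w ∣ (∑ j ∈ Finset.range (i + 1), r ^ j) - ((i + 1 : ℕ) : R₀) := fun i => by
      have : (((i + 1 : ℕ)) : R₀) = ∑ j ∈ Finset.range (i + 1), (1 : R₀) := by simp
      rw [this, ← Finset.sum_sub_distrib]
      exact Finset.dvd_sum fun j _ => hwdvd j
    have h2 : w ∣ u - ((p - 1).factorial : R₀) := by
      rw [← Finset.prod_range_add_one_eq_factorial, Nat.cast_prod, ← Ideal.mem_span_singleton,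
        ← Ideal.Quotient.eq, map_prod, map_prod]
      exact Finset.prod_congr rfl fun i _ => by
        rw [Ideal.Quotient.eq, Ideal.mem_span_singleton]; exact h1 i
    have h3 : w ∣ ((p - 1).factorial : R₀) + 1 := by
      have hz : ((((p - 1).factorial + 1 : ℕ)) : ZMod p) = 0 := by
        rw [Nat.cast_add, ZMod.wilsons_lemma, Nat.cast_one, neg_add_cancel]
      obtain ⟨t, ht⟩ := ((ZMod.natCast_eq_zero_iff _ _).mp hz : p ∣ (p - 1).factorial + 1)
      have h4 : ((p - 1).factorial : R₀) + 1 = (p : R₀) * (t : R₀) := by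
        exact ((Nat.cast_succ _).symm.trans (congrArg (fun n : ℕ => (n : R₀)) ht)).trans (Nat.cast_mul p t)
      rw [h4, hpu]
      exact dvd_mul_of_dvd_left (dvd_mul_of_dvd_left (dvd_pow_self w (by have := hp.two_le; omega)) _) _
    have := dvd_add h2 h3
    rwa [show u - ((p - 1).factorial : R₀) + (((p - 1).factorial : R₀) + 1) = u + 1 by ring] at this
  -- the polynomial
  let c : ℕ → R₀ := fun i => u * ((p.choose i / p : ℕ) : R₀) * w ^ (i - 1)
  have hc : ∀ i, 0 < i → i < p → w ^ p * c i = (p.choose i : R₀) * w ^ i := by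
    intro i hi hip
    have hd : p * (p.choose i / p) = p.choose i := Nat.mul_div_cancel' (Nat.Prime.dvd_choose_self hp hi.ne' hip)
    calc w ^ p * c i = (w ^ (p - 1) * u) * ((p.choose i / p : ℕ) : R₀) * (w * w ^ (i - 1)) := by
          have : w ^ p = w ^ (p - 1) * w := by rw [← pow_succ, Nat.sub_add_cancel hp.pos]
          rw [this]; ring
      _ = (p.choose i : R₀) * w ^ i := by
          rw [← hpu, show (p : R₀) * ((p.choose i / p : ℕ) : R₀) = (p.choose i : R₀) from (Nat.cast_mul _ _).symm.trans (congrArg Nat.cast hd), ← pow_succ', Nat.sub_add_cancel hi]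
  let P₀ : R₀[X] := X ^ p + (Finset.Ioo 0 p).sum (fun i => C (c i) * X ^ i)
  let a₀ : ℕ → R₀ := fun i => if i = 0 then 0 else if i = 1 then u + 1 else c i
  have hrange : Finset.range (p + 1) = insert 0 (insert p (Finset.Ioo 0 p)) := by
    ext i
    simp only [Finset.mem_range, Finset.mem_insert, Finset.mem_Ioo]
    omega
  have hP : C (w ^ p) * P₀ = (1 + C w * X) ^ p - 1 := by
    rw [add_comm (1 : R₀[X]), add_pow, hrange, Finset.sum_insert, Finset.sum_insert]
    · simp only [one_pow, mul_one, pow_zero, Nat.choose_zero_right, Nat.choose_self, Nat.cast_one]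
      rw [add_sub_cancel_left, mul_pow, ← C_pow]
      simp only [P₀, mul_add, Finset.mul_sum]
      congr 1
      refine Finset.sum_congr rfl fun i hi => ?_
      rw [Finset.mem_Ioo] at hi
      rw [← mul_assoc, ← C_mul, hc i hi.1 hi.2, mul_pow, C_mul, ← C_pow, Polynomial.C_eq_natCast]
      ring
    · simp
    · simp only [Finset.mem_insert, Finset.mem_Ioo, lt_self_iff_false, false_and, or_false]
      exact hp.ne_zero.symm
  have hPa : P₀ = X ^ p - X + (Finset.Ioo 0 p).sum (fun i => C (a₀ i) * X ^ i) := by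
    have h1 : 1 ∈ Finset.Ioo 0 p := Finset.mem_Ioo.mpr ⟨one_pos, hp.one_lt⟩
    simp only [P₀]
    rw [← Finset.add_sum_erase _ _ h1, ← Finset.add_sum_erase _ _ h1]
    have hc1 : c 1 = u := by
      simp [c, Nat.choose_one_right, Nat.div_self hp.pos]
    have hsum : ∑ i ∈ (Finset.Ioo 0 p).erase 1, C (a₀ i) * X ^ i =
        ∑ i ∈ (Finset.Ioo 0 p).erase 1, C (c i) * X ^ i :=
      Finset.sum_congr rfl fun i hi => by
        rw [Finset.mem_erase, Finset.mem_Ioo] at hi
        simp [a₀, hi.1, hi.2.1.ne']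
    rw [hsum, hc1, show a₀ 1 = u + 1 from rfl, C_add, map_one]
    ring
  have ha₀ : ∀ i, w ∣ a₀ i := by
    intro i
    simp only [a₀]
    split_ifs with h0 h1
    · exact dvd_zero _
    · exact hu
    · exact dvd_mul_of_dvd_right (dvd_pow_self w (by omega)) _
  -- the universal identity
  let T := MvPolynomial (Fin 2) R₀
  let x₁ : T := MvPolynomial.X 0
  let x₂ : T := MvPolynomial.X 1
  let f : R₀ →+* T := MvPolynomial.C
  have hev : ∀ x : T, f (w ^ p) * eval₂ f x P₀ = (1 + f w * x) ^ p - 1 := fun x => by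
    have := congrArg (eval₂ f x) hP
    generalize P₀ = Q at this ⊢
    simp only [eval₂_mul, eval₂_C, eval₂_sub, eval₂_pow, eval₂_add, eval₂_one, eval₂_X] at this
    exact this
  have hid : eval₂ f (x₁ + x₂ + f w * x₁ * x₂) P₀ =
      eval₂ f x₁ P₀ + eval₂ f x₂ P₀ + f (w ^ p) * eval₂ f x₁ P₀ * eval₂ f x₂ P₀ := by
    have hfw : f (w ^ p) ≠ 0 := fun h =>
      pow_ne_zero p hw0 (MvPolynomial.C_injective _ _ (h.trans (map_zero f).symm))
    refine mul_left_cancel₀ hfw ?_
    rw [hev, show 1 + f w * (x₁ + x₂ + f w * x₁ * x₂) = (1 + f w * x₁) * (1 + f w * x₂) by ring, mul_pow]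
    linear_combination (-1 - f (w ^ p) * eval₂ f x₂ P₀) * hev x₁ - ((1 + f w * x₁) ^ p) * hev x₂
  -- specialize
  let φ : R₀ →+* A := AdjoinRoot.lift (algebraMap ℤ A) ζ (by rwa [← aeval_def])
  have hφw : φ w = 1 - ζ := by
    rw [map_sub, map_one, show φ r = ζ from AdjoinRoot.lift_root _]
  refine ⟨P₀.map φ, ?_, ⟨fun i => φ (a₀ i), fun i => ?_, ?_⟩, ?_⟩
  · have := congrArg (Polynomial.map φ) hP
    simpa [Polynomial.map_mul, Polynomial.map_sub, Polynomial.map_pow, Polynomial.map_add, hφw]
      using this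
  · rw [← hφw, Ideal.mem_span_singleton]
    exact map_dvd φ (ha₀ i)
  · rw [hPa]
    simp [Polynomial.map_sum]
  · intro S _ _ z₁ z₂
    let ψ : T →+* S := MvPolynomial.eval₂Hom ((algebraMap A S).comp φ) ![z₁, z₂]
    have hψf : ψ.comp f = (algebraMap A S).comp φ := RingHom.ext fun x => MvPolynomial.eval₂Hom_C _ _ x
    have h1 : ψ x₁ = z₁ := MvPolynomial.eval₂Hom_X' _ _ _
    have h2 : ψ x₂ = z₂ := MvPolynomial.eval₂Hom_X' _ _ _
    have hw' : ψ (f w) = algebraMap A S (1 - ζ) := by
      rw [← RingHom.comp_apply, hψf, RingHom.comp_apply, hφw]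
    have := congrArg ψ hid
    simp only [map_add, map_mul, hom_eval₂, hψf, h1, h2, hw', map_pow] at this
    simpa [aeval_def, eval₂_map] using this

end Groth.Agent.S7140
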