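import Groth.Statements.S7141
import Groth.Agent.HenselLib.WEtField
import Mathlib.Dynamics.Newton
import Mathlib.RingTheory.Etale.StandardEtale
import Mathlib.RingTheory.Nilpotent.Lemmas

set_option autoImplicit false
universe u
open EtAlg

namespace Groth.Agent.S7141

/-- Let K be a field and, for a K-algebra A, let B_max(A) be its largest weakly étale K-subalgebra. (2)
For a K-subalgebra A' ⊆ A one has B_max(A') = B_max(A) ∩ A'. (4) The quotient map A → A_red =
A/nilradical restricts to a bijection B_max(A) → B_max(A_red). (6) If A ≠ 0 and its only idempotents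
are 0 and 1, then B_max(A) is a field, algebraic and separable over K. (The published statement
omits A ≠ 0; this row assumes it, since for A = 0 the largest weakly étale subalgebra is the zero
ring.) -/
theorem result (K : Type u) [Field K] (A : Type u) [CommRing A] [Algebra K A] :
    (∀ A' : Subalgebra K A,
      (EtAlgD.maxWeaklyEtale K A').map A'.val = EtAlgD.maxWeaklyEtale K A ⊓ A') ∧
    (Set.BijOn (Ideal.Quotient.mkₐ K (nilradical A)) (EtAlgD.maxWeaklyEtale K A)
      (EtAlgD.maxWeaklyEtale K (A ⧸ nilradical A))) ∧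
    ((∀ e : A, IsIdempotentElem e → e = 0 ∨ e = 1) → Nontrivial A →
      IsField (EtAlgD.maxWeaklyEtale K A) ∧ Algebra.IsSeparable K (EtAlgD.maxWeaklyEtale K A)) := by
  refine ⟨fun A' => ?_, ?_, fun hidem hne => ?_⟩
  · haveI := HenselLib.WEt.weaklyEtale_max (K := K) (B := A)
    haveI := HenselLib.WEt.weaklyEtale_max (K := K) (B := A')
    apply le_antisymm
    · refine le_inf ?_ ?_
      · rw [show (EtAlgD.maxWeaklyEtale K A').map A'.val =
          (A'.val.comp (EtAlgD.maxWeaklyEtale K A').val).range by
            rw [AlgHom.range_comp, Subalgebra.range_val]]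
        haveI := HenselLib.WEt.weaklyEtale_range (K := K) (A'.val.comp (EtAlgD.maxWeaklyEtale K A').val)
        exact HenselLib.WEt.le_maxWeaklyEtale _
      · rintro _ ⟨x, -, rfl⟩
        exact x.2
    · intro x hx
      obtain ⟨h1, h2⟩ := Algebra.mem_inf.mp hx
      let g : ↥(EtAlgD.maxWeaklyEtale K A ⊓ A') →ₐ[K] A' :=
        (EtAlgD.maxWeaklyEtale K A ⊓ A').val.codRestrict A' fun y => (Algebra.mem_inf.mp y.2).2
      let g' : ↥(EtAlgD.maxWeaklyEtale K A ⊓ A') →ₐ[K] EtAlgD.maxWeaklyEtale K A :=
        Subalgebra.inclusion inf_le_left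
      haveI := HenselLib.WEt.weaklyEtale_of_etFG
        (HenselLib.WEt.etFG_of_injective g' (Subalgebra.inclusion_injective _)
          HenselLib.WEt.etFG_of_weaklyEtale)
      haveI := HenselLib.WEt.weaklyEtale_range (K := K) g
      exact ⟨⟨x, h2⟩, HenselLib.WEt.le_maxWeaklyEtale g.range ⟨⟨x, hx⟩, rfl⟩, rfl⟩
  · let π := Ideal.Quotient.mkₐ K (nilradical A)
    haveI := HenselLib.WEt.weaklyEtale_max (K := K) (B := A)
    haveI := HenselLib.WEt.weaklyEtale_max (K := K) (B := A ⧸ nilradical A)
    refine ⟨fun x hx => ?_, fun x hx y hy hxy => ?_, fun y hy => ?_⟩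
    · haveI := HenselLib.WEt.weaklyEtale_range (K := K) (π.comp (EtAlgD.maxWeaklyEtale K A).val)
      exact HenselLib.WEt.le_maxWeaklyEtale (π.comp (EtAlgD.maxWeaklyEtale K A).val).range ⟨⟨x, hx⟩, rfl⟩
    · haveI := (HenselLib.WEt.vnr_of_weaklyEtale (A := K) (B := EtAlgD.maxWeaklyEtale K A)
        (HenselLib.WEt.vnr_field K)).isReduced
      have h : IsNilpotent (x - y) := by
        rw [← mem_nilradical, ← Ideal.Quotient.mk_eq_mk_iff_sub_mem]
        exact hxy
      obtain ⟨n, hn⟩ := h
      have : (⟨x - y, sub_mem hx hy⟩ : EtAlgD.maxWeaklyEtale K A) = 0 :=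
        IsReduced.eq_zero _ ⟨n, Subtype.ext (by simpa using hn)⟩
      exact sub_eq_zero.mp (congrArg Subtype.val this)
    · let S : Subalgebra K (EtAlgD.maxWeaklyEtale K (A ⧸ nilradical A)) := Algebra.adjoin K {⟨y, hy⟩}
      haveI : Algebra.Etale K S := HenselLib.WEt.etFG_of_weaklyEtale S ⟨{⟨y, hy⟩}, by rw [Finset.coe_singleton]⟩
      haveI : Algebra.IsIntegral K (EtAlgD.maxWeaklyEtale K (A ⧸ nilradical A)) :=
        HenselLib.WEt.isIntegral_of_weaklyEtale
      haveI := (HenselLib.WEt.vnr_of_weaklyEtale (A := K) (B := EtAlgD.maxWeaklyEtale K (A ⧸ nilradical A))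
        (HenselLib.WEt.vnr_field K)).isReduced
      let g := minpoly K (⟨y, hy⟩ : EtAlgD.maxWeaklyEtale K (A ⧸ nilradical A))
      have hg : g.Separable := by
        have hf : minpoly K (⟨⟨y, hy⟩, Algebra.subset_adjoin rfl⟩ : S) = g :=
          (minpoly.algHom_eq S.val Subtype.val_injective _).symm
        obtain ⟨ι, _, F, _, _, e, hF⟩ := (Algebra.Etale.iff_exists_algEquiv_prod (K := K) (A := S)).mp ‹_›
        haveI := fun i => (hF i).1
        haveI := fun i => (hF i).2
        haveI := Fintype.ofFinite ι
        rw [← hf, ← minpoly.algEquiv_eq e]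
        classical
        have hP : (∏ P ∈ (Finset.univ.image fun i => minpoly K (e ⟨⟨y, hy⟩, Algebra.subset_adjoin rfl⟩ i)), P).Separable := by
          refine Polynomial.separable_prod' (fun P hP Q hQ hne => ?_) fun P hP => ?_
          · obtain ⟨i, -, rfl⟩ := Finset.mem_image.mp hP
            obtain ⟨j, -, rfl⟩ := Finset.mem_image.mp hQ
            refine ((minpoly.irreducible (Algebra.IsIntegral.isIntegral _)).coprime_iff_not_dvd).mpr fun hd => hne ?_
            exact Polynomial.eq_of_monic_of_associated (minpoly.monic (Algebra.IsIntegral.isIntegral _))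
              (minpoly.monic (Algebra.IsIntegral.isIntegral _))
              ((minpoly.irreducible (Algebra.IsIntegral.isIntegral _)).associated_of_dvd
                (minpoly.irreducible (Algebra.IsIntegral.isIntegral _)) hd)
          · obtain ⟨i, -, rfl⟩ := Finset.mem_image.mp hP
            exact Algebra.IsSeparable.isSeparable K _
        refine hP.of_dvd (minpoly.dvd K _ ?_)
        funext i
        rw [show Polynomial.aeval (e ⟨⟨y, hy⟩, Algebra.subset_adjoin rfl⟩) _ i =
          Pi.evalAlgHom K F i (Polynomial.aeval (e ⟨⟨y, hy⟩, Algebra.subset_adjoin rfl⟩) _) from rfl,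
          ← Polynomial.aeval_algHom_apply, map_prod]
        exact Finset.prod_eq_zero (Finset.mem_image_of_mem _ (Finset.mem_univ i)) (minpoly.aeval K _)
      have hgy : Polynomial.aeval y g = 0 := by
        have := congrArg (EtAlgD.maxWeaklyEtale K (A ⧸ nilradical A)).val
          (minpoly.aeval K (⟨y, hy⟩ : EtAlgD.maxWeaklyEtale K (A ⧸ nilradical A)))
        rwa [← Polynomial.aeval_algHom_apply, map_zero] at this
      obtain ⟨x₀, rfl⟩ := Ideal.Quotient.mk_surjective y
      have hnil : IsNilpotent (Polynomial.aeval x₀ g) := by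
        rw [← mem_nilradical, ← Ideal.Quotient.eq_zero_iff_mem, ← hgy]
        exact (Polynomial.aeval_algHom_apply π x₀ g).symm
      have hu : IsUnit (Polynomial.aeval x₀ (Polynomial.derivative g)) := by
        obtain ⟨a, b, hab⟩ := hg
        have := congrArg (Polynomial.aeval x₀) hab
        simp only [map_add, map_mul, map_one] at this
        refine isUnit_of_mul_isUnit_right (x := Polynomial.aeval x₀ b) ?_
        rw [show Polynomial.aeval x₀ b * Polynomial.aeval x₀ (Polynomial.derivative g) =
          1 - Polynomial.aeval x₀ a * Polynomial.aeval x₀ g by linear_combination this]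
        exact IsNilpotent.isUnit_one_sub ((Commute.all _ _).isNilpotent_mul_left hnil)
      obtain ⟨x, ⟨hx, hx0⟩, -⟩ :=
        Polynomial.existsUnique_nilpotent_sub_and_aeval_eq_zero hnil hu
      let P : StandardEtalePair K :=
        { f := g
          monic_f := minpoly.monic (Algebra.IsIntegral.isIntegral _)
          g := 1
          cond := by
            obtain ⟨a, b, hab⟩ := hg
            exact ⟨b, a, 1, by rw [pow_one, ← hab]; ring⟩ }
      have hP : P.HasMap x := ⟨hx0, by simp [P]⟩
      haveI : Algebra.WeaklyEtale K (P.lift x hP).range := HenselLib.WEt.weaklyEtale_range _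
      refine ⟨x, HenselLib.WEt.le_maxWeaklyEtale (P.lift x hP).range ⟨P.X, P.lift_X x hP⟩, ?_⟩
      change Ideal.Quotient.mk _ x = _
      rw [eq_comm, Ideal.Quotient.mk_eq_mk_iff_sub_mem, mem_nilradical]
      exact hx
  · haveI := HenselLib.WEt.weaklyEtale_max (K := K) (B := A)
    have hv := HenselLib.WEt.vnr_of_weaklyEtale (A := K) (B := EtAlgD.maxWeaklyEtale K A)
      (HenselLib.WEt.vnr_field K)
    have hfield : IsField (EtAlgD.maxWeaklyEtale K A) := by
      refine ⟨⟨0, 1, fun h => zero_ne_one (α := A) (congrArg Subtype.val h)⟩, mul_comm, fun {x} hx => ?_⟩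
      obtain ⟨a, ha⟩ := hv x
      refine ⟨a, ?_⟩
      have he : IsIdempotentElem ((x * a : EtAlgD.maxWeaklyEtale K A) : A) := by
        change _ * _ = _
        rw [← MulMemClass.coe_mul, show x * a * (x * a) = x * x * a * a by ring, ← ha]
      rcases hidem _ he with h | h
      · refine absurd ?_ hx
        rw [ha, mul_assoc, show x * a = 0 from Subtype.ext h, mul_zero]
      · exact Subtype.ext h
    refine ⟨hfield, ?_⟩
    letI := hfield.toField
    exact HenselLib.WEt.isSeparable_field _

end Groth.Agent.S7141
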