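import Groth.Statements.S7143
import Groth.Agent.HenselLib.WeakDim
import Mathlib.Algebra.Category.Ring.Epi

set_option autoImplicit false
universe u
open CategoryTheory
open EtAlg

namespace Groth.Agent.S7143

/-- Every normal domain A with fraction field K is the fibre product V ×_L K for suitable rings V and L
with maps A → V, V → L, K → L (together with the given A → K), where every ideal of V is flat (weak
dimension at most one) and V → L is flat, injective and an epimorphism of rings. -/
theorem result (A K : Type u) [CommRing A] [IsDomain A] [Field K] [Algebra A K]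
    [IsFractionRing A K] [IsIntegrallyClosed A] :
    ∃ (V L : Type u) (_ : CommRing V) (_ : CommRing L) (f : A →+* V) (g : V →+* L) (h : K →+* L),
      g.comp f = h.comp (algebraMap A K) ∧
      (∀ I : Ideal V, Module.Flat V I) ∧ g.Flat ∧ Function.Injective g ∧ Epi (CommRingCat.ofHom g) ∧
      ∀ (v : V) (k : K), g v = h k → ∃! a : A, f a = v ∧ algebraMap A K a = k := by
  obtain ⟨V, L, hV, hL, f, g, h, h1, h2, h3, h4, h5, h6⟩ := HenselLib.WeakDim.exists_cartesian A K
  exact ⟨V, L, hV, hL, f, g, h, h1, h2, h3, h4,
    (@CommRingCat.epi_iff_epi V L hV hL g.toAlgebra).mpr h5, h6⟩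

end Groth.Agent.S7143
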