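import Mathlib.RingTheory.Valuation.ValuationRing
import Mathlib.RingTheory.Bezout
import Mathlib.RingTheory.LocalRing.Basic

set_option autoImplicit false
universe u
namespace CAlg
end CAlg
open CAlg

namespace Groth.Agent.S7144

/-- (1) ⇔ (2): let R be a nonzero ring. Then for all a, b in R one of a, b divides the other if and only
if R is local and every finitely generated ideal of R is principal. (The further equivalence with
the total ordering of the set of ideals by inclusion is standard and not restated here.) -/
theorem result (R : Type u) [CommRing R] [Nontrivial R] :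
    PreValuationRing R ↔ IsLocalRing R ∧ IsBezout R := by
  constructor
  · intro _
    have hloc : IsLocalRing R := by
      refine .of_isUnit_or_isUnit_one_sub_self fun a => ?_
      obtain ⟨c, h | h⟩ := PreValuationRing.cond a (1 - a)
      · exact .inl (.of_mul_eq_one (c + 1) (by rw [mul_add, h]; ring))
      · exact .inr (.of_mul_eq_one (c + 1) (by rw [mul_add, h]; ring))
    refine ⟨hloc, IsBezout.iff_span_pair_isPrincipal.2 fun x y => ?_⟩
    rcases (PreValuationRing.iff_ideal_total.1 ‹_›).total (Ideal.span {x}) (Ideal.span {y}) with h | h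
    · rw [Ideal.span_insert, sup_eq_right.2 h]; exact ⟨⟨_, rfl⟩⟩
    · rw [Ideal.span_insert, sup_eq_left.2 h]; exact ⟨⟨_, rfl⟩⟩
  · rintro ⟨_, _⟩
    refine PreValuationRing.iff_dvd_total.2 ⟨fun a b => ?_⟩
    obtain ⟨g, e : _ = Ideal.span _⟩ := IsBezout.span_pair_isPrincipal a b
    obtain ⟨a', rfl⟩ := Ideal.mem_span_singleton'.mp
      (show a ∈ Ideal.span {g} by rw [← e]; exact Ideal.subset_span (by simp))
    obtain ⟨b', rfl⟩ := Ideal.mem_span_singleton'.mp
      (show b ∈ Ideal.span {g} by rw [← e]; exact Ideal.subset_span (by simp))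
    obtain ⟨x, y, e'⟩ := Ideal.mem_span_pair.mp
      (show g ∈ Ideal.span {a' * g, b' * g} by rw [e]; exact Ideal.subset_span (by simp))
    rcases IsLocalRing.isUnit_or_isUnit_one_sub_self (x * a' + y * b') with h | h
    · rcases IsLocalRing.isUnit_or_isUnit_of_isUnit_add h with h' | h' <;> [left; right]
      all_goals exact mul_dvd_mul_right (isUnit_iff_forall_dvd.mp (isUnit_of_mul_isUnit_right h') _) _
    · have hg : g = 0 := h.mul_right_eq_zero.1 (by linear_combination -e')
      left; simp [hg]

end Groth.Agent.S7144
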