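import Groth.Statements.S7145
import Mathlib
-- import your own Groth.Agent.* helpers here

set_option autoImplicit false
universe u
open CategoryTheory CategoryTheory.Limits
open CAlg

namespace Groth.Agent.S7145

open CategoryTheory CategoryTheory.Limits

noncomputable section

variable {R : Type u} [CommRing R] {F : CochainComplex (ModuleCat.{u} R) ℤ} {ι : ℤ → Type u}
  (B : ∀ n, Module.Basis (ι n) R (F.X n)) {N : ℕ} (deg : Fin N → ℤ) (f : ∀ i : Fin N, F.X (deg i))

/-- The basis vectors that are needed. -/
inductive Need : (n : ℤ) → ι n → Prop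
  | base (i : Fin N) (x : ι (deg i)) : x ∈ ((B (deg i)).repr (f i)).support → Need (deg i) x
  | step (n : ℤ) (x : ι n) (y : ι (n + 1)) :
      Need n x → y ∈ ((B (n + 1)).repr ((F.d n (n + 1)).hom (B n x))).support → Need (n + 1) y

theorem need_ge {a : ℤ} (ha : ∀ i, a ≤ deg i) {n : ℤ} {x : ι n} (h : Need B deg f n x) : a ≤ n := by
  induction h with
  | base i x hx => exact ha i
  | step n x y _ _ ih => omega

theorem need_finite {a : ℤ} (ha : ∀ i, a ≤ deg i) (n : ℤ) : {x | Need B deg f n x}.Finite := by
  classical
  suffices key : ∀ (j : ℕ) (n : ℤ), n < a + j → {x | Need B deg f n x}.Finite from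
    key ((n - a).toNat + 1) n (by omega)
  intro j
  induction j with
  | zero =>
    exact fun n hn => Set.Finite.subset Set.finite_empty fun x hx => absurd (need_ge B deg f ha hx) (by omega)
  | succ j ih =>
    intro n hn
    refine Set.Finite.subset (s := (⋃ i : {i : Fin N // deg i = n}, (((B n).repr (i.2 ▸ f i.1)).support : Set (ι n))) ∪
        ⋃ m : {m : ℤ // m + 1 = n}, ⋃ x ∈ {x | Need B deg f m.1 x}, (((B n).repr ((F.d m.1 n).hom (B m.1 x))).support : Set (ι n))) ?_ ?_
    · refine (Set.finite_iUnion fun i => Finset.finite_toSet _).union ?_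
      haveI : Subsingleton {m : ℤ // m + 1 = n} := ⟨fun a b => Subtype.ext (add_right_cancel (a.2.trans b.2.symm))⟩
      exact Set.finite_iUnion fun m => (ih m.1 (by have := m.2; omega)).biUnion fun x _ => Finset.finite_toSet _
    · intro y hy
      cases hy with
      | base i x hx => exact Or.inl (Set.mem_iUnion.2 ⟨⟨i, rfl⟩, hx⟩)
      | step n x y hx hy => exact Or.inr (Set.mem_iUnion.2 ⟨⟨n, rfl⟩, Set.mem_biUnion hx hy⟩)

/-- The subcomplex in degree `n`. -/
abbrev P (n : ℤ) : Submodule R (F.X n) := Submodule.span R (B n '' {x | Need B deg f n x})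

theorem d_mem {i j : ℤ} {v : F.X i} (hv : v ∈ P B deg f i) : (F.d i j).hom v ∈ P B deg f j := by
  by_cases h : (ComplexShape.up ℤ).Rel i j
  · obtain rfl : i + 1 = j := h
    induction hv using Submodule.span_induction with
    | mem v hv =>
      obtain ⟨x, hx, rfl⟩ := hv
      rw [← (B (i + 1)).linearCombination_repr ((F.d i (i + 1)).hom (B i x))]
      refine Submodule.sum_mem _ fun y hy => Submodule.smul_mem _ _ (Submodule.subset_span ⟨y, ?_, rfl⟩)
      exact Need.step i x y hx hy
    | zero => rw [map_zero]; exact zero_mem _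
    | add v w _ _ h1 h2 => rw [map_add]; exact add_mem h1 h2
    | smul r v _ h1 => rw [map_smul]; exact Submodule.smul_mem _ _ h1
  · rw [F.shape i j h]
    exact zero_mem _

/-- The subcomplex. -/
def sub : CochainComplex (ModuleCat.{u} R) ℤ where
  X n := ModuleCat.of R (P B deg f n)
  d i j := ModuleCat.ofHom (((F.d i j).hom ∘ₗ (P B deg f i).subtype).codRestrict (P B deg f j) fun v => d_mem B deg f v.2)
  shape i j h := by
    refine ModuleCat.hom_ext (LinearMap.ext fun v => Subtype.ext ?_)
    show (F.d i j).hom v.1 = 0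
    rw [F.shape i j h]
    rfl
  d_comp_d' i j l _ _ := by
    refine ModuleCat.hom_ext (LinearMap.ext fun v => Subtype.ext ?_)
    show (F.d i j ≫ F.d j l).hom v.1 = 0
    rw [F.d_comp_d]
    rfl

/-- The inclusion. -/
def incl : sub B deg f ⟶ F where
  f n := ModuleCat.ofHom (P B deg f n).subtype
  comm' i j _ := ModuleCat.hom_ext (LinearMap.ext fun v => rfl)

end

/-- Let R be a ring and F a cochain complex of free R-modules that is zero in all sufficiently large
degrees. Given finitely many elements f_i of F, f_i lying in degree n_i, there is a subcomplex G of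
F (a map of complexes G → F injective in every degree) through which every f_i passes, such that G
is zero outside a finite range of degrees and each term of G is a finitely generated free R-module. -/
theorem result (R : Type u) [CommRing R]
    (F : CochainComplex (ModuleCat.{u} R) ℤ) (hfree : ∀ n : ℤ, Module.Free R (F.X n))
    (b : ℤ) (hb : ∀ n : ℤ, b < n → IsZero (F.X n))
    (N : ℕ) (deg : Fin N → ℤ) (f : ∀ i : Fin N, F.X (deg i)) :
    ∃ (G : CochainComplex (ModuleCat.{u} R) ℤ) (ι : G ⟶ F),
      (∀ n : ℤ, Function.Injective (ι.f n)) ∧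
      (∃ a c : ℤ, ∀ n : ℤ, (n < a ∨ c < n) → IsZero (G.X n)) ∧
      (∀ n : ℤ, Module.Finite R (G.X n) ∧ Module.Free R (G.X n)) ∧
      ∀ i : Fin N, f i ∈ Set.range (ι.f (deg i)) := by
  classical
  let B := fun n => haveI := hfree n; Module.Free.chooseBasis R (F.X n)
  let a : ℤ := -(∑ i, |deg i|)
  have ha : ∀ i, a ≤ deg i := fun i => by
    have h1 : |deg i| ≤ ∑ i, |deg i| := Finset.single_le_sum (fun i _ => abs_nonneg (deg i)) (Finset.mem_univ i)
    have h2 := neg_abs_le (deg i)
    omega
  refine ⟨sub B deg f, incl B deg f, fun n => Subtype.val_injective, ⟨a, b, ?_⟩, fun n => ⟨?_, ?_⟩, fun i => ?_⟩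
  · rintro n (hn | hn)
    · refine ModuleCat.isZero_of_iff_subsingleton.2 ?_
      show Subsingleton (P B deg f n)
      rw [Submodule.subsingleton_iff_eq_bot, Submodule.span_eq_bot]
      rintro _ ⟨x, hx, rfl⟩
      exact absurd (need_ge B deg f ha hx) (by omega)
    · refine ModuleCat.isZero_of_iff_subsingleton.2 ?_
      haveI := ModuleCat.isZero_of_iff_subsingleton.1 (hb n hn)
      show Subsingleton (P B deg f n)
      infer_instance
  · exact Module.Finite.span_of_finite R ((need_finite B deg f ha n).image _)
  · have hli : LinearIndependent R (fun x : {x | Need B deg f n x} => B n x) :=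
      (B n).linearIndependent.comp _ Subtype.val_injective
    refine Module.Free.of_equiv ((Module.Basis.span hli).repr.symm.trans (LinearEquiv.ofEq _ _ ?_))
    show Submodule.span R (Set.range _) = Submodule.span R _
    rw [Set.image_eq_range]
  · refine ⟨⟨f i, ?_⟩, rfl⟩
    show f i ∈ P B deg f (deg i)
    rw [← (B (deg i)).linearCombination_repr (f i)]
    exact Submodule.sum_mem _ fun y hy => Submodule.smul_mem _ _ (Submodule.subset_span ⟨y, Need.base (B := B) (deg := deg) (f := f) i y hy, rfl⟩)

end Groth.Agent.S7145
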