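import Groth.Statements.S7150
import Groth.Agent.HenselLib.FieldSmoothGR
import Mathlib.FieldTheory.Perfect
import Mathlib.Algebra.Algebra.ZMod

set_option autoImplicit false
universe u
open EtAlg

namespace Groth.Agent.S7150

/-- Suppose p is a prime with p·1 = 0 in the local ring A and some power of the maximal ideal of A is
zero. Then the residue map A → κ_A has a section σ : κ_A → A that is a ring map. If moreover A → A'
is a local homomorphism to another local ring whose maximal ideal has a vanishing power, and the
residue field extension κ_{A'}/κ_A is separable (possibly transcendental, i.e. geometrically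
reduced), then for any such σ there is a section σ' : κ_{A'} → A' compatible with σ. -/
theorem result (p : ℕ) (hp : p.Prime) (A : Type u) [CommRing A]
    [IsLocalRing A] [CharP A p] (hnil : ∃ n : ℕ, IsLocalRing.maximalIdeal A ^ n = ⊥) :
    (∃ σ : IsLocalRing.ResidueField A →+* A, (IsLocalRing.residue A).comp σ = RingHom.id _) ∧
    ∀ (A' : Type u) [CommRing A'] [IsLocalRing A'] [Algebra A A'] [IsLocalHom (algebraMap A A')],
      (∃ n : ℕ, IsLocalRing.maximalIdeal A' ^ n = ⊥) →
      Algebra.IsGeometricallyReduced (IsLocalRing.ResidueField A) (IsLocalRing.ResidueField A') →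
      ∀ σ : IsLocalRing.ResidueField A →+* A, (IsLocalRing.residue A).comp σ = RingHom.id _ →
        ∃ σ' : IsLocalRing.ResidueField A' →+* A', (IsLocalRing.residue A').comp σ' = RingHom.id _ ∧
          σ'.comp (IsLocalRing.ResidueField.map (algebraMap A A')) = (algebraMap A A').comp σ := by
  have : Fact p.Prime := ⟨hp⟩
  refine ⟨?_, fun A' _ _ _ _ hnil' hred σ hσ => ?_⟩
  · letI : Algebra (ZMod p) A := ZMod.algebra A p
    have := Groth.Agent.CAlgH.formallySmooth_of_perfectField_any (ZMod p) (IsLocalRing.ResidueField A)
    obtain ⟨σ, hσ⟩ := Algebra.FormallySmooth.exists_lift (R := ZMod p) (IsLocalRing.maximalIdeal A)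
      (by obtain ⟨n, hn⟩ := hnil; exact ⟨n, by rw [hn]; rfl⟩)
      (AlgHom.id (ZMod p) (IsLocalRing.ResidueField A))
    exact ⟨σ.toRingHom, RingHom.ext fun x => DFunLike.congr_fun hσ x⟩
  · refine Groth.Agent.HenselLib.exists_residue_section' (IsLocalRing.ResidueField A) A'
      ((algebraMap A A').comp σ) (IsLocalRing.ResidueField.map (algebraMap A A')) (fun x => ?_) ?_ hnil'
    · have hx : IsLocalRing.residue A (σ x) = x := RingHom.congr_fun hσ x
      conv_rhs => rw [← hx]
      rfl
    · convert hred using 1
      · rfl
      · exact Algebra.algebra_ext _ _ fun r => by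
          obtain ⟨y, rfl⟩ := IsLocalRing.residue_surjective (R := A) r
          rfl

end Groth.Agent.S7150
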