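import Groth.Statements.S7156
import Groth.Agent.EtRamLib.PthRoot
import Groth.Agent.EtRamLib.SepTotRam

set_option autoImplicit false
set_option linter.all false
universe u
open EtAlg

namespace Groth.Agent.S7156

set_option maxHeartbeats 1600000 in
open TensorProduct in
/-- Let A → B → C be injective local homomorphisms of discrete valuation rings whose fields of fractions
are K ⊆ L ⊆ M, and let π be a uniformizer of A; suppose B is a Nagata ring, A → B is weakly
unramified, and M/L is purely inseparable of prime degree p. Then one of the following holds: the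
extension A → C is itself weakly unramified; or else C = B[π^(1/p)]; or else there is a separable
degree-p extension K₁/K, totally ramified with respect to A, for which L ⊗_K K₁ and M ⊗_K K₁ are
fields and the integral closures A₁ → B₁ → C₁ are weakly unramified extensions, i.e. K₁ is a weak
solution for A ⊆ B and for A ⊆ C. -/
theorem result (p : ℕ) (hp : p.Prime) (A B C K L M : Type u)
    [CommRing A] [IsDomain A] [IsDiscreteValuationRing A] [CommRing B] [IsDomain B] [IsDiscreteValuationRing B]
    [CommRing C] [IsDomain C] [IsDiscreteValuationRing C]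
    [Algebra A B] [Algebra B C] [Algebra A C] [IsScalarTower A B C]
    (hAB : Function.Injective (algebraMap A B)) (hBC : Function.Injective (algebraMap B C))
    [IsLocalHom (algebraMap A B)] [IsLocalHom (algebraMap B C)]
    [Field K] [Field L] [Field M] [Algebra A K] [IsFractionRing A K] [Algebra B L] [IsFractionRing B L]
    [Algebra C M] [IsFractionRing C M] [Algebra K L] [Algebra L M] [Algebra K M] [IsScalarTower K L M]
    [Algebra A L] [IsScalarTower A K L] [IsScalarTower A B L] [Algebra B M] [IsScalarTower B L M] [IsScalarTower B C M]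
    [Algebra A M] [IsScalarTower A K M] [IsScalarTower A C M]
    (π : A) (hπ : IsLocalRing.maximalIdeal A = Ideal.span {π}) (hB : CAlg.IsNagata B)
    (hw : EtRam.IsWeaklyUnramified A B) [IsPurelyInseparable L M] (hdeg : Module.finrank L M = p) :
    EtRam.IsWeaklyUnramified A C ∨
      (∃ c : C, c ^ p = algebraMap A C π ∧ Algebra.adjoin B {c} = ⊤) ∨
      ∃ (K₁ : Type u) (_ : Field K₁) (_ : Algebra K K₁),
        Module.finrank K K₁ = p ∧ Algebra.IsSeparable K K₁ ∧
          EtRam.IsTotallyRamified A ((algebraMap K K₁).comp (algebraMap A K)) ∧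
          IsField (L ⊗[K] K₁) ∧ IsField (M ⊗[K] K₁) ∧
          EtRam.IsWeakSolution B K L K₁ ∧ EtRam.IsWeakSolution C K M K₁ := by
  classical
  haveI : ExpChar L (ringExpChar L) := inferInstance
  haveI : FiniteDimensional L M := FiniteDimensional.of_finrank_pos (hdeg ▸ hp.pos)
  obtain ⟨n, hn⟩ := IsPurelyInseparable.finrank_eq_pow L M (ringExpChar L)
  rw [hdeg] at hn
  have hLp : CharP L p := by
    have hne : n ≠ 0 := fun h => hp.ne_one (by rw [hn, h, pow_zero])
    have hpe : ringExpChar L = p := by
      rcases Nat.Prime.pow_eq_iff hp |>.mp hn.symm with ⟨h1, -⟩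
      exact h1
    have h2 : ExpChar L p := hpe ▸ inferInstance
    cases h2 with
    | zero => exact absurd hp Nat.not_prime_one
    | prime _ => assumption
  haveI := hLp
  haveI : CharP K p := (RingHom.charP_iff_charP (algebraMap K L) p).mpr hLp
  haveI : ExpChar L p := ExpChar.prime hp
  have hpow : ∀ x : M, x ^ p ∈ Set.range (algebraMap L M) := fun x => by
    obtain ⟨k, c, hc⟩ := IsPurelyInseparable.minpoly_eq_X_pow_sub_C L p x
    have hd := minpoly.natDegree_le (A := L) x
    rw [hc, Polynomial.natDegree_sub_C, Polynomial.natDegree_X_pow, hdeg] at hd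
    have hk : k ≤ 1 := (Nat.pow_le_pow_iff_right hp.one_lt).mp (by rwa [pow_one])
    have hx : x ^ p ^ k = algebraMap L M c := by
      have := minpoly.aeval L x
      rw [hc, map_sub, Polynomial.aeval_X_pow, Polynomial.aeval_C, sub_eq_zero] at this
      exact this
    rcases Nat.le_one_iff_eq_zero_or_eq_one.mp hk with h | h
    · rw [h, pow_zero, pow_one] at hx
      exact ⟨c ^ p, by rw [map_pow, hx]⟩
    · rw [h, pow_one] at hx
      exact ⟨c, hx.symm⟩
  have hπA : Irreducible π := (IsDiscreteValuationRing.irreducible_iff_uniformizer π).mpr hπ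
  have hπB : Irreducible (algebraMap A B π) := (IsDiscreteValuationRing.irreducible_iff_uniformizer _).mpr (by
    rw [← hw, hπ, Ideal.map_span, Set.image_singleton])
  haveI : IsLocalHom (algebraMap A C) := by
    rw [IsScalarTower.algebraMap_eq A B C]; exact RingHom.isLocalHom_comp _ _
  have hBCM : ∀ a : A, algebraMap B M (algebraMap A B a) = algebraMap A M a := fun a => by
    rw [IsScalarTower.algebraMap_apply B L M, ← IsScalarTower.algebraMap_apply A B L, IsScalarTower.algebraMap_apply A K L,
      ← IsScalarTower.algebraMap_apply K L M, ← IsScalarTower.algebraMap_apply A K M]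
  haveI : Algebra.IsIntegral B C := ⟨fun x => by
    obtain ⟨l, hl⟩ := hpow (algebraMap C M x)
    obtain ⟨b, hb⟩ : ∃ b : B, algebraMap B L b = l := by
      rcases ValuationRing.isInteger_or_isInteger B l with h | h
      · exact h
      obtain ⟨b, hb⟩ := h
      by_cases hl0 : l = 0
      · exact ⟨0, by rw [map_zero, hl0]⟩
      have h1 : algebraMap B C b * x ^ p = 1 := IsFractionRing.injective C M (by
        rw [map_mul, map_one, map_pow, ← hl, ← IsScalarTower.algebraMap_apply B C M, IsScalarTower.algebraMap_apply B L M,
          ← map_mul, hb, inv_mul_cancel₀ hl0, map_one])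
      obtain ⟨v, hv⟩ := (isUnit_of_map_unit (algebraMap B C) b (IsUnit.of_mul_eq_one _ h1)).exists_left_inv
      refine ⟨v, ?_⟩
      have h2 : algebraMap B L v * l⁻¹ = 1 := by rw [← hb, ← map_mul, hv, map_one]
      exact (mul_inv_eq_one₀ hl0).mp h2
    have h3 : x ^ p = algebraMap B C b := IsFractionRing.injective C M (by
      rw [map_pow, ← hl, ← hb, ← IsScalarTower.algebraMap_apply B L M, ← IsScalarTower.algebraMap_apply B C M])
    exact ⟨Polynomial.X ^ p - Polynomial.C b, Polynomial.monic_X_pow_sub_C b hp.ne_zero, by
      rw [← Polynomial.aeval_def, map_sub, Polynomial.aeval_X_pow, Polynomial.aeval_C, h3, sub_self]⟩⟩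
  by_cases hroot : ∃ c : M, c ^ p = algebraMap A M π
  · refine Or.inr (Or.inl ?_)
    obtain ⟨c, hc⟩ := hroot
    obtain ⟨c', hc'⟩ : ∃ c' : C, algebraMap C M c' = c := IsIntegrallyClosed.algebraMap_eq_of_integral
      ⟨Polynomial.X ^ p - Polynomial.C (algebraMap A C π), Polynomial.monic_X_pow_sub_C _ hp.ne_zero, by
        rw [← Polynomial.aeval_def, map_sub, Polynomial.aeval_X_pow, Polynomial.aeval_C, hc,
          ← IsScalarTower.algebraMap_apply A C M, sub_self]⟩
    have hcp : c' ^ p = algebraMap A C π := IsFractionRing.injective C M (by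
      rw [map_pow, hc', hc, ← IsScalarTower.algebraMap_apply A C M])
    exact ⟨c', hcp, EtRamLib.Trichotomy.adjoin_pth_root_eq_top p hp (L := L) (M := M) hdeg hpow hB hπB c'
      (hcp.trans (IsScalarTower.algebraMap_apply A B C π))⟩
  · refine Or.inr (Or.inr ?_)
    push Not at hroot
    let a : K := algebraMap A K π
    have hirM : Irreducible ((Polynomial.X ^ p - Polynomial.C a).map (algebraMap K M)) := by
      rw [Polynomial.map_sub, Polynomial.map_pow, Polynomial.map_X, Polynomial.map_C]
      exact X_pow_sub_C_irreducible_of_prime hp fun b hb => hroot b (hb.trans (IsScalarTower.algebraMap_apply A K M π).symm)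
    have hirL : Irreducible ((Polynomial.X ^ p - Polynomial.C a).map (algebraMap K L)) := by
      rw [Polynomial.map_sub, Polynomial.map_pow, Polynomial.map_X, Polynomial.map_C]
      exact X_pow_sub_C_irreducible_of_prime hp fun b hb => hroot (algebraMap L M b) (by
        rw [← map_pow, hb, ← IsScalarTower.algebraMap_apply K L M, ← IsScalarTower.algebraMap_apply A K M])
    have hirK : Irreducible (Polynomial.X ^ p - Polynomial.C a) :=
      X_pow_sub_C_irreducible_of_prime hp fun b hb => hroot (algebraMap K M b) (by
        rw [← map_pow, hb, ← IsScalarTower.algebraMap_apply A K M])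
    haveI := Fact.mk hirK
    haveI := Fact.mk hp
    let K₂ := AdjoinRoot (Polynomial.X ^ p - Polynomial.C a)
    haveI : FiniteDimensional K K₂ := (AdjoinRoot.powerBasis hirK.ne_zero).finite
    haveI : IsReduced (M ⊗[K] K₂) := by
      letI := (EtRamLib.Trichotomy.isField_tensor _ hirM).toField
      infer_instance
    haveI : IsReduced (L ⊗[K] K₂) := by
      letI := (EtRamLib.Trichotomy.isField_tensor _ hirL).toField
      infer_instance
    have hr₂ : AdjoinRoot.root (Polynomial.X ^ p - Polynomial.C a) ^ p = algebraMap K K₂ a := by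
      have : Polynomial.aeval (AdjoinRoot.root (Polynomial.X ^ p - Polynomial.C a)) (Polynomial.X ^ p - Polynomial.C a) = 0 := by
        rw [AdjoinRoot.aeval_eq, AdjoinRoot.mk_self]
      rw [map_sub, Polynomial.aeval_X_pow, Polynomial.aeval_C, sub_eq_zero] at this
      exact this
    haveI : Module.Finite L (L ⊗[K] K₂) := Module.Finite.base_change K L K₂
    haveI : Module.Finite M (M ⊗[K] K₂) := Module.Finite.base_change K M K₂
    haveI : Module.Finite L (M ⊗[K] K₂) := Module.Finite.trans M _
    have hfinB := EtRamLib.Lattice.finite_of_isNagata (R := L ⊗[K] K₂) L hB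
    haveI := EtRamLib.Lattice.finite_of_isNagata (R := M ⊗[K] K₂) L hB
    haveI hfinC : Module.Finite C (integralClosure C (M ⊗[K] K₂)) := by
      haveI : Module.Finite B (integralClosure C (M ⊗[K] K₂)) := Module.Finite.of_injective
        ({ toFun := fun x => ⟨(x : M ⊗[K] K₂), isIntegral_trans (R := B) (x : M ⊗[K] K₂) x.2⟩
           map_add' := fun _ _ => rfl
           map_smul' := fun _ _ => rfl } : integralClosure C (M ⊗[K] K₂) →ₗ[B] integralClosure B (M ⊗[K] K₂))
        fun x y h => Subtype.ext (congrArg Subtype.val h : _)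
      exact Module.Finite.of_restrictScalars_finite B C _
    obtain ⟨δ, hδ⟩ := EtRamLib.Trichotomy.exists_perturb_data p hp K a hirK
    have hπm : π ∈ IsLocalRing.maximalIdeal A := (IsLocalRing.mem_maximalIdeal _).mpr hπA.not_isUnit
    obtain ⟨N₁, hN₁⟩ := EtRamLib.Step.perturbed (A := A) (B := B) (K := K) (L := L) False K₂ hfinB
      (fun M' _ _ _ _ _ _ hadj W hW => EtRamLib.Trichotomy.weak_root p hp hπB _ hr₂
        (EtRamLib.Trichotomy.pow_mem_of_adjoin p (M := L) (fun l => ⟨l ^ p, rfl⟩) a hr₂ hadj) W hW) δ π hπm
    obtain ⟨N₂, hN₂⟩ := EtRamLib.Step.perturbed (A := A) (B := C) (K := K) (L := M) False K₂ hfinC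
      (fun M' _ _ _ _ _ _ hadj W hW => by
        letI : Algebra L M' := ((algebraMap M M').comp (algebraMap L M)).toAlgebra
        haveI : IsScalarTower L M M' := IsScalarTower.of_algebraMap_eq fun _ => rfl
        haveI : IsScalarTower K L M' := IsScalarTower.of_algebraMap_eq fun x => by
          show _ = algebraMap M M' (algebraMap L M (algebraMap K L x))
          rw [← IsScalarTower.algebraMap_apply K L M, ← IsScalarTower.algebraMap_apply K M M']
        have e : ∀ b, ((algebraMap L M').comp (algebraMap B L)) b = algebraMap M M' (algebraMap C M (algebraMap B C b)) := fun b => by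
          show algebraMap M M' (algebraMap L M (algebraMap B L b)) = _
          rw [← IsScalarTower.algebraMap_apply B L M, ← IsScalarTower.algebraMap_apply B C M]
        have hWB : EtRam.Dominates B ((algebraMap L M').comp (algebraMap B L)) W :=
          ⟨fun b => by rw [e]; exact hW.1 _, fun b hb => by
            rw [e]
            exact hW.2 _ ((IsLocalRing.mem_maximalIdeal _).mpr fun hu =>
              (IsLocalRing.mem_maximalIdeal _).mp hb (hu.of_map (algebraMap B C)))⟩
        exact EtRamLib.Trichotomy.weak_root p hp hπB _ hr₂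
          (EtRamLib.Trichotomy.pow_mem_of_adjoin p (M := M) hpow a hr₂ hadj) W hWB) δ π hπm
    let N := N₁ + N₂ + 1
    let e : K := algebraMap A K (π ^ N)
    have he : e ≠ 0 := fun h => pow_ne_zero N hπA.ne_zero (IsFractionRing.injective A K (h.trans (map_zero _).symm))
    obtain ⟨φ, hφ1, hφ⟩ := hδ e he
    let f : Polynomial K := Polynomial.X ^ p + (Polynomial.C e * Polynomial.X - Polynomial.C a)
    have hfd : f.natDegree = p := EtRamLib.Trichotomy.natDegree_pert p hp e a he
    have hfsep : f.Separable := by
      rw [Polynomial.separable_def]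
      have : Polynomial.derivative f = Polynomial.C e := by
        simp only [f, map_add, map_sub, Polynomial.derivative_X_pow, Polynomial.derivative_C_mul, Polynomial.derivative_X,
          Polynomial.derivative_C, CharP.cast_eq_zero, map_zero, zero_mul, zero_add, sub_zero, mul_one]
      rw [this]
      exact ⟨0, Polynomial.C e⁻¹, by rw [zero_mul, zero_add, ← Polynomial.C_mul, inv_mul_cancel₀ he, Polynomial.C_1]⟩
    have hN : 0 < N := by omega
    have hfK : Irreducible f := EtRamLib.Trichotomy.irreducible_pert p hp A K hπA N hN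
    have hfL : Irreducible (f.map (algebraMap K L)) := by
      have := EtRamLib.Trichotomy.irreducible_pert p hp B L hπB N hN
      simpa [f, e, a, ← IsScalarTower.algebraMap_apply A B L, ← IsScalarTower.algebraMap_apply A K L] using this
    have hfM : Irreducible (f.map (algebraMap K M)) := by
      have := (Polynomial.Separable.map (f := algebraMap K L) hfsep).map_irreducible_of_isPurelyInseparable (E := M) hfL
      rwa [Polynomial.map_map, ← IsScalarTower.algebraMap_eq] at this
    haveI := Fact.mk hfK
    let K₁ := AdjoinRoot f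
    haveI : FiniteDimensional K K₁ := (AdjoinRoot.powerBasis hfK.ne_zero).finite
    have hfin₁ : Module.finrank K K₁ = p := by rw [(AdjoinRoot.powerBasis hfK.ne_zero).finrank]; exact hfd
    refine ⟨K₁, inferInstance, inferInstance, hfin₁, ?_, ?_, EtRamLib.Trichotomy.isField_tensor f hfL,
      EtRamLib.Trichotomy.isField_tensor f hfM, ?_, ?_⟩
    · have hs : IsSeparable K (AdjoinRoot.root f) :=
        hfsep.of_dvd (minpoly.dvd K _ (by rw [AdjoinRoot.aeval_eq, AdjoinRoot.mk_self]))
      haveI := (IntermediateField.isSeparable_adjoin_simple_iff_isSeparable K K₁).mpr hs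
      rw [IntermediateField.adjoin_root_eq_top f] at this
      exact AlgEquiv.Algebra.isSeparable IntermediateField.topEquiv
    · have h0 : Polynomial.aeval (AdjoinRoot.root f) f = 0 := by rw [AdjoinRoot.aeval_eq, AdjoinRoot.mk_self]
      simp only [f, map_add, map_sub, map_mul, Polynomial.aeval_X_pow, Polynomial.aeval_X, Polynomial.aeval_C, e, a] at h0
      have := (EtRamLib.Trichotomy.roots_totallyRamified p hp (K := K) (L := K₁) hπA N hN (AdjoinRoot.root f) (by
        rw [IsScalarTower.algebraMap_apply A K K₁, IsScalarTower.algebraMap_apply A K K₁ (π ^ N)]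
        linear_combination h0) hfin₁.le).1
      rwa [IsScalarTower.algebraMap_eq A K K₁] at this
    · exact fun M' _ _ _ _ _ _ hadj W hW => (hN₁ N (by omega) _ φ hφ1 hφ K₁ (AlgHom.id K _) Function.surjective_id M' hadj W hW).1
    · exact fun M' _ _ _ _ _ _ hadj W hW => (hN₂ N (by omega) _ φ hφ1 hφ K₁ (AlgHom.id K _) Function.surjective_id M' hadj W hW).1

end Groth.Agent.S7156
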