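import Groth.Statements.S7157
import Groth.Agent.CohDer1.EisensteinExt
-- import your own Groth.Agent.* helpers here

set_option autoImplicit false
universe u
open EtAlg

namespace Groth.Agent.S7157

/-- Let A be a discrete valuation ring, π a uniformizer, K its field of fractions, and suppose the
residue field of A has characteristic p > 0. For every n > 1 and every power q of p there is a
separable degree-q extension L/K that is totally ramified with respect to A and whose ring of
integers B (the integral closure of A in L) contains elements π_B, b, b' with π_B^q = π + πⁿ·b and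
π_B^q = π + π_B^(nq)·b' (π_B is then a uniformizer of B and the ramification index is q). -/
theorem result (p : ℕ) (hp : p.Prime) (A K : Type u)
    [CommRing A] [IsDomain A] [IsDiscreteValuationRing A] [Field K] [Algebra A K] [IsFractionRing A K]
    [CharP (IsLocalRing.ResidueField A) p] (π : A) (hπ : IsLocalRing.maximalIdeal A = Ideal.span {π})
    (n : ℕ) (hn : 1 < n) (k : ℕ) :
    ∃ (L : Type u) (_ : Field L) (_ : Algebra K L) (_ : Algebra A L) (_ : IsScalarTower A K L),
      Module.finrank K L = p ^ k ∧ Algebra.IsSeparable K L ∧ EtRam.IsTotallyRamified A (algebraMap A L) ∧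
      ∃ πB b b' : L, πB ∈ integralClosure A L ∧ b ∈ integralClosure A L ∧ b' ∈ integralClosure A L ∧
        πB ^ (p ^ k) = algebraMap A L π + algebraMap A L π ^ n * b ∧
        πB ^ (p ^ k) = algebraMap A L π + πB ^ (n * p ^ k) * b' := by
  have hπ' : Irreducible π :=
    (IsDiscreteValuationRing.irreducible_iff_uniformizer π).mpr hπ
  exact Groth.Agent.CohDer1.EisensteinExt.exists_ext p A K π hπ' n (p ^ k) hn (Nat.one_le_pow _ _ hp.pos)
    (if p ^ k = 1 then 0 else π ^ n)
    (by
      split
      · exact zero_mem _
      · rw [hπ]
        exact Ideal.pow_mem_of_mem _ (Ideal.mem_span_singleton_self π) n (by omega))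
    (fun h => if_pos h) (fun h => if_neg (by omega))

end Groth.Agent.S7157
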