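import Groth.Statements.S7158
import Groth.Agent.EtRamLib.DegPPole
import Mathlib.FieldTheory.Finite.Basic
-- import your own Groth.Agent.* helpers here

set_option autoImplicit false
set_option linter.all false
universe u
open EtAlg Polynomial

namespace Groth.Agent.S7158

open Groth.Agent.EtRamLib in
theorem four_of_pole (p : ℕ) (hp : p.Prime) {A K L : Type u} [CommRing A] [IsDomain A] [IsDiscreteValuationRing A]
    [Field K] [Algebra A K] [IsFractionRing A K] [Field L] [Algebra K L] [Algebra A L] [IsScalarTower A K L]
    [CharP (IsLocalRing.ResidueField A) p] {π : A} (hπ : Irreducible π) (hchar : CharP L p)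
    {P : A[X]} (hP : P = X ^ p - X) (hPm : P.Monic) (hPd : P.natDegree = p)
    (hPr : P.map (IsLocalRing.residue A) = X ^ p - X) (hdich : Module.finrank K L = 1 ∨ Module.finrank K L = p) :
    ∀ (n : ℕ) (ξ : K) (z : L) (a : A), ξ * algebraMap A K π ^ n = algebraMap A K a → aeval z P = algebraMap K L ξ →
      IntermediateField.adjoin K {z} = ⊤ → DegP.Four A K L p := by
  have hπK : algebraMap A K π ≠ 0 := (map_ne_zero_iff _ (IsFractionRing.injective A K)).mpr hπ.ne_zero
  intro n
  induction n using Nat.strong_induction_on with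
  | _ n ih =>
    intro ξ z a hξ hz hgen
    rcases Nat.eq_zero_or_pos n with rfl | hn
    · rw [pow_zero, mul_one] at hξ
      rw [hξ, ← IsScalarTower.algebraMap_apply] at hz
      rcases DegP.integral_case hπ hp hPm hPd hPr a hz hgen hdich with h | h
      · exact Or.inl h
      · exact Or.inr (Or.inl h)
    by_cases ha : IsUnit a
    swap
    · have h0 : a ∈ IsLocalRing.maximalIdeal A := (IsLocalRing.mem_maximalIdeal a).mpr ha
      rw [hπ.maximalIdeal_eq, Ideal.mem_span_singleton] at h0
      obtain ⟨b, rfl⟩ := h0
      refine ih (n - 1) (by omega) ξ z b ?_ hz hgen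
      obtain ⟨k, rfl⟩ : ∃ k, n = k + 1 := ⟨n - 1, by omega⟩
      rw [pow_succ, ← mul_assoc, map_mul, mul_comm _ (algebraMap A K b)] at hξ
      exact mul_right_cancel₀ hπK hξ
    by_cases hpn : p ∣ n
    swap
    · exact Or.inr (Or.inr (Or.inl (DegP.pole_prime hπ hp hPm hPd hPr hpn ha hξ hz hgen)))
    by_cases hr : ∀ r : A, IsLocalRing.residue A a ≠ IsLocalRing.residue A r ^ p
    · exact Or.inr (Or.inr (Or.inr (DegP.pole_dvd hπ hp hPm hPd hPr hn hpn hr hξ hz hgen)))
    push Not at hr
    obtain ⟨r, hr⟩ := hr
    obtain ⟨m, rfl⟩ := hpn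
    obtain ⟨s, hs⟩ := DegP.remove hπ hPm hPd hPr (Nat.pos_of_mul_pos_left hn) hr hξ
    set c := (algebraMap A K π ^ m)⁻¹ * algebraMap A K r
    refine ih (p * m - 1) (by omega) (ξ - aeval c P) (z - algebraMap K L c) s ?_ ?_ ?_
    · obtain ⟨k, hk⟩ : ∃ k, p * m = k + 1 := ⟨p * m - 1, by omega⟩
      rw [hk, pow_succ, ← mul_assoc, map_mul, mul_comm _ (algebraMap A K s)] at hs
      rw [hk, Nat.add_sub_cancel]
      exact mul_right_cancel₀ hπK hs
    · haveI := hchar
      haveI := Fact.mk hp
      rw [map_sub, ← aeval_algebraMap_apply, ← hz, hP]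
      simp only [map_sub, map_pow, aeval_X, sub_pow_char]
      ring
    · rw [eq_top_iff, ← hgen, IntermediateField.adjoin_simple_le_iff]
      have := add_mem (IntermediateField.mem_adjoin_simple_self K (z - algebraMap K L c))
        ((IntermediateField.adjoin K {z - algebraMap K L c}).algebraMap_mem c)
      simpa using this

/-- Let A be a discrete valuation ring whose fraction field K has characteristic p > 0, let ξ be an
element of K and let L = K(z) be obtained by adjoining a root z of z^p - z = ξ. Then L/K is a Galois
extension, and it falls under one of four cases: (1) L = K; (2) L/K has degree p and is unramified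
with respect to A; (3) L/K has degree p and is totally ramified with respect to A (ramification
index p); (4) exactly one valuation ring of L dominates A (so B, the integral closure of A in L, is
itself a discrete valuation ring), the extension A → B is weakly unramified, and its residue field
extension is purely inseparable of degree p. Moreover, with π a uniformizer of A: (A) if ξ lies in
A, case (1) or (2) holds; (B) if ξ = π⁻ⁿa with n > 0 prime to p and a a unit of A, case (3) holds;
(C) if ξ = π⁻ⁿa with n > 0 divisible by p and the residue class of a not a p-th power, case (4)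
holds. -/
theorem result (p : ℕ) (hp : p.Prime) (A K L : Type u) [CommRing A] [IsDomain A]
    [IsDiscreteValuationRing A] [Field K] [Algebra A K] [IsFractionRing A K] [Field L] [Algebra K L] [Algebra A L]
    [IsScalarTower A K L] [CharP K p] (π : A) (hπ : IsLocalRing.maximalIdeal A = Ideal.span {π})
    (ξ : K) (z : L) (hz : z ^ p - z = algebraMap K L ξ) (hgen : IntermediateField.adjoin K {z} = ⊤) :
    let g : A →+* L := algebraMap A L
    let case1 : Prop := Module.finrank K L = 1
    let case2 : Prop := EtRam.IsUnramifiedExt A g ∧ Module.finrank K L = p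
    let case3 : Prop := EtRam.IsTotallyRamified A g ∧ Module.finrank K L = p
    let case4 : Prop := (∃ V : ValuationSubring L, EtRam.Dominates A g V) ∧
      (∀ V V' : ValuationSubring L, EtRam.Dominates A g V → EtRam.Dominates A g V' → V = V') ∧
      ∀ (V : ValuationSubring L) (h : EtRam.Dominates A g V),
        letI : Algebra A V := (RingHom.codRestrict g V h.1).toAlgebra
        ∀ [IsLocalHom (algebraMap A V)],
          EtRam.IsWeaklyUnramified A V ∧
            IsPurelyInseparable (IsLocalRing.ResidueField A) (IsLocalRing.ResidueField V) ∧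
            Module.finrank (IsLocalRing.ResidueField A) (IsLocalRing.ResidueField V) = p
    IsGalois K L ∧ (case1 ∨ case2 ∨ case3 ∨ case4) ∧
      ((∃ a : A, algebraMap A K a = ξ) → case1 ∨ case2) ∧
      (∀ (n : ℕ) (a : Aˣ), 0 < n → ¬ p ∣ n → ξ * algebraMap A K π ^ n = algebraMap A K a → case3) ∧
      (∀ (n : ℕ) (a : A), 0 < n → p ∣ n → (∀ r : A, IsLocalRing.residue A a ≠ IsLocalRing.residue A r ^ p) →
          ξ * algebraMap A K π ^ n = algebraMap A K a → case4) := by
  intro g case1 case2 case3 case4
  classical
  haveI := Fact.mk hp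
  haveI hAp : CharP A p := (algebraMap A K).charP (IsFractionRing.injective A K) p
  haveI hLp : CharP L p := charP_of_injective_algebraMap (algebraMap K L).injective p
  haveI hkp : CharP (IsLocalRing.ResidueField A) p := by
    have h0 : (p : IsLocalRing.ResidueField A) = 0 := by
      rw [← map_natCast (IsLocalRing.residue A), CharP.cast_eq_zero A p, map_zero]
    exact (CharP.charP_iff_prime_eq_zero hp).mpr h0
  have hπi : Irreducible π := (IsDiscreteValuationRing.irreducible_iff_uniformizer π).mpr hπ
  let P : A[X] := X ^ p - X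
  have hlt : (X : A[X]).degree < ((X : A[X]) ^ p).degree := by
    rw [degree_X, degree_X_pow]; exact_mod_cast hp.one_lt
  have hPm : P.Monic := (monic_X_pow p).sub_of_left hlt
  have hPd : P.natDegree = p := by
    rw [natDegree_eq_of_degree_eq (degree_sub_eq_left_of_degree_lt hlt), natDegree_X_pow]
  have hPr : P.map (IsLocalRing.residue A) = X ^ p - X := by simp [P]
  have hz' : aeval z P = algebraMap K L ξ := by simp [P, hz]
  obtain ⟨hfd, hle⟩ := Groth.Agent.EtRamLib.DegP.finrank_le hp hPm hPd hz' hgen
  let f : K[X] := X ^ p - X - Polynomial.C ξ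
  have hfm : f.Monic := by
    refine Monic.sub_of_left ((monic_X_pow p).sub_of_left ?_) ?_
    · rw [degree_X, degree_X_pow]; exact_mod_cast hp.one_lt
    · rw [degree_sub_eq_left_of_degree_lt, degree_X_pow]
      · exact lt_of_le_of_lt degree_C_le (by exact_mod_cast hp.pos)
      · rw [degree_X, degree_X_pow]; exact_mod_cast hp.one_lt
  have hfsep : f.Separable := by
    rw [Polynomial.separable_def]
    have hd : derivative f = -1 := by simp [f, derivative_X_pow, CharP.cast_eq_zero K p]
    rw [hd]
    exact ⟨0, -1, by ring⟩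
  have hfnd : f.natDegree = p := by
    simp only [f]
    rw [natDegree_sub_C, natDegree_eq_of_degree_eq (degree_sub_eq_left_of_degree_lt (by
      rw [degree_X, degree_X_pow]; exact_mod_cast hp.one_lt)), natDegree_X_pow]
  have hroot : ∀ j : ZMod p, aeval (z + ZMod.castHom dvd_rfl L j) f = 0 := fun j => by
    have hj : (ZMod.castHom dvd_rfl L j) ^ p = ZMod.castHom dvd_rfl L j := by rw [← map_pow, ZMod.pow_card]
    simp only [f, map_sub, map_pow, aeval_X, aeval_C, add_pow_char]
    linear_combination hj + hz
  have hinj : Function.Injective (fun j : ZMod p => z + ZMod.castHom dvd_rfl L j) :=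
    (add_right_injective z).comp (RingHom.injective _)
  let fL : L[X] := f.map (algebraMap K L)
  have hsub : (Finset.univ.image fun j : ZMod p => z + ZMod.castHom dvd_rfl L j).val ⊆ fL.roots := by
    intro x hx
    obtain ⟨j, -, rfl⟩ := Finset.mem_image.mp hx
    rw [mem_roots ((hfm.map _).ne_zero), IsRoot, eval_map, ← aeval_def]
    exact hroot j
  have hroots : fL.roots = (Finset.univ.image fun j : ZMod p => z + ZMod.castHom dvd_rfl L j).val := by
    refine (Multiset.eq_of_le_of_card_le ((Multiset.le_iff_subset (Finset.nodup _)).mpr hsub) ?_).symm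
    refine (Polynomial.card_roots' fL).trans ?_
    rw [Finset.card_val, Finset.card_image_of_injective _ hinj, Finset.card_univ, ZMod.card, show fL.natDegree = p from (hfm.natDegree_map _).trans hfnd]
  haveI : IsSplittingField K L f := by
    refine ⟨?_, ?_⟩
    · rw [Polynomial.splits_iff_card_roots, hfm.natDegree_map, hfnd]
      show fL.roots.card = p
      rw [hroots, Finset.card_val, Finset.card_image_of_injective _ hinj, Finset.card_univ, ZMod.card]
    · rw [eq_top_iff]
      intro x _
      have hx : x ∈ (IntermediateField.adjoin K {z}).toSubalgebra := by rw [hgen]; trivial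
      rw [IntermediateField.adjoin_simple_toSubalgebra_of_isAlgebraic (Algebra.IsAlgebraic.isAlgebraic z)] at hx
      refine Algebra.adjoin_mono (Set.singleton_subset_iff.mpr ?_) hx
      rw [mem_rootSet_of_ne hfm.ne_zero]
      simpa using hroot 0
  haveI hgal : IsGalois K L := IsGalois.of_separable_splitting_field hfsep
  have hdich : Module.finrank K L = 1 ∨ Module.finrank K L = p := by
    refine Groth.Agent.EtRamLib.DegP.dichotomy hp hle hgen fun σ => ?_
    have hσz : σ z ∈ fL.roots := by
      rw [mem_roots ((hfm.map _).ne_zero), IsRoot, eval_map, ← aeval_def, aeval_algEquiv,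
        AlgHom.comp_apply, show aeval z f = 0 by simpa using hroot 0, map_zero]
    rw [hroots] at hσz
    obtain ⟨j, -, hj⟩ := Finset.mem_image.mp hσz
    have hfix : σ (ZMod.castHom dvd_rfl L j) = ZMod.castHom dvd_rfl L j := by
      obtain ⟨k, rfl⟩ := ZMod.natCast_zmod_surjective j
      rw [map_natCast, map_natCast]
    have hpow : ∀ k : ℕ, (σ ^ k) z = z + k • ZMod.castHom dvd_rfl L j := by
      intro k
      induction k with
      | zero => simp
      | succ k ih =>
        rw [pow_succ', AlgEquiv.mul_apply, ih, map_add, map_nsmul, hfix, ← hj, succ_nsmul]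
        abel
    rw [hpow p, nsmul_eq_mul, CharP.cast_eq_zero, zero_mul, add_zero]
  have key : ∀ {q : Prop}, q → q := fun h => h
  have hg : g = algebraMap A L := rfl
  refine ⟨hgal, ?_, ?_, ?_, ?_⟩
  · obtain ⟨a, b, hb, rfl⟩ := IsFractionRing.div_surjective (A := A) ξ
    obtain ⟨n, u, rfl⟩ := IsDiscreteValuationRing.eq_unit_mul_pow_irreducible (nonZeroDivisors.ne_zero hb) hπi
    exact four_of_pole p hp hπi hLp rfl hPm hPd hPr hdich n _ z (a * ↑u⁻¹) (by
      have hne : algebraMap A K ((u : A) * π ^ n) ≠ 0 :=
        (map_ne_zero_iff _ (IsFractionRing.injective A K)).mpr (nonZeroDivisors.ne_zero hb)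
      rw [div_mul_eq_mul_div, div_eq_iff hne, ← map_pow, ← map_mul, ← map_mul]
      congr 1
      calc a * π ^ n = a * π ^ n * ((↑u⁻¹ : A) * u) := by rw [Units.inv_mul, mul_one]
        _ = _ := by ring) hz' hgen
  · rintro ⟨a, ha⟩
    refine Groth.Agent.EtRamLib.DegP.integral_case hπi hp hPm hPd hPr a ?_ hgen hdich
    rw [hz', ← ha, ← IsScalarTower.algebraMap_apply]
  · intro n a hn hpn hξ
    exact Groth.Agent.EtRamLib.DegP.pole_prime hπi hp hPm hPd hPr hpn a.isUnit hξ hz' hgen
  · intro n a hn hpn hr hξ
    exact Groth.Agent.EtRamLib.DegP.pole_dvd hπi hp hPm hPd hPr hn hpn hr hξ hz' hgen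

end Groth.Agent.S7158
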