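import Groth.Statements.S7159
import Groth.Agent.EtRamLib.KummerPoly
-- import your own Groth.Agent.* helpers here

set_option autoImplicit false
set_option linter.all false
universe u
open EtAlg

namespace Groth.Agent.S7159

open Polynomial Groth.Agent.EtRamLib in
theorem four_of_small_pole {p : ℕ} (hp : p.Prime) {A K L : Type u} [CommRing A] [IsDomain A] [IsDiscreteValuationRing A]
    [Field K] [Algebra A K] [IsFractionRing A K] [Field L] [Algebra K L] [Algebra A L] [IsScalarTower A K L]
    [CharP (IsLocalRing.ResidueField A) p] {π : A} (hπ : Irreducible π) {w : A} (v : Aˣ) {e : ℕ} (hwe : w = v * π ^ e)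
    {P : A[X]} (hP : C (w ^ p) * P = (1 + C w * X) ^ p - 1) (hPm : P.Monic) (hPd : P.natDegree = p)
    (hPr : P.map (IsLocalRing.residue A) = X ^ p - X) (hdich : Module.finrank K L = 1 ∨ Module.finrank K L = p) :
    ∀ (n : ℕ), n < p * e → ∀ (ξ : K) (z : L) (a : A), ξ * algebraMap A K π ^ n = algebraMap A K a →
      aeval z P = algebraMap K L ξ → IntermediateField.adjoin K {z} = ⊤ → DegP.Four A K L p := by
  have hπK : algebraMap A K π ≠ 0 := (map_ne_zero_iff _ (IsFractionRing.injective A K)).mpr hπ.ne_zero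
  have hid : ∀ (R : Type u) [CommRing R] [Algebra A R] (x : R),
      algebraMap A R w ^ p * aeval x P = (1 + algebraMap A R w * x) ^ p - 1 := fun R _ _ x => by
    have h := congrArg (aeval x) hP
    simpa using h
  intro n
  induction n using Nat.strong_induction_on with
  | _ n ih =>
    intro hne ξ z a hξ hz hgen
    rcases Nat.eq_zero_or_pos n with rfl | hn
    · rw [pow_zero, mul_one] at hξ
      rw [hξ, ← IsScalarTower.algebraMap_apply] at hz
      rcases DegP.integral_case hπ hp hPm hPd hPr a hz hgen hdich with h | h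
      · exact Or.inl h
      · exact Or.inr (Or.inl h)
    by_cases ha : IsUnit a
    swap
    · have h0 : a ∈ IsLocalRing.maximalIdeal A := (IsLocalRing.mem_maximalIdeal a).mpr ha
      rw [hπ.maximalIdeal_eq, Ideal.mem_span_singleton] at h0
      obtain ⟨b, rfl⟩ := h0
      refine ih (n - 1) (by omega) (by omega) ξ z b ?_ hz hgen
      obtain ⟨k, rfl⟩ : ∃ k, n = k + 1 := ⟨n - 1, by omega⟩
      rw [pow_succ, ← mul_assoc, map_mul, mul_comm _ (algebraMap A K b)] at hξ
      exact mul_right_cancel₀ hπK hξ
    by_cases hpn : p ∣ n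
    swap
    · exact Or.inr (Or.inr (Or.inl (DegP.pole_prime hπ hp hPm hPd hPr hpn ha hξ hz hgen)))
    by_cases hr : ∀ r : A, IsLocalRing.residue A a ≠ IsLocalRing.residue A r ^ p
    · exact Or.inr (Or.inr (Or.inr (DegP.pole_dvd hπ hp hPm hPd hPr hn hpn hr hξ hz hgen)))
    push Not at hr
    obtain ⟨r, hr⟩ := hr
    obtain ⟨m, rfl⟩ := hpn
    have hme : m < e := Nat.lt_of_mul_lt_mul_left hne
    obtain ⟨s, hs⟩ := DegP.remove hπ hPm hPd hPr (Nat.pos_of_mul_pos_left hn) hr hξ
    set c := (algebraMap A K π ^ m)⁻¹ * algebraMap A K r with hc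
    let d : A := 1 + π ^ (e - m) * v * r
    have hd : IsUnit d := by
      by_contra h
      have h0 : IsLocalRing.residue A d = 0 := (IsLocalRing.residue_eq_zero_iff _).mpr ((IsLocalRing.mem_maximalIdeal d).mpr h)
      rw [map_add, map_mul, map_mul, map_pow, (IsLocalRing.residue_eq_zero_iff π).mpr
        ((IsLocalRing.mem_maximalIdeal π).mpr hπ.not_isUnit), zero_pow (by omega), zero_mul, zero_mul, add_zero, map_one] at h0
      exact one_ne_zero h0
    obtain ⟨du, hdu⟩ := hd
    have hdc : algebraMap A K d = 1 + algebraMap A K w * c := by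
      rw [hc, hwe, ← mul_assoc, show (v : A) * π ^ e = v * π ^ (e - m) * π ^ m by rw [mul_assoc, ← pow_add, Nat.sub_add_cancel hme.le]]
      simp only [d, map_add, map_one, map_mul, map_pow]
      field_simp
    have hdK : algebraMap A K d ≠ 0 := (map_ne_zero_iff _ (IsFractionRing.injective A K)).mpr (hdu ▸ du.ne_zero)
    refine ih (p * m - 1) (by omega) (by omega) ((ξ - aeval c P) / algebraMap A K d ^ p)
      ((z - algebraMap K L c) / algebraMap A L d) (s * (↑du⁻¹ : A) ^ p) ?_ ?_ ?_
    · obtain ⟨k, hk⟩ : ∃ k, p * m = k + 1 := ⟨p * m - 1, by omega⟩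
      rw [hk, pow_succ, ← mul_assoc, map_mul, mul_comm _ (algebraMap A K s)] at hs
      rw [hk, Nat.add_sub_cancel, div_mul_eq_mul_div, mul_right_cancel₀ hπK hs, div_eq_iff (pow_ne_zero _ hdK),
        ← map_pow, ← map_mul, ← hdu, mul_assoc, ← mul_pow, Units.inv_mul, one_pow, mul_one]
    · have hdL : algebraMap A L d ≠ 0 := DegP.algebraMap_ne_zero (K := K) (hdu ▸ du.ne_zero)
      have hw0 : algebraMap A L w ≠ 0 := DegP.algebraMap_ne_zero (K := K)
        (hwe ▸ mul_ne_zero v.ne_zero (pow_ne_zero _ hπ.ne_zero))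
      have hdcL : algebraMap A L d = 1 + algebraMap A L w * algebraMap K L c := by
        rw [IsScalarTower.algebraMap_apply A K L d, hdc, map_add, map_one, map_mul, ← IsScalarTower.algebraMap_apply]
      refine mul_left_cancel₀ (pow_ne_zero p hw0) ?_
      rw [hid L, map_div₀, map_pow, ← IsScalarTower.algebraMap_apply, map_sub, ← aeval_algebraMap_apply, ← hz,
        mul_div_assoc' (algebraMap A L w ^ p), mul_sub (algebraMap A L w ^ p), hid L z, hid L (algebraMap K L c),
        sub_sub_sub_cancel_right, ← hdcL, sub_div _ (algebraMap A L d ^ p), div_self (pow_ne_zero _ hdL), ← div_pow]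
      congr 2
      rw [eq_div_iff hdL, add_mul, one_mul, mul_assoc, div_mul_cancel₀ _ hdL, hdcL]
      ring
    · rw [eq_top_iff, ← hgen, IntermediateField.adjoin_simple_le_iff]
      set M := IntermediateField.adjoin K {(z - algebraMap K L c) / algebraMap A L d}
      have hdL : algebraMap A L d ≠ 0 := DegP.algebraMap_ne_zero (K := K) (hdu ▸ du.ne_zero)
      have := add_mem (mul_mem (IntermediateField.mem_adjoin_simple_self K ((z - algebraMap K L c) / algebraMap A L d))
        (show algebraMap A L d ∈ M from IsScalarTower.algebraMap_apply A K L d ▸ M.algebraMap_mem _)) (M.algebraMap_mem c)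
      rwa [div_mul_cancel₀ _ hdL, sub_add_cancel] at this

open Polynomial in
/-- Let A be a discrete valuation ring whose fraction field K has characteristic 0 and whose residue
field has characteristic p, and suppose A contains an element ζ with 1 + ζ + ... + ζ^(p-1) = 0 (a
primitive p-th root of unity); set w = 1 - ζ and let P in A[t] be the polynomial with w^p·P(t) = (1
+ wt)^p - 1. Let ξ be an element of K and let L = K(z) be obtained by adjoining a root z of P(z) =
ξ. Then L/K is a Galois extension, and it falls under one of four cases: (1) L = K; (2) L/K has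
degree p and is unramified with respect to A; (3) L/K has degree p and is totally ramified with
respect to A (ramification index p); (4) exactly one valuation ring of L dominates A (so B, the
integral closure of A in L, is itself a discrete valuation ring), the extension A → B is weakly
unramified, and its residue field extension is purely inseparable of degree p. Moreover, with π a
uniformizer of A: (A) if ξ lies in A, case (1) or (2) holds; (B) if ξ = π⁻ⁿa with n > 0 prime to p
and a a unit of A, case (3) holds; (C) if ξ = π⁻ⁿa with n > 0 divisible by p and the residue class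
of a not a p-th power, case (4) holds. -/
theorem result (p : ℕ) (hp : p.Prime) (A K L : Type u) [CommRing A] [IsDomain A]
    [IsDiscreteValuationRing A] [Field K] [Algebra A K] [IsFractionRing A K] [Field L] [Algebra K L] [Algebra A L]
    [IsScalarTower A K L] [CharZero K] [CharP (IsLocalRing.ResidueField A) p] (ζ : A)
    (hζ : aeval ζ (cyclotomic p ℤ) = 0) (P : A[X]) (hP : C ((1 - ζ) ^ p) * P = (1 + C (1 - ζ) * X) ^ p - 1) (π : A) (hπ : IsLocalRing.maximalIdeal A = Ideal.span {π})
    (ξ : K) (z : L) (hz : aeval z P = algebraMap K L ξ) (hgen : IntermediateField.adjoin K {z} = ⊤) :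
    let g : A →+* L := algebraMap A L
    let case1 : Prop := Module.finrank K L = 1
    let case2 : Prop := EtRam.IsUnramifiedExt A g ∧ Module.finrank K L = p
    let case3 : Prop := EtRam.IsTotallyRamified A g ∧ Module.finrank K L = p
    let case4 : Prop := (∃ V : ValuationSubring L, EtRam.Dominates A g V) ∧
      (∀ V V' : ValuationSubring L, EtRam.Dominates A g V → EtRam.Dominates A g V' → V = V') ∧
      ∀ (V : ValuationSubring L) (h : EtRam.Dominates A g V),
        letI : Algebra A V := (RingHom.codRestrict g V h.1).toAlgebra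
        ∀ [IsLocalHom (algebraMap A V)],
          EtRam.IsWeaklyUnramified A V ∧
            IsPurelyInseparable (IsLocalRing.ResidueField A) (IsLocalRing.ResidueField V) ∧
            Module.finrank (IsLocalRing.ResidueField A) (IsLocalRing.ResidueField V) = p
    IsGalois K L ∧ (case1 ∨ case2 ∨ case3 ∨ case4) ∧
      ((∃ a : A, algebraMap A K a = ξ) → case1 ∨ case2) ∧
      (∀ (n : ℕ) (a : Aˣ), 0 < n → ¬ p ∣ n → ξ * algebraMap A K π ^ n = algebraMap A K a → case3) ∧
      (∀ (n : ℕ) (a : A), 0 < n → p ∣ n → (∀ r : A, IsLocalRing.residue A a ≠ IsLocalRing.residue A r ^ p) →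
          ξ * algebraMap A K π ^ n = algebraMap A K a → case4) := by
  intro g case1 case2 case3 case4
  classical
  haveI := Fact.mk hp
  haveI : CharZero A := ⟨fun a b h => Nat.cast_injective (R := K) (by rw [← map_natCast (algebraMap A K), h, map_natCast])⟩
  haveI : CharZero L := charZero_of_injective_algebraMap (algebraMap K L).injective
  haveI : NeZero ((p : ℕ) : A) := ⟨Nat.cast_ne_zero.mpr hp.ne_zero⟩
  have hprim : IsPrimitiveRoot ζ p := by
    rw [← Polynomial.isRoot_cyclotomic_iff, ← Polynomial.map_cyclotomic p (algebraMap ℤ A), Polynomial.IsRoot, Polynomial.eval_map, ← Polynomial.aeval_def]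
    exact hζ
  obtain ⟨hwm, hw0⟩ := Groth.Agent.EtRamLib.DegP.one_sub_mem hp hprim
  obtain ⟨hPm, hPd, hPr⟩ := Groth.Agent.EtRamLib.DegP.kummerPoly hp hprim hP
  have hπi : Irreducible π := (IsDiscreteValuationRing.irreducible_iff_uniformizer π).mpr hπ
  obtain ⟨hfd, hle⟩ := Groth.Agent.EtRamLib.DegP.finrank_le hp hPm hPd hz hgen
  have hid : ∀ (x : L), algebraMap A L (1 - ζ) ^ p * aeval x P = (1 + algebraMap A L (1 - ζ) * x) ^ p - 1 := fun x => by
    have h := congrArg (aeval x) hP
    simpa using h
  set w := 1 - ζ with hw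
  have hζK : IsPrimitiveRoot (algebraMap A K ζ) p := hprim.map_of_injective (IsFractionRing.injective A K)
  have hζL : IsPrimitiveRoot (algebraMap A L ζ) p := by
    rw [IsScalarTower.algebraMap_apply A K L]
    exact hζK.map_of_injective (algebraMap K L).injective
  have hW : algebraMap A L w ≠ 0 := Groth.Agent.EtRamLib.DegP.algebraMap_ne_zero (K := K) hw0
  have hWK : algebraMap A L w = algebraMap K L (algebraMap A K w) := IsScalarTower.algebraMap_apply A K L w
  set y : L := 1 + algebraMap A L w * z with hy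
  set b : K := 1 + algebraMap A K w ^ p * ξ with hb
  have hyb : y ^ p = algebraMap K L b := by
    rw [hb, map_add, map_one, map_mul, map_pow, ← hWK, ← hz, hid, hy]; ring
  have hadjY : ∀ (x : L) (c : K), z ∈ IntermediateField.adjoin K {x} → IntermediateField.adjoin K {x} = ⊤ := fun x c h => by
    rw [eq_top_iff, ← hgen, IntermediateField.adjoin_simple_le_iff]; exact h
  have hgenY : IntermediateField.adjoin K {y} = ⊤ := by
    refine hadjY y 0 ?_
    have h : z = (y - 1) / algebraMap A L w := by rw [hy, add_sub_cancel_left, mul_div_cancel_left₀ _ hW]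
    rw [h, hWK]
    exact div_mem (sub_mem (IntermediateField.mem_adjoin_simple_self K y) (one_mem _)) (IntermediateField.algebraMap_mem _ _)
  haveI hsplit : Polynomial.IsSplittingField K L (X ^ p - C b : K[X]) := by
    refine ⟨?_, ?_⟩
    · rw [Polynomial.map_sub, Polynomial.map_pow, Polynomial.map_X, Polynomial.map_C]
      exact X_pow_sub_C_splits_of_isPrimitiveRoot hζL hyb
    · rw [eq_top_iff]
      intro x _
      have hx : x ∈ (IntermediateField.adjoin K {y}).toSubalgebra := by rw [hgenY]; trivial
      rw [IntermediateField.adjoin_simple_toSubalgebra_of_isAlgebraic (Algebra.IsAlgebraic.isAlgebraic y)] at hx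
      refine Algebra.adjoin_mono (Set.singleton_subset_iff.mpr ?_) hx
      rw [Polynomial.mem_rootSet_of_ne (Polynomial.monic_X_pow_sub_C b hp.ne_zero).ne_zero]
      simp [hyb]
  haveI : Normal K L := Normal.of_isSplittingField (X ^ p - C b : K[X])
  haveI hgal : IsGalois K L := ⟨⟩
  have hdich : Module.finrank K L = 1 ∨ Module.finrank K L = p := by
    refine Groth.Agent.EtRamLib.DegP.dichotomy hp hle hgenY fun σ => ?_
    have hσy : σ y ^ p = y ^ p := by rw [← map_pow, hyb, AlgEquiv.commutes]
    by_cases hy0 : y = 0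
    · rw [hy0, map_zero]
    obtain ⟨i, -, hi⟩ := hζL.eq_pow_of_pow_eq_one (show (σ y / y) ^ p = 1 by
      rw [div_pow, hσy, div_self (pow_ne_zero _ hy0)])
    have hfix : σ (algebraMap A L ζ ^ i) = algebraMap A L ζ ^ i := by
      rw [IsScalarTower.algebraMap_apply A K L, ← map_pow, AlgEquiv.commutes]
    have hpow : ∀ k : ℕ, (σ ^ k) y = (algebraMap A L ζ ^ i) ^ k * y := by
      intro k
      induction k with
      | zero => simp
      | succ k ih =>
        rw [pow_succ', AlgEquiv.mul_apply, ih, map_mul, map_pow, hfix, show σ y = algebraMap A L ζ ^ i * y by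
          rw [hi, div_mul_cancel₀ _ hy0], pow_succ]
        ring
    rw [hpow p, ← pow_mul, mul_comm i p, pow_mul, hζL.pow_eq_one, one_pow, one_mul]
  refine ⟨hgal, ?_, ?_, ?_, ?_⟩
  · have hπK : algebraMap A K π ≠ 0 := (map_ne_zero_iff _ (IsFractionRing.injective A K)).mpr hπi.ne_zero
    by_cases hb0 : b = 0
    · refine Or.inl ?_
      have hy0 : y = 0 := pow_eq_zero_iff hp.ne_zero |>.mp (by rw [hyb, hb0, map_zero])
      show Module.finrank K L = 1
      rw [← IntermediateField.finrank_top', ← hgenY, IntermediateField.finrank_adjoin_simple_eq_one_iff, hy0]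
      exact zero_mem _
    obtain ⟨a₁, a₂, ha₂, hab⟩ := IsFractionRing.div_surjective (A := A) b
    have ha₁0 : a₁ ≠ 0 := fun h => hb0 (by rw [← hab, h, map_zero, zero_div])
    obtain ⟨n₁, u₁, rfl⟩ := IsDiscreteValuationRing.eq_unit_mul_pow_irreducible ha₁0 hπi
    obtain ⟨n₂, u₂, rfl⟩ := IsDiscreteValuationRing.eq_unit_mul_pow_irreducible (nonZeroDivisors.ne_zero ha₂) hπi
    set u : Aˣ := u₁ * u₂⁻¹ with hu
    set j : ℤ := (n₁ : ℤ) - n₂ with hj
    have hbj : b = algebraMap A K u * algebraMap A K π ^ j := by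
      have hu₂ : algebraMap A K (↑u₂⁻¹ : A) * algebraMap A K (u₂ : A) = 1 := by rw [← map_mul, Units.inv_mul, map_one]
      rw [← hab, hj, zpow_sub₀ hπK, zpow_natCast, zpow_natCast, hu, Units.val_mul, map_mul, map_mul, map_mul, map_pow,
        map_pow, eq_inv_of_mul_eq_one_left hu₂]
      ring
    have hvy : ∀ V : ValuationSubring L, EtRam.Dominates A (algebraMap A L) V →
        V.valuation y ^ p = V.valuation (algebraMap A L π) ^ j := fun V hV => by
      rw [← map_pow, hyb, hbj, map_mul, map_zpow₀, ← IsScalarTower.algebraMap_apply, ← IsScalarTower.algebraMap_apply,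
        map_mul, map_zpow₀, Groth.Agent.EtRamLib.DegP.val_unit hV u.isUnit, one_mul]
    by_cases hpj : (p : ℤ) ∣ j
    swap
    · obtain ⟨α, β, hαβ⟩ := (Nat.prime_iff_prime_int.mp hp).coprime_iff_not_dvd.mpr hpj
      refine Or.inr (Or.inr (Or.inl (Groth.Agent.EtRamLib.DegP.totallyRamified hπi hp
        (t := y ^ β * algebraMap A L π ^ α) hle fun V hV => ?_)))
      rw [map_mul, map_zpow₀, map_zpow₀, mul_pow, ← zpow_natCast (V.valuation y ^ β), ← zpow_mul, mul_comm β, zpow_mul,
        zpow_natCast, hvy V hV, ← zpow_natCast (V.valuation _ ^ α), ← zpow_mul, ← zpow_mul,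
        ← zpow_add₀ (Groth.Agent.EtRamLib.DegP.vpi_pos (K := K) hπi).ne']
      convert zpow_one (V.valuation (algebraMap A L π)) using 2
      linear_combination hαβ
    obtain ⟨m, hm⟩ := hpj
    set y₁ : L := y / algebraMap K L (algebraMap A K π ^ m) with hy₁
    have hy₁p : y₁ ^ p = algebraMap A L u := by
      rw [hy₁, div_pow, hyb, hbj, map_mul, ← IsScalarTower.algebraMap_apply, ← map_pow, ← zpow_natCast (_ ^ m), ← zpow_mul,
        hm, mul_comm m, mul_div_assoc, div_self ((_root_.map_ne_zero _).mpr (zpow_ne_zero _ hπK)), mul_one]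
    by_cases hr : ∀ r : A, IsLocalRing.residue A (u : A) ≠ IsLocalRing.residue A r ^ p
    · refine Or.inr (Or.inr (Or.inr (Groth.Agent.EtRamLib.DegP.residuallyInseparable hπi hp (t := y₁) hle hr fun V hV => ⟨?_, ?_⟩)))
      · refine (pow_le_one_iff hp.ne_zero).mp ?_
        rw [← map_pow, hy₁p, Groth.Agent.EtRamLib.DegP.val_unit hV u.isUnit]
      · rw [hy₁p, sub_self, map_zero]; exact zero_lt_one
    push Not at hr
    obtain ⟨r, hr⟩ := hr
    have hru : IsUnit r := by
      by_contra h
      have h0 : IsLocalRing.residue A r = 0 := (IsLocalRing.residue_eq_zero_iff _).mpr ((IsLocalRing.mem_maximalIdeal r).mpr h)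
      rw [h0, zero_pow hp.ne_zero, IsLocalRing.residue_eq_zero_iff] at hr
      exact ((IsLocalRing.mem_maximalIdeal _).mp hr) u.isUnit
    obtain ⟨r, rfl⟩ := hru
    have h0 : IsLocalRing.residue A ((u : A) * (↑r⁻¹ : A) ^ p - 1) = 0 := by
      rw [map_sub, map_mul, map_pow, hr, ← mul_pow, ← map_mul, Units.mul_inv, map_one, one_pow, sub_self]
    rw [IsLocalRing.residue_eq_zero_iff, hπi.maximalIdeal_eq, Ideal.mem_span_singleton] at h0
    obtain ⟨s, hs⟩ := h0
    obtain ⟨e, v, hwe⟩ := IsDiscreteValuationRing.eq_unit_mul_pow_irreducible hw0 hπi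
    have he : 1 ≤ e := by
      rcases Nat.eq_zero_or_pos e with rfl | h
      · exact absurd (hwe ▸ v.isUnit.mul (by rw [pow_zero]; exact isUnit_one)) ((IsLocalRing.mem_maximalIdeal w).mp hwm)
      · exact h
    set y₂ : L := y₁ * algebraMap A L (↑r⁻¹ : A) with hy₂
    set z₂ : L := (y₂ - 1) / algebraMap A L w with hz₂
    have hwK : algebraMap A K w ≠ 0 := (map_ne_zero_iff _ (IsFractionRing.injective A K)).mpr hw0
    refine four_of_small_pole hp hπi v hwe hP hPm hPd hPr hdich (p * e - 1)
      (by have := Nat.mul_pos hp.pos he; omega) (algebraMap A K (π * s) / algebraMap A K w ^ p) z₂ (s * (↑v⁻¹ : A) ^ p) ?_ ?_ ?_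
    · rw [div_mul_eq_mul_div, div_eq_iff (pow_ne_zero _ hwK), ← map_pow, ← map_pow, ← map_mul, ← map_mul]
      congr 1
      rw [hwe, mul_pow, ← pow_mul, mul_comm e p]
      have hpe : π * π ^ (p * e - 1) = π ^ (p * e) := by
        rw [← pow_succ', Nat.sub_add_cancel (Nat.mul_pos hp.pos he)]
      have hv : (↑v⁻¹ : A) ^ p * (v : A) ^ p = 1 := by rw [← mul_pow, Units.inv_mul, one_pow]
      linear_combination s * hpe - s * π ^ (p * e) * hv
    · refine mul_left_cancel₀ (pow_ne_zero p hW) ?_
      rw [hid, map_div₀, map_pow, ← hWK, ← IsScalarTower.algebraMap_apply, mul_div_cancel₀ _ (pow_ne_zero _ hW), ← hs,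
        show 1 + algebraMap A L w * z₂ = y₂ by rw [hz₂, mul_div_cancel₀ _ hW, add_sub_cancel],
        hy₂, mul_pow, hy₁p, map_sub, map_mul, map_pow, map_one]
    · refine hadjY z₂ 0 ?_
      set M := IntermediateField.adjoin K {z₂}
      have hAM : ∀ a : A, algebraMap A L a ∈ M := fun a => IsScalarTower.algebraMap_apply A K L a ▸ M.algebraMap_mem _
      have hy₂M : y₂ ∈ M := by
        have := add_mem (mul_mem (IntermediateField.mem_adjoin_simple_self K z₂) (hAM w)) (one_mem M)
        rwa [hz₂, div_mul_cancel₀ _ hW, sub_add_cancel] at this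
      have hy₁M : y₁ ∈ M := by
        have := mul_mem hy₂M (hAM (r : A))
        rwa [hy₂, mul_assoc, ← map_mul, Units.inv_mul, map_one, mul_one] at this
      have hyM : y ∈ M := by
        have := mul_mem hy₁M (M.algebraMap_mem (algebraMap A K π ^ m))
        rwa [hy₁, div_mul_cancel₀ _ ((_root_.map_ne_zero _).mpr (zpow_ne_zero _ hπK))] at this
      have := div_mem (sub_mem hyM (one_mem M)) (hAM w)
      rwa [hy, add_sub_cancel_left, mul_div_cancel_left₀ _ hW] at this
  · rintro ⟨a, ha⟩
    refine Groth.Agent.EtRamLib.DegP.integral_case hπi hp hPm hPd hPr a ?_ hgen hdich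
    rw [hz, ← ha, ← IsScalarTower.algebraMap_apply]
  · intro n a hn hpn hξ
    exact Groth.Agent.EtRamLib.DegP.pole_prime hπi hp hPm hPd hPr hpn a.isUnit hξ hz hgen
  · intro n a hn hpn hr hξ
    exact Groth.Agent.EtRamLib.DegP.pole_dvd hπi hp hPm hPd hPr hn hpn hr hξ hz hgen

end Groth.Agent.S7159
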