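import Groth.Prelude.Def_Wider
import Mathlib.Algebra.Homology.DerivedCategory.Linear
import Mathlib.Algebra.Homology.DerivedCategory.HomologySequence
import Mathlib

set_option autoImplicit false
universe u
namespace CategoryTheory
end CategoryTheory
namespace CategoryTheory.Pretriangulated
end CategoryTheory.Pretriangulated
open CategoryTheory CategoryTheory.Pretriangulated
attribute [local instance] HasDerivedCategory.standard
namespace CAlg
end CAlg
open CAlg

namespace Groth.Agent.S7160

/-- Let R be a ring, f an element of R, M an object of D(R) and C the cone of f : M → M. Suppose that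
H^i(M)_f = 0 whenever i < 0 (every element of H^i(M) is killed by a power of f) and that H^i(C) = 0
whenever i < -1. Then H^i(M) vanishes for every i < 0. -/
theorem result (R : Type u) [CommRing R] (f : R) (M C : Dual.D R)
    (g : M ⟶ C) (h : C ⟶ M⟦(1 : ℤ)⟧) (hT : Triangle.mk (f • 𝟙 M) g h ∈ distinguishedTriangles)
    (hloc : ∀ i : ℤ, i < 0 → ∀ x : Dual.HD R M i, ∃ n : ℕ, f ^ n • x = 0)
    (hC : ∀ i : ℤ, i < -1 → Subsingleton (Dual.HD R C i)) :
    ∀ i : ℤ, i < 0 → Subsingleton (Dual.HD R M i) := by
  let H := fun i : ℤ => DerivedCategory.homologyFunctor (ModuleCat.{u} R) i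
  have hlin : ∀ (i : ℤ) (K : DerivedCategory (ModuleCat.{u} R)), (H i).map (f • 𝟙 K) = f • 𝟙 ((H i).obj K) := by
    intro i K
    haveI : Functor.Linear R (HomologicalComplex.homologyFunctor (ModuleCat.{u} R) (ComplexShape.up ℤ) i) :=
      ⟨fun φ r => by
        exact ShortComplex.homologyMap_smul ((HomologicalComplex.shortComplexFunctor (ModuleCat.{u} R) (ComplexShape.up ℤ) i).map φ) r⟩
    haveI : Functor.Linear R (DerivedCategory.Q (C := ModuleCat.{u} R) ⋙ H i) :=
      Functor.linear_of_iso R (DerivedCategory.homologyFunctorFactors (ModuleCat.{u} R) i).symm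
    obtain ⟨K', ⟨e⟩⟩ : ∃ K', Nonempty (DerivedCategory.Q.obj K' ≅ K) :=
      ⟨_, ⟨DerivedCategory.Q.objObjPreimageIso K⟩⟩
    have h1 : f • 𝟙 K = e.inv ≫ DerivedCategory.Q.map (f • 𝟙 K') ≫ e.hom := by simp
    rw [h1, Functor.map_comp, Functor.map_comp, ← Functor.comp_map, Functor.map_smul,
      CategoryTheory.Functor.map_id]
    simp [← Functor.map_comp]
  intro i hi
  have hinj : ∀ x : Dual.HD R M i, f • x = 0 → x = 0 := by
    intro x hx
    have hex := DerivedCategory.HomologySequence.exact₁ (Triangle.mk (f • 𝟙 M) g h) hT (i - 1) i (by omega)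
    rw [ShortComplex.moduleCat_exact_iff] at hex
    obtain ⟨y, hy⟩ := hex x (by
      show ((H i).map (f • 𝟙 M)).hom x = 0
      rw [hlin]
      exact hx)
    haveI : Subsingleton ((H (i - 1)).obj C) := hC (i - 1) (by omega)
    rw [← hy, show y = 0 from @Subsingleton.elim _ (hC (i - 1) (by omega)) y 0, map_zero]
    rfl
  refine ⟨fun a b => ?_⟩
  have hz : ∀ x : Dual.HD R M i, x = 0 := fun x => by
    obtain ⟨n, hn⟩ := hloc i hi x
    clear! a b
    induction n generalizing x with
    | zero => simpa using hn
    | succ n ih => exact hinj x (ih (f • x) (by rw [← mul_smul, ← pow_succ]; exact hn))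
  rw [hz a, hz b]

end Groth.Agent.S7160
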