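import Groth.Statements.S7162
import Groth.Agent.EtRamLib.StrictReflectMain

set_option autoImplicit false
set_option linter.all false
set_option maxHeartbeats 1000000
universe u
open EtAlg
open IsLocalRing

namespace Groth.Agent.S7162

open Groth.Agent.HenselLib Groth.Agent.EtRamLib in
/-- Reflection of a solution along the strict henselizations. -/
theorem reflect {A B K L K' L' : Type u} [CommRing A] [IsDomain A] [IsDiscreteValuationRing A]
    [CommRing B] [IsDomain B] [IsDiscreteValuationRing B] [Algebra A B] [IsLocalHom (algebraMap A B)]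
    (hinj : Function.Injective (algebraMap A B))
    [Field K] [Field L] [Algebra A K] [IsFractionRing A K] [Algebra B L] [IsFractionRing B L]
    [Algebra K L] [Algebra A L] [IsScalarTower A K L] [IsScalarTower A B L]
    [IsDomain (LocalSH A)] [IsDiscreteValuationRing (LocalSH A)]
    [IsDomain (LocalSH B)] [IsDiscreteValuationRing (LocalSH B)]
    [Field K'] [Field L'] [Algebra (LocalSH A) K'] [IsFractionRing (LocalSH A) K']
    [Algebra (LocalSH B) L'] [IsFractionRing (LocalSH B) L']
    [Algebra K K'] [Algebra A K'] [IsScalarTower A K K'] [IsScalarTower A (LocalSH A) K']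
    [Algebra L L'] [Algebra B L'] [IsScalarTower B L L'] [IsScalarTower B (LocalSH B) L']
    [Algebra K' L'] [Algebra.IsSeparable K K']
    (φ : LocalSH A →+* LocalSH B) [IsLocalHom φ]
    (hφ : φ.comp (algebraMap A (LocalSH A)) = (algebraMap B (LocalSH B)).comp (algebraMap A B))
    (hφK : ∀ x, algebraMap K' L' (algebraMap (LocalSH A) K' x) = algebraMap (LocalSH B) L' (φ x))
    (K₁' : Type u) [Field K₁'] [Algebra K' K₁'] [FiniteDimensional K' K₁']
    (hsol : EtRam.IsSolution (LocalSH B) K' L' K₁') :
    ∃ (K₁ : Type u) (_ : Field K₁) (_ : Algebra K K₁), FiniteDimensional K K₁ ∧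
      (Algebra.IsSeparable K' K₁' → Algebra.IsSeparable K K₁) ∧ EtRam.IsSolution B K L K₁ := by
  classical
  letI : Algebra K K₁' := ((algebraMap K' K₁').comp (algebraMap K K')).toAlgebra
  haveI : IsScalarTower K K' K₁' := IsScalarTower.of_algebraMap_eq fun _ => rfl
  haveI : Algebra.IsAlgebraic K K₁' := Algebra.IsAlgebraic.trans K K' K₁'
  let b := Module.Free.chooseBasis K' K₁'
  let S := IntermediateField.adjoin K (Set.range b)
  haveI : Finite (Set.range b) := (Set.finite_range b).to_subtype
  haveI : FiniteDimensional K S :=
    IntermediateField.finiteDimensional_adjoin fun x _ => Algebra.IsIntegral.isIntegral x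
  let AC := AlgebraicClosure S
  haveI : Algebra.IsAlgebraic K AC := Algebra.IsAlgebraic.trans K S AC
  haveI : IsAlgClosure K AC := ⟨inferInstance, inferInstance⟩
  haveI : Normal K AC := IsAlgClosure.normal K AC
  let K₁ := IntermediateField.normalClosure K S AC
  refine ⟨K₁, inferInstance, inferInstance, inferInstance, fun hs => ?_, ?_⟩
  · haveI : Algebra.IsSeparable K K₁' := Algebra.IsSeparable.trans K K' K₁'
    haveI : Algebra.IsSeparable K S := Algebra.isSeparable_tower_bot_of_isSeparable K S K₁'
    refine (le_separableClosure_iff K AC K₁).mp (iSup_le fun σ => ?_)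
    rintro _ ⟨x, rfl⟩
    refine mem_separableClosure_iff.mpr ?_
    show IsSeparable K (σ x)
    unfold IsSeparable
    rw [minpoly.algHom_eq σ σ.toRingHom.injective]
    exact Algebra.IsSeparable.isSeparable K x
  intro M _ _ _ _ _ _ hadj W hW
  letI : Algebra A M := ((algebraMap K M).comp (algebraMap A K)).toAlgebra
  haveI : IsScalarTower A K M := IsScalarTower.of_algebraMap_eq fun _ => rfl
  have hAB : ∀ a, algebraMap L M (algebraMap B L (algebraMap A B a)) = algebraMap A M a := fun a => by
    rw [← IsScalarTower.algebraMap_apply A B L, IsScalarTower.algebraMap_apply A K L,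
      ← IsScalarTower.algebraMap_apply K L M]
    rfl
  have hWA : DegP.Dom A W := by
    refine ⟨fun a => hAB a ▸ hW.1 _, fun a ha => hAB a ▸ hW.2 _ ?_⟩
    exact (mem_maximalIdeal _).mpr fun hu => (mem_maximalIdeal a).mp ha (isUnit_of_map_unit _ a hu)
  let Ω := AlgebraicClosure M
  obtain ⟨Wb, hWb⟩ := StrictReflect.exists_extension (algebraMap M Ω) W
  let gB0 : B →+* Ω := (algebraMap M Ω).comp ((algebraMap L M).comp (algebraMap B L))
  have hgB0 : ∀ x, gB0 x ∈ Wb := fun x => by
    have : algebraMap L M (algebraMap B L x) ∈ Wb.comap (algebraMap M Ω) := hWb.symm ▸ hW.1 x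
    exact this
  let gB : B →+* Wb := gB0.codRestrict Wb.toSubring hgB0
  have hgBinj : Function.Injective gB := fun x y h =>
    IsFractionRing.injective B L ((algebraMap L M).injective ((algebraMap M Ω).injective (congrArg Subtype.val h)))
  haveI : IsLocalHom gB := ⟨fun x hx => by
    by_contra hnu
    have h1 := hW.2 x ((mem_maximalIdeal x).mpr hnu)
    rw [← hWb, StrictReflect.comap_lt_one_iff] at h1
    exact h1.ne ((Wb.valuation_eq_one_iff (gB x)).mp hx)⟩
  obtain ⟨hB, hBloc, hBinj, hBg⟩ := StrictReflect.exists_embedding Wb gB hgBinj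
  let hA : LocalSH A →+* Wb := hB.comp φ
  haveI : IsLocalHom hA := RingHom.isLocalHom_comp hB φ
  have hKK' : ∀ a : A, (hA (algebraMap A (LocalSH A) a) : Ω) = algebraMap M Ω (algebraMap A M a) := fun a => by
    show (hB (φ (algebraMap A (LocalSH A) a)) : Ω) = _
    rw [show φ (algebraMap A (LocalSH A) a) = algebraMap B (LocalSH B) (algebraMap A B a) from congr($hφ a),
      show hB (algebraMap B (LocalSH B) (algebraMap A B a)) = gB (algebraMap A B a) from congr($hBg _), ← hAB a]
    rfl
  have hBΩ : Function.Injective (Wb.subtype.comp hB) := fun x y h => hBinj (Subtype.ext h)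
  letI algL : Algebra L' Ω := (IsFractionRing.lift hBΩ).toAlgebra
  have hBL : ∀ x, (hB x : Ω) = algebraMap L' Ω (algebraMap (LocalSH B) L' x) := fun x =>
    (IsFractionRing.lift_algebraMap hBΩ x).symm
  letI algK : Algebra K' Ω := ((algebraMap L' Ω).comp (algebraMap K' L')).toAlgebra
  haveI : IsScalarTower K' L' Ω := IsScalarTower.of_algebraMap_eq fun _ => rfl
  have hAK : ∀ x, (hA x : Ω) = algebraMap K' Ω (algebraMap (LocalSH A) K' x) := fun x => by
    show (hB (φ x) : Ω) = algebraMap L' Ω (algebraMap K' L' _)
    rw [hφK, hBL]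
  have hLL : (algebraMap M Ω).comp (algebraMap L M) = (algebraMap L' Ω).comp (algebraMap L L') := by
    refine IsLocalization.ringHom_ext (nonZeroDivisors B) (RingHom.ext fun x => ?_)
    show gB0 x = algebraMap L' Ω (algebraMap L L' (algebraMap B L x))
    rw [← IsScalarTower.algebraMap_apply B L L', IsScalarTower.algebraMap_apply B (LocalSH B) L', ← hBL,
      show hB (algebraMap B (LocalSH B) x) = gB x from congr($hBg x)]
    rfl
  have hKK : (algebraMap M Ω).comp (algebraMap K M) = (algebraMap K' Ω).comp (algebraMap K K') := by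
    refine IsLocalization.ringHom_ext (nonZeroDivisors A) (RingHom.ext fun a => ?_)
    show algebraMap M Ω (algebraMap A M a) = algebraMap K' Ω (algebraMap K K' (algebraMap A K a))
    rw [← IsScalarTower.algebraMap_apply A K K', IsScalarTower.algebraMap_apply A (LocalSH A) K', ← hAK, hKK']
  haveI : Algebra.IsAlgebraic K' K₁' := Algebra.IsAlgebraic.of_finite K' K₁'
  let e : K₁' →ₐ[K'] Ω := IsAlgClosed.lift
  have hb : ∀ i, e (b i) ∈ Set.range ((algebraMap M Ω).comp (algebraMap K₁ M)) := fun i => by
    let x : S := ⟨b i, IntermediateField.subset_adjoin K _ ⟨i, rfl⟩⟩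
    have hx : minpoly K (b i) = minpoly K (algebraMap S K₁ x) := by
      rw [minpoly.algebraMap_eq (algebraMap S K₁).injective]
      exact minpoly.algHom_eq S.val Subtype.val_injective x
    have hsp := Normal.splits (inferInstance : Normal K K₁) (algebraMap S K₁ x)
    rw [← hx] at hsp
    refine hsp.mem_range_of_isRoot (i := (algebraMap M Ω).comp (algebraMap K₁ M))
      (Polynomial.map_ne_zero (minpoly.ne_zero (Algebra.IsIntegral.isIntegral _))) ?_
    rw [Polynomial.map_map, show ((algebraMap M Ω).comp (algebraMap K₁ M)).comp (algebraMap K K₁) =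
        e.toRingHom.comp (algebraMap K K₁') from RingHom.ext fun k => by
      show algebraMap M Ω (algebraMap K₁ M (algebraMap K K₁ k)) = e (algebraMap K' K₁' (algebraMap K K' k))
      rw [← IsScalarTower.algebraMap_apply K K₁ M, e.commutes]
      exact congr($hKK k), Polynomial.IsRoot, Polynomial.eval_map]
    refine (Polynomial.hom_eval₂ (minpoly K (b i)) (algebraMap K K₁') e.toRingHom (b i)).symm.trans ?_
    rw [show Polynomial.eval₂ (algebraMap K K₁') (b i) (minpoly K (b i)) = 0 from minpoly.aeval K (b i), map_zero]
  exact StrictReflect.local_step hsol hadj W hWA Wb hWb hA hAK hB hBL hKK'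
    (fun k => ⟨_, (congr($hKK k)).symm⟩) (fun l => ⟨_, (congr($hLL l)).symm⟩) e b hb

/-- Let A → B be an injective local homomorphism of discrete valuation rings whose fields of fractions
are K ⊆ L. There is a commutative square of such extensions A ⊆ A', B ⊆ B', A' ⊆ B' (with fraction
fields K', L') such that (1) K'/K and L'/L are separable algebraic, (2) the residue field of A' is a
separable algebraic closure of that of A, and likewise for B' over B, and (3) whenever A' ⊆ B'
admits a solution (respectively a separable solution), so does A ⊆ B. (The published statement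
asserts (3) for weak solutions as well; that clause is left out here: a weak solution for A' ⊆ B'
descends to a finite extension of K but controls only those local extensions attached to embeddings
compatible with K ⊆ K', and weak solutions, unlike solutions, are not preserved under passing to a
normal closure; the clause can fail when the residue field of A is not separably closed in that of
B.) -/
theorem result (A B K L : Type u) [CommRing A] [IsDomain A]
    [IsDiscreteValuationRing A] [CommRing B] [IsDomain B] [IsDiscreteValuationRing B] [Algebra A B]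
    (hinj : Function.Injective (algebraMap A B)) [IsLocalHom (algebraMap A B)]
    [Field K] [Field L] [Algebra A K] [IsFractionRing A K] [Algebra B L] [IsFractionRing B L]
    [Algebra K L] [Algebra A L] [IsScalarTower A K L] [IsScalarTower A B L] :
    ∃ (A' B' K' L' : Type u) (_ : CommRing A') (_ : IsDomain A') (_ : IsDiscreteValuationRing A')
      (_ : CommRing B') (_ : IsDomain B') (_ : IsDiscreteValuationRing B') (_ : Field K') (_ : Field L')
      (_ : Algebra A A') (_ : Algebra B B') (_ : Algebra A' B') (_ : Algebra A B')
      (_ : IsScalarTower A B B') (_ : IsScalarTower A A' B')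
      (_ : Algebra A' K') (_ : IsFractionRing A' K') (_ : Algebra B' L') (_ : IsFractionRing B' L')
      (_ : Algebra K' L') (_ : Algebra A' L') (_ : IsScalarTower A' K' L') (_ : IsScalarTower A' B' L')
      (_ : Algebra K K') (_ : Algebra A K') (_ : IsScalarTower A K K') (_ : IsScalarTower A A' K')
      (_ : Algebra L L') (_ : Algebra B L') (_ : IsScalarTower B L L') (_ : IsScalarTower B B' L')
      (hA : IsLocalHom (algebraMap A A')) (hB : IsLocalHom (algebraMap B B')) (_ : IsLocalHom (algebraMap A' B')),
      Function.Injective (algebraMap A A') ∧ Function.Injective (algebraMap B B') ∧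
      Function.Injective (algebraMap A' B') ∧
      Algebra.IsSeparable K K' ∧ Algebra.IsSeparable L L' ∧
      (letI := (IsLocalRing.ResidueField.map (algebraMap A A')).toAlgebra
       IsSepClosure (IsLocalRing.ResidueField A) (IsLocalRing.ResidueField A')) ∧
      (letI := (IsLocalRing.ResidueField.map (algebraMap B B')).toAlgebra
       IsSepClosure (IsLocalRing.ResidueField B) (IsLocalRing.ResidueField B')) ∧
      ((∃ (K₁ : Type u) (_ : Field K₁) (_ : Algebra K' K₁), FiniteDimensional K' K₁ ∧ EtRam.IsSolution B' K' L' K₁) →
        ∃ (K₁ : Type u) (_ : Field K₁) (_ : Algebra K K₁), FiniteDimensional K K₁ ∧ EtRam.IsSolution B K L K₁) ∧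
      ((∃ (K₁ : Type u) (_ : Field K₁) (_ : Algebra K' K₁), FiniteDimensional K' K₁ ∧ Algebra.IsSeparable K' K₁ ∧
          EtRam.IsSolution B' K' L' K₁) →
        ∃ (K₁ : Type u) (_ : Field K₁) (_ : Algebra K K₁), FiniteDimensional K K₁ ∧ Algebra.IsSeparable K K₁ ∧
          EtRam.IsSolution B K L K₁) := by
  obtain ⟨dA, vA⟩ := EtRamLib.StrictReflect.exists_isDVR_localSH A
  obtain ⟨dB, vB⟩ := EtRamLib.StrictReflect.exists_isDVR_localSH B
  letI f : A →+* HenselLib.LocalSH B := (algebraMap B (HenselLib.LocalSH B)).comp (algebraMap A B)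
  haveI : IsLocalHom f := RingHom.isLocalHom_comp _ _
  haveI hsA := HenselLib.isSepClosure_residueField_localSH (R := A)
  haveI := hsA.separable
  haveI := (HenselLib.isSepClosure_residueField_localSH (R := B)).sep_closed
  letI algAB : Algebra (ResidueField A) (ResidueField (HenselLib.LocalSH B)) := (ResidueField.map f).toAlgebra
  let τ : ResidueField (HenselLib.LocalSH A) →ₐ[ResidueField A] ResidueField (HenselLib.LocalSH B) := IsSepClosed.lift
  haveI : HenselianLocalRing (HenselLib.LocalSH B) := inferInstance
  obtain ⟨φ, ⟨hφ, hres⟩, -⟩ := (HenselLib.isStrictHenselization_localSH (R := A)).universal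
    (HenselLib.LocalSH B) f τ.toRingHom (RingHom.ext fun x => τ.commutes x)
  haveI hφloc : IsLocalHom φ := ⟨fun x hx => by
    by_contra hnu
    have h0 : residue (HenselLib.LocalSH A) x = 0 := Ideal.Quotient.eq_zero_iff_mem.mpr ((mem_maximalIdeal x).mpr hnu)
    exact ((residue_ne_zero_iff_isUnit (φ x)).mpr hx) (by rw [hres, h0, map_zero])⟩
  have hinjB := EtRamLib.StrictReflect.injective_localSH B
  have hφinj : Function.Injective φ :=
    EtRamLib.StrictReflect.injective_of_localSH φ (hφ ▸ hinjB.comp hinj)
  let A' := HenselLib.LocalSH A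
  let B' := HenselLib.LocalSH B
  let K' := FractionRing A'
  let L' := FractionRing B'
  letI aAB' : Algebra A' B' := φ.toAlgebra
  letI aAB : Algebra A B' := f.toAlgebra
  haveI : IsScalarTower A B B' := IsScalarTower.of_algebraMap_eq fun _ => rfl
  haveI : IsScalarTower A A' B' := IsScalarTower.of_algebraMap_eq fun a => (congr($hφ a)).symm
  have hAK : Function.Injective (algebraMap A K') := by
    rw [IsScalarTower.algebraMap_eq A A' K']
    exact (IsFractionRing.injective A' K').comp (EtRamLib.StrictReflect.injective_localSH A)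
  have hBL : Function.Injective (algebraMap B L') := by
    rw [IsScalarTower.algebraMap_eq B B' L']
    exact (IsFractionRing.injective B' L').comp hinjB
  letI aKK : Algebra K K' := (IsFractionRing.lift hAK).toAlgebra
  haveI : IsScalarTower A K K' := IsScalarTower.of_algebraMap_eq fun a => (IsFractionRing.lift_algebraMap hAK a).symm
  letI aLL : Algebra L L' := (IsFractionRing.lift hBL).toAlgebra
  haveI : IsScalarTower B L L' := IsScalarTower.of_algebraMap_eq fun a => (IsFractionRing.lift_algebraMap hBL a).symm
  have hAL : Function.Injective ((algebraMap B' L').comp φ) := (IsFractionRing.injective B' L').comp hφinj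
  letI aK'L' : Algebra K' L' := (IsFractionRing.lift hAL).toAlgebra
  haveI : IsScalarTower A' K' L' := IsScalarTower.of_algebraMap_eq fun a => by
    rw [show algebraMap K' L' (algebraMap A' K' a) = algebraMap B' L' (φ a) from IsFractionRing.lift_algebraMap hAL a,
      IsScalarTower.algebraMap_apply A' B' L']
    rfl
  haveI hsK : Algebra.IsSeparable K K' := EtRamLib.StrictReflect.isSeparable_fractionRing_localSH A K K'
  haveI hsL : Algebra.IsSeparable L L' := EtRamLib.StrictReflect.isSeparable_fractionRing_localSH B L L'
  have hφK : ∀ x : A', algebraMap K' L' (algebraMap A' K' x) = algebraMap B' L' (φ x) :=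
    IsFractionRing.lift_algebraMap hAL
  refine ⟨A', B', K', L', inferInstance, dA, vA, inferInstance, dB, vB, inferInstance, inferInstance,
    inferInstance, inferInstance, aAB', aAB, inferInstance, inferInstance, inferInstance, inferInstance,
    inferInstance, inferInstance, aK'L', inferInstance, inferInstance, inferInstance, aKK, inferInstance, inferInstance,
    inferInstance, aLL, inferInstance, inferInstance, inferInstance, inferInstance, inferInstance, hφloc,
    EtRamLib.StrictReflect.injective_localSH A, hinjB, hφinj, hsK, hsL, ?_, ?_, ?_, ?_⟩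
  · convert hsA using 1
    exact Algebra.algebra_ext _ _ fun x => by obtain ⟨a, rfl⟩ := residue_surjective x; rfl
  · convert HenselLib.isSepClosure_residueField_localSH (R := B) using 1
    exact Algebra.algebra_ext _ _ fun x => by obtain ⟨a, rfl⟩ := residue_surjective x; rfl
  · rintro ⟨K₁, _, _, _, hsol⟩
    obtain ⟨E, i1, i2, h1, -, h3⟩ := reflect (K := K) (L := L) hinj φ hφ hφK K₁ hsol
    exact ⟨E, i1, i2, h1, h3⟩
  · rintro ⟨K₁, _, _, _, hs, hsol⟩
    obtain ⟨E, i1, i2, h1, h2, h3⟩ := reflect (K := K) (L := L) hinj φ hφ hφK K₁ hsol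
    exact ⟨E, i1, i2, h1, h2 hs, h3⟩

end Groth.Agent.S7162
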