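import Mathlib.Algebra.Module.FinitePresentation
import Mathlib.RingTheory.Spectrum.Maximal.Topology
import Mathlib.Topology.NoetherianSpace
import Mathlib.Topology.KrullDimension
import Mathlib.Order.KrullDimension
import Mathlib.LinearAlgebra.Quotient.Basic
import Mathlib.RingTheory.Ideal.Quotient.Operations
import Mathlib.LinearAlgebra.LinearIndependent.Defs
import Mathlib.LinearAlgebra.Dimension.Finrank
import Mathlib.Algebra.Module.Torsion.Basic
import Mathlib.Data.Fin.Tuple.Basic
import Groth.Agent.CAlgSerre.Proposition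

set_option autoImplicit false
universe u
namespace CAlg
end CAlg
open CAlg

namespace Groth.Agent.S7163

/-- Let R be a ring whose set Ω of closed points of Spec R is a Noetherian topological space and M a
finitely presented R-module; for x in Ω write M(x) = M/xM, B(x) for the classes of elements m with
φ(m) in x for every linear form φ, and V(x) = M(x)/B(x). Let s_1, ..., s_h be elements of M, F ⊆ Ω a
closed subset containing the set Z(s_1, ..., s_h) of points where the images of the s_i in V(x) are
linearly dependent, x_1, ..., x_n pairwise distinct points of F, v_i elements of M(x_i), and k ≥ 0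
an integer with h + k ≤ dim V(x) for all x in Ω. Then there are s in M and a closed F' ⊆ Ω such that
(a) s(x_i) and v_i have the same image in V(x_i), (b) Z(s_1, ..., s_h, s) ⊆ F ∪ F', and (c) each
irreducible component of F′ is of codimension at least k in Ω (equivalently, so is each irreducible
closed subset of Ω lying in F′). -/
theorem result (R : Type u) [CommRing R] [TopologicalSpace.NoetherianSpace (MaximalSpectrum R)]
    (M : Type u) [AddCommGroup M] [Module R M] [Module.FinitePresentation R M]
    (h : ℕ) (s : Fin h → M) (F : Set (MaximalSpectrum R)) (hF : IsClosed F)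
    (n : ℕ) (xs : Fin n → MaximalSpectrum R) (hxs : Function.Injective xs) (hxF : ∀ i, xs i ∈ F)
    (v : ∀ i : Fin n, M ⧸ ((xs i).asIdeal • ⊤ : Submodule R M)) (k : ℕ) :
    let Bq : ∀ x : MaximalSpectrum R, Submodule (R ⧸ x.asIdeal) (M ⧸ (x.asIdeal • ⊤ : Submodule R M)) :=
      fun x => Submodule.span (R ⧸ x.asIdeal)
        ((x.asIdeal • ⊤ : Submodule R M).mkQ '' {m : M | ∀ φ : M →ₗ[R] R, φ m ∈ x.asIdeal})
    let img : ∀ x : MaximalSpectrum R, M → (M ⧸ (x.asIdeal • ⊤ : Submodule R M)) ⧸ Bq x :=
      fun x m => (Bq x).mkQ ((x.asIdeal • ⊤ : Submodule R M).mkQ m)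
    (∀ x : MaximalSpectrum R, h + k ≤ Module.finrank (R ⧸ x.asIdeal) ((M ⧸ (x.asIdeal • ⊤ : Submodule R M)) ⧸ Bq x)) →
    (∀ x : MaximalSpectrum R, ¬ LinearIndependent (R ⧸ x.asIdeal) (fun i => img x (s i)) → x ∈ F) →
    ∃ (t : M) (F' : Set (MaximalSpectrum R)), IsClosed F' ∧
      (∀ i : Fin n, img (xs i) t = (Bq (xs i)).mkQ (v i)) ∧
      (∀ x : MaximalSpectrum R,
        ¬ LinearIndependent (R ⧸ x.asIdeal) (Fin.snoc (fun i => img x (s i)) (img x t)) → x ∈ F ∪ F') ∧
      ∀ Z : TopologicalSpace.IrreducibleCloseds (MaximalSpectrum R), (Z : Set (MaximalSpectrum R)) ⊆ F' →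
        (k : ℕ∞) ≤ Order.coheight Z := by
  intro Bq img hdim hindep
  classical
  choose w hw using fun i => ((xs i).asIdeal • ⊤ : Submodule R M).mkQ_surjective (v i)
  have hli : ∀ (x : MaximalSpectrum R) {r : ℕ} (u : Fin r → M),
      LinearIndependent (R ⧸ x.asIdeal) (fun i => img x (u i)) ↔ Groth.Agent.CAlgSerre.Indep x.asIdeal u :=
    fun x r u => Groth.Agent.CAlgSerre.linearIndependent_img_iff x.asIdeal u
  obtain ⟨t, F', hF', ht, hZ, hc⟩ := Groth.Agent.CAlgSerre.proposition k h s F hF
    (fun x hx => hindep x fun hl => hx ((hli x s).1 hl))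
    (fun x j u hj htop => absurd
      ((hdim x).trans (Groth.Agent.CAlgSerre.finrank_le_of_span_sup_eq_top x.asIdeal u htop)) (by omega))
    (Finset.univ.image xs) (fun x hx => by
      obtain ⟨i, -, rfl⟩ := Finset.mem_image.1 hx
      exact hxF i)
    (Function.extend xs w 0)
  refine ⟨t, F', hF', fun i => ?_, fun x hx => hZ x fun hl => hx ?_, hc⟩
  · have h1 := ht (xs i) (Finset.mem_image_of_mem xs (Finset.mem_univ i))
    rw [hxs.extend_apply, ← Groth.Agent.CAlgSerre.img_eq_zero_iff, map_sub, map_sub, sub_eq_zero,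
      hw] at h1
    exact h1
  · have h1 := (hli x (Fin.snoc s t)).2 hl
    rwa [show (fun i => img x (Fin.snoc (α := fun _ => M) s t i)) =
      Fin.snoc (fun i => img x (s i)) (img x t) from Fin.comp_snoc (img x) s t] at h1

end Groth.Agent.S7163
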