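import Groth.Statements.S7165
import Groth.Agent.EtRamLib.IntClosureNoeth

set_option autoImplicit false
set_option linter.all false
universe u
open EtAlg

namespace Groth.Agent.S7165

open TensorProduct in
/-- Let A → B be an injective local homomorphism of discrete valuation rings whose fields of fractions
are K ⊆ L, the A-algebra B being essentially of finite type. Let K' ⊇ K be an algebraic extension
field for which A', the integral closure of A in K', is a Noetherian ring, and let L' = (L ⊗_K
K')_red. Then B', the integral closure of B in L', is a Noetherian ring. (The published statement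
also asserts that Spec B' → Spec A' is surjective and that the residue field extensions are finitely
generated; this row states only that B' is Noetherian.) -/
theorem result (A B K L : Type u) [CommRing A] [IsDomain A]
    [IsDiscreteValuationRing A] [CommRing B] [IsDomain B] [IsDiscreteValuationRing B] [Algebra A B]
    (hinj : Function.Injective (algebraMap A B)) [IsLocalHom (algebraMap A B)] [Algebra.EssFiniteType A B]
    [Field K] [Field L] [Algebra A K] [IsFractionRing A K] [Algebra B L] [IsFractionRing B L]
    [Algebra K L] [Algebra A L] [IsScalarTower A K L] [IsScalarTower A B L]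
    (K' : Type u) [Field K'] [Algebra K K'] [Algebra A K'] [IsScalarTower A K K'] [Algebra.IsAlgebraic K K']
    (hA' : IsNoetherianRing (integralClosure A K'))
    (L' : Type u) [CommRing L'] [IsReduced L'] [Algebra K L'] [Algebra L L'] [Algebra K' L'] [Algebra B L']
    [IsScalarTower K L L'] [IsScalarTower K K' L'] [IsScalarTower B L L']
    (q : L ⊗[K] K' →ₐ[K] L') (hq : Function.Surjective q) (hker : RingHom.ker q.toRingHom = nilradical (L ⊗[K] K'))
    (hqL : ∀ y : L, q (y ⊗ₜ 1) = algebraMap L L' y) (hqK : ∀ z : K', q (1 ⊗ₜ z) = algebraMap K' L' z) :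
    IsNoetherianRing (integralClosure B L') := by
  classical
  letI : Algebra A L' := ((algebraMap K L').comp (algebraMap A K)).toAlgebra
  haveI : IsScalarTower A K L' := IsScalarTower.of_algebraMap_eq fun _ => rfl
  haveI : IsScalarTower A B L' := IsScalarTower.of_algebraMap_eq fun a => by
    rw [IsScalarTower.algebraMap_apply B L L', ← IsScalarTower.algebraMap_apply A B L,
      IsScalarTower.algebraMap_apply A K L, ← IsScalarTower.algebraMap_apply K L L']; rfl
  haveI : IsScalarTower A K' L' := IsScalarTower.of_algebraMap_eq fun a => by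
    rw [IsScalarTower.algebraMap_apply A K K', ← IsScalarTower.algebraMap_apply K K' L']; rfl
  let A' := integralClosure A K'
  haveI : IsNoetherianRing A' := hA'
  let R₀ := A' ⊗[A] B
  haveI : Algebra.EssFiniteType A' R₀ := inferInstance
  haveI : IsNoetherianRing R₀ := Algebra.EssFiniteType.isNoetherianRing A' R₀
  letI : Algebra B R₀ := Algebra.TensorProduct.rightAlgebra
  let i₁ : A' →ₐ[A] L' := (IsScalarTower.toAlgHom A K' L').comp A'.val
  let f₀ : R₀ →ₐ[A] L' := Algebra.TensorProduct.lift i₁ (IsScalarTower.toAlgHom A B L') fun _ _ => Commute.all _ _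
  have hf₀B : ∀ b : B, f₀ (1 ⊗ₜ b) = algebraMap B L' b := fun b =>
    (Algebra.TensorProduct.lift_tmul _ _ _ _ _).trans (by rw [map_one, one_mul]; rfl)
  let f : R₀ →ₐ[B] L' := { f₀.toRingHom with commutes' := fun b => hf₀B b }
  have hint : ∀ r, IsIntegral B (f r) := fun r => by
    show IsIntegral B (f₀ r)
    induction r using TensorProduct.induction_on with
    | zero => rw [map_zero]; exact isIntegral_zero
    | tmul a b =>
      rw [show f₀ (a ⊗ₜ b) = algebraMap K' L' a * algebraMap B L' b from Algebra.TensorProduct.lift_tmul _ _ _ _ _]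
      refine IsIntegral.mul ?_ isIntegral_algebraMap
      exact (a.2.map (IsScalarTower.toAlgHom A K' L')).tower_top
    | add x y hx hy => rw [map_add]; exact hx.add hy
  have hfrac : ∀ z : L', ∃ b : B, b ≠ 0 ∧ algebraMap B L' b * z ∈ f.range := fun z => by
    obtain ⟨x, rfl⟩ := hq z
    induction x using TensorProduct.induction_on with
    | zero => exact ⟨1, one_ne_zero, 0, by simp⟩
    | tmul y w =>
      obtain ⟨b1, b2, hb2, rfl⟩ := IsFractionRing.div_surjective B y
      haveI : Algebra.IsAlgebraic A K' := (IsFractionRing.comap_isAlgebraic_iff (A := A) (K := K)).mpr ‹Algebra.IsAlgebraic K K'›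
      obtain ⟨a, ha, haw⟩ := (Algebra.IsAlgebraic.isAlgebraic (R := A) w).exists_integral_multiple
      refine ⟨b2 * algebraMap A B a, mul_ne_zero (nonZeroDivisors.ne_zero hb2) fun h => ha (hinj (by rw [h, map_zero])),
        ⟨a • w, haw⟩ ⊗ₜ b1, ?_⟩
      show f₀ (_ ⊗ₜ b1) = _
      rw [show f₀ ((⟨a • w, haw⟩ : A') ⊗ₜ b1) = algebraMap K' L' (a • w) * algebraMap B L' b1 from Algebra.TensorProduct.lift_tmul _ _ _ _ _,
        show q ((algebraMap B L b1 / algebraMap B L b2) ⊗ₜ w) =
          algebraMap L L' (algebraMap B L b1 / algebraMap B L b2) * algebraMap K' L' w by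
          rw [← hqL, ← hqK, ← map_mul, Algebra.TensorProduct.tmul_mul_tmul, mul_one, one_mul],
        Algebra.smul_def, map_mul (algebraMap K' L'), map_mul (algebraMap B L'), ← IsScalarTower.algebraMap_apply A B L',
        ← IsScalarTower.algebraMap_apply A K' L']
      have hd : algebraMap B L' b2 * algebraMap L L' (algebraMap B L b1 / algebraMap B L b2) = algebraMap B L' b1 := by
        rw [IsScalarTower.algebraMap_apply B L L', IsScalarTower.algebraMap_apply B L L' b1, ← map_mul,
          mul_div_cancel₀ _ (IsFractionRing.to_map_ne_zero_of_mem_nonZeroDivisors hb2)]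
      linear_combination (-(algebraMap A L' a * algebraMap K' L' w)) * hd
    | add x y hx hy =>
      obtain ⟨b, hb, r, hr⟩ := hx
      obtain ⟨c, hc, s, hs⟩ := hy
      refine ⟨b * c, mul_ne_zero hb hc, algebraMap B R₀ c * r + algebraMap B R₀ b * s, ?_⟩
      show f _ = _
      rw [map_add f, map_mul f, map_mul f, f.commutes, f.commutes, show f r = _ from hr, show f s = _ from hs,
        map_add q, map_mul]
      ring
  exact EtRamLib.IntClosureNoeth.of_reduced B L R₀ L' f hint hfrac

end Groth.Agent.S7165
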