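import Groth.Statements.S7166
import Groth.Agent.FlatMorPerfect.Source

set_option autoImplicit false
universe u
attribute [local instance] HasDerivedCategory.standard
open FlatMor

namespace Groth.Agent.S7166

open AlgebraicGeometry CategoryTheory Limits in
/-- (1) ⇔ (2): a morphism f : X → S is pseudo-coherent (for all affine opens U ⊆ f⁻¹(V) the ring map
O_S(V) → O_X(U) is pseudo-coherent) if and only if every point of X lies in some affine open U,
contained in the preimage of some affine open V of S, for which O_S(V) → O_X(U) is a pseudo-coherent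
ring map. (The third equivalent condition, phrased with relative pseudo-coherence of the structure
sheaf, is not restated.) -/
theorem result {X S : Scheme.{u}} (f : X ⟶ S) :
    MoreMor.IsPseudoCoherentMor f ↔ ∀ x : X, ∃ (U : X.Opens) (V : S.Opens) (hUV : U ≤ f ⁻¹ᵁ V),
      IsAffineOpen U ∧ IsAffineOpen V ∧ x ∈ U ∧
      (letI := (f.appLE V U hUV).hom.toAlgebra
       MoreMor.IsPseudoCoherentHom Γ(S, V) Γ(X, U)) := by
  constructor
  · intro h x
    obtain ⟨V, hV, hxV, -⟩ := TopologicalSpace.Opens.isBasis_iff_nbhd.mp S.isBasis_affineOpens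
      (TopologicalSpace.Opens.mem_top (f x))
    obtain ⟨U, hU, hxU, hUV⟩ := TopologicalSpace.Opens.isBasis_iff_nbhd.mp X.isBasis_affineOpens
      (show x ∈ f ⁻¹ᵁ V from hxV)
    exact ⟨U, V, hUV, hU, hV, hxU, h U V hU hV hUV⟩
  · intro h
    rw [HasRingHomProperty.iff_exists_appLE (P := @MoreMor.IsPseudoCoherentMor)
      Groth.Agent.FlatMorPerfect.ringPC_source]
    intro x
    obtain ⟨U, V, hUV, hU, hV, hx, hp⟩ := h x
    exact ⟨⟨V, hV⟩, ⟨U, hU⟩, hx, hUV, hp⟩

end Groth.Agent.S7166
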