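import Groth.Statements.S7173
import Groth.Agent.FlatCx12.PerfectHom

set_option autoImplicit false
universe u
attribute [local instance] HasDerivedCategory.standard
open FlatMor

namespace Groth.Agent.S7173

open AlgebraicGeometry CategoryTheory Limits in
/-- A morphism locally of finite type to a regular scheme S (locally Noetherian with all local rings
regular) whose affine opens have finite Krull dimension is perfect. (The published statement carries
no dimension hypothesis; its proof is the ring statement for a finite type algebra over a regular
ring of finite dimension, so finite Krull dimension of the affine opens of S is assumed here.) -/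
theorem result {X S : Scheme.{u}} (f : X ⟶ S) [LocallyOfFiniteType f] [IsLocallyNoetherian S]
    (hreg : ∀ s : S, IsRegularLocalRing (S.presheaf.stalk s))
    (hdim : ∀ V : S.Opens, IsAffineOpen V → ringKrullDim Γ(S, V) < ⊤) :
    MoreMor.IsPerfectMor f := by
  intro U V hU hV hUV
  letI := (f.appLE V U hUV).hom.toAlgebra
  have h2 : (f.appLE V U hUV).hom.FiniteType := f.finiteType_appLE hV hU hUV
  haveI : Algebra.FiniteType Γ(S, V) Γ(X, U) := h2
  haveI : IsNoetherianRing Γ(S, V) := IsLocallyNoetherian.component_noetherian ⟨V, hV⟩
  haveI : IsRegularRing Γ(S, V) :=
    { isRegularLocalRing_localization := fun p hp => by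
        let P : PrimeSpectrum Γ(S, V) := ⟨p, hp⟩
        let s := hV.fromSpec P
        have hs : s ∈ V := hV.range_fromSpec.le ⟨P, rfl⟩
        letI := TopCat.Presheaf.algebra_section_stalk S.presheaf ⟨s, hs⟩
        haveI : IsLocalization p.primeCompl (S.presheaf.stalk s) := hV.isLocalization_stalk' P hs
        haveI := hreg s
        exact IsRegularLocalRing.of_ringEquiv
          (IsLocalization.algEquiv p.primeCompl (S.presheaf.stalk s) (Localization.AtPrime p)).toRingEquiv }
  exact Groth.Agent.FlatCx12.PerfectHom.perfectHom_of_regular Γ(S, V) Γ(X, U) (hdim V hV)

end Groth.Agent.S7173
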