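import Groth.Statements.S7176
import Groth.Agent.FlatCx12.LCICancelScheme
import Groth.Agent.S7174
import Groth.Agent.Synt15.LCIPermanence
import Groth.Agent.SDiv28.RegImmKinds
import Groth.Agent.SDiv28.RegularSpread
import Groth.Agent.Nrm16Lib.RegImm

set_option autoImplicit false
universe u
attribute [local instance] HasDerivedCategory.standard
open FlatMor

namespace Groth.Agent.S7176

open AlgebraicGeometry CategoryTheory Limits in
/-- Let i : Z → Y and j : Y → X be immersions with X locally Noetherian, j ∘ i a regular immersion and i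
perfect. Then i is a regular immersion and j is a regular immersion at every point i(z), z in Z.
(The published statement concludes that j is a regular immersion outright; its proof works in the
local rings of X at points of Z, and for Z empty the hypotheses hold for every immersion j, so the
conclusion on j is stated at the points of i(Z) only.) Over a locally Noetherian scheme the four
kinds of regular immersion agree; the kind is a parameter here. -/
theorem result {Z Y X : Scheme.{u}} (i : Z ⟶ Y) (j : Y ⟶ X) [IsImmersion i] [IsImmersion j]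
    [IsLocallyNoetherian X] (k : RegImm.Kind) (h : RegImm.IsRegularImmersion k (i ≫ j)) (hi : MoreMor.IsPerfectMor i) :
    RegImm.IsRegularImmersion k i ∧ ∀ z : Z, RegImm.IsRegularImmersionAt k j (i z) := by
  haveI := AlgebraicGeometry.LocallyOfFiniteType.isLocallyNoetherian j
  have hkinds : ∀ (k k' : RegImm.Kind) (Z' X' : Scheme.{u}) [IsLocallyNoetherian X'] (i' : Z' ⟶ X'),
      RegImm.IsRegularImmersion k i' → RegImm.IsRegularImmersion k' i' := by
    intro k k' Z' X' _ i' hk
    have h := Groth.Agent.SDiv28.RegImmKinds.implications i'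
    have hq : RegImm.IsRegularImmersion .quasi i' := by
      cases k
      · exact h.2.2 (h.2.1 (h.1 hk))
      · exact h.2.2 (h.2.1 hk)
      · exact h.2.2 hk
      · exact hk
    have hr := Groth.Agent.Nrm16Lib.isRegularImmersion_regular_of_quasi hq
    cases k'
    · exact hr
    · exact h.1 hr
    · exact h.2.1 (h.1 hr)
    · exact hq
  have hij : ∀ z, Groth.Agent.FlatMorKoszul.IsKoszulPt (i ≫ j) z := fun z =>
    Groth.Agent.Synt15.isKoszulPt_of_isRegularImmersion _ (hkinds k .koszul _ _ _ h) z
  have key := Groth.Agent.FlatCx12.LCICancel.koszul_cancel i j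
    ((Groth.Agent.S7174.result i fun U V hU hV hUV => (hi U V hU hV hUV).1).1 hi) hij
  refine ⟨hkinds .koszul k _ _ _ (Groth.Agent.Synt15.isRegularImmersion_of_isKoszulPt i fun z => (key z).1),
    fun z => ?_⟩
  -- an open neighbourhood of `i z` where `j` is Koszul
  obtain ⟨V, W, hV, hW, hVW, hzV, hl⟩ := (key z).2
  obtain ⟨O, hO, hOV⟩ := j.isEmbedding.isInducing.isOpen_iff.1 V.isOpen
  let O' : X.Opens := ⟨O, hO⟩
  have hpre : ∀ y : (j ⁻¹ᵁ O' : Y.Opens), y.1 ∈ V := fun y => hOV.le y.2
  have hzO : i z ∈ j ⁻¹ᵁ O' := hOV.ge hzV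
  haveI : IsImmersion (j ∣_ O') := MorphismProperty.of_isPullback (isPullback_morphismRestrict j O').flip ‹_›
  have hreg : RegImm.IsRegularImmersion k (j ∣_ O') := hkinds .koszul k _ _ _
    (Groth.Agent.Synt15.isRegularImmersion_of_isKoszulPt (j ∣_ O') fun y => by
      refine Groth.Agent.Synt15.isKoszulPt_of_comp_smooth (j ∣_ O') O'.ι ?_
      rw [morphismRestrict_ι]
      exact Groth.Agent.Synt15.isKoszulPt_comp (j ⁻¹ᵁ O').ι j (Groth.Agent.Synt15.isKoszulPt_of_smooth _ y)
        ⟨V, W, hV, hW, hVW, hpre y, hl⟩)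
  obtain ⟨⟨U, hU⟩, hzU, hc, rs, hrs, hker⟩ := hreg.2 ⟨i z, hzO⟩
  refine ⟨⟨O'.ι ''ᵁ U, hU.image_of_isOpenImmersion O'.ι⟩,
    ⟨(j ∣_ O') ⟨i z, hzO⟩, hzU, congrArg (fun g => g ⟨i z, hzO⟩) (morphismRestrict_ι j O')⟩, ?_, rs, hrs,
    (Groth.Agent.SDiv28.RegSpread.ker_restrict_app j O' U).symm.trans hker⟩
  exact (MorphismProperty.arrow_mk_iso_iff @IsClosedImmersion (morphismRestrictRestrict j O' U)).1 hc

end Groth.Agent.S7176
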