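import Groth.Statements.S7180
import Groth.Agent.S1412
import Groth.Agent.HenselLib.NormalHens

set_option autoImplicit false
universe u
open FlatMor

namespace Groth.Agent.S7180

open AlgebraicGeometry CategoryTheory Limits in
/-- The source of a weakly étale morphism with normal target (all local rings integrally closed domains)
is normal. -/
theorem result {X Y : Scheme.{u}} (f : X ⟶ Y) [WeaklyEtale f] (hY : Pi1.IsNormalScheme Y) :
    Pi1.IsNormalScheme X := by
  intro x
  obtain ⟨h1, h2⟩ := (Groth.Agent.S1412.result f).1 inferInstance x
  let _ := (f.stalkMap x).hom.toAlgebra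
  have : Algebra.WeaklyEtale (Y.presheaf.stalk (f x)) (X.presheaf.stalk x) :=
    { flat := h1, flat_lmul' := h2 }
  have := (hY (f x)).1
  have := (hY (f x)).2
  exact HenselLib.normalDomain_of_weaklyEtale (Y.presheaf.stalk (f x)) (X.presheaf.stalk x)

end Groth.Agent.S7180
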