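import Groth.Statements.S7183
import Groth.Agent.FlatMorPush.MapProps

set_option autoImplicit false
universe u
open FlatMor

set_option backward.isDefEq.respectTransparency.types false

namespace Groth.Agent.S7183

open AlgebraicGeometry CategoryTheory Limits in
/-- Let i : Z → X, j : Z → Y be closed immersions with pushout P, let X' → X and Y' → Y be morphisms
whose base changes to Z are identified (a scheme Z' cartesian over both), let P' be the pushout of
Z' → X' and Z' → Y' and h : P' → P the induced morphism. Then h is locally of finite type (resp.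
flat, resp. flat and locally of finite presentation, resp. smooth, resp. étale) if and only if X' →
X and Y' → Y both are. -/
theorem result {X Y Z P X' Y' Z' P' : Scheme.{u}}
    (i : Z ⟶ X) (j : Z ⟶ Y) [IsClosedImmersion i] [IsClosedImmersion j] (a : X ⟶ P) (b : Y ⟶ P) (hP : IsPushout i j a b)
    (f : X' ⟶ X) (g : Y' ⟶ Y) (i' : Z' ⟶ X') (j' : Z' ⟶ Y') (c : Z' ⟶ Z) (hX : IsPullback i' c f i) (hY : IsPullback j' c g j)
    (a' : X' ⟶ P') (b' : Y' ⟶ P') (hP' : IsPushout i' j' a' b') (h : P' ⟶ P) (ha : a' ≫ h = f ≫ a) (hb : b' ≫ h = g ≫ b) :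
    (LocallyOfFiniteType h ↔ LocallyOfFiniteType f ∧ LocallyOfFiniteType g) ∧
    (Flat h ↔ Flat f ∧ Flat g) ∧
    ((Flat h ∧ LocallyOfFinitePresentation h) ↔ (Flat f ∧ LocallyOfFinitePresentation f) ∧ (Flat g ∧ LocallyOfFinitePresentation g)) ∧
    (Smooth h ↔ Smooth f ∧ Smooth g) ∧
    (Etale h ↔ Etale f ∧ Etale g) := by
  have : FlatMorPush.HasPairs i j := FlatMorPush.hasPairs_of_isClosedImmersion i j
  have : IsClosedImmersion i' := MorphismProperty.of_isPullback hX.flip ‹IsClosedImmersion i›
  have : IsClosedImmersion j' := MorphismProperty.of_isPullback hY.flip ‹IsClosedImmersion j›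
  have : FlatMorPush.HasPairs i' j' := FlatMorPush.hasPairs_of_isClosedImmersion i' j'
  let m := FlatMorPush.poMap hX.flip hY.flip
  let e := (FlatMorPush.isPushout i j).isoIsPushout _ _ hP
  let e' := (FlatMorPush.isPushout i' j').isoIsPushout _ _ hP'
  have he : e'.hom ≫ h = m ≫ e.hom := by
    apply FlatMorPush.hom_ext
    · rw [← Category.assoc, ← Category.assoc]
      erw [(FlatMorPush.isPushout i' j').inl_isoIsPushout_hom _ _ hP', FlatMorPush.inl_poMap]
      rw [ha, Category.assoc]
      erw [(FlatMorPush.isPushout i j).inl_isoIsPushout_hom _ _ hP]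
    · rw [← Category.assoc, ← Category.assoc]
      erw [(FlatMorPush.isPushout i' j').inr_isoIsPushout_hom _ _ hP', FlatMorPush.inr_poMap]
      rw [hb, Category.assoc]
      erw [(FlatMorPush.isPushout i j).inr_isoIsPushout_hom _ _ hP]
  have ei : Arrow.mk m ≅ Arrow.mk h := Arrow.isoMk e' e he
  have pf := FlatMorPush.isPullback_inl_poMap_closed hX.flip hY.flip
  have pg := FlatMorPush.isPullback_inr_poMap_closed hX.flip hY.flip
  refine ⟨⟨fun hh => ?_, fun hh => ?_⟩, ⟨fun hh => ?_, fun hh => ?_⟩, ⟨fun hh => ?_, fun hh => ?_⟩,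
    ⟨fun hh => ?_, fun hh => ?_⟩, ⟨fun hh => ?_, fun hh => ?_⟩⟩
  · have := (MorphismProperty.arrow_mk_iso_iff @LocallyOfFiniteType ei).mpr hh
    exact ⟨MorphismProperty.of_isPullback pf.flip this, MorphismProperty.of_isPullback pg.flip this⟩
  · have := hh.1; have := hh.2
    exact (MorphismProperty.arrow_mk_iso_iff @LocallyOfFiniteType ei).mp
      (FlatMorPush.locallyOfFiniteType_closed hX.flip hY.flip)
  · have := (MorphismProperty.arrow_mk_iso_iff @Flat ei).mpr hh
    exact ⟨MorphismProperty.of_isPullback pf.flip this, MorphismProperty.of_isPullback pg.flip this⟩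
  · have := hh.1; have := hh.2
    exact (MorphismProperty.arrow_mk_iso_iff @Flat ei).mp
      (FlatMorPush.flat_closed hX.flip hY.flip)
  · have h1 := (MorphismProperty.arrow_mk_iso_iff @Flat ei).mpr hh.1
    have h2 := (MorphismProperty.arrow_mk_iso_iff @LocallyOfFinitePresentation ei).mpr hh.2
    exact ⟨⟨MorphismProperty.of_isPullback pf.flip h1, MorphismProperty.of_isPullback pf.flip h2⟩,
      MorphismProperty.of_isPullback pg.flip h1, MorphismProperty.of_isPullback pg.flip h2⟩
  · obtain ⟨⟨_, _⟩, _, _⟩ := hh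
    exact ⟨(MorphismProperty.arrow_mk_iso_iff @Flat ei).mp
        (FlatMorPush.flat_closed hX.flip hY.flip),
      (MorphismProperty.arrow_mk_iso_iff @LocallyOfFinitePresentation ei).mp
        (FlatMorPush.locallyOfFinitePresentation_closed hX.flip hY.flip)⟩
  · have := (MorphismProperty.arrow_mk_iso_iff @Smooth ei).mpr hh
    exact ⟨MorphismProperty.of_isPullback pf.flip this, MorphismProperty.of_isPullback pg.flip this⟩
  · have := hh.1; have := hh.2
    exact (MorphismProperty.arrow_mk_iso_iff @Smooth ei).mp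
      (FlatMorPush.smooth_closed hX.flip hY.flip)
  · have := (MorphismProperty.arrow_mk_iso_iff @Etale ei).mpr hh
    exact ⟨MorphismProperty.of_isPullback pf.flip this, MorphismProperty.of_isPullback pg.flip this⟩
  · have := hh.1; have := hh.2
    exact (MorphismProperty.arrow_mk_iso_iff @Etale ei).mp
      (FlatMorPush.etale_closed hX.flip hY.flip)

end Groth.Agent.S7183
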