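import Groth.Statements.S7185
import Groth.Agent.FlatMorWeight.Sums

set_option autoImplicit false
universe u
open FlatMor

namespace Groth.Agent.S7185

open AlgebraicGeometry CategoryTheory Limits in
/-- The restriction of a weighting of a locally quasi-finite morphism f : X → Y (locally of finite type
with discrete fibres) to an open subscheme X' of X is a weighting of X' → Y. -/
theorem result {X Y : Scheme.{u}} (f : X ⟶ Y) [LocallyQuasiFinite f] [LocallyOfFiniteType f] (w : X → ℤ)
    (hw : MoreMor.IsWeighting f w) (X' : X.Opens) : MoreMor.IsWeighting (X'.ι ≫ f) (fun x => w (X'.ι x)) := by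
  intro V g _ U hU
  haveI := hU
  let j : pullback (X'.ι ≫ f) g ⟶ pullback f g :=
    pullback.map (X'.ι ≫ f) g f g X'.ι (𝟙 V) (𝟙 Y) (by simp) (by simp)
  have hj : j ≫ pullback.snd f g = pullback.snd (X'.ι ≫ f) g := (pullback.lift_snd _ _ _).trans (Category.comp_id _)
  have hjfst : j ≫ pullback.fst f g = pullback.fst (X'.ι ≫ f) g ≫ X'.ι := pullback.lift_fst _ _ _
  haveI : IsFinite ((j ''ᵁ U).ι ≫ pullback.snd f g) := by
    rw [← MorphismProperty.cancel_left_of_respectsIso @IsFinite (j.isoImage U).hom, ← Category.assoc,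
      j.isoImage_hom_ι U, Category.assoc, hj]
    exact hU
  have key : MoreMor.fibreIntegral (U.ι ≫ pullback.snd (X'.ι ≫ f) g)
      (fun x => w (X'.ι (pullback.fst (X'.ι ≫ f) g (U.ι x)))) =
      MoreMor.fibreIntegral ((j ''ᵁ U).ι ≫ pullback.snd f g)
        (fun x => w (pullback.fst f g ((j ''ᵁ U).ι x))) := by
    funext v
    obtain ⟨Ω, _, _, vb, rfl⟩ := Groth.Agent.FlatMorWeight.exists_geomPt' v
    rw [(Groth.Agent.FlatMorWeight.fibreIntegral_opens (pullback.snd (X'.ι ≫ f) g) vb U
        (fun x => w (X'.ι (pullback.fst (X'.ι ≫ f) g x)))).1,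
      (Groth.Agent.FlatMorWeight.fibreIntegral_opens (pullback.snd f g) vb (j ''ᵁ U)
        (fun x => w (pullback.fst f g x))).1]
    refine finsum_mem_eq_of_bijOn (fun z => z ≫ j) ⟨fun z hz => ⟨?_, ?_⟩,
      fun a _ b _ h => (cancel_mono j).1 h, fun z hz => ?_⟩ fun z _ => ?_
    · show (z ≫ j) ≫ pullback.snd f g = vb
      rw [Category.assoc, hj]; exact hz.1
    · exact ⟨_, hz.2, rfl⟩
    · obtain ⟨q, hq, hqz⟩ := hz.2
      have hr : Set.range z ⊆ Set.range j := by
        rintro _ ⟨p, rfl⟩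
        rw [Groth.Agent.FlatMorWeight.eq_pt]
        exact ⟨q, hqz⟩
      refine ⟨IsOpenImmersion.lift j z hr, ⟨?_, ?_⟩, IsOpenImmersion.lift_fac _ _ _⟩
      · show _ ≫ pullback.snd (X'.ι ≫ f) g = vb
        rw [← hj, IsOpenImmersion.lift_fac_assoc]; exact hz.1
      · have : q = Groth.Agent.FlatMorWeight.pt (IsOpenImmersion.lift j z hr) := by
          refine j.isOpenEmbedding.injective ?_
          rw [← Groth.Agent.FlatMorWeight.pt_comp, IsOpenImmersion.lift_fac]
          exact hqz
        exact this ▸ hq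
    · rw [Groth.Agent.FlatMorWeight.pt_comp, ← Scheme.Hom.comp_apply, ← Scheme.Hom.comp_apply, hjfst]
  exact key ▸ hw V g (j ''ᵁ U) inferInstance

end Groth.Agent.S7185
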