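import Groth.Statements.S7192
import Groth.Agent.FlatMorWeight.Descend

set_option autoImplicit false
universe u
open CategoryTheory AlgebraicGeometry
open FlatMor

namespace Groth.Agent.S7192

/-- Let Y = lim Y_i be a cofiltered limit of affine schemes and f₀ : X₀ → Y_{i₀} a quasi-finite morphism
of finite presentation between affine schemes, with base changes f : X → Y and f_i : X_i → Y_i. If w
is a weighting of f, then for some i → i₀ there is a weighting w_i of f_i which pulls back to w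
along X → X_i. -/
theorem result {I : Type u} [SmallCategory I] [IsCofiltered I]
    (D : I ⥤ Scheme.{u}) (c : Limits.Cone D) (hc : Limits.IsLimit c) [∀ i, IsAffine (D.obj i)]
    (i0 : I) {X0 X : Scheme.{u}} [IsAffine X0] (f0 : X0 ⟶ D.obj i0) [LocallyQuasiFinite f0] [LocallyOfFinitePresentation f0] [QuasiCompact f0]
    (f : X ⟶ c.pt) (pX : X ⟶ X0) (hX : IsPullback pX f f0 (c.π.app i0))
    (w : X → ℤ) (hw : MoreMor.IsWeighting f w) :
    ∃ (i : I) (a : i ⟶ i0) (Xi : Scheme.{u}) (fi : Xi ⟶ D.obj i) (pXi : Xi ⟶ X0) (g : X ⟶ Xi) (wi : Xi → ℤ),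
      IsPullback pXi fi f0 (D.map a) ∧ g ≫ fi = f ≫ c.π.app i ∧ g ≫ pXi = pX ∧
      MoreMor.IsWeighting fi wi ∧ ∀ x : X, wi (g x) = w x := by
  obtain ⟨k, wk, hwk, hwk'⟩ := Groth.Agent.FlatMorWeight.exists_isWeighting_stage D c hc i0 f0 f pX hX w hw
  exact ⟨k.left, k.hom, _, Groth.Agent.H8Lim.stageSnd D f0 k, Groth.Agent.H8Lim.stageFst D f0 k,
    Groth.Agent.H8Lim.stageProj f0 c pX f hX k, wk, Groth.Agent.H8Lim.isPullback_stage D f0 k,
    Groth.Agent.H8Lim.stageProj_snd f0 c pX f hX k, Groth.Agent.H8Lim.stageProj_fst f0 c pX f hX k,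
    hwk, hwk'⟩

end Groth.Agent.S7192
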