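import Groth.Statements.S7196
import Groth.Agent.FlatMor12.MorSAF
import Groth.Agent.FlatMorDVR.FiniteSetAffine

set_option autoImplicit false
universe u
open CategoryTheory AlgebraicGeometry
open FlatMor

namespace Groth.Agent.S7196

/-- For Z → S finite locally free and X → S separated, locally of finite type and with discrete fibres
(locally quasi-finite), the functor T ↦ {S-morphisms T ×_S Z → X} on S-schemes is represented by
some S-scheme. -/
theorem result {Z X S : Scheme.{u}} (g : Z ⟶ S) (f : X ⟶ S) (hg : Mor2.IsFinLocFree g)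
    [IsSeparated f] [LocallyQuasiFinite f] [LocallyOfFiniteType f] :
    (Flatn.morS g f).IsRepresentable := by
  refine FlatMor12.MorSAF.isRepresentable g f hg fun s d x hx => ?_
  classical
  obtain ⟨V, hV, hs, -⟩ := exists_isAffineOpen_mem_and_subset (x := s) (U := ⊤) trivial
  have : IsAffine (V : Scheme.{u}) := hV
  have hmem : ∀ k, x k ∈ f ⁻¹ᵁ V := fun k => by show f (x k) ∈ V; rw [hx k]; exact hs
  obtain ⟨U, hU, hxU⟩ := FlatMorDVR.exists_affine_of_finite_lqf (f ∣_ V)
    (Finset.univ.image fun k => (⟨x k, hmem k⟩ : (f ⁻¹ᵁ V : Scheme.{u})))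
  exact ⟨(f ⁻¹ᵁ V).ι ''ᵁ U, hU.image_of_isOpenImmersion _,
    fun k => ⟨⟨x k, hmem k⟩, hxU _ (Finset.mem_image_of_mem _ (Finset.mem_univ k)), rfl⟩⟩

end Groth.Agent.S7196
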