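import Groth.Statements.S7199
import Groth.Agent.DimLib.Algebra
import Mathlib.RingTheory.AlgebraicIndependent.Transcendental
-- import your own Groth.Agent.* helpers here

set_option autoImplicit false
universe u
open FlatMor

namespace Groth.Agent.S7199

open MvPolynomial Algebra

/-- Two elements cutting out a component of codimension two are algebraically independent. -/
theorem algebraicIndependent_of_codim_two {k A : Type u} [Field k] [CommRing A] [IsDomain A] [Algebra k A]
    [Algebra.FiniteType k A] (a b : A) (p : Ideal A) (hp : p ∈ (Ideal.span {a, b}).minimalPrimes)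
    (hdim : ringKrullDim (A ⧸ p) + 2 = ringKrullDim A) : AlgebraicIndependent k ![a, b] := by
  haveI : IsNoetherianRing A := Algebra.FiniteType.isNoetherianRing k A
  haveI := hp.isPrime
  by_contra hind
  let φ : MvPolynomial (Fin 2) k →ₐ[k] A := aeval ![a, b]
  have hker : RingHom.ker φ.toRingHom ≠ ⊥ := fun h =>
    hind (algebraicIndependent_iff_injective_aeval.2 ((RingHom.injective_iff_ker_eq_bot _).2 h))
  have hab : ∀ i, ![a, b] i ∈ p := Fin.forall_fin_two.2
    ⟨hp.1.2 (Ideal.subset_span (by simp)), hp.1.2 (Ideal.subset_span (by simp))⟩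
  have hle : p.height ≤ 1 := by
    by_cases h0 : ∀ i, ![a, b] i = 0
    · refine Ideal.height_le_one_of_isPrincipal_of_mem_minimalPrimes (Ideal.span {(0 : A)}) p ?_
      rwa [show Ideal.span {(0 : A)} = Ideal.span {a, b} by
        rw [show a = 0 from h0 0, show b = 0 from h0 1, Set.pair_eq_singleton]]
    obtain ⟨j, hj⟩ := not_forall.1 h0
    refine Ideal.height_le_one_of_isPrincipal_of_mem_minimalPrimes (Ideal.span {![a, b] j}) p
      ⟨⟨hp.isPrime, (Ideal.span_singleton_le_iff_mem _).2 (hab j)⟩, ?_⟩
    rintro q ⟨hq, hjq⟩ hqp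
    haveI : q.IsPrime := hq
    let R := MvPolynomial (Fin 2) k
    have hjQ : (X j : R) ∈ q.comap φ.toRingHom := by
      show φ (X j) ∈ q
      rw [show φ (X j) = ![a, b] j from aeval_X _ j]
      exact (Ideal.span_singleton_le_iff_mem _).1 hjq
    have h2 : 2 ≤ (q.comap φ.toRingHom).height := by
      haveI : (RingHom.ker φ.toRingHom).IsPrime := RingHom.ker_isPrime _
      have h1 : 1 ≤ (RingHom.ker φ.toRingHom).height :=
        Order.one_le_iff_ne_zero.2 fun h => hker (Ideal.height_eq_zero_iff_eq_bot.1 h)
      have hlt : RingHom.ker φ.toRingHom < q.comap φ.toRingHom := by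
        refine lt_of_le_of_ne (fun x hx => ?_) fun h => hj ?_
        · show φ.toRingHom x ∈ q
          rw [RingHom.mem_ker.1 hx]
          exact zero_mem _
        · have := RingHom.mem_ker.1 (h ▸ hjQ : (X j : R) ∈ RingHom.ker φ.toRingHom)
          rwa [show φ.toRingHom (X j) = ![a, b] j from aeval_X _ j] at this
      calc (2 : ℕ∞) = 1 + 1 := rfl
        _ ≤ _ := add_le_add h1 le_rfl
        _ ≤ _ := Ideal.height_add_one_le_of_lt_of_isPrime hlt
    have hQle : q.comap φ.toRingHom ≤ p.comap φ.toRingHom := Ideal.comap_mono hqp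
    obtain ⟨m, hm, hpm⟩ := Ideal.exists_le_maximal (p.comap φ.toRingHom) (Ideal.IsPrime.ne_top inferInstance)
    have hmh : m.height = 2 := by simpa using DimLib.height_eq_of_isMaximal_mvPolynomial (k := k) 2 m
    haveI : m.FiniteHeight := ⟨Or.inr (by rw [hmh]; decide)⟩
    haveI : (q.comap φ.toRingHom).FiniteHeight := Ideal.finiteHeight_of_le (hQle.trans hpm) hm.ne_top
    have hQm : q.comap φ.toRingHom = m :=
      Ideal.eq_of_le_of_height_le (I := q.comap φ.toRingHom) (hQle.trans hpm) (by rw [hmh]; exact h2)
    refine hp.2 ⟨hq, Ideal.span_le.2 ?_⟩ hqp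
    have hX : ∀ i, ![a, b] i ∈ q := fun i => by
      have : (X i : R) ∈ q.comap φ.toRingHom := hQm ▸ hpm (show φ (X i) ∈ p by
        rw [show φ (X i) = ![a, b] i from aeval_X _ i]; exact hab i)
      rwa [Ideal.mem_comap, show φ.toRingHom (X i) = ![a, b] i from aeval_X _ i] at this
    rintro x (rfl | rfl)
    exacts [hX 0, hX 1]
  have hsum := DimLib.height_add_ringKrullDim_quotient (k := k) p
  obtain ⟨d, hd⟩ := DimLib.exists_nat_ringKrullDim (k := k) (A := A ⧸ p)
  obtain ⟨h, hh⟩ := ENat.ne_top_iff_exists.1 (ne_top_of_le_ne_top (by decide) hle)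
  rw [← hdim, hd, ← hh] at hsum
  rw [← hh] at hle
  have h1 : h ≤ 1 := by exact_mod_cast hle
  have h2 : h + d = d + 2 := by
    norm_cast at hsum
    exact Nat.cast_injective (WithBot.coe_injective hsum)
  omega

/-- Translation by a vector, as an automorphism of a polynomial ring. -/
noncomputable def shift {σ : Type*} {F : Type u} [CommRing F] (δ : σ → F) : MvPolynomial σ F ≃ₐ[F] MvPolynomial σ F :=
  AlgEquiv.ofAlgHom (aeval fun i => X i + C (δ i)) (aeval fun i => X i - C (δ i))
    (algHom_ext fun i => by simp) (algHom_ext fun i => by simp)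

/-- Take a field k, an integral domain A that is a finitely generated k-algebra, n ≥ 2 and g_1, …, g_n ∈
A, and suppose some irreducible component of the common zero locus of g_1 and g_2 in Spec A has
dimension dim A − 2. Then for suitable c_1, …, c_n ∈ k the n + 2 elements x_1, …, x_n, Σ g_i x_i, Σ
c_i g_i of the rational function field Frac(A)(x_1, …, x_n) form an algebraically independent family
over k. -/
theorem result {k A : Type u} [Field k] [CommRing A] [IsDomain A] [Algebra k A]
    [Algebra.FiniteType k A] (m : ℕ) (g : Fin (m + 2) → A)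
    (p : Ideal A) (hp : p ∈ (Ideal.span {g 0, g 1}).minimalPrimes) (hdim : ringKrullDim (A ⧸ p) + 2 = ringKrullDim A) :
    ∃ c : Fin (m + 2) → k,
      AlgebraicIndependent k
        (Sum.elim
          (fun i : Fin (m + 2) => algebraMap (MvPolynomial (Fin (m + 2)) (FractionRing A)) (FractionRing (MvPolynomial (Fin (m + 2)) (FractionRing A))) (MvPolynomial.X i))
          ![∑ i, algebraMap A (FractionRing (MvPolynomial (Fin (m + 2)) (FractionRing A))) (g i) *
              algebraMap (MvPolynomial (Fin (m + 2)) (FractionRing A)) (FractionRing (MvPolynomial (Fin (m + 2)) (FractionRing A))) (MvPolynomial.X i),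
            algebraMap A (FractionRing (MvPolynomial (Fin (m + 2)) (FractionRing A))) (∑ i, c i • g i)]) := by
  classical
  let σ := Fin (m + 2)
  let F := FractionRing A
  let P := MvPolynomial σ F
  let K := FractionRing P
  refine ⟨Pi.single 0 1, ?_⟩
  have hsum : ∑ i, (Pi.single 0 1 : σ → k) i • g i = g 0 := by
    rw [Finset.sum_eq_single 0 (fun i _ hi => by simp [hi]) (by simp)]
    simp
  rw [hsum]
  let x : σ → K := fun i => algebraMap P K (X i)
  let G : σ → K := fun i => algebraMap F K (algebraMap A F (g i))
  have hG : ∀ i, algebraMap A K (g i) = G i := fun i => IsScalarTower.algebraMap_apply A F K _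
  have hxF : AlgebraicIndependent F x :=
    (algebraicIndependent_X σ F).map' (f := IsScalarTower.toAlgHom F P K) (IsFractionRing.injective P K)
  have hgF : AlgebraicIndependent k ![algebraMap A F (g 0), algebraMap A F (g 1)] := by
    have := (algebraicIndependent_of_codim_two (k := k) (g 0) (g 1) p hp hdim).map'
      (f := IsScalarTower.toAlgHom k A F) (IsFractionRing.injective A F)
    convert this using 1
    ext i; fin_cases i <;> rfl
  have hbase : AlgebraicIndependent k
      (Sum.elim x (algebraMap F K ∘ ![algebraMap A F (g 0), algebraMap A F (g 1)])) :=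
    AlgebraicIndependent.sumElim_comp hgF hxF
  let b : σ ⊕ Fin 1 → K := Sum.elim x fun _ => G 0
  have hb : AlgebraicIndependent k b := by
    have := hbase.comp (Sum.map id fun _ : Fin 1 => (0 : Fin 2))
      (Function.injective_id.sumMap fun _ _ _ => Subsingleton.elim _ _)
    convert this using 1
    ext (i | i) <;> rfl
  let E := adjoin k (Set.range b)
  have hg1 : Transcendental E (G 1) := by
    have := hbase.transcendental_adjoin (s := {Sum.inr 1}ᶜ) (i := Sum.inr 1) (by simp)
    rwa [show Sum.elim x (algebraMap F K ∘ ![algebraMap A F (g 0), algebraMap A F (g 1)]) ''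
      ({Sum.inr 1}ᶜ : Set (σ ⊕ Fin 2)) = Set.range b from by
      ext y
      constructor
      · rintro ⟨i | i, hi, rfl⟩
        · exact ⟨Sum.inl i, rfl⟩
        · fin_cases i
          · exact ⟨Sum.inr 0, rfl⟩
          · simp at hi
      · rintro ⟨i | i, rfl⟩
        · exact ⟨Sum.inl i, by simp, rfl⟩
        · exact ⟨Sum.inr 0, by simp, rfl⟩] at this
  let L : K := ∑ i, G i * x i
  let τ : K ≃ₐ[F] K := IsFractionRing.algEquivOfAlgEquiv (shift (Pi.single (1 : σ) (1 : F)))
  have hτ : ∀ i, τ (x i) = x i + algebraMap F K ((Pi.single (1 : σ) (1 : F) : σ → F) i) := fun i => by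
    show IsFractionRing.algEquivOfAlgEquiv _ (algebraMap P K (X i)) = _
    rw [IsFractionRing.algEquivOfAlgEquiv_algebraMap, IsScalarTower.algebraMap_apply F P K, ← map_add]
    simp [shift, P, MvPolynomial.algebraMap_eq]
  have hτL : τ L = L + G 1 := by
    simp only [L, map_sum, map_mul, hτ, mul_add, Finset.sum_add_distrib, G, AlgEquiv.commutes]
    congr 1
    rw [Finset.sum_eq_single 1 (fun i _ hi => by simp [hi]) (by simp)]
    simp
  have hL : Transcendental E L := fun halg => by
    let τk : K →ₐ[k] K := τ.toAlgHom.restrictScalars k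
    have hE : E ≤ E.comap τk := Algebra.adjoin_le fun y hy => by
      obtain ⟨i | i, rfl⟩ := hy
      · show τ (x i) ∈ E
        rw [hτ]
        refine add_mem (Algebra.subset_adjoin ⟨Sum.inl i, rfl⟩) ?_
        rcases eq_or_ne i 1 with rfl | hi
        · rw [Pi.single_eq_same, map_one]; exact one_mem _
        · rw [Pi.single_eq_of_ne hi, map_zero]; exact zero_mem _
      · show τ (G 0) ∈ E
        rw [AlgEquiv.commutes]
        exact Algebra.subset_adjoin ⟨Sum.inr 0, rfl⟩
    let τE : E →+* E := ((τk.comp E.val).codRestrict E fun e => hE e.2).toRingHom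
    have hτE : Function.Injective τE := fun e e' h => Subtype.ext (τ.injective (congrArg Subtype.val h))
    obtain ⟨Q, hQ, h0⟩ := halg
    refine hg1 ?_
    have : IsAlgebraic E (τ L) := ⟨Q.map τE, (Polynomial.map_ne_zero_iff hτE).2 hQ, by
      rw [Polynomial.aeval_def, Polynomial.eval₂_map]
      have := congrArg τ.toRingEquiv.toRingHom h0
      rw [Polynomial.aeval_def, Polynomial.hom_eval₂, map_zero] at this
      exact this⟩
    have h := this.sub ⟨Q, hQ, h0⟩
    rwa [hτL, add_sub_cancel_left] at h
  have hopt := (hb.option_iff_transcendental L).2 hL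
  have hfin := hopt.comp (Sum.elim (fun i => some (Sum.inl i)) ![none, some (Sum.inr 0)]) (by
    rintro (i | i) (j | j) h <;> (try fin_cases i) <;> (try fin_cases j) <;> simp_all)
  convert hfin using 1
  ext (i | i)
  · rfl
  · fin_cases i
    · simp [L, G]
      exact Finset.sum_congr rfl fun i _ => congrArg (fun z : K => z * x i) (hG i)
    · exact hG 0

end Groth.Agent.S7199
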