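import Groth.Statements.S7202
import Groth.Agent.CAlgH.ApproximationLocal
import Mathlib

set_option autoImplicit false
universe u
open FlatMor

namespace Groth.Agent.S7202

open scoped TensorProduct

open AlgebraicGeometry CategoryTheory IsLocalRing in
/-- Germs and `appLE`. -/
theorem germ_appLE {X Y : Scheme.{u}} (f : X ⟶ Y) (U : Y.Opens) (V : X.Opens) (h : V ≤ f ⁻¹ᵁ U) (x : X) (hx : x ∈ V) :
    f.appLE U V h ≫ X.presheaf.germ V x hx = Y.presheaf.germ U (f x) (h hx) ≫ f.stalkMap x := by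
  erw [Scheme.Hom.germ_stalkMap f U x (h hx)]
  rw [Scheme.Hom.appLE, Category.assoc, TopCat.Presheaf.germ_res]

open AlgebraicGeometry CategoryTheory in
/-- The image of a point under a map to an affine open given by a ring map. -/
theorem specMap_fromSpec_apply {X : Scheme.{u}} {V : X.Opens} (hV : IsAffineOpen V) {C' : CommRingCat.{u}}
    (a : Γ(X, V) ⟶ C') (v : Spec C') (x : V) (h : v.asIdeal.comap a.hom = (hV.primeIdealOf x).asIdeal) :
    (Spec.map a ≫ hV.fromSpec) v = x.1 := by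
  rw [Scheme.Hom.comp_apply, show Spec.map a v = hV.primeIdealOf x from PrimeSpectrum.ext h,
    hV.fromSpec_primeIdealOf]

open AlgebraicGeometry CategoryTheory in
/-- The stalk map of a map to an affine open given by a ring map. -/
theorem specMap_fromSpec_stalkMap {X : Scheme.{u}} {V : X.Opens} (hV : IsAffineOpen V) {C' : CommRingCat.{u}}
    (a : Γ(X, V) ⟶ C') (v : Spec C') (x : X) (hx : x ∈ V) (h : (Spec.map a ≫ hV.fromSpec) v = x) :
    X.presheaf.germ V x hx ≫ (X.presheaf.stalkCongr (Inseparable.of_eq h)).inv ≫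
        (Spec.map a ≫ hV.fromSpec).stalkMap v =
      a ≫ (Scheme.ΓSpecIso C').inv ≫ (Spec C').presheaf.germ ⊤ v trivial := by
  subst h
  simp only [TopCat.Presheaf.stalkCongr_inv, TopCat.Presheaf.stalkSpecializes_refl, Category.id_comp]
  apply Spec.map_injective
  rw [← cancel_mono hV.fromSpec, Spec.map_comp, Spec.map_comp, Category.assoc, Category.assoc]
  rw [show Spec.map (X.presheaf.germ V _ hx) ≫ hV.fromSpec = X.fromSpecStalk _ from
    hV.fromSpecStalk_eq_fromSpecStalk hx, Scheme.SpecMap_stalkMap_fromSpecStalk, Spec.fromSpecStalk_eq, Spec.map_comp]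

open AlgebraicGeometry CategoryTheory Limits in
/-- Let S be locally Noetherian, p : X → S and q : Y → S locally of finite type, x in X and y in Y over
the same point s of S with O_{S,s} a G-ring, and φ : O_{Y,y} → O_{X,x}^∧ a local O_{S,s}-algebra map
into the completion. For every N ≥ 1 there are an elementary étale neighbourhood e : (U, u) → (X, x)
(étale, e(u) = x, κ(x) = κ(u)) and an S-morphism f : U → Y with f(u) = y such that O_{Y,y} → O_{U,u}
(induced by f) and O_{Y,y} → O_{X,x}^∧ → O_{U,u}^∧ (φ followed by the map induced by e) agree modulo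
m_u^N; the last condition is written on the quotients by the N-th powers of the maximal ideals. -/
theorem result {X Y S : Scheme.{u}} [IsLocallyNoetherian S]
    (p : X ⟶ S) (q : Y ⟶ S) [LocallyOfFiniteType p] [LocallyOfFiniteType q] (x : X) (y : Y) (hxy : p x = q y)
    (hG : CAlg.IsGRing ↑(S.presheaf.stalk (p x)))
    (φ : ↑(Y.presheaf.stalk y) →+* (AdicCompletion (IsLocalRing.maximalIdeal ↑(X.presheaf.stalk x)) ↑(X.presheaf.stalk x)))
    (hφ : φ.comp ((q.stalkMap y).hom.comp (S.presheaf.stalkCongr (Inseparable.of_eq hxy)).hom.hom) =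
      (algebraMap ↑(X.presheaf.stalk x) (AdicCompletion (IsLocalRing.maximalIdeal ↑(X.presheaf.stalk x)) ↑(X.presheaf.stalk x))).comp (p.stalkMap x).hom)
    (hloc : ∀ b ∈ IsLocalRing.maximalIdeal ↑(Y.presheaf.stalk y),
      φ b ∈ (IsLocalRing.maximalIdeal ↑(X.presheaf.stalk x)).map (algebraMap ↑(X.presheaf.stalk x) (AdicCompletion (IsLocalRing.maximalIdeal ↑(X.presheaf.stalk x)) ↑(X.presheaf.stalk x))))
    (N : ℕ) (hN : 1 ≤ N) :
    ∃ (U : Scheme.{u}) (e : U ⟶ X) (u : U) (heu : e u = x) (f : U ⟶ Y) (hfu : f u = y),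
      Etale e ∧ Function.Bijective (e.residueFieldMap u) ∧ f ≫ q = e ≫ p ∧
      ∀ (b : ↑(Y.presheaf.stalk y)) (c : ↑(X.presheaf.stalk x)),
        AdicCompletion.evalₐ (IsLocalRing.maximalIdeal ↑(X.presheaf.stalk x)) N (φ b) =
          Ideal.Quotient.mk (IsLocalRing.maximalIdeal ↑(X.presheaf.stalk x) ^ N) c →
        Ideal.Quotient.mk (IsLocalRing.maximalIdeal ↑(U.presheaf.stalk u) ^ N)
            ((f.stalkMap u).hom ((Y.presheaf.stalkCongr (Inseparable.of_eq hfu)).inv.hom b)) =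
          Ideal.Quotient.mk (IsLocalRing.maximalIdeal ↑(U.presheaf.stalk u) ^ N)
            ((e.stalkMap u).hom ((X.presheaf.stalkCongr (Inseparable.of_eq heu)).inv.hom c)) := by

  classical
  let R : Type u := ↑(X.presheaf.stalk x)
  let m := IsLocalRing.maximalIdeal R
  obtain ⟨_, ⟨S₀, hS₀, rfl⟩, hsS₀, -⟩ := S.isBasis_affineOpens.exists_subset_of_mem_open
    (Set.mem_univ (p x)) isOpen_univ
  obtain ⟨_, ⟨X₀, hX₀, rfl⟩, hxX₀, hXS⟩ := X.isBasis_affineOpens.exists_subset_of_mem_open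
    (show x ∈ p ⁻¹ᵁ S₀ from hsS₀) (p ⁻¹ᵁ S₀).2
  obtain ⟨_, ⟨Y₀, hY₀, rfl⟩, hyY₀, hYS⟩ := Y.isBasis_affineOpens.exists_subset_of_mem_open
    (show y ∈ q ⁻¹ᵁ S₀ by show q y ∈ S₀; rw [← hxy]; exact hsS₀) (q ⁻¹ᵁ S₀).2
  haveI : IsLocallyNoetherian X := LocallyOfFiniteType.isLocallyNoetherian p
  haveI : IsNoetherianRing Γ(X, X₀) := IsLocallyNoetherian.component_noetherian ⟨X₀, hX₀⟩
  haveI : IsNoetherianRing R := inferInstanceAs (IsNoetherianRing (X.presheaf.stalk x))
  have hR : CAlg.IsGRing R := by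
    letI := (p.stalkMap x).hom.toAlgebra
    haveI : Algebra.EssFiniteType ↑(S.presheaf.stalk (p x)) R :=
      RingHom.essFiniteType_algebraMap.1 (LocallyOfFiniteType.stalkMap p x)
    exact _root_.Groth.Agent.CAlgH.ApproximationLocal.isGRing_of_essFiniteType hG
  letI algXR : Algebra Γ(X, X₀) R := (X.presheaf.germ X₀ x hxX₀).hom.toAlgebra
  letI algYy : Algebra Γ(Y, Y₀) ↑(Y.presheaf.stalk y) := (Y.presheaf.germ Y₀ y hyY₀).hom.toAlgebra
  haveI : IsLocalization.AtPrime R (hX₀.primeIdealOf ⟨x, hxX₀⟩).asIdeal :=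
    hX₀.isLocalization_stalk ⟨x, hxX₀⟩
  haveI : IsLocalization.AtPrime ↑(Y.presheaf.stalk y) (hY₀.primeIdealOf ⟨y, hyY₀⟩).asIdeal :=
    hY₀.isLocalization_stalk ⟨y, hyY₀⟩
  let Py := (hY₀.primeIdealOf ⟨y, hyY₀⟩).asIdeal
  letI : Algebra Γ(S, S₀) Γ(X, X₀) := (p.appLE S₀ X₀ hXS).hom.toAlgebra
  letI : Algebra Γ(S, S₀) Γ(Y, Y₀) := (q.appLE S₀ Y₀ hYS).hom.toAlgebra
  haveI : Algebra.FiniteType Γ(S, S₀) Γ(Y, Y₀) := q.finiteType_appLE hS₀ hY₀ hYS
  let T := AdicCompletion m R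
  letI : Algebra Γ(S, S₀) T := ((algebraMap Γ(X, X₀) T).comp (algebraMap Γ(S, S₀) Γ(X, X₀))).toAlgebra
  haveI : IsScalarTower Γ(S, S₀) Γ(X, X₀) T := IsScalarTower.of_algebraMap_eq fun _ => rfl
  have hcompat : ∀ a, φ (Y.presheaf.germ Y₀ y hyY₀ (q.appLE S₀ Y₀ hYS a)) = algebraMap Γ(S, S₀) T a := by
    intro a
    rw [← CommRingCat.comp_apply, germ_appLE q S₀ Y₀ hYS y hyY₀, CommRingCat.comp_apply]
    have h1 : S.presheaf.germ S₀ (q y) (hYS hyY₀) a =
        (S.presheaf.stalkCongr (Inseparable.of_eq hxy)).hom (S.presheaf.germ S₀ (p x) hsS₀ a) := by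
      exact (congr($(TopCat.Presheaf.germ_stalkSpecializes S.presheaf hsS₀
        (show q y ⤳ p x from (Inseparable.of_eq hxy).ge)) a)).symm
    rw [h1]
    refine (RingHom.congr_fun hφ (S.presheaf.germ S₀ (p x) hsS₀ a)).trans ?_
    show algebraMap R T (p.stalkMap x (S.presheaf.germ S₀ (p x) hsS₀ a)) =
      algebraMap Γ(X, X₀) T (p.appLE S₀ X₀ hXS a)
    rw [IsScalarTower.algebraMap_apply Γ(X, X₀) R T]
    refine congrArg _ ?_
    show _ = X.presheaf.germ X₀ x hxX₀ (p.appLE S₀ X₀ hXS a)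
    rw [← CommRingCat.comp_apply, ← CommRingCat.comp_apply, germ_appLE p S₀ X₀ hXS x hxX₀]
  let β : Γ(Y, Y₀) →ₐ[Γ(S, S₀)] T :=
    { φ.comp (Y.presheaf.germ Y₀ y hyY₀).hom with commutes' := hcompat }
  haveI : Algebra.FinitePresentation Γ(X, X₀) (Γ(X, X₀) ⊗[Γ(S, S₀)] Γ(Y, Y₀)) :=
    Algebra.FinitePresentation.of_finiteType.1 inferInstance
  let φ' : Γ(X, X₀) ⊗[Γ(S, S₀)] Γ(Y, Y₀) →ₐ[Γ(X, X₀)] T :=
    Algebra.TensorProduct.lift (Algebra.ofId _ T) β fun _ _ => Commute.all _ _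
  obtain ⟨C', _, _, hC', γ, Q, hQ, hQp, hmain⟩ :=
    _root_.Groth.Agent.CAlgH.ApproximationLocal.exists_etale_local
      (hX₀.primeIdealOf ⟨x, hxX₀⟩).asIdeal hR φ' N
  let u : ↑(Spec (CommRingCat.of C')) := ⟨Q, hQ⟩
  let aX : Γ(X, X₀) ⟶ CommRingCat.of C' := CommRingCat.ofHom (algebraMap Γ(X, X₀) C')
  let aY : Γ(Y, Y₀) ⟶ CommRingCat.of C' :=
    CommRingCat.ofHom (γ.toRingHom.comp Algebra.TensorProduct.includeRight.toRingHom)
  let e := Spec.map aX ≫ hX₀.fromSpec
  let f := Spec.map aY ≫ hY₀.fromSpec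
  have heu : e u = x := specMap_fromSpec_apply hX₀ aX u ⟨x, hxX₀⟩ hQp
  let R' : Type u := ↑((Spec (CommRingCat.of C')).presheaf.stalk u)
  let toSt := (Scheme.ΓSpecIso (CommRingCat.of C')).inv ≫ (Spec (CommRingCat.of C')).presheaf.germ ⊤ u trivial
  letI algR' : Algebra C' R' := toSt.hom.toAlgebra
  haveI : IsLocalization.AtPrime R' Q := StructureSheaf.IsLocalization.to_stalk (R := C') u
  let ι : R →+* R' := ((X.presheaf.stalkCongr (Inseparable.of_eq heu)).inv ≫ e.stalkMap u).hom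
  obtain ⟨hres, happ⟩ := hmain R' ι
    (congrArg CommRingCat.Hom.hom (specMap_fromSpec_stalkMap hX₀ aX u x hxX₀ heu))
  have hmT : IsLocalRing.maximalIdeal T = m.map (algebraMap R T) := AdicCompletion.maximalIdeal_eq_map
  -- the basic approximation for sections of `Y₀`
  have key : ∀ (b : Γ(Y, Y₀)) (c : R),
      AdicCompletion.evalₐ m N (φ (algebraMap Γ(Y, Y₀) _ b)) = Ideal.Quotient.mk (m ^ N) c →
        algebraMap C' R' (aY b) - ι c ∈ IsLocalRing.maximalIdeal R' ^ N := by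
    intro b c hc
    refine happ (Algebra.TensorProduct.includeRight b) c ?_
    show AdicCompletion.evalₐ m N (φ' ((1 : Γ(X, X₀)) ⊗ₜ b)) = _
    rw [Algebra.TensorProduct.lift_tmul, map_one, one_mul]
    exact hc
  have hNle : IsLocalRing.maximalIdeal R' ^ N ≤ IsLocalRing.maximalIdeal R' :=
    Ideal.pow_le_self (by omega)
  have hιloc : ∀ c, ι c ∈ IsLocalRing.maximalIdeal R' ↔ c ∈ m := by
    intro c
    haveI : IsLocalHom ι := by
      refine ⟨fun a ha => ?_⟩
      have ha' : IsUnit ((X.presheaf.stalkCongr (Inseparable.of_eq heu)).inv.hom a) :=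
        IsLocalHom.map_nonunit (f := (e.stalkMap u).hom) _ ha
      have := ha'.map (X.presheaf.stalkCongr (Inseparable.of_eq heu)).hom.hom
      rwa [← CommRingCat.comp_apply, Iso.inv_hom_id, CommRingCat.id_apply] at this
    simp only [IsLocalRing.mem_maximalIdeal, mem_nonunits_iff]
    exact not_congr (isUnit_map_iff ι c)
  have hfu : f u = y := by
    refine specMap_fromSpec_apply hY₀ aY u ⟨y, hyY₀⟩ (Ideal.ext fun b => ?_)
    obtain ⟨c, hc⟩ := Ideal.Quotient.mk_surjective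
      (AdicCompletion.evalₐ m N (φ (algebraMap Γ(Y, Y₀) _ b)))
    have h1 := hNle (key b c hc.symm)
    have h2 : φ (algebraMap Γ(Y, Y₀) _ b) - algebraMap R T c ∈ IsLocalRing.maximalIdeal T := by
      rw [hmT]
      refine Ideal.map_mono (Ideal.pow_le_self (show N ≠ 0 by omega))
        (_root_.Groth.Agent.CAlgH.Approximation.mem_map_pow m.fg_of_isNoetherianRing ?_)
      rw [map_sub, AlgHom.commutes, ← hc]
      exact sub_self _
    have hc2 : algebraMap R T c ∈ IsLocalRing.maximalIdeal T ↔ c ∈ m := by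
      refine ⟨fun h => by_contra fun hn => (IsLocalRing.mem_maximalIdeal _).1 h
        ((not_not.1 fun hu => hn ((IsLocalRing.mem_maximalIdeal c).2 hu) : IsUnit c).map (algebraMap R T)), fun h => hmT ▸ Ideal.mem_map_of_mem _ h⟩
    rw [Ideal.mem_comap, ← IsLocalization.AtPrime.to_map_mem_maximal_iff R' Q (aY b),
      ← IsLocalization.AtPrime.to_map_mem_maximal_iff ↑(Y.presheaf.stalk y) Py b]
    calc algebraMap C' R' (aY b) ∈ IsLocalRing.maximalIdeal R' ↔ ι c ∈ IsLocalRing.maximalIdeal R' :=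
          ⟨fun h => by have := sub_mem h h1; rwa [sub_sub_cancel] at this,
            fun h => by have := add_mem h1 h; rwa [sub_add_cancel] at this⟩
      _ ↔ algebraMap R T c ∈ IsLocalRing.maximalIdeal T := (hιloc c).trans hc2.symm
      _ ↔ φ (algebraMap Γ(Y, Y₀) _ b) ∈ IsLocalRing.maximalIdeal T :=
          ⟨fun h => by have := add_mem h2 h; rwa [sub_add_cancel] at this,
            fun h => by have := sub_mem h h2; rwa [sub_sub_cancel] at this⟩
      _ ↔ algebraMap Γ(Y, Y₀) ↑(Y.presheaf.stalk y) b ∈ IsLocalRing.maximalIdeal _ :=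
          ⟨fun h => by_contra fun hn => (IsLocalRing.mem_maximalIdeal _).1 h
            ((not_not.1 fun hu => hn ((IsLocalRing.mem_maximalIdeal _).2 hu) : IsUnit _).map φ),
            fun h => hmT ▸ hloc _ h⟩
  haveI : Algebra.Etale Γ(X, X₀) C' := hC'
  haveI : Etale (Spec.map aX) := (HasRingHomProperty.Spec_iff (P := @Etale)).2
    (RingHom.etale_algebraMap.2 hC')
  haveI : IsOpenImmersion hX₀.fromSpec := hX₀.isOpenImmersion_fromSpec
  haveI : Etale hX₀.fromSpec := inferInstance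
  haveI : Etale e := inferInstanceAs (Etale (Spec.map aX ≫ hX₀.fromSpec))
  have hef : f ≫ q = e ≫ p := by
    simp only [e, f, Category.assoc, ← IsAffineOpen.SpecMap_appLE_fromSpec q hS₀ hY₀ hYS,
      ← IsAffineOpen.SpecMap_appLE_fromSpec p hS₀ hX₀ hXS, ← Spec.map_comp_assoc]
    refine congrArg (fun g => Spec.map g ≫ hS₀.fromSpec) (CommRingCat.hom_ext (RingHom.ext fun a => ?_))
    show γ ((1 : Γ(X, X₀)) ⊗ₜ (algebraMap Γ(S, S₀) Γ(Y, Y₀) a)) =
      algebraMap Γ(X, X₀) C' (algebraMap Γ(S, S₀) Γ(X, X₀) a)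
    rw [← Algebra.TensorProduct.tmul_one_eq_one_tmul]
    exact γ.commutes _
  refine ⟨Spec (CommRingCat.of C'), e, u, heu, f, hfu, inferInstance,
    ⟨(e.residueFieldMap u).hom.injective, fun z => ?_⟩, hef, fun b c hbc => ?_⟩
  · obtain ⟨w, rfl⟩ := (Spec (CommRingCat.of C')).residue_surjective u z
    obtain ⟨r, hr⟩ := hres w
    refine ⟨X.residue (e u) ((X.presheaf.stalkCongr (Inseparable.of_eq heu)).inv r), ?_⟩
    rw [← CommRingCat.comp_apply, Scheme.residue_residueFieldMap, CommRingCat.comp_apply]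
    exact (Ideal.Quotient.eq.2 hr).symm
  · obtain ⟨⟨a, s⟩, has⟩ := IsLocalization.surj Py.primeCompl b
    obtain ⟨cs, hcs⟩ := Ideal.Quotient.mk_surjective
      (AdicCompletion.evalₐ m N (φ (algebraMap Γ(Y, Y₀) _ s.1)))
    have hca : AdicCompletion.evalₐ m N (φ (algebraMap Γ(Y, Y₀) _ a)) = Ideal.Quotient.mk (m ^ N) (c * cs) := by
      rw [← has, map_mul, map_mul, map_mul, hbc, hcs]
    have hs := key s.1 cs hcs.symm
    have ha := key a (c * cs) hca
    rw [map_mul] at ha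
    let fst : ↑(Y.presheaf.stalk y) →+* R' :=
      ((Y.presheaf.stalkCongr (Inseparable.of_eq hfu)).inv ≫ f.stalkMap u).hom
    have hf : ∀ b₀, fst (algebraMap Γ(Y, Y₀) _ b₀) = algebraMap C' R' (aY b₀) := fun b₀ =>
      congr($(congrArg CommRingCat.Hom.hom (specMap_fromSpec_stalkMap hY₀ aY u y hyY₀ hfu)) b₀)
    have hu : IsUnit (algebraMap C' R' (aY s.1)) := by
      rw [← hf]
      exact (IsLocalization.map_units _ s).map fst
    refine Ideal.Quotient.eq.2 ?_
    show fst b - ι c ∈ _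
    rw [← Ideal.mul_unit_mem_iff_mem _ hu, show (fst b - ι c) * algebraMap C' R' (aY s.1) =
      (algebraMap C' R' (aY a) - ι c * ι cs) - ι c * (algebraMap C' R' (aY s.1) - ι cs) by
      rw [← hf a, ← has, map_mul, hf]; ring]
    exact sub_mem ha (Ideal.mul_mem_left _ _ hs)

end Groth.Agent.S7202
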