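import Groth.Statements.S7201
import Groth.Agent.CAlgH.Approximation
import Groth.Agent.CAlgH.EtaleApprox
import Groth.Agent.S7202
import Mathlib
-- import your own Groth.Agent.* helpers here

set_option autoImplicit false
set_option maxHeartbeats 1000000
set_option backward.isDefEq.respectTransparency.types false
universe u
open FlatMor

namespace Groth.Agent.S7201

open IsLocalRing MvPolynomial in
/-- An algebra of finite type pinning the values of generators modulo `P ^ N`. -/
theorem exists_pinning {A R B : Type u} [CommRing A] [IsNoetherianRing A] [CommRing R] [IsLocalRing R]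
    [IsNoetherianRing R] [Algebra A R] (P : Ideal A) [P.IsPrime] [IsLocalization.AtPrime R P]
    [CommRing B] [Algebra A B] [Algebra.FiniteType A B] (s : B →ₐ[A] AdicCompletion (maximalIdeal R) R) (N : ℕ) :
    ∃ (B' : Type u) (_ : CommRing B') (_ : Algebra B B'), Algebra.FiniteType B B' ∧
      ∃ s' : B' →+* AdicCompletion (maximalIdeal R) R, s'.comp (algebraMap B B') = s.toRingHom ∧
        ∀ (s₁ : B →ₐ[A] AdicCompletion (maximalIdeal R) R) (s₁' : B' →+* AdicCompletion (maximalIdeal R) R),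
          s₁'.comp (algebraMap B B') = s₁.toRingHom →
          ∀ b, s b - s₁ b ∈ (maximalIdeal R ^ N).map (algebraMap R (AdicCompletion (maximalIdeal R) R)) := by
  classical
  let H := AdicCompletion (maximalIdeal R) R
  let J := (maximalIdeal R ^ N).map (algebraMap R H)
  have hJ : J = (P ^ N).map (algebraMap A H) := by
    rw [IsScalarTower.algebraMap_eq A R H, ← Ideal.map_map, Ideal.map_pow _ P, IsLocalization.AtPrime.map_eq_maximalIdeal P R]
  obtain ⟨μs, hμ⟩ := (P ^ N).fg_of_isNoetherianRing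
  obtain ⟨gs, hgs⟩ := Algebra.FiniteType.out (R := A) (A := B)
  have happrox : ∀ b : gs, ∃ (a : A) (σ : P.primeCompl) (c : μs → H),
      algebraMap A H σ * s b - algebraMap A H a = ∑ μ : μs, c μ * algebraMap A H μ := by
    intro b
    obtain ⟨r, hr⟩ := Ideal.Quotient.mk_surjective (AdicCompletion.evalₐ (maximalIdeal R) N (s b))
    have h1 : s b - algebraMap R H r ∈ J := by
      refine _root_.Groth.Agent.CAlgH.Approximation.mem_map_pow (maximalIdeal R).fg_of_isNoetherianRing ?_
      rw [map_sub, AlgHom.commutes, ← hr]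
      exact sub_self _
    obtain ⟨⟨a, σ⟩, hσ⟩ := IsLocalization.surj P.primeCompl r
    have h2 : algebraMap A H σ * s b - algebraMap A H a ∈ Ideal.span ((algebraMap A H) '' (μs : Set A)) := by
      rw [← Ideal.map_span, show Ideal.span (μs : Set A) = P ^ N from hμ, ← hJ, IsScalarTower.algebraMap_apply A R H,
        IsScalarTower.algebraMap_apply A R H a, ← hσ, map_mul, mul_comm (algebraMap R H r), ← mul_sub]
      exact Ideal.mul_mem_left _ _ h1
    rw [show (algebraMap A H) '' (μs : Set A) = Set.range (fun μ : μs => algebraMap A H μ) by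
      ext; simp [eq_comm]] at h2
    obtain ⟨c, hc⟩ := Ideal.mem_span_range_iff_exists_fun.1 h2
    exact ⟨a, σ, c, hc.symm⟩
  choose a σ c hc using happrox
  let rel : gs → MvPolynomial (gs × μs) B := fun b =>
    C (algebraMap A B (σ b) * b - algebraMap A B (a b)) - ∑ μ : μs, X (b, μ) * C (algebraMap A B μ)
  let I := Ideal.span (Set.range rel)
  let ev : MvPolynomial (gs × μs) B →+* H := eval₂Hom s.toRingHom fun bμ => c bμ.1 bμ.2
  have hev : ∀ f ∈ I, ev f = 0 := by
    intro f hf
    refine (Ideal.span_le.2 ?_ : I ≤ RingHom.ker ev) hf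
    rintro _ ⟨b, rfl⟩
    rw [SetLike.mem_coe, RingHom.mem_ker]
    simp only [rel, ev, map_sub, map_sum, map_mul, eval₂Hom_X', eval₂Hom_C, AlgHom.toRingHom_eq_coe,
      RingHom.coe_coe, AlgHom.commutes]
    rw [hc, sub_self]
  refine ⟨MvPolynomial (gs × μs) B ⧸ I, inferInstance, inferInstance, inferInstance, Ideal.Quotient.lift I ev hev,
    RingHom.ext fun b => ?_, fun s₁ s₁' hs₁ => ?_⟩
  · show ev (C b) = s b
    simp [ev]
  · have hgen : ∀ b : gs, s b - s₁ b ∈ J := by
      intro b
      have h0 : s₁' (Ideal.Quotient.mk I (rel b)) = 0 := by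
        rw [Ideal.Quotient.eq_zero_iff_mem.2 (Ideal.subset_span (Set.mem_range_self b)), map_zero]
      have hC : ∀ z : B, s₁' (Ideal.Quotient.mk I (C z)) = s₁ z := fun z => RingHom.congr_fun hs₁ z
      simp only [rel, map_sub, map_sum, map_mul, hC, AlgHom.commutes] at h0
      have h1 : algebraMap A H (σ b) * s₁ b - algebraMap A H (a b) ∈ J := by
        rw [sub_eq_zero.1 h0, hJ]
        exact sum_mem fun μ _ => Ideal.mul_mem_left _ _ (Ideal.mem_map_of_mem _ (hμ ▸ Ideal.subset_span μ.2))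
      have h2 : algebraMap A H (σ b) * s b - algebraMap A H (a b) ∈ J := by
        rw [hc, hJ]
        exact sum_mem fun μ _ => Ideal.mul_mem_left _ _ (Ideal.mem_map_of_mem _ (hμ ▸ Ideal.subset_span μ.2))
      have h3 : algebraMap A H (σ b) * (s b - s₁ b) ∈ J := by
        convert sub_mem h2 h1 using 1; ring
      exact (Ideal.unit_mul_mem_iff_mem _ (by
        rw [IsScalarTower.algebraMap_apply A R H]
        exact (IsLocalization.map_units R (σ b)).map _)).1 h3
    intro b
    rw [← Ideal.Quotient.eq]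
    have heq : (Ideal.Quotient.mkₐ A J).comp s = (Ideal.Quotient.mkₐ A J).comp s₁ :=
      AlgHom.ext_of_adjoin_eq_top hgs fun z hz => Ideal.Quotient.eq.2 (hgen ⟨z, hz⟩)
    exact DFunLike.congr_fun heq b

open AlgebraicGeometry CategoryTheory Limits in
/-- Let h : T → S be a morphism of finite type between Noetherian schemes, t a point of T with image s,
and σ : O_{T,t} → O_{S,s}^∧ a local O_{S,s}-algebra map to the completion. For every N ≥ 1 there is
a morphism of finite type g : T' → T and a point t' over t such that σ factors through O_{T,t} →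
O_{T',t'}, and any local O_{S,s}-algebra map σ' : O_{T,t} → O_{S,s}^∧ factoring through O_{T,t} →
O_{T',t'} agrees with σ modulo m_s^N. -/
theorem result {T S : Scheme.{u}} [IsNoetherian T] [IsNoetherian S]
    (h : T ⟶ S) [LocallyOfFiniteType h] [QuasiCompact h] (t : T)
    (σ : ↑(T.presheaf.stalk t) →+* (AdicCompletion (IsLocalRing.maximalIdeal ↑(S.presheaf.stalk (h t))) ↑(S.presheaf.stalk (h t))))
    (hσ : σ.comp (h.stalkMap t).hom = algebraMap ↑(S.presheaf.stalk (h t)) (AdicCompletion (IsLocalRing.maximalIdeal ↑(S.presheaf.stalk (h t))) ↑(S.presheaf.stalk (h t))))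
    (hloc : ∀ a ∈ IsLocalRing.maximalIdeal ↑(T.presheaf.stalk t),
      σ a ∈ (IsLocalRing.maximalIdeal ↑(S.presheaf.stalk (h t))).map (algebraMap ↑(S.presheaf.stalk (h t)) (AdicCompletion (IsLocalRing.maximalIdeal ↑(S.presheaf.stalk (h t))) ↑(S.presheaf.stalk (h t)))))
    (N : ℕ) (hN : 1 ≤ N) :
    ∃ (T' : Scheme.{u}) (g : T' ⟶ T) (t' : T') (hg : g t' = t) (τ : ↑(T'.presheaf.stalk t') →+* (AdicCompletion (IsLocalRing.maximalIdeal ↑(S.presheaf.stalk (h t))) ↑(S.presheaf.stalk (h t)))),
      LocallyOfFiniteType g ∧ QuasiCompact g ∧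
      τ.comp ((g.stalkMap t').hom.comp (T.presheaf.stalkCongr (Inseparable.of_eq hg)).inv.hom) = σ ∧
      ∀ (σ' : ↑(T.presheaf.stalk t) →+* (AdicCompletion (IsLocalRing.maximalIdeal ↑(S.presheaf.stalk (h t))) ↑(S.presheaf.stalk (h t)))),
        σ'.comp (h.stalkMap t).hom = algebraMap ↑(S.presheaf.stalk (h t)) (AdicCompletion (IsLocalRing.maximalIdeal ↑(S.presheaf.stalk (h t))) ↑(S.presheaf.stalk (h t))) →
        (∀ a ∈ IsLocalRing.maximalIdeal ↑(T.presheaf.stalk t),
          σ' a ∈ (IsLocalRing.maximalIdeal ↑(S.presheaf.stalk (h t))).map (algebraMap ↑(S.presheaf.stalk (h t)) (AdicCompletion (IsLocalRing.maximalIdeal ↑(S.presheaf.stalk (h t))) ↑(S.presheaf.stalk (h t))))) →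
        (∃ τ' : ↑(T'.presheaf.stalk t') →+* (AdicCompletion (IsLocalRing.maximalIdeal ↑(S.presheaf.stalk (h t))) ↑(S.presheaf.stalk (h t))),
          τ'.comp ((g.stalkMap t').hom.comp (T.presheaf.stalkCongr (Inseparable.of_eq hg)).inv.hom) = σ') →
        ∀ a : ↑(T.presheaf.stalk t), σ a - σ' a ∈ (IsLocalRing.maximalIdeal ↑(S.presheaf.stalk (h t)) ^ N).map (algebraMap ↑(S.presheaf.stalk (h t)) (AdicCompletion (IsLocalRing.maximalIdeal ↑(S.presheaf.stalk (h t))) ↑(S.presheaf.stalk (h t)))) := by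
  classical
  let R : Type u := ↑(S.presheaf.stalk (h t))
  haveI : IsNoetherianRing R := inferInstanceAs (IsNoetherianRing (S.presheaf.stalk (h t)))
  let H : Type u := AdicCompletion (IsLocalRing.maximalIdeal R) R
  obtain ⟨_, ⟨S₀, hS₀, rfl⟩, hsS₀, -⟩ := S.isBasis_affineOpens.exists_subset_of_mem_open
    (Set.mem_univ (h t)) isOpen_univ
  obtain ⟨_, ⟨T₀, hT₀, rfl⟩, htT₀, hTS⟩ := T.isBasis_affineOpens.exists_subset_of_mem_open
    (show t ∈ h ⁻¹ᵁ S₀ from hsS₀) (h ⁻¹ᵁ S₀).2
  let A : Type u := ↑Γ(S, S₀)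
  let B : Type u := ↑Γ(T, T₀)
  haveI : IsNoetherianRing A := IsLocallyNoetherian.component_noetherian ⟨S₀, hS₀⟩
  letI algAR : Algebra A R := (S.presheaf.germ S₀ (h t) hsS₀).hom.toAlgebra
  let P := (hS₀.primeIdealOf ⟨h t, hsS₀⟩).asIdeal
  haveI : IsLocalization.AtPrime R P := hS₀.isLocalization_stalk ⟨h t, hsS₀⟩
  letI algAB : Algebra A B := (h.appLE S₀ T₀ hTS).hom.toAlgebra
  haveI : Algebra.FiniteType A B := h.finiteType_appLE hS₀ hT₀ hTS
  let Ot : Type u := ↑(T.presheaf.stalk t)
  letI algBO : Algebra B Ot := (T.presheaf.germ T₀ t htT₀).hom.toAlgebra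
  let Pt := (hT₀.primeIdealOf ⟨t, htT₀⟩).asIdeal
  haveI : IsLocalization.AtPrime Ot Pt := hT₀.isLocalization_stalk ⟨t, htT₀⟩
  haveI : IsLocalRing H := inferInstance
  let toAlg : ∀ f : Ot →+* H, f.comp (h.stalkMap t).hom = algebraMap R H → (B →ₐ[A] H) := fun f hf =>
    { f.comp (algebraMap B Ot) with
      commutes' := fun a => by
        show f (T.presheaf.germ T₀ t htT₀ (h.appLE S₀ T₀ hTS a)) = _
        rw [← CommRingCat.comp_apply, Groth.Agent.S7202.germ_appLE h S₀ T₀ hTS t htT₀]
        exact RingHom.congr_fun hf _ }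
  obtain ⟨B', _, _, hB', s', hs', hpin⟩ := exists_pinning P (toAlg σ hσ) N
  let t' : ↑(Spec (CommRingCat.of B')) := ⟨(IsLocalRing.maximalIdeal H).comap s', Ideal.IsPrime.comap _⟩
  let g : Spec (CommRingCat.of B') ⟶ T := Spec.map (CommRingCat.ofHom (algebraMap B B')) ≫ hT₀.fromSpec
  have hσm : ∀ a, σ a ∈ IsLocalRing.maximalIdeal H ↔ a ∈ IsLocalRing.maximalIdeal Ot := fun a =>
    ⟨fun ha => by_contra fun hn => (IsLocalRing.mem_maximalIdeal _).1 ha
      ((not_not.1 fun hu => hn ((IsLocalRing.mem_maximalIdeal a).2 hu) : IsUnit a).map σ),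
     fun ha => by rw [AdicCompletion.maximalIdeal_eq_map]; exact hloc a ha⟩
  have hg : g t' = t := Groth.Agent.S7202.specMap_fromSpec_apply hT₀ _ t' ⟨t, htT₀⟩ (Ideal.ext fun b => by
    show s' (algebraMap B B' b) ∈ IsLocalRing.maximalIdeal H ↔ b ∈ Pt
    rw [← IsLocalization.AtPrime.to_map_mem_maximal_iff Ot Pt, show s' (algebraMap B B' b) = σ (algebraMap B Ot b) from
      RingHom.congr_fun hs' b, hσm])
  let O' : Type u := ↑((Spec (CommRingCat.of B')).presheaf.stalk t')
  let toSt := (Scheme.ΓSpecIso (CommRingCat.of B')).inv ≫ (Spec (CommRingCat.of B')).presheaf.germ ⊤ t' trivial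
  letI algB'O : Algebra B' O' := toSt.hom.toAlgebra
  haveI : IsLocalization.AtPrime O' t'.asIdeal := StructureSheaf.IsLocalization.to_stalk (R := B') t'
  let τ : O' →+* H := IsLocalization.lift (M := t'.asIdeal.primeCompl) (g := s') fun z => by
    by_contra hu
    exact z.2 ((IsLocalRing.mem_maximalIdeal _).2 hu)
  let ι : Ot →+* O' := (g.stalkMap t').hom.comp (T.presheaf.stalkCongr (Inseparable.of_eq hg)).inv.hom
  have hιB : ∀ b : B, ι (algebraMap B Ot b) = algebraMap B' O' (algebraMap B B' b) := fun b =>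
    congr($(Groth.Agent.S7202.specMap_fromSpec_stalkMap hT₀ (CommRingCat.ofHom (algebraMap B B')) t' t htT₀ hg) b)
  haveI : LocallyOfFiniteType (Spec.map (CommRingCat.ofHom (algebraMap B B'))) :=
    (HasRingHomProperty.Spec_iff (P := @LocallyOfFiniteType)).2 (RingHom.finiteType_algebraMap.2 hB')
  haveI : IsOpenImmersion hT₀.fromSpec := hT₀.isOpenImmersion_fromSpec
  refine ⟨Spec (CommRingCat.of B'), g, t', hg, τ,
    inferInstanceAs (LocallyOfFiniteType (Spec.map (CommRingCat.ofHom (algebraMap B B')) ≫ hT₀.fromSpec)),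
    quasiCompact_of_compactSpace g, ?_, ?_⟩
  · refine IsLocalization.ringHom_ext Pt.primeCompl (RingHom.ext fun b => ?_)
    show τ (ι (algebraMap B Ot b)) = σ (algebraMap B Ot b)
    rw [hιB, IsLocalization.lift_eq]
    exact RingHom.congr_fun hs' b
  · rintro σ' hσ' - ⟨τ', hτ'⟩
    have key := hpin (toAlg σ' hσ') (τ'.comp (algebraMap B' O')) (RingHom.ext fun b => by
      show τ' (algebraMap B' O' (algebraMap B B' b)) = σ' (algebraMap B Ot b)
      rw [← hιB]
      exact RingHom.congr_fun hτ' _)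
    let J := (IsLocalRing.maximalIdeal R ^ N).map (algebraMap R H)
    have h1 : (Ideal.Quotient.mk J).comp σ = (Ideal.Quotient.mk J).comp σ' :=
      IsLocalization.ringHom_ext Pt.primeCompl (RingHom.ext fun b => Ideal.Quotient.eq.2 (key b))
    exact fun a => Ideal.Quotient.eq.1 (RingHom.congr_fun h1 a)

end Groth.Agent.S7201
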