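import Groth.Statements.S7203
import Groth.Agent.CAlgH.EtaleOfCompletionIso
import Groth.Agent.FlatLocal.StalkCrit
import Groth.Agent.S7202
import Mathlib

set_option autoImplicit false
universe u
open FlatMor

namespace Groth.Agent.S7203

open IsLocalRing in
/-- Local maps respect congruences. -/
theorem sub_mem_pow {R T : Type u} [CommRing R] [IsLocalRing R] [CommRing T] [IsLocalRing T] (h : R →+* T) [IsLocalHom h]
    (N : ℕ) {a b : R} (hab : a - b ∈ maximalIdeal R ^ N) : h a - h b ∈ maximalIdeal T ^ N := by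
  have h1 := Ideal.mem_map_of_mem h hab
  rw [Ideal.map_pow, map_sub] at h1
  exact Ideal.pow_right_mono (IsLocalRing.map_maximalIdeal_le h) N h1

open AlgebraicGeometry CategoryTheory IsLocalRing in
/-- The stalk map of a morphism read at a prescribed image point. -/
theorem stalk_data {U X : Scheme.{u}} (e : U ⟶ X) (v : U) (x : X) (h : e v = x) :
    ∀ ι : ↑(X.presheaf.stalk x) →+* ↑(U.presheaf.stalk v),
      ι = ((X.presheaf.stalkCongr (Inseparable.of_eq h)).inv ≫ e.stalkMap v).hom →
      IsLocalHom ι ∧ ((maximalIdeal ↑(X.presheaf.stalk x)).map ι =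
        (maximalIdeal ↑(X.presheaf.stalk (e v))).map (e.stalkMap v).hom) ∧
      (ι.Flat ↔ (e.stalkMap v).hom.Flat) ∧
      ∀ z, (∃ a, z - ι a ∈ maximalIdeal ↑(U.presheaf.stalk v)) ↔
        ∃ a, z - (e.stalkMap v).hom a ∈ maximalIdeal ↑(U.presheaf.stalk v) := by
  subst h
  intro ι hι
  obtain rfl : ι = (e.stalkMap v).hom := by
    rw [hι, TopCat.Presheaf.stalkCongr_inv, TopCat.Presheaf.stalkSpecializes_refl, Category.id_comp]
  exact ⟨inferInstance, rfl, Iff.rfl, fun _ => Iff.rfl⟩

open AlgebraicGeometry CategoryTheory Limits in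
/-- Let S be locally Noetherian, p : X → S and q : Y → S locally of finite type, x in X and y in Y over
the same point s with O_{S,s} a G-ring, and φ : O_{Y,y}^∧ ≅ O_{X,x}^∧ an isomorphism of
O_{S,s}-algebras between the completed local rings. For every N ≥ 1 there are a scheme U, a point u
and morphisms e : U → X, f : U → Y over S which are both elementary étale neighbourhoods (of (X, x)
and of (Y, y)) such that O_{Y,y}^∧ → O_{U,u}^∧ and O_{Y,y}^∧ → O_{X,x}^∧ → O_{U,u}^∧ (φ followed by
the map induced by e) agree modulo m_u^N; the last condition is written on O_{U,u}/m_u^N through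
lifts modulo the N-th powers of the maximal ideals. -/
theorem result {X Y S : Scheme.{u}} [IsLocallyNoetherian S]
    (p : X ⟶ S) (q : Y ⟶ S) [LocallyOfFiniteType p] [LocallyOfFiniteType q] (x : X) (y : Y) (hxy : p x = q y)
    (hG : CAlg.IsGRing ↑(S.presheaf.stalk (p x)))
    (φ : (AdicCompletion (IsLocalRing.maximalIdeal ↑(Y.presheaf.stalk y)) ↑(Y.presheaf.stalk y)) ≃+* (AdicCompletion (IsLocalRing.maximalIdeal ↑(X.presheaf.stalk x)) ↑(X.presheaf.stalk x)))
    (hφ : φ.toRingHom.comp ((algebraMap ↑(Y.presheaf.stalk y) (AdicCompletion (IsLocalRing.maximalIdeal ↑(Y.presheaf.stalk y)) ↑(Y.presheaf.stalk y))).comp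
        ((q.stalkMap y).hom.comp (S.presheaf.stalkCongr (Inseparable.of_eq hxy)).hom.hom)) =
      (algebraMap ↑(X.presheaf.stalk x) (AdicCompletion (IsLocalRing.maximalIdeal ↑(X.presheaf.stalk x)) ↑(X.presheaf.stalk x))).comp (p.stalkMap x).hom)
    (N : ℕ) (hN : 1 ≤ N) :
    ∃ (U : Scheme.{u}) (u : U) (e : U ⟶ X) (heu : e u = x) (f : U ⟶ Y) (hfu : f u = y),
      Etale e ∧ Function.Bijective (e.residueFieldMap u) ∧ Etale f ∧ Function.Bijective (f.residueFieldMap u) ∧
      f ≫ q = e ≫ p ∧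
      ∀ (b : (AdicCompletion (IsLocalRing.maximalIdeal ↑(Y.presheaf.stalk y)) ↑(Y.presheaf.stalk y))) (cY : ↑(Y.presheaf.stalk y)) (cX : ↑(X.presheaf.stalk x)),
        AdicCompletion.evalₐ (IsLocalRing.maximalIdeal ↑(Y.presheaf.stalk y)) N b =
          Ideal.Quotient.mk (IsLocalRing.maximalIdeal ↑(Y.presheaf.stalk y) ^ N) cY →
        AdicCompletion.evalₐ (IsLocalRing.maximalIdeal ↑(X.presheaf.stalk x)) N (φ b) =
          Ideal.Quotient.mk (IsLocalRing.maximalIdeal ↑(X.presheaf.stalk x) ^ N) cX →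
        Ideal.Quotient.mk (IsLocalRing.maximalIdeal ↑(U.presheaf.stalk u) ^ N)
            ((f.stalkMap u).hom ((Y.presheaf.stalkCongr (Inseparable.of_eq hfu)).inv.hom cY)) =
          Ideal.Quotient.mk (IsLocalRing.maximalIdeal ↑(U.presheaf.stalk u) ^ N)
            ((e.stalkMap u).hom ((X.presheaf.stalkCongr (Inseparable.of_eq heu)).inv.hom cX)) := by

  classical
  haveI : IsLocallyNoetherian X := LocallyOfFiniteType.isLocallyNoetherian p
  haveI : IsLocallyNoetherian Y := LocallyOfFiniteType.isLocallyNoetherian q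
  let A : Type u := ↑(X.presheaf.stalk x)
  let B : Type u := ↑(Y.presheaf.stalk y)
  haveI : IsNoetherianRing A := inferInstanceAs (IsNoetherianRing (X.presheaf.stalk x))
  haveI : IsNoetherianRing B := inferInstanceAs (IsNoetherianRing (Y.presheaf.stalk y))
  let m := IsLocalRing.maximalIdeal A
  let mB := IsLocalRing.maximalIdeal B
  have hφpow : ∀ j (z : AdicCompletion mB B), z ∈ IsLocalRing.maximalIdeal (AdicCompletion mB B) ^ j →
      φ z ∈ IsLocalRing.maximalIdeal (AdicCompletion m A) ^ j := by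
    intro j z hz
    have h1 := Ideal.mem_map_of_mem φ.toRingHom hz
    rw [Ideal.map_pow, IsLocalRing.map_maximalIdeal_of_surjective _ φ.surjective] at h1
    exact h1
  have hBm : IsLocalRing.maximalIdeal (AdicCompletion mB B) = mB.map (algebraMap B (AdicCompletion mB B)) :=
    AdicCompletion.maximalIdeal_eq_map
  have hAm : IsLocalRing.maximalIdeal (AdicCompletion m A) = m.map (algebraMap A (AdicCompletion m A)) :=
    AdicCompletion.maximalIdeal_eq_map
  let φ' : B →+* AdicCompletion m A := φ.toRingHom.comp (algebraMap B (AdicCompletion mB B))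
  have hloc : ∀ b ∈ mB, φ' b ∈ m.map (algebraMap A (AdicCompletion m A)) := fun b hb => by
    rw [← hAm, ← pow_one (IsLocalRing.maximalIdeal (AdicCompletion m A))]
    refine hφpow 1 _ ?_
    rw [pow_one, hBm]
    exact Ideal.mem_map_of_mem _ hb
  obtain ⟨U, e, u₀, heu, f, hfu, he, heb, hfq, hcong⟩ :=
    _root_.Groth.Agent.S7202.result p q x y hxy hG φ' hφ hloc (max N 2) (by omega)
  haveI := he
  let C : Type u := ↑(U.presheaf.stalk u₀)
  haveI : IsLocallyNoetherian U := LocallyOfFiniteType.isLocallyNoetherian e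
  haveI : IsNoetherianRing C := inferInstanceAs (IsNoetherianRing (U.presheaf.stalk u₀))
  let ι : A →+* C := ((X.presheaf.stalkCongr (Inseparable.of_eq heu)).inv ≫ e.stalkMap u₀).hom
  let g : B →+* C := ((Y.presheaf.stalkCongr (Inseparable.of_eq hfu)).inv ≫ f.stalkMap u₀).hom
  obtain ⟨hιl, hιmap, hιflat, hιres⟩ := stalk_data e u₀ x heu ι rfl
  obtain ⟨hgl, hgmap, hgflat, hgres⟩ := stalk_data f u₀ y hfu g rfl
  haveI := hιl
  haveI := hgl
  have hιm : (IsLocalRing.maximalIdeal A).map ι = IsLocalRing.maximalIdeal C := by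
    rw [hιmap]
    letI := (e.stalkMap u₀).hom.toAlgebra
    haveI : IsLocalHom (algebraMap ↑(X.presheaf.stalk (e u₀)) ↑(U.presheaf.stalk u₀)) :=
      inferInstanceAs (IsLocalHom (e.stalkMap u₀).hom)
    haveI : Algebra.EssFiniteType ↑(X.presheaf.stalk (e u₀)) ↑(U.presheaf.stalk u₀) :=
      RingHom.essFiniteType_algebraMap.1 (LocallyOfFiniteType.stalkMap e u₀)
    haveI : Algebra.FormallyUnramified ↑(X.presheaf.stalk (e u₀)) ↑(U.presheaf.stalk u₀) :=
      FormallyUnramified.stalkMap e u₀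
    exact Algebra.FormallyUnramified.map_maximalIdeal
  have hιr : ∀ z, ∃ a, z - ι a ∈ IsLocalRing.maximalIdeal C := fun z => (hιres z).2 (by
    obtain ⟨w, hw⟩ := heb.2 (U.residue u₀ z)
    obtain ⟨a, rfl⟩ := X.residue_surjective (e u₀) w
    rw [← CommRingCat.comp_apply, Scheme.residue_residueFieldMap, CommRingCat.comp_apply] at hw
    exact ⟨a, Ideal.Quotient.eq.1 hw.symm⟩)
  obtain ⟨hgf, hgr, hgm⟩ := _root_.Groth.Agent.CAlgH.EtaleOfCompletionIso.flat_and_unramified
    ι (hιflat.2 (Flat.stalkMap e u₀)) hιm hιr g φ (N := max N 2) (by omega)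
    (fun b a hba => Ideal.Quotient.eq.1 (hcong b a hba))
  haveI : LocallyOfFiniteType (f ≫ q) := hfq ▸ inferInstance
  haveI : LocallyOfFiniteType f := AlgebraicGeometry.locallyOfFiniteType_of_comp f q
  haveI : LocallyOfFinitePresentation f :=
    (LocallyOfFinitePresentation.iff_locallyOfFiniteType).2 inferInstance
  have hunr : (f.stalkMap u₀).hom.FormallyUnramified := by
    haveI : IsNoetherianRing ↑(Y.presheaf.stalk (f u₀)) := inferInstance
    exact _root_.Groth.Agent.CAlgH.EtaleOfCompletionIso.formallyUnramified_of _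
      (LocallyOfFiniteType.stalkMap f u₀) (fun z => (hgres z).1 (hgr z)) (hgmap ▸ hgm)
  obtain ⟨V, hV, hVet⟩ := (_root_.Groth.Agent.FlatLocal.etale_nhd_iff f u₀).2 ⟨hgflat.1 hgf, hunr⟩
  let v : ↑V.toScheme := ⟨u₀, hV⟩
  have hres : ∀ {Z : Scheme.{u}} (h : U ⟶ Z), Function.Bijective (h.residueFieldMap u₀) →
      Function.Bijective ((V.ι ≫ h).residueFieldMap v) := by
    intro Z h hb
    have hb' : Function.Bijective (V.ι.residueFieldMap v) :=
      ((CategoryTheory.ConcreteCategory.isIso_iff_bijective (V.ι.residueFieldMap v)).1 inferInstance)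
    rw [Scheme.residueFieldMap_comp]
    exact hb'.comp hb
  have hfb : Function.Bijective (f.residueFieldMap u₀) := ⟨(f.residueFieldMap u₀).hom.injective, fun z => by
    obtain ⟨w, rfl⟩ := U.residue_surjective u₀ z
    obtain ⟨r, hr⟩ := (hgres w).1 (hgr w)
    refine ⟨Y.residue (f u₀) r, ?_⟩
    rw [← CommRingCat.comp_apply, Scheme.residue_residueFieldMap, CommRingCat.comp_apply]
    exact (Ideal.Quotient.eq.2 hr).symm⟩
  refine ⟨V.toScheme, v, V.ι ≫ e, heu, V.ι ≫ f, hfu, inferInstance, hres e heb, hVet, hres f hfb,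
    by rw [Category.assoc, hfq, Category.assoc], fun b cY cX hb hcX => ?_⟩
  obtain ⟨c0, hc0⟩ := Ideal.Quotient.mk_surjective (AdicCompletion.evalₐ m (max N 2) (φ' cY))
  have h1 : g cY - ι c0 ∈ IsLocalRing.maximalIdeal C ^ N :=
    Ideal.pow_le_pow_right (le_max_left N 2) (Ideal.Quotient.eq.1 (hcong cY c0 hc0.symm))
  have h2 : c0 - cX ∈ m ^ N := by
    refine Ideal.Quotient.eq.1 (hcX ▸ ?_)
    have h3 : algebraMap B (AdicCompletion mB B) cY - b ∈ IsLocalRing.maximalIdeal (AdicCompletion mB B) ^ N := by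
      rw [hBm, ← Ideal.map_pow]
      refine _root_.Groth.Agent.CAlgH.Approximation.mem_map_pow mB.fg_of_isNoetherianRing ?_
      rw [map_sub, AlgHom.commutes, hb]
      exact sub_self _
    have h4 := hφpow N _ h3
    rw [map_sub, hAm, ← Ideal.map_pow] at h4
    have h5 := _root_.Groth.Agent.CAlgH.Approximation.evalₐ_eq_zero h4
    have h6 : φ' cY - algebraMap A (AdicCompletion m A) c0 ∈ (m ^ N).map (algebraMap A (AdicCompletion m A)) := by
      refine Ideal.map_mono (Ideal.pow_le_pow_right (le_max_left N 2))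
        (_root_.Groth.Agent.CAlgH.Approximation.mem_map_pow m.fg_of_isNoetherianRing ?_)
      rw [map_sub, AlgHom.commutes, ← hc0]
      exact sub_self _
    have h7 := _root_.Groth.Agent.CAlgH.Approximation.evalₐ_eq_zero h6
    rw [map_sub, AlgHom.commutes, sub_eq_zero] at h7
    rw [map_sub, sub_eq_zero] at h5
    exact h7.symm.trans h5
  have h8 : g cY - ι cX ∈ IsLocalRing.maximalIdeal C ^ N := by
    rw [show g cY - ι cX = (g cY - ι c0) + ι (c0 - cX) by rw [map_sub]; ring]
    refine add_mem h1 ?_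
    rw [← hιm, ← Ideal.map_pow]
    exact Ideal.mem_map_of_mem ι h2
  have h9 : (V.ι.stalkMap v).hom (g cY) - (V.ι.stalkMap v).hom (ι cX) ∈
      IsLocalRing.maximalIdeal ↑(V.toScheme.presheaf.stalk v) ^ N := by
    exact sub_mem_pow (V.ι.stalkMap v).hom N h8
  refine Ideal.Quotient.eq.2 ?_
  simp only [Scheme.Hom.stalkMap_comp, CommRingCat.hom_comp, RingHom.comp_apply]
  exact h9

end Groth.Agent.S7203
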