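import Groth.Statements.S7204
import Mathlib.AlgebraicGeometry.Sites.Fpqc

set_option autoImplicit false
universe w u
open FlatMor

namespace Groth.Agent.S7204

open AlgebraicGeometry CategoryTheory Limits in
/-- Let (X_i)_{i ∈ I} be a diagram of schemes and (W, X_i → W) a cocone under it. If there is an fpqc
covering {W_a → W} such that each W_a is the colimit (in schemes) of the base-changed diagram (X_i
×_W W_a), and each W_a ×_W W_b is the colimit of (X_i ×_W W_a ×_W W_b), then W is the colimit of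
(X_i) in the category of schemes. -/
theorem result {J : Type u} [SmallCategory J] (D : J ⥤ Scheme.{u}) (c : Cocone D)
    (F : PreZeroHypercover.{w} c.pt) (hF : F.presieve₀ ∈ Scheme.fpqcPrecoverage c.pt)
    (h1 : ∀ a : F.I₀, Nonempty (IsColimit ((Over.forgetCocone (F.X a)).whisker
      (D.toOver c.pt (fun j => c.ι.app j) (fun g => c.w g) ⋙ Over.pullback (F.f a)))))
    (h2 : ∀ a b : F.I₀, Nonempty (IsColimit ((Over.forgetCocone (pullback (F.f a) (F.f b))).whisker
      (D.toOver c.pt (fun j => c.ι.app j) (fun g => c.w g) ⋙ Over.pullback (pullback.fst (F.f a) (F.f b) ≫ F.f a))))) :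
    Nonempty (IsColimit c) := by
  have hmem : Sieve.generate F.presieve₀ ∈ Scheme.fpqcTopology c.pt :=
    Precoverage.generate_mem_toGrothendieck hF
  have hsh : ∀ Y : Scheme.{u}, Presieve.IsSheaf Scheme.fpqcTopology (yoneda.obj Y) := fun Y =>
    GrothendieckTopology.Subcanonical.isSheaf_of_isRepresentable _
  have hglue : ∀ (Y : Scheme.{u}) (g : ∀ a, F.X a ⟶ Y),
      (∀ a b, pullback.fst (F.f a) (F.f b) ≫ g a = pullback.snd (F.f a) (F.f b) ≫ g b) →
      ∃! t : c.pt ⟶ Y, ∀ a, F.f a ≫ t = g a := by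
    intro Y g hg
    have h : Presieve.IsSheafFor (yoneda.obj Y) (Presieve.ofArrows F.X F.f) :=
      (Presieve.isSheafFor_iff_generate _).2 (hsh Y _ hmem)
    exact (Presieve.isSheafFor_arrows_iff _ _).1 h g fun a b Z ga gb hab => by
      have := congrArg (pullback.lift ga gb hab ≫ ·) (hg a b)
      simp only [pullback.lift_fst_assoc, pullback.lift_snd_assoc] at this
      exact this
  have hext : ∀ (Y : Scheme.{u}) (j : J) (p q : D.obj j ⟶ Y),
      (∀ a, pullback.fst (c.ι.app j) (F.f a) ≫ p = pullback.fst (c.ι.app j) (F.f a) ≫ q) → p = q := by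
    intro Y j p q h
    refine (hsh Y _ (Scheme.fpqcTopology.pullback_stable (c.ι.app j) hmem)).isSeparatedFor.ext
      fun Z g hg => ?_
    obtain ⟨W, k, e, ⟨a⟩, hke⟩ := hg
    have := congrArg (pullback.lift g k hke.symm ≫ ·) (h a)
    simp only [pullback.lift_fst_assoc] at this
    exact this
  let H1 := fun a => (h1 a).some
  let H2 := fun a b => (h2 a b).some
  let cs : ∀ (s : Cocone D) (a : F.I₀), Cocone ((D.toOver c.pt (fun j => c.ι.app j) (fun g => c.w g) ⋙
      Over.pullback (F.f a)) ⋙ Over.forget _) := fun s a =>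
    { pt := s.pt
      ι :=
        { app := fun j => pullback.fst (c.ι.app j) (F.f a) ≫ s.ι.app j
          naturality := fun i j g => by
            dsimp
            refine ((pullback.lift_fst_assoc _ _ _ _).trans ?_).trans (Category.comp_id _).symm
            exact congrArg (pullback.fst (c.ι.app i) (F.f a) ≫ ·) (s.w g) } }
  have hfac : ∀ (s : Cocone D) (a : F.I₀) (j : J), pullback.snd (c.ι.app j) (F.f a) ≫
      (H1 a).desc (cs s a) = pullback.fst (c.ι.app j) (F.f a) ≫ s.ι.app j :=
    fun s a j => (H1 a).fac (cs s a) j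
  have hcomp : ∀ (s : Cocone D) (a b : F.I₀), pullback.fst (F.f a) (F.f b) ≫ (H1 a).desc (cs s a) =
      pullback.snd (F.f a) (F.f b) ≫ (H1 b).desc (cs s b) := by
    intro s a b
    refine (H2 a b).hom_ext fun j => ?_
    show pullback.snd (c.ι.app j) (pullback.fst (F.f a) (F.f b) ≫ F.f a) ≫ _ =
      pullback.snd (c.ι.app j) (pullback.fst (F.f a) (F.f b) ≫ F.f a) ≫ _
    let π₁ := pullback.fst (c.ι.app j) (pullback.fst (F.f a) (F.f b) ≫ F.f a)
    let π₂ := pullback.snd (c.ι.app j) (pullback.fst (F.f a) (F.f b) ≫ F.f a)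
    have ea : π₁ ≫ c.ι.app j = (π₂ ≫ pullback.fst (F.f a) (F.f b)) ≫ F.f a :=
      pullback.condition.trans (Category.assoc _ _ _).symm
    have eb : π₁ ≫ c.ι.app j = (π₂ ≫ pullback.snd (F.f a) (F.f b)) ≫ F.f b := by
      rw [ea, Category.assoc, Category.assoc]; exact congrArg (π₂ ≫ ·) pullback.condition
    have ha := congrArg (pullback.lift π₁ (π₂ ≫ pullback.fst _ _) ea ≫ ·) (hfac s a j)
    have hb := congrArg (pullback.lift π₁ (π₂ ≫ pullback.snd _ _) eb ≫ ·) (hfac s b j)
    simp only [pullback.lift_fst_assoc, pullback.lift_snd_assoc, Category.assoc] at ha hb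
    exact ha.trans hb.symm
  choose t ht htu using fun s => hglue s.pt (fun a => (H1 a).desc (cs s a)) (hcomp s)
  refine ⟨{ desc := t, fac := fun s j => ?_, uniq := fun s m hm => ?_ }⟩
  · refine hext _ j _ _ fun a => ?_
    rw [← hfac s a j, ← ht s a, pullback.condition_assoc]
  · refine htu s m fun a => (H1 a).hom_ext fun j => ?_
    refine Eq.trans ?_ ((H1 a).fac (cs s a) j).symm
    show pullback.snd (c.ι.app j) (F.f a) ≫ F.f a ≫ m = pullback.fst (c.ι.app j) (F.f a) ≫ s.ι.app j
    rw [← pullback.condition_assoc, hm j]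

end Groth.Agent.S7204
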