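import Groth.Statements.S7225
import Groth.Agent.FlatMor12.NLBaseChange.Cx
import Mathlib.RingTheory.Localization.BaseChange
import Mathlib.RingTheory.Flat.Localization

set_option autoImplicit false
universe u
open CategoryTheory CategoryTheory.Limits TensorProduct
attribute [local instance] HasDerivedCategory.standard
open FlatMor

namespace Groth.Agent.S7225

/-- Let A be a ring, M a submonoid of A, A' a localization of A at M and B an A'-algebra, viewed also as
an A-algebra. Let G be a presentation of B over A by a polynomial algebra and G' the presentation of
B over A' with the same generators (G'(i) = G(i), written through the identity algebra map of B).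
Then the canonical chain map NL(G) → NL(G') from the naive cotangent complex of the presentation
over A to that of the presentation over A' is an isomorphism of complexes (so that NL_{B/A} →
NL_{B/A'} is a homotopy equivalence). -/
theorem result (A A' B : Type u) [CommRing A] [CommRing A'] [CommRing B]
    [Algebra A A'] (M : Submonoid A) [IsLocalization M A'] [Algebra A' B] [Algebra A B] [IsScalarTower A A' B]
    {ι : Type u} (G : Algebra.Generators A B ι) (G' : Algebra.Generators A' B ι) (h : ∀ i, G'.val i = algebraMap B B (G.val i)) :
    IsIso (NLCx.map (NLCx.sameVarsHom (S' := B) G G' h).toExtensionHom) := by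
  have hl : IsLocalization (Algebra.algebraMapSubmonoid B M) B := by
    refine IsLocalization.self ?_
    rintro x ⟨m, hm, rfl⟩
    rw [IsScalarTower.algebraMap_apply A A' B]
    exact (IsLocalization.map_units A' ⟨m, hm⟩).map _
  have hp : Algebra.IsPushout A B A' B := Algebra.isPushout_of_isLocalization M _ _ _
  have : Algebra.IsPushout A A' B B := (Algebra.IsPushout.comm A B A' B).1 hp
  have : Module.Flat A A' := IsLocalization.flat A' M
  have h1 := And.intro
    (Groth.Agent.FlatMor12.NLBaseChange.cot_injective h
      (Groth.Agent.FlatMor12.NLBaseChange.lTensor_incl_injective_of_flat_base G))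
    (Groth.Agent.FlatMor12.NLBaseChange.cot_surjective (S' := B) (G' := G') h)
  have h0 := Groth.Agent.FlatMor12.NLBaseChange.space_bijective (S' := B) (G' := G') h
  have b1 : Function.Bijective (Algebra.Extension.Cotangent.map
      (NLCx.sameVarsHom (S' := B) G G' h).toExtensionHom) := by
    have := Function.Bijective.comp h1 (TensorProduct.lid B G.toExtension.Cotangent).symm.bijective
    refine (congrArg Function.Bijective ?_).mp this
    funext x
    simp
  have b0 : Function.Bijective (Algebra.Extension.CotangentSpace.map
      (NLCx.sameVarsHom (S' := B) G G' h).toExtensionHom) := by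
    have := Function.Bijective.comp h0
      (TensorProduct.lid B G.toExtension.CotangentSpace).symm.bijective
    refine (congrArg Function.Bijective ?_).mp this
    funext x
    simp
  have : ∀ k, IsIso ((NLCx.map (NLCx.sameVarsHom (S' := B) G G' h).toExtensionHom).f k) := by
    intro k
    rcases eq_or_ne k (-1) with rfl | hk
    · rw [Groth.Agent.FlatMor12.NLBaseChange.map_f₁]
      have : IsIso (ModuleCat.ofHom (Algebra.Extension.Cotangent.map
          (NLCx.sameVarsHom (S' := B) G G' h).toExtensionHom)) :=
        (ConcreteCategory.isIso_iff_bijective _).2 b1
      infer_instance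
    rcases eq_or_ne k 0 with rfl | hk'
    · rw [Groth.Agent.FlatMor12.NLBaseChange.map_f₀]
      have : IsIso (ModuleCat.ofHom (Algebra.Extension.CotangentSpace.map
          (NLCx.sameVarsHom (S' := B) G G' h).toExtensionHom)) :=
        (ConcreteCategory.isIso_iff_bijective _).2 b0
      infer_instance
    exact ⟨⟨0, (Groth.Agent.FlatMor12.NLBaseChange.cx_isZero _ k hk hk').eq_of_src _ _,
      (Groth.Agent.FlatMor12.NLBaseChange.cx_isZero _ k hk hk').eq_of_src _ _⟩⟩
  exact HomologicalComplex.Hom.isIso_of_components _

end Groth.Agent.S7225
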