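import Groth.Statements.S7237
import Mathlib.RingTheory.Kaehler.Basic
import Mathlib.Algebra.TrivSqZeroExt.Basic
import Mathlib.LinearAlgebra.SymmetricAlgebra.Basic

set_option autoImplicit false
universe u
open TensorProduct
open FlatMor

open TensorProduct

namespace Groth.Agent.S7237

/-- Let A be a ring and M a finitely generated A-module, and let C = Sym_A(M) be the symmetric algebra
of M with its canonical A-linear map ι : M → C. Then Ω_{C/A} = M ⊗_A C: the C-linear map C ⊗_A M →
Ω_{C/A} obtained by extending scalars in the A-linear map m ↦ d(ι m), d being the universal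
A-derivation of C, is bijective. (The published lemma also computes the whole naive cotangent
complex of the presentation of C attached to a surjection A^m → M with kernel K, namely as K ⊗_A C →
⊕_j C dy_j; only its consequence for Ω is asserted here.) -/
theorem result (A : Type u) [CommRing A] (M : Type u)
    [AddCommGroup M] [Module A M] [Module.Finite A M] :
    Function.Bijective (LinearMap.liftBaseChange (SymmetricAlgebra A M)
      ((KaehlerDifferential.D A (SymmetricAlgebra A M)).toLinearMap.restrictScalars A ∘ₗ SymmetricAlgebra.ι A M)) := by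
  let C := SymmetricAlgebra A M
  let N := C ⊗[A] M
  let L : N →ₗ[C] Ω[C⁄A] := LinearMap.liftBaseChange C
    ((KaehlerDifferential.D A C).toLinearMap.restrictScalars A ∘ₗ SymmetricAlgebra.ι A M)
  haveI : IsCentralScalar C N := ⟨fun c n => by
    induction n using TensorProduct.induction_on with
    | zero => rw [smul_zero, smul_zero]
    | add a b ha hb => rw [smul_add, smul_add, ha, hb]
    | tmul a m => rw [TensorProduct.smul_tmul', TensorProduct.smul_tmul', op_smul_eq_smul]⟩
  let ε : M →ₗ[A] TrivSqZeroExt C N :=
    { toFun := fun m => TrivSqZeroExt.inl (SymmetricAlgebra.ι A M m) + TrivSqZeroExt.inr (1 ⊗ₜ m)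
      map_add' := fun a b => by ext <;> simp [tmul_add]
      map_smul' := fun a b => by ext <;> simp [tmul_smul] }
  let Φ : C →ₐ[A] TrivSqZeroExt C N := SymmetricAlgebra.lift ε
  have hfst : ∀ c, (Φ c).fst = c := by
    have : (TrivSqZeroExt.fstHom A C N).comp Φ = AlgHom.id A C := SymmetricAlgebra.algHom_ext (LinearMap.ext fun m => by
      show (Φ (SymmetricAlgebra.ι A M m)).fst = _
      rw [SymmetricAlgebra.lift_ι_apply]
      simp [ε]
      rfl)
    exact fun c => AlgHom.congr_fun this c
  let δ : Derivation A C N := Derivation.mk'
    { toFun := fun c => (Φ c).snd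
      map_add' := fun a b => by simp
      map_smul' := fun a b => by simp }
    fun a b => by
      show (Φ (a * b)).snd = a • (Φ b).snd + b • (Φ a).snd
      rw [map_mul, TrivSqZeroExt.snd_mul, hfst, hfst, op_smul_eq_smul]
  have hδ : ∀ m, δ (SymmetricAlgebra.ι A M m) = 1 ⊗ₜ m := fun m => by
    show (Φ (SymmetricAlgebra.ι A M m)).snd = _
    rw [SymmetricAlgebra.lift_ι_apply]
    simp [ε]
  have hinv : ∀ n : N, δ.liftKaehlerDifferential (L n) = n := by
    intro n
    induction n using TensorProduct.induction_on with
    | zero => simp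
    | add a b ha hb => rw [map_add, map_add, ha, hb]
    | tmul c m =>
      show δ.liftKaehlerDifferential (LinearMap.liftBaseChange C _ (c ⊗ₜ m)) = _
      rw [LinearMap.liftBaseChange_tmul, map_smul]
      show c • δ.liftKaehlerDifferential (KaehlerDifferential.D A C (SymmetricAlgebra.ι A M m)) = _
      rw [Derivation.liftKaehlerDifferential_comp_D, hδ, TensorProduct.smul_tmul', smul_eq_mul, mul_one]
  refine ⟨Function.LeftInverse.injective hinv, LinearMap.range_eq_top.1 (?_ : LinearMap.range L = ⊤)⟩
  rw [eq_top_iff, ← KaehlerDifferential.span_range_derivation, Submodule.span_le]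
  rintro _ ⟨c, rfl⟩
  induction c using SymmetricAlgebra.induction with
  | algebraMap r => rw [Derivation.map_algebraMap]; exact Submodule.zero_mem _
  | ι m => refine ⟨1 ⊗ₜ m, ?_⟩; show LinearMap.liftBaseChange C _ (1 ⊗ₜ m) = _; rw [LinearMap.liftBaseChange_tmul, one_smul]; rfl
  | mul a b ha hb => rw [Derivation.leibniz]; exact Submodule.add_mem _ (Submodule.smul_mem _ _ hb) (Submodule.smul_mem _ _ ha)
  | add a b ha hb => rw [map_add]; exact Submodule.add_mem _ ha hb

end Groth.Agent.S7237
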