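import Groth.Statements.S7238
import Groth.Agent.FlatMor12.MatchDescend
import Groth.Agent.FlatMor12.MatchPoint
import Groth.Agent.FlatMor12.MatchSystem
import Groth.Agent.CAlgH.GRingRegular
import Groth.Agent.CAlgH.ApproximationLocal
import Groth.Agent.CommAlg6.CompletionMap
import Groth.Agent.S7202
import Groth.Agent.S7203
-- import your own Groth.Agent.* helpers here

set_option autoImplicit false
set_option maxHeartbeats 2000000
set_option backward.isDefEq.respectTransparency.types false
universe u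
open FlatMor

namespace Groth.Agent.S7238

open AlgebraicGeometry CategoryTheory IsLocalRing in
/-- The unique point of the spectrum of a field. -/
theorem eq_closedPoint {K : Type u} [Field K] (z : Spec (CommRingCat.of K)) : z = closedPoint K :=
  PrimeSpectrum.ext (((Ideal.eq_bot_or_top _).resolve_right z.isPrime.ne_top).trans
    ((Ideal.eq_bot_or_top _).resolve_right (maximalIdeal.isMaximal K).ne_top).symm)

open AlgebraicGeometry CategoryTheory IsLocalRing in
/-- Non-units of the stalk of the spectrum of a field vanish. -/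
theorem stalk_field_eq_zero {K : Type u} [Field K] (z : Spec (CommRingCat.of K))
    (d : ↑((Spec (CommRingCat.of K)).presheaf.stalk z)) (hd : ¬ IsUnit d) : d = 0 := by
  let toSt := (Scheme.ΓSpecIso (CommRingCat.of K)).inv ≫ (Spec (CommRingCat.of K)).presheaf.germ ⊤ z trivial
  letI : Algebra K ↑((Spec (CommRingCat.of K)).presheaf.stalk z) := toSt.hom.toAlgebra
  haveI : IsLocalization.AtPrime ↑((Spec (CommRingCat.of K)).presheaf.stalk z) z.asIdeal :=
    StructureSheaf.IsLocalization.to_stalk (R := K) z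
  obtain ⟨⟨k, s⟩, hs⟩ := IsLocalization.surj z.asIdeal.primeCompl d
  have hu : IsUnit (algebraMap K ↑((Spec (CommRingCat.of K)).presheaf.stalk z) s) := IsLocalization.map_units _ s
  by_cases hk : k = 0
  · rw [hk, map_zero] at hs
    exact hu.mul_left_eq_zero.1 hs
  · exact absurd (hs ▸ (isUnit_iff_ne_zero.2 hk).map (algebraMap K _)) (fun h => hd (isUnit_of_mul_isUnit_left h))

open AlgebraicGeometry CategoryTheory IsLocalRing in
/-- Residue maps are bijective as soon as stalk elements are congruent to images. -/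
theorem bijective_residueFieldMap_of_exists {W X : Scheme.{u}} (a : W ⟶ X) (w : W)
    (h : ∀ z : ↑(W.presheaf.stalk w), ∃ r, z - (a.stalkMap w).hom r ∈ maximalIdeal ↑(W.presheaf.stalk w)) :
    Function.Bijective (a.residueFieldMap w) :=
  ⟨(a.residueFieldMap w).hom.injective, fun z => by
    obtain ⟨z', rfl⟩ := W.residue_surjective w z
    obtain ⟨r, hr⟩ := h z'
    refine ⟨X.residue (a w) r, ?_⟩
    rw [← CommRingCat.comp_apply, Scheme.residue_residueFieldMap, CommRingCat.comp_apply]
    exact (Ideal.Quotient.eq.2 hr).symm⟩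

open AlgebraicGeometry CategoryTheory IsLocalRing in
/-- Residue bijectivity read off a field valued point. -/
theorem bijective_residueFieldMap {K : Type u} [Field K] {W X : Scheme.{u}} (g : Spec (CommRingCat.of K) ⟶ W)
    (a : W ⟶ X) [SurjectiveOnStalks (g ≫ a)] (w : W) (hw : g (closedPoint K) = w) :
    Function.Bijective (a.residueFieldMap w) := by
  subst hw
  refine bijective_residueFieldMap_of_exists a _ fun z => ?_
  obtain ⟨r, hr⟩ := (g ≫ a).stalkMap_surjective (closedPoint K) ((g.stalkMap (closedPoint K)).hom z)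
  refine ⟨r, ?_⟩
  rw [mem_maximalIdeal, mem_nonunits_iff]
  intro hu
  have h2 := hu.map (g.stalkMap (closedPoint K)).hom
  rw [map_sub] at h2
  rw [Scheme.Hom.stalkMap_comp] at hr
  simp only [CommRingCat.hom_comp, RingHom.comp_apply] at hr
  erw [hr, sub_self] at h2
  exact not_isUnit_zero h2

open AlgebraicGeometry CategoryTheory IsLocalRing in
/-- A field valued point stays surjective on stalks along a trivial residue extension. -/
theorem surjectiveOnStalks_comp {K : Type u} [Field K] {W X : Scheme.{u}} (g : Spec (CommRingCat.of K) ⟶ W)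
    (a : W ⟶ X) [SurjectiveOnStalks g] (w : W) (hw : g (closedPoint K) = w)
    (h : Function.Bijective (a.residueFieldMap w)) : SurjectiveOnStalks (g ≫ a) := by
  subst hw
  refine ⟨fun z => ?_⟩
  obtain rfl := eq_closedPoint z
  intro y
  obtain ⟨z', rfl⟩ := g.stalkMap_surjective (closedPoint K) y
  obtain ⟨r', hr'⟩ := h.2 (W.residue _ z')
  obtain ⟨r, rfl⟩ := X.residue_surjective _ r'
  rw [← CommRingCat.comp_apply, Scheme.residue_residueFieldMap, CommRingCat.comp_apply] at hr'
  refine ⟨r, ?_⟩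
  rw [Scheme.Hom.stalkMap_comp]
  show (g.stalkMap (closedPoint K)).hom ((a.stalkMap (g (closedPoint K))).hom r) = _
  refine sub_eq_zero.1 (stalk_field_eq_zero _ _ ?_)
  rw [← map_sub]
  intro hu
  exact (mem_maximalIdeal _).1 (Ideal.Quotient.eq.1 hr') (IsLocalHom.map_nonunit (f := (g.stalkMap (closedPoint K)).hom) _ hu)

open AlgebraicGeometry CategoryTheory Limits IsLocalRing in
/-- Let S be a locally Noetherian scheme and T a scheme of finite type over ℤ; let p : X ⟶ S and q : Y ⟶
T be locally of finite type; let x ∈ X with image s ∈ S such that O_{S,s} is a G-ring, and y ∈ Y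
with image t ∈ T. Let σ : O_{T,t} → O_{S,s}^∧ be a local homomorphism into the completion, let Y_σ =
Y ×_T Spec(O_{S,s}^∧) be the base change of q along Spec(O_{S,s}^∧) → Spec(O_{T,t}) → T, let y_σ ∈
Y_σ be a point lying over y and over the closed point of Spec(O_{S,s}^∧), and let φ : O_{X,x}^∧ ≅
O_{Y_σ,y_σ}^∧ be an isomorphism of completed local rings compatible with the two O_{S,s}-algebra
structures. Then there are: an elementary étale neighbourhood e : (V, v) ⟶ (S, s) (étale, v ↦ s,
trivial residue field extension) together with τ : V ⟶ T with τ(v) = t; an elementary étale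
neighbourhood a : (W, w) ⟶ (X, x); and a morphism b : W ⟶ Y ×_{T,τ} V with W ⟶ X ⟶ S equal to W ⟶ Y
×_T V ⟶ V ⟶ S, such that b is étale and b(w) lies over y and over v with trivial residue field
extension. (The published statement says more precisely that (W, w) is an elementary étale
neighbourhood of the point y_τ of Y ×_T V corresponding to y_σ under the identification of the fibre
of Y_σ over the closed point with the fibre of Y ×_T V over v; that identification is not expressed
here, only that b(w) lies over y and v.) -/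
theorem result {X Y S T : Scheme.{u}} [IsLocallyNoetherian S]
    (p : X ⟶ S) (q : Y ⟶ T) [LocallyOfFiniteType p] [LocallyOfFiniteType q]
    [LocallyOfFiniteType (specULiftZIsTerminal.from T)] [CompactSpace T]
    (x : X) (hG : CAlg.IsGRing ↑(S.presheaf.stalk (p x))) (y : Y)
    (σ : ↑(T.presheaf.stalk (q y)) →+*
      AdicCompletion (maximalIdeal ↑(S.presheaf.stalk (p x))) ↑(S.presheaf.stalk (p x)))
    [IsLocalHom σ]
    (yσ : ↑(pullback q (Spec.map (CommRingCat.ofHom σ) ≫ T.fromSpecStalk (q y))))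
    (hyσ : (pullback.fst q (Spec.map (CommRingCat.ofHom σ) ≫ T.fromSpecStalk (q y))) yσ = y)
    (hyσc : (pullback.snd q (Spec.map (CommRingCat.ofHom σ) ≫ T.fromSpecStalk (q y))) yσ =
      closedPoint (AdicCompletion (maximalIdeal ↑(S.presheaf.stalk (p x))) ↑(S.presheaf.stalk (p x))))
    (φ : AdicCompletion (maximalIdeal ↑(X.presheaf.stalk x)) ↑(X.presheaf.stalk x) ≃+*
      AdicCompletion (maximalIdeal ↑((pullback q (Spec.map (CommRingCat.ofHom σ) ≫ T.fromSpecStalk (q y))).presheaf.stalk yσ))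
        ↑((pullback q (Spec.map (CommRingCat.ofHom σ) ≫ T.fromSpecStalk (q y))).presheaf.stalk yσ))
    (hφ : φ.toRingHom.comp ((algebraMap ↑(X.presheaf.stalk x)
        (AdicCompletion (maximalIdeal ↑(X.presheaf.stalk x)) ↑(X.presheaf.stalk x))).comp (p.stalkMap x).hom) =
      ((algebraMap _ (AdicCompletion (maximalIdeal
          ↑((pullback q (Spec.map (CommRingCat.ofHom σ) ≫ T.fromSpecStalk (q y))).presheaf.stalk yσ)) _)).comp
        ((pullback.snd q (Spec.map (CommRingCat.ofHom σ) ≫ T.fromSpecStalk (q y))).stalkMap yσ).hom).comp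
        ((((Spec (CommRingCat.of (AdicCompletion (maximalIdeal ↑(S.presheaf.stalk (p x))) ↑(S.presheaf.stalk (p x))))).presheaf.germ
            ⊤ ((pullback.snd q (Spec.map (CommRingCat.ofHom σ) ≫ T.fromSpecStalk (q y))) yσ) trivial).hom.comp
          ((Scheme.ΓSpecIso (CommRingCat.of (AdicCompletion (maximalIdeal ↑(S.presheaf.stalk (p x)))
            ↑(S.presheaf.stalk (p x))))).inv.hom.comp
            (algebraMap ↑(S.presheaf.stalk (p x))
              (AdicCompletion (maximalIdeal ↑(S.presheaf.stalk (p x))) ↑(S.presheaf.stalk (p x)))))))) :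
    ∃ (V : Scheme.{u}) (v : V) (e : V ⟶ S) (τ : V ⟶ T) (W : Scheme.{u}) (w : W) (a : W ⟶ X)
      (b : W ⟶ pullback q τ),
      Etale e ∧ e v = p x ∧ Function.Bijective (e.residueFieldMap v) ∧ τ v = q y ∧
      Etale a ∧ a w = x ∧ Function.Bijective (a.residueFieldMap w) ∧
      a ≫ p = b ≫ pullback.snd q τ ≫ e ∧
      Etale b ∧ (pullback.fst q τ) (b w) = y ∧ (pullback.snd q τ) (b w) = v ∧
      Function.Bijective (b.residueFieldMap w) := by
  classical
  haveI : IsLocallyNoetherian X := LocallyOfFiniteType.isLocallyNoetherian p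
  haveI : IsNoetherianRing (ULift.{u} ℤ) := isNoetherianRing_of_ringEquiv ℤ ULift.ringEquiv.symm
  haveI : IsLocallyNoetherian (Spec (CommRingCat.of (ULift.{u} ℤ))) := inferInstance
  haveI : IsLocallyNoetherian T := LocallyOfFiniteType.isLocallyNoetherian (specULiftZIsTerminal.from T)
  haveI : LocallyOfFinitePresentation q := (LocallyOfFinitePresentation.iff_locallyOfFiniteType).2 inferInstance
  -- affine charts
  let R : Type u := ↑(S.presheaf.stalk (p x))
  haveI : IsNoetherianRing R := inferInstanceAs (IsNoetherianRing (S.presheaf.stalk (p x)))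
  let H : Type u := AdicCompletion (maximalIdeal R) R
  haveI : IsNoetherianRing H := _root_.Groth.Agent.Matlis6.isNoetherianRing_adicCompletion _
  haveI := _root_.Groth.Agent.CAlgH.EtaleApprox.isAdicComplete_cpl R
  obtain ⟨_, ⟨S₀, hS₀, rfl⟩, hsS₀, -⟩ := S.isBasis_affineOpens.exists_subset_of_mem_open
    (Set.mem_univ (p x)) isOpen_univ
  obtain ⟨_, ⟨X₀, hX₀, rfl⟩, hxX₀, hXS⟩ := X.isBasis_affineOpens.exists_subset_of_mem_open
    (show x ∈ p ⁻¹ᵁ S₀ from hsS₀) (p ⁻¹ᵁ S₀).2
  obtain ⟨_, ⟨T₀, hT₀, rfl⟩, htT₀, -⟩ := T.isBasis_affineOpens.exists_subset_of_mem_open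
    (Set.mem_univ (q y)) isOpen_univ
  let A₀ : Type u := ↑Γ(S, S₀)
  let C : Type u := ↑Γ(X, X₀)
  let BT : Type u := ↑Γ(T, T₀)
  haveI : IsNoetherianRing A₀ := IsLocallyNoetherian.component_noetherian ⟨S₀, hS₀⟩
  letI algAR : Algebra A₀ R := (S.presheaf.germ S₀ (p x) hsS₀).hom.toAlgebra
  let P := (hS₀.primeIdealOf ⟨p x, hsS₀⟩).asIdeal
  haveI : IsLocalization.AtPrime R P := hS₀.isLocalization_stalk ⟨p x, hsS₀⟩
  letI algAC : Algebra A₀ C := (p.appLE S₀ X₀ hXS).hom.toAlgebra
  haveI : Algebra.FiniteType A₀ C := p.finiteType_appLE hS₀ hX₀ hXS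
  let Ox : Type u := ↑(X.presheaf.stalk x)
  haveI : IsNoetherianRing Ox := inferInstanceAs (IsNoetherianRing (X.presheaf.stalk x))
  letI algCO : Algebra C Ox := (X.presheaf.germ X₀ x hxX₀).hom.toAlgebra
  let Pc := (hX₀.primeIdealOf ⟨x, hxX₀⟩).asIdeal
  haveI : IsLocalization.AtPrime Ox Pc := hX₀.isLocalization_stalk ⟨x, hxX₀⟩
  have hgerm : ∀ a : A₀, algebraMap C Ox (algebraMap A₀ C a) = (p.stalkMap x).hom (algebraMap A₀ R a) := fun a =>
    congr($(S7202.germ_appLE p S₀ X₀ hXS x hxX₀) a)
  have hPc : Pc.comap (algebraMap A₀ C) = P := by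
    ext a
    rw [Ideal.mem_comap, ← IsLocalization.AtPrime.to_map_mem_maximal_iff Ox Pc,
      ← IsLocalization.AtPrime.to_map_mem_maximal_iff R P, hgerm]
    simp only [IsLocalRing.mem_maximalIdeal, mem_nonunits_iff]
    exact not_congr (isUnit_map_iff (p.stalkMap x).hom _)
  -- the point of the completed base change of `X`
  obtain ⟨Q, hQ, hQC, hQH, hQdense⟩ := _root_.Groth.Agent.FlatMor12.MatchPoint.exists_prime (R := R) P Pc hPc
  let E' : Type u := TensorProduct A₀ C H
  let prX : Spec (CommRingCat.of E') ⟶ Spec (CommRingCat.of C) :=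
    Spec.map (CommRingCat.ofHom Algebra.TensorProduct.includeLeftRingHom)
  let pi : Spec (CommRingCat.of E') ⟶ Spec (CommRingCat.of H) :=
    Spec.map (CommRingCat.ofHom (Algebra.TensorProduct.includeRight : H →ₐ[A₀] E').toRingHom)
  let πX : Spec (CommRingCat.of C) ⟶ Spec (CommRingCat.of A₀) := Spec.map (CommRingCat.ofHom (algebraMap A₀ C))
  let ηA : Spec (CommRingCat.of H) ⟶ Spec (CommRingCat.of A₀) := Spec.map (CommRingCat.ofHom (algebraMap A₀ H))
  have sqX : IsPullback prX pi πX ηA :=
    isPullback_SpecMap_of_isPushout _ _ _ _ (CommRingCat.isPushout_tensorProduct A₀ C H)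
  haveI : LocallyOfFiniteType πX := (HasRingHomProperty.Spec_iff (P := @LocallyOfFiniteType)).2
    (RingHom.finiteType_algebraMap.2 inferInstance)
  haveI : LocallyOfFinitePresentation πX := (HasRingHomProperty.Spec_iff (P := @LocallyOfFinitePresentation)).2
    (RingHom.finitePresentation_algebraMap.2 (Algebra.FinitePresentation.of_finiteType.1 inferInstance))
  haveI : LocallyOfFiniteType pi := MorphismProperty.of_isPullback sqX ‹LocallyOfFiniteType πX›
  haveI : IsLocallyNoetherian (Spec (CommRingCat.of E')) := LocallyOfFiniteType.isLocallyNoetherian pi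
  let eX : Spec (CommRingCat.of E') ⟶ X := prX ≫ hX₀.fromSpec
  let xh : ↑(Spec (CommRingCat.of E')) := ⟨Q, hQ⟩
  have heX : eX xh = x := S7202.specMap_fromSpec_apply hX₀ _ xh ⟨x, hxX₀⟩ hQC
  have hpi : pi xh = closedPoint H := PrimeSpectrum.ext hQH
  let O : Type u := ↑((Spec (CommRingCat.of E')).presheaf.stalk xh)
  haveI : IsNoetherianRing O := inferInstanceAs (IsNoetherianRing ((Spec (CommRingCat.of E')).presheaf.stalk xh))
  let toSt := (Scheme.ΓSpecIso (CommRingCat.of E')).inv ≫ (Spec (CommRingCat.of E')).presheaf.germ ⊤ xh trivial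
  letI algEO : Algebra E' O := toSt.hom.toAlgebra
  haveI : IsLocalization.AtPrime O Q := StructureSheaf.IsLocalization.to_stalk (R := E') xh
  let ι : Ox →+* O := ((X.presheaf.stalkCongr (Inseparable.of_eq heX)).inv ≫ eX.stalkMap xh).hom
  obtain ⟨hιloc, -, hιflat, hιres⟩ := S7203.stalk_data eX xh x heX ι rfl
  haveI := hιloc
  have hιC : ∀ c : C, ι (algebraMap C Ox c) = algebraMap E' O (c ⊗ₜ[A₀] (1 : H)) := fun c =>
    congr($(S7202.specMap_fromSpec_stalkMap hX₀ _ xh x hxX₀ heX) c)
  obtain ⟨hιm, hres⟩ := _root_.Groth.Agent.FlatMor12.MatchPoint.map_maximalIdeal_eq Q ι (fun z => by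
    obtain ⟨σ₀, hσ₀, c, hc⟩ := hQdense z
    have hu : IsUnit (algebraMap C Ox (algebraMap A₀ C σ₀)) :=
      IsLocalization.map_units Ox (⟨_, fun h => hσ₀ (hPc.le h)⟩ : Pc.primeCompl)
    obtain ⟨v, hv⟩ := hu
    refine ⟨algebraMap C Ox c * ↑v⁻¹, ?_⟩
    have h1 : algebraMap E' O (algebraMap A₀ C σ₀ ⊗ₜ[A₀] 1 * z - c ⊗ₜ[A₀] 1) ∈ (maximalIdeal Ox).map ι := by
      have hle : Pc.map (Algebra.TensorProduct.includeLeftRingHom : C →+* E') ≤
          ((maximalIdeal Ox).map ι).comap (algebraMap E' O) := by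
        rw [← Ideal.map_le_iff_le_comap, Ideal.map_map,
          ← IsLocalization.AtPrime.map_eq_maximalIdeal Pc Ox, Ideal.map_map]
        exact le_of_eq (congrArg (fun f => Ideal.map f Pc) (RingHom.ext fun w => (hιC w).symm))
      exact hle hc
    rw [map_sub, map_mul, ← hιC, ← hιC, ← hv] at h1
    have h2 := Ideal.mul_mem_left _ (ι ↑v⁻¹) h1
    rw [mul_sub, ← mul_assoc, ← map_mul, Units.inv_mul, map_one, one_mul, ← map_mul, mul_comm (↑v⁻¹ : Ox)] at h2
    exact h2)
  have heXb : Function.Bijective (eX.residueFieldMap xh) :=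
    bijective_residueFieldMap_of_exists eX xh fun z => (hιres z).1 (hres z)
  haveI : Flat prX := (HasRingHomProperty.Spec_iff (P := @Flat)).2 (by
    haveI : Module.Flat A₀ R := IsLocalization.flat R P.primeCompl
    haveI : Module.Flat A₀ H := Module.Flat.trans A₀ R H
    exact (RingHom.flat_algebraMap_iff (R := C) (S := E')).2 inferInstance)
  haveI : IsOpenImmersion hX₀.fromSpec := hX₀.isOpenImmersion_fromSpec
  haveI : Flat eX := inferInstanceAs (Flat (prX ≫ hX₀.fromSpec))
  -- completion of the point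
  letI algOO : Algebra Ox O := ι.toAlgebra
  haveI : IsLocalHom (algebraMap Ox O) := hιloc
  haveI : Module.Flat Ox O := RingHom.flat_algebraMap_iff.1 (hιflat.2 (Flat.stalkMap eX xh))
  obtain ⟨_, htow, -⟩ := _root_.Groth.Agent.CommAlg6.exists_algebra_completion Ox O
  haveI := htow
  let ψ : EGA4.Cpl Ox →+* EGA4.Cpl O := algebraMap _ _
  have hψ : ψ.comp (algebraMap Ox (EGA4.Cpl Ox)) = (algebraMap O (EGA4.Cpl O)).comp (algebraMap Ox O) := by
    rw [← IsScalarTower.algebraMap_eq, ← IsScalarTower.algebraMap_eq]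
  have hψb : Function.Bijective ψ := _root_.Groth.Agent.CAlgH.completion_map_bijective Ox O hιm (fun z => by
    obtain ⟨w, rfl⟩ := IsLocalRing.residue_surjective z
    obtain ⟨r, hr⟩ := hres w
    exact ⟨IsLocalRing.residue Ox r, (IsLocalRing.ResidueField.map_residue _ r).trans (Ideal.Quotient.eq.2 hr).symm⟩) ψ hψ
  let φ' := φ.symm.trans (RingEquiv.ofBijective ψ hψb)
  let σ'' : Spec (CommRingCat.of H) ⟶ T := Spec.map (CommRingCat.ofHom σ) ≫ T.fromSpecStalk (q y)
  have hxy : pi xh = (pullback.snd q σ'') yσ := hpi.trans hyσc.symm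
  let toSt' := (Scheme.ΓSpecIso (CommRingCat.of H)).inv ≫ (Spec (CommRingCat.of H)).presheaf.germ ⊤ (pi xh) trivial
  letI algHS : Algebra H ↑((Spec (CommRingCat.of H)).presheaf.stalk (pi xh)) := toSt'.hom.toAlgebra
  haveI : IsLocalization.AtPrime ↑((Spec (CommRingCat.of H)).presheaf.stalk (pi xh)) (pi xh).asIdeal :=
    StructureSheaf.IsLocalization.to_stalk (R := H) (pi xh)
  have hGH : CAlg.IsGRing ↑((Spec (CommRingCat.of H)).presheaf.stalk (pi xh)) :=
    _root_.Groth.Agent.CAlgH.isGRing_localization (pi xh).asIdeal.primeCompl _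
      (_root_.Groth.Agent.CAlgH.isGRing_complete H)
  have hpiH : ∀ h : H, (pi.stalkMap xh).hom (algebraMap H _ h) = algebraMap E' O ((1 : C) ⊗ₜ[A₀] h) := by
    intro h
    show (pi.stalkMap xh).hom ((Spec (CommRingCat.of H)).presheaf.germ ⊤ (pi xh) trivial
      ((Scheme.ΓSpecIso (CommRingCat.of H)).inv h)) = _
    rw [Scheme.Hom.germ_stalkMap_apply pi ⊤ xh trivial]
    exact (congr((Spec (CommRingCat.of E')).presheaf.germ ⊤ xh trivial ($(Scheme.ΓSpecIso_inv_naturality
      (CommRingCat.ofHom (Algebra.TensorProduct.includeRight : H →ₐ[A₀] E').toRingHom)) h))).symm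
  have hφ' : φ'.toRingHom.comp ((algebraMap _ (AdicCompletion (maximalIdeal
          ↑((pullback q σ'').presheaf.stalk yσ)) _)).comp
        (((pullback.snd q σ'').stalkMap yσ).hom.comp
          ((Spec (CommRingCat.of H)).presheaf.stalkCongr (Inseparable.of_eq hxy)).hom.hom)) =
      (algebraMap O (AdicCompletion (maximalIdeal O) O)).comp (pi.stalkMap xh).hom := by
    refine IsLocalization.ringHom_ext (pi xh).asIdeal.primeCompl ?_
    letI algRO : Algebra R O := (ι.comp (p.stalkMap x).hom).toAlgebra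
    haveI : IsLocalHom (algebraMap R O) := RingHom.isLocalHom_comp ι (p.stalkMap x).hom
    have hA : ∀ r : R, algebraMap E' O ((1 : C) ⊗ₜ[A₀] algebraMap R H r) = ι ((p.stalkMap x).hom r) := by
      refine fun r => RingHom.congr_fun (IsLocalization.ringHom_ext (S := R) P.primeCompl
        (j := ((algebraMap E' O).comp (Algebra.TensorProduct.includeRight : H →ₐ[A₀] E').toRingHom).comp (algebraMap R H))
        (k := ι.comp (p.stalkMap x).hom) (RingHom.ext fun a => ?_)) r
      show algebraMap E' O ((1 : C) ⊗ₜ[A₀] algebraMap R H (algebraMap A₀ R a)) = ι ((p.stalkMap x).hom (algebraMap A₀ R a))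
      rw [← IsScalarTower.algebraMap_apply A₀ R H, ← hgerm, hιC]
      exact congrArg _ (by rw [Algebra.algebraMap_eq_smul_one a, Algebra.algebraMap_eq_smul_one a,
        TensorProduct.tmul_smul, TensorProduct.smul_tmul'])
    refine _root_.Groth.Agent.CAlgH.cpl_ringHom_ext R O _ _ (RingHom.ext fun r => ?_) (RingHom.ext fun r => ?_)
    · show φ' (algebraMap _ _ (((pullback.snd q σ'').stalkMap yσ).hom
        (((Spec (CommRingCat.of H)).presheaf.stalkCongr (Inseparable.of_eq hxy)).hom.hom
          ((Spec (CommRingCat.of H)).presheaf.germ ⊤ (pi xh) trivial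
            ((Scheme.ΓSpecIso (CommRingCat.of H)).inv (algebraMap R H r)))))) =
        algebraMap O (AdicCompletion (maximalIdeal O) O) (ι ((p.stalkMap x).hom r))
      rw [show ((Spec (CommRingCat.of H)).presheaf.stalkCongr (Inseparable.of_eq hxy)).hom.hom
          ((Spec (CommRingCat.of H)).presheaf.germ ⊤ (pi xh) trivial
            ((Scheme.ΓSpecIso (CommRingCat.of H)).inv (algebraMap R H r))) =
          (Spec (CommRingCat.of H)).presheaf.germ ⊤ ((pullback.snd q σ'') yσ) trivial
            ((Scheme.ΓSpecIso (CommRingCat.of H)).inv (algebraMap R H r)) from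
        congr($(TopCat.Presheaf.germ_stalkSpecializes (Spec (CommRingCat.of H)).presheaf
          (U := ⊤) trivial (Inseparable.of_eq hxy).ge) _)]
      erw [← RingHom.congr_fun hφ r]
      show ψ (φ.symm (φ (algebraMap Ox _ ((p.stalkMap x).hom r)))) = _
      rw [RingEquiv.symm_apply_apply]
      exact RingHom.congr_fun hψ _
    · show algebraMap O _ ((pi.stalkMap xh).hom (algebraMap H _ (algebraMap R H r))) =
        algebraMap O (AdicCompletion (maximalIdeal O) O) (ι ((p.stalkMap x).hom r))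
      rw [hpiH, hA]
  obtain ⟨U₁, u₁, e₁, heu, f₁, hfu, he₁, he₁b, hf₁, hf₁b, hfe, -⟩ :=
    _root_.Groth.Agent.S7203.result pi (pullback.snd q σ'') xh yσ hxy hGH φ' hφ' 1 le_rfl
  haveI := he₁; haveI := hf₁
  obtain ⟨Ua, hUa, hu₁, -⟩ := exists_isAffineOpen_mem_and_subset (x := u₁) (U := ⊤) trivial
  haveI : IsAffine Ua.toScheme := hUa
  let u : ↑Ua.toScheme := ⟨u₁, hu₁⟩
  -- the system
  let β : BT →+* H := σ.comp (T.presheaf.germ T₀ (q y) htT₀).hom
  have hσ'' : σ'' = Spec.map (CommRingCat.ofHom β) ≫ hT₀.fromSpec := by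
    show _ ≫ _ = _
    rw [← hT₀.fromSpecStalk_eq_fromSpecStalk htT₀, IsAffineOpen.fromSpecStalk, ← Spec.map_comp_assoc]
    rfl
  haveI hBT : Algebra.FiniteType ℤ BT := by
    have h1 := (specULiftZIsTerminal.from T).finiteType_appLE (isAffineOpen_top _) hT₀ (e := fun _ _ => trivial)
    have h2 := ((h1.comp (RingHom.FiniteType.of_surjective
      (Scheme.ΓSpecIso (CommRingCat.of (ULift.{u} ℤ))).inv.hom
      (ConcreteCategory.bijective_of_isIso (Scheme.ΓSpecIso (CommRingCat.of (ULift.{u} ℤ))).inv).2)).comp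
      (RingHom.FiniteType.of_surjective (ULift.ringEquiv.{0, u} (R := ℤ)).symm.toRingHom
        (RingEquiv.surjective _)))
    exact RingHom.finiteType_algebraMap.1 (Subsingleton.elim (algebraMap ℤ BT) _ ▸ h2)
  obtain ⟨gens, hgens⟩ := Algebra.FiniteType.out (R := ℤ) (A := BT)
  let G : Finset H := gens.image β
  have hβ : ∀ b, β b ∈ Algebra.adjoin A₀ (G : Set H) := fun b => by
    have hb : b ∈ Algebra.adjoin ℤ (gens : Set BT) := hgens ▸ Algebra.mem_top
    induction hb using Algebra.adjoin_induction with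
    | mem b hb => exact Algebra.subset_adjoin (Finset.mem_image_of_mem β hb)
    | algebraMap n => rw [eq_intCast, map_intCast]; exact intCast_mem _ n
    | add a b _ _ ha hb => rw [map_add]; exact add_mem ha hb
    | mul a b _ _ ha hb => rw [map_mul]; exact mul_mem ha hb
  let hU : Ua.toScheme ⟶ (_root_.Groth.Agent.FlatMor12.MatchSystem.cone A₀ G).pt := Ua.ι ≫ e₁ ≫ pi
  haveI : IsAffine (_root_.Groth.Agent.FlatMor12.MatchSystem.cone A₀ G).pt :=
    inferInstanceAs (IsAffine (Spec (CommRingCat.of H)))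
  haveI : IsLocallyNoetherian (_root_.Groth.Agent.FlatMor12.MatchSystem.cone A₀ G).pt :=
    inferInstanceAs (IsLocallyNoetherian (Spec (CommRingCat.of H)))
  haveI : LocallyOfFiniteType hU := inferInstanceAs (LocallyOfFiniteType (Ua.ι ≫ e₁ ≫ pi))
  haveI : LocallyOfFinitePresentation hU := (LocallyOfFinitePresentation.iff_locallyOfFiniteType).2 inferInstance
  obtain ⟨N, h₁, h₂, hs₁, het₁, hf₁', hs₂, het₂, hf₂'⟩ :=
    _root_.Groth.Agent.FlatMor12.MatchDescend.exists_two (hU := hU)
      (_root_.Groth.Agent.FlatMor12.MatchSystem.isLimit A₀ G) πX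
      (_root_.Groth.Agent.FlatMor12.MatchSystem.toBase A₀ G (𝟙 _)) ηA
      (fun i => (_root_.Groth.Agent.FlatMor12.MatchSystem.π_toBase A₀ G (𝟙 _) i).trans (Category.comp_id _))
      sqX (Ua.ι ≫ e₁) (Category.assoc _ _ _) q
      (_root_.Groth.Agent.FlatMor12.MatchSystem.toTarget A₀ G β hβ hT₀.fromSpec) σ''
      (fun i => (_root_.Groth.Agent.FlatMor12.MatchSystem.π_toTarget A₀ G β hβ hT₀.fromSpec i).trans hσ''.symm)
      (IsPullback.of_hasPullback q σ'') (Ua.ι ≫ f₁)
      (show (Ua.ι ≫ f₁) ≫ pullback.snd q σ'' = Ua.ι ≫ e₁ ≫ pi by rw [Category.assoc, hfe])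
  -- approximation at the stage
  let TJ : Type u := ↥(_root_.Groth.Agent.FlatMor12.MatchSystem.sub A₀ G N.j.unop)
  haveI : Algebra.FinitePresentation A₀ TJ := Algebra.FinitePresentation.of_finiteType.1 inferInstance
  let φD : TJ →ₐ[A₀] H := (_root_.Groth.Agent.FlatMor12.MatchSystem.sub A₀ G N.j.unop).val
  obtain ⟨C', _, _, hC', γ, Q', hQ', hQ'P, hmain⟩ :=
    _root_.Groth.Agent.CAlgH.ApproximationLocal.exists_etale_local P hG φD 1
  let R' : Type u := Localization.AtPrime Q'
  let ι' : R →+* R' := IsLocalization.lift (M := P.primeCompl)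
    (g := (algebraMap C' R').comp (algebraMap A₀ C')) fun σ₀ =>
    IsLocalization.map_units R' (⟨_, fun h => σ₀.2 (hQ'P.le h)⟩ : Q'.primeCompl)
  obtain ⟨hres', happ⟩ := hmain R' ι' (IsLocalization.lift_comp _)
  haveI hι'loc : IsLocalHom ι' := ⟨fun r hr => by
    obtain ⟨⟨a, σ₀⟩, hσ₀⟩ := IsLocalization.surj P.primeCompl r
    have h1 : IsUnit (algebraMap C' R' (algebraMap A₀ C' a)) := by
      have := hr.mul (IsLocalization.map_units R (σ₀ : P.primeCompl) |>.map ι')
      rwa [← map_mul, hσ₀, IsLocalization.lift_eq, RingHom.comp_apply] at this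
    have h2 : a ∉ P := fun ha => by
      rw [← hQ'P, Ideal.mem_comap, ← IsLocalization.AtPrime.to_map_mem_maximal_iff R' Q'] at ha
      exact (IsLocalRing.mem_maximalIdeal _).1 ha h1
    have h3 := IsLocalization.map_units R (⟨a, h2⟩ : P.primeCompl)
    rw [show ((⟨a, h2⟩ : P.primeCompl) : A₀) = a from rfl, ← hσ₀] at h3
    exact isUnit_of_mul_isUnit_left h3⟩
  haveI := _root_.Groth.Agent.CAlgH.isLocalHom_algebraMap_cpl R
  let κH : Type u := IsLocalRing.ResidueField H
  let eκ := RingEquiv.ofBijective (IsLocalRing.ResidueField.map ι')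
    ⟨(IsLocalRing.ResidueField.map ι').injective, fun z => by
      obtain ⟨w, rfl⟩ := IsLocalRing.residue_surjective z
      obtain ⟨r, hr⟩ := hres' w
      exact ⟨IsLocalRing.residue R r, (IsLocalRing.ResidueField.map_residue _ r).trans (Ideal.Quotient.eq.2 hr).symm⟩⟩
  let χR : R' →+* κH :=
    ((IsLocalRing.ResidueField.map (algebraMap R H)).comp eκ.symm.toRingHom).comp (IsLocalRing.residue R')
  let χ : C' →+* κH := χR.comp (algebraMap C' R')
  have hmH : maximalIdeal H = (maximalIdeal R).map (algebraMap R H) := AdicCompletion.maximalIdeal_eq_map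
  have key : ∀ d : TJ, χ (γ d) = IsLocalRing.residue H (φD d) := by
    intro d
    obtain ⟨c, hc⟩ := Ideal.Quotient.mk_surjective (AdicCompletion.evalₐ (maximalIdeal R) 1 (φD d))
    have h1 : algebraMap C' R' (γ d) - ι' c ∈ maximalIdeal R' := by simpa using happ d c hc.symm
    have h2 : φD d - algebraMap R H c ∈ maximalIdeal H := by
      have h3 : φD d - algebraMap R H c ∈ (maximalIdeal R ^ 1).map (algebraMap R H) := by
        refine _root_.Groth.Agent.CAlgH.Approximation.mem_map_pow (maximalIdeal R).fg_of_isNoetherianRing ?_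
        rw [map_sub, AlgHom.commutes, ← hc]
        exact sub_self _
      rw [hmH]
      simpa using h3
    show (IsLocalRing.ResidueField.map (algebraMap R H)) (eκ.symm (IsLocalRing.residue R' _)) = _
    rw [show IsLocalRing.residue R' (algebraMap C' R' (γ d)) = IsLocalRing.residue R' (ι' c) from Ideal.Quotient.eq.2 h1,
      ← IsLocalRing.ResidueField.map_residue ι' c,
      show IsLocalRing.ResidueField.map ι' (IsLocalRing.residue R c) = eκ (IsLocalRing.residue R c) from rfl,
      RingEquiv.symm_apply_apply, IsLocalRing.ResidueField.map_residue]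
    exact (Ideal.Quotient.eq.2 h2).symm
  have keyA : ∀ a : A₀, χ (algebraMap A₀ C' a) = IsLocalRing.residue H (algebraMap A₀ H a) := fun a => by
    rw [← γ.commutes, key, φD.commutes]
  have hκ : Function.Surjective (IsLocalRing.ResidueField.map (algebraMap R H)) := fun z => by
    obtain ⟨w, rfl⟩ := IsLocalRing.residue_surjective z
    obtain ⟨r, hr⟩ := _root_.Groth.Agent.CAlgH.EtaleApprox.exists_sub_mem R 1 w
    rw [pow_one] at hr
    exact ⟨IsLocalRing.residue R r, (IsLocalRing.ResidueField.map_residue _ r).trans (Ideal.Quotient.eq.2 hr).symm⟩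
  let gV : Spec (CommRingCat.of κH) ⟶ Spec (CommRingCat.of C') := Spec.map (CommRingCat.ofHom χ)
  haveI : SurjectiveOnStalks gV := SurjectiveOnStalks.Spec_iff.2
    (RingHom.SurjectiveOnStalks.comp
      (RingHom.surjectiveOnStalks_of_surjective
        ((hκ.comp eκ.symm.surjective).comp IsLocalRing.residue_surjective))
      (RingHom.surjectiveOnStalks_of_isLocalization Q'.primeCompl R'))
  let resH : Spec (CommRingCat.of κH) ⟶ Spec (CommRingCat.of H) := Spec.map (CommRingCat.ofHom (IsLocalRing.residue H))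
  let v : ↑(Spec (CommRingCat.of C')) := gV (closedPoint κH)
  let αA : Spec (CommRingCat.of C') ⟶ Spec (CommRingCat.of A₀) := Spec.map (CommRingCat.ofHom (algebraMap A₀ C'))
  haveI : Etale αA := (HasRingHomProperty.Spec_iff (P := @Etale)).2 (RingHom.etale_algebraMap.2 hC')
  let γS : Spec (CommRingCat.of C') ⟶ (_root_.Groth.Agent.FlatMor12.MatchSystem.diag A₀ G).obj N.j :=
    Spec.map (CommRingCat.ofHom γ.toRingHom)
  let τ : Spec (CommRingCat.of C') ⟶ T :=
    γS ≫ (_root_.Groth.Agent.FlatMor12.MatchSystem.toTarget A₀ G β hβ hT₀.fromSpec).app N.j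
  haveI : IsOpenImmersion hS₀.fromSpec := hS₀.isOpenImmersion_fromSpec
  let e : Spec (CommRingCat.of C') ⟶ S := αA ≫ hS₀.fromSpec
  have hγαA : γS ≫ (_root_.Groth.Agent.FlatMor12.MatchSystem.toBase A₀ G (𝟙 _)).app N.j = αA := by
    show Spec.map _ ≫ Spec.map _ ≫ 𝟙 _ = _
    rw [Category.comp_id, ← Spec.map_comp]
    exact congrArg (fun f => Spec.map (CommRingCat.ofHom f)) γ.comp_algebraMap
  have hgVτ : gV ≫ τ = resH ≫ σ'' := by
    rw [hσ'']
    show Spec.map _ ≫ Spec.map _ ≫ Spec.map _ ≫ _ = Spec.map _ ≫ Spec.map _ ≫ _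
    rw [← Spec.map_comp_assoc, ← Spec.map_comp_assoc, ← Spec.map_comp_assoc]
    congr 2
    exact CommRingCat.hom_ext (RingHom.ext fun b => key _)
  -- the field valued point
  let K : Type u := ↑(Ua.toScheme.residueField u)
  let gU : Spec (CommRingCat.of K) ⟶ Ua.toScheme := Ua.toScheme.fromSpecResidueField u
  have hgU : gU (closedPoint K) = u := Ua.toScheme.fromSpecResidueField_apply u _
  haveI : SurjectiveOnStalks gU := inferInstanceAs (SurjectiveOnStalks (Ua.toScheme.fromSpecResidueField u))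
  let θ : CommRingCat.of H ⟶ CommRingCat.of K := Spec.preimage (gU ≫ hU)
  have hθ : Spec.map θ = gU ≫ hU := Spec.map_preimage _
  have hθm : ∀ h ∈ maximalIdeal H, θ.hom h = 0 := by
    have h1 : Spec.map θ (closedPoint K) = closedPoint H := by
      rw [hθ]
      show hU (gU (closedPoint K)) = _
      rw [hgU]
      show pi (e₁ u₁) = _
      rw [heu, hpi]
    intro h hh
    by_contra hne
    have h2 := congrArg PrimeSpectrum.asIdeal h1
    have h3 : h ∈ (maximalIdeal K).comap θ.hom := h2.ge hh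
    exact (IsLocalRing.mem_maximalIdeal _).1 h3 (isUnit_iff_ne_zero.2 hne)
  let ζ : Spec (CommRingCat.of K) ⟶ Spec (CommRingCat.of κH) :=
    Spec.map (CommRingCat.ofHom (Ideal.Quotient.lift (maximalIdeal H) θ.hom hθm))
  have hζ : gU ≫ hU = ζ ≫ resH := by
    rw [← hθ, ← Spec.map_comp]
    rfl
  have hw₀ : (gU ≫ N.q) ≫ N.hj = (ζ ≫ gV) ≫ γS := by
    rw [Category.assoc, N.sq.w, ← Category.assoc, hζ]
    refine (Category.assoc _ _ _).trans (Eq.trans ?_ (Category.assoc _ _ _).symm)
    refine congrArg (fun f => ζ ≫ f) ?_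
    show Spec.map _ ≫ Spec.map _ = Spec.map _ ≫ Spec.map _
    rw [← Spec.map_comp, ← Spec.map_comp]
    congr 1
    exact CommRingCat.hom_ext (RingHom.ext fun d => (key d).symm)
  let w₀ : Spec (CommRingCat.of K) ⟶ pullback N.hj γS := pullback.lift (gU ≫ N.q) (ζ ≫ gV) hw₀
  have hζpt : ζ (closedPoint K) = closedPoint κH := eq_closedPoint _
  -- the two etale maps
  let g₁ : pullback N.hj γS ⟶ pullback πX αA := pullback.lift
    (pullback.fst N.hj γS ≫ h₁ ≫ pullback.fst πX _) (pullback.snd N.hj γS)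
    (by rw [Category.assoc, Category.assoc, pullback.condition, reassoc_of% hs₁, pullback.condition_assoc, hγαA])
  haveI : Etale g₁ := _root_.Groth.Agent.FlatMor12.MatchDescend.prop_lift πX _ _ γS hγαA h₁ hs₁
    (IsPullback.of_hasPullback _ _) g₁ (pullback.lift_fst _ _ _) (pullback.lift_snd _ _ _) het₁
  let b : pullback N.hj γS ⟶ pullback q τ := pullback.lift
    (pullback.fst N.hj γS ≫ h₂ ≫ pullback.fst q _) (pullback.snd N.hj γS)
    (by rw [Category.assoc, Category.assoc, pullback.condition, reassoc_of% hs₂, pullback.condition_assoc])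
  haveI hb : Etale b := _root_.Groth.Agent.FlatMor12.MatchDescend.prop_lift q _ τ γS rfl h₂ hs₂
    (IsPullback.of_hasPullback _ _) b (pullback.lift_fst _ _ _) (pullback.lift_snd _ _ _) het₂
  let a : pullback N.hj γS ⟶ X := g₁ ≫ pullback.fst πX αA ≫ hX₀.fromSpec
  have hw₀a : w₀ ≫ a = ((gU ≫ Ua.ι) ≫ e₁) ≫ eX := by
    simp only [a, g₁, w₀, eX, pullback.lift_fst_assoc, Category.assoc]
    rw [reassoc_of% hf₁']
  have hw₀y : w₀ ≫ b ≫ pullback.fst q τ = gU ≫ (Ua.ι ≫ f₁) ≫ pullback.fst q σ'' := by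
    rw [pullback.lift_fst, pullback.lift_fst_assoc, Category.assoc, hf₂']
  have hw₀v : w₀ ≫ b ≫ pullback.snd q τ = ζ ≫ gV := by
    rw [pullback.lift_snd, pullback.lift_snd]
  have hu₁pt : (gU ≫ Ua.ι) (closedPoint K) = u₁ := by
    rw [Scheme.Hom.comp_apply, hgU]; rfl
  haveI hSe : SurjectiveOnStalks ((gU ≫ Ua.ι) ≫ e₁) := surjectiveOnStalks_comp _ e₁ u₁ hu₁pt he₁b
  haveI hSf : SurjectiveOnStalks ((gU ≫ Ua.ι) ≫ f₁) := surjectiveOnStalks_comp _ f₁ u₁ hu₁pt hf₁b
  have hxpt : ((gU ≫ Ua.ι) ≫ e₁) (closedPoint K) = xh := by rw [Scheme.Hom.comp_apply, hu₁pt, heu]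
  have hcA : hX₀.fromSpec ≫ p = πX ≫ hS₀.fromSpec := (IsAffineOpen.SpecMap_appLE_fromSpec p hS₀ hX₀ hXS).symm
  refine ⟨Spec (CommRingCat.of C'), v, e, τ, pullback N.hj γS, w₀ (closedPoint K), a, b,
    inferInstanceAs (Etale (αA ≫ hS₀.fromSpec)), ?_, ?_, ?_,
    inferInstanceAs (Etale (g₁ ≫ pullback.fst πX αA ≫ hX₀.fromSpec)), ?_, ?_, ?_, hb, ?_, ?_, ?_⟩
  · refine S7202.specMap_fromSpec_apply hS₀ _ v ⟨p x, hsS₀⟩ (Ideal.ext fun a => ?_)
    show χ (algebraMap A₀ C' a) ∈ maximalIdeal κH ↔ a ∈ P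
    rw [keyA, IsScalarTower.algebraMap_apply A₀ R H, ← IsLocalization.AtPrime.to_map_mem_maximal_iff R P]
    simp only [IsLocalRing.mem_maximalIdeal, mem_nonunits_iff]
    rw [isUnit_map_iff (IsLocalRing.residue H), isUnit_map_iff (algebraMap R H)]
  · haveI : SurjectiveOnStalks (gV ≫ e) := by
      have h1 : gV ≫ αA = Spec.map (CommRingCat.ofHom
          (((IsLocalRing.ResidueField.map (algebraMap R H)).comp (IsLocalRing.residue R)).comp (algebraMap A₀ R))) := by
        rw [← Spec.map_comp]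
        refine congrArg Spec.map (CommRingCat.hom_ext (RingHom.ext fun a => (keyA a).trans ?_))
        rw [IsScalarTower.algebraMap_apply A₀ R H]
        exact (IsLocalRing.ResidueField.map_residue _ _).symm
      haveI : SurjectiveOnStalks (gV ≫ αA) := by
        rw [h1]
        exact SurjectiveOnStalks.Spec_iff.2 (RingHom.SurjectiveOnStalks.comp
          (RingHom.surjectiveOnStalks_of_surjective (hκ.comp IsLocalRing.residue_surjective))
          (RingHom.surjectiveOnStalks_of_isLocalization P.primeCompl R))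
      show SurjectiveOnStalks (gV ≫ αA ≫ hS₀.fromSpec)
      rw [← Category.assoc]
      infer_instance
    exact bijective_residueFieldMap gV e v rfl
  · show τ (gV (closedPoint κH)) = q y
    rw [← Scheme.Hom.comp_apply, hgVτ]
    show T.fromSpecStalk (q y) (Spec.map (CommRingCat.ofHom σ) (resH (closedPoint κH))) = q y
    rw [show resH (closedPoint κH) = closedPoint H from IsLocalRing.comap_closedPoint (IsLocalRing.residue H)]
    rw [show Spec.map (CommRingCat.ofHom σ) (closedPoint H) = closedPoint ↑(T.presheaf.stalk (q y)) from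
      IsLocalRing.comap_closedPoint σ]
    exact Scheme.fromSpecStalk_closedPoint
  · rw [← Scheme.Hom.comp_apply, hw₀a, Scheme.Hom.comp_apply, hxpt, heX]
  · haveI : SurjectiveOnStalks (w₀ ≫ a) := hw₀a ▸ surjectiveOnStalks_comp _ eX xh hxpt heXb
    exact bijective_residueFieldMap w₀ a _ rfl
  · show (g₁ ≫ pullback.fst πX αA ≫ hX₀.fromSpec) ≫ p = b ≫ pullback.snd q τ ≫ αA ≫ hS₀.fromSpec
    rw [Category.assoc, Category.assoc, hcA, pullback.condition_assoc, pullback.lift_snd_assoc,
      pullback.lift_snd_assoc]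
  · show pullback.fst q τ (b (w₀ (closedPoint K))) = y
    rw [← Scheme.Hom.comp_apply, ← Scheme.Hom.comp_apply, hw₀y]
    show pullback.fst q σ'' ((Ua.ι ≫ f₁) (gU (closedPoint K))) = y
    rw [hgU]
    show pullback.fst q σ'' (f₁ u₁) = y
    rw [hfu]
    exact hyσ
  · show pullback.snd q τ (b (w₀ (closedPoint K))) = v
    rw [← Scheme.Hom.comp_apply, ← Scheme.Hom.comp_apply, hw₀v, Scheme.Hom.comp_apply, hζpt]
  · -- the closed fibre of `Y_σ` inside `Y ×_T V`
    let F := pullback q (resH ≫ σ'')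
    let j₁ : F ⟶ pullback q σ'' := pullback.lift (pullback.fst _ _) (pullback.snd _ _ ≫ resH)
      (by rw [Category.assoc]; exact pullback.condition)
    let j₂ : F ⟶ pullback q τ := pullback.lift (pullback.fst _ _) (pullback.snd _ _ ≫ gV)
      (by rw [Category.assoc, hgVτ]; exact pullback.condition)
    have hj₂ : IsPullback j₂ (pullback.snd q (resH ≫ σ'')) (pullback.snd q τ) gV :=
      IsPullback.of_right (h₁₂ := pullback.fst q τ)
        (by rw [pullback.lift_fst, hgVτ]; exact IsPullback.of_hasPullback q (resH ≫ σ''))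
        (pullback.lift_snd _ _ _) (IsPullback.of_hasPullback q τ)
    haveI : SurjectiveOnStalks j₂ := MorphismProperty.of_isPullback hj₂.flip ‹SurjectiveOnStalks gV›
    let z₀ : Spec (CommRingCat.of K) ⟶ F := pullback.lift (gU ≫ (Ua.ι ≫ f₁) ≫ pullback.fst q σ'') ζ (by
      rw [← Category.assoc ζ, ← hζ]
      show _ = (gU ≫ Ua.ι ≫ e₁ ≫ pi) ≫ σ''
      simp only [Category.assoc]
      rw [pullback.condition, reassoc_of% hfe])
    have h1 : z₀ ≫ j₁ = (gU ≫ Ua.ι) ≫ f₁ := by
      apply pullback.hom_ext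
      · simp only [z₀, j₁, Category.assoc, pullback.lift_fst]
      · simp only [z₀, j₁, Category.assoc, pullback.lift_snd, pullback.lift_snd_assoc]
        rw [← hζ, hfe]
        rfl
    haveI : SurjectiveOnStalks (z₀ ≫ j₁) := h1 ▸ hSf
    haveI : SurjectiveOnStalks z₀ := SurjectiveOnStalks.of_comp z₀ j₁
    have h2 : w₀ ≫ b = z₀ ≫ j₂ := by
      apply pullback.hom_ext
      · rw [Category.assoc, hw₀y]
        simp only [z₀, j₂, Category.assoc, pullback.lift_fst]
      · rw [Category.assoc, hw₀v]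
        simp only [z₀, j₂, Category.assoc, pullback.lift_snd, pullback.lift_snd_assoc]
    haveI : SurjectiveOnStalks (w₀ ≫ b) := h2 ▸ inferInstance
    exact bijective_residueFieldMap w₀ b _ rfl

end Groth.Agent.S7238
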