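import Groth.Statements.S7239
import Groth.Agent.Dual22Lib.AdjExists

set_option autoImplicit false
universe u
open CategoryTheory CategoryTheory.Limits AlgebraicGeometry
attribute [local instance] HasDerivedCategory.standard
open Perf

namespace Groth.Agent.S7239

/-- Let X be a quasi-compact and quasi-separated scheme. Then the inclusion functor of the full
subcategory D_QCoh(O_X) of D(O_X) (objects all of whose cohomology sheaves are quasi-coherent) into
D(O_X) is a left adjoint, i.e. it admits a right adjoint D(O_X) ⥤ D_QCoh(O_X). -/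
theorem result (X : Scheme.{u}) [CompactSpace ↥X] [QuasiSeparatedSpace ↥X] :
    (ObjectProperty.ι (DCoh.IsQCohD (X := X))).IsLeftAdjoint := by
  haveI : QuasiSeparated (𝟙 X) := inferInstance
  haveI := Groth.Agent.DCat.hasRpush (𝟙 X)
  obtain ⟨a, ha⟩ := Groth.Agent.Dual22Lib.AdjGeom.exists_adj (𝟙 X)
  haveI := ha
  let hR := a.fullyFaithfulROfIsIsoCounit
  refine Functor.isLeftAdjoint_of_rightAdjointObjIsDefined_eq_top ?_
  ext M
  simp only [Pi.top_apply, Prop.top_eq_true, iff_true]
  obtain ⟨A, ε, hA, hrep⟩ := Groth.Agent.Dual22Lib.AdjGeom.hasRep (𝟙 X) ((DCoh.Rpush (𝟙 X)).obj M)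
  obtain ⟨ε₀, rfl⟩ := (hR.map_bijective _ _).2 ε
  have hb : ∀ K : DCoh.DQCoh X, Function.Bijective (fun g : K.obj ⟶ A => g ≫ ε₀) := fun K => by
    refine (Function.Bijective.of_comp_iff' (hR.map_bijective K.obj M) _).1 ?_
    have := hrep K.obj K.property
    unfold Groth.Agent.Dual22Lib.AdjGlue.Rep at this
    simpa [Function.comp_def, Functor.map_comp] using this
  rw [Functor.rightAdjointObjIsDefined_iff]
  exact Functor.RepresentableBy.isRepresentable (Y := ⟨A, hA⟩)
    { homEquiv := fun {K} => ((ObjectProperty.fullyFaithfulι DCoh.IsQCohD).homEquiv (X := K) (Y := ⟨A, hA⟩)).trans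
        (Equiv.ofBijective _ (hb K))
      homEquiv_comp := fun {K K'} p g => Category.assoc p.hom g.hom ε₀ }

end Groth.Agent.S7239
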