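import Groth.Statements.S7240
import Groth.Agent.DQCoh.RelTorBC

set_option autoImplicit false
universe u
open CategoryTheory CategoryTheory.Limits AlgebraicGeometry
attribute [local instance] HasDerivedCategory.standard
open Perf

namespace Groth.Agent.S7240

open CategoryTheory CategoryTheory.Limits AlgebraicGeometry Groth.Agent.DCat Groth.Agent.Coherent DerivedCategory

theorem aux {X : Scheme.{u}} (m : ℤ) (E : DCoh.D X) (hE : DCoh.IsPseudoCoherentD m E) :
    (∀ i : ℤ, m < i → Coh.IsQCoh (DCoh.HD E i)) ∧ ∀ x : X, ∃ (V : X.Opens) (Q : (V : Scheme.{u}).Modules)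
      (π : Q ⟶ (Scheme.Modules.restrictFunctor V.ι).obj (DCoh.HD E m)), x ∈ V ∧ Coh.IsQCoh Q ∧ Epi π := by
  choose A hA k hk M α hx hM hα using fun x : X => DQCoh.exists_affine_approx hE x
  haveI := hk
  refine ⟨fun i hi => isQCoh_of_openImmersion_cover _ k (fun x => ⟨x, hx x⟩) fun x => ?_, fun x => ?_⟩
  · haveI := hA x
    haveI := (hα x).1 i hi
    exact isQCoh_of_iso (asIso ((homologyFunctor _ i).map (α x)) ≪≫
      (SuppOpen.hdMapIso (Scheme.Modules.restrictFunctor (k x)) E i)) (h := DQCoh.isQCohD_tildeD (A x) (M x) i)
  · haveI := hA x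
    let V := (k x).opensRange
    let r := Scheme.Modules.restrictFunctor (k x).isoOpensRange.inv
    let H := (homologyFunctor _ m).obj ((DCoh.tildeD (A x)).obj (M x))
    haveI : Coh.IsQCoh H := DQCoh.isQCohD_tildeD (A x) (M x) m
    haveI : PreservesFiniteColimits r :=
      haveI : r.IsLeftAdjoint := (Scheme.Modules.restrictAdjunction (k x).isoOpensRange.inv).isLeftAdjoint
      inferInstance
    haveI : Epi ((homologyFunctor _ m).map (α x)) := (hα x).2
    let e : r.obj ((Scheme.Modules.restrictFunctor (k x)).obj (DCoh.HD E m)) ≅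
        (Scheme.Modules.restrictFunctor V.ι).obj (DCoh.HD E m) :=
      (Scheme.Modules.restrictFunctorComp (k x).isoOpensRange.inv (k x)).symm.app _ ≪≫
        (Scheme.Modules.restrictFunctorCongr (k x).isoOpensRange_inv_comp).app _
    exact ⟨V, r.obj H, r.map ((homologyFunctor _ m).map (α x) ≫
      (SuppOpen.hdMapIso (Scheme.Modules.restrictFunctor (k x)) E m).hom) ≫ e.hom, hx x,
      (inferInstance : Coh.IsQCoh (H.restrict (k x).isoOpensRange.inv)), inferInstance⟩


/-- Let X be a scheme, m an integer and E an m-pseudo-coherent object of D(O_X). Then the cohomology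
sheaf Hⁱ(E) is quasi-coherent for every i > m, and Hᵐ(E) is, locally on X, a quotient of a
quasi-coherent module: every point of X has an open neighbourhood V and a quasi-coherent O_V-module
mapping onto Hᵐ(E)|_V. (The published statement says that Hᵐ(E) is a quotient of a quasi-coherent
O_X-module; its proof gives this only locally on X, which is what this row states, and the global
form fails: on the affine plane over ℚ, the direct image of an invertible module over the inverse
image of O_X on a triangle of three lines, twisted by the constant 2 around the cycle, is an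
O_X-module of finite type with no nonzero global section, so it is not a quotient of any
quasi-coherent module.) -/
theorem result {X : Scheme.{u}} (m : ℤ) (E : DCoh.D X)
    (hE : DCoh.IsPseudoCoherentD m E) :
    (∀ i : ℤ, m < i → Coh.IsQCoh (DCoh.HD E i)) ∧
      ∀ x : X, ∃ (V : X.Opens) (Q : (V : Scheme.{u}).Modules)
        (π : Q ⟶ (Scheme.Modules.restrictFunctor V.ι).obj (DCoh.HD E m)), x ∈ V ∧ Coh.IsQCoh Q ∧ Epi π := by
  exact aux m E hE

end Groth.Agent.S7240
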