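import Groth.Statements.S7242
import Groth.Agent.DQCoh.ResPropCrit17
-- import your own Groth.Agent.* helpers here

set_option autoImplicit false
set_option backward.isDefEq.respectTransparency false
universe u
open CategoryTheory CategoryTheory.Limits AlgebraicGeometry
attribute [local instance] HasDerivedCategory.standard
open Perf

namespace Groth.Agent.S7242
open Groth.Agent Groth.Agent.Coherent

/-- Let X be a scheme, X = U_1 ∪ … ∪ U_m a finite covering by affine opens, and I_1, …, I_m
quasi-coherent ideal sheaves of finite type with V(I_j) = X ∖ U_j as sets. Then X has the resolution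
property (every quasi-coherent O_X-module of finite type is a quotient of a finite locally free
O_X-module) if and only if, for every j, the ideal sheaf I_j regarded as an O_X-module is a quotient
of a finite locally free O_X-module. -/
theorem result (X : Scheme.{u}) {m : ℕ} (U : Fin m → X.Opens)
    (hUaff : ∀ j, IsAffineOpen (U j)) (hcov : ⨆ j, U j = ⊤) (I : Fin m → X.IdealSheafData)
    (hIft : ∀ j, CohB1.IsFT (ClSub.idealMod (I j))) (hIsupp : ∀ j, ((I j).support : Set ↥X) = (U j : Set ↥X)ᶜ) :
    PerfAux.HasResolutionProperty X ↔
      ∀ j, ∃ (E : X.Modules) (π : E ⟶ ClSub.idealMod (I j)), FlatMod.IsFinLocFree E ∧ Epi π := by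
    constructor
    · intro h j
      haveI : Coh.IsQCoh (ClSub.idealMod (I j)) := by
        haveI : Coh.IsQCoh (Coh.structureModule X) := Coherent.isQCoh_structureModule (X := X)
        haveI : Coh.IsQCoh (Coh.structureModule (I j).subscheme) :=
          Coherent.isQCoh_structureModule (X := (I j).subscheme)
        haveI : Coh.IsQCoh ((Scheme.Modules.pushforward (I j).subschemeι).obj
            (Coh.structureModule (I j).subscheme)) := Coherent.isQCoh_push (I j).subschemeι _
        exact Coherent.isQCoh_kernel (ClSub.toSubscheme (I j))
      exact h _ this (hIft j)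
    · intro h
      choose E π hE hπ using h
      have hqI : ∀ j, Coh.IsQCoh (ClSub.idealMod (I j)) := fun j => by
        haveI : Coh.IsQCoh (Coh.structureModule X) := Coherent.isQCoh_structureModule (X := X)
        haveI : Coh.IsQCoh (Coh.structureModule (I j).subscheme) :=
          Coherent.isQCoh_structureModule (X := (I j).subscheme)
        haveI : Coh.IsQCoh ((Scheme.Modules.pushforward (I j).subschemeι).obj
            (Coh.structureModule (I j).subscheme)) := Coherent.isQCoh_push (I j).subschemeι _
        exact Coherent.isQCoh_kernel (ClSub.toSubscheme (I j))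
      have hFG : ∀ j (A : X.affineOpens), ((I j).ideal A).FG := fun j A => by
        haveI := hqI j
        haveI := H8Lim.finite_sections_of_isFT (hIft j) A.2
        have hrange : LinearMap.range (appLin (ClSub.idealModι (I j)) A.1) = (I j).ideal A := by
          ext f
          rw [← (I j).ker_subschemeι_app A, RingHom.mem_ker, LinearMap.mem_range]
          exact AmpleLib.mem_range_idealModι (I j) A.1 f
        rw [← hrange, LinearMap.range_eq_map]
        exact Module.Finite.fg_top.map _
      have hcpt : ∀ j (A : X.affineOpens), IsCompact ((A.1 : Set X) ∩ (U j : Set X)) := fun j A => by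
        obtain ⟨s, hs⟩ := hFG j A
        have hz : (A.1 : Set X) ∩ (U j : Set X) = ⋃ f ∈ s, (X.basicOpen f : Set X) := by
          ext x
          simp only [Set.mem_inter_iff, Set.mem_iUnion, SetLike.mem_coe, exists_prop]
          constructor
          · rintro ⟨hxA, hxU⟩
            have hx : x ∉ ((I j).support : Set X) := by rw [hIsupp]; exact fun h => h hxU
            rw [SetLike.mem_coe, Scheme.IdealSheafData.mem_support_iff_of_mem hxA, ← hs,
              Ideal.span, ← Ideal.span, Scheme.zeroLocus_span, Scheme.mem_zeroLocus_iff] at hx
            simpa using hx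
          · rintro ⟨f, hf, hxf⟩
            have hxA : x ∈ A.1 := X.basicOpen_le f hxf
            refine ⟨hxA, by_contra fun hxU => ?_⟩
            have hx : x ∈ ((I j).support : Set X) := by rw [hIsupp]; exact hxU
            rw [SetLike.mem_coe, Scheme.IdealSheafData.mem_support_iff_of_mem hxA,
              Scheme.mem_zeroLocus_iff] at hx
            exact hx f (hs ▸ Ideal.subset_span hf) hxf
        rw [hz]
        exact s.isCompact_biUnion fun f _ => (A.2.basicOpen f).isCompact
      have hx : ∀ x : X, ∃ j, x ∈ U j := fun x =>
        TopologicalSpace.Opens.mem_iSup.1 (hcov.ge (TopologicalSpace.Opens.mem_top x))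
      haveI : CompactSpace X := ⟨by
        rw [show (Set.univ : Set X) = ⋃ j, (U j : Set X) from
          (Set.eq_univ_of_forall fun x => Set.mem_iUnion.2 (hx x)).symm]
        exact isCompact_iUnion fun j => (hUaff j).isCompact⟩
      haveI : QuasiSeparatedSpace X := quasiSeparatedSpace_iff_forall_affineOpens.2 fun A B => by
        rw [show (A.1 : Set X) ∩ (B.1 : Set X) =
            ⋃ j, (((A.1 : Set X) ∩ (U j : Set X)) ∩ ((B.1 : Set X) ∩ (U j : Set X))) from Set.ext fun x =>
          ⟨fun ⟨ha, hb⟩ => Set.mem_iUnion.2 ((hx x).imp fun j hj => ⟨⟨ha, hj⟩, ⟨hb, hj⟩⟩),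
            fun h => (Set.mem_iUnion.1 h).elim fun j hj => ⟨hj.1.1, hj.2.1⟩⟩]
        exact isCompact_iUnion fun j => (hUaff j).isQuasiSeparated _ _ Set.inter_subset_right
          (A.1.2.inter (U j).2) (hcpt j A) Set.inter_subset_right (B.1.2.inter (U j).2) (hcpt j B)
      haveI := hπ
      haveI := fun j => CAlgH3.LocFreeFactor.isQCoh_of_finLocFree (hE j)
      exact ResPropCrit17.hasResolutionProperty_of_cosections U hUaff hx E hE
        (fun j => π j ≫ ClSub.idealModι (I j)) fun j => by
          rw [CosecLocus17.support_coker_of_epi (I j) (π j), hIsupp]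

end Groth.Agent.S7242

#print axioms Groth.Agent.S7242.result
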