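import Groth.Statements.S7251
import Groth.Agent.DQCoh.Local

set_option autoImplicit false
universe u
open CategoryTheory CategoryTheory.Limits AlgebraicGeometry
attribute [local instance] HasDerivedCategory.standard
open Perf

namespace Groth.Agent.S7251

/-- Let f : X ⟶ Y be a quasi-compact and quasi-separated morphism of schemes. Assume Rf_* exists and
sends D_QCoh(O_X) into D_QCoh(O_Y), let an adjunction Lf^* ⊣ Rf_* be given as data, and assume the
inclusion functors D_QCoh ⥤ D have (chosen) right adjoints DQ_X and DQ_Y. Then Rf_* ∘ DQ_X = DQ_Y ∘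
Rf_*: for every K ∈ D(O_X) the comparison map Rf_*(DQ_X K) ⟶ DQ_Y(Rf_* K) in D_QCoh(O_Y),
corresponding under the adjunction to Rf_* applied to the counit DQ_X K ⟶ K, is an isomorphism. -/
theorem result {X Y : Scheme.{u}} (f : X ⟶ Y) [QuasiCompact f] [QuasiSeparated f]
    [DCoh.HasRpush f] (h : DCoh.RpushPreservesQCoh f) [DCoh.HasLpull f] (adj : DCoh.Lpull f ⊣ DCoh.Rpush f)
    [(ObjectProperty.ι (DCoh.IsQCohD (X := X))).IsLeftAdjoint] [(ObjectProperty.ι (DCoh.IsQCohD (X := Y))).IsLeftAdjoint]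
    (K : DCoh.D X) :
    IsIso ((Adjunction.ofIsLeftAdjoint (ObjectProperty.ι (DCoh.IsQCohD (X := Y)))).homEquiv
      (⟨(DCoh.Rpush f).obj (((ObjectProperty.ι (DCoh.IsQCohD (X := X))).rightAdjoint.obj K).obj),
        h _ (((ObjectProperty.ι (DCoh.IsQCohD (X := X))).rightAdjoint.obj K).property)⟩ : DCoh.DQCoh Y)
      ((DCoh.Rpush f).obj K)
      ((DCoh.Rpush f).map ((Adjunction.ofIsLeftAdjoint (ObjectProperty.ι (DCoh.IsQCohD (X := X)))).counit.app K))) := by
  let ιX := ObjectProperty.ι (DCoh.IsQCohD (X := X))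
  let ιY := ObjectProperty.ι (DCoh.IsQCohD (X := Y))
  let aX := Adjunction.ofIsLeftAdjoint ιX
  let aY := Adjunction.ofIsLeftAdjoint ιY
  let A := ιX.rightAdjoint.obj K
  let R := DCoh.Rpush f
  let A' : DCoh.DQCoh Y := ⟨R.obj A.obj, h _ A.property⟩
  let φ : A' ⟶ ιY.rightAdjoint.obj (R.obj K) := aY.homEquiv A' (R.obj K) (R.map (aX.counit.app K))
  show IsIso φ
  have hφ : φ.hom ≫ aY.counit.app (R.obj K) = R.map (aX.counit.app K) := by
    have := (aY.homEquiv A' (R.obj K)).symm_apply_apply (R.map (aX.counit.app K))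
    rw [Adjunction.homEquiv_counit] at this
    exact this
  have hb : ∀ L : DCoh.DQCoh Y, Function.Bijective (fun g : L ⟶ A' => g ≫ φ) := fun L => by
    let P : DCoh.DQCoh X := ⟨(DCoh.Lpull f).obj L.obj, Groth.Agent.DQCoh.isQCohD_Lpull f L.obj L.property⟩
    let e : (L ⟶ A') ≃ (L.obj ⟶ R.obj K) :=
      ((ObjectProperty.fullyFaithfulι _).homEquiv (X := L) (Y := A')).trans
        ((adj.homEquiv L.obj A.obj).symm.trans
          (((ObjectProperty.fullyFaithfulι _).homEquiv (X := P) (Y := A)).symm.trans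
            ((aX.homEquiv P K).symm.trans (adj.homEquiv L.obj K))))
    have he : ∀ g, (aY.homEquiv L (R.obj K)).symm (g ≫ φ) = e g := fun g => by
      rw [Adjunction.homEquiv_counit]
      show (g.hom ≫ φ.hom) ≫ aY.counit.app (R.obj K) = _
      rw [Category.assoc, hφ]
      symm
      show adj.homEquiv L.obj K ((aX.homEquiv P K).symm _) = _
      rw [Adjunction.homEquiv_counit (adj := aX)]
      show adj.homEquiv L.obj K ((adj.homEquiv L.obj A.obj).symm g.hom ≫ aX.counit.app K) = _
      rw [Adjunction.homEquiv_naturality_right, Equiv.apply_symm_apply]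
    refine (Function.Bijective.of_comp_iff' (aY.homEquiv L (R.obj K)).symm.bijective _).1 ?_
    rw [show (aY.homEquiv L (R.obj K)).symm ∘ (fun g : L ⟶ A' => g ≫ φ) = e from funext he]
    exact e.bijective
  obtain ⟨g, hg⟩ := (hb (ιY.rightAdjoint.obj (R.obj K))).2 (𝟙 _)
  simp only at hg
  refine ⟨g, ?_, hg⟩
  apply (hb A').1
  simp only [Category.assoc, hg, Category.comp_id, Category.id_comp]

end Groth.Agent.S7251
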