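import Groth.Statements.S7255
import Groth.Agent.Dual22Lib.CorefBound

set_option autoImplicit false
universe u
open CategoryTheory CategoryTheory.Limits AlgebraicGeometry
attribute [local instance] HasDerivedCategory.standard
open Perf

namespace Groth.Agent.S7255

/-- Let X be a quasi-compact and quasi-separated scheme and let DQ_X be the (chosen) right adjoint of
the inclusion D_QCoh(O_X) ⥤ D(O_X). Assuming the derived global sections functors RΓ(U, -) exist on
D(O_U) for the opens U of X, there is an integer N = N(X) ≥ 0 with the following property: if K ∈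
D(O_X) satisfies Hⁱ(U, K|_U) = 0 for every affine open U ⊆ X and every i ∉ [a, b], then the
cohomology sheaves Hⁱ(DQ_X(K)) are zero for i ∉ [a, b + N]. -/
theorem result (X : Scheme.{u}) [CompactSpace ↥X] [QuasiSeparatedSpace ↥X]
    [(ObjectProperty.ι (DCoh.IsQCohD (X := X))).IsLeftAdjoint] [∀ U : X.Opens, DCoh.HasRΓ (U : Scheme.{u})] :
    ∃ N : ℕ, ∀ (K : DCoh.D X) (a b : ℤ),
      (∀ U : X.Opens, IsAffineOpen U → ∀ i : ℤ, (i < a ∨ b < i) →
        IsZero ((DerivedCategory.homologyFunctor AddCommGrpCat.{u} i).obj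
          ((DCoh.RΓ (U : Scheme.{u})).obj ((DCoh.restrictD U.ι).obj K)))) →
      ∀ i : ℤ, (i < a ∨ b + (N : ℤ) < i) →
        IsZero (DCoh.HD (((ObjectProperty.ι (DCoh.IsQCohD (X := X))).rightAdjoint.obj K).obj) i) := by
  obtain ⟨N, hN⟩ := Dual22Lib.CorefBound.bd X
  refine ⟨N, fun K a b h i hi => ?_⟩
  let adj := Adjunction.ofIsLeftAdjoint (ObjectProperty.ι (DCoh.IsQCohD (X := X)))
  refine hN K a b (fun U hU k hk φ => ?_) _ (adj.counit.app K)
    ((ObjectProperty.ι (DCoh.IsQCohD (X := X))).rightAdjoint.obj K).property (fun W hW => ?_) i hi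
  · haveI := DCat.PullPerf.preservesFiniteLimits_restrict U.ι
    exact Dual22Lib.CorefBound.eq_zero_of_RΓ K U k (h U hU k hk) φ
  · refine Function.bijective_iff_has_inverse.2 ⟨fun y => (adj.homEquiv ⟨W, hW⟩ K y).hom, fun g => ?_, fun y => ?_⟩
    · have := (adj.homEquiv ⟨W, hW⟩ K).apply_symm_apply (ObjectProperty.homMk g)
      rw [Adjunction.homEquiv_counit] at this
      exact congrArg (fun t => t.hom) this
    · have := (adj.homEquiv ⟨W, hW⟩ K).symm_apply_apply y
      rw [Adjunction.homEquiv_counit] at this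
      exact this

end Groth.Agent.S7255
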