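import Groth.Statements.S7259
import Groth.Agent.Dual22Lib.RelAmpStalk
import Groth.Agent.DCat.AmpLocal
import Groth.Agent.FlatCx12.DiagDim

set_option autoImplicit false
universe u
open CategoryTheory CategoryTheory.Limits AlgebraicGeometry
attribute [local instance] HasDerivedCategory.standard
open Perf

set_option backward.isDefEq.respectTransparency false
set_option backward.defeqAttrib.useBackward true
set_option backward.isDefEq.respectTransparency.types false
set_option linter.style.haveILetI false
attribute [local instance] HasDerivedCategory.standard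
attribute [-instance] Int.instConditionallyCompleteLinearOrder

namespace Groth.Agent.S7259

/-- Let R → A be a ring map, f : X = Spec A ⟶ S = Spec R the induced morphism, M an object of D(A), and
F a cochain complex of O_X-modules representing the associated object E = M~ of D(O_X) (tilde
recorded as exact). Then, viewed over f⁻¹O_S, the object E is of tor amplitude [a, b], in the
stalkwise form (at every x ∈ X the complex of stalks F_x has tor amplitude in [a, b] over the local
ring O_{S, f(x)}), precisely when the R-module complex obtained from M is of tor amplitude [a, b]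
(its restriction of scalars is isomorphic in D(R) to a complex of flat R-modules vanishing outside
[a, b]). -/
theorem result {R A : Type u} [CommRing R] [CommRing A] (φ : R →+* A)
    [PreservesFiniteLimits (tilde.functor (CommRingCat.of A))] (M : Dual.D A)
    (F : CochainComplex (Spec (CommRingCat.of A)).Modules ℤ)
    (hF : Nonempty (DCoh.toD (Spec (CommRingCat.of A)) F ≅ (DCoh.tildeD (CommRingCat.of A)).obj M)) (a b : ℤ) :
    DerSch.HasTorAmplitude (Spec.map (CommRingCat.ofHom φ)) a b F ↔
      DRing.HasTorAmplitudeIn R a b ((DRing.restrictD φ).obj M) := by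
  haveI : (tilde.functor (CommRingCat.of A)).Additive :=
    (fun (B : CommRingCat.{u}) => (inferInstance : (tilde.functor B).Additive)) (CommRingCat.of A)
  haveI : PreservesFiniteColimits (tilde.functor (CommRingCat.of A)) :=
    (fun (B : CommRingCat.{u}) => (inferInstance : PreservesFiniteColimits (tilde.functor B))) (CommRingCat.of A)
  obtain ⟨e⟩ := hF
  let E := DerivedCategory.Q.objPreimage M
  let G := ((tilde.functor (CommRingCat.of A)).mapHomologicalComplex (ComplexShape.up ℤ)).obj E
  let eE : DRing.toD E ≅ M := DerivedCategory.Q.objObjPreimageIso M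
  let eG : DCoh.toD _ G ≅ DCoh.toD _ F :=
    ((tilde.functor (CommRingCat.of A)).mapDerivedCategoryFactors.app E).symm ≪≫
      (DCoh.tildeD (CommRingCat.of A)).mapIso eE ≪≫ e.symm
  let eR : DRing.toD ((DRing.restrictCx φ).obj E) ≅ (DRing.restrictD φ).obj M :=
    ((ModuleCat.restrictScalars φ).mapDerivedCategoryFactors.app E).symm ≪≫ (DRing.restrictD φ).mapIso eE
  constructor
  · intro h
    refine FlatCx12.TorAmpComp.amp_iso eR ?_
    letI := φ.toAlgebra
    refine DCat.AmpLocal.flatAmp_of_local R A E a b fun m hm => ?_
    let x : Spec (CommRingCat.of A) := ⟨m, hm.isPrime⟩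
    let s := (Spec.map (CommRingCat.ofHom φ)).base x
    let A' := (Spec (CommRingCat.of R)).presheaf.stalk s
    let O := (Spec (CommRingCat.of A)).presheaf.stalk x
    let σ : A' →+* O := ((Spec.map (CommRingCat.ofHom φ)).stalkMap x).hom
    let κ : A →+* O := DCat.stalkφ x
    have hσ : σ.comp (DCat.stalkφ s) = κ.comp φ :=
      RingHom.ext fun r => stalkMap_toStalk_apply (CommRingCat.ofHom φ) x r
    let et : (DRing.restrictCx σ).obj ((DTen.extCx κ).obj E) ≅ (DerSch.stalkCxOver (Spec.map (CommRingCat.ofHom φ)) x).obj G :=
      ((ModuleCat.restrictScalars.{u} σ).mapHomologicalComplex (ComplexShape.up ℤ)).mapIso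
        ((NatIso.mapHomologicalComplex (DCat.tildeStalkIso x) (ComplexShape.up ℤ)).app E)
    have hs : (DCat.stalkφ s).Flat := by
      letI := (DCat.stalkφ s).toAlgebra
      haveI : IsLocalization s.asIdeal.primeCompl A' := StructureSheaf.IsLocalization.to_stalk (CommRingCat.of R) s
      exact RingHom.flat_algebraMap_iff.2 (IsLocalization.flat A' s.asIdeal.primeCompl)
    obtain ⟨r₁⟩ := FlatCx12.DiagDim.nonempty_restrict_comp (DCat.stalkφ s) σ (κ.comp φ) hσ.symm ((DTen.extCx κ).obj E)
    have h1 : DRing.HasTorAmplitudeIn R a b (DRing.toD ((DRing.restrictCx (κ.comp φ)).obj ((DTen.extCx κ).obj E))) :=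
      FlatCx12.TorAmpComp.amp_iso (DerivedCategory.Q.mapIso r₁) (FlatCx12.DiagDim.amp_restrict_of_flat _ hs _
        (FlatCx12.TorAmpComp.amp_iso (DerivedCategory.Q.mapIso et.symm) (FlatCx12.AmpThick.amp_congr _ x eG.symm (h x))))
    let α := algebraMap A (Localization.AtPrime m)
    letI : Algebra A O := κ.toAlgebra
    haveI : IsLocalization m.primeCompl O := StructureSheaf.IsLocalization.to_stalk (CommRingCat.of A) x
    let ε : O ≃ₐ[A] Localization.AtPrime m := IsLocalization.algEquiv m.primeCompl O (Localization.AtPrime m)
    let N₁ : ModuleCat.{u} A := (ModuleCat.restrictScalars κ).obj (ModuleCat.of O O)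
    let N₂ : ModuleCat.{u} A := (ModuleCat.restrictScalars α).obj (ModuleCat.of (Localization.AtPrime m) (Localization.AtPrime m))
    let ν : N₁ ≅ N₂ := LinearEquiv.toModuleIso (X₁ := N₁) (X₂ := N₂)
      { ε.toRingEquiv.toAddEquiv with
        map_smul' := fun r y => by
          show ε (κ r * (show O from y)) = α r * ε y
          rw [map_mul]
          exact congrArg (· * _) (ε.commutes r) }
    let η : ModuleCat.extendScalars κ ⋙ ModuleCat.restrictScalars (κ.comp φ) ≅
        ModuleCat.extendScalars α ⋙ ModuleCat.restrictScalars (α.comp φ) :=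
      Functor.isoWhiskerLeft _ (ModuleCat.restrictScalarsComp' φ κ (κ.comp φ) rfl) ≪≫ (Functor.associator _ _ _).symm ≪≫
        Functor.isoWhiskerRight ((DCat.restrictExtIso κ).symm ≪≫ (MonoidalCategory.tensoringLeft (ModuleCat.{u} A)).mapIso ν ≪≫
          DCat.restrictExtIso α) (ModuleCat.restrictScalars φ) ≪≫ Functor.associator _ _ _ ≪≫
        Functor.isoWhiskerLeft _ (ModuleCat.restrictScalarsComp' φ α (α.comp φ) rfl).symm
    let e₂ : (DRing.restrictCx (κ.comp φ)).obj ((DTen.extCx κ).obj E) ≅
        (DRing.restrictCx (α.comp φ)).obj ((DTen.extCx α).obj E) :=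
      HomologicalComplex.Hom.isoOfComponents (fun i => η.app (E.X i))
        (fun p q _ => (η.hom.naturality (E.d p q)).symm)
    let γ := algebraMap R (Localization.AtPrime (m.comap (algebraMap R A)))
    let L := Localization.localRingHom (m.comap (algebraMap R A)) m (algebraMap R A) rfl
    have hL : α.comp φ = L.comp γ := RingHom.ext fun r =>
      (Localization.localRingHom_to_map _ m (algebraMap R A) rfl r).symm
    obtain ⟨r₂⟩ := FlatCx12.DiagDim.nonempty_restrict_comp γ L (α.comp φ) hL ((DTen.extCx α).obj E)
    refine FlatMorTorAmp.amp_of_restrict γ (RingHom.flat_algebraMap_iff.2 inferInstance) (fun M hM => ?_)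
      (FlatCx12.TorAmpComp.amp_iso ?_ (FlatCx12.TorAmpComp.amp_iso (DerivedCategory.Q.mapIso e₂) h1))
    · letI : Module R M := Module.compHom M γ
      haveI : IsScalarTower R (Localization.AtPrime (m.comap (algebraMap R A))) M :=
        IsScalarTower.of_algebraMap_smul fun _ _ => rfl
      exact (Module.flat_iff_of_isLocalization (Localization.AtPrime (m.comap (algebraMap R A)))
        (m.comap (algebraMap R A)).primeCompl M).2 hM
    · exact DerivedCategory.Q.mapIso r₂.symm ≪≫
        ((ModuleCat.restrictScalars.{u} γ).mapDerivedCategoryFactors.app _).symm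
  · intro h x
    exact FlatCx12.AmpThick.amp_congr _ x eG
      (Dual22Lib.RelAmpStalk.amp_tilde (CommRingCat.ofHom φ) E (FlatCx12.TorAmpComp.amp_iso eR.symm h) x)

end Groth.Agent.S7259
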