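import Groth.Statements.S7261
import Groth.Agent.DQCoh.PerfApprox
import Groth.Agent.Dual22Lib.CompactPerf
-- import your own Groth.Agent.* helpers here

set_option autoImplicit false
universe u
open CategoryTheory CategoryTheory.Limits AlgebraicGeometry
attribute [local instance] HasDerivedCategory.standard
open Perf

namespace Groth.Agent.S7261

/-- Let X be an affine scheme, T = V(f_1, …, f_r) the common zero locus of r global functions, m ∈ ℤ,
and E an m-pseudo-coherent object of D(O_X) with quasi-coherent cohomology sheaves such that Hⁱ(E)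
is supported on T for i ≥ m - r + 1. Then approximation holds for (T, E, m): there are a perfect
object P of D(O_X) supported on T and a morphism α : P ⟶ E inducing isomorphisms Hⁱ(P) ⟶ Hⁱ(E) for i
> m and an epimorphism Hᵐ(P) ⟶ Hᵐ(E). (The published hypothesis asks that X ∖ T be a union of r
affine opens; the published proof begins by writing T as the zero locus of r functions, and this row
takes that as the hypothesis.) -/
theorem result (X : Scheme.{u}) [IsAffine X] (fs : Finset Γ(X, ⊤))
    (m : ℤ) (E : DCoh.D X) (hq : DCoh.IsQCohD E) (hpc : DCoh.IsPseudoCoherentD m E)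
    (hsupp : ∀ i : ℤ, m - (fs.card : ℤ) + 1 ≤ i → CohB1.support (DCoh.HD E i) ⊆ X.zeroLocus (U := ⊤) (↑fs : Set Γ(X, ⊤))) :
    ∃ (P : DCoh.D X) (α : P ⟶ E), DCoh.IsPerfect P ∧
      (∀ i : ℤ, CohB1.support (DCoh.HD P i) ⊆ X.zeroLocus (U := ⊤) (↑fs : Set Γ(X, ⊤))) ∧
      (∀ i : ℤ, m < i → IsIso ((DerivedCategory.homologyFunctor X.Modules i).map α)) ∧
      Epi ((DerivedCategory.homologyFunctor X.Modules m).map α) := by
  classical
    have hc : IsClosed (X.zeroLocus (U := ⊤) (↑fs : Set Γ(X, ⊤))) := AlgebraicGeometry.Scheme.zeroLocus_isClosed X _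
    let O : X.Opens := ⟨_, hc.isOpen_compl⟩
    have hs : (O : Set X) = ⋃ f ∈ fs, (X.basicOpen f : Set X) := by
      ext x
      simp [O, X.mem_zeroLocus_iff]
    obtain ⟨P, α, hP, hk, hα⟩ := Groth.Agent.DQCoh.PerfApprox.full_of_forall O 0 fs.card
      (fun b E hE hb hp hs' => Groth.Agent.DQCoh.PerfApprox.top_affine_finset fs O hs b E hE hb (by simpa using hp) hs')
      m E hq (by simpa using hpc) (fun i hi x hx => by
        by_contra hn
        exact hx (hsupp i (by omega) hn))
    refine ⟨P, α, hP, fun i => ?_, hα.1, hα.2⟩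
    exact ((Groth.Agent.Dual22Lib.CompactPerf.killed_iff_support O P).1 hk i).trans (by simp [O])

end Groth.Agent.S7261

#print axioms Groth.Agent.S7261.result
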