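import Groth.Statements.S7265
import Groth.Agent.DQCoh.PerfApprox
import Groth.Agent.Dual22Lib.CompactPerf
-- import your own Groth.Agent.* helpers here

set_option autoImplicit false
universe u
open CategoryTheory CategoryTheory.Limits AlgebraicGeometry
attribute [local instance] HasDerivedCategory.standard
open Perf

namespace Groth.Agent.S7265

/-- Let X be a scheme, U ⊆ X an open subscheme, T ⊆ U a subset closed in X, E ∈ D(O_X) with
quasi-coherent cohomology sheaves and m ∈ ℤ. If approximation holds for (T, E|_U, m) on U (there are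
a perfect P ∈ D(O_U) supported on T and P ⟶ E|_U inducing isomorphisms on Hⁱ for i > m and a
surjection on Hᵐ) and the sheaves Hⁱ(E), i ≥ m, are supported on T, then approximation holds for (T,
E, m) on X. -/
theorem result {X : Scheme.{u}} (U : X.Opens) (T : Set ↥X) (hT : IsClosed T)
    (hTU : T ⊆ (U : Set ↥X)) (E : DCoh.D X) (hE : DCoh.IsQCohD E) (m : ℤ)
    (happ : ∃ (P : DCoh.D (U : Scheme.{u})) (α : P ⟶ (DCoh.restrictD U.ι).obj E), DCoh.IsPerfect P ∧
      (∀ i : ℤ, CohB1.support (DCoh.HD P i) ⊆ {v : ↥(U : Scheme.{u}) | U.ι.base v ∈ T}) ∧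
      (∀ i : ℤ, m < i → IsIso ((DerivedCategory.homologyFunctor _ i).map α)) ∧
      Epi ((DerivedCategory.homologyFunctor _ m).map α))
    (hsupp : ∀ i : ℤ, m ≤ i → CohB1.support (DCoh.HD E i) ⊆ T) :
    ∃ (P : DCoh.D X) (α : P ⟶ E), DCoh.IsPerfect P ∧ (∀ i : ℤ, CohB1.support (DCoh.HD P i) ⊆ T) ∧
      (∀ i : ℤ, m < i → IsIso ((DerivedCategory.homologyFunctor X.Modules i).map α)) ∧
      Epi ((DerivedCategory.homologyFunctor X.Modules m).map α) := by
  classical
    let O : X.Opens := ⟨Tᶜ, hT.isOpen_compl⟩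
    obtain ⟨P, α, hP, hPs, hiso, hepi⟩ := happ
    have hk : Groth.Agent.Dual22Lib.AdjGeom.killed (U.ι ⁻¹ᵁ O).ι P := by
      refine (Groth.Agent.Dual22Lib.CompactPerf.killed_iff_support _ P).2 fun i x hx => ?_
      intro hxO
      exact hxO (hPs i hx)
    obtain ⟨Q, β, hQ, hkQ, hβ⟩ := Groth.Agent.DQCoh.PerfApprox.exists_approx_of_open U O
      (eq_top_iff.2 fun x _ => by
        by_cases hx : x ∈ T
        · exact Or.inl (hTU hx)
        · exact Or.inr hx)
      (fun i hi x hx => by
        by_contra hn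
        exact hx (hsupp i (by omega) hn)) α hP hk ⟨hiso, hepi⟩
    refine ⟨Q, β, hQ, fun i => ?_, hβ.1, hβ.2⟩
    exact ((Groth.Agent.Dual22Lib.CompactPerf.killed_iff_support O Q).1 hkQ i).trans (by simp [O])

end Groth.Agent.S7265

#print axioms Groth.Agent.S7265.result
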