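import Groth.Statements.S7266
import Groth.Agent.DQCoh.PerfApprox
import Groth.Agent.Dual22Lib.CompactPerf
-- import your own Groth.Agent.* helpers here

set_option autoImplicit false
universe u
open CategoryTheory CategoryTheory.Limits AlgebraicGeometry
attribute [local instance] HasDerivedCategory.standard
open Perf

namespace Groth.Agent.S7266

/-- Let X be a scheme written as X = U ∪ V with U, V open, where V is affine and both U and the
intersection U ∩ V are quasi-compact. Suppose approximation by perfect complexes is valid on U; it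
is then also valid on X. Here 'approximation by perfect complexes holds on Y' means: for every
closed T ⊆ Y with retrocompact complement there is an integer r such that for every m ∈ ℤ and every
(m - r)-pseudo-coherent E ∈ D(O_Y) with quasi-coherent cohomology sheaves and Hⁱ(E) supported on T
for i ≥ m - r, there are a perfect P ∈ D(O_Y) supported on T and P ⟶ E inducing isomorphisms on Hⁱ
for i > m and a surjection on Hᵐ. -/
theorem result {X : Scheme.{u}} (U V : X.Opens)
    (hU : IsCompact (U : Set ↥X)) (hV : IsAffineOpen V) (hUV : IsCompact ((U ⊓ V : X.Opens) : Set ↥X)) (hcov : U ⊔ V = ⊤)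
    (hAU : (∀ (T : Set ↥(U : Scheme.{u})), IsClosed T → IsRetrocompact Tᶜ → ∃ r : ℤ, ∀ (m : ℤ) (E : DCoh.D (U : Scheme.{u})), DCoh.IsQCohD E →
        DCoh.IsPseudoCoherentD (m - r) E → (∀ i : ℤ, m - r ≤ i → CohB1.support (DCoh.HD E i) ⊆ T) →
        ∃ (P : DCoh.D (U : Scheme.{u})) (α : P ⟶ E), DCoh.IsPerfect P ∧ (∀ i : ℤ, CohB1.support (DCoh.HD P i) ⊆ T) ∧
          (∀ i : ℤ, m < i → IsIso ((DerivedCategory.homologyFunctor _ i).map α)) ∧
          Epi ((DerivedCategory.homologyFunctor _ m).map α))) :
    (∀ (T : Set ↥X), IsClosed T → IsRetrocompact Tᶜ → ∃ r : ℤ, ∀ (m : ℤ) (E : DCoh.D X), DCoh.IsQCohD E →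
        DCoh.IsPseudoCoherentD (m - r) E → (∀ i : ℤ, m - r ≤ i → CohB1.support (DCoh.HD E i) ⊆ T) →
        ∃ (P : DCoh.D X) (α : P ⟶ E), DCoh.IsPerfect P ∧ (∀ i : ℤ, CohB1.support (DCoh.HD P i) ⊆ T) ∧
          (∀ i : ℤ, m < i → IsIso ((DerivedCategory.homologyFunctor _ i).map α)) ∧
          Epi ((DerivedCategory.homologyFunctor _ m).map α)) := by
  classical
    intro T hT hTr
    haveI : CompactSpace ↥(U : Scheme.{u}) := isCompact_iff_compactSpace.1 hU
    let O : X.Opens := ⟨Tᶜ, hT.isOpen_compl⟩
    have hO : ∀ W : X.Opens, IsCompact (W : Set X) → IsCompact ((O ⊓ W : X.Opens) : Set X) := fun W hW => by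
      have := hTr hW W.2
      simpa [O, Set.inter_comm] using this
    have hXc : CompactSpace X := isCompact_univ_iff.1 (by
      rw [show (Set.univ : Set X) = ((U ⊔ V : X.Opens) : Set X) by rw [hcov]; rfl]
      exact hU.union hV.isCompact)
    have hretro : IsRetrocompact ((U.ι.base ⁻¹' T)ᶜ) := by
      intro W hW hWo
      have h1 := hTr (hW.image U.ι.continuous) (U.ι.isOpenEmbedding.isOpenMap W hWo)
      refine U.ι.isOpenEmbedding.isInducing.isCompact_iff.2 ?_
      have e : U.ι.base '' ((U.ι.base ⁻¹' T)ᶜ ∩ W) = Tᶜ ∩ U.ι.base '' W := by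
        ext y
        constructor
        · rintro ⟨w, ⟨hw1, hw2⟩, rfl⟩
          exact ⟨hw1, w, hw2, rfl⟩
        · rintro ⟨hy, w, hw2, rfl⟩
          exact ⟨w, ⟨hy, hw2⟩, rfl⟩
      rw [e]
      exact h1
    obtain ⟨rU, hrU⟩ := hAU _ (hT.preimage U.ι.continuous) hretro
    obtain ⟨r, hr⟩ := Groth.Agent.DQCoh.PerfApprox.exists_step U V hcov hUV hV O
      (Groth.Agent.DQCoh.PerfApprox.isCompact_preimage_inf O V (hO V hV.isCompact)) rU.toNat
      (fun m E hE hp hs => by
        obtain ⟨P, α, hP, hPs, hiso, hepi⟩ := hrU m E hE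
          (Groth.Agent.DCat.PCTriangle.psc_mono (by omega) hp)
          (fun i hi x hx => by
            by_contra hn
            exact hx (hs i (by omega) x hn))
        refine ⟨P, α, hP, ?_, hiso, hepi⟩
        refine (Groth.Agent.Dual22Lib.CompactPerf.killed_iff_support _ P).2 fun i x hx => ?_
        intro hxO
        exact hxO (hPs i hx))
    refine ⟨r, fun m E hE hp hs => ?_⟩
    obtain ⟨P, α, hP, hk, hα⟩ := Groth.Agent.DQCoh.PerfApprox.full_of_forall O r (r + 1)
      (fun b E hE hb hp hs' => hr b E hE hb hp (Groth.Agent.DQCoh.PerfApprox.leOn_mono hs' le_rfl (by omega)))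
      m E hE hp (fun i hi x hx => by
        by_contra hn
        exact hx (hs i (by omega) hn))
    refine ⟨P, α, hP, fun i => ?_, hα.1, hα.2⟩
    exact ((Groth.Agent.Dual22Lib.CompactPerf.killed_iff_support O P).1 hk i).trans (by simp [O])

end Groth.Agent.S7266

#print axioms Groth.Agent.S7266.result
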