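import Groth.Statements.S7274
import Groth.Agent.FEtStein.General
import Groth.Agent.S0435
import Groth.Agent.Dual22Lib.H0Split
import Groth.Agent.Dual22Lib.PscPush
import Groth.Agent.DQCoh.PscFinite
import Groth.Agent.DCat.PullComp
import Groth.Agent.DCat.RHomDual
import Groth.Agent.DCat.TorSheaf
import Groth.Agent.FlatBC14.Main

set_option autoImplicit false
set_option backward.isDefEq.respectTransparency false
set_option backward.defeqAttrib.useBackward true
set_option linter.style.haveILetI false
set_option synthInstance.maxHeartbeats 100000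
universe u
open CategoryTheory CategoryTheory.Limits AlgebraicGeometry
attribute [local instance] HasDerivedCategory.standard
attribute [-instance] Int.instConditionallyCompleteLinearOrder
open Perf

namespace Groth.Agent.S7274

open Groth.Agent Groth.Agent.Dual22Lib.BCSquare in
/-- The zeroth direct image. -/
theorem nonempty_HD_zero {X Y : Scheme.{u}} (f : X ⟶ Y) [DCoh.HasRpush f] (M : X.Modules) :
    Nonempty (DCoh.HD ((DCoh.Rpush f).obj (DCoh.inD X M)) 0 ≅ (Scheme.Modules.pushforward f).obj M) := by
  haveI := Coherent.hasInjectiveResolutions_modules X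
  obtain ⟨e⟩ := FlatBC14.nonempty_homology_Rpush f M 0
  exact ⟨e ≪≫ ((Scheme.Modules.pushforward f).rightDerivedZeroIsoSelf.app M)⟩

open Groth.Agent Groth.Agent.DCat Groth.Agent.Dual22Lib.BCSquare in
/-- Over an affine base all whose fibres are geometrically reduced. -/
theorem main {X S : Scheme.{u}} [IsAffine S] (f : X ⟶ S) [IsProper f] [Flat f] [LocallyOfFinitePresentation f]
    [GeometricallyReduced f] [IsAffineHom (RelSpec.QCAlg.directImage f).π] :
    (IsFinite (RelSpec.QCAlg.directImage f).π ∧ Etale (RelSpec.QCAlg.directImage f).π) ∧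
      ∀ [DCoh.HasRpush f] [∀ A B : DCoh.D S, HasBinaryBiproduct A B],
        ∃ (P : DCoh.D S) (b : ℤ), DCoh.IsPerfect P ∧ DCoh.HasTorAmplitudeIn 1 b P ∧
          Nonempty ((DCoh.Rpush f).obj (DCoh.inD X (Coh.structureModule X)) ≅
            DCoh.inD S ((Coh.push f).obj (Coh.structureModule X)) ⊞ P) := by
  obtain ⟨S', g, p, hfgp, _, _, _, _, _, _, _⟩ := FEtStein.exists_factor_affine f fun Ω _ _ σ =>
    GeometricallyReduced.geometrically_isReduced (f := f) σ _ _ (IsPullback.of_hasPullback f σ)
  subst hfgp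
  haveI : IsAffine S' := isAffine_of_isAffineHom p
  refine ⟨?_, fun {_} {_} => ?_⟩
  · let A := RelSpec.QCAlg.directImage (g ≫ p)
    let ι₀ := A.ι ⊤ (isAffineOpen_top S)
    haveI : IsIso ι₀ := by
      haveI : Surjective ι₀ := ⟨fun z => by
        have h : z ∈ A.π ⁻¹ᵁ (⊤ : S.Opens) := trivial
        rw [A.π_preimage ⊤ (isAffineOpen_top S)] at h
        exact h⟩
      exact (isIso_iff_isOpenImmersion_and_epi_base _).2 ⟨inferInstance, (TopCat.epi_iff_surjective _).2 ι₀.surjective⟩
    haveI : IsIso g.appTop := (ConcreteCategory.isIso_iff_bijective _).2 (FEtStein.bijective_appTop g)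
    haveI : IsIso (isAffineOpen_top S).fromSpec := by rw [IsAffineOpen.fromSpec_top]; infer_instance
    have key : ∀ {P : MorphismProperty Scheme.{u}} [P.RespectsIso], P p → P A.π := by
      intro P _ hp
      rw [← P.cancel_left_of_respectsIso ι₀, RelSpec.QCAlg.ι_π, P.cancel_right_of_respectsIso]
      show P (Spec.map ((g ≫ p).appTop))
      rw [Scheme.Hom.comp_appTop, Spec.map_comp, P.cancel_left_of_respectsIso]
      exact (P.arrow_mk_iso_iff (arrowIsoSpecΓOfIsAffine p)).1 hp
    exact ⟨key (P := @IsFinite) inferInstance, key (P := @Etale) inferInstance⟩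
  · haveI : ∀ A B : DCoh.D S', HasBinaryBiproduct A B := fun _ _ => inferInstance
    haveI := hasRpush g
    haveI := hasRpush p
    obtain ⟨P', b, hP', hamp, ⟨e⟩⟩ := Dual22Lib.H0Split.exists_split g fun s => by
      haveI : GeometricallyConnected (g.fiberToSpecResidueField s) :=
        MorphismProperty.pullback_snd _ _ ‹GeometricallyConnected g›
      haveI : IsProper (g.fiberToSpecResidueField s) := MorphismProperty.pullback_snd _ _ ‹IsProper g›
      haveI : Flat (g.fiberToSpecResidueField s) := MorphismProperty.pullback_snd _ _ ‹Flat g›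
      haveI : LocallyOfFinitePresentation (g.fiberToSpecResidueField s) :=
        MorphismProperty.pullback_snd _ _ ‹LocallyOfFinitePresentation g›
      exact (ConcreteCategory.isIso_iff_bijective _).2 (FEtStein.bijective_appTop _)
    haveI := QCohLoc.isQCoh_structureModule S'
    obtain ⟨ec⟩ := DCat.nonempty_RpushComp g p
    obtain ⟨ep⟩ := DQCoh.nonempty_Rpush_inD p (Coh.structureModule S')
    obtain ⟨_, _⟩ := DCat.exists_commShift_Rpush p
    haveI : (DCoh.Rpush p).Additive := inferInstance
    haveI : PreservesBinaryBiproducts (DCoh.Rpush p) := preservesBinaryBiproducts_of_preservesBiproducts _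
    let P := (DCoh.Rpush p).obj P'
    let E : (DCoh.Rpush (g ≫ p)).obj (DCoh.inD X (Coh.structureModule X)) ≅
        DCoh.inD S ((Scheme.Modules.pushforward p).obj (Coh.structureModule S')) ⊞ P :=
      (ec.app _).symm ≪≫ (DCoh.Rpush p).mapIso e ≪≫ (DCoh.Rpush p).mapBiprod _ _ ≪≫ biprod.mapIso ep (Iso.refl P)
    have hperf : DCoh.IsPerfect P := RHomDual.perfect_of_retract
      ⟨biprod.inr ≫ E.inv, E.hom ≫ biprod.snd, by simp⟩
      (Dual22Lib.PPFlat.pp_flat (g ≫ p) _
        (KZeroLib.isPerfect_inD_finLocFree (Coherent.CohBC.isFinLocFree_structureModule X)))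
    have hne : ∃ b₁, 1 ≤ b₁ ∧ DCoh.HasTorAmplitudeIn 1 b₁ P' := ⟨max b 1, le_max_right _ _, fun F _ i hi =>
      hamp F i (by have := le_max_left b 1; omega)⟩
    obtain ⟨b₁, hb₁, hamp₁⟩ := hne
    obtain ⟨C, hC, hCf, ⟨eC⟩⟩ := DCat.flatAmp_of_torAmp hb₁ hamp₁
    have hCq : DCoh.IsQCohD (DCoh.toD S' C) := DQCoh.isQCohD_of_iso eC.symm (Dual22Lib.SumAdj.isQCohD_perfect' hP')
    have hCr : DerSch.HasTorAmplitude p 1 b₁ C := fun x =>
      ⟨(DerSch.stalkCxOver p x).obj C,
        fun i hi => (ModuleCat.restrictScalars.{u} _).map_isZero ((DerSch.stalkFunctor S' x).map_isZero (hC i hi)),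
        fun i => by
          haveI : Module.Flat _ ((DerSch.stalkFunctor S' x).obj (C.X i)) := hCf i x
          exact FlatCx12.AmpThickRing.flat_restrict (Flat.stalkMap p x) _,
        ⟨Iso.refl _⟩⟩
    obtain ⟨c, hc, hampc⟩ := Dual22Lib.PscPush.exists_torAmplitude_Rpush p C hCq 1 b₁ hCr
    refine ⟨P, c, hperf, fun F _ i hi => (hampc F i hi).of_iso ((DerivedCategory.homologyFunctor S.Modules i).mapIso ((DCoh.LTensorMod F).mapIso ((DCoh.Rpush p).mapIso eC).symm)), ?_⟩
    have hz : IsZero (DCoh.HD P' 0) := by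
      refine IsZero.of_iso ?_ ((DerivedCategory.homologyFunctor S'.Modules 0).mapIso eC.symm ≪≫
        (DerivedCategory.homologyFunctorFactors S'.Modules 0).app C)
      exact (HomologicalComplex.exactAt_iff_isZero_homology _ _).1
        (HomologicalComplex.ExactAt.of_isZero (hC 0 (Or.inl one_pos)))
    obtain ⟨e₀⟩ := nonempty_HD_zero g (Coh.structureModule X)
    let H := DerivedCategory.homologyFunctor S'.Modules 0
    haveI : H.Additive := inferInstance
    haveI : PreservesBinaryBiproducts H := preservesBinaryBiproducts_of_preservesBiproducts _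
    haveI : IsIso (biprod.fst : H.obj (DCoh.inD S' (Coh.structureModule S')) ⊞ H.obj P' ⟶ _) :=
      ⟨biprod.inl, biprod.hom_ext _ _ (by simp) (hz.eq_of_tgt _ _), biprod.inl_fst⟩
    let eg : (Scheme.Modules.pushforward g).obj (Coh.structureModule X) ≅ Coh.structureModule S' :=
      e₀.symm ≪≫ H.mapIso e ≪≫ H.mapBiprod _ _ ≪≫ asIso biprod.fst ≪≫
        (DerivedCategory.singleFunctorCompHomologyFunctorIso S'.Modules 0).app _
    exact ⟨E ≪≫ biprod.mapIso ((DerivedCategory.singleFunctor S.Modules 0).mapIso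
      ((Scheme.Modules.pushforward p).mapIso eg.symm ≪≫ (Scheme.Modules.pushforwardComp g p).app _)) (Iso.refl P)⟩

/-- Let f : X ⟶ S be proper, flat and of finite presentation and let s ∈ S be a point whose fibre X_s is
geometrically reduced over κ(s). Then s has an open neighbourhood V over which, writing f_V : f⁻¹V ⟶
V: the direct-image algebra (f_V)_*O_{f⁻¹V} is a finite étale O_V-algebra (its relative spectrum is
finite and étale over V), and, assuming R(f_V)_* exists and binary direct sums in D(O_V) are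
available, there is a direct sum decomposition R(f_V)_*O_{f⁻¹V} ≅ (f_V)_*O_{f⁻¹V}[0] ⊕ P in D(O_V)
with P perfect of tor amplitude in [1, b] for some b (existence of the decomposition). -/
theorem result {X S : Scheme.{u}} (f : X ⟶ S)
    [IsProper f] [Flat f] [LocallyOfFinitePresentation f] (s : S)
    (hs : GeometricallyReduced (f.fiberToSpecResidueField s)) :
    ∃ V : S.Opens, s ∈ V ∧
      (IsFinite (RelSpec.QCAlg.directImage (f ∣_ V)).π ∧ Etale (RelSpec.QCAlg.directImage (f ∣_ V)).π) ∧
      ∀ [DCoh.HasRpush (f ∣_ V)] [∀ A B : DCoh.D (V : Scheme.{u}), HasBinaryBiproduct A B],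
        ∃ (P : DCoh.D (V : Scheme.{u})) (b : ℤ), DCoh.IsPerfect P ∧ DCoh.HasTorAmplitudeIn 1 b P ∧
          Nonempty ((DCoh.Rpush (f ∣_ V)).obj
              (DCoh.inD (f ⁻¹ᵁ V : Scheme.{u}) (Coh.structureModule (f ⁻¹ᵁ V : Scheme.{u}))) ≅
            DCoh.inD (V : Scheme.{u}) ((Coh.push (f ∣_ V)).obj (Coh.structureModule (f ⁻¹ᵁ V : Scheme.{u}))) ⊞ P) := by
  let U : S.Opens := ⟨{y | GeometricallyReduced (f.fiberToSpecResidueField y)},
    Groth.Agent.S0435.result f⟩
  obtain ⟨V, hV, hsV, hVU⟩ := exists_isAffineOpen_mem_and_subset (show s ∈ U from hs)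
  haveI : IsAffine (V : Scheme.{u}) := hV
  haveI : Flat (f ∣_ V) := IsZariskiLocalAtTarget.restrict (P := @Flat) inferInstance V
  haveI : LocallyOfFinitePresentation (f ∣_ V) :=
    IsZariskiLocalAtTarget.restrict (P := @LocallyOfFinitePresentation) inferInstance V
  haveI : IsProper (f ∣_ V) := IsZariskiLocalAtTarget.restrict (P := @IsProper) inferInstance V
  haveI : GeometricallyReduced (f ∣_ V) := by
    rw [geometricallyReduced_iff, geometrically_iff_forall_fiberToSpecResidueField]
    intro v
    rw [← geometricallyReduced_iff]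
    have sq := AlgebraicGeometry.isPullback_fiberToSpecResidueField_of_isPullback
      (isPullback_morphismRestrict f V).flip v
    exact MorphismProperty.of_isPullback sq (hVU v.2 : GeometricallyReduced (f.fiberToSpecResidueField v.1))
  exact ⟨V, hsV, main (f ∣_ V)⟩

end Groth.Agent.S7274
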