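import Groth.Statements.S7279
import Groth.Agent.Dual22Lib.SuppFactor
import Groth.Agent.DQCoh.RHomQCoh
import Groth.Agent.DCat.ShriekTensor
import Groth.Agent.DCat.RHomDual
import Groth.Agent.DCat.RelEquivBC

set_option autoImplicit false
set_option backward.isDefEq.respectTransparency false
universe u
open CategoryTheory CategoryTheory.Limits AlgebraicGeometry
attribute [local instance] HasDerivedCategory.standard
open Perf

namespace Groth.Agent.S7279

/-- Let X be a quasi-compact and quasi-separated scheme, U ⊆ X a quasi-compact open with closed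
complement T = X ∖ U, P a cochain complex of O_X-modules with quasi-coherent cohomology sheaves and
E ∈ D_QCoh(O_X) supported on T (every cohomology sheaf of E has support in T). Assume either (1) P
is perfect, or (2) P is pseudo-coherent and E is bounded below, and assume the derived functors -
⊗^L P and RHom(P, -) exist. Then for every morphism γ : O_X[0] ⊗^L P ⟶ E there exist a perfect I ∈
D(O_X) and a morphism i : I ⟶ O_X[0] such that the composition of i ⊗^L P with γ is zero and the
restriction i|_U is an isomorphism. (The published statement is about a morphism α : P ⟶ E and the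
induced map I ⊗^L P ⟶ E; composing with the unit isomorphism O_X[0] ⊗^L P ≅ P identifies morphisms α
with morphisms γ, so the present form, quantified over all γ, is the same assertion.) -/
theorem result (X : Scheme.{u}) [CompactSpace ↥X]
    [QuasiSeparatedSpace ↥X] (U : X.Opens) (hU : IsCompact (U : Set X))
    (P : CochainComplex X.Modules ℤ) (hPq : DCoh.IsQCohD (DCoh.toD X P)) [DCoh.HasLTensorCx P] [DCoh.HasRSheafHom P]
    (E : DCoh.D X) (hEq : DCoh.IsQCohD E) (hEsupp : ∀ i : ℤ, CohB1.support (DCoh.HD E i) ⊆ (U : Set X)ᶜ)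
    (h : DCoh.IsPerfect (DCoh.toD X P) ∨ ((∀ m : ℤ, DCoh.IsPseudoCoherentD m (DCoh.toD X P)) ∧ ∃ a : ℤ, E.IsGE a))
    (γ : (DCoh.LTensorCx P).obj (DCoh.inD X (Coh.structureModule X)) ⟶ E) :
    ∃ (I : DCoh.D X) (i : I ⟶ DCoh.inD X (Coh.structureModule X)), DCoh.IsPerfect I ∧
      (DCoh.LTensorCx P).map i ≫ γ = 0 ∧ IsIso ((DCoh.restrictD U.ι).map i) := by
  haveI := Groth.Agent.DCat.PullPerf.preservesFiniteLimits_restrict U.ι
  have hk : Groth.Agent.Dual22Lib.AdjGeom.killed U.ι E :=
    (Groth.Agent.Dual22Lib.CompactPerf.killed_iff_support U E).2 fun i => hEsupp i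
  let G := (DCoh.RSheafHom P).obj E
  have hGq : DCoh.IsQCohD G := by
    rcases h with h | ⟨hpc, a, ha⟩
    · exact Groth.Agent.DQCoh.isQCohD_RHom_perfect P h E hEq
    · haveI := ha
      exact fun j => Groth.Agent.DQCoh.isQCoh_HD_RHom_psc P (a - j - 1) (hpc _) E hEq a j (by omega)
  have hGk : Groth.Agent.Dual22Lib.AdjGeom.killed U.ι G := by
    let P' := ((Scheme.Modules.restrictFunctor U.ι).mapHomologicalComplex (ComplexShape.up ℤ)).obj P
    haveI := Groth.Agent.DCat.LTensorSheaf.hasLTensorCx P'
    haveI := Groth.Agent.DCat.RHomExist.hasRSheafHom P'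
    obtain ⟨r⟩ := Groth.Agent.DCat.ShriekTensor.nonempty_restrict_RHom_of_eq U.ι P P' rfl (DCoh.restrictD U.ι) rfl
    refine Limits.IsZero.of_iso ?_ (r.app E)
    exact (Limits.IsZero.iff_id_eq_zero _).2
      (((DCoh.RSheafHomAdj P').homEquiv _ _).symm.injective (hk.eq_of_tgt _ _))
  let δ : DCoh.inD X (Coh.structureModule X) ⟶ G := (DCoh.RSheafHomAdj P).homEquiv _ _ γ
  obtain ⟨S, g, g', hS, hSk, hδ⟩ := Groth.Agent.Dual22Lib.SuppFactor.exists_factor U hU
    (Groth.Agent.DCat.RHomDual.perfect_structure (X := X)) hGq hGk δ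
  obtain ⟨I, i, d, hT⟩ := Pretriangulated.distinguished_cocone_triangle₁ g
  refine ⟨I, i, (Groth.Agent.DCat.PCTriangle.perfect_two_out_of_three hT).2.2
    Groth.Agent.DCat.RHomDual.perfect_structure hS, ?_, ?_⟩
  · refine ((DCoh.RSheafHomAdj P).homEquiv _ _).injective ?_
    have hz : i ≫ g = 0 := Pretriangulated.comp_distTriang_mor_zero₁₂ _ hT
    have h0 : (0 : (DCoh.LTensorCx P).obj I ⟶ E) = (DCoh.LTensorCx P).map i ≫ 0 := by rw [Limits.comp_zero]
    rw [h0, Adjunction.homEquiv_naturality_left, Adjunction.homEquiv_naturality_left]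
    show i ≫ δ = _
    rw [← hδ, reassoc_of% hz, Limits.zero_comp, ← Adjunction.homEquiv_naturality_left, Limits.comp_zero]
    rw [Adjunction.homEquiv_unit]
    haveI := (DCoh.RSheafHomAdj P).rightAdjoint_preservesLimits
    simp
  · exact (Pretriangulated.Triangle.isZero₃_iff_isIso₁ _ ((DCoh.restrictD U.ι).map_distinguished _ hT)).1 hSk

end Groth.Agent.S7279
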