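import Groth.Statements.S7287
import Groth.Agent.EGA43.FibDepth.TensorTrd
import Groth.Agent.Et18.ResidueComposite
-- import your own Groth.Agent.* helpers here

set_option autoImplicit false
set_option backward.isDefEq.respectTransparency false
set_option linter.style.haveILetI false
set_option maxHeartbeats 1000000
open CategoryTheory CategoryTheory.Limits AlgebraicGeometry Opposite
universe u
open RelCyc

namespace Groth.Agent.S7287


open TensorProduct in
/-- Some prime of `L ⊗_K K'` keeps every algebraically independent family of `L` independent over `K'`. -/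
theorem exists_prime_indep {K L K' : Type u} [Field K] [Field L] [Field K'] [Algebra K L] [Algebra K K'] :
    ∃ P : Ideal (L ⊗[K] K'), P.IsPrime ∧
      ∀ (G : Type u) [Field G] [Algebra K' G] (χ : L ⊗[K] K' →+* G),
        χ.comp (Algebra.TensorProduct.includeRight.toRingHom) = algebraMap K' G →
        RingHom.ker χ = P → ∀ (σ : Type u) (v : σ → L), AlgebraicIndependent K v →
          AlgebraicIndependent K' fun i => χ (v i ⊗ₜ[K] 1) := by
  haveI : Nontrivial (L ⊗[K] K') := TensorProduct.nontrivial_of_linearMap_injective_of_flat_right _ _ _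
    (Algebra.linearMap K L) (algebraMap K L).injective
  obtain ⟨Q, hQ⟩ := Ideal.exists_maximal (L ⊗[K] K')
  obtain ⟨P, hP, -⟩ := Ideal.exists_minimalPrimes_le (I := (⊥ : Ideal (L ⊗[K] K'))) (J := Q) bot_le
  refine ⟨P, hP.1.1, fun G _ _ χ hχ hker σ v hv => ?_⟩
  let A₀ := MvPolynomial σ K
  letI : Algebra A₀ L := (MvPolynomial.aeval v).toRingHom.toAlgebra
  haveI : IsScalarTower K A₀ L := .of_algebraMap_eq fun a => ((MvPolynomial.aeval v).commutes a).symm
  haveI : Module.Flat A₀ L := EGA43.FibDepth.flat_of_injective_field hv
  obtain ⟨ψ, hψ, hnzd⟩ := EGA43.FibDepth.exists_ringHom_nonZeroDivisors (L := L) (A₀ := A₀)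
    (EGA43.FibDepth.isDomain_mvPolynomial_tensor K K' σ)
  let x : σ → G := fun i => χ (v i ⊗ₜ[K] (1 : K'))
  show AlgebraicIndependent K' x
  rw [AlgebraicIndependent, injective_iff_map_eq_zero]
  intro f hf
  by_contra hne
  let e := (Algebra.TensorProduct.comm K A₀ K').toRingEquiv.trans
    (MvPolynomial.algebraTensorAlgEquiv (σ := σ) K K').toRingEquiv
  have hχk : ∀ k : K', χ ((1 : L) ⊗ₜ[K] k) = algebraMap K' G k := fun k =>
    RingHom.congr_fun hχ k
  have he : ∀ w : A₀ ⊗[K] K', χ (ψ w) = MvPolynomial.aeval x (e w) := fun w => by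
    induction w using TensorProduct.induction_on with
    | zero => simp
    | add u v hu hv => simp only [map_add, hu, hv]
    | tmul a k =>
      induction a using MvPolynomial.induction_on with
      | C c =>
        have : e ((MvPolynomial.C c : A₀) ⊗ₜ[K] k) = MvPolynomial.C (algebraMap K K' c * k) := by
          show MvPolynomial.algebraTensorAlgEquiv K K'
            (k ⊗ₜ[K] (MvPolynomial.C c : MvPolynomial σ K)) = _
          rw [MvPolynomial.algebraTensorAlgEquiv_tmul, MvPolynomial.map_C,
            MvPolynomial.smul_eq_C_mul, ← map_mul, mul_comm]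
        rw [this, MvPolynomial.aeval_C, hψ, ← hχk,
          show algebraMap A₀ L (MvPolynomial.C c) = algebraMap K L c from MvPolynomial.aeval_C _ c,
          ← Algebra.smul_def, tmul_smul, smul_tmul', ← Algebra.algebraMap_eq_smul_one]
      | add p q hp hq => simp only [add_tmul, map_add, hp, hq]
      | mul_X p i hp =>
        have h1 : ((p * MvPolynomial.X i : A₀) ⊗ₜ[K] k : A₀ ⊗[K] K') =
            (p ⊗ₜ[K] k) * ((MvPolynomial.X i : A₀) ⊗ₜ[K] (1 : K')) := by
          rw [Algebra.TensorProduct.tmul_mul_tmul, mul_one]
        have h2 : e ((MvPolynomial.X i : A₀) ⊗ₜ[K] (1 : K')) = MvPolynomial.X i := by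
          show MvPolynomial.algebraTensorAlgEquiv K K'
            ((1 : K') ⊗ₜ[K] (MvPolynomial.X i : MvPolynomial σ K)) = _
          rw [MvPolynomial.algebraTensorAlgEquiv_tmul, MvPolynomial.map_X, one_smul]
        rw [h1, map_mul, map_mul, map_mul, map_mul, hp, h2, MvPolynomial.aeval_X, hψ,
          show algebraMap A₀ L (MvPolynomial.X i) = v i from MvPolynomial.aeval_X _ i]
  obtain ⟨w, rfl⟩ := e.surjective f
  rw [← he, ← RingHom.mem_ker, hker] at hf
  exact notMem_nonZeroDivisors_of_mem_mem_minimalPrimes hf hP
    (hnzd w fun h => hne (by rw [h, map_zero]))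

/-- Two maps from the spectrum of a field agreeing after a field extension agree. -/
theorem ext_of_specMap {S : Scheme.{u}} {F G : Type u} [Field F] [Field G]
    (ι : CommRingCat.of F ⟶ CommRingCat.of G) (a b : Spec (CommRingCat.of F) ⟶ S)
    (h : Spec.map ι ≫ a = Spec.map ι ≫ b) : a = b := by
  obtain ⟨⟨s₁, α⟩, rfl⟩ := (Scheme.SpecToEquivOfField F S).symm.surjective a
  obtain ⟨⟨s₂, β⟩, rfl⟩ := (Scheme.SpecToEquivOfField F S).symm.surjective b
  change Spec.map ι ≫ Spec.map α ≫ S.fromSpecResidueField s₁ =
    Spec.map ι ≫ Spec.map β ≫ S.fromSpecResidueField s₂ at h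
  obtain rfl : s₁ = s₂ := by
    have h := congrArg (fun m : Spec (CommRingCat.of G) ⟶ S => m (IsLocalRing.closedPoint G)) h
    simp only [Scheme.Hom.comp_apply, Scheme.fromSpecResidueField_apply] at h
    exact h
  rw [← Spec.map_comp_assoc, ← Spec.map_comp_assoc, cancel_mono] at h
  have h' := Spec.map_injective h
  obtain rfl : α = β := CommRingCat.hom_ext (RingHom.ext fun w =>
    ι.hom.injective (DFunLike.congr_fun (congrArg CommRingCat.Hom.hom h') w))
  rfl

/-- The residue field at a point of a fibre product is generated by those of the projections. -/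
theorem mem_of_isPullback {P A B S : Scheme.{u}} {a : P ⟶ A} {b : P ⟶ B} {c : A ⟶ S} {d : B ⟶ S}
    (sq : IsPullback a b c d) (z : P) (F : Subfield (P.residueField z))
    (ha : ∀ v, a.residueFieldMap z v ∈ F) (hb : ∀ v, b.residueFieldMap z v ∈ F) (w : P.residueField z) :
    w ∈ F := by
  let ι : CommRingCat.of F ⟶ P.residueField z := CommRingCat.ofHom F.subtype
  let jA : A.residueField (a z) ⟶ CommRingCat.of F :=
    CommRingCat.ofHom ((a.residueFieldMap z).hom.codRestrict F ha)
  let jB : B.residueField (b z) ⟶ CommRingCat.of F :=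
    CommRingCat.ofHom ((b.residueFieldMap z).hom.codRestrict F hb)
  have hA : Spec.map ι ≫ Spec.map jA ≫ A.fromSpecResidueField _ = P.fromSpecResidueField z ≫ a := by
    rw [← Spec.map_comp_assoc, show jA ≫ ι = a.residueFieldMap z from rfl,
      Scheme.Hom.SpecMap_residueFieldMap_fromSpecResidueField]
  have hB : Spec.map ι ≫ Spec.map jB ≫ B.fromSpecResidueField _ = P.fromSpecResidueField z ≫ b := by
    rw [← Spec.map_comp_assoc, show jB ≫ ι = b.residueFieldMap z from rfl,
      Scheme.Hom.SpecMap_residueFieldMap_fromSpecResidueField]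
  have hc : (Spec.map jA ≫ A.fromSpecResidueField _) ≫ c = (Spec.map jB ≫ B.fromSpecResidueField _) ≫ d :=
    ext_of_specMap (F := F) (G := P.residueField z) ι _ _ (by
      simp only [Category.assoc]
      rw [reassoc_of% hA, reassoc_of% hB, sq.w])
  obtain ⟨⟨s, θ⟩, hθ⟩ := (Scheme.SpecToEquivOfField F P).symm.surjective (sq.lift _ _ hc)
  have hθ' : Spec.map θ ≫ P.fromSpecResidueField s = sq.lift _ _ hc := hθ
  have h : Spec.map ι ≫ Spec.map θ ≫ P.fromSpecResidueField s = P.fromSpecResidueField z := by
    rw [hθ']
    apply sq.hom_ext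
    · rw [Category.assoc, sq.lift_fst, hA]
    · rw [Category.assoc, sq.lift_snd, hB]
  obtain rfl : s = z := by
    have h := congrArg (fun m : Spec (P.residueField z) ⟶ P => m (IsLocalRing.closedPoint (P.residueField z))) h
    simp only [Scheme.Hom.comp_apply, Scheme.fromSpecResidueField_apply] at h
    exact h
  rw [← Spec.map_comp_assoc] at h
  have h' : θ ≫ ι = 𝟙 _ := Spec.map_injective ((cancel_mono (P.fromSpecResidueField s)).1
    (h.trans ((congrArg (· ≫ P.fromSpecResidueField s) (Spec.map_id _)).trans (Category.id_comp _)).symm))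
  rw [← show ι (θ w) = w from DFunLike.congr_fun (congrArg CommRingCat.Hom.hom h') w]
  exact (θ w).2

/-- Along a commutative square of schemes, residue field maps agree up to reindexing. -/
theorem exists_res_eq {P A B S : Scheme.{u}} {a : P ⟶ A} {b : P ⟶ B} {c : A ⟶ S} {d : B ⟶ S}
    (w : a ≫ c = b ≫ d) (z : P) (v : S.residueField (d (b z))) :
    ∃ v', b.residueFieldMap z (d.residueFieldMap (b z) v) = a.residueFieldMap z (c.residueFieldMap (a z) v') := by
  have h := Scheme.Hom.residueFieldMap_congr w.symm z
  rw [Scheme.residueFieldMap_comp, Scheme.residueFieldMap_comp] at h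
  exact ⟨_, DFunLike.congr_fun (congrArg CommRingCat.Hom.hom h) v⟩

/-- Elements algebraic over a transcendence basis landing in a relatively algebraically closed field stay in it. -/
theorem mem_of_basis {K L E : Type u} [Field K] [Field L] [Field E] [Algebra K L] (ι : L →+* E)
    {E₀ : Type u} [Field E₀] [Algebra E₀ E] {σ : Type u} {t : σ → L} (ht : IsTranscendenceBasis K t)
    (hK : ∀ k, ι (algebraMap K L k) ∈ algebraicClosure E₀ E) (hT : ∀ i, ι (t i) ∈ algebraicClosure E₀ E)
    (l : L) : ι l ∈ algebraicClosure E₀ E := by
  haveI := ht.isAlgebraic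
  have hmem : ∀ y ∈ Algebra.adjoin K (Set.range t), ι y ∈ algebraicClosure E₀ E := fun y hy => by
    induction hy using Algebra.adjoin_induction with
    | mem x hx => obtain ⟨i, rfl⟩ := hx; exact hT i
    | algebraMap a => exact hK a
    | add x y _ _ hx hy => rw [map_add]; exact add_mem hx hy
    | mul x y _ _ hx hy => rw [map_mul]; exact mul_mem hx hy
  let φ : Algebra.adjoin K (Set.range t) →+* algebraicClosure E₀ E :=
    (ι.comp (Algebra.adjoin K (Set.range t)).val.toRingHom).codRestrict
      (algebraicClosure E₀ E).toSubfield fun x => hmem x x.2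
  have hφ : Function.Injective φ := fun x y h => Subtype.ext (ι.injective (congrArg Subtype.val h))
  have hal : IsAlgebraic (algebraicClosure E₀ E) (ι l) :=
    ((Algebra.IsAlgebraic.isAlgebraic (R := Algebra.adjoin K (Set.range t)) l)).ringHom_of_comp_eq φ ι hφ rfl
  haveI : Algebra.IsAlgebraic E₀ (algebraicClosure E₀ E) := algebraicClosure.isAlgebraic E₀ E
  exact mem_algebraicClosure_iff.2 (hal.restrictScalars E₀)

/-- The residue field upstairs is algebraic over the base's with a transcendence basis adjoined. -/
theorem isAlgebraic_of_isPullback {P A B S : Scheme.{u}} {a : P ⟶ A} {b : P ⟶ B} {c : A ⟶ S} {d : B ⟶ S}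
    (sq : IsPullback a b c d) (z : P) {σ : Type u} (t : σ → A.residueField (a z))
    (ht : letI := (c.residueFieldMap (a z)).hom.toAlgebra; IsTranscendenceBasis (S.residueField (c (a z))) t) :
    letI := (b.residueFieldMap z).hom.toAlgebra
    Algebra.IsAlgebraic (Algebra.adjoin (B.residueField (b z)) (Set.range fun i => a.residueFieldMap z (t i)))
      (P.residueField z) := by
  letI := (b.residueFieldMap z).hom.toAlgebra
  letI := (c.residueFieldMap (a z)).hom.toAlgebra
  let E₀ := IntermediateField.adjoin (B.residueField (b z)) (Set.range fun i => a.residueFieldMap z (t i))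
  rw [← IntermediateField.isAlgebraic_adjoin_iff_top]
  have hb : ∀ v, b.residueFieldMap z v ∈ algebraicClosure E₀ (P.residueField z) := fun v =>
    (algebraicClosure E₀ (P.residueField z)).algebraMap_mem (algebraMap (B.residueField (b z)) E₀ v)
  refine ⟨fun w => mem_algebraicClosure_iff.1
    (mem_of_isPullback sq z (algebraicClosure E₀ (P.residueField z)).toSubfield
      (mem_of_basis (a.residueFieldMap z).hom ht (fun k => ?_) fun i => ?_) hb w)⟩
  · obtain ⟨v', hv'⟩ := exists_res_eq sq.w.symm z k
    exact hv' ▸ hb _
  · exact (algebraicClosure E₀ (P.residueField z)).algebraMap_mem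
      (⟨_, IntermediateField.subset_adjoin _ _ ⟨i, rfl⟩⟩ : E₀)

/-- Independence over the top of a tower passes to independence over an adjunction. -/
theorem indep_swap {R S A : Type u} [Field R] [Field S] [Field A] [Algebra R S] [Algebra S A] [Algebra R A]
    [IsScalarTower R S A] {ι ι' : Type u} {x : ι → S} {y : ι' → A} (hx : AlgebraicIndependent R x)
    (hy : AlgebraicIndependent S y) :
    AlgebraicIndependent (algebraicClosure (IntermediateField.adjoin R (Set.range y)) A)
      (algebraMap S A ∘ x) := by
  have h := (hx.sumElim_comp hy).comp Sum.swap Sum.swap_leftInverse.injective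
  rw [show Sum.elim y (algebraMap S A ∘ x) ∘ Sum.swap = Sum.elim (algebraMap S A ∘ x) y from
    funext fun s => by cases s <;> rfl] at h
  exact (IntermediateField.algebraicIndependent_adjoin_iff.2 (AlgebraicIndependent.sumElim_iff.1 h).2).algebraicClosure

open scoped TensorProduct in
/-- A point over a pair that keeps independent families independent. -/
theorem exists_point_indep {P A S : Scheme.{u}} {a b : P ⟶ A} {c : A ⟶ S} (sq : IsPullback a b c c)
    (x₁ x₂ : A) (h : c x₂ = c x₁) :
    ∃ z : P, a z = x₁ ∧ b z = x₂ ∧
      ∀ (σ : Type u) (v : σ → A.residueField (a z)),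
        (letI := (c.residueFieldMap (a z)).hom.toAlgebra; AlgebraicIndependent (S.residueField (c (a z))) v) →
        (letI := (b.residueFieldMap z).hom.toAlgebra
         AlgebraicIndependent (A.residueField (b z)) fun i => a.residueFieldMap z (v i)) := by
  let j : S.residueField (c x₁) ⟶ A.residueField x₂ := (S.residueFieldCongr h.symm).hom ≫ c.residueFieldMap x₂
  letI := (c.residueFieldMap x₁).hom.toAlgebra
  letI := j.hom.toAlgebra
  let T := A.residueField x₁ ⊗[S.residueField (c x₁)] A.residueField x₂
  obtain ⟨Q, hQ, hind⟩ := exists_prime_indep (K := S.residueField (c x₁)) (L := A.residueField x₁)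
    (K' := A.residueField x₂)
  let jX : A.residueField x₁ ⟶ CommRingCat.of Q.ResidueField :=
    CommRingCat.ofHom ((algebraMap T Q.ResidueField).comp
      (Algebra.TensorProduct.includeLeftRingHom : A.residueField x₁ →+* T))
  let jY : A.residueField x₂ ⟶ CommRingCat.of Q.ResidueField :=
    CommRingCat.ofHom ((algebraMap T Q.ResidueField).comp
      (Algebra.TensorProduct.includeRight (R := S.residueField (c x₁))
        (A := A.residueField x₁) (B := A.residueField x₂)).toRingHom)
  have hj : c.residueFieldMap x₁ ≫ jX = j ≫ jY := by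
    refine CommRingCat.hom_ext (RingHom.ext fun w => congrArg (algebraMap T Q.ResidueField) ?_)
    show algebraMap _ (A.residueField x₁) w ⊗ₜ (1 : A.residueField x₂) =
      (1 : A.residueField x₁) ⊗ₜ algebraMap _ (A.residueField x₂) w
    rw [Algebra.algebraMap_eq_smul_one, Algebra.algebraMap_eq_smul_one, TensorProduct.smul_tmul]
  have hc : (Spec.map jX ≫ A.fromSpecResidueField x₁) ≫ c =
      (Spec.map jY ≫ A.fromSpecResidueField x₂) ≫ c := by
    rw [Category.assoc, Category.assoc, ← Scheme.Hom.SpecMap_residueFieldMap_fromSpecResidueField,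
      ← Scheme.Hom.SpecMap_residueFieldMap_fromSpecResidueField, ← Spec.map_comp_assoc,
      ← Spec.map_comp_assoc, hj]
    simp only [j, Spec.map_comp, Category.assoc, Scheme.residueFieldCongr_fromSpecResidueField]
  obtain ⟨⟨z, ψ⟩, hl⟩ :=
    (Scheme.SpecToEquivOfField Q.ResidueField P).symm.surjective (sq.lift _ _ hc)
  have hl' : Spec.map ψ ≫ P.fromSpecResidueField z = sq.lift _ _ hc := hl
  have h1 : Spec.map ψ ≫ P.fromSpecResidueField z ≫ a = Spec.map jX ≫ A.fromSpecResidueField x₁ := by
    rw [← Category.assoc, hl', sq.lift_fst]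
  have h2 : Spec.map ψ ≫ P.fromSpecResidueField z ≫ b = Spec.map jY ≫ A.fromSpecResidueField x₂ := by
    rw [← Category.assoc, hl', sq.lift_snd]
  have p1 := congrArg (fun m : Spec (CommRingCat.of Q.ResidueField) ⟶ A =>
    m (IsLocalRing.closedPoint Q.ResidueField)) h1
  have p2 := congrArg (fun m : Spec (CommRingCat.of Q.ResidueField) ⟶ A =>
    m (IsLocalRing.closedPoint Q.ResidueField)) h2
  simp only [Scheme.Hom.comp_apply, Scheme.fromSpecResidueField_apply] at p1 p2
  refine ⟨z, p1, p2, ?_⟩
  subst p1 p2
  rw [← Scheme.Hom.SpecMap_residueFieldMap_fromSpecResidueField, ← Spec.map_comp_assoc] at h1 h2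
  have e1 := Et18.ResComp.specMap_fromSpec_inj _ h1
  have e2 := Et18.ResComp.specMap_fromSpec_inj _ h2
  intro σ v hv
  letI := (b.residueFieldMap z).hom.toAlgebra
  letI : Algebra (A.residueField (b z)) Q.ResidueField := jY.hom.toAlgebra
  have hG := hind Q.ResidueField (algebraMap T Q.ResidueField) rfl
    (Ideal.ext fun w => Ideal.algebraMap_residueField_eq_zero) σ v hv
  let ψA : P.residueField z →ₐ[A.residueField (b z)] Q.ResidueField :=
    { ψ.hom with commutes' := fun w => RingHom.congr_fun (congrArg CommRingCat.Hom.hom e2) w }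
  refine AlgebraicIndependent.of_comp ψA ?_
  have hv2 : (ψA ∘ fun i => a.residueFieldMap z (v i)) = fun i => algebraMap T Q.ResidueField (v i ⊗ₜ 1) :=
    funext fun i => RingHom.congr_fun (congrArg CommRingCat.Hom.hom e1) (v i)
  rw [hv2]
  exact hG


/-- Let f from X to S be locally of finite type, r a natural number and g from S' to S a surjective
morphism. Let S'' be the fibre product of S' with itself over S (projections p, q), X' the base
change of X along g (structure map f', projection g' to X), and X'' the base change of X along S''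
with structure map f'' and the two projections p', q' to X' lying over p and q and compatible with
the projections to X. Let x be a point of X whose residue field has transcendence degree r over that
of f(x). If x1 and x2 are points of X' mapping to x whose residue fields have transcendence degree r
over those of their images in S', then there is a point of X'' whose residue field has transcendence
degree r over that of its image in S'' and whose two projections are x1 and x2. -/
theorem result {X S S' S'' X' X'' : Scheme.{u}}
    (f : X ⟶ S) [LocallyOfFiniteType f] (r : ℕ) (g : S' ⟶ S) [Surjective g]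
    (p q : S'' ⟶ S') (hS : IsPullback p q g g)
    (f' : X' ⟶ S') (g' : X' ⟶ X) (hX : IsPullback g' f' f g)
    (f'' : X'' ⟶ S'') (p' q' : X'' ⟶ X') (hp : IsPullback p' f'' f' p) (hq : IsPullback q' f'' f' q)
    (hpq : p' ≫ g' = q' ≫ g')
    (x : ↥X) (hx : Dual3.resTrdeg f x = r)
    (x₁ x₂ : ↥X') (h₁ : g'.base x₁ = x) (h₂ : g'.base x₂ = x)
    (hx₁ : Dual3.resTrdeg f' x₁ = r) (hx₂ : Dual3.resTrdeg f' x₂ = r) :
    ∃ x'' : ↥X'', Dual3.resTrdeg f'' x'' = r ∧ p'.base x'' = x₁ ∧ q'.base x'' = x₂ := by
  have hXX : IsPullback p' q' g' g' := by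
    refine IsPullback.of_bot ?_ hpq hX
    have h := hp.paste_vert hS
    rwa [← hq.w, ← hX.w] at h
  subst h₁
  obtain ⟨z, rfl, rfl, hind⟩ := exists_point_indep hXX x₁ x₂ h₂
  refine ⟨z, le_antisymm ?_ ?_, rfl, rfl⟩
  · -- upper bound
    letI := (f'.residueFieldMap (p' z)).hom.toAlgebra
    obtain ⟨s, hs⟩ := exists_isTranscendenceBasis (S'.residueField (f' (p' z))) (X'.residueField (p' z))
    have hs' : Cardinal.mk s = r := hs.cardinalMk_eq_trdeg.trans hx₁
    letI := (f''.residueFieldMap z).hom.toAlgebra
    haveI := isAlgebraic_of_isPullback hp z (Subtype.val : s → X'.residueField (p' z)) hs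
    exact ((Algebra.IsAlgebraic.trdeg_le_cardinalMk (S''.residueField (f'' z))
      (Set.range fun i : s => p'.residueFieldMap z i.1)).trans Cardinal.mk_range_le).trans hs'.le
  · -- lower bound
    -- a transcendence basis of the first factor's base stays independent over the point
    let K := S.residueField (f (g' (p' z)))
    letI : Algebra K (X.residueField (g' (p' z))) := (f.residueFieldMap (g' (p' z))).hom.toAlgebra
    obtain ⟨t₀, ht₀⟩ := exists_isTranscendenceBasis K (X.residueField (g' (p' z)))
    have ht₀r : Cardinal.mk t₀ = r := ht₀.cardinalMk_eq_trdeg.trans hx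
    letI : Algebra (X.residueField (g' (p' z))) (X'.residueField (p' z)) :=
      (g'.residueFieldMap (p' z)).hom.toAlgebra
    letI : Algebra (S'.residueField (f' (p' z))) (X'.residueField (p' z)) :=
      (f'.residueFieldMap (p' z)).hom.toAlgebra
    have hfg : g (f' (p' z)) = f (g' (p' z)) := congrArg (fun m : X' ⟶ S => m (p' z)) hX.w.symm
    let bK : K ⟶ S'.residueField (f' (p' z)) :=
      (S.residueFieldCongr hfg.symm).hom ≫ g.residueFieldMap (f' (p' z))
    letI : Algebra K (S'.residueField (f' (p' z))) := bK.hom.toAlgebra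
    letI : Algebra K (X'.residueField (p' z)) := (f.residueFieldMap (g' (p' z)) ≫ g'.residueFieldMap (p' z)).hom.toAlgebra
    have hK : f.residueFieldMap (g' (p' z)) ≫ g'.residueFieldMap (p' z) = bK ≫ f'.residueFieldMap (p' z) := by
      have h := Scheme.Hom.residueFieldMap_congr hX.w (p' z)
      rw [Scheme.residueFieldMap_comp, Scheme.residueFieldMap_comp] at h
      rw [h]
      exact (Category.assoc _ _ _).symm
    haveI : IsScalarTower K (S'.residueField (f' (p' z))) (X'.residueField (p' z)) :=
      IsScalarTower.of_algebraMap_eq fun w => RingHom.congr_fun (congrArg CommRingCat.Hom.hom hK) w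
    let t₁ : t₀ → X'.residueField (p' z) := fun i => g'.residueFieldMap (p' z) i.1
    haveI : Finite t₀ := Cardinal.lt_aleph0_iff_finite.1 (ht₀r ▸ Cardinal.natCast_lt_aleph0)
    have ht₁ : AlgebraicIndependent (S'.residueField (f' (p' z))) t₁ := by
      haveI := isAlgebraic_of_isPullback hX (p' z) (Subtype.val : t₀ → X.residueField (g' (p' z))) ht₀
      exact (Algebra.IsAlgebraic.isTranscendenceBasis_of_le_trdeg_of_finite _ t₁ (ht₀r.trans hx₁.symm).le).1
    haveI : FaithfulSMul K (S'.residueField (f' (p' z))) :=
      (faithfulSMul_iff_algebraMap_injective _ _).2 bK.hom.injective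
    obtain ⟨B, hB⟩ := exists_isTranscendenceBasis K (S'.residueField (f' (p' z)))
    -- the basis of the base is independent over the residue field of the common image
    let F := algebraicClosure (IntermediateField.adjoin K (Set.range t₁)) (X'.residueField (p' z))
    have hLF : ∀ l, g'.residueFieldMap (p' z) l ∈ F := mem_of_basis (g'.residueFieldMap (p' z)).hom ht₀
      (fun w => F.algebraMap_mem (algebraMap K (IntermediateField.adjoin K (Set.range t₁)) w))
      (fun i => F.algebraMap_mem
        (⟨_, IntermediateField.subset_adjoin _ _ ⟨i, rfl⟩⟩ : IntermediateField.adjoin K (Set.range t₁)))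
    let θ : X.residueField (g' (p' z)) →+* F :=
      (g'.residueFieldMap (p' z)).hom.codRestrict F.toSubfield hLF
    have hb : AlgebraicIndependent (X.residueField (g' (p' z)))
        (fun i : B => f'.residueFieldMap (p' z) i.1) := by
      have hb0 : AlgebraicIndependent F
          (algebraMap (S'.residueField (f' (p' z))) (X'.residueField (p' z)) ∘ (Subtype.val : B → _)) :=
        indep_swap hB.1 ht₁
      letI : Algebra (X.residueField (g' (p' z))) F := θ.toAlgebra
      haveI : IsScalarTower (X.residueField (g' (p' z))) F (X'.residueField (p' z)) :=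
        IsScalarTower.of_algebraMap_eq fun _ => rfl
      exact hb0.restrictScalars θ.injective
    -- transport to the point
    have hbz := hind B _ hb
    letI : Algebra (X'.residueField (q' z)) (X''.residueField z) := (q'.residueFieldMap z).hom.toAlgebra
    letI : Algebra (S'.residueField (f' (q' z))) (X'.residueField (q' z)) :=
      (f'.residueFieldMap (q' z)).hom.toAlgebra
    letI : Algebra (S'.residueField (f' (q' z))) (X''.residueField z) :=
      (f'.residueFieldMap (q' z) ≫ q'.residueFieldMap z).hom.toAlgebra
    haveI : IsScalarTower (S'.residueField (f' (q' z))) (X'.residueField (q' z)) (X''.residueField z) :=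
      IsScalarTower.of_algebraMap_eq fun _ => rfl
    obtain ⟨t, ht⟩ := exists_isTranscendenceBasis (S'.residueField (f' (q' z))) (X'.residueField (q' z))
    have htr : Cardinal.mk t = r := ht.cardinalMk_eq_trdeg.trans hx₂
    let y : B → X''.residueField z := fun i => p'.residueFieldMap z (f'.residueFieldMap (p' z) i.1)
    let E₀ := IntermediateField.adjoin (S'.residueField (f' (q' z))) (Set.range y)
    let G := algebraicClosure E₀ (X''.residueField z)
    have hti := indep_swap ht.1 (show AlgebraicIndependent (X'.residueField (q' z)) y from hbz)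
    have hK2 : ∀ v, q'.residueFieldMap z (f'.residueFieldMap (q' z) v) ∈ G := fun v =>
      G.algebraMap_mem (algebraMap (S'.residueField (f' (q' z))) E₀ v)
    have hK1 : ∀ v, p'.residueFieldMap z (f'.residueFieldMap (p' z) v) ∈ G := by
      refine fun v => mem_of_basis ((p'.residueFieldMap z).hom.comp (f'.residueFieldMap (p' z)).hom) hB
        (fun k => ?_) (fun i => G.algebraMap_mem (⟨_, IntermediateField.subset_adjoin _ _ ⟨i, rfl⟩⟩ : E₀)) v
      have w : (q' ≫ f') ≫ g = (p' ≫ f') ≫ g := by
        rw [Category.assoc, Category.assoc, ← hX.w, reassoc_of% hpq]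
      obtain ⟨v', hv'⟩ := exists_res_eq w z ((S.residueFieldCongr hfg.symm).hom k)
      rw [Scheme.residueFieldMap_comp, Scheme.residueFieldMap_comp] at hv'
      show p'.residueFieldMap z (f'.residueFieldMap (p' z) (g.residueFieldMap (f' (p' z))
        ((S.residueFieldCongr hfg.symm).hom k))) ∈ G
      exact hv'.symm ▸ hK2 _
    letI : Algebra (S''.residueField (f'' z)) (X''.residueField z) := (f''.residueFieldMap z).hom.toAlgebra
    have hs : ∀ v, f''.residueFieldMap z v ∈ G := mem_of_isPullback hS (f'' z)
      (G.toSubfield.comap (f''.residueFieldMap z).hom)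
      (fun v => by
        obtain ⟨v', hv'⟩ := exists_res_eq hp.w z v
        show f''.residueFieldMap z _ ∈ G
        exact hv'.symm ▸ hK1 v')
      (fun v => by
        obtain ⟨v', hv'⟩ := exists_res_eq hq.w z v
        show f''.residueFieldMap z _ ∈ G
        exact hv'.symm ▸ hK2 v')
    let θ' : S''.residueField (f'' z) →+* G := (f''.residueFieldMap z).hom.codRestrict G.toSubfield hs
    letI : Algebra (S''.residueField (f'' z)) G := θ'.toAlgebra
    haveI : IsScalarTower (S''.residueField (f'' z)) G (X''.residueField z) :=
      IsScalarTower.of_algebraMap_eq fun _ => rfl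
    have hfin : AlgebraicIndependent (S''.residueField (f'' z))
        (algebraMap (X'.residueField (q' z)) (X''.residueField z) ∘ (Subtype.val : t → _)) :=
      AlgebraicIndependent.restrictScalars θ'.injective hti
    exact htr.ge.trans hfin.cardinalMk_le_trdeg

end Groth.Agent.S7287
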