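import Groth.Statements.S7288
import Groth.Agent.Et18.ModEps.Basic
-- import your own Groth.Agent.* helpers here

set_option autoImplicit false
open CategoryTheory CategoryTheory.Limits AlgebraicGeometry Opposite
universe u
open EtModW

namespace Groth.Agent.S7288

/-- Let X be a scheme and Λ a ring. The essential image of the pullback functor from sheaves of
Λ-modules on the small etale site of X to sheaves of Λ-modules on the small pro-etale site is a weak
Serre subcategory: the kernel and the cokernel of a morphism between objects of the essential image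
lie in it, and an extension of two objects of the essential image lies in it. (Continuity of the
inclusion of the etale site into the pro-etale site is carried as a binder.) -/
theorem result (Λ : Type (u + 1)) [CommRing Λ] (X : Scheme.{u})
    [ProEtS.EpsCont X] :
    (∀ (F G : EtModW.ModP Λ X) (φ : F ⟶ G), (EtModW.epsPullMod Λ X).essImage F →
      (EtModW.epsPullMod Λ X).essImage G →
        (EtModW.epsPullMod Λ X).essImage (kernel φ) ∧ (EtModW.epsPullMod Λ X).essImage (cokernel φ)) ∧
    ∀ (T : ShortComplex (EtModW.ModP Λ X)), T.ShortExact →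
      (EtModW.epsPullMod Λ X).essImage T.X₁ → (EtModW.epsPullMod Λ X).essImage T.X₃ →
        (EtModW.epsPullMod Λ X).essImage T.X₂ := by
  refine ⟨fun F G φ => ?_, fun T hT => ?_⟩
  · rintro ⟨A, ⟨a⟩⟩ ⟨B, ⟨b⟩⟩
    obtain ⟨g, hg⟩ := (EtModW.epsPullMod Λ X).map_surjective (a.hom ≫ φ ≫ b.inv)
    exact ⟨⟨kernel g, ⟨PreservesKernel.iso _ g ≪≫
        kernel.mapIso ((EtModW.epsPullMod Λ X).map g) φ a b (by rw [hg]; simp)⟩⟩,
      ⟨cokernel g, ⟨PreservesCokernel.iso _ g ≪≫
        cokernel.mapIso ((EtModW.epsPullMod Λ X).map g) φ a b (by rw [hg]; simp)⟩⟩⟩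
  · rintro ⟨A₁, ⟨e₁⟩⟩ ⟨A₃, ⟨e₃⟩⟩
    obtain ⟨S, -, -, -, h⟩ := Groth.Agent.Et18.ModEps.exists_iso_of_extension hT e₁ e₃
    exact ⟨S.X₂, h⟩

end Groth.Agent.S7288
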