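import Groth.Prelude.Def_HTop
import Mathlib.AlgebraicGeometry.Limits
import Mathlib.Data.List.TFAE
import Groth.Agent.HTop16.VLimit
import Groth.Agent.HTop16.HSheaf
import Groth.Agent.HTop16.PhRefine
import Groth.Agent.S9183
import Mathlib.CategoryTheory.Limits.Constructions.Over.Connected

set_option autoImplicit false
namespace CategoryTheory
end CategoryTheory
namespace CategoryTheory.Limits
end CategoryTheory.Limits
namespace AlgebraicGeometry
end AlgebraicGeometry
namespace Opposite
end Opposite
open CategoryTheory CategoryTheory.Limits AlgebraicGeometry Opposite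
universe w u
namespace HTop
end HTop
open HTop

namespace Groth.Agent.S7292

/-- Let f be a morphism of affine schemes from X to Y. The following are equivalent: (1) the one-member
family given by f is a standard V covering; (2) X (with f) is the limit, as a scheme over Y, of a
cofiltered system of affine schemes X_i over Y such that each one-member family X_i over Y is a ph
covering; (3) the same with each X_i over Y an h covering. -/
theorem result {X Y : Scheme.{u}} [IsAffine X] [IsAffine Y] (f : X ⟶ Y) :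
    List.TFAE
      [HTop.IsStandardV (PreZeroHypercover.singleton.{w} f),
       ∃ (I : Type u) (_ : SmallCategory I) (_ : IsCofiltered I) (D : I ⥤ Over Y) (c : Cone D)
          (_ : IsLimit ((Over.forget Y).mapCone c)) (_ : c.pt ≅ Over.mk f),
          (∀ i, IsAffine (D.obj i).left) ∧ ∀ i, HTop.IsPhCover (PreZeroHypercover.singleton.{w} (D.obj i).hom),
       ∃ (I : Type u) (_ : SmallCategory I) (_ : IsCofiltered I) (D : I ⥤ Over Y) (c : Cone D)
          (_ : IsLimit ((Over.forget Y).mapCone c)) (_ : c.pt ≅ Over.mk f),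
          (∀ i, IsAffine (D.obj i).left) ∧ ∀ i, HTop.IsHCover (PreZeroHypercover.singleton.{w} (D.obj i).hom)] := by
  have fwd : ∀ {Z : Scheme.{u}} [IsAffine Z] (g : Z ⟶ Y), HTop.IsStandardV (PreZeroHypercover.singleton.{w} g) →
      HTop.IsVCover (PreZeroHypercover.singleton.{w} g) := fun g h =>
    Groth.Agent.HTop16.VCover.isVCover_singleton_of_hasValLift g h.lift
  have bwd : ∀ {Z : Scheme.{u}} [IsAffine Z] (g : Z ⟶ Y), HTop.IsVCover (PreZeroHypercover.singleton.{w} g) →
      HTop.IsStandardV (PreZeroHypercover.singleton.{w} g) := fun {Z} _ g h =>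
    ⟨‹_›, inferInstanceAs (Finite PUnit), fun _ => inferInstanceAs (IsAffine Z),
      Groth.Agent.HTop16.VCover.hasValLift_of_isVCover h⟩
  tfae_have 1 → 3 := by
    intro h
    let R := Γ(Y, ⊤)
    let B := Γ(X, ⊤)
    letI : Algebra R B := f.appTop.hom.toAlgebra
    obtain ⟨I, _, _, D, c, hc, hfp, ⟨e⟩⟩ := Groth.Agent.S9183.result R B
    let G : (Under (CommRingCat.of R))ᵒᵖ ⥤ Over Y :=
      { obj := fun U => Over.mk (Spec.map U.unop.hom ≫ Y.isoSpec.inv)
        map := fun {U V} g => Over.homMk (Spec.map g.unop.right) (by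
          change Spec.map g.unop.right ≫ Spec.map V.unop.hom ≫ _ = Spec.map U.unop.hom ≫ _
          rw [← Spec.map_comp_assoc, Under.w])
        map_id := fun U => Over.OverMorphism.ext (Spec.map_id _)
        map_comp := fun g g' => Over.OverMorphism.ext (Spec.map_comp _ _) }
    haveI : IsConnected I := IsFiltered.isConnected I
    haveI : IsConnected Iᵒᵖ := inferInstance
    have hc₁ : IsLimit (Scheme.Spec.mapCone ((Under.forget _).mapCocone c).op) :=
      isLimitOfPreserves _ (isColimitOfPreserves (Under.forget _) hc).op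
    let e' : (G.mapCone c.op).pt ≅ Over.mk f :=
      Over.isoMk ((Scheme.Spec.mapIso ((Under.forget _).mapIso e).op).symm ≪≫ X.isoSpec.symm) (by
        have hw : c.pt.hom ≫ e.hom.right = f.appTop := Under.w e.hom
        change (Spec.map e.inv.right ≫ X.isoSpec.inv) ≫ f = Spec.map c.pt.hom ≫ Y.isoSpec.inv
        rw [Category.assoc, ← Scheme.isoSpec_inv_naturality, ← Spec.map_comp_assoc, ← hw, Category.assoc,
          show e.hom.right ≫ e.inv.right = 𝟙 _ from (Under.forget _).mapIso e |>.hom_inv_id, Category.comp_id])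
    refine ⟨Iᵒᵖ, inferInstance, inferInstance, D.op ⋙ G, G.mapCone c.op,
      IsLimit.ofIsoLimit hc₁ (Cone.ext (Iso.refl _) fun _ => (Category.id_comp _).symm), e', fun i => ?_, fun i => ?_⟩
    · exact inferInstanceAs (IsAffine (Spec _))
    · haveI : IsAffine ((D.op ⋙ G).obj i).left := inferInstanceAs (IsAffine (Spec _))
      haveI : ∀ j, IsAffine ((D.op ⋙ G).obj j).left := fun j => inferInstanceAs (IsAffine (Spec _))
      refine ⟨fun _ => ?_, fwd _ ?_⟩
      · change LocallyOfFinitePresentation (Spec.map (D.obj i.unop).hom ≫ Y.isoSpec.inv)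
        haveI : LocallyOfFinitePresentation (Spec.map (D.obj i.unop).hom) :=
          (HasRingHomProperty.Spec_iff (P := @LocallyOfFinitePresentation)).2 (hfp _)
        infer_instance
      · refine (Groth.Agent.HTop16.VLimit.isStandardV_limit_iff (D.op ⋙ G) (G.mapCone c.op)
          (IsLimit.ofIsoLimit hc₁ (Cone.ext (Iso.refl _) fun _ => (Category.id_comp _).symm))).1 ?_ i
        refine ⟨‹_›, inferInstanceAs (Finite PUnit), fun _ => inferInstanceAs (IsAffine (Spec _)), ?_⟩
        intro V _ _ g
        obtain ⟨W, hW, hW', φ, hφ, ⟨⟩, g', hg'⟩ := h.lift V g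
        refine ⟨W, hW, hW', φ, hφ, PUnit.unit, g' ≫ e'.inv.left, ?_⟩
        change (g' ≫ e'.inv.left) ≫ (G.mapCone c.op).pt.hom = _
        refine (Category.assoc _ _ _).trans ((congrArg (g' ≫ ·) (Over.w e'.inv)).trans ?_)
        exact hg'
  tfae_have 3 → 2 := by
    rintro ⟨I, _, _, D, c, hl, e, hA, hh⟩
    exact ⟨I, _, ‹_›, D, c, hl, e, hA, fun i =>
      Groth.Agent.HTop16.PhRefine.isPhCover_of_isVCover (hh i).1 (hh i).2⟩
  tfae_have 2 → 1 := by
    rintro ⟨I, _, _, D, c, hl, e, hA, hh⟩
    have h := (Groth.Agent.HTop16.VLimit.isStandardV_limit_iff D c hl).2 fun i =>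
      bwd _ (Groth.Agent.HTop16.HSheaf.isVCover_of_isPhCover (hh i))
    refine ⟨‹_›, inferInstanceAs (Finite PUnit), fun _ => inferInstanceAs (IsAffine X), ?_⟩
    intro V _ _ g
    obtain ⟨W, hW, hW', φ, hφ, ⟨⟩, g', hg'⟩ := h.lift V g
    refine ⟨W, hW, hW', φ, hφ, PUnit.unit, g' ≫ e.hom.left, ?_⟩
    change (g' ≫ e.hom.left) ≫ (Over.mk f).hom = _
    refine (Category.assoc _ _ _).trans ((congrArg (g' ≫ ·) (Over.w e.hom)).trans ?_)
    exact hg'
  tfae_finish

end Groth.Agent.S7292
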