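import Groth.Statements.S7303
import Groth.Agent.Resolve13.FibreSupport
import Groth.Agent.Resolve13.TorsionH1
import Groth.Agent.Resolve13.IdealPowerSections
import Groth.Agent.FlatMor12.IdealModGen
import Groth.Agent.PicLib.PullbackGen
import Groth.Agent.AmpleLib.Twist2

set_option autoImplicit false
set_option backward.isDefEq.respectTransparency.types false
universe u
open CategoryTheory CategoryTheory.Limits AlgebraicGeometry
open Resolve

namespace Groth.Agent.S7303

open Groth.Agent.Coherent Groth.Agent.PicLib Groth.Agent.InjMod14.Kosz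

variable {X : Scheme.{u}} (I : X.IdealSheafData)
  (e : (Scheme.Modules.pullback I.subschemeι).obj (ClSub.idealMod I) ≅ Coh.structureModule I.subscheme)

/-- The value of a section of the ideal in the trivialised conormal sheaf. -/
noncomputable def rho (U : X.Opens) (k : Γ(ClSub.idealMod I, U)) : Γ(I.subscheme, I.subschemeι ⁻¹ᵁ U) :=
  e.hom.app _ (pullSec I.subschemeι k)

theorem rho_smul (U : X.Opens) (r : Γ(X, U)) (k : Γ(ClSub.idealMod I, U)) :
    rho I e U (r • k) = (I.subschemeι.app U).hom r * rho I e U k := by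
  rw [rho, pullSec_smul, Scheme.Modules.Hom.app_smul]
  rfl

theorem rho_resM {U V : X.Opens} (h : V ≤ U) (k : Γ(ClSub.idealMod I, U)) :
    rho I e V (resM _ h k) =
      (I.subscheme.presheaf.map ((TopologicalSpace.Opens.map I.subschemeι.base).map (homOfLE h)).op).hom (rho I e U k) := by
  rw [rho, ← resM_pullSec, app_resM]
  rfl

theorem exists_normalised (hI : BlowUp.IsEffCartierIdeal I) (x : X) (hx : x ∈ I.support) :
    ∃ (W : X.Opens) (k : Γ(ClSub.idealMod I, W)), x ∈ W ∧ IsGen (ClSub.idealMod I) W k ∧ rho I e W k = 1 := by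
  have hinv := FlatMor12.IdealModGen.isInvertible_idealMod I hI
  obtain ⟨U₀, hxU₀, k₀, hk₀⟩ := exists_isGen hinv x
  obtain ⟨U, hU, hxU, hUU₀⟩ := exists_isAffineOpen_mem_and_subset (x := x) (U := U₀) hxU₀
  let k := resM (ClSub.idealMod I) hUU₀ k₀
  have hk : IsGen (ClSub.idealMod I) U k := hk₀.restrict hUU₀
  have hr : IsUnit (rho I e U k) := by
    have h := AmpleLib.isGen_map_iso e (isGen_pullSec I.subschemeι (g := k) hk hinv)
    obtain ⟨r, hr⟩ := (h _ le_rfl).2 (1 : Γ(I.subscheme, I.subschemeι ⁻¹ᵁ U))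
    have hr' : r • rho I e U k = (1 : Γ(I.subscheme, I.subschemeι ⁻¹ᵁ U)) := by
      refine Eq.trans ?_ hr
      exact congrArg (r • ·) (resM_refl (Coh.structureModule I.subscheme) (rho I e U k)).symm
    exact IsUnit.of_mul_eq_one_right r hr'
  obtain ⟨u, hu⟩ := hr
  obtain ⟨c, hc⟩ := I.subschemeι.app_surjective U hU (u⁻¹ : Γ(I.subscheme, I.subschemeι ⁻¹ᵁ U)ˣ).1
  obtain ⟨z, rfl⟩ : x ∈ Set.range I.subschemeι := by rw [Scheme.IdealSheafData.range_subschemeι]; exact hx
  have hzc : I.subschemeι z ∈ X.basicOpen c := by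
    have h1 : z ∈ I.subscheme.basicOpen ((I.subschemeι.app U).hom c) := by
      rw [Scheme.mem_basicOpen I.subscheme _ z (show z ∈ I.subschemeι ⁻¹ᵁ U from hxU)]
      exact (hc ▸ (u⁻¹).isUnit).map _
    exact (Scheme.preimage_basicOpen I.subschemeι c).ge h1
  have hle := X.basicOpen_le c
  refine ⟨X.basicOpen c, resM _ hle (c • k), hzc, ?_, ?_⟩
  · rw [resM_smul]
    exact (AmpleLib.isGen_smul_iff (RingedSpace.isUnit_res_basicOpen _ c)).2 (hk.restrict hle)
  · rw [rho_resM, rho_smul, ← hu, hc, Units.inv_mul, map_one]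

/-- Let (A, m) be a local Noetherian normal domain of dimension two, f : X → Spec A a proper morphism
from an integral normal scheme which is an isomorphism over some nonempty open, and Z ⊂ X a nonempty
effective Cartier divisor, with ideal sheaf I, whose support lies in the closed fibre of f. Then the
conormal sheaf of Z in X, namely the pullback of I to Z, is not isomorphic to O_Z. (The published
statement adds that the restriction of the conormal sheaf to some irreducible component of the
closed fibre contained in Z has positive degree; this row states only that the conormal sheaf is not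
trivial.) -/
theorem result (A : Type u) [CommRing A] [IsDomain A] [IsLocalRing A] [IsNoetherianRing A]
    [IsIntegrallyClosed A] (hdim : ringKrullDim A = 2)
    (X : Scheme.{u}) (f : X ⟶ Spec (CommRingCat.of A)) [IsProper f] [IsIntegral X]
    (hbir : ∃ U : (Spec (CommRingCat.of A)).Opens, (U : Set (Spec (CommRingCat.of A))).Nonempty ∧ IsIso (f ∣_ U)) (hXn : Pi1.IsNormalScheme X)
    (I : X.IdealSheafData) (hI : BlowUp.IsEffCartierIdeal I) (hne : (I.support : Set X).Nonempty)
    (hZ : (I.support : Set X) ⊆ f.base ⁻¹' {IsLocalRing.closedPoint A}) :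
    IsEmpty ((Scheme.Modules.pullback I.subschemeι).obj (ClSub.idealMod I) ≅ Coh.structureModule I.subscheme) := by
  refine ⟨fun e => ?_⟩
  classical
  haveI : IsLocallyNoetherian X := LocallyOfFiniteType.isLocallyNoetherian f
  let J := ClSub.idealMod I
  choose! W k hW hk hρ using exists_normalised I e hI
  let g : ∀ x : X, X.presheaf.stalk x := fun x => if h : x ∈ I.support then
    (X.presheaf.germ (W x) x (hW x h)).hom (ival I (W x) (k x)) else 1
  have hgdef : ∀ x (h : x ∈ I.support), g x = (X.presheaf.germ (W x) x (hW x h)).hom (ival I (W x) (k x)) :=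
    fun x h => dif_pos h
  have hgoff : ∀ x, x ∉ I.support → g x = 1 := fun x h => dif_neg h
  have hg0 : ∀ x, g x ≠ 0 := fun x => by
    by_cases h : x ∈ I.support
    · rw [hgdef x h]
      intro h0
      have h1 : ival I (W x) (k x) = 0 := germ_injective_of_isIntegral X x (hW x h) (h0.trans (map_zero _).symm)
      have h2 : k x = 0 := Resolve13.IdealPow.ival_inj I _ (h1.trans (map_zero _).symm)
      have h3 := ((hk x h) (W x) le_rfl).1 (a₁ := (1 : Γ(X, W x))) (a₂ := 0) (by
        show (1 : Γ(X, W x)) • resM _ le_rfl (k x) = (0 : Γ(X, W x)) • resM _ le_rfl (k x)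
        rw [h2, map_zero, smul_zero, smul_zero])
      exact (one_ne_zero : (1 : X.presheaf.stalk x) ≠ 0)
        (by rw [← map_one (X.presheaf.germ (W x) x (hW x h)).hom, h3, map_zero])
    · rw [hgoff x h]; exact one_ne_zero
  have hgu : ∀ x : X, (f x).asIdeal ≠ IsLocalRing.maximalIdeal A → IsUnit (g x) := fun x hx => by
    have h : x ∉ I.support := fun h => hx (congrArg PrimeSpectrum.asIdeal (Set.mem_singleton_iff.1 (hZ h)))
    rw [hgoff x h]; exact isUnit_one
  have hG : Resolve13.Torsion.IsPolar g (fun _ => 1) := by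
    intro ξ x h
    simp only [map_one, mul_one]
    by_cases hξ : ξ ∈ I.support
    · have hx : x ∈ I.support := h.mem_closed I.support.isClosed hξ
      have hξW : ξ ∈ W x := h.mem_open (W x).2 (hW x hx)
      obtain ⟨V, hV, hξV, hVle⟩ := exists_isAffineOpen_mem_and_subset (x := ξ) (U := W x ⊓ W ξ) ⟨hξW, hW ξ hξ⟩
      have hVx : V ≤ W x := fun z hz => (hVle hz).1
      have hVξ : V ≤ W ξ := fun z hz => (hVle hz).2
      obtain ⟨α, hα⟩ := ((hk ξ hξ) V hVξ).2 (resM _ hVx (k x))
      have hα1 : (I.subschemeι.app V).hom α = 1 := by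
        have h1 := congrArg (rho I e V) hα
        rwa [rho_smul, rho_resM, rho_resM, hρ ξ hξ, hρ x hx, map_one, map_one, mul_one] at h1
      obtain ⟨k', hk'⟩ := exists_ival I ⟨V, hV⟩ (a := α - 1) (by
        rw [← I.ker_subschemeι_app ⟨V, hV⟩, RingHom.mem_ker, map_sub, hα1, map_one, sub_self])
      obtain ⟨β, hβ⟩ := ((hk ξ hξ) V hVξ).2 k'
      have hsub : α - 1 = β * X.presheaf.map (homOfLE hVξ).op (ival I (W ξ) (k ξ)) := by
        rw [← hk', ← hβ, Resolve13.IdealPow.ival_smul, Resolve13.IdealPow.ival_resM]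
      have hsub' := congrArg (X.presheaf.germ V ξ hξV).hom hsub
      rw [map_sub, map_one, map_mul, TopCat.Presheaf.germ_res_apply] at hsub'
      refine ⟨(X.presheaf.germ V ξ hξV).hom α, ?_, ?_, ?_⟩
      · rw [hgdef x hx, hgdef ξ hξ, Resolve13.Torsion.sp_germ]
        have h1 := congrArg (ival I V) hα
        rw [Resolve13.IdealPow.ival_smul, Resolve13.IdealPow.ival_resM, Resolve13.IdealPow.ival_resM] at h1
        have h2 := congrArg (X.presheaf.germ V ξ hξV).hom h1
        rw [map_mul] at h2
        refine Eq.trans ?_ (h2.symm.trans (congrArg (_ * ·) ?_))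
        · exact (TopCat.Presheaf.germ_res_apply X.presheaf (homOfLE hVx) ξ hξV _).symm
        · exact TopCat.Presheaf.germ_res_apply X.presheaf (homOfLE hVξ) ξ hξV _
      · by_contra hnu
        obtain ⟨z, rfl⟩ : ξ ∈ Set.range I.subschemeι := by rw [Scheme.IdealSheafData.range_subschemeι]; exact hξ
        refine hnu ((isUnit_map_iff (I.subschemeι.stalkMap z).hom _).1 ?_)
        rw [Scheme.Hom.germ_stalkMap_apply, hα1, map_one]
        exact isUnit_one
      · rw [hgdef ξ hξ]
        refine ⟨-(X.presheaf.germ V ξ hξV).hom β, ?_⟩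
        rw [mul_neg, mul_comm, ← hsub', neg_sub]
    · refine ⟨Resolve13.DivisorPts.sp h (g x), by rw [hgoff ξ hξ, mul_one], ?_, by rw [hgoff ξ hξ]; exact one_dvd _⟩
      by_cases hx : x ∈ I.support
      · have hξW : ξ ∈ W x := h.mem_open (W x).2 (hW x hx)
        rw [hgdef x hx, Resolve13.Torsion.sp_germ]
        obtain ⟨V, hV, hξV, hVle⟩ := exists_isAffineOpen_mem_and_subset (x := ξ) (U := W x ⊓ I.support.compl) ⟨hξW, hξ⟩
        have hVx : V ≤ W x := fun z hz => (hVle hz).1
        obtain ⟨k', hk'⟩ := exists_ival I ⟨V, hV⟩ (a := (1 : Γ(X, V))) (by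
          rw [← I.ker_subschemeι_app ⟨V, hV⟩, RingHom.mem_ker]
          have hemp : I.subschemeι ⁻¹ᵁ V = ⊥ := eq_bot_iff.2 fun z hz => by
            have h1 := (hVle hz).2
            exact h1 (I.range_subschemeι.le ⟨z, rfl⟩)
          haveI : Subsingleton Γ(I.subscheme, I.subschemeι ⁻¹ᵁ V) := by rw [hemp]; infer_instance
          exact Subsingleton.elim _ _)
        obtain ⟨β, hβ⟩ := ((hk x hx) V hVx).2 k'
        have h1 := congrArg (X.presheaf.germ V ξ hξV).hom (hk'.symm.trans (congrArg (ival I V) hβ.symm))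
        rw [Resolve13.IdealPow.ival_smul, Resolve13.IdealPow.ival_resM, map_one, map_mul] at h1
        refine IsUnit.of_mul_eq_one_right ((X.presheaf.germ V ξ hξV).hom β) (Eq.trans ?_ h1.symm)
        exact congrArg (_ * ·) (TopCat.Presheaf.germ_res_apply X.presheaf (homOfLE hVx) ξ hξV _).symm
      · rw [hgoff x hx, map_one]; exact isUnit_one
  obtain ⟨x, hx⟩ := hne
  have h1 : IsUnit (g x) :=
    isUnit_of_dvd_one (Resolve13.Torsion.dvd_of_isPolar f hXn hbir hdim g (fun _ => 1) hg0 hgu hG x)
  rw [hgdef x hx] at h1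
  obtain ⟨V, hV, hxV, hVle⟩ := exists_isAffineOpen_mem_and_subset (x := x) (U := W x) (hW x hx)
  obtain ⟨z, rfl⟩ : x ∈ Set.range I.subschemeι := by rw [Scheme.IdealSheafData.range_subschemeι]; exact hx
  have h2 := ival_mem I ⟨V, hV⟩ (resM _ hVle (k (I.subschemeι z)))
  rw [← I.ker_subschemeι_app ⟨V, hV⟩, RingHom.mem_ker] at h2
  have h3 := h1.map (I.subschemeι.stalkMap z).hom
  rw [← TopCat.Presheaf.germ_res_apply X.presheaf (homOfLE hVle) (I.subschemeι z) hxV] at h3
  rw [Resolve13.IdealPow.ival_resM] at h2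
  rw [Scheme.Hom.germ_stalkMap_apply] at h3
  erw [h2, map_zero] at h3
  exact not_isUnit_zero h3

end Groth.Agent.S7303
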