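import Groth.Statements.S7306
import Groth.Agent.RDPChain13.Lipman
import Groth.Agent.S7377
-- import your own Groth.Agent.* helpers here

set_option autoImplicit false
set_option backward.isDefEq.respectTransparency.types false
universe u
open CategoryTheory CategoryTheory.Limits AlgebraicGeometry
open Resolve

namespace Groth.Agent.S7306

/-- Let Y be an integral Noetherian scheme of dimension two. Then (1) there is an alteration X → Y with
X regular, if and only if (2) Y has a resolution of singularities, i.e. a proper morphism X → Y from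
an integral regular scheme which is an isomorphism over a nonempty open of Y; and (2) holds if and
only if (4) the normalization Y' → Y is finite, Y' has finitely many non-regular points, and at each
non-regular point of Y' the completion of the local ring is a normal domain. (The published
statement lists a further equivalent condition, resolution by a finite sequence of normalized
blowings up in closed points; this row does not include it, and it is stated separately. The
quasi-compactness and quasi-separatedness binders on Spec K(Y) → Y always hold; they are needed only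
to form the normalization.) -/
theorem result (Y : Scheme.{u}) [IsIntegral Y] [IsNoetherian Y]
    (hdim : topologicalKrullDim Y = 2)
    [QuasiCompact (Y.fromSpecStalk (genericPoint Y))] [QuasiSeparated (Y.fromSpecStalk (genericPoint Y))] :
    ((∃ (X : Scheme.{u}) (g : X ⟶ Y), Curv2.IsAlteration g ∧ ∀ x : X, IsRegularLocalRing (X.presheaf.stalk x)) ↔
      (∃ (X : Scheme.{u}) (g : X ⟶ Y), IsProper g ∧ IsIntegral X ∧
        (∃ V : Y.Opens, (V : Set Y).Nonempty ∧ IsIso (g ∣_ V)) ∧ ∀ x : X, IsRegularLocalRing (X.presheaf.stalk x))) ∧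
    ((∃ (X : Scheme.{u}) (g : X ⟶ Y), IsProper g ∧ IsIntegral X ∧
        (∃ V : Y.Opens, (V : Set Y).Nonempty ∧ IsIso (g ∣_ V)) ∧ ∀ x : X, IsRegularLocalRing (X.presheaf.stalk x)) ↔
      (IsFinite (Curv2.normalizationι Y) ∧
        {y : ↥(Curv2.normalization Y) | ¬ IsRegularLocalRing ((Curv2.normalization Y).presheaf.stalk y)}.Finite ∧
        ∀ y : ↥(Curv2.normalization Y), ¬ IsRegularLocalRing ((Curv2.normalization Y).presheaf.stalk y) →
          IsDomain (Curv2.cpl ((Curv2.normalization Y).presheaf.stalk y)) ∧
          IsIntegrallyClosed (Curv2.cpl ((Curv2.normalization Y).presheaf.stalk y)))) := by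
  have hν := Groth.Agent.S7377.birational_normalizationι Y
  haveI hNi : IsIntegral (Curv2.normalization Y) :=
    inferInstanceAs (IsIntegral (Y.fromSpecStalk (genericPoint Y)).normalization)
  haveI : IsAffineHom (Curv2.normalizationι Y) :=
    inferInstanceAs (IsAffineHom (Y.fromSpecStalk (genericPoint Y)).fromNormalization)
  have hNn : Pi1.IsNormalScheme (Curv2.normalization Y) :=
    Groth.Agent.NormalizationLib.isNormal (RingHom.id Y.functionField) (Y.fromSpecStalk (genericPoint Y))
      (by rw [show CommRingCat.ofHom (RingHom.id Y.functionField) = 𝟙 _ from rfl, Spec.map_id, Category.id_comp])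
  have hNoeth : IsFinite (Curv2.normalizationι Y) → IsNoetherian (Curv2.normalization Y) ∧
      ∀ y : Curv2.normalization Y, ringKrullDim ((Curv2.normalization Y).presheaf.stalk y) ≤ 2 := fun hfin => by
    haveI := hfin
    haveI : IsLocallyNoetherian (Curv2.normalization Y) := LocallyOfFiniteType.isLocallyNoetherian (Curv2.normalizationι Y)
    haveI : CompactSpace (Curv2.normalization Y) := QuasiCompact.compactSpace_of_compactSpace (Curv2.normalizationι Y)
    exact ⟨{}, fun y => (Groth.Agent.CurvesLib24.stalk_dim_le_topologicalKrullDim y).trans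
      ((Groth.Agent.AlgSpLib.topologicalKrullDim_le_of_isIntegralHom (Curv2.normalizationι Y)).trans hdim.le)⟩
  have h14 : (∃ (X : Scheme.{u}) (g : X ⟶ Y), Curv2.IsAlteration g ∧ ∀ x : X, IsRegularLocalRing (X.presheaf.stalk x)) →
      (IsFinite (Curv2.normalizationι Y) ∧
        {y : ↥(Curv2.normalization Y) | ¬ IsRegularLocalRing ((Curv2.normalization Y).presheaf.stalk y)}.Finite ∧
        ∀ y : ↥(Curv2.normalization Y), ¬ IsRegularLocalRing ((Curv2.normalization Y).presheaf.stalk y) →
          IsDomain (Curv2.cpl ((Curv2.normalization Y).presheaf.stalk y)) ∧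
          IsIntegrallyClosed (Curv2.cpl ((Curv2.normalization Y).presheaf.stalk y))) := by
    rintro ⟨X, g, ⟨hp, hX, -, hd, V, hV, hVfin⟩, hreg⟩
    haveI := hp
    haveI := hX
    haveI := hd
    haveI := hVfin
    have hgen : g (genericPoint X) = genericPoint Y := by
      have h := (genericPoint_spec X).image g.continuous
      rw [Set.image_univ, g.denseRange.closure_range] at h
      exact h.eq (genericPoint_spec Y)
    have hXn := Groth.Agent.Models7.isNormalScheme_of_regular hreg
    have hfin := Groth.Agent.Resolve13.isFinite_normalizationι_of_proper hXn g hgen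
    haveI := hfin
    obtain ⟨hN, hNd⟩ := hNoeth hfin
    haveI := hN
    obtain ⟨h, hh, -⟩ := Groth.Agent.S9690.result Y g hXn fun z hz => by
      have h1 : closure ({z} : Set X) = Set.univ := by
        rw [irreducibleComponents_eq_singleton] at hz
        exact hz
      rw [← hgen]
      exact congrArg g (IsGenericPoint.eq (show IsGenericPoint z Set.univ from h1) (genericPoint_spec X))
    haveI : IsProper (h ≫ Curv2.normalizationι Y) := by rw [hh]; exact hp
    haveI : IsProper h := IsProper.of_comp h (Curv2.normalizationι Y)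
    have hhξ : h (genericPoint X) = genericPoint (Curv2.normalization Y) :=
      Groth.Agent.Resolve13.Modification.eq_genericPoint (Curv2.normalizationι Y) hν.1 hν.2 _
        (by rw [← Scheme.Hom.comp_apply, hh]; exact hgen)
    haveI : IsDominant h := ⟨fun y => closure_mono (Set.singleton_subset_iff.2 ⟨genericPoint X, hhξ⟩ :
      ({genericPoint (Curv2.normalization Y)} : Set _) ⊆ Set.range h.base) ((genericPoint_spec _).def.ge trivial)⟩
    haveI : Surjective h := ⟨fun z => by
      have := (IsDominant.denseRange (f := h)).closure_range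
      rw [h.isClosedMap.isClosed_range.closure_eq] at this
      exact this.ge (Set.mem_univ z)⟩
    let W := Curv2.normalizationι Y ⁻¹ᵁ V
    have hWne : (W : Set (Curv2.normalization Y)).Nonempty := ⟨genericPoint _, show Curv2.normalizationι Y _ ∈ V by
      rw [hν.1]; exact ((genericPoint_spec Y).mem_open_set_iff V.2).2 (by simpa using hV)⟩
    haveI : IsFinite ((h ∣_ W) ≫ (Curv2.normalizationι Y ∣_ V)) := by
      subst hh
      exact (morphismRestrict_comp h (Curv2.normalizationι Y) V) ▸ hVfin
    haveI : IsFinite (h ∣_ W) := IsFinite.of_comp _ (Curv2.normalizationι Y ∣_ V)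
    exact ⟨hfin, Groth.Agent.RDPChain13.finite_singular_of_alteration hNn hNd h hhξ hreg,
      fun y _ => Groth.Agent.RDPChain13.cpl_normal_of_alteration hNn h
        ⟨inferInstance, hX, hNi, inferInstance, W, hWne, inferInstance⟩ hreg y⟩
  have h21 : (∃ (X : Scheme.{u}) (g : X ⟶ Y), IsProper g ∧ IsIntegral X ∧
        (∃ V : Y.Opens, (V : Set Y).Nonempty ∧ IsIso (g ∣_ V)) ∧ ∀ x : X, IsRegularLocalRing (X.presheaf.stalk x)) →
      (∃ (X : Scheme.{u}) (g : X ⟶ Y), Curv2.IsAlteration g ∧ ∀ x : X, IsRegularLocalRing (X.presheaf.stalk x)) := by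
    rintro ⟨X, g, hp, hX, ⟨V, hV, hiso⟩, hreg⟩
    haveI := hp
    haveI := hX
    haveI := hiso
    obtain ⟨hgen, -⟩ := Groth.Agent.Coherent.birational_of_isIso_morphismRestrict g V hV
    haveI : IsDominant g := ⟨fun y => closure_mono (Set.singleton_subset_iff.2 ⟨genericPoint X, hgen⟩ : ({genericPoint Y} : Set Y) ⊆ Set.range g.base) ((genericPoint_spec Y).def.ge trivial)⟩
    exact ⟨X, g, ⟨hp, hX, inferInstance, inferInstance, V, hV, inferInstance⟩, hreg⟩
  have h42 : (IsFinite (Curv2.normalizationι Y) ∧
        {y : ↥(Curv2.normalization Y) | ¬ IsRegularLocalRing ((Curv2.normalization Y).presheaf.stalk y)}.Finite ∧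
        ∀ y : ↥(Curv2.normalization Y), ¬ IsRegularLocalRing ((Curv2.normalization Y).presheaf.stalk y) →
          IsDomain (Curv2.cpl ((Curv2.normalization Y).presheaf.stalk y)) ∧
          IsIntegrallyClosed (Curv2.cpl ((Curv2.normalization Y).presheaf.stalk y))) →
      (∃ (X : Scheme.{u}) (g : X ⟶ Y), IsProper g ∧ IsIntegral X ∧
        (∃ V : Y.Opens, (V : Set Y).Nonempty ∧ IsIso (g ∣_ V)) ∧ ∀ x : X, IsRegularLocalRing (X.presheaf.stalk x)) := by
    rintro ⟨hfin, hsing, hc⟩
    haveI := hfin
    obtain ⟨hN, hNd⟩ := hNoeth hfin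
    haveI := hN
    obtain ⟨U, hU, hiso⟩ := Groth.Agent.BMLib.exists_isIso_normalization (X := Y)
    obtain ⟨X, h, hXi, hproj, ⟨V, hV, hViso⟩, hreg⟩ :=
      Groth.Agent.RDPChain13.exists_resolution_of_cpl _ hNn hNd hsing hc
    haveI := hXi
    haveI := hiso
    haveI := hViso
    haveI := Groth.Agent.RelVALib.isProper_of_isProjective hproj
    exact ⟨X, h ≫ Curv2.normalizationι Y, inferInstance, hXi,
      Groth.Agent.Resolve13.RatExt.exists_isIso_comp (Curv2.normalizationι Y) h U hU.nonempty V hV, hreg⟩
  exact ⟨⟨fun h => h42 (h14 h), h21⟩, ⟨fun h => h14 (h21 h), h42⟩⟩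

end Groth.Agent.S7306
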