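import Groth.Statements.S7310
import Groth.Agent.ExcC13.QProjContract
import Groth.Agent.S12416


set_option autoImplicit false
universe u
open CategoryTheory CategoryTheory.Limits AlgebraicGeometry
open Resolve

namespace Groth.Agent.S7310

/-- Let S be a Noetherian scheme, f : X → S a morphism of finite type which is projective, and ι : E → X
a closed immersion which is an exceptional curve of the first kind contained in a fibre of f. Then
there exists a contraction b : X → X' of E, and X' is projective over S (through the unique morphism
g : X' → S with b ≫ g = f). Projectivity is taken in the relative-Proj form: isomorphic over S to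
Proj of a quasi-coherent graded algebra generated in degree one with degree-one part of finite type. -/
theorem result {E X S : Scheme.{u}} [IsNoetherian S] (f : X ⟶ S) [LocallyOfFiniteType f] [QuasiCompact f]
    (hf : RelProj.IsProjective f) (ι : E ⟶ X) [IsClosedImmersion ι] (hE : Models.IsExcCurve ι)
    (s : S) (hs : Set.range ((ι ≫ f).base : E → S) = {s}) :
    ∃ (X' : Scheme.{u}) (b : X ⟶ X') (g : X' ⟶ S), Models.IsContractionOf ι b ∧ b ≫ g = f ∧ RelProj.IsProjective g := by
  haveI := RelVALib.isProper_of_isProjective hf
  obtain ⟨X', b, g, h1, h2, h3, hsurj⟩ :=
    ExcC13.exists_contraction_qproj f (RelVALib.isQuasiProjective_of_isProjective hf) ι hE s hs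
  haveI : Surjective b := ⟨hsurj⟩
  haveI := h3.1
  haveI := h3.2.1
  haveI : UniversallyClosed (b ≫ g) := h2.symm ▸ inferInstance
  haveI : UniversallyClosed g := UniversallyClosed.of_comp_surjective b g
  obtain ⟨L, hL⟩ := h3.2.2
  haveI : IsSeparated g := MorProj.isSeparated_of_isRelAmple g L hL
  haveI : IsProper g := {}
  exact ⟨X', b, g, h1, h2, S12416.result g h3⟩

end Groth.Agent.S7310
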