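import Groth.Statements.S7312
import Groth.Agent.QProjSurf13.Main


set_option autoImplicit false
universe u
open CategoryTheory CategoryTheory.Limits AlgebraicGeometry
open Resolve

namespace Groth.Agent.S7312

/-- Let S be a Noetherian scheme and f : X → S a separated morphism of finite type such that X is
regular (all its local rings are regular) of dimension two. Then f is quasi-projective (of finite
type with an f-relatively ample invertible module). -/
theorem result {X S : Scheme.{u}} [IsNoetherian S] (f : X ⟶ S) [IsSeparated f]
    [LocallyOfFiniteType f] [QuasiCompact f] (hreg : ∀ x : X, IsRegularLocalRing (X.presheaf.stalk x))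
    (hdim : topologicalKrullDim X = 2) : RelProj.IsQuasiProjective f := by
  exact Groth.Agent.QProjSurf13.isQuasiProjective_of_regular_dim_two f hreg hdim

end Groth.Agent.S7312
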