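import Groth.Statements.S7313
import Groth.Agent.QProjSurf13.Main
import Groth.Agent.S12416


set_option autoImplicit false
universe u
open CategoryTheory CategoryTheory.Limits AlgebraicGeometry
open Resolve

namespace Groth.Agent.S7313

/-- Let S be a Noetherian scheme and f : X → S a proper morphism such that X is regular (all its local
rings are regular) of dimension two. Then f is projective; projectivity is taken in the
relative-Proj form (X isomorphic over S to Proj of a quasi-coherent graded O_S-algebra generated in
degree one whose degree-one part is of finite type), which agrees with the
closed-immersion-into-P(E) form. -/
theorem result {X S : Scheme.{u}} [IsNoetherian S] (f : X ⟶ S) [IsProper f]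
    (hreg : ∀ x : X, IsRegularLocalRing (X.presheaf.stalk x)) (hdim : topologicalKrullDim X = 2) :
    RelProj.IsProjective f := by
  exact Groth.Agent.S12416.result f (Groth.Agent.QProjSurf13.isQuasiProjective_of_regular_dim_two f hreg hdim)

end Groth.Agent.S7313
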