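import Groth.Statements.S7321
import Groth.Agent.Resolve13.NormFinite
import Groth.Agent.BMLib.NormBirat
import Groth.Agent.Models7.PointBlowUpIso
import Groth.Agent.AlgSpLib.DimBasic
import Groth.Agent.CAlgH3.Serre
import Groth.Agent.CurvesLib24.Basic
import Groth.Agent.Coherent.BirationalFibre
import Groth.Agent.Models7.Contract

set_option autoImplicit false
universe u
open CategoryTheory CategoryTheory.Limits AlgebraicGeometry
open Resolve

namespace Groth.Agent.S7321

/-- Let Y be an integral Noetherian scheme of dimension one. Then (1) there is an alteration X → Y with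
X regular, if and only if (2) Y has a resolution of singularities, i.e. a proper morphism X → Y from
an integral regular scheme which is an isomorphism over a nonempty open of Y; and (2) holds if and
only if (4) the normalization morphism of Y is finite. (A further equivalent condition, a finite
sequence of blowings up in closed points ending in a regular scheme, is stated separately. The
quasi-compactness and quasi-separatedness binders on Spec K(Y) → Y always hold; they are needed only
to form the normalization.) -/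
theorem result (Y : Scheme.{u}) [IsIntegral Y] [IsNoetherian Y]
    (hdim : topologicalKrullDim Y = 1)
    [QuasiCompact (Y.fromSpecStalk (genericPoint Y))] [QuasiSeparated (Y.fromSpecStalk (genericPoint Y))] :
    ((∃ (X : Scheme.{u}) (g : X ⟶ Y), Curv2.IsAlteration g ∧ ∀ x : X, IsRegularLocalRing (X.presheaf.stalk x)) ↔
      (∃ (X : Scheme.{u}) (g : X ⟶ Y), IsProper g ∧ IsIntegral X ∧
        (∃ V : Y.Opens, (V : Set Y).Nonempty ∧ IsIso (g ∣_ V)) ∧ ∀ x : X, IsRegularLocalRing (X.presheaf.stalk x))) ∧
    ((∃ (X : Scheme.{u}) (g : X ⟶ Y), IsProper g ∧ IsIntegral X ∧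
        (∃ V : Y.Opens, (V : Set Y).Nonempty ∧ IsIso (g ∣_ V)) ∧ ∀ x : X, IsRegularLocalRing (X.presheaf.stalk x)) ↔
      IsFinite (Curv2.normalizationι Y)) := by
  have h14 : (∃ (X : Scheme.{u}) (g : X ⟶ Y), Curv2.IsAlteration g ∧ ∀ x : X, IsRegularLocalRing (X.presheaf.stalk x)) →
      IsFinite (Curv2.normalizationι Y) := by
    rintro ⟨X, g, ⟨hp, hX, -, hd, -⟩, hreg⟩
    haveI := hp
    haveI := hX
    haveI := hd
    refine Groth.Agent.Resolve13.isFinite_normalizationι_of_proper (Groth.Agent.Models7.isNormalScheme_of_regular hreg) g ?_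
    have h := (genericPoint_spec X).image g.continuous
    rw [Set.image_univ, g.denseRange.closure_range] at h
    exact h.eq (genericPoint_spec Y)
  have h21 : (∃ (X : Scheme.{u}) (g : X ⟶ Y), IsProper g ∧ IsIntegral X ∧
        (∃ V : Y.Opens, (V : Set Y).Nonempty ∧ IsIso (g ∣_ V)) ∧ ∀ x : X, IsRegularLocalRing (X.presheaf.stalk x)) →
      (∃ (X : Scheme.{u}) (g : X ⟶ Y), Curv2.IsAlteration g ∧ ∀ x : X, IsRegularLocalRing (X.presheaf.stalk x)) := by
    rintro ⟨X, g, hp, hX, ⟨V, hV, hiso⟩, hreg⟩
    haveI := hp
    haveI := hX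
    haveI := hiso
    obtain ⟨hgen, -⟩ := Groth.Agent.Coherent.birational_of_isIso_morphismRestrict g V hV
    haveI : IsDominant g := ⟨fun y => closure_mono (Set.singleton_subset_iff.2 ⟨genericPoint X, hgen⟩ : ({genericPoint Y} : Set Y) ⊆ Set.range g.base) ((genericPoint_spec Y).def.ge trivial)⟩
    exact ⟨X, g, ⟨hp, hX, inferInstance, inferInstance, V, hV, inferInstance⟩, hreg⟩
  have h42 : IsFinite (Curv2.normalizationι Y) → (∃ (X : Scheme.{u}) (g : X ⟶ Y), IsProper g ∧ IsIntegral X ∧
        (∃ V : Y.Opens, (V : Set Y).Nonempty ∧ IsIso (g ∣_ V)) ∧ ∀ x : X, IsRegularLocalRing (X.presheaf.stalk x)) := by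
    intro hfin
    haveI : IsFinite (Curv2.normalizationι Y) := hfin
    obtain ⟨U, hU, hiso⟩ := Groth.Agent.BMLib.exists_isIso_normalization (X := Y)
    haveI hint : IsIntegral (Curv2.normalization Y) :=
      inferInstanceAs (IsIntegral (Y.fromSpecStalk (genericPoint Y)).normalization)
    haveI : IsLocallyNoetherian (Curv2.normalization Y) := LocallyOfFiniteType.isLocallyNoetherian (Curv2.normalizationι Y)
    have hN : Pi1.IsNormalScheme (Curv2.normalization Y) :=
      Groth.Agent.NormalizationLib.isNormal (RingHom.id Y.functionField) (Y.fromSpecStalk (genericPoint Y))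
        (by rw [show CommRingCat.ofHom (RingHom.id Y.functionField) = 𝟙 _ from rfl, Spec.map_id, Category.id_comp])
    refine ⟨_, Curv2.normalizationι Y, inferInstance, hint, ⟨U, hU.nonempty, hiso⟩, fun x => ?_⟩
    obtain ⟨hd, hic⟩ := hN x
    haveI := hd
    haveI := hic
    exact Groth.Agent.CAlgH3.isRegularLocalRing_of_normal_dim_le_one
      ((Groth.Agent.CurvesLib24.stalk_dim_le_topologicalKrullDim x).trans
        ((Groth.Agent.AlgSpLib.topologicalKrullDim_le_of_isIntegralHom (Curv2.normalizationι Y)).trans hdim.le))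
  exact ⟨⟨fun h => h42 (h14 h), h21⟩, ⟨fun h => h14 (h21 h), h42⟩⟩

end Groth.Agent.S7321
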