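import Groth.Statements.S7322
import Groth.Agent.Resolve13.Principal
import Groth.Agent.Resolve13.PointExc

set_option autoImplicit false
universe u
open CategoryTheory CategoryTheory.Limits AlgebraicGeometry
open Resolve

namespace Groth.Agent.S7322

/-- Let X be an integral Noetherian scheme which is regular of dimension two and Z ⊂ X a closed
subscheme, with ideal sheaf I, different from X. Then there is a sequence of blowings up in closed
points g : X' → X (a finite composite of blowings up at closed points with regular two-dimensional
local rings, i.e. of contractions of exceptional curves of the first kind) such that the inverse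
image of Z in X' is an effective Cartier divisor. (The published statement takes X any regular
scheme of dimension two; for X the disjoint union of a regular surface and a regular curve C and Z =
C no blowing up in closed points makes the inverse image of Z Cartier, so X is taken integral here,
as the proof's largest-Cartier-divisor step requires.) -/
theorem result (X : Scheme.{u}) [IsIntegral X] [IsNoetherian X]
    (hreg : ∀ x : X, IsRegularLocalRing (X.presheaf.stalk x)) (hdim : topologicalKrullDim X = 2)
    (I : X.IdealSheafData) (hI : I ≠ ⊥) :
    ∃ (X' : Scheme.{u}) (g : X' ⟶ X), Models.IsContractionSeq g ∧ BlowUp.IsEffCartierIdeal (I.comap g) := by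
  have hXs : Groth.Agent.Models7.RegSurf X := ⟨inferInstance, inferInstance, inferInstance, hreg, hdim.le⟩
  obtain ⟨X', b, hX', hP, -, hc⟩ := Groth.Agent.Resolve13.exists_ptSeq_effCartier hXs I hI
  have h := (Groth.Agent.Resolve13.contractionSeq_of_ptSeq hP hXs).2.2 (Iso.refl X')
  rw [Iso.refl_hom, Category.id_comp] at h
  exact ⟨X', b, h, hc⟩

end Groth.Agent.S7322
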