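import Groth.Statements.S7323
import Groth.Agent.Resolve13.PointExcAffine
import Groth.Agent.BlowUpCoh.GGVanish
import Groth.Agent.BlowUpKoszul.PointBlowUp
import Groth.Agent.BlowUpLib.Proper

set_option autoImplicit false
universe u
open CategoryTheory CategoryTheory.Limits AlgebraicGeometry
open Resolve

open Groth.Agent Groth.Agent.CAlgH.KoszulRegular

namespace Groth.Agent.S7323

/-- Let (A, m, κ) be a regular local ring of dimension two and b : X → Spec A the blowing up in m, with
exceptional divisor E ⊂ X and its ideal sheaf I_E = O_X(-E). Then there is a closed immersion r : X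
→ P^1_A over Spec A such that O_X(E) = r^* O(-1), i.e. r^* O(1) ≅ I_E; and E is an exceptional curve
of the first kind: an effective Cartier divisor isomorphic to a projective line over a field, with
conormal sheaf pulling back to O(1). (The published statement identifies E with P^1_κ through r
itself; this row only asserts that some field and some isomorphism with a projective line exist.) -/
theorem result (A : Type u) [CommRing A] [IsRegularLocalRing A] (hA : ringKrullDim A = 2)
    (X : Scheme.{u}) (b : X ⟶ Spec (CommRingCat.of A)) (hb : BlowUp.IsBlowUp b (Curv2.idealSheaf A (IsLocalRing.maximalIdeal A))) :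
    (∃ r : X ⟶ CohB1.ProjSpace 1 A, IsClosedImmersion r ∧ r ≫ CohB1.ProjSpace.toSpec 1 A = b ∧
      Nonempty ((Scheme.Modules.pullback r).obj (Twist.twistProjSpace 1 A 1) ≅
        ClSub.idealMod (BlowUp.exceptional b (Curv2.idealSheaf A (IsLocalRing.maximalIdeal A))))) ∧
    Models.IsExcCurve (BlowUp.exceptional b (Curv2.idealSheaf A (IsLocalRing.maximalIdeal A))).subschemeι := by
  obtain ⟨rs, hlen, hm, hrs⟩ := CAlgH3.exists_isRegular_ofList_eq_maximalIdeal (R := A)
  have hlen2 : rs.length = 2 := by
    have h := IsRegularLocalRing.spanFinrank_maximalIdeal (R := A)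
    rw [hA, ← hlen] at h
    exact_mod_cast h
  let e : A ≃+* Γ(Spec (CommRingCat.of A), ⊤) :=
    (Scheme.ΓSpecIso (CommRingCat.of A)).symm.commRingCatIsoToRingEquiv
  let g : Fin (1 + 1) → A := fun i => rs.get (i.cast hlen2.symm)
  have hl : List.ofFn g = rs :=
    ((List.ofFn_congr hlen2.symm g).trans (congrArg List.ofFn (funext fun _ => rfl))).trans (List.ofFn_get rs)
  have hgm : Ideal.span (Set.range g) = IsLocalRing.maximalIdeal A := by
    rw [← hm, ← hl]
    exact congrArg Ideal.span (by ext y; simp [List.mem_ofFn', eq_comm])
  let I := Curv2.idealSheaf A (IsLocalRing.maximalIdeal A)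
  have hspan : I.ideal ⟨⊤, isAffineOpen_top _⟩ = Ideal.span (Set.range fun i => e (g i)) := by
    refine (BlowUpKoszul.idealSheaf_top_ideal A).trans ?_
    show (IsLocalRing.maximalIdeal A).map e.toRingHom = _
    rw [← hgm, Ideal.map_span, ← Set.range_comp]
    rfl
  haveI : IsProper b := Groth.Agent.BlowUpLib.isProper_of_isBlowUp hb (fun U => by
    haveI := IsLocallyNoetherian.component_noetherian (X := Spec (CommRingCat.of A)) U
    exact IsNoetherian.noetherian _)
  haveI : CompactSpace X := QuasiCompact.compactSpace_of_compactSpace b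
  exact Resolve13.exists_excCurve_affine I b hb g hspan (BlowUpKoszul.kreg_equiv A e g
    (CAlgH.KoszulH1.kreg_of_isWeaklyRegular (hl.symm ▸ hrs.toIsWeaklyRegular)))
    (hgm ▸ IsLocalRing.maximalIdeal.isMaximal A)

end Groth.Agent.S7323
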