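import Groth.Statements.S7324
import Groth.Agent.S7325
import Groth.Agent.Resolve13.PointExc
import Groth.Agent.CAlgH3.BlowUpCd
import Groth.Agent.BlowUpKoszul.PointBlowUp

set_option autoImplicit false
universe u
open CategoryTheory CategoryTheory.Limits AlgebraicGeometry
open Resolve

open Groth.Agent.Resolve13 Groth.Agent.PicLib Groth.Agent.AmpleLib Groth.Agent.Models7 Groth.Agent.Coherent

namespace Groth.Agent.S7324

/-- Let (A, m) be a regular local ring of dimension two and b : X → Spec A the blowing up in m, with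
exceptional divisor E, ideal sheaf I = O_X(-E), and M = O_X(E) an inverse of I for the tensor
product. Then Pic(X) = Z generated by O_X(E): every invertible O_X-module is isomorphic to I^{⊗ n}
or to M^{⊗ n} for some n ≥ 0, and I^{⊗ n} is not isomorphic to O_X for n ≥ 1. -/
theorem result (A : Type u) [CommRing A] [IsRegularLocalRing A] (hA : ringKrullDim A = 2)
    (X : Scheme.{u}) (b : X ⟶ Spec (CommRingCat.of A)) (hb : BlowUp.IsBlowUp b (Curv2.idealSheaf A (IsLocalRing.maximalIdeal A)))
    (M : X.Modules) (hM : ClSub.IsInverseOf M (ClSub.idealMod (BlowUp.exceptional b (Curv2.idealSheaf A (IsLocalRing.maximalIdeal A))))) :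
    (∀ L : X.Modules, PicF.IsInvertible L → ∃ n : ℕ,
      Nonempty (L ≅ CohB1.tensorPow (ClSub.idealMod (BlowUp.exceptional b (Curv2.idealSheaf A (IsLocalRing.maximalIdeal A)))) n) ∨
        Nonempty (L ≅ CohB1.tensorPow M n)) ∧
    ∀ n : ℕ, 1 ≤ n →
      IsEmpty (CohB1.tensorPow (ClSub.idealMod (BlowUp.exceptional b (Curv2.idealSheaf A (IsLocalRing.maximalIdeal A)))) n ≅
        Coh.structureModule X) := by
  let S := Spec (CommRingCat.of A)
  let z : S := IsLocalRing.closedPoint A
  have hz : IsClosed ({z} : Set S) := (PrimeSpectrum.isClosed_singleton_iff_isMaximal _).2 (IsLocalRing.maximalIdeal.isMaximal A)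
  let Iz := Scheme.IdealSheafData.vanishingIdeal (X := S) ⟨{z}, hz⟩
  have hsupp : ((Curv2.idealSheaf A (IsLocalRing.maximalIdeal A)).support : Set S) = {z} := by
    rw [Groth.Agent.CAlgH3.BlowUpCd.support_idealSheaf]
    refine Set.eq_singleton_iff_unique_mem.2 ⟨fun a ha => ha, fun P hP => PrimeSpectrum.ext ?_⟩
    exact ((IsLocalRing.maximalIdeal.isMaximal A).eq_of_le P.isPrime.ne_top (fun a ha => hP ha)).symm
  have hIz : Curv2.idealSheaf A (IsLocalRing.maximalIdeal A) = Iz := by
    refine le_antisymm (Scheme.IdealSheafData.le_support_iff_le_vanishingIdeal.1 (fun w hw => hsupp.ge hw)) ?_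
    refine Scheme.IdealSheafData.le_of_isAffine ?_
    rw [Groth.Agent.BlowUpKoszul.idealSheaf_top_ideal]
    haveI hmax : ((IsLocalRing.maximalIdeal A).map (Scheme.ΓSpecIso (CommRingCat.of A)).inv.hom).IsMaximal :=
      Ideal.map_isMaximal_of_equiv (Scheme.ΓSpecIso (CommRingCat.of A)).symm.commRingCatIsoToRingEquiv
    refine (hmax.eq_of_le (fun htop => ?_) ?_).ge
    · have h : (z : S) ∈ (Iz.support : Set S) := (Scheme.IdealSheafData.coe_support_vanishingIdeal _).ge rfl
      rw [SetLike.mem_coe, Scheme.IdealSheafData.mem_support_iff_of_mem (U := ⟨⊤, isAffineOpen_top _⟩) trivial, htop,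
        Scheme.mem_zeroLocus_iff] at h
      exact h 1 trivial (by rw [Scheme.basicOpen_of_isUnit _ isUnit_one]; trivial)
    · rw [← Groth.Agent.BlowUpKoszul.idealSheaf_top_ideal]
      exact Scheme.IdealSheafData.le_support_iff_le_vanishingIdeal.1 (fun w hw => hsupp.ge hw) ⟨⊤, isAffineOpen_top _⟩
  rw [hIz] at hb hM ⊢
  haveI : IsNoetherian S := inferInstance
  let eA : A ≃+* S.presheaf.stalk z := by
    letI : Algebra A (S.presheaf.stalk z) := StructureSheaf.stalkAlgebra A z
    haveI : IsLocalization.AtPrime (S.presheaf.stalk z) (IsLocalRing.maximalIdeal A) :=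
      StructureSheaf.IsLocalization.to_stalk A z
    exact (IsLocalization.atUnits A (IsLocalRing.maximalIdeal A).primeCompl (S := S.presheaf.stalk z)
      (fun a (ha : a ∉ IsLocalRing.maximalIdeal A) => IsLocalRing.notMem_maximalIdeal.1 ha)).toRingEquiv
  haveI : IsRegularLocalRing (S.presheaf.stalk z) := IsRegularLocalRing.of_ringEquiv eA
  have hdim : ringKrullDim (S.presheaf.stalk z) = 2 := by rw [← ringKrullDim_eq_of_ringEquiv eA]; exact hA
  haveI : IsProper b := Groth.Agent.BlowUpLib.isProper_of_isBlowUp hb (Groth.Agent.FlatMorAdm.isFiniteTypeIdeal_of_noetherian _)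
  haveI : IsLocallyNoetherian X := LocallyOfFiniteType.isLocallyNoetherian b
  haveI : CompactSpace X := QuasiCompact.compactSpace_of_compactSpace b
  haveI : IsNoetherian X := {}
  obtain ⟨E, ι, hι, hE, -, hr, hker⟩ := exists_excCurve_point z hz hdim b hb
  have hc : Models.IsContractionOf ι b :=
    ⟨inferInstance, inferInstance, z, hz, hr, inferInstance, hdim, hb⟩
  rw [show BlowUp.exceptional b Iz = ι.ker from hker.symm] at hM ⊢
  let I := ClSub.idealMod ι.ker
  have hI : PicF.IsInvertible I := Groth.Agent.FlatMor12.IdealModGen.isInvertible_idealMod ι.ker hE.1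
  have hMi : PicF.IsInvertible M := by
    obtain ⟨φ⟩ := hM
    exact PicM.isInvertible_of_tensor hI
      (glocus_isInvertible_of_iso (φ.symm ≪≫ tensorComm _ _) isInvertible_structureModule)
  have hMI : PicM.of hMi * PicM.of hI = 1 := by
    rw [PicM.of_mul, PicM.of_eq_one_iff]; exact hM
  obtain ⟨-, k, hk, e, -⟩ := id hE
  have dI : P1Deg.HasDeg e ((Scheme.Modules.pullback ι).obj I) 1 := hasDeg_conormal hE e
  have dM : P1Deg.HasDeg e ((Scheme.Modules.pullback ι).obj M) (-1) := by
    obtain ⟨φ⟩ := hM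
    obtain ⟨t⟩ := exists_pullTensorIso ι hMi hI
    obtain ⟨t₀⟩ := exists_pullStructureIso (X := X) ι
    exact dI.inverse e (PicLoc.isInvertible_pullback ι hMi) (PicLoc.isInvertible_pullback ι hI)
      (t.symm ≪≫ (Scheme.Modules.pullback ι).mapIso φ ≪≫ t₀)
  have dpow : ∀ {F : X.Modules} (hF : PicF.IsInvertible F) {a : ℤ},
      P1Deg.HasDeg e ((Scheme.Modules.pullback ι).obj F) a → ∀ n : ℕ,
        P1Deg.HasDeg e ((Scheme.Modules.pullback ι).obj (CohB1.tensorPow F n)) ((n : ℤ) * a) := by
    intro F hF a ha n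
    obtain ⟨s⟩ := (PicM.of_eq_iff (PicLoc.isInvertible_pullback ι (isInvertible_tensorPow hF n))
      (isInvertible_tensorPow (PicLoc.isInvertible_pullback ι hF) n)).1 (by
        rw [← PicM.pull_of ι (isInvertible_tensorPow hF n), PicM.of_tensorPow hF,
          PicM.of_tensorPow (PicLoc.isInvertible_pullback ι hF), map_pow, PicM.pull_of])
    exact (ha.pow e (PicLoc.isInvertible_pullback ι hF) n).of_iso e s.symm
  have key : ∀ {N : X.Modules} (hN : PicF.IsInvertible N),
      P1Deg.HasDeg e ((Scheme.Modules.pullback ι).obj N) 0 → PicM.of hN = 1 := by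
    intro N hN hd
    obtain ⟨ψ⟩ := hd.iso_pullback e
    obtain ⟨ψ₀⟩ := (Groth.Agent.Models7.P1Deg.hasDeg_structure e).iso_pullback e
    obtain ⟨L', hL', ⟨φ⟩⟩ := ((Groth.Agent.S7325.result ι hE b hc).2 N hN).2 ⟨ψ.symm ≪≫ ψ₀⟩
    obtain ⟨U, hzU, s, hs⟩ := exists_isGen hL' z
    rw [← (PicM.of_eq_iff (PicLoc.isInvertible_pullback b hL') hN).2 ⟨φ⟩, ← PicM.pull_of b hL']
    refine (PicM.pull_of b hL').trans ((PicM.pull_of b hL').symm.trans (pull_eq_one_of_isGen b hL' hs ?_))
    refine eq_top_iff.2 fun x _ => ?_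
    show b x ∈ U
    exact (IsLocalRing.specializes_closedPoint (b x)).mem_open U.isOpen hzU
  refine ⟨fun L hL => ?_, fun n hn => ⟨fun φ => ?_⟩⟩
  · obtain ⟨a, ha⟩ := P1Deg.exists_hasDeg e (PicLoc.isInvertible_pullback ι hL)
    rcases Int.eq_nat_or_neg a with ⟨n, rfl | rfl⟩
    · obtain ⟨t⟩ := exists_pullTensorIso ι hL (isInvertible_tensorPow hMi n)
      have h := key (isInvertible_tensorMod hL (isInvertible_tensorPow hMi n)) (by
        have h' := (ha.tensor e (PicLoc.isInvertible_pullback ι hL)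
          (PicLoc.isInvertible_pullback ι (isInvertible_tensorPow hMi n)) (dpow hMi dM n)).of_iso e t.symm
        rwa [show (n : ℤ) + (n : ℤ) * -1 = 0 by omega] at h')
      refine ⟨n, Or.inl ((PicM.of_eq_iff hL (isInvertible_tensorPow hI n)).1 ?_)⟩
      rw [← PicM.of_mul hL (isInvertible_tensorPow hMi n), PicM.of_tensorPow hMi] at h
      rw [PicM.of_tensorPow hI, ← one_mul (PicM.of hI ^ n), ← h, mul_assoc, ← mul_pow, hMI, one_pow, mul_one]
    · obtain ⟨t⟩ := exists_pullTensorIso ι hL (isInvertible_tensorPow hI n)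
      have h := key (isInvertible_tensorMod hL (isInvertible_tensorPow hI n)) (by
        have h' := (ha.tensor e (PicLoc.isInvertible_pullback ι hL)
          (PicLoc.isInvertible_pullback ι (isInvertible_tensorPow hI n)) (dpow hI dI n)).of_iso e t.symm
        rwa [show -(n : ℤ) + (n : ℤ) * 1 = 0 by omega] at h')
      refine ⟨n, Or.inr ((PicM.of_eq_iff hL (isInvertible_tensorPow hMi n)).1 ?_)⟩
      rw [← PicM.of_mul hL (isInvertible_tensorPow hI n), PicM.of_tensorPow hI] at h
      rw [PicM.of_tensorPow hMi, ← one_mul (PicM.of hMi ^ n), ← h, mul_assoc, ← mul_pow, mul_comm (PicM.of hI), hMI,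
        one_pow, mul_one]
  · obtain ⟨t₀⟩ := exists_pullStructureIso (X := X) ι
    have h1 := (dpow hI dI n).of_iso e ((Scheme.Modules.pullback ι).mapIso φ ≪≫ t₀)
    have h2 := h1.unique e (Groth.Agent.Models7.P1Deg.hasDeg_structure e)
    omega


end Groth.Agent.S7324
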