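import Groth.Statements.S7326
import Groth.Agent.Inters29.ModelPic

set_option autoImplicit false
universe u
open CategoryTheory CategoryTheory.Limits AlgebraicGeometry
open Models

namespace Groth.Agent.S7326

/-- Let R be a discrete valuation ring with fraction field K, C a smooth proper curve over K with H^0(C,
O_C) = K, X a regular proper model of C, Γ_1, …, Γ_n the irreducible components of the closed fibre
with multiplicities m_i, d = gcd(m_i), and D = Σ (m_i/d) Γ_i the effective Cartier divisor with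
ideal sheaf I_D = Π I(Γ_i)^{m_i/d}. Then O_X(D) (any L with L ⊗ I_D ≅ O_X) has order dividing d in
Pic(X), i.e. L^{⊗ d} ≅ O_X, and the conormal sheaf I_D|_D, an invertible O_D-module, has order
dividing d in Pic(D). -/
theorem result (R : Type u) [CommRing R] [IsDomain R] [IsDiscreteValuationRing R]
    (C X : Scheme.{u}) (f : C ⟶ Spec (CommRingCat.of (FractionRing R))) (p : X ⟶ Spec (CommRingCat.of R))
    (hC : Curve.IsSmoothProperCurve (FractionRing R) C f) (hH0 : IsIso f.appTop)
    (hX : Models.IsRegularProperModel R X p C f)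
    {n : ℕ} (Γ : Fin n → ArSurf.VertComp R (Over.mk p)) (hΓ : Models.IsComponentList R (Over.mk p) Γ)
    (L : X.Modules)
    (hL : ClSub.IsInverseOf L (ClSub.idealMod (∏ i, (Γ i).ι.ker ^ (Models.mult R (Over.mk p) (Γ i) / Models.multGcd R (Over.mk p) Γ)))) :
    Nonempty (CohB1.tensorPow L (Models.multGcd R (Over.mk p) Γ) ≅ Coh.structureModule X) ∧
      Nonempty (CohB1.tensorPow ((Scheme.Modules.pullback
          (∏ i, (Γ i).ι.ker ^ (Models.mult R (Over.mk p) (Γ i) / Models.multGcd R (Over.mk p) Γ)).subschemeι).obj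
          (ClSub.idealMod (∏ i, (Γ i).ι.ker ^ (Models.mult R (Over.mk p) (Γ i) / Models.multGcd R (Over.mk p) Γ))))
          (Models.multGcd R (Over.mk p) Γ) ≅
        Coh.structureModule (∏ i, (Γ i).ι.ker ^ (Models.mult R (Over.mk p) (Γ i) / Models.multGcd R (Over.mk p) Γ)).subscheme) := by
  let D := fun i => (Γ i).ι.ker
  have hD := fun i => Groth.Agent.Inters29.isEffCartier_model hC hX hΓ i
  let d := Models.multGcd R (Over.mk p) Γ
  let w : Fin n → ℕ := fun i => Models.mult R (Over.mk p) (Γ i) / d
  have hw : ∀ i, w i * d = Models.mult R (Over.mk p) (Γ i) := fun i =>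
    Nat.div_mul_cancel (Finset.gcd_dvd (Finset.mem_univ i))
  let J : X.IdealSheafData := ∏ i, (Γ i).ι.ker ^ w i
  have hJ : BlowUp.IsEffCartierIdeal J :=
    Groth.Agent.Inters29.isEffCartier_prod Finset.univ _ fun i => Groth.Agent.Inters29.isEffCartier_pow (hD i) _
  have hcl : Groth.Agent.Inters29.idealCl J hJ ^ d = 1 := by
    rw [Groth.Agent.Inters29.idealCl_prod Finset.univ _ fun i => Groth.Agent.Inters29.isEffCartier_pow (hD i) _,
      ← Finset.prod_pow]
    rw [Finset.prod_congr rfl fun i _ => by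
      rw [Groth.Agent.Inters29.idealCl_pow (hD i), ← pow_mul, hw i]]
    exact Groth.Agent.Inters29.prod_idealCl_model hC hX hΓ
  have hLi : PicF.IsInvertible L :=
    Groth.Agent.Inters29.isInvertible_of_inverse R (X := Over.mk p) hJ hL
  have h1 : Groth.Agent.PicLib.PicM.of hLi * Groth.Agent.Inters29.idealCl J hJ = 1 := by
    simp only [Groth.Agent.Inters29.idealCl, Groth.Agent.PicLib.PicM.of_mul, Groth.Agent.PicLib.PicM.of_eq_one_iff]
    exact hL
  refine ⟨(Groth.Agent.PicLib.PicM.of_eq_one_iff (Groth.Agent.AmpleLib.isInvertible_tensorPow hLi d)).1 ?_, ?_⟩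
  · rw [Groth.Agent.PicLib.PicM.of_tensorPow hLi d]
    have h2 := congrArg (· ^ d) h1
    simpa only [mul_pow, hcl, mul_one, one_pow] using h2
  · have h3 := congrArg (Groth.Agent.PicLib.PicM.pull J.subschemeι) hcl
    rw [map_pow, map_one, Groth.Agent.Inters29.idealCl, Groth.Agent.PicLib.PicM.pull_of,
      ← Groth.Agent.PicLib.PicM.of_tensorPow, Groth.Agent.PicLib.PicM.of_eq_one_iff] at h3
    exact h3

end Groth.Agent.S7326
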