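import Groth.Statements.S7327
import Groth.Agent.Resolve13.AnalUnram

set_option autoImplicit false
set_option backward.isDefEq.respectTransparency.types false
universe u
open CategoryTheory CategoryTheory.Limits AlgebraicGeometry
open Resolve

open scoped TensorProduct
open IsLocalRing

namespace Groth.Agent.S7327

/-- If the maximal ideal dies in `B`, base change to the completion changes nothing. -/
theorem bijective_includeLeft (A : Type u) [CommRing A] [IsLocalRing A] [IsNoetherianRing A]
    (B : Type u) [CommRing B] [Algebra A B] (hm : ∀ a ∈ maximalIdeal A, algebraMap A B a = 0) :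
    Function.Bijective (fun b : B => b ⊗ₜ[A] (1 : AdicCompletion (maximalIdeal A) A)) := by
  let Ah := AdicCompletion (maximalIdeal A) A
  haveI : IsNoetherianRing Ah := Groth.Agent.Matlis6.isNoetherianRing_adicCompletion (maximalIdeal A)
  haveI : Module.FaithfullyFlat A Ah := Module.FaithfullyFlat.of_flat_of_isLocalHom
  refine ⟨fun a b h => Module.FaithfullyFlat.tensorProduct_mk_injective (A := A) (B := Ah) B ?_, fun z => ?_⟩
  · simpa using congrArg (TensorProduct.comm A B Ah) h
  have hkill : ∀ (b : B) (x : Ah), x ∈ maximalIdeal Ah → b ⊗ₜ[A] x = 0 := by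
    intro b x hx
    rw [AdicCompletion.maximalIdeal_eq_map, Ideal.map] at hx
    induction hx using Submodule.span_induction generalizing b with
    | mem x hx =>
      obtain ⟨a, ha, rfl⟩ := hx
      rw [Algebra.algebraMap_eq_smul_one, ← TensorProduct.smul_tmul, Algebra.smul_def, hm a ha, zero_mul, TensorProduct.zero_tmul]
    | zero => exact TensorProduct.tmul_zero _ b
    | add x y _ _ h1 h2 => rw [TensorProduct.tmul_add, h1, h2, add_zero]
    | smul c x _ h1 =>
      rw [show b ⊗ₜ[A] (c • x) = (1 : B) ⊗ₜ[A] c * b ⊗ₜ[A] x by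
        rw [Algebra.TensorProduct.tmul_mul_tmul, one_mul, smul_eq_mul], h1, mul_zero]
  induction z using TensorProduct.induction_on with
  | zero => exact ⟨0, TensorProduct.zero_tmul _ _⟩
  | add x y hx hy =>
    obtain ⟨a, rfl⟩ := hx; obtain ⟨c, rfl⟩ := hy
    exact ⟨a + c, TensorProduct.add_tmul _ _ _⟩
  | tmul b x =>
    obtain ⟨r, hr⟩ := (AdicCompletion.residueField_map_bijective A).2 (IsLocalRing.residue Ah x)
    obtain ⟨a, rfl⟩ := IsLocalRing.residue_surjective r
    have hx : x - algebraMap A Ah a ∈ maximalIdeal Ah := by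
      rw [← IsLocalRing.residue_eq_zero_iff, map_sub, ← hr]
      simp [IsLocalRing.ResidueField.map_residue]
      exact sub_self _
    refine ⟨a • b, ?_⟩
    show (a • b) ⊗ₜ[A] (1 : Ah) = b ⊗ₜ[A] x
    rw [TensorProduct.smul_tmul, ← Algebra.algebraMap_eq_smul_one]
    conv_rhs => rw [← sub_add_cancel x (algebraMap A Ah a), TensorProduct.tmul_add, hkill b _ hx, zero_add]

/-- A ring is reduced if an element `t` is regular and the local rings at primes avoiding `t` are domains. -/
theorem isReduced_of_avoid {E : Type u} [CommRing E] (t : E) (ht : ∀ z, t * z = 0 → z = 0)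
    (h : ∀ (Q : Ideal E) [Q.IsPrime], t ∉ Q → IsDomain (Localization.AtPrime Q)) : IsReduced E := by
  refine ⟨fun z hz => ?_⟩
  let N : Ideal E := LinearMap.ker (LinearMap.toSpanSingleton E E z)
  have hrad : t ∈ N.radical := by
    rw [Ideal.radical_eq_sInf, Submodule.mem_sInf]
    rintro (Q : Ideal E) ⟨hQ, hQp⟩
    by_contra htQ
    haveI := hQp
    haveI := h Q htQ
    have h0 : algebraMap E (Localization.AtPrime Q) z = 0 := (hz.map _).eq_zero
    obtain ⟨s, hs⟩ := (IsLocalization.map_eq_zero_iff Q.primeCompl _ z).1 h0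
    exact s.2 (hQ (show (s : E) * z = 0 from hs))
  obtain ⟨n, hn'⟩ := hrad
  have hn : t ^ n * z = 0 := hn'
  clear hn'
  induction n with
  | zero => simpa using hn
  | succ n ih => exact ih (ht _ (by rw [← mul_assoc, ← pow_succ']; exact hn))

/-- Let (A, m) be a Noetherian local ring with completion A^, f : X → Spec A a morphism locally of
finite type with X integral, and Y = X ×_{Spec A} Spec(A^). If the complement of the closed fibre in
Y is normal (the local rings of Y at points not over the closed point of Spec(A^) are integrally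
closed domains), then the normalization morphism of X is finite. (The published statement also
identifies the base change of the normalization of X to A^ with the normalization of Y; this row
does not restate that part. The quasi-compactness and quasi-separatedness binders on Spec K(X) → X
always hold.) -/
theorem result (A : Type u) [CommRing A] [IsLocalRing A] [IsNoetherianRing A]
    (X : Scheme.{u}) [IsIntegral X] (f : X ⟶ Spec (CommRingCat.of A)) [LocallyOfFiniteType f]
    [QuasiCompact (X.fromSpecStalk (genericPoint X))] [QuasiSeparated (X.fromSpecStalk (genericPoint X))]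
    (hY : ∀ y : ↥(Curv2.bcCpl A f), (Curv2.bcCplSnd A f).base y ≠ IsLocalRing.closedPoint (Curv2.cpl A) →
      IsDomain ((Curv2.bcCpl A f).presheaf.stalk y) ∧ IsIntegrallyClosed ((Curv2.bcCpl A f).presheaf.stalk y)) :
    IsFinite (Curv2.normalizationι X) := by
  haveI : IsLocallyNoetherian X := LocallyOfFiniteType.isLocallyNoetherian f
  refine Groth.Agent.Resolve13.isFinite_normalizationι_of_isN1 fun V _ hV => ?_
  let ψ : CommRingCat.of A ⟶ Γ(X, V) := Spec.preimage (hV.fromSpec ≫ f)
  have hψ : ψ.hom.FiniteType :=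
    (HasRingHomProperty.Spec_iff (P := @LocallyOfFiniteType)).1 (by
      rw [Spec.map_preimage]; infer_instance)
  algebraize [ψ.hom]
  haveI : IsReduced (Γ(X, V) ⊗[A] Curv2.cpl A) := by
    by_cases hm : ∀ a ∈ maximalIdeal A, algebraMap A Γ(X, V) a = 0
    · let e : Γ(X, V) ≃+* Γ(X, V) ⊗[A] Curv2.cpl A :=
        RingEquiv.ofBijective (Algebra.TensorProduct.includeLeftRingHom) (bijective_includeLeft A Γ(X, V) hm)
      exact isReduced_of_injective e.symm e.symm.injective
    push Not at hm
    obtain ⟨t, htm, ht⟩ := hm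
    refine isReduced_of_avoid (algebraMap A (Γ(X, V) ⊗[A] Curv2.cpl A) t) ?_ fun Q _ htQ => ?_
    · intro z hz
      have hr : IsSMulRegular Γ(X, V) t := fun a b hab => by
        simp only [Algebra.smul_def] at hab
        exact mul_left_cancel₀ ht hab
      refine hr.rTensor (M := Curv2.cpl A) ?_
      show t • z = t • (0 : Γ(X, V) ⊗[A] Curv2.cpl A)
      exact ((Algebra.smul_def t z).trans hz).trans (smul_zero t).symm
    let j : Spec (CommRingCat.of (Γ(X, V) ⊗[A] Curv2.cpl A)) ⟶ Curv2.bcCpl A f :=
      (pullbackSpecIso A Γ(X, V) (Curv2.cpl A)).inv ≫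
        pullback.map _ _ _ _ hV.fromSpec (𝟙 _) (𝟙 _) (by
          rw [Category.comp_id]; exact Spec.map_preimage _) (by simp)
    let q : Spec (CommRingCat.of (Γ(X, V) ⊗[A] Curv2.cpl A)) := ⟨Q, inferInstance⟩
    have hj : j ≫ Curv2.bcCplSnd A f =
        Spec.map (CommRingCat.ofHom (Algebra.TensorProduct.includeRight (R := A) (A := Γ(X, V)) (B := Curv2.cpl A)).toRingHom) := by
      simp only [j, Curv2.bcCplSnd, pullback.map, Category.assoc, pullback.lift_snd, Category.comp_id]
      exact pullbackSpecIso_inv_snd A Γ(X, V) (Curv2.cpl A)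
    have hne : (Curv2.bcCplSnd A f).base (j.base q) ≠ closedPoint (Curv2.cpl A) := by
      rw [← Scheme.Hom.comp_apply, hj]
      intro hcl
      refine htQ ?_
      have hmem : algebraMap A (Curv2.cpl A) t ∈ maximalIdeal (Curv2.cpl A) := by
        rw [AdicCompletion.maximalIdeal_eq_map]; exact Ideal.mem_map_of_mem _ htm
      have := (congrArg (fun p : PrimeSpectrum (Curv2.cpl A) => algebraMap A (Curv2.cpl A) t ∈ p.asIdeal) hcl).mpr hmem
      change (1 : Γ(X, V)) ⊗ₜ[A] algebraMap A (Curv2.cpl A) t ∈ Q at this
      rw [Algebra.algebraMap_eq_smul_one, ← TensorProduct.smul_tmul, ← Algebra.algebraMap_eq_smul_one] at this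
      exact this
    haveI := (hY _ hne).1
    haveI : IsDomain ((Spec (CommRingCat.of (Γ(X, V) ⊗[A] Curv2.cpl A))).presheaf.stalk q) :=
      (asIso (j.stalkMap q)).commRingCatIsoToRingEquiv.symm.toMulEquiv.isDomain _
    letI : Algebra (Γ(X, V) ⊗[A] Curv2.cpl A)
        ((Spec (CommRingCat.of (Γ(X, V) ⊗[A] Curv2.cpl A))).presheaf.stalk q) :=
      StructureSheaf.stalkAlgebra (Γ(X, V) ⊗[A] Curv2.cpl A) q
    haveI : IsLocalization.AtPrime ((Spec (CommRingCat.of (Γ(X, V) ⊗[A] Curv2.cpl A))).presheaf.stalk q) Q :=
      StructureSheaf.IsLocalization.to_stalk _ q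
    exact (IsLocalization.algEquiv Q.primeCompl (Localization.AtPrime Q)
      ((Spec (CommRingCat.of (Γ(X, V) ⊗[A] Curv2.cpl A))).presheaf.stalk q)).toRingEquiv.toMulEquiv.isDomain _
  exact Groth.Agent.Resolve13.isN1_of_isReduced_baseChange A Γ(X, V)

end Groth.Agent.S7327
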