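import Groth.Statements.S7329
import Groth.Agent.S7328
import Groth.Agent.S1648
import Groth.Agent.CAlgH.NagataComplete
import Groth.Agent.CAlgH.TjurinaExt
import Groth.Agent.CAlgMisc2.LocalFinite
import Groth.Agent.Resolve13.PowerSeriesNotPth
-- import your own Groth.Agent.* helpers here

set_option autoImplicit false
set_option backward.isDefEq.respectTransparency.types false
universe u
open CategoryTheory CategoryTheory.Limits AlgebraicGeometry
open Resolve

namespace Groth.Agent.S7329

open IsLocalRing

theorem exists_gen {R S : Type u} [CommRing R] [CommRing S] (f : R →+* S) (hf : f.Finite) :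
    ∃ (n : ℕ) (b : Fin n → S), ∀ y, ∃ c : Fin n → R, ∑ i, f (c i) * b i = y := by
  letI := f.toAlgebra
  haveI : Module.Finite R S := hf
  obtain ⟨n, b, hb⟩ := Module.Finite.exists_fin (R := R) (M := S)
  refine ⟨n, b, fun y => ?_⟩
  obtain ⟨c, hc⟩ := (Submodule.mem_span_range_iff_exists_fun R).mp (hb ▸ Submodule.mem_top : y ∈ Submodule.span R (Set.range b))
  exact ⟨c, hc⟩

theorem derivation_comp_eq {k : Type u} [Field k] {n : ℕ} {B F : Type u} [CommRing B] [CommRing F] (ι : B →+* F)
    {N : Type u} [AddCommGroup N] [Module F N] {R : Type u} [CommRing R] [Algebra R F] [Module R N] (D : Derivation R F N)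
    (f g : MvPowerSeries (Fin n) k →+* B) (hf : f.Finite) (hg : g.Finite)
    (hfD : ∀ G, D (ι (f G)) = 0) (hC : ∀ c, D (ι (g (MvPowerSeries.C c))) = 0) (G : MvPowerSeries (Fin n) k) :
    D (ι (g G)) = ∑ i, ι (g (MvPowerSeries.pderiv k i G)) • D (ι (g (MvPowerSeries.X i))) := by
  let P := MvPowerSeries (Fin n) k
  letI : Module P N := Module.compHom N (ι.comp g)
  have hsmul : ∀ (a : P) (x : N), a • x = ι (g a) • x := fun _ _ => rfl
  haveI := (CAlgH.isRegularLocalRing_mvPowerSeries k n).1
  obtain ⟨r, b, hb⟩ := exists_gen f hf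
  obtain ⟨s, b', hb'⟩ := exists_gen g hg
  let M : Submodule P N := Submodule.span P (Set.range fun x : Fin r × Fin s => ι (b' x.2) • D (ι (b x.1)))
  haveI : Module.Finite P M := Module.Finite.span_of_finite P (Set.finite_range _)
  have hM : ∀ y : B, D (ι y) ∈ M := by
    intro y
    obtain ⟨c, hc⟩ := hb y
    rw [← hc, map_sum, map_sum]
    refine Submodule.sum_mem _ fun i _ => ?_
    rw [map_mul, Derivation.leibniz, hfD, smul_zero, add_zero]
    obtain ⟨q, hq⟩ := hb' (f (c i))
    rw [← hq, map_sum, Finset.sum_smul]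
    refine Submodule.sum_mem _ fun l _ => ?_
    rw [map_mul, mul_smul, ← hsmul]
    exact M.smul_mem _ (Submodule.subset_span ⟨(i, l), rfl⟩)
  let E0 : P →ₗ[ℤ] N := (AddMonoidHom.mk' (fun a => D (ι (g a))) fun a b => by simp only [map_add]).toIntLinearMap
  let E : Derivation ℤ P N := Derivation.mk' E0 fun a b => by
    change D (ι (g (a * b))) = ι (g a) • D (ι (g b)) + ι (g b) • D (ι (g a))
    rw [map_mul, map_mul, Derivation.leibniz]
  have hE : ∀ a, E a = D (ι (g a)) := fun a => rfl
  have h := Resolve13.NotPth.derivation_eq_sum E (fun c => hC c) M (fun a => hM _) G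
  simp only [hE, hsmul] at h
  exact h

theorem eq_maximalIdeal_of_prime {A : Type u} [CommRing A] [IsDomain A] [IsLocalRing A] (hdA : ringKrullDim A = 2)
    {y : A} (hy : Prime y) (Q : Ideal A) [Q.IsPrime] (hyQ : y ∈ Q) {a : A} (haQ : a ∈ Q) (hya : ¬ y ∣ a) :
    Q = maximalIdeal A := by
  by_contra hQ
  have hlt : Q < maximalIdeal A := lt_of_le_of_ne (le_maximalIdeal (Ideal.IsPrime.ne_top ‹_›)) hQ
  haveI hyP : (Ideal.span {y}).IsPrime := (Ideal.span_singleton_prime hy.ne_zero).mpr hy
  let q0 : PrimeSpectrum A := ⟨⊥, Ideal.isPrime_bot⟩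
  let q1 : PrimeSpectrum A := ⟨Ideal.span {y}, hyP⟩
  let q2 : PrimeSpectrum A := ⟨Q, ‹_›⟩
  let q3 : PrimeSpectrum A := ⟨maximalIdeal A, inferInstance⟩
  have h01 : q0 < q1 := lt_of_le_of_ne (show (⊥ : Ideal A) ≤ _ from bot_le) fun h =>
    hy.ne_zero (Ideal.span_singleton_eq_bot.mp (congrArg PrimeSpectrum.asIdeal h).symm)
  have h12 : q1 < q2 := lt_of_le_of_ne ((Ideal.span_singleton_le_iff_mem _).mpr hyQ) fun h => hya (by
    have : a ∈ q1.asIdeal := h.symm ▸ haQ
    exact Ideal.mem_span_singleton.mp this)
  have h23 : q2 < q3 := hlt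
  let l : LTSeries (PrimeSpectrum A) := (((RelSeries.singleton _ q0).snoc q1 h01).snoc q2 (by simpa using h12)).snoc q3
    (by simpa using h23)
  have h := Order.LTSeries.length_le_krullDim l
  change (3 : ℕ) ≤ ringKrullDim A at h
  rw [hdA] at h
  exact absurd (by exact_mod_cast h : (3 : ℕ) ≤ 2) (by omega)

theorem exists_integral_multiple' {A K L : Type u} [CommRing A] [IsDomain A] [Field K] [Algebra A K] [IsFractionRing A K]
    [Field L] [Algebra A L] [Algebra K L] [IsScalarTower A K L] [FiniteDimensional K L] (z : L) :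
    ∃ c : A, c ≠ 0 ∧ IsIntegral A (algebraMap A L c * z) := by
  haveI : Algebra.IsAlgebraic A L := (IsFractionRing.comap_isAlgebraic_iff (A := A) (K := K) (C := L)).mpr inferInstance
  obtain ⟨c, hc, h⟩ := (Algebra.IsAlgebraic.isAlgebraic (R := A) z).exists_integral_multiple
  exact ⟨c, hc, by rwa [Algebra.smul_def] at h⟩

set_option maxHeartbeats 2000000 in
/-- Let p be a prime number, A a complete regular local ring of dimension two and characteristic p with
fraction field K, L/K a purely inseparable extension of degree p, and B the integral closure of A in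
L. Then reduction to rational singularities is possible for B: the lengths of the B-modules H^1(Y,
O_Y), over all proper morphisms Y → Spec B from an integral normal scheme which are an isomorphism
over a nonempty open, are bounded. -/
theorem result (p : ℕ) [Fact p.Prime] (A : Type u) [CommRing A] [IsRegularLocalRing A]
    [CharP A p] [IsAdicComplete (IsLocalRing.maximalIdeal A) A] (hdA : ringKrullDim A = 2)
    (L : Type u) [Field L] [Algebra A L] [Algebra (FractionRing A) L] [IsScalarTower A (FractionRing A) L]
    (hdeg : Module.finrank (FractionRing A) L = p) [IsPurelyInseparable (FractionRing A) L] :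
    (∃ N : ℕ, ∀ (X : Scheme.{u}) [X.Over (Spec (CommRingCat.of ↥(integralClosure A L)))], IsProper (X ↘ Spec (CommRingCat.of ↥(integralClosure A L))) →
        IsIntegral X → Pi1.IsNormalScheme X →
        (∃ U : (Spec (CommRingCat.of ↥(integralClosure A L))).Opens, (U : Set (Spec (CommRingCat.of ↥(integralClosure A L)))).Nonempty ∧ IsIso ((X ↘ Spec (CommRingCat.of ↥(integralClosure A L))) ∣_ U)) →
        Module.length ↥(integralClosure A L) (Coh.HH X (Coh.structureModule X) 1) ≤ (N : ℕ∞)) := by
  classical
  haveI : IsDomain A := CAlgH3.isDomain_of_isRegularLocalRing A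
  haveI : IsIntegrallyClosed A := CAlgH3.isIntegrallyClosed_of_regular A
  let K := FractionRing A
  haveI : FiniteDimensional K L := Module.finite_of_finrank_pos (hdeg ▸ (Fact.out : p.Prime).pos)
  haveI : CharP K p := charP_of_injective_algebraMap (IsFractionRing.injective A K) p
  haveI : CharP L p := charP_of_injective_algebraMap (algebraMap K L).injective p
  haveI : ExpChar K p := ExpChar.prime Fact.out
  let k := ResidueField A
  haveI : CharP k p := by
    refine CharP.of_ringHom_of_ne_zero (residue A) p (Fact.out : p.Prime).ne_zero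
  have hAL : Function.Injective (algebraMap A L) := by
    rw [IsScalarTower.algebraMap_eq A K L]
    exact (algebraMap K L).injective.comp (IsFractionRing.injective A K)
  -- the ring `B`
  let B := integralClosure A L
  haveI : Module.Finite A B := CAlgH.isN2_of_complete_local_domain A L inferInstance
  haveI : IsNoetherianRing B := IsNoetherianRing.of_finite A B
  haveI : IsIntegrallyClosed B := integralClosure.isIntegrallyClosedOfFiniteExtension K
  have hABi : Function.Injective (algebraMap A B) := fun x y h => hAL (congrArg Subtype.val h)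
  have hpow : ∀ b : B, ∃ a : A, algebraMap A B a = b ^ p := by
    intro b
    obtain ⟨n, y, hy⟩ := IsPurelyInseparable.minpoly_eq_X_pow_sub_C K p (b : L)
    have hn : n ≤ 1 := by
      have h := minpoly.natDegree_le (A := K) (b : L)
      rw [hy, Polynomial.natDegree_X_pow_sub_C, hdeg] at h
      by_contra hn
      exact absurd h (not_le.mpr (lt_of_lt_of_le (by nlinarith [(Fact.out : p.Prime).two_le]) (Nat.pow_le_pow_right (Fact.out : p.Prime).pos (by omega : 2 ≤ n))))
    have hyb : (b : L) ^ p ^ n = algebraMap K L y := by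
      have h := minpoly.aeval K (b : L)
      rw [hy] at h
      simpa [sub_eq_zero] using h
    obtain ⟨y', hy'⟩ : ∃ y' : K, (b : L) ^ p = algebraMap K L y' := by
      rcases Nat.le_one_iff_eq_zero_or_eq_one.mp hn with rfl | rfl
      · exact ⟨y ^ p, by rw [map_pow, ← hyb, pow_zero, pow_one]⟩
      · exact ⟨y, by rw [← hyb, pow_one]⟩
    have hint : IsIntegral A y' := by
      rw [← isIntegral_algebraMap_iff (R := A) (A := K) (B := L) (algebraMap K L).injective, ← hy']
      exact b.2.pow p
    obtain ⟨a, ha⟩ := IsIntegrallyClosed.isIntegral_iff.mp hint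
    exact ⟨a, Subtype.ext (show algebraMap A L a = (b : L) ^ p by rw [hy', ← ha, ← IsScalarTower.algebraMap_apply])⟩
  choose pw hpw using hpow
  have hunit : ∀ b : B, IsUnit b ↔ IsUnit (pw b) := by
    intro b
    constructor
    · intro h
      obtain ⟨c, hc⟩ := h.exists_right_inv
      refine IsUnit.of_mul_eq_one (pw c) (hABi ?_)
      rw [map_mul, hpw, hpw, ← mul_pow, hc, one_pow, map_one]
    · intro h
      exact (isUnit_pow_iff (Fact.out : p.Prime).ne_zero).mp (hpw b ▸ h.map (algebraMap A B))
  haveI : CharP B p := charP_of_injective_algebraMap hABi p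
  have hpwadd : ∀ x y : B, pw (x + y) = pw x + pw y := fun x y => hABi (by rw [hpw, map_add, hpw, hpw, add_pow_char])
  haveI : IsLocalRing B := IsLocalRing.of_nonunits_add fun x y hx hy => by
    rw [mem_nonunits_iff, hunit] at hx hy ⊢
    rw [hpwadd]
    exact IsLocalRing.nonunits_add hx hy
  haveI : IsAdicComplete (maximalIdeal B) B := CAlgMisc2.isAdicComplete_maximalIdeal_of_finite (A := A)
  haveI : Algebra.IsIntegral A B := Algebra.IsIntegral.of_finite A B
  have hdB : ringKrullDim B = 2 := by rw [← DimLib.ringKrullDim_eq_of_isIntegral (R := A) (S := B) hABi, hdA]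
  have hNB : CAlg.IsNagata B := CAlgH.isNagata_of_complete_local B
  -- a generator
  obtain ⟨z, hz⟩ : ∃ z : L, z ∉ (⊥ : IntermediateField K L) := by
    by_contra h
    push Not at h
    have htop : (⊥ : IntermediateField K L) = ⊤ := top_le_iff.mp fun x _ => h x
    have h1 := IntermediateField.finrank_bot (F := K) (E := L)
    rw [htop, IntermediateField.finrank_top', hdeg] at h1
    exact (Fact.out : p.Prime).ne_one h1
  obtain ⟨⟨θ₀, c₀⟩, hθ₀⟩ : ∃ x : B × A, (x.1 : L) = algebraMap A L x.2 * z ∧ x.2 ≠ 0 := by
    obtain ⟨c, hc, hcint⟩ := exists_integral_multiple' (A := A) (L := L) (K := K) z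
    exact ⟨(⟨_, hcint⟩, c), rfl, hc⟩
  have hgen : ∀ b : B, (∀ a : A, algebraMap A B a ≠ b) → (b : L) ∉ (⊥ : IntermediateField K L) := by
    intro b hb hmem
    obtain ⟨y, hy⟩ := IntermediateField.mem_bot.mp hmem
    have hint : IsIntegral A y := by
      rw [← isIntegral_algebraMap_iff (R := A) (A := K) (B := L) (algebraMap K L).injective, hy]
      exact b.2
    obtain ⟨a, ha⟩ := IsIntegrallyClosed.isIntegral_iff.mp hint
    exact hb a (Subtype.ext (show algebraMap A L a = (b : L) by rw [IsScalarTower.algebraMap_apply A K L, ha, hy]))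
  have hθA : ∀ a : A, algebraMap A B a ≠ θ₀ := by
    intro a ha
    refine hz (IntermediateField.mem_bot.mpr ⟨algebraMap A K a / algebraMap A K c₀, ?_⟩)
    have h1 : algebraMap A L a = algebraMap A L c₀ * z := (congrArg Subtype.val ha).trans hθ₀.1
    have hc : algebraMap A L c₀ ≠ 0 := fun h => hθ₀.2 (hAL (h.trans (map_zero _).symm))
    rw [map_div₀, ← IsScalarTower.algebraMap_apply, ← IsScalarTower.algebraMap_apply, h1, mul_div_cancel_left₀ _ hc]
  -- power series
  haveI := CAlgH.AdicSmooth.perfectField_ulift_zmod.{u} p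
  letI : Algebra (ULift.{u} (ZMod p)) A := ((ZMod.castHom dvd_rfl A).comp ULift.ringEquiv.toRingHom).toAlgebra
  obtain ⟨s, hs⟩ := CAlgH.exists_coefficient_field_of_algebra (ULift.{u} (ZMod p)) A
  obtain ⟨d, e0, -⟩ := CAlgH.exists_equiv_mvPowerSeries_of_coefficient s fun y => ⟨y, hs y⟩
  obtain rfl : d = 2 := by
    have h1 := (CAlgH.isRegularLocalRing_mvPowerSeries k d).2
    have h2 := CAlgH.AdicSmooth.le_ringKrullDim_mvPowerSeries k d
    rw [ringKrullDim_eq_zero_of_isField (Field.toIsField k), zero_add] at h1
    have h3 := le_antisymm h1 h2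
    rw [ringKrullDim_eq_of_ringEquiv e0, hdA] at h3
    exact_mod_cast h3.symm
  let P := MvPowerSeries (Fin 2) k
  haveI hPreg : IsRegularLocalRing P := (CAlgH.isRegularLocalRing_mvPowerSeries k 2).1
  haveI : IsDomain P := CAlgH3.isDomain_of_isRegularLocalRing P
  haveI : IsIntegrallyClosed P := CAlgH3.isIntegrallyClosed_of_regular P
  have hdP : ringKrullDim P = 2 := (ringKrullDim_eq_of_ringEquiv e0).trans hdA
  obtain ⟨H, σ, m, i, hm, hmi⟩ := Resolve13.NotPth.exists_exponent p (e0.symm (pw θ₀)) fun H hH => by
    refine hθA (e0 H) ?_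
    have h : (algebraMap A B (e0 H)) ^ p = θ₀ ^ p := by
      rw [← map_pow, ← map_pow, hH, RingEquiv.apply_symm_apply, hpw]
    rw [← frobenius_def, ← frobenius_def] at h
    exact frobenius_inj B p h
  let Φ : P ≃+* A := σ.symm.trans e0
  let θ : B := θ₀ - algebraMap A B (e0 H)
  let a : A := pw θ₀ - (e0 H) ^ p
  have hθp : θ ^ p = algebraMap A B a := by
    simp only [θ, a]
    rw [sub_pow_char, map_sub, map_pow, hpw]
  have hθA' : ∀ a' : A, algebraMap A B a' ≠ θ := fun a' h => hθA (a' + e0 H) (by rw [map_add, h]; exact sub_add_cancel _ _)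
  let G : P := Φ.symm a
  have hG : G = σ (e0.symm (pw θ₀) - H ^ p) := by
    simp [G, Φ, a]
  have hpd : MvPowerSeries.pderiv k i G ≠ 0 := by
    intro h
    have hm1 : 1 ≤ m i := Nat.one_le_iff_ne_zero.mpr fun h0 => hmi (h0 ▸ dvd_zero p)
    have h1 := congrArg (MvPowerSeries.coeff (m - Finsupp.single i 1)) h
    rw [MvPowerSeries.coeff_pderiv, map_zero, tsub_add_cancel_of_le (by simpa [Finsupp.single_le_iff] using hm1), hG,
      mul_eq_zero] at h1
    rcases h1 with h1 | h1
    · exact hm h1
    · refine hmi ((CharP.cast_eq_zero_iff k p _).mp ?_)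
      rw [← Nat.cast_add_one] at h1
      rw [← h1]
      congr 1
      simp
      omega
  obtain ⟨j, hji⟩ : ∃ j : Fin 2, j ≠ i := exists_ne i
  have hij : ∀ l, l = i ∨ l = j := fun l => by fin_cases l <;> fin_cases i <;> fin_cases j <;> simp_all
  let x : A := Φ (MvPowerSeries.X i)
  let y : A := Φ (MvPowerSeries.X j)
  have hy : Prime y := (MulEquiv.prime_iff Φ.toMulEquiv).mpr (CAlgH.Tjurina.prime_X k 2 j)
  have hxm : ∀ l, Φ (MvPowerSeries.X l) ∈ maximalIdeal A := fun l => by
    refine (IsLocalRing.mem_maximalIdeal _).mpr fun hu => ?_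
    have := MvPowerSeries.isUnit_constantCoeff _ ((isUnit_map_iff Φ _).mp hu)
    simp at this
  have hyx : ¬ y ∣ x := by
    intro h
    have h' : (MvPowerSeries.X j : P) ∣ MvPowerSeries.X i := (map_dvd_iff Φ).mp h
    rw [MvPowerSeries.X_dvd_iff] at h'
    have := h' (Finsupp.single i 1) (Finsupp.single_eq_of_ne hji)
    simp [MvPowerSeries.coeff_X] at this
  obtain ⟨e, hya', he⟩ : ∃ e : A, ¬ y ∣ x ^ p * a + e ^ p ∧ e ∈ maximalIdeal A := by
    by_cases h : y ∣ x ^ p * a
    · refine ⟨x, fun h' => hyx (hy.dvd_of_dvd_pow (n := p) ?_), hxm i⟩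
      have := dvd_sub h' h
      rwa [add_sub_cancel_left] at this
    · exact ⟨0, by rw [zero_pow (Fact.out : p.Prime).ne_zero, add_zero]; exact h, zero_mem _⟩
  let a' : A := x ^ p * a + e ^ p
  let θ' : B := algebraMap A B x * θ + algebraMap A B e
  have hθ'p : θ' ^ p = algebraMap A B a' := by
    simp only [θ', a']
    rw [add_pow_char, mul_pow, hθp, map_add, map_mul, map_pow, map_pow]
  have ha'm : a' ∈ maximalIdeal A :=
    add_mem (Ideal.mul_mem_right _ _ (Ideal.pow_mem_of_mem _ (hxm i) p (Fact.out : p.Prime).pos))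
      (Ideal.pow_mem_of_mem _ he p (Fact.out : p.Prime).pos)
  have hm' : ∀ b ∈ maximalIdeal A, algebraMap A B b ∈ maximalIdeal B := fun b hb =>
    (IsLocalRing.mem_maximalIdeal _).mpr fun hu => (IsLocalRing.mem_maximalIdeal _).mp hb (by
      have hh : pw (algebraMap A B b) = b ^ p := hABi (by rw [hpw, map_pow])
      rw [hunit, hh] at hu
      exact (isUnit_pow_iff (Fact.out : p.Prime).ne_zero).mp hu)
  have hθ'm : θ' ∈ maximalIdeal B :=
    Ideal.IsPrime.mem_of_pow_mem inferInstance p (hθ'p.symm ▸ hm' a' ha'm)
  -- the map `f`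
  let v : Fin 2 → B := fun l => if l = i then θ' else algebraMap A B y
  have hvi : v i = θ' := if_pos rfl
  have hvj : v j = algebraMap A B y := if_neg hji
  let ψ : k →+* A := (Φ : P →+* A).comp MvPowerSeries.C
  obtain ⟨f, hfC, hfX⟩ := CAlgH.exists_mvPowerSeries_eval ((algebraMap A B).comp ψ) (maximalIdeal B) v fun l => by
    rcases hij l with rfl | rfl
    · rw [hvi]; exact hθ'm
    · rw [hvj]; exact hm' _ (hxm _)
  -- finiteness
  let I : Ideal A := Ideal.span {a', y}
  have hIrad : maximalIdeal A ≤ I.radical := by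
    rw [Ideal.radical_eq_sInf]
    refine le_sInf fun Q ⟨hQ, hQp⟩ => ?_
    haveI := hQp
    exact (eq_maximalIdeal_of_prime hdA hy Q (hQ (Ideal.subset_span (show y ∈ ({a', y} : Set A) by simp))) (hQ (Ideal.subset_span (show a' ∈ ({a', y} : Set A) by simp))) hya').ge
  have hIne : I ≠ ⊤ := fun h => by
    have : I ≤ maximalIdeal A := Ideal.span_le.mpr (by
      rintro _ (rfl | rfl)
      · exact ha'm
      · exact hxm j)
    exact (maximalIdeal.isMaximal A).ne_top (top_le_iff.mp (h ▸ this))
  haveI : Nontrivial (A ⧸ I) := Ideal.Quotient.nontrivial_iff.mpr hIne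
  haveI : IsLocalRing (A ⧸ I) := IsLocalRing.of_surjective' _ Ideal.Quotient.mk_surjective
  haveI : IsArtinianRing (A ⧸ I) := by
    rw [isArtinianRing_iff_isNilpotent_maximalIdeal]
    obtain ⟨N, hN⟩ := Ideal.exists_pow_le_of_le_radical_of_fg hIrad (IsNoetherian.noetherian _)
    refine ⟨N, ?_⟩
    have hmax : maximalIdeal (A ⧸ I) = (maximalIdeal A).map (Ideal.Quotient.mk I) :=
      (CAlgH.isAdicComplete_quotient.map_mk_maximalIdeal I).symm
    rw [hmax, ← Ideal.map_pow, Ideal.zero_eq_bot, Ideal.map_eq_bot_iff_le_ker, Ideal.mk_ker]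
    exact hN
  have hψres : Function.Surjective ((residue A).comp ψ) := by
    intro t
    obtain ⟨b, rfl⟩ := residue_surjective t
    refine ⟨MvPowerSeries.constantCoeff (Φ.symm b), ?_⟩
    show residue A (Φ (MvPowerSeries.C _)) = residue A b
    rw [← sub_eq_zero, ← map_sub, residue_eq_zero_iff, IsLocalRing.mem_maximalIdeal]
    intro hu
    have h := MvPowerSeries.isUnit_constantCoeff _ (hu.map Φ.symm)
    simp at h
  have hfin1 : ((Ideal.Quotient.mk I).comp ψ).Finite := by
    refine CAlgH.finite_of_residue_surjective _ ?_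
    intro t
    obtain ⟨b, rfl⟩ := residue_surjective t
    obtain ⟨b, rfl⟩ := Ideal.Quotient.mk_surjective b
    obtain ⟨c, hc⟩ := hψres (residue A b)
    refine ⟨c, ?_⟩
    show residue _ (Ideal.Quotient.mk I (ψ c)) = residue _ (Ideal.Quotient.mk I b)
    rw [← sub_eq_zero, ← map_sub, residue_eq_zero_iff, ← map_sub, ← CAlgH.isAdicComplete_quotient.map_mk_maximalIdeal I]
    refine Ideal.mem_map_of_mem _ ?_
    rw [← residue_eq_zero_iff, map_sub, sub_eq_zero]
    exact hc
  have hAfin : (algebraMap A B).Finite := RingHom.finite_algebraMap.mpr inferInstance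
  have hffin : f.Finite := by
    refine CAlgH.finite_mvPowerSeries_hom f (maximalIdeal B) (fun l => by
      rw [hfX]; rcases hij l with rfl | rfl
      · rw [hvi]; exact hθ'm
      · rw [hvj]; exact hm' _ (hxm _)) ?_
    rw [hfC]
    let J : Ideal B := Ideal.span (Set.range fun l => f (MvPowerSeries.X l))
    have hIJ : I ≤ J.comap (algebraMap A B) := Ideal.span_le.mpr (by
      rintro _ (rfl | rfl)
      · show algebraMap A B a' ∈ J
        rw [← hθ'p]
        have hθJ : θ' ∈ J := Ideal.subset_span ⟨i, (hfX i).trans hvi⟩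
        exact Ideal.pow_mem_of_mem _ hθJ p (Fact.out : p.Prime).pos
      · show algebraMap A B y ∈ J
        exact Ideal.subset_span ⟨j, (hfX j).trans hvj⟩)
    have h2 : (Ideal.quotientMap J (algebraMap A B) hIJ).Finite := by
      refine RingHom.Finite.of_comp_finite (f := Ideal.Quotient.mk I) ?_
      rw [Ideal.quotientMap_comp_mk]
      exact (RingHom.Finite.of_surjective _ Ideal.Quotient.mk_surjective).comp hAfin
    have h3 := h2.comp hfin1
    rwa [← RingHom.comp_assoc, Ideal.quotientMap_comp_mk, RingHom.comp_assoc] at h3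
  have hfinj : Function.Injective f := CAlgH.injective_mvPowerSeries_hom f hffin (by
    rw [ringKrullDim_eq_zero_of_isField (Field.toIsField k), zero_add, hdB]
    rfl)
  letI : Algebra P B := f.toAlgebra
  haveI : Module.Finite P B := hffin
  haveI : Algebra.IsIntegral P B := Algebra.IsIntegral.of_finite P B
  haveI : IsLocalHom (algebraMap P B) := RingHom.IsIntegral.isLocalHom (algebraMap_isIntegral_iff.mpr inferInstance) hfinj
  haveI : FaithfulSMul P B := (faithfulSMul_iff_algebraMap_injective P B).mpr hfinj
  let FB := FractionRing B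
  haveI : FaithfulSMul P FB := (faithfulSMul_iff_algebraMap_injective P FB).mpr (by
    rw [IsScalarTower.algebraMap_eq P B FB]
    exact (IsFractionRing.injective B FB).comp hfinj)
  letI : Algebra (FractionRing P) FB := FractionRing.liftAlgebra P FB
  haveI : Algebra.EssFiniteType B FB := Algebra.EssFiniteType.of_isLocalization FB (nonZeroDivisors B)
  haveI : Algebra.EssFiniteType P FB := Algebra.EssFiniteType.comp P B FB
  haveI : Algebra.EssFiniteType (FractionRing P) FB := Algebra.EssFiniteType.of_comp P (FractionRing P) FB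
  haveI : CharP FB p := charP_of_injective_algebraMap (IsFractionRing.injective B FB) p
  -- separability
  haveI : Algebra.FormallyUnramified (FractionRing P) FB := by
    let D := KaehlerDifferential.D (FractionRing P) FB
    have hD : ∀ w, D w = KaehlerDifferential.D (FractionRing P) FB w := fun _ => rfl
    let ι : B →+* FB := algebraMap B FB
    let g : P →+* B := (algebraMap A B).comp (Φ : P →+* A)
    have hgfin : g.Finite := hAfin.comp (RingHom.Finite.of_surjective _ Φ.surjective)
    have hfD : ∀ Q : P, D (ι (f Q)) = 0 := fun Q => by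
      rw [hD, show ι (f Q) = algebraMap B FB (algebraMap P B Q) from rfl]
      rw [← IsScalarTower.algebraMap_apply, IsScalarTower.algebraMap_apply P (FractionRing P) FB, Derivation.map_algebraMap]
    have hC : ∀ c, D (ι (g (MvPowerSeries.C c))) = 0 := fun c => by
      rw [show g (MvPowerSeries.C c) = f (MvPowerSeries.C c) from (RingHom.congr_fun hfC c).symm]
      exact hfD _
    have hDy : D (ι (g (MvPowerSeries.X j))) = 0 := by
      rw [show g (MvPowerSeries.X j) = f (MvPowerSeries.X j) from ((hfX j).trans hvj).symm]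
      exact hfD _
    have hformula : ∀ Q : P, D (ι (g Q)) = ι (g (MvPowerSeries.pderiv k i Q)) • D (ι (g (MvPowerSeries.X i))) := fun Q => by
      have hh := derivation_comp_eq ι D f g hffin hgfin hfD hC Q
      refine hh.trans ?_
      rw [Finset.sum_eq_single i (fun l _ hl => by
        rw [(hij l).resolve_left hl, hDy, smul_zero]) (fun h => absurd (Finset.mem_univ i) h)]
    have hgA : ∀ b : A, g (Φ.symm b) = algebraMap A B b := fun b => congrArg (algebraMap A B) (Φ.apply_symm_apply b)
    have hpz : ∀ w : FB, D (w ^ p) = 0 := fun w => by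
      rw [Derivation.leibniz_pow, ← Nat.cast_smul_eq_nsmul FB, CharP.cast_eq_zero, zero_smul]
    have hG' : Φ.symm a' = MvPowerSeries.X i ^ p * G + (Φ.symm e) ^ p := by
      simp [a', G, x]
    have hdx : D (ι (g (MvPowerSeries.X i))) = 0 := by
      have h1 : D (ι (g (Φ.symm a'))) = 0 := by
        rw [hgA, ← hθ'p, map_pow]; exact hpz _
      rw [hformula] at h1
      refine (smul_eq_zero.mp h1).resolve_left fun h => ?_
      have h2 : MvPowerSeries.pderiv k i (Φ.symm a') = 0 := by
        have hinj : Function.Injective (ι.comp g) :=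
          (IsFractionRing.injective B FB).comp (hABi.comp Φ.injective)
        exact hinj (h.trans (map_zero _).symm)
      rw [hG', map_add, Derivation.leibniz, Derivation.leibniz_pow, Derivation.leibniz_pow] at h2
      have hpP : (p : P) = 0 := by
        rw [← map_natCast (MvPowerSeries.C (σ := Fin 2) (R := k)), CharP.cast_eq_zero, map_zero]
      simp only [nsmul_eq_mul, smul_eq_mul, hpP, zero_mul, mul_zero, add_zero] at h2
      rcases mul_eq_zero.mp h2 with h3 | h3
      · exact (CAlgH.Tjurina.prime_X k 2 i).ne_zero (pow_eq_zero_iff (Fact.out : p.Prime).ne_zero |>.mp h3)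
      · exact hpd h3
    have hDA : ∀ b : A, D (ι (algebraMap A B b)) = 0 := fun b => by
      rw [← hgA, hformula, hdx, smul_zero]
    have hDθ' : D (ι θ') = 0 := by
      rw [← hvi, ← hfX]; exact hfD _
    have hDpoly : ∀ q : Polynomial A, D (ι (Polynomial.aeval θ' q)) = 0 := by
      intro q
      induction q using Polynomial.induction_on with
      | C b => rw [Polynomial.aeval_C]; exact hDA b
      | add q r hq hr => rw [map_add, map_add, map_add, hq, hr, add_zero]
      | monomial n b ih => rw [map_mul, Polynomial.aeval_C, map_pow, Polynomial.aeval_X, map_mul, map_pow,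
          Derivation.leibniz, hDA, smul_zero, Derivation.leibniz_pow, hDθ', smul_zero, smul_zero, smul_zero, add_zero]
    have hθ'K : (θ' : L) ∉ (⊥ : IntermediateField K L) := hgen θ' fun b hb => by
      refine hgen θ hθA' (IntermediateField.mem_bot.mpr ⟨(algebraMap A K b - algebraMap A K e) / algebraMap A K x, ?_⟩)
      have hx0 : algebraMap A L x ≠ 0 := fun h => hyx (by rw [hAL (h.trans (map_zero _).symm)]; exact dvd_zero y)
      have h1 : algebraMap A L b = algebraMap A L x * (θ : L) + algebraMap A L e := congrArg Subtype.val hb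
      rw [map_div₀, map_sub, ← IsScalarTower.algebraMap_apply, ← IsScalarTower.algebraMap_apply,
        ← IsScalarTower.algebraMap_apply, h1, add_sub_cancel_right, mul_div_cancel_left₀ _ hx0]
    have htop : IntermediateField.adjoin K {(θ' : L)} = ⊤ := by
      haveI := IntermediateField.isSimpleOrder_of_finrank_prime K L (hdeg ▸ Fact.out)
      refine (IsSimpleOrder.eq_bot_or_eq_top _).resolve_left fun h => hθ'K ?_
      rw [← h]; exact IntermediateField.mem_adjoin_simple_self K _
    have hDB : ∀ b : B, D (ι b) = 0 := by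
      intro b
      have hb : (b : L) ∈ (IntermediateField.adjoin K {(θ' : L)}).toSubalgebra := by rw [htop]; trivial
      rw [IntermediateField.adjoin_simple_toSubalgebra_of_isAlgebraic (Algebra.IsAlgebraic.isAlgebraic _),
        Algebra.adjoin_singleton_eq_range_aeval] at hb
      obtain ⟨q, hq⟩ := hb
      obtain ⟨⟨c, hc⟩, hcq⟩ := IsLocalization.integerNormalization_map_to_map (nonZeroDivisors A) q
      let q' := IsLocalization.integerNormalization (nonZeroDivisors A) q
      have h1 : algebraMap A B c * b = Polynomial.aeval θ' q' := by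
        refine Subtype.ext ?_
        show algebraMap A L c * (b : L) = ((Polynomial.aeval θ' q' : B) : L)
        rw [show ((Polynomial.aeval θ' q' : B) : L) = Polynomial.aeval (θ' : L) q' from
          (Polynomial.aeval_algHom_apply B.val θ' q').symm, ← Polynomial.aeval_map_algebraMap K (θ' : L) q', hcq,
          ← IsScalarTower.algebraMap_smul K c q, map_smul, IsScalarTower.algebraMap_smul, Algebra.smul_def]
        exact congrArg (_ * ·) hq.symm
      have h2 := hDpoly q'
      rw [← h1, map_mul, Derivation.leibniz, hDA, smul_zero, add_zero, smul_eq_zero] at h2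
      refine h2.resolve_left fun h => nonZeroDivisors.ne_zero hc (hABi (IsFractionRing.injective B FB ?_))
      rw [map_zero, map_zero]; exact h
    constructor
    have hall : ∀ w : FB, KaehlerDifferential.D (FractionRing P) FB w = 0 := by
      intro w
      obtain ⟨b, c, hc, rfl⟩ := IsFractionRing.div_surjective (A := B) w
      rw [← hD, show algebraMap B FB b = ι b from rfl, show algebraMap B FB c = ι c from rfl]
      rw [Derivation.leibniz_div, hDB, hDB]
      simp
    refine ⟨fun u v => ?_⟩
    have hz : ∀ u : Ω[FB⁄FractionRing P], u = 0 := fun u => by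
      have hmem : u ∈ Submodule.span FB (Set.range (KaehlerDifferential.D (FractionRing P) FB)) := by
        rw [KaehlerDifferential.span_range_derivation]; trivial
      have hbot : Submodule.span FB (Set.range (KaehlerDifferential.D (FractionRing P) FB)) = ⊥ :=
        Submodule.span_eq_bot.mpr (by rintro _ ⟨w, rfl⟩; exact hall w)
      rwa [hbot, Submodule.mem_bot] at hmem
    rw [hz u, hz v]
  haveI : Algebra.IsSeparable (FractionRing P) FB := (Algebra.FormallyUnramified.iff_isSeparable _ _).mp inferInstance
  haveI : IsAdicComplete (maximalIdeal P) P := CAlgH.isAdicComplete_maximalIdeal_mvPowerSeries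
  have hNP : CAlg.IsNagata P := CAlgH.isNagata_of_complete_local P
  refine S7328.result P B hNP hNB hdP hdB hfinj (fun q => ?_) ⟨0, fun X _ hprop hint hnorm hU => ?_⟩
  · rw [← IsScalarTower.algebraMap_apply P (FractionRing P) FB, ← IsScalarTower.algebraMap_apply P B FB]
  · haveI := S1648.result P hNP hdP X (X ↘ Spec (CommRingCat.of P)) hprop hint hnorm hU
    rw [Module.length_eq_zero]
    exact le_rfl


end Groth.Agent.S7329
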