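import Groth.Statements.S7335
import Groth.Agent.Resolve13.GenTwist
import Groth.Agent.Resolve13.GRVanish
import Groth.Agent.Resolve13.IdealPowerSections
import Groth.Agent.S7332
import Groth.Agent.S1650

set_option autoImplicit false
set_option backward.isDefEq.respectTransparency.types false
universe u
open CategoryTheory CategoryTheory.Limits AlgebraicGeometry
attribute [local instance] HasDerivedCategory.standard
open Resolve

namespace Groth.Agent.S7335

open Groth.Agent.Coherent Groth.Agent.AmpleLib Groth.Agent.InjMod14.Kosz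
open Groth.Agent.PicLib (exists_isGen)
open Groth.Agent.ModPairLib (res res_res)


/-- Let (A, m) be a local normal Nagata domain of dimension two which defines a rational singularity, is
not regular, and has a dualizing module ω_A; let b : X → Spec A be the blowing up in m, with
exceptional ideal sheaf I = O_X(1), and let ω_X be the dualizing module of X normalized relative to
ω_A (the degree-zero cohomology sheaf of b^!(ω_A~), with b^! the right adjoint of Rb_* on D_QCoh;
these existence statements are carried as hypotheses). Then H^1(X, ω_X(n)) = 0 for all n ≥ 0, where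
ω_X(n) = ω_X ⊗ I^{⊗ n}. -/
theorem result (A : Type u) [CommRing A] [IsDomain A] [IsLocalRing A] [IsNoetherianRing A]
    [IsIntegrallyClosed A] (hN : CAlg.IsNagata A) (hdim : ringKrullDim A = 2) (hA : Curv2.IsRationalSing A)
    (hnr : ¬ IsRegularLocalRing A)
    (X : Scheme.{u}) (f : X ⟶ Spec (CommRingCat.of A)) (hb : BlowUp.IsBlowUp f (Curv2.idealSheaf A (IsLocalRing.maximalIdeal A)))
    (ωA : Type u) [AddCommGroup ωA] [Module A ωA] (hω : Dual.IsDualizing A (Dual.inD A ωA))
    [PreservesFiniteLimits (tilde.functor (CommRingCat.of A))]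
    [DCoh.HasRpush f] (h : DCoh.RpushPreservesQCoh f) [DCoh.HasShriek f h]
    (WA : DCoh.DQCoh (Spec (CommRingCat.of A))) (hWA : Nonempty (WA.obj ≅ (DCoh.tildeD (CommRingCat.of A)).obj (Dual.inD A ωA))) (n : ℕ) :
    Subsingleton (Coh.HH X (CohB1.tensorMod (DCoh.dualizingMod f h WA 0)
      (CohB1.tensorPow (ClSub.idealMod (BlowUp.exceptional f (Curv2.idealSheaf A (IsLocalRing.maximalIdeal A)))) n)) 1) := by
  let S := Spec (CommRingCat.of A)
  let I : S.IdealSheafData := Curv2.idealSheaf A (IsLocalRing.maximalIdeal A)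
  let T : S.affineOpens := ⟨⊤, isAffineOpen_top _⟩
  let iso := (Scheme.ΓSpecIso (CommRingCat.of A)).inv.hom
  have hIT : I.ideal T = (IsLocalRing.maximalIdeal A).map iso := by
    show ((IsLocalRing.maximalIdeal A).map iso).map
        ((Spec (CommRingCat.of A)).presheaf.map (homOfLE le_top).op).hom = _
    rw [show (homOfLE (le_top : (⊤ : (Spec (CommRingCat.of A)).Opens) ≤ ⊤)).op = 𝟙 _ from rfl,
      CategoryTheory.Functor.map_id]
    exact Ideal.map_id _
  have hft : BlowUp.IsFiniteTypeIdeal I := fun U => by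
    haveI : IsNoetherianRing Γ(S, U.1) := IsLocallyNoetherian.component_noetherian U
    exact IsNoetherian.noetherian _
  have hne : I ≠ ⊥ := fun h => by
    have h1 : (IsLocalRing.maximalIdeal A).map iso = ⊥ := by rw [← hIT, h]; rfl
    rw [Ideal.map_eq_bot_iff_of_injective
      (ConcreteCategory.bijective_of_isIso (Scheme.ΓSpecIso (CommRingCat.of A)).inv).1] at h1
    have hfld : IsField A := IsLocalRing.isField_iff_maximalIdeal_eq.2 h1
    rw [ringKrullDim_eq_zero_of_isField hfld] at hdim
    exact absurd hdim (by decide)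
  have hη : genericPoint S ∈ I.support.compl := Resolve13.genericPoint_notMem_support I hne
  haveI : IsIntegral X := Resolve13.isIntegral_blowUp hb hη
  haveI : IsProper f := BlowUpLib.isProper_of_isBlowUp hb hft
  haveI : IsLocallyNoetherian X := LocallyOfFiniteType.isLocallyNoetherian f
  haveI : CompactSpace X := QuasiCompact.compactSpace_of_compactSpace f
  haveI : AlgebraicGeometry.IsNoetherian X := {}
  haveI hisoff := SDiv28.isIso_off_center hb
  have hbir : ∃ U : S.Opens, (U : Set S).Nonempty ∧ IsIso (f ∣_ U) := ⟨I.support.compl, ⟨_, hη⟩, hisoff⟩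
  have hXn := Groth.Agent.S1650.result A hN hdim hA X f hb
  let E := BlowUp.exceptional f I
  have hE : BlowUp.IsEffCartierIdeal E := hb.1
  have hL : PicF.IsInvertible (ClSub.idealMod E) := FlatMor12.IdealModGen.isInvertible_idealMod E hE
  obtain ⟨G, hG⟩ := IsNoetherian.noetherian (IsLocalRing.maximalIdeal A)
  let γ : A → Γ(X, ⊤) := fun a => f.appTop (iso a)
  have hγ : ∀ (W : X.affineOpens), E.ideal W =
      Ideal.span ((fun a => res (le_top : W.1 ≤ ⊤) (γ a)) '' (G : Set A)) := fun W => by
    rw [show E.ideal W = (I.ideal T).map (f.appLE ⊤ W.1 le_top).hom from ProjLib.comap_ideal_eq I f T W le_top,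
      hIT, ← hG, Ideal.map_span, Ideal.map_span, Set.image_image]
    congr 1
  have hk : ∀ a : (G : Set A), ∃ k, ival E ⊤ k = γ a.1 := fun a =>
    Resolve13.IdealPow.exists_top E _ fun W => by
      rw [hγ W]
      exact Ideal.subset_span ⟨a.1, a.2, rfl⟩
  choose k hk using hk
  have hgen : Resolve13.GenBy (ClSub.idealMod E) (ι := (G : Set A)) k := fun y => by
    obtain ⟨W₀, hy₀, g₀, hg₀⟩ := exists_isGen hL y
    obtain ⟨W, hW, hyW, hWW₀⟩ := exists_isAffineOpen_mem_and_subset (x := y) (U := W₀) hy₀
    refine ⟨W, hyW, fun V hV g => ?_⟩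
    obtain ⟨r, hr⟩ := (hg₀ V (hV.trans hWW₀)).2 g
    have hmem := ival_mem E ⟨W, hW⟩ (resM _ hWW₀ g₀)
    rw [hγ ⟨W, hW⟩, show (fun a => res (le_top : W ≤ ⊤) (γ a)) '' (G : Set A) =
      Set.range (fun a : (G : Set A) => res (le_top : W ≤ ⊤) (γ a.1)) from Set.image_eq_range _ _] at hmem
    obtain ⟨c, hc⟩ := Ideal.mem_span_range_iff_exists_fun.1 hmem
    refine ⟨fun a => r * res hV (c a), Resolve13.IdealPow.ival_inj E V ?_⟩
    rw [← hr, Resolve13.IdealPow.ival_sum]
    show _ = ival E V (r • resM _ (hV.trans hWW₀) g₀)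
    rw [Resolve13.IdealPow.ival_smul,
      show resM _ (hV.trans hWW₀) g₀ = resM _ hV (resM _ hWW₀ g₀) from (resM_resM _ _ _ _).symm,
      Resolve13.IdealPow.ival_resM E hV, ← hc, map_sum, Finset.mul_sum]
    refine Finset.sum_congr rfl fun a _ => ?_
    rw [Resolve13.IdealPow.ival_smul, Resolve13.IdealPow.ival_resM, hk, map_mul, Groth.Agent.ModPairLib.res_res, mul_assoc]
  let M := DCoh.dualizingMod f h WA 0
  haveI hM : Coh.IsQCoh M := ((DCoh.shriek f h).obj WA).property _
  have hq : ∀ F : X.Modules, Coh.IsQCoh F → Subsingleton (Coh.HH X F 2) := fun F hF =>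
    Resolve13.GR.subsingleton_HH_two_le f hdim hbir F hF 2 le_rfl
  induction n with
  | zero =>
    haveI := Groth.Agent.S7332.result A hN hdim X f hXn hbir ωA hω h WA hWA
    exact FlatMorStrat.subsingleton_HH_of_iso
      (AmpleLib.tensorComm M (Coh.structureModule X) ≪≫ AmpleLib.unitTensorIso M).symm 1 this
  | succ n ih =>
    exact Resolve13.subsingleton_HH_twist 1 hq hgen hL (AmpleLib.isInvertible_tensorPow hL n) M ih

end Groth.Agent.S7335
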