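import Groth.Statements.S7336
import Groth.Agent.Resolve13.TorsionVal
import Groth.Agent.Resolve13.Modification
import Groth.Agent.Coherent.BirationalFibre

set_option autoImplicit false
set_option backward.isDefEq.respectTransparency.types false
universe u
open CategoryTheory CategoryTheory.Limits AlgebraicGeometry
open Resolve

namespace Groth.Agent.S7336

open Groth.Agent.Resolve13 Groth.Agent.Resolve13.Torsion Groth.Agent.Resolve13.DivisorPts TopologicalSpace


/-- Let (A, m) be a local Noetherian normal domain of dimension two and f : X → Spec A a proper morphism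
from an integral scheme which is an isomorphism over some nonempty open and is not an isomorphism
(so that every irreducible component of the closed fibre is a curve). Then there is a nonzero a ∈ m
such that for every irreducible component C of the closed fibre, with generic point ξ, there are a
closed point x ∈ C lying on no other component and a factorization a = g · q in O_{X,x} with g in
the maximal ideal of O_{X,x} and g not vanishing identically on C near x, i.e. the image of g in
O_{X,ξ} is a unit. -/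
theorem result (A : Type u) [CommRing A] [IsDomain A] [IsLocalRing A] [IsNoetherianRing A]
    [IsIntegrallyClosed A] (hdim : ringKrullDim A = 2)
    (X : Scheme.{u}) (f : X ⟶ Spec (CommRingCat.of A)) [IsProper f] [IsIntegral X]
    (hbir : ∃ U : (Spec (CommRingCat.of A)).Opens, (U : Set (Spec (CommRingCat.of A))).Nonempty ∧ IsIso (f ∣_ U)) (hf : ¬ IsIso f) :
    ∃ a : A, a ≠ 0 ∧ a ∈ IsLocalRing.maximalIdeal A ∧
      ∀ C ∈ irreducibleComponents ↥(f.base ⁻¹' {IsLocalRing.closedPoint A}),
        ∃ (x ξ : ↥(f.base ⁻¹' {IsLocalRing.closedPoint A})) (hξx : (ξ : X) ⤳ (x : X)),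
          x ∈ C ∧ IsGenericPoint ξ C ∧ IsClosed ({(x : X)} : Set X) ∧
          (∀ C' ∈ irreducibleComponents ↥(f.base ⁻¹' {IsLocalRing.closedPoint A}), C' ≠ C → x ∉ C') ∧
          ∃ g q : X.presheaf.stalk (x : X), g ∈ IsLocalRing.maximalIdeal (X.presheaf.stalk (x : X)) ∧
            (X.presheaf.germ ⊤ (x : X) trivial).hom (Coh.toGlobal f a) = g * q ∧
            IsUnit ((X.presheaf.stalkSpecializes hξx).hom g) := by
  classical
  let m₀ := IsLocalRing.closedPoint A
  let F : Set X := f.base ⁻¹' {m₀}
  haveI : IsLocallyNoetherian X := LocallyOfFiniteType.isLocallyNoetherian f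
  haveI : CompactSpace X := QuasiCompact.compactSpace_of_compactSpace f
  haveI : AlgebraicGeometry.IsNoetherian X := {}
  have hFc : IsClosed F := (PrimeSpectrum.isClosed_singleton_iff_isMaximal m₀).2
    (IsLocalRing.maximalIdeal.isMaximal A) |>.preimage f.continuous
  haveI : LocallyOfFiniteType (f.fiberToSpecResidueField m₀) :=
    (inferInstance : LocallyOfFiniteType (Limits.pullback.snd f ((Spec (CommRingCat.of A)).fromSpecResidueField m₀)))
  haveI : JacobsonSpace ↥(f.fiber m₀) := LocallyOfFiniteType.jacobsonSpace (f.fiberToSpecResidueField m₀)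
  haveI hjac : JacobsonSpace ↥F := JacobsonSpace.of_isClosedEmbedding (f.fiberHomeo m₀).symm.isClosedEmbedding
  haveI : NoetherianSpace ↥F := Topology.IsInducing.subtypeVal.noetherianSpace
  haveI : QuasiSober ↥F := hFc.isClosedEmbedding_subtypeVal.quasiSober
  have hfin : (irreducibleComponents ↥F).Finite := NoetherianSpace.finite_irreducibleComponents
  obtain ⟨U, hU, hUi⟩ := id hbir
  obtain ⟨hη, hb⟩ := Coherent.birational_of_isIso_morphismRestrict f U hU
  have hAn : Pi1.IsNormalScheme (Spec (CommRingCat.of A)) := fun y => by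
    refine ⟨inferInstance, ?_⟩
    exact isIntegrallyClosed_of_isLocalization ((Spec.structureSheaf A).presheaf.stalk y) y.asIdeal.primeCompl
      y.asIdeal.primeCompl_le_nonZeroDivisors
  have hbIso := (ConcreteCategory.isIso_iff_bijective _).2 hb
  -- no component is a point
  have hnt : ∀ C ∈ irreducibleComponents ↥F, ∀ ξ : ↥F, IsGenericPoint ξ C → C ≠ {ξ} := by
    intro C hC ξ hξ hsing
    haveI hconn : ConnectedSpace ↥(f.fiber m₀) :=
      Coherent.connectedSpace_fiber_of_birational f hAn hη hbIso m₀
    haveI : ConnectedSpace ↥F := (f.fiberHomeo m₀).surjective.connectedSpace (f.fiberHomeo m₀).continuous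
    have hcl : IsClosed ({ξ} : Set ↥F) := hsing ▸ isClosed_of_mem_irreducibleComponents C hC
    have hop : IsOpen ({ξ} : Set ↥F) := by
      rw [← isClosed_compl_iff]
      have : ({ξ} : Set ↥F)ᶜ = ⋃ D ∈ irreducibleComponents ↥F \ {C}, D := by
        ext z
        simp only [Set.mem_compl_iff, Set.mem_singleton_iff, Set.mem_iUnion, Set.mem_diff, exists_prop]
        constructor
        · intro hz
          have hD := irreducibleComponent_mem_irreducibleComponents z
          have hzD : z ∈ irreducibleComponent z := mem_irreducibleComponent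
          generalize irreducibleComponent z = D at hD hzD
          exact ⟨D, ⟨hD, fun e => hz (by rwa [e, hsing] at hzD)⟩, hzD⟩
        · rintro ⟨D, ⟨hD, hDC⟩, hzD⟩ rfl
          exact hDC ((hC.2 hD.1 (hsing ▸ Set.singleton_subset_iff.2 hzD)).antisymm (hsing ▸ Set.singleton_subset_iff.2 hzD))
      rw [this]
      exact (hfin.subset Set.sdiff_subset).isClosed_biUnion fun D hD => isClosed_of_mem_irreducibleComponents D hD.1
    have huniv : ({ξ} : Set ↥F) = Set.univ := IsClopen.eq_univ ⟨hcl, hop⟩ (Set.singleton_nonempty ξ)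
    have hfinF : (f.base ⁻¹' {m₀}).Finite := by
      have : (Set.univ : Set ↥F).Finite := huniv ▸ Set.finite_singleton ξ
      exact Set.finite_coe_iff.1 (Set.finite_univ_iff.1 this)
    obtain ⟨W, hmW, hW⟩ := exists_isFinite_morphismRestrict_of_finite_preimage_singleton f m₀ hfinF
    have hWtop : W = ⊤ := Opens.ext (Set.eq_univ_of_forall fun p => (IsLocalRing.specializes_closedPoint p).mem_open W.2 hmW)
    subst hWtop
    haveI : IsFinite f :=
      IsZariskiLocalAtTarget.of_iSup_eq_top (P := @IsFinite) (fun _ : Unit => (⊤ : (Spec (CommRingCat.of A)).Opens))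
        (by simp) fun _ => hW
    haveI : IsAffine X := isAffine_of_isAffineHom f
    haveI : IsIso f.appTop := Coherent.isIso_app_of_birational f hAn hη hbIso ⊤
    refine hf ?_
    haveI : IsIso (X.isoSpec.hom ≫ Spec.map f.appTop) := inferInstance
    rw [Scheme.isoSpec_hom_naturality] at this
    exact IsIso.of_isIso_comp_right f (Spec (CommRingCat.of A)).isoSpec.hom
  -- the data at each component
  have key : ∀ C ∈ irreducibleComponents ↥F, ∃ u : A, u ≠ 0 ∧ u ∈ IsLocalRing.maximalIdeal A ∧
      ∃ (x ξ : ↥F) (hξx : (ξ : X) ⤳ (x : X)), x ∈ C ∧ IsGenericPoint ξ C ∧ IsClosed ({(x : X)} : Set X) ∧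
        (∀ C' ∈ irreducibleComponents ↥F, C' ≠ C → x ∉ C') ∧
        ∃ g q : X.presheaf.stalk (x : X), g ∈ IsLocalRing.maximalIdeal (X.presheaf.stalk (x : X)) ∧
          γ f (x : X) u = g * q ∧ IsUnit (sp hξx g) := by
    intro C hC
    let O : Set ↥F := (⋃ D ∈ irreducibleComponents ↥F \ {C}, D)ᶜ
    have hO : IsOpen O := ((hfin.subset Set.sdiff_subset).isClosed_biUnion
      fun D hD => isClosed_of_mem_irreducibleComponents D hD.1).isOpen_compl
    obtain ⟨ξ, hξ⟩ := QuasiSober.sober hC.1 (isClosed_of_mem_irreducibleComponents C hC)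
    have hξO : ξ ∈ O := by
      simp only [O, Set.mem_compl_iff, Set.mem_iUnion, exists_prop, not_exists, not_and]
      intro D hD hξD
      have hle : C ⊆ D := by
        rw [← hξ.def]
        exact (isClosed_of_mem_irreducibleComponents D hD.1).closure_subset_iff.2 (Set.singleton_subset_iff.2 hξD)
      exact hD.2 ((hC.2 hD.1.1 hle).antisymm hle)
    have hOC : (O ∩ C).Nonempty := ⟨ξ, hξO, hξ.mem⟩
    obtain ⟨x, ⟨hxO, hxC⟩, hxcl⟩ := nonempty_inter_closedPoints hOC
      (hO.isLocallyClosed.inter (isClosed_of_mem_irreducibleComponents C hC).isLocallyClosed)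
    have hne : x ≠ ξ := fun e => by
      subst e
      exact hnt C hC x hξ (hξ.def.symm.trans (IsClosed.closure_eq hxcl))
    have hξx : (ξ : X) ⤳ (x : X) := (hξ.specializes hxC).map continuous_subtype_val
    have hxX : IsClosed ({(x : X)} : Set X) := by
      have := hFc.isClosedEmbedding_subtypeVal.isClosedMap _ hxcl
      rwa [Set.image_singleton] at this
    -- a function vanishing at `x` and not at `ξ`
    obtain ⟨W, hW, hxW, -⟩ := exists_isAffineOpen_mem_and_subset (x := (x : X)) (U := (⊤ : X.Opens)) trivial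
    let V : X.Opens := (⟨{(x : X)}ᶜ, hxX.isOpen_compl⟩ : X.Opens) ⊓ W
    have hξV : (ξ : X) ∈ V :=
      ⟨fun e => hne (Subtype.ext (Set.mem_singleton_iff.1 e).symm), hξx.mem_open W.2 hxW⟩
    obtain ⟨t, ht, hξt⟩ := hW.exists_basicOpen_le (V := V) ⟨(ξ : X), hξV⟩ (hξx.mem_open W.2 hxW)
    let g : X.presheaf.stalk (x : X) := (X.presheaf.germ W _ hxW).hom t
    have hgm : g ∈ IsLocalRing.maximalIdeal (X.presheaf.stalk (x : X)) := (IsLocalRing.mem_maximalIdeal g).2 fun hu =>
      (ht ((Scheme.mem_basicOpen X t _ hxW).2 hu)).1 rfl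
    have hgξ : IsUnit (sp hξx g) := by
      have e := ConcreteCategory.congr_hom (TopCat.Presheaf.germ_stalkSpecializes X.presheaf (U := W) hxW hξx) t
      rw [show sp hξx g = (X.presheaf.germ W (ξ : X) (hξx.mem_open W.2 hxW)).hom t from e]
      exact (Scheme.mem_basicOpen X t _ _).1 hξt
    -- its numerator
    have hbot : (⊥ : Ideal A) ≠ IsLocalRing.maximalIdeal A := fun h => by
      rw [ringKrullDim_eq_zero_of_isField (IsLocalRing.isField_iff_maximalIdeal_eq.2 h.symm)] at hdim
      exact absurd hdim (by decide)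
    obtain ⟨η, hηp, ⟨-, hfrac⟩, huniq⟩ := exists_strict f hbir hdim ⟨⊥, Ideal.isPrime_bot⟩ hbot
    have hηg : η = genericPoint X := (huniq _ (hη.trans (genericPoint_eq_bot_of_affine (CommRingCat.of A)))).symm
    subst hηg
    have hgen := genericPoint_specializes (x : X)
    obtain ⟨r, s, hs, hrs⟩ := hfrac (sp hgen g)
    have hinj : Function.Injective (sp hgen) := Groth.Agent.Resolve13.DivisorPts.sp_injective hgen
    have heq : g * γ f (x : X) s = γ f (x : X) r := hinj (by rw [map_mul, sp_γ, sp_γ, hrs])
    refine ⟨r, fun hr => ?_, ?_, x, ξ, hξx, hxC, hξ, hxX, fun C' hC' hne' hxC' => hxO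
      (Set.mem_biUnion (x := C') ⟨hC', hne'⟩ hxC'), g, γ f (x : X) s, hgm, heq.symm, hgξ⟩
    · subst hr
      rw [map_zero] at heq
      rcases mul_eq_zero.1 heq with h0 | h0
      · rw [h0, map_zero] at hgξ
        exact not_isUnit_zero hgξ
      · exact hs (Ideal.mem_bot.2 (γ_injective f hbir _ (h0.trans (map_zero _).symm)))
    · have : ¬ IsUnit (γ f (x : X) r) := fun hu =>
        (IsLocalRing.mem_maximalIdeal g).1 hgm (isUnit_of_mul_isUnit_left (heq.symm ▸ hu))
      rw [isUnit_γ, not_not, show f (x : X) = m₀ from x.2] at this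
      exact this
  choose u hu0 hum hu using key
  haveI := hfin.to_subtype
  haveI : Fintype (irreducibleComponents ↥F) := Fintype.ofFinite _
  have hneC : Nonempty (irreducibleComponents ↥F) := by
    haveI hconn : ConnectedSpace ↥(f.fiber m₀) :=
      Coherent.connectedSpace_fiber_of_birational f hAn hη hbIso m₀
    obtain ⟨z⟩ := hconn.toNonempty
    exact ⟨⟨_, irreducibleComponent_mem_irreducibleComponents (f.fiberHomeo m₀ z)⟩⟩
  refine ⟨∏ C : irreducibleComponents ↥F, u C.1 C.2, Finset.prod_ne_zero_iff.2 fun C _ => hu0 _ _,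
    Ideal.prod_mem _ (Finset.mem_univ hneC.some) (hum _ _), fun C hC => ?_⟩
  obtain ⟨x, ξ, hξx, hxC, hξ, hcl, hoth, g, q, hg, hgq, hgu⟩ := hu C hC
  obtain ⟨w, hw⟩ := Finset.dvd_prod_of_mem (fun C : irreducibleComponents ↥F => u C.1 C.2) (Finset.mem_univ ⟨C, hC⟩)
  refine ⟨x, ξ, hξx, hxC, hξ, hcl, hoth, g, q * γ f (x : X) w, hg, ?_, hgu⟩
  show γ f (x : X) _ = _
  rw [hw, map_mul, hgq, mul_assoc]

end Groth.Agent.S7336
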