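import Groth.Statements.S7339
import Groth.Agent.Resolve13.ExcDegree

set_option autoImplicit false
universe u
open CategoryTheory CategoryTheory.Limits AlgebraicGeometry
open Resolve

open Groth.Agent.PicLib Groth.Agent.AmpleLib Groth.Agent.Models7

namespace Groth.Agent.S7339

/-- Let X be a Noetherian scheme, ι : E → X a closed immersion which is an exceptional curve of the
first kind, with ideal sheaf I and M = O_X(E) an inverse of I for the tensor product, and L an
invertible O_X-module whose pullback to E ≅ P^1_k (for some field k and isomorphism e : P^1_k ≅ E)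
is isomorphic to O(n). If H^1(X, L) = 0 and n ≥ 0, then H^1(X, L(iE)) = 0 for 0 ≤ i ≤ n + 1, where
L(iE) = L ⊗ M^{⊗ i}. (The published statement also asserts, for n ≤ 0, that H^1(X, L) → H^1(X, L(E))
is injective; this row states only the vanishing for n ≥ 0.) -/
theorem result {E X : Scheme.{u}} [IsNoetherian X] (ι : E ⟶ X) [IsClosedImmersion ι]
    (hE : Models.IsExcCurve ι) (M : X.Modules) (hM : ClSub.IsInverseOf M (ClSub.idealMod ι.ker))
    (L : X.Modules) (hL : PicF.IsInvertible L)
    (k : Type u) [Field k] (e : CohB1.ProjSpace 1 k ≅ E) (n : ℕ)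
    (hn : Nonempty ((Scheme.Modules.pullback (e.hom ≫ ι)).obj L ≅ Twist.twistProjSpace 1 k (n : ℤ)))
    (h1 : Subsingleton (Coh.HH X L 1)) (i : ℕ) (hi : i ≤ n + 1) :
    Subsingleton (Coh.HH X (CohB1.tensorMod L (CohB1.tensorPow M i)) 1) := by
  let I := ClSub.idealMod ι.ker
  let j := ι.ker.subschemeι
  have hI : PicF.IsInvertible I := Groth.Agent.FlatMor12.IdealModGen.isInvertible_idealMod ι.ker hE.1
  have hMi : PicF.IsInvertible M := by
    obtain ⟨φ⟩ := hM
    exact PicM.isInvertible_of_tensor hI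
      (glocus_isInvertible_of_iso (φ.symm ≪≫ tensorComm _ _) isInvertible_structureModule)
  let e₁ : CohB1.ProjSpace 1 k ≅ ι.ker.subscheme := e ≪≫ asIso ι.toImage
  have he : e₁.hom ≫ j = e.hom ≫ ι := by
    show (e.hom ≫ ι.toImage) ≫ ι.imageι = _
    rw [Category.assoc, ι.toImage_imageι]
  have tr : ∀ {N : X.Modules} {a : ℤ}, P1Deg.HasDeg e ((Scheme.Modules.pullback ι).obj N) a →
      P1Deg.HasDeg e₁ ((Scheme.Modules.pullback j).obj N) a := by
    rintro N a ⟨ψ⟩
    exact ⟨(Scheme.Modules.pullbackComp e₁.hom j).app _ ≪≫ (Scheme.Modules.pullbackCongr he).app _ ≪≫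
      ((Scheme.Modules.pullbackComp e.hom ι).app _).symm ≪≫ ψ⟩
  have dI : P1Deg.HasDeg e₁ ((Scheme.Modules.pullback j).obj I) 1 := tr (Groth.Agent.Resolve13.hasDeg_conormal hE e)
  have dL : P1Deg.HasDeg e₁ ((Scheme.Modules.pullback j).obj L) (n : ℤ) := by
    obtain ⟨ψ⟩ := hn
    exact tr ⟨(Scheme.Modules.pullbackComp e.hom ι).app _ ≪≫ ψ⟩
  have dM : P1Deg.HasDeg e₁ ((Scheme.Modules.pullback j).obj M) (-1) := by
    obtain ⟨φ⟩ := hM
    obtain ⟨t⟩ := exists_pullTensorIso j hMi hI
    obtain ⟨t₀⟩ := exists_pullStructureIso (X := X) j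
    exact dI.inverse e₁ (PicLoc.isInvertible_pullback j hMi) (PicLoc.isInvertible_pullback j hI)
      (t.symm ≪≫ (Scheme.Modules.pullback j).mapIso φ ≪≫ t₀)
  induction i with
  | zero => exact Groth.Agent.FlatMorStrat.subsingleton_HH_of_iso ((unitTensorIso L).symm ≪≫ tensorComm _ _) 1 h1
  | succ i ih =>
    have hP := isInvertible_tensorPow hMi (i + 1)
    have hT := isInvertible_tensorMod hL hP
    refine Groth.Agent.Resolve13.subsingleton_H1_of_restrict ι.ker hT ?_ ?_
    · obtain ⟨φ⟩ : Nonempty (CohB1.tensorMod L (CohB1.tensorPow M i) ≅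
          CohB1.tensorMod I (CohB1.tensorMod L (CohB1.tensorPow M (i + 1)))) := by
        have hMI : PicM.of hMi * PicM.of hI = 1 := by
          rw [PicM.of_mul, PicM.of_eq_one_iff]; exact hM
        rw [← PicM.of_eq_iff (isInvertible_tensorMod hL (isInvertible_tensorPow hMi i)) (isInvertible_tensorMod hI hT),
          ← PicM.of_mul hL (isInvertible_tensorPow hMi i), ← PicM.of_mul hI hT, ← PicM.of_mul hL hP,
          PicM.of_tensorPow hMi, PicM.of_tensorPow hMi, pow_succ, ← mul_one (PicM.of hL * PicM.of hMi ^ i), ← hMI]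
        ac_rfl
      exact Groth.Agent.FlatMorStrat.subsingleton_HH_of_iso φ 1 (ih (by omega))
    · obtain ⟨t⟩ := exists_pullTensorIso j hL hP
      have dP : P1Deg.HasDeg e₁ ((Scheme.Modules.pullback j).obj (CohB1.tensorPow M (i + 1))) (((i + 1 : ℕ) : ℤ) * -1) := by
        obtain ⟨s⟩ := (PicM.of_eq_iff (PicLoc.isInvertible_pullback j hP)
          (isInvertible_tensorPow (PicLoc.isInvertible_pullback j hMi) (i + 1))).1 (by
            rw [← PicM.pull_of j hP, PicM.of_tensorPow hMi, PicM.of_tensorPow (PicLoc.isInvertible_pullback j hMi), map_pow, PicM.pull_of])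
        exact (dM.pow e₁ (PicLoc.isInvertible_pullback j hMi) (i + 1)).of_iso e₁ s.symm
      exact ((dL.tensor e₁ (PicLoc.isInvertible_pullback j hL) (PicLoc.isInvertible_pullback j hP) dP).of_iso e₁
        t.symm).subsingleton_H1 e₁ (PicLoc.isInvertible_pullback j hT) (by omega)

end Groth.Agent.S7339
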