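import Groth.Statements.S7340
import Mathlib
import Groth.Prelude

set_option linter.all false

set_option autoImplicit false
universe u
open Polynomial
open Resolve

open Polynomial

namespace Groth.Agent.S7340

namespace S7340aux

theorem exists_pow_dadd (p : ℕ) [hp : Fact p.Prime] {S N : Type u} [CommRing S] [CharP S p] [AddCommGroup N] [Module S N]
    (d : Derivation ℤ S N) (u v : S) :
    ∃ z : S, (u + v) ^ (p - 1) • d (u + v) = u ^ (p - 1) • d u + v ^ (p - 1) • d v + d z := by
  obtain ⟨Q, hQ⟩ : ∃ Q : MvPolynomial (Fin 2) ℤ,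
      (MvPolynomial.X 0 + MvPolynomial.X 1) ^ p = MvPolynomial.X 0 ^ p + MvPolynomial.X 1 ^ p + (p : MvPolynomial (Fin 2) ℤ) * Q := by
    obtain ⟨r, hr⟩ := exists_add_pow_prime_eq hp.out (MvPolynomial.X 0 : MvPolynomial (Fin 2) ℤ) (MvPolynomial.X 1)
    exact ⟨MvPolynomial.X 0 * MvPolynomial.X 1 * r, by rw [hr]; ring⟩
  have hder : ∀ i : Fin 2, MvPolynomial.pderiv i Q = (MvPolynomial.X 0 + MvPolynomial.X 1) ^ (p - 1) -
      (MvPolynomial.X i) ^ (p - 1) := by
    intro i
    have h1 := congrArg (MvPolynomial.pderiv i) hQ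
    simp only [map_add, Derivation.leibniz_pow, Derivation.leibniz, MvPolynomial.pderiv_X, Derivation.map_natCast,
      smul_zero, add_zero, smul_eq_mul, nsmul_eq_mul] at h1
    have hp0 : (p : MvPolynomial (Fin 2) ℤ) ≠ 0 := Nat.cast_ne_zero.mpr hp.out.ne_zero
    refine mul_left_cancel₀ hp0 ?_
    fin_cases i <;> simp at h1 <;> simp only [Fin.zero_eta, Fin.mk_one] <;> linear_combination -h1
  refine ⟨MvPolynomial.aeval ![u, v] Q, ?_⟩
  have hchain : d (MvPolynomial.aeval ![u, v] Q) =
      MvPolynomial.aeval ![u, v] (MvPolynomial.pderiv 0 Q) • d u + MvPolynomial.aeval ![u, v] (MvPolynomial.pderiv 1 Q) • d v := by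
    clear hQ hder
    induction Q using MvPolynomial.induction_on with
    | C a => simp
    | add x y hx hy => simp only [map_add, hx, hy, add_smul]; abel
    | mul_X x i hx =>
      fin_cases i <;> simp [Derivation.leibniz, hx, MvPolynomial.pderiv_X, add_smul, mul_smul, smul_add, smul_comm (u : S), smul_comm (v : S)] <;> abel
  rw [hchain, hder, hder]
  simp only [map_sub, map_pow, map_add, MvPolynomial.aeval_X, Matrix.cons_val_zero, Matrix.cons_val_one]
  module

end S7340aux

/-- Let p be a prime number and R an F_p-algebra, a, b ∈ R, S_a = R[x]/(x^p - a) and S_b = R[y]/(y^p -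
b). The trace Tr_x : Ω_{S_a/R} → Ω_R is the R-linear map with x^i dx ↦ 0 for 0 ≤ i ≤ p - 2 and
x^{p-1} dx ↦ da (these determine it, Ω_{S_a/R} being free over R on the x^i dx), and similarly Tr_y.
Then for every R-algebra homomorphism φ : S_a → S_b one has Tr_x = Tr_y ∘ φ_*: for all s, t ∈ S_a,
Tr_x(s dt) = Tr_y(φ(s) dφ(t)). Here Ω_R is the module of absolute differentials Ω_{R/Z}. -/
theorem result (p : ℕ) [Fact p.Prime] (R : Type u) [CommRing R] [CharP R p] (a b : R)
    (φ : AdjoinRoot (X ^ p - C a : R[X]) →ₐ[R] AdjoinRoot (X ^ p - C b : R[X]))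
    (Tx : Ω[AdjoinRoot (X ^ p - C a : R[X])⁄R] →ₗ[R] Ω[R⁄ℤ])
    (Ty : Ω[AdjoinRoot (X ^ p - C b : R[X])⁄R] →ₗ[R] Ω[R⁄ℤ])
    (hTx : ∀ i : ℕ, i + 2 ≤ p →
      Tx (AdjoinRoot.root (X ^ p - C a) ^ i • KaehlerDifferential.D R _ (AdjoinRoot.root (X ^ p - C a))) = 0)
    (hTx' : Tx (AdjoinRoot.root (X ^ p - C a) ^ (p - 1) • KaehlerDifferential.D R _ (AdjoinRoot.root (X ^ p - C a))) =
      KaehlerDifferential.D ℤ R a)
    (hTy : ∀ i : ℕ, i + 2 ≤ p →
      Ty (AdjoinRoot.root (X ^ p - C b) ^ i • KaehlerDifferential.D R _ (AdjoinRoot.root (X ^ p - C b))) = 0)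
    (hTy' : Ty (AdjoinRoot.root (X ^ p - C b) ^ (p - 1) • KaehlerDifferential.D R _ (AdjoinRoot.root (X ^ p - C b))) =
      KaehlerDifferential.D ℤ R b)
    (s t : AdjoinRoot (X ^ p - C a : R[X])) :
    Tx (s • KaehlerDifferential.D R _ t) = Ty (φ s • KaehlerDifferential.D R _ (φ t)) := by
  classical
  have hp := (Fact.out : p.Prime)
  let Sb := AdjoinRoot (X ^ p - C b : R[X])
  let Sa := AdjoinRoot (X ^ p - C a : R[X])
  let y : Sb := AdjoinRoot.root _
  let x : Sa := AdjoinRoot.root _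
  let w : Sb := φ x
  have hya : y ^ p = algebraMap R Sb b := by
    have := AdjoinRoot.aeval_eq (f := (X ^ p - C b : R[X])) (X ^ p - C b)
    rw [AdjoinRoot.mk_self] at this
    simpa [sub_eq_zero, AdjoinRoot.algebraMap_eq, Sa, Sb, x, y] using this
  have hxa : x ^ p = algebraMap R Sa a := by
    have := AdjoinRoot.aeval_eq (f := (X ^ p - C a : R[X])) (X ^ p - C a)
    rw [AdjoinRoot.mk_self] at this
    simpa [sub_eq_zero, AdjoinRoot.algebraMap_eq, Sa, Sb, x, y] using this
  have hbm : (X ^ p - C b : R[X]).Monic := monic_X_pow_sub_C b hp.ne_zero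
  have ham : (X ^ p - C a : R[X]).Monic := monic_X_pow_sub_C a hp.ne_zero
  haveI : Nontrivial R := CharP.nontrivial_of_char_ne_one (R := R) hp.ne_one
  have hbdeg : (X ^ p - C b : R[X]).natDegree = p := natDegree_X_pow_sub_C
  have hadeg : (X ^ p - C a : R[X]).natDegree = p := natDegree_X_pow_sub_C
  have hbinj : Function.Injective (algebraMap R Sb) := by
    haveI : Module.Free R Sb := Module.Free.of_basis (AdjoinRoot.powerBasis' hbm).basis
    haveI : Nontrivial Sb := by
      haveI : Nonempty (Fin (AdjoinRoot.powerBasis' hbm).dim) := ⟨⟨0, by rw [AdjoinRoot.powerBasis'_dim, hbdeg]; exact hp.pos⟩⟩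
      exact (AdjoinRoot.powerBasis' hbm).basis.repr.toEquiv.nontrivial
    exact FaithfulSMul.algebraMap_injective R Sb
  haveI : CharP Sb p := charP_of_injective_algebraMap hbinj p
  have hspan : ∀ (M : Type u) [AddCommGroup M] [Module R M] (f g : Sa →ₗ[R] M),
      (∀ i < p, f (x ^ i) = g (x ^ i)) → f = g := by
    intro M _ _ f g h
    refine (AdjoinRoot.powerBasis' ham).basis.ext fun i => ?_
    rw [PowerBasis.coe_basis, AdjoinRoot.powerBasis'_gen]
    exact h i (lt_of_lt_of_eq i.2 ((AdjoinRoot.powerBasis'_dim ham).trans hadeg))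
  -- exact forms die under `Ty`
  have hex : ∀ z : Sb, Ty (KaehlerDifferential.D R Sb z) = 0 := by
    intro z
    have : Ty.comp (KaehlerDifferential.D R Sb : Sb →ₗ[R] _) = 0 := by
      refine (AdjoinRoot.powerBasis' hbm).basis.ext fun i => ?_
      rw [PowerBasis.coe_basis, AdjoinRoot.powerBasis'_gen, LinearMap.comp_apply, LinearMap.zero_apply]
      change Ty (KaehlerDifferential.D R Sb (y ^ (i : ℕ))) = 0
      rw [Derivation.leibniz_pow, map_nsmul]
      rcases Nat.eq_zero_or_pos (i : ℕ) with h0 | h0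
      · rw [h0, zero_smul]
      · rw [hTy ((i : ℕ) - 1) (by have := lt_of_lt_of_eq i.2 ((AdjoinRoot.powerBasis'_dim hbm).trans hbdeg); omega), smul_zero]
    exact LinearMap.congr_fun this z
  -- `p`-th powers
  have hpow : ∀ z : Sb, ∃ r : R, z ^ p = algebraMap R Sb r ∧
      Ty (z ^ (p - 1) • KaehlerDifferential.D R Sb z) = KaehlerDifferential.D ℤ R r := by
    intro z
    have hz : z ∈ Submodule.span R (Set.range fun i : Fin (AdjoinRoot.powerBasis' hbm).dim => y ^ (i : ℕ)) := by
      have := (AdjoinRoot.powerBasis' hbm).basis.mem_span z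
      rwa [PowerBasis.coe_basis, AdjoinRoot.powerBasis'_gen] at this
    have hrp : ∀ c r : R, KaehlerDifferential.D ℤ R (c ^ p * r) = c ^ p • KaehlerDifferential.D ℤ R r := by
      intro c r
      rw [Derivation.leibniz, Derivation.leibniz_pow, ← Nat.cast_smul_eq_nsmul R p, CharP.cast_eq_zero, zero_smul,
        smul_zero, add_zero]
    induction hz using Submodule.span_induction with
    | zero => exact ⟨0, by simp [hp.ne_zero]⟩
    | mem z hz =>
      obtain ⟨i, rfl⟩ := hz
      refine ⟨b ^ (i : ℕ), by rw [← pow_mul, mul_comm, pow_mul, hya, map_pow], ?_⟩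
      rcases Nat.eq_zero_or_pos (i : ℕ) with h0 | h0
      · simp [h0]
      · rw [Derivation.leibniz_pow, Derivation.leibniz_pow, smul_comm _ (i : ℕ), map_nsmul, smul_smul, ← pow_mul, ← pow_add]
        congr 1
        have : (i : ℕ) * (p - 1) + ((i : ℕ) - 1) = p * ((i : ℕ) - 1) + (p - 1) := by
          obtain ⟨j, hj⟩ := Nat.exists_eq_add_of_le h0
          obtain ⟨q, hq⟩ := Nat.exists_eq_add_of_le hp.one_le
          rw [hj, hq]; simp [Nat.mul_comm, Nat.mul_add, Nat.add_mul]; ring
        rw [this, pow_add, pow_mul, hya, ← map_pow, ← smul_smul, algebraMap_smul, map_smul, hTy']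
    | add u v _ _ hu hv =>
      obtain ⟨r, hr, hr'⟩ := hu
      obtain ⟨r', hr2, hr2'⟩ := hv
      refine ⟨r + r', by rw [add_pow_char, hr, hr2, map_add], ?_⟩
      obtain ⟨e, he⟩ := S7340aux.exists_pow_dadd p ((KaehlerDifferential.D R Sb).restrictScalars ℤ) u v
      change (u + v) ^ (p - 1) • (KaehlerDifferential.D R Sb) (u + v) = u ^ (p - 1) • (KaehlerDifferential.D R Sb) u + v ^ (p - 1) • (KaehlerDifferential.D R Sb) v + (KaehlerDifferential.D R Sb) e at he
      rw [he, map_add, map_add, hr', hr2', hex, add_zero, map_add]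
    | smul c u _ hu =>
      obtain ⟨r, hr, hr'⟩ := hu
      refine ⟨c ^ p * r, by rw [_root_.smul_pow, hr, Algebra.smul_def, map_mul], ?_⟩
      rw [_root_.smul_pow, Derivation.map_smul, smul_assoc, smul_comm (u ^ (p - 1)) c, smul_smul, ← pow_succ,
        Nat.sub_add_cancel hp.one_le, map_smul, hr', hrp]
  have key : ∀ i < p, Tx (x ^ i • KaehlerDifferential.D R Sa x) = Ty (w ^ i • KaehlerDifferential.D R Sb w) := by
    intro i hi
    by_cases h : i + 1 = p
    · obtain ⟨r, hr, hr'⟩ := hpow w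
      have : r = a := hbinj (by rw [← hr, show w ^ p = φ (x ^ p) from (map_pow φ x p).symm, hxa, φ.commutes])
      rw [show i = p - 1 by omega, hTx', hr', this]
    · rw [hTx i (by omega)]
      have h1 := hex (w ^ (i + 1))
      rw [Derivation.leibniz_pow, Nat.add_sub_cancel, map_nsmul, ← Nat.cast_smul_eq_nsmul R] at h1
      have hu : IsUnit ((i + 1 : ℕ) : R) := by
        rw [← map_natCast (ZMod.castHom (dvd_refl p) R)]
        refine (isUnit_iff_ne_zero.mpr ?_).map _
        rw [ne_eq, ZMod.natCast_eq_zero_iff]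
        exact fun hd => by have := Nat.le_of_dvd (Nat.succ_pos i) hd; omega
      exact (hu.smul_eq_zero.mp h1).symm
  let Dw := KaehlerDifferential.D R Sb w
  let L1 : Sa →ₗ[R] Ω[R⁄ℤ] := Tx.comp ((LinearMap.toSpanSingleton Sa _ (KaehlerDifferential.D R Sa x)).restrictScalars R)
  let L2 : Sa →ₗ[R] Ω[R⁄ℤ] := (Ty.comp ((LinearMap.toSpanSingleton Sb _ Dw).restrictScalars R)).comp φ.toLinearMap
  have hL : ∀ u, L1 u = L2 u := fun u => LinearMap.congr_fun (hspan _ L1 L2 fun i hi => by
    simp only [L1, L2, LinearMap.comp_apply, LinearMap.restrictScalars_apply, LinearMap.toSpanSingleton_apply, AlgHom.toLinearMap_apply, map_pow]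
    exact key i hi) u
  obtain ⟨P, rfl⟩ := AdjoinRoot.mk_surjective t
  rw [← AdjoinRoot.aeval_eq, ← Polynomial.aeval_algHom_apply φ, Derivation.map_aeval, Derivation.map_aeval, smul_smul, smul_smul,
    Polynomial.aeval_algHom_apply φ, ← map_mul]
  exact hL _

end Groth.Agent.S7340
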