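import Groth.Statements.S7341
import Groth.Agent.NumTypeLib.Sub

set_option autoImplicit false
open Finset
open Models Models.NumericalType

namespace Groth.Agent.S7341

open Groth.Agent.NumTypeLib in

/-- Classification of proper subgraphs which are chains of three vertices: let T be a numerical type on
n > 3 indices and i, j, k distinct (-2)-indices with a_ij > 0 and a_jk > 0. Then a_ik = 0 and, up to
reversing the order of i, j, k, one of the following holds for some integer w: (A3) w_i = w_j = w_k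
= w, a_ij = a_jk = w, with 2 m_i ≥ m_j, 2 m_j ≥ m_i + m_k, 2 m_k ≥ m_j; (C3) w_i = w_j = w, w_k =
2w, a_ij = w, a_jk = 2w, with 2 m_i ≥ m_j, 2 m_j ≥ m_i + 2 m_k, 2 m_k ≥ m_j; (B3) w_i = w_j = 2w,
w_k = w, a_ij = a_jk = 2w, with 2 m_i ≥ m_j, 2 m_j ≥ m_i + m_k, m_k ≥ m_j. -/
theorem result {n : ℕ} (T : Models.NumericalType n) (hn : 3 < n) (i j k : Fin n)
    (hij : i ≠ j) (hjk : j ≠ k) (hik : i ≠ k) (hi : T.IsMinusTwo i) (hj : T.IsMinusTwo j) (hk : T.IsMinusTwo k)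
    (h1 : 0 < T.a i j) (h2 : 0 < T.a j k) :
    T.a i k = 0 ∧ ∃ (i' k' : Fin n) (w : ℤ), ((i' = i ∧ k' = k) ∨ (i' = k ∧ k' = i)) ∧
      ((T.w i' = w ∧ T.w j = w ∧ T.w k' = w ∧ T.a i' j = w ∧ T.a j k' = w ∧
          T.m j ≤ 2 * T.m i' ∧ T.m i' + T.m k' ≤ 2 * T.m j ∧ T.m j ≤ 2 * T.m k') ∨
        (T.w i' = w ∧ T.w j = w ∧ T.w k' = 2 * w ∧ T.a i' j = w ∧ T.a j k' = 2 * w ∧
          T.m j ≤ 2 * T.m i' ∧ T.m i' + 2 * T.m k' ≤ 2 * T.m j ∧ T.m j ≤ 2 * T.m k') ∨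
        (T.w i' = 2 * w ∧ T.w j = 2 * w ∧ T.w k' = w ∧ T.a i' j = 2 * w ∧ T.a j k' = 2 * w ∧
          T.m j ≤ 2 * T.m i' ∧ T.m i' + T.m k' ≤ 2 * T.m j ∧ T.m j ≤ T.m k')) := by
  let p : ℕ → Fin n := fun l => if l = 0 then i else if l = 1 then j else k
  have hp : IsPath T p 2 := by
    refine ⟨fun l _ => ?_, fun a ha b hb e => ?_, fun l hl => ?_⟩
    · simp only [p]; split_ifs <;> assumption
    · interval_cases a <;> interval_cases b <;> simp [p] at e ⊢ <;>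
        first | exact hij e | exact hjk e | exact hik e | exact hij e.symm | exact hjk e.symm | exact hik e.symm
    · interval_cases l <;> simp [p] <;> first | exact ⟨hij, h1.ne'⟩ | exact ⟨hjk, h2.ne'⟩
  have hz : T.a i k = 0 := by simpa [p] using a_eq_zero_of_path hp hn (i := 0) (j := 2) le_rfl le_rfl
  refine ⟨hz, ?_⟩
  have r0 := row_le_one hi hij
  have r1 := row_le_two hj hij.symm hjk hik
  have r2 := row_le_one hk hjk.symm
  rcases chain_cases hp le_rfl hn with h | ⟨q, hq, -, ⟨hs, hd⟩ | ⟨h3, -⟩⟩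
  · obtain ⟨a0, a1⟩ : cc T i j = 1 ∧ cc T j i = 1 := by simpa [p] using h 0 (by omega)
    obtain ⟨b0, b1⟩ : cc T j k = 1 ∧ cc T k j = 1 := by simpa [p] using h 1 (by omega)
    rw [a0] at r0; rw [a1, b0] at r1; rw [b1] at r2
    obtain ⟨w1, e1⟩ := w_a_of_one a0 a1
    obtain ⟨w2, e2⟩ := w_a_of_one b0 b1
    exact ⟨i, k, T.w i, Or.inl ⟨rfl, rfl⟩, Or.inl ⟨rfl, w1, w2.trans w1, e1, e2.trans w1, by linarith, by linarith, by linarith⟩⟩
  swap
  · omega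
  rcases hq with rfl | rfl
  · obtain ⟨a0, a1⟩ : cc T i j = 1 ∧ cc T j i = 1 := by simpa [p] using hs 0 (by omega)
    obtain ⟨w1, e1⟩ := w_a_of_one a0 a1
    rw [a0] at r0; rw [a1] at r1
    rcases hd with hd | hd
    · obtain ⟨b0, b1⟩ : cc T j k = 2 ∧ cc T k j = 1 := by simpa [p] using hd
      obtain ⟨w2, e2⟩ := w_a_of_cc b0 b1
      rw [b0] at r1; rw [b1] at r2
      exact ⟨i, k, T.w i, Or.inl ⟨rfl, rfl⟩, Or.inr (Or.inl ⟨rfl, w1, by rw [w2, w1], e1, by rw [e2, w1], by linarith, by linarith, by linarith⟩)⟩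
    · obtain ⟨b0, b1⟩ : cc T j k = 1 ∧ cc T k j = 2 := by simpa [p] using hd
      obtain ⟨w2, e2⟩ := w_a_of_cc b1 b0
      rw [b0] at r1; rw [b1] at r2
      exact ⟨i, k, T.w k, Or.inl ⟨rfl, rfl⟩, Or.inr (Or.inr ⟨by rw [← w1, w2], w2, rfl, by rw [e1, ← w1, w2], by rw [a_comm, e2], by linarith, by linarith, by linarith⟩)⟩
  · obtain ⟨b1, b0⟩ : cc T k j = 1 ∧ cc T j k = 1 := by simpa [p] using hs 0 (by omega)
    obtain ⟨w2, e2⟩ := w_a_of_one b1 b0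
    rw [b0] at r1; rw [b1] at r2
    rcases hd with hd | hd
    · obtain ⟨a1, a0⟩ : cc T j i = 2 ∧ cc T i j = 1 := by simpa [p] using hd
      obtain ⟨w1, e1⟩ := w_a_of_cc a1 a0
      rw [a0] at r0; rw [a1] at r1
      exact ⟨k, i, T.w k, Or.inr ⟨rfl, rfl⟩, Or.inr (Or.inl ⟨rfl, w2, by rw [w1, w2], e2, by rw [e1, w2], by linarith, by linarith, by linarith⟩)⟩
    · obtain ⟨a1, a0⟩ : cc T j i = 1 ∧ cc T i j = 2 := by simpa [p] using hd
      obtain ⟨w1, e1⟩ := w_a_of_cc a0 a1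
      rw [a0] at r0; rw [a1] at r1
      exact ⟨k, i, T.w i, Or.inr ⟨rfl, rfl⟩, Or.inr (Or.inr ⟨by rw [← w2, w1], w1, rfl, by rw [e2, ← w2, w1], by rw [a_comm, e1], by linarith, by linarith, by linarith⟩)⟩

end Groth.Agent.S7341
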