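import Groth.Statements.S7342
import Groth.Agent.NumTypeLib.Sub

set_option autoImplicit false
open Finset
open Models Models.NumericalType

namespace Groth.Agent.S7342

open Groth.Agent.NumTypeLib in

/-- Let T be a numerical type on n indices, t ≥ 4 and n > t + 2. Then no t + 2 (-2)-indices of T,
pairwise distinct and numbered i_0, …, i_{t+1}, satisfy: a_{i_j i_{j+1}} > 0 for 1 ≤ j ≤ t - 1,
a_{i_0 i_2} > 0 and a_{i_{t-1} i_{t+1}} > 0. -/
theorem result {n : ℕ} (T : Models.NumericalType n) (t : ℕ) (ht : 4 ≤ t) (hn : t + 2 < n)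
    (v : Fin (t + 2) ↪ Fin n) (hv : ∀ j, T.IsMinusTwo (v j))
    (hchain : ∀ j j' : Fin (t + 2), 1 ≤ j.val → j.val + 1 ≤ t → j'.val = j.val + 1 → 0 < T.a (v j) (v j'))
    (h02 : ∀ j j' : Fin (t + 2), j.val = 0 → j'.val = 2 → 0 < T.a (v j) (v j'))
    (hlast : ∀ j j' : Fin (t + 2), j.val = t - 1 → j'.val = t + 1 → 0 < T.a (v j) (v j')) : False := by
  obtain ⟨s, rfl⟩ : ∃ s, t = s + 4 := ⟨t - 4, by omega⟩
  have hadj : ∀ a b : Fin (s + 4 + 2), a.val ≠ b.val → 0 < T.a (v a) (v b) → Adj T (v a) (v b) :=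
    fun a b hab h => ⟨v.injective.ne (Fin.ne_of_val_ne hab), h.ne'⟩
  let p : ℕ → Fin n := fun i => ofEmb v (i + 1)
  have hp : IsPath T p (s + 3) := by
    refine ⟨fun i _ => hv _, fun i hi j hj e => ?_, fun i hi => ?_⟩
    · simp only [p] at e
      rw [ofEmb_apply v (by omega), ofEmb_apply v (by omega)] at e
      have := congrArg Fin.val (v.injective e)
      simp at this; omega
    · simp only [p]
      rw [ofEmb_apply v (by omega), ofEmb_apply v (by omega)]
      exact hadj _ _ (by simp) (hchain _ _ (by simp) (by simp; omega) (by simp))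
  obtain ⟨hk, -⟩ := found_forkFork hp (by omega) (u := ofEmb v 0) (u' := ofEmb v (s + 5)) (hv _) (hv _)
    (fun i hi => by
      simp only [p]
      rw [ofEmb_apply v (by omega), ofEmb_apply v (by omega), ofEmb_apply v (by omega)]
      exact ⟨v.injective.ne (Fin.ne_of_val_ne (by simp)), v.injective.ne (Fin.ne_of_val_ne (by simp; omega))⟩)
    (by
      rw [ofEmb_apply v (by omega), ofEmb_apply v (by omega)]
      exact v.injective.ne (Fin.ne_of_val_ne (by simp)))
    (by
      simp only [p]
      rw [ofEmb_apply v (by omega), ofEmb_apply v (by omega)]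
      exact (hadj _ _ (by simp) (h02 ⟨0, by omega⟩ ⟨1 + 1, by omega⟩ rfl rfl)).symm)
    (by
      simp only [p]
      rw [ofEmb_apply v (by omega), ofEmb_apply v (by omega)]
      exact hadj _ _ (by simp) (hlast _ _ (by simp) (by simp)))
  omega

end Groth.Agent.S7342
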