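import Groth.Statements.S7343
import Groth.Agent.NumTypeLib.Sub

set_option autoImplicit false
open Finset
open Models Models.NumericalType

namespace Groth.Agent.S7343

open Groth.Agent.NumTypeLib in

/-- Let T be a numerical type on n > 7 indices. Then no seven (-2)-indices of T, pairwise distinct and
named f, g, h, i, j, k, l, have a_fg, a_gh, a_ij, a_jh, a_kl and a_lh all nonzero (three chains of
length two attached to h). -/
theorem result {n : ℕ} (T : Models.NumericalType n) (hn : 7 < n)
    (v : Fin 7 ↪ Fin n) (hv : ∀ j, T.IsMinusTwo (v j))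
    (h01 : T.a (v 0) (v 1) ≠ 0) (h12 : T.a (v 1) (v 2) ≠ 0) (h34 : T.a (v 3) (v 4) ≠ 0)
    (h42 : T.a (v 4) (v 2) ≠ 0) (h56 : T.a (v 5) (v 6) ≠ 0) (h62 : T.a (v 6) (v 2) ≠ 0) : False := by
  let p : ℕ → Fin n := fun i => v (![0, 1, 2, 4, 3] ⟨min i 4, by omega⟩)
  have hp : IsPath T p 4 := by
    refine ⟨fun i _ => hv _, fun i hi j hj e => ?_, fun i hi => ?_⟩
    · have e' := v.injective e
      interval_cases i <;> interval_cases j <;> simp at e' ⊢
    · interval_cases i <;> refine ⟨v.injective.ne (by simp), ?_⟩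
      · exact h01
      · exact h12
      · exact (fun h => h42 ((a_comm T _ _).trans h))
      · exact (fun h => h34 ((a_comm T _ _).trans h))
  obtain ⟨hk, -⟩ := found_E6 hp (u := v 6) (u' := v 5) (hv _) (hv _)
    (fun i hi => by interval_cases i <;> exact ⟨v.injective.ne (by simp), v.injective.ne (by simp)⟩)
    ⟨v.injective.ne (by simp), (fun h => h56 ((a_comm T _ _).trans h))⟩ ⟨v.injective.ne (by simp), (fun h => h62 ((a_comm T _ _).trans h))⟩
  omega

end Groth.Agent.S7343
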