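import Groth.Statements.S7345
import Groth.Agent.NumTypeLib.Sub

set_option autoImplicit false
open Finset
open Models Models.NumericalType

namespace Groth.Agent.S7345

open Groth.Agent.NumTypeLib in

/-- Let T be a numerical type on n > 9 indices. Then no nine (-2)-indices of T, pairwise distinct and
named d, e, f, g, h, i, j, k, l, have a_de, a_ef, a_fg, a_gh, a_hi, a_ij, a_jk and a_li all nonzero
(a chain of eight, d to k, with l joined to its sixth vertex i). (The published list of nonzero
entries ends with a_lh, joining l to the fifth vertex h; that configuration already contains the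
completed E7 configuration on eight of the indices and is impossible for that reason alone. The
pictured graph and the argument for it join l to the sixth vertex i, and this row states that case.) -/
theorem result {n : ℕ} (T : Models.NumericalType n) (hn : 9 < n)
    (v : Fin 9 ↪ Fin n) (hv : ∀ j, T.IsMinusTwo (v j))
    (h01 : T.a (v 0) (v 1) ≠ 0) (h12 : T.a (v 1) (v 2) ≠ 0) (h23 : T.a (v 2) (v 3) ≠ 0)
    (h34 : T.a (v 3) (v 4) ≠ 0) (h45 : T.a (v 4) (v 5) ≠ 0) (h56 : T.a (v 5) (v 6) ≠ 0)
    (h67 : T.a (v 6) (v 7) ≠ 0) (h85 : T.a (v 8) (v 5) ≠ 0) : False := by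
  let p : ℕ → Fin n := fun i => v (![0, 1, 2, 3, 4, 5, 6, 7] ⟨min i 7, by omega⟩)
  have hp : IsPath T p 7 := by
    refine ⟨fun i _ => hv _, fun i hi j hj e => ?_, fun i hi => ?_⟩
    · have e' := v.injective e
      interval_cases i <;> interval_cases j <;> simp at e' ⊢
    · interval_cases i <;> refine ⟨v.injective.ne (by simp), ?_⟩
      · exact h01
      · exact h12
      · exact h23
      · exact h34
      · exact h45
      · exact h56
      · exact h67
  obtain ⟨hk, -⟩ := found_E8 hp (u := v 8) (hv _)
    (fun i hi => by interval_cases i <;> exact v.injective.ne (by simp))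
    ⟨v.injective.ne (by simp), (fun h => h85 ((a_comm T _ _).trans h))⟩
  omega

end Groth.Agent.S7345
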