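import Groth.Statements.S7346
import Groth.Agent.NumTypeLib.Sub

set_option autoImplicit false
open Finset
open Models Models.NumericalType

namespace Groth.Agent.S7346

open Groth.Agent.NumTypeLib in

/-- Classification of proper subgraphs of type D4 (one vertex joined to three others): let T be a
numerical type on n > 4 indices and i_1, …, i_4 distinct (-2)-indices with a_{12}, a_{13}, a_{14}
nonzero. Then for some integer w all w_{i_j} equal w, these intersection numbers equal w, all other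
a_{i_j i_k} (j ≠ k) vanish, and 2 m_1 ≥ m_2 + m_3 + m_4, 2 m_2 ≥ m_1, 2 m_3 ≥ m_1, 2 m_4 ≥ m_1. -/
theorem result {n : ℕ} (T : Models.NumericalType n) (hn : 4 < n)
    (v : Fin 4 ↪ Fin n) (hv : ∀ j, T.IsMinusTwo (v j)) (h01 : T.a (v 0) (v 1) ≠ 0) (h02 : T.a (v 0) (v 2) ≠ 0) (h03 : T.a (v 0) (v 3) ≠ 0) :
    ∃ w : ℤ, (∀ j : Fin 4, T.w (v j) = w) ∧
      T.a (v 0) (v 1) = w ∧
      T.a (v 0) (v 2) = w ∧
      T.a (v 0) (v 3) = w ∧
      T.a (v 1) (v 2) = 0 ∧
      T.a (v 1) (v 3) = 0 ∧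
      T.a (v 2) (v 3) = 0 ∧
      T.m (v 1) + T.m (v 2) + T.m (v 3) ≤ 2 * T.m (v 0) ∧
      T.m (v 0) ≤ 2 * T.m (v 1) ∧
      T.m (v 0) ≤ 2 * T.m (v 2) ∧
      T.m (v 0) ≤ 2 * T.m (v 3) := by
  let p : ℕ → Fin n := fun i => v (![1, 0, 2] ⟨min i 2, by omega⟩)
  have hp : IsPath T p 2 := by
    refine ⟨fun i _ => hv _, fun i hi j hj e => ?_, fun i hi => ?_⟩
    · have e' := v.injective e
      interval_cases i <;> interval_cases j <;> simp at e' ⊢
    · interval_cases i <;> refine ⟨v.injective.ne (by simp), ?_⟩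
      · exact (fun h => h01 ((a_comm T _ _).trans h))
      · exact h02
  obtain ⟨h1, h2, h3, h4⟩ := fork_simple hp (u := v 3) (hv _)
    (fun i hi => by interval_cases i <;> exact v.injective.ne (by simp)) (b := 1) (by omega) (by omega)
    ⟨v.injective.ne (by simp), h03⟩ (by omega)
  have hw := w_eq_of_simple h1
  have hwu : T.w (v 3) = T.w (p 0) := (w_a_of_one h2 h3).1.trans (hw 1 (by omega))
  have hau : T.a (p 1) (v 3) = T.w (p 0) := (w_a_of_one h2 h3).2.trans (hw 1 (by omega))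
  refine ⟨T.w (p 0), fun j => ?_, ((a_comm T _ _).trans (a_eq_of_simple h1 (e := 0) (by omega))), a_eq_of_simple h1 (e := 1) (by omega), hau, ?_⟩
  · fin_cases j
    · exact hw 1 (by omega)
    · exact hw 0 (by omega)
    · exact hw 2 (by omega)
    · exact hwu
  exact ⟨a_eq_zero_of_path hp (by omega) (i := 0) (j := 2) (by omega) (by omega),
    h4 0 (by omega) (by omega),
    h4 2 (by omega) (by omega),
    (by have h := row_le_three (hv 0) (v.injective.ne (by decide : (0 : Fin 4) ≠ 1)) (v.injective.ne (by decide : (0 : Fin 4) ≠ 2)) (v.injective.ne (by decide : (0 : Fin 4) ≠ 3)) (v.injective.ne (by decide : (1 : Fin 4) ≠ 2)) (v.injective.ne (by decide : (1 : Fin 4) ≠ 3)) (v.injective.ne (by decide : (2 : Fin 4) ≠ 3)); rw [(show cc T (v 0) (v 1) = 1 from (h1 0 (by omega)).2), (show cc T (v 0) (v 2) = 1 from (h1 1 (by omega)).1), (show cc T (v 0) (v 3) = 1 from h2)] at h; linarith),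
    (by have h := row_le_one (hv 1) (v.injective.ne (by decide : (1 : Fin 4) ≠ 0)); rw [(show cc T (v 1) (v 0) = 1 from (h1 0 (by omega)).1)] at h; linarith),
    (by have h := row_le_one (hv 2) (v.injective.ne (by decide : (2 : Fin 4) ≠ 0)); rw [(show cc T (v 2) (v 0) = 1 from (h1 1 (by omega)).2)] at h; linarith),
    (by have h := row_le_one (hv 3) (v.injective.ne (by decide : (3 : Fin 4) ≠ 0)); rw [(show cc T (v 3) (v 0) = 1 from h3)] at h; linarith)⟩

end Groth.Agent.S7346
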