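import Groth.Statements.S7347
import Groth.Agent.NumTypeLib.Sub

set_option autoImplicit false
open Finset
open Models Models.NumericalType

namespace Groth.Agent.S7347

open Groth.Agent.NumTypeLib in

/-- Classification of proper subgraphs of type D5 (a chain i_1 i_2 i_3 with i_4 and i_5 both joined to
i_3): let T be a numerical type on n > 5 indices and i_1, …, i_5 distinct (-2)-indices with a_{12},
a_{23}, a_{34}, a_{35} nonzero. Then for some integer w all w_{i_j} equal w, these intersection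
numbers equal w, all other a_{i_j i_k} (j ≠ k) vanish, and 2 m_1 ≥ m_2, 2 m_2 ≥ m_1 + m_3, 2 m_3 ≥
m_2 + m_4 + m_5, 2 m_4 ≥ m_3, 2 m_5 ≥ m_3. -/
theorem result {n : ℕ} (T : Models.NumericalType n) (hn : 5 < n)
    (v : Fin 5 ↪ Fin n) (hv : ∀ j, T.IsMinusTwo (v j)) (h01 : T.a (v 0) (v 1) ≠ 0) (h12 : T.a (v 1) (v 2) ≠ 0) (h23 : T.a (v 2) (v 3) ≠ 0) (h24 : T.a (v 2) (v 4) ≠ 0) :
    ∃ w : ℤ, (∀ j : Fin 5, T.w (v j) = w) ∧
      T.a (v 0) (v 1) = w ∧
      T.a (v 1) (v 2) = w ∧
      T.a (v 2) (v 3) = w ∧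
      T.a (v 2) (v 4) = w ∧
      T.a (v 0) (v 2) = 0 ∧
      T.a (v 0) (v 3) = 0 ∧
      T.a (v 0) (v 4) = 0 ∧
      T.a (v 1) (v 3) = 0 ∧
      T.a (v 1) (v 4) = 0 ∧
      T.a (v 3) (v 4) = 0 ∧
      T.m (v 1) ≤ 2 * T.m (v 0) ∧
      T.m (v 0) + T.m (v 2) ≤ 2 * T.m (v 1) ∧
      T.m (v 1) + T.m (v 3) + T.m (v 4) ≤ 2 * T.m (v 2) ∧
      T.m (v 2) ≤ 2 * T.m (v 3) ∧
      T.m (v 2) ≤ 2 * T.m (v 4) := by
  let p : ℕ → Fin n := fun i => v (![0, 1, 2, 3] ⟨min i 3, by omega⟩)
  have hp : IsPath T p 3 := by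
    refine ⟨fun i _ => hv _, fun i hi j hj e => ?_, fun i hi => ?_⟩
    · have e' := v.injective e
      interval_cases i <;> interval_cases j <;> simp at e' ⊢
    · interval_cases i <;> refine ⟨v.injective.ne (by simp), ?_⟩
      · exact h01
      · exact h12
      · exact h23
  obtain ⟨h1, h2, h3, h4⟩ := fork_simple hp (u := v 4) (hv _)
    (fun i hi => by interval_cases i <;> exact v.injective.ne (by simp)) (b := 2) (by omega) (by omega)
    ⟨v.injective.ne (by simp), h24⟩ (by omega)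
  have hw := w_eq_of_simple h1
  have hwu : T.w (v 4) = T.w (p 0) := (w_a_of_one h2 h3).1.trans (hw 2 (by omega))
  have hau : T.a (p 2) (v 4) = T.w (p 0) := (w_a_of_one h2 h3).2.trans (hw 2 (by omega))
  refine ⟨T.w (p 0), fun j => ?_, a_eq_of_simple h1 (e := 0) (by omega), a_eq_of_simple h1 (e := 1) (by omega), a_eq_of_simple h1 (e := 2) (by omega), hau, ?_⟩
  · fin_cases j
    · exact hw 0 (by omega)
    · exact hw 1 (by omega)
    · exact hw 2 (by omega)
    · exact hw 3 (by omega)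
    · exact hwu
  exact ⟨a_eq_zero_of_path hp (by omega) (i := 0) (j := 2) (by omega) (by omega),
    a_eq_zero_of_path hp (by omega) (i := 0) (j := 3) (by omega) (by omega),
    h4 0 (by omega) (by omega),
    a_eq_zero_of_path hp (by omega) (i := 1) (j := 3) (by omega) (by omega),
    h4 1 (by omega) (by omega),
    h4 3 (by omega) (by omega),
    (by have h := row_le_one (hv 0) (v.injective.ne (by decide : (0 : Fin 5) ≠ 1)); rw [(show cc T (v 0) (v 1) = 1 from (h1 0 (by omega)).1)] at h; linarith),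
    (by have h := row_le_two (hv 1) (v.injective.ne (by decide : (1 : Fin 5) ≠ 0)) (v.injective.ne (by decide : (1 : Fin 5) ≠ 2)) (v.injective.ne (by decide : (0 : Fin 5) ≠ 2)); rw [(show cc T (v 1) (v 0) = 1 from (h1 0 (by omega)).2), (show cc T (v 1) (v 2) = 1 from (h1 1 (by omega)).1)] at h; linarith),
    (by have h := row_le_three (hv 2) (v.injective.ne (by decide : (2 : Fin 5) ≠ 1)) (v.injective.ne (by decide : (2 : Fin 5) ≠ 3)) (v.injective.ne (by decide : (2 : Fin 5) ≠ 4)) (v.injective.ne (by decide : (1 : Fin 5) ≠ 3)) (v.injective.ne (by decide : (1 : Fin 5) ≠ 4)) (v.injective.ne (by decide : (3 : Fin 5) ≠ 4)); rw [(show cc T (v 2) (v 1) = 1 from (h1 1 (by omega)).2), (show cc T (v 2) (v 3) = 1 from (h1 2 (by omega)).1), (show cc T (v 2) (v 4) = 1 from h2)] at h; linarith),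
    (by have h := row_le_one (hv 3) (v.injective.ne (by decide : (3 : Fin 5) ≠ 2)); rw [(show cc T (v 3) (v 2) = 1 from (h1 2 (by omega)).2)] at h; linarith),
    (by have h := row_le_one (hv 4) (v.injective.ne (by decide : (4 : Fin 5) ≠ 2)); rw [(show cc T (v 4) (v 2) = 1 from h3)] at h; linarith)⟩

end Groth.Agent.S7347
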