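import Groth.Statements.S7350
import Groth.Agent.NumTypeLib.Sub

set_option autoImplicit false
open Finset
open Models Models.NumericalType

namespace Groth.Agent.S7350

open Groth.Agent.NumTypeLib in

/-- Classification of proper subgraphs of type E8 (a chain i_1 … i_7 with i_8 joined to i_5): let T be a
numerical type on n > 8 indices and i_1, …, i_8 distinct (-2)-indices with a_{12}, a_{23}, a_{34},
a_{45}, a_{56}, a_{67}, a_{58} nonzero. Then for some integer w all w_{i_j} equal w, these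
intersection numbers equal w, all other a_{i_j i_k} (j ≠ k) vanish, and 2 m_1 ≥ m_2, 2 m_2 ≥ m_1 +
m_3, 2 m_3 ≥ m_2 + m_4, 2 m_4 ≥ m_3 + m_5, 2 m_5 ≥ m_4 + m_6 + m_8, 2 m_6 ≥ m_5 + m_7, 2 m_7 ≥ m_6,
2 m_8 ≥ m_5. (The published statement lists a_{65} and a_{57} among the nonzero entries, which
contradicts its own conclusion a_{57} = 0; this row uses the edges of the E8 graph, a_{67} and
a_{58}, as the pictured graph and the matrix give them.) -/
theorem result {n : ℕ} (T : Models.NumericalType n) (hn : 8 < n)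
    (v : Fin 8 ↪ Fin n) (hv : ∀ j, T.IsMinusTwo (v j)) (h01 : T.a (v 0) (v 1) ≠ 0) (h12 : T.a (v 1) (v 2) ≠ 0) (h23 : T.a (v 2) (v 3) ≠ 0) (h34 : T.a (v 3) (v 4) ≠ 0) (h45 : T.a (v 4) (v 5) ≠ 0) (h56 : T.a (v 5) (v 6) ≠ 0) (h47 : T.a (v 4) (v 7) ≠ 0) :
    ∃ w : ℤ, (∀ j : Fin 8, T.w (v j) = w) ∧
      T.a (v 0) (v 1) = w ∧
      T.a (v 1) (v 2) = w ∧
      T.a (v 2) (v 3) = w ∧
      T.a (v 3) (v 4) = w ∧
      T.a (v 4) (v 5) = w ∧
      T.a (v 5) (v 6) = w ∧
      T.a (v 4) (v 7) = w ∧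
      T.a (v 0) (v 2) = 0 ∧
      T.a (v 0) (v 3) = 0 ∧
      T.a (v 0) (v 4) = 0 ∧
      T.a (v 0) (v 5) = 0 ∧
      T.a (v 0) (v 6) = 0 ∧
      T.a (v 0) (v 7) = 0 ∧
      T.a (v 1) (v 3) = 0 ∧
      T.a (v 1) (v 4) = 0 ∧
      T.a (v 1) (v 5) = 0 ∧
      T.a (v 1) (v 6) = 0 ∧
      T.a (v 1) (v 7) = 0 ∧
      T.a (v 2) (v 4) = 0 ∧
      T.a (v 2) (v 5) = 0 ∧
      T.a (v 2) (v 6) = 0 ∧
      T.a (v 2) (v 7) = 0 ∧
      T.a (v 3) (v 5) = 0 ∧
      T.a (v 3) (v 6) = 0 ∧
      T.a (v 3) (v 7) = 0 ∧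
      T.a (v 4) (v 6) = 0 ∧
      T.a (v 5) (v 7) = 0 ∧
      T.a (v 6) (v 7) = 0 ∧
      T.m (v 1) ≤ 2 * T.m (v 0) ∧
      T.m (v 0) + T.m (v 2) ≤ 2 * T.m (v 1) ∧
      T.m (v 1) + T.m (v 3) ≤ 2 * T.m (v 2) ∧
      T.m (v 2) + T.m (v 4) ≤ 2 * T.m (v 3) ∧
      T.m (v 3) + T.m (v 5) + T.m (v 7) ≤ 2 * T.m (v 4) ∧
      T.m (v 4) + T.m (v 6) ≤ 2 * T.m (v 5) ∧
      T.m (v 5) ≤ 2 * T.m (v 6) ∧
      T.m (v 4) ≤ 2 * T.m (v 7) := by
  let p : ℕ → Fin n := fun i => v (![0, 1, 2, 3, 4, 5, 6] ⟨min i 6, by omega⟩)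
  have hp : IsPath T p 6 := by
    refine ⟨fun i _ => hv _, fun i hi j hj e => ?_, fun i hi => ?_⟩
    · have e' := v.injective e
      interval_cases i <;> interval_cases j <;> simp at e' ⊢
    · interval_cases i <;> refine ⟨v.injective.ne (by simp), ?_⟩
      · exact h01
      · exact h12
      · exact h23
      · exact h34
      · exact h45
      · exact h56
  obtain ⟨h1, h2, h3, h4⟩ := fork_simple hp (u := v 7) (hv _)
    (fun i hi => by interval_cases i <;> exact v.injective.ne (by simp)) (b := 4) (by omega) (by omega)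
    ⟨v.injective.ne (by simp), h47⟩ (by omega)
  have hw := w_eq_of_simple h1
  have hwu : T.w (v 7) = T.w (p 0) := (w_a_of_one h2 h3).1.trans (hw 4 (by omega))
  have hau : T.a (p 4) (v 7) = T.w (p 0) := (w_a_of_one h2 h3).2.trans (hw 4 (by omega))
  refine ⟨T.w (p 0), fun j => ?_, a_eq_of_simple h1 (e := 0) (by omega), a_eq_of_simple h1 (e := 1) (by omega), a_eq_of_simple h1 (e := 2) (by omega), a_eq_of_simple h1 (e := 3) (by omega), a_eq_of_simple h1 (e := 4) (by omega), a_eq_of_simple h1 (e := 5) (by omega), hau, ?_⟩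
  · fin_cases j
    · exact hw 0 (by omega)
    · exact hw 1 (by omega)
    · exact hw 2 (by omega)
    · exact hw 3 (by omega)
    · exact hw 4 (by omega)
    · exact hw 5 (by omega)
    · exact hw 6 (by omega)
    · exact hwu
  exact ⟨a_eq_zero_of_path hp (by omega) (i := 0) (j := 2) (by omega) (by omega),
    a_eq_zero_of_path hp (by omega) (i := 0) (j := 3) (by omega) (by omega),
    a_eq_zero_of_path hp (by omega) (i := 0) (j := 4) (by omega) (by omega),
    a_eq_zero_of_path hp (by omega) (i := 0) (j := 5) (by omega) (by omega),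
    a_eq_zero_of_path hp (by omega) (i := 0) (j := 6) (by omega) (by omega),
    h4 0 (by omega) (by omega),
    a_eq_zero_of_path hp (by omega) (i := 1) (j := 3) (by omega) (by omega),
    a_eq_zero_of_path hp (by omega) (i := 1) (j := 4) (by omega) (by omega),
    a_eq_zero_of_path hp (by omega) (i := 1) (j := 5) (by omega) (by omega),
    a_eq_zero_of_path hp (by omega) (i := 1) (j := 6) (by omega) (by omega),
    h4 1 (by omega) (by omega),
    a_eq_zero_of_path hp (by omega) (i := 2) (j := 4) (by omega) (by omega),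
    a_eq_zero_of_path hp (by omega) (i := 2) (j := 5) (by omega) (by omega),
    a_eq_zero_of_path hp (by omega) (i := 2) (j := 6) (by omega) (by omega),
    h4 2 (by omega) (by omega),
    a_eq_zero_of_path hp (by omega) (i := 3) (j := 5) (by omega) (by omega),
    a_eq_zero_of_path hp (by omega) (i := 3) (j := 6) (by omega) (by omega),
    h4 3 (by omega) (by omega),
    a_eq_zero_of_path hp (by omega) (i := 4) (j := 6) (by omega) (by omega),
    h4 5 (by omega) (by omega),
    h4 6 (by omega) (by omega),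
    (by have h := row_le_one (hv 0) (v.injective.ne (by decide : (0 : Fin 8) ≠ 1)); rw [(show cc T (v 0) (v 1) = 1 from (h1 0 (by omega)).1)] at h; linarith),
    (by have h := row_le_two (hv 1) (v.injective.ne (by decide : (1 : Fin 8) ≠ 0)) (v.injective.ne (by decide : (1 : Fin 8) ≠ 2)) (v.injective.ne (by decide : (0 : Fin 8) ≠ 2)); rw [(show cc T (v 1) (v 0) = 1 from (h1 0 (by omega)).2), (show cc T (v 1) (v 2) = 1 from (h1 1 (by omega)).1)] at h; linarith),
    (by have h := row_le_two (hv 2) (v.injective.ne (by decide : (2 : Fin 8) ≠ 1)) (v.injective.ne (by decide : (2 : Fin 8) ≠ 3)) (v.injective.ne (by decide : (1 : Fin 8) ≠ 3)); rw [(show cc T (v 2) (v 1) = 1 from (h1 1 (by omega)).2), (show cc T (v 2) (v 3) = 1 from (h1 2 (by omega)).1)] at h; linarith),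
    (by have h := row_le_two (hv 3) (v.injective.ne (by decide : (3 : Fin 8) ≠ 2)) (v.injective.ne (by decide : (3 : Fin 8) ≠ 4)) (v.injective.ne (by decide : (2 : Fin 8) ≠ 4)); rw [(show cc T (v 3) (v 2) = 1 from (h1 2 (by omega)).2), (show cc T (v 3) (v 4) = 1 from (h1 3 (by omega)).1)] at h; linarith),
    (by have h := row_le_three (hv 4) (v.injective.ne (by decide : (4 : Fin 8) ≠ 3)) (v.injective.ne (by decide : (4 : Fin 8) ≠ 5)) (v.injective.ne (by decide : (4 : Fin 8) ≠ 7)) (v.injective.ne (by decide : (3 : Fin 8) ≠ 5)) (v.injective.ne (by decide : (3 : Fin 8) ≠ 7)) (v.injective.ne (by decide : (5 : Fin 8) ≠ 7)); rw [(show cc T (v 4) (v 3) = 1 from (h1 3 (by omega)).2), (show cc T (v 4) (v 5) = 1 from (h1 4 (by omega)).1), (show cc T (v 4) (v 7) = 1 from h2)] at h; linarith),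
    (by have h := row_le_two (hv 5) (v.injective.ne (by decide : (5 : Fin 8) ≠ 4)) (v.injective.ne (by decide : (5 : Fin 8) ≠ 6)) (v.injective.ne (by decide : (4 : Fin 8) ≠ 6)); rw [(show cc T (v 5) (v 4) = 1 from (h1 4 (by omega)).2), (show cc T (v 5) (v 6) = 1 from (h1 5 (by omega)).1)] at h; linarith),
    (by have h := row_le_one (hv 6) (v.injective.ne (by decide : (6 : Fin 8) ≠ 5)); rw [(show cc T (v 6) (v 5) = 1 from (h1 5 (by omega)).2)] at h; linarith),
    (by have h := row_le_one (hv 7) (v.injective.ne (by decide : (7 : Fin 8) ≠ 4)); rw [(show cc T (v 7) (v 4) = 1 from h3)] at h; linarith)⟩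

end Groth.Agent.S7350
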