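import Groth.Statements.S7351
import Groth.Agent.NumTypeLib.Sub

set_option autoImplicit false
open Finset
open Models Models.NumericalType

namespace Groth.Agent.S7351

open Groth.Agent.NumTypeLib in

/-- Let T be a numerical type on n > 5 indices. There do not exist five distinct (-2)-indices h, i, j,
k, l with a_hi > 0, a_hj > 0, a_hk > 0 and a_hl > 0. -/
theorem result {n : ℕ} (T : Models.NumericalType n) (hn : 5 < n)
    (v : Fin 5 ↪ Fin n) (hv : ∀ j, T.IsMinusTwo (v j))
    (h01 : 0 < T.a (v 0) (v 1)) (h02 : 0 < T.a (v 0) (v 2)) (h03 : 0 < T.a (v 0) (v 3)) (h04 : 0 < T.a (v 0) (v 4)) : False := by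
  let p : ℕ → Fin n := fun i => v (![1, 0, 2] ⟨min i 2, by omega⟩)
  have hp : IsPath T p 2 := by
    refine ⟨fun i _ => hv _, fun i hi j hj e => ?_, fun i hi => ?_⟩
    · have e' := v.injective e
      interval_cases i <;> interval_cases j <;> simp at e' ⊢
    · interval_cases i <;> refine ⟨v.injective.ne (by simp), ?_⟩
      · exact (fun h => h01.ne' ((a_comm T _ _).trans h))
      · exact h02.ne'
  obtain ⟨hk, -⟩ := found_forkFork hp le_rfl (u := v 3) (u' := v 4) (hv _) (hv _)
    (fun i hi => by interval_cases i <;> exact ⟨v.injective.ne (by simp), v.injective.ne (by simp)⟩)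
    (v.injective.ne (by decide)) ⟨v.injective.ne (by simp), h03.ne'⟩ ⟨v.injective.ne (by simp), h04.ne'⟩
  omega

end Groth.Agent.S7351
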