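import Groth.Statements.S7352
import Groth.Agent.NumTypeLib.Chain

set_option autoImplicit false
open Finset
open Models Models.NumericalType

namespace Groth.Agent.S7352

open Groth.Agent.NumTypeLib in

/-- Classification of proper subgraphs which are chains of four vertices: let T be a numerical type on n
> 4 indices and i_1, …, i_4 distinct (-2)-indices with a_{i_j i_{j+1}} nonzero for j < 4. Then
a_{i_j i_l} = 0 for |j - l| ≥ 2 and, after possibly reversing the order of the indices, for some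
integer w one of the following holds: (A4) w = (w, w, w, w), consecutive a = (w, w, w), with 2m_1 ≥
m_2, 2m_2 ≥ m_1 + m_3, 2m_3 ≥ m_2 + m_4, 2m_4 ≥ m_3; (C4) w = (w, w, w, 2w), consecutive a = (w, w,
2w), with 2m_1 ≥ m_2, 2m_2 ≥ m_1 + m_3, 2m_3 ≥ m_2 + 2m_4, 2m_4 ≥ m_3; (B4) w = (2w, 2w, 2w, w),
consecutive a = (2w, 2w, 2w), with 2m_1 ≥ m_2, 2m_2 ≥ m_1 + m_3, 2m_3 ≥ m_2 + m_4, m_4 ≥ m_3; (F4) w
= (w, w, 2w, 2w), consecutive a = (w, 2w, 2w), with 2m_1 ≥ m_2, 2m_2 ≥ m_1 + 2m_3, 2m_3 ≥ m_2 + m_4,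
2m_4 ≥ m_3. -/
theorem result {n : ℕ} (T : Models.NumericalType n) (hn : 4 < n)
    (v : Fin 4 ↪ Fin n) (hv : ∀ j, T.IsMinusTwo (v j)) (h01 : T.a (v 0) (v 1) ≠ 0) (h12 : T.a (v 1) (v 2) ≠ 0) (h23 : T.a (v 2) (v 3) ≠ 0) :
    (T.a (v 0) (v 2) = 0 ∧ T.a (v 0) (v 3) = 0 ∧ T.a (v 1) (v 3) = 0) ∧
    ∃ (u : Fin 4 → Fin n) (w : ℤ), ((∀ j, u j = v j) ∨ (∀ j, u j = v (Fin.rev j))) ∧
      ((T.w (u 0) = w ∧ T.w (u 1) = w ∧ T.w (u 2) = w ∧ T.w (u 3) = w ∧ T.a (u 0) (u 1) = w ∧ T.a (u 1) (u 2) = w ∧ T.a (u 2) (u 3) = w ∧ T.m (u 1) ≤ 2 * T.m (u 0) ∧ T.m (u 0) + T.m (u 2) ≤ 2 * T.m (u 1) ∧ T.m (u 1) + T.m (u 3) ≤ 2 * T.m (u 2) ∧ T.m (u 2) ≤ 2 * T.m (u 3)) ∨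
      (T.w (u 0) = w ∧ T.w (u 1) = w ∧ T.w (u 2) = w ∧ T.w (u 3) = 2 * w ∧ T.a (u 0) (u 1) = w ∧ T.a (u 1) (u 2) = w ∧ T.a (u 2) (u 3) = 2 * w ∧ T.m (u 1) ≤ 2 * T.m (u 0) ∧ T.m (u 0) + T.m (u 2) ≤ 2 * T.m (u 1) ∧ T.m (u 1) + 2 * T.m (u 3) ≤ 2 * T.m (u 2) ∧ T.m (u 2) ≤ 2 * T.m (u 3)) ∨
      (T.w (u 0) = 2 * w ∧ T.w (u 1) = 2 * w ∧ T.w (u 2) = 2 * w ∧ T.w (u 3) = w ∧ T.a (u 0) (u 1) = 2 * w ∧ T.a (u 1) (u 2) = 2 * w ∧ T.a (u 2) (u 3) = 2 * w ∧ T.m (u 1) ≤ 2 * T.m (u 0) ∧ T.m (u 0) + T.m (u 2) ≤ 2 * T.m (u 1) ∧ T.m (u 1) + T.m (u 3) ≤ 2 * T.m (u 2) ∧ T.m (u 2) ≤ T.m (u 3)) ∨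
      (T.w (u 0) = w ∧ T.w (u 1) = w ∧ T.w (u 2) = 2 * w ∧ T.w (u 3) = 2 * w ∧ T.a (u 0) (u 1) = w ∧ T.a (u 1) (u 2) = 2 * w ∧ T.a (u 2) (u 3) = 2 * w ∧ T.m (u 1) ≤ 2 * T.m (u 0) ∧ T.m (u 0) + 2 * T.m (u 2) ≤ 2 * T.m (u 1) ∧ T.m (u 1) + T.m (u 3) ≤ 2 * T.m (u 2) ∧ T.m (u 2) ≤ 2 * T.m (u 3))) := by
  have hp : IsPath T (ofEmb v) 3 := isPath_ofEmb v hv 3 le_rfl fun j j' hjj' _ => by
    have hj : j.val < 3 := by have := j'.isLt; omega
    obtain ⟨j, hjlt⟩ := j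
    obtain ⟨j', hj'lt⟩ := j'
    obtain rfl : j' = j + 1 := hjj'
    interval_cases j
    · exact h01
    · exact h12
    · exact h23
  refine ⟨⟨a_eq_zero_of_path hp hn (i := 0) (j := 2) (by omega) (by omega), a_eq_zero_of_path hp hn (i := 0) (j := 3) (by omega) (by omega), a_eq_zero_of_path hp hn (i := 1) (j := 3) (by omega) (by omega)⟩, ?_⟩
  obtain ⟨q, w, hq, hqp, hshape⟩ := chain_shape hp (by omega) hn
  have d : ∀ {i j : ℕ}, i ≤ 3 → j ≤ 3 → i ≠ j → q i ≠ q j := fun hi hj hne e => hne (hqp.inj _ hi _ hj e)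
  have r0 := row_le_one (hqp.isMinusTwo 0 (by omega)) (d (i := 0) (j := 1) (by omega) (by omega) (by omega))
  have r1 := row_le_two (hqp.isMinusTwo 1 (by omega)) (d (i := 1) (j := 0) (by omega) (by omega) (by omega)) (d (i := 1) (j := 2) (by omega) (by omega) (by omega)) (d (i := 0) (j := 2) (by omega) (by omega) (by omega))
  have r2 := row_le_two (hqp.isMinusTwo 2 (by omega)) (d (i := 2) (j := 1) (by omega) (by omega) (by omega)) (d (i := 2) (j := 3) (by omega) (by omega) (by omega)) (d (i := 1) (j := 3) (by omega) (by omega) (by omega))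
  have r3 := row_le_one (hqp.isMinusTwo 3 (by omega)) (d (i := 3) (j := 2) (by omega) (by omega) (by omega))
  refine ⟨fun j => q j, w, ?_, ?_⟩
  · rcases hq with rfl | rfl
    · exact Or.inl fun j => ofEmb_val v j
    · exact Or.inr fun j => by
        simpa [Fin.val_rev] using ofEmb_val v (Fin.rev j)
  rcases hshape with ⟨hw, ha, hc⟩ | ⟨hw, hwl, ha, hal, hc, c1, c2⟩ | ⟨hw, hwl, ha, hc, c1, c2⟩ | ⟨hL, hF⟩
  · left
    have c0a := (hc 0 (by omega)).1; have c0b := (hc 0 (by omega)).2; have c1a := (hc 1 (by omega)).1; have c1b := (hc 1 (by omega)).2; have c2a := (hc 2 (by omega)).1; have c2b := (hc 2 (by omega)).2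
    norm_num at c0a c0b c1a c1b c2a c2b
    simp only [c0a, c0b, c1a, c1b, c2a, c2b, one_mul] at r0 r1 r2 r3
    simp only [show ((0 : Fin 4) : ℕ) = 0 from rfl, show ((1 : Fin 4) : ℕ) = 1 from rfl, show ((2 : Fin 4) : ℕ) = 2 from rfl, show ((3 : Fin 4) : ℕ) = 3 from rfl]
    exact ⟨hw 0 (by omega), hw 1 (by omega), hw 2 (by omega), hw 3 (by omega), ha 0 (by omega), ha 1 (by omega), ha 2 (by omega), by first | assumption | linarith, by first | assumption | linarith, by first | assumption | linarith, by first | assumption | linarith⟩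
  · right; left
    have c0a := (hc 0 (by omega)).1; have c0b := (hc 0 (by omega)).2; have c1a := (hc 1 (by omega)).1; have c1b := (hc 1 (by omega)).2
    norm_num at c0a c0b c1a c1b c1 c2
    simp only [c0a, c0b, c1a, c1b, c1, c2, one_mul] at r0 r1 r2 r3
    simp only [show ((0 : Fin 4) : ℕ) = 0 from rfl, show ((1 : Fin 4) : ℕ) = 1 from rfl, show ((2 : Fin 4) : ℕ) = 2 from rfl, show ((3 : Fin 4) : ℕ) = 3 from rfl]
    exact ⟨hw 0 (by omega), hw 1 (by omega), hw 2 (by omega), hwl, ha 0 (by omega), ha 1 (by omega), hal, by first | assumption | linarith, by first | assumption | linarith, by first | assumption | linarith, by first | assumption | linarith⟩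
  · right; right; left
    have c0a := (hc 0 (by omega)).1; have c0b := (hc 0 (by omega)).2; have c1a := (hc 1 (by omega)).1; have c1b := (hc 1 (by omega)).2
    norm_num at c0a c0b c1a c1b c1 c2
    simp only [c0a, c0b, c1a, c1b, c1, c2, one_mul] at r0 r1 r2 r3
    simp only [show ((0 : Fin 4) : ℕ) = 0 from rfl, show ((1 : Fin 4) : ℕ) = 1 from rfl, show ((2 : Fin 4) : ℕ) = 2 from rfl, show ((3 : Fin 4) : ℕ) = 3 from rfl]
    exact ⟨hw 0 (by omega), hw 1 (by omega), hw 2 (by omega), hwl, ha 0 (by omega), ha 1 (by omega), ha 2 (by omega), by first | assumption | linarith, by first | assumption | linarith, by first | assumption | linarith, by first | assumption | linarith⟩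
  · right; right; right
    obtain ⟨f0, f1, f2, f3, g0, g1, g2, b0, b1, b2, b3, b4, b5⟩ := hF
    simp only [b0, b1, b2, b3, b4, b5, one_mul] at r0 r1 r2 r3
    simp only [Fin.val_zero, Fin.val_one, Fin.val_two, show ((3 : Fin 4) : ℕ) = 3 from rfl]
    exact ⟨f0, f1, f2, f3, g0, g1, g2, by linarith, by linarith, by linarith, by linarith⟩

end Groth.Agent.S7352
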