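import Groth.Statements.S7354
import Groth.Agent.NumTypeLib.Chain

set_option autoImplicit false
open Finset
open Models Models.NumericalType

namespace Groth.Agent.S7354

open Groth.Agent.NumTypeLib in

/-- Let T be a numerical type on n indices, t > 5 with n > t, and i_1, …, i_t distinct (-2)-indices with
a_{i_j i_{j+1}} nonzero for j = 1, …, t - 1. Then, after possibly reversing the order of the
indices, for some integer w either (A) w_{i_1} = … = w_{i_t} = w and a_{i_j i_{j+1}} = w for all j;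
or (C) w_{i_1} = … = w_{i_{t-1}} = w, w_{i_t} = 2w, a_{i_j i_{j+1}} = w for j < t - 1 and a_{i_{t-1}
i_t} = 2w; or (B) w_{i_1} = … = w_{i_{t-1}} = 2w, w_{i_t} = w and a_{i_j i_{j+1}} = 2w for all j;
and in every case a_{i_j i_k} = 0 whenever k > j + 1. -/
theorem result {n : ℕ} (T : Models.NumericalType n) (t : ℕ) (ht : 5 < t) (hn : t < n)
    (v : Fin t ↪ Fin n) (hv : ∀ j, T.IsMinusTwo (v j))
    (hchain : ∀ j j' : Fin t, j'.val = j.val + 1 → T.a (v j) (v j') ≠ 0) :
    ∃ (u : Fin t → Fin n) (w : ℤ), ((∀ j, u j = v j) ∨ (∀ j, u j = v (Fin.rev j))) ∧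
      (∀ j k : Fin t, j.val + 1 < k.val → T.a (u j) (u k) = 0) ∧
      ((∀ j : Fin t, T.w (u j) = w) ∧ (∀ j j' : Fin t, j'.val = j.val + 1 → T.a (u j) (u j') = w) ∨
        ((∀ j : Fin t, j.val + 1 < t → T.w (u j) = w) ∧ (∀ j : Fin t, j.val + 1 = t → T.w (u j) = 2 * w) ∧
          (∀ j j' : Fin t, j'.val = j.val + 1 → j'.val + 1 < t → T.a (u j) (u j') = w) ∧
          (∀ j j' : Fin t, j'.val = j.val + 1 → j'.val + 1 = t → T.a (u j) (u j') = 2 * w)) ∨
        ((∀ j : Fin t, j.val + 1 < t → T.w (u j) = 2 * w) ∧ (∀ j : Fin t, j.val + 1 = t → T.w (u j) = w) ∧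
          (∀ j j' : Fin t, j'.val = j.val + 1 → T.a (u j) (u j') = 2 * w))) := by
  obtain ⟨L, rfl⟩ : ∃ L, t = L + 1 := ⟨t - 1, by omega⟩
  have hp : IsPath T (ofEmb v) L := isPath_ofEmb v hv L le_rfl fun j j' h _ => hchain j j' h
  obtain ⟨q, w, hq, hqp, hshape⟩ := chain_shape hp (by omega) hn
  refine ⟨fun j => q j, w, ?_, fun j k hjk => a_eq_zero_of_path hqp hn (by omega) (by omega), ?_⟩
  · rcases hq with rfl | rfl
    · exact Or.inl fun j => ofEmb_val v j
    · exact Or.inr fun j => by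
        simpa [Fin.val_rev] using ofEmb_val v (Fin.rev j)
  rcases hshape with ⟨hw, ha, -⟩ | ⟨hw, hwl, ha, hal, -⟩ | ⟨hw, hwl, ha, -⟩ | ⟨hL, -⟩
  · exact Or.inl ⟨fun j => hw j (by omega), fun j j' h => by dsimp only; rw [h]; exact ha j (by omega)⟩
  · refine Or.inr (Or.inl ⟨fun j hj => hw j (by omega), fun j hj => ?_, fun j j' h hj => ?_, fun j j' h hj => ?_⟩)
    · dsimp only; rw [show (j : ℕ) = L by omega]; exact hwl
    · dsimp only; rw [h]; exact ha j (by omega)
    · dsimp only; rw [show (j' : ℕ) = L by omega, show (j : ℕ) = L - 1 by omega]; exact hal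
  · refine Or.inr (Or.inr ⟨fun j hj => hw j (by omega), fun j hj => ?_, fun j j' h => ?_⟩)
    · dsimp only; rw [show (j : ℕ) = L by omega]; exact hwl
    · dsimp only; rw [h]; exact ha j (by omega)
  · omega

end Groth.Agent.S7354
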