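import Groth.Statements.S7355
import Groth.Agent.NumTypeLib.Chain

set_option autoImplicit false
open Finset
open Models Models.NumericalType

namespace Groth.Agent.S7355

open Groth.Agent.NumTypeLib in

/-- Classification of proper subgraphs of type D: let T be a numerical type on n indices, t > 4 with n >
t + 1, and i_1, …, i_{t+1} distinct (-2)-indices such that a_{i_j i_{j+1}} is nonzero for j = 1, …,
t - 1 and a_{i_{t-1} i_{t+1}} is nonzero. Then for some integer w one has w_{i_1} = … = w_{i_{t+1}}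
= w, a_{i_j i_{j+1}} = w for j < t, a_{i_{t-1} i_{t+1}} = w, and a_{i_j i_k} = 0 for all other pairs
j ≠ k. -/
theorem result {n : ℕ} (T : Models.NumericalType n) (t : ℕ) (ht : 4 < t) (hn : t + 1 < n)
    (v : Fin (t + 1) ↪ Fin n) (hv : ∀ j, T.IsMinusTwo (v j))
    (hchain : ∀ j j' : Fin (t + 1), j'.val = j.val + 1 → j'.val < t → T.a (v j) (v j') ≠ 0)
    (hbranch : ∀ j j' : Fin (t + 1), j.val + 2 = t → j'.val = t → T.a (v j) (v j') ≠ 0) :
    ∃ w : ℤ, (∀ j : Fin (t + 1), T.w (v j) = w) ∧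
      (∀ j j' : Fin (t + 1), j'.val = j.val + 1 → j'.val < t → T.a (v j) (v j') = w) ∧
      (∀ j j' : Fin (t + 1), j.val + 2 = t → j'.val = t → T.a (v j) (v j') = w) ∧
      (∀ j k : Fin (t + 1), j.val < k.val → ¬ (k.val = j.val + 1 ∧ k.val < t) → ¬ (j.val + 2 = t ∧ k.val = t) →
        T.a (v j) (v k) = 0) := by
  obtain ⟨L, rfl⟩ : ∃ L, t = L + 1 := ⟨t - 1, by omega⟩
  have hp : IsPath T (ofEmb v) L := isPath_ofEmb v hv L (by omega) fun j j' h h' => hchain j j' h (by omega)
  have hu : ofEmb v (L + 1) = v ⟨L + 1, by omega⟩ := ofEmb_apply v le_rfl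
  obtain ⟨h1, h2, h3, h4⟩ := fork_simple hp (u := ofEmb v (L + 1)) (hv _)
    (fun i hi => by
      rw [ofEmb_apply v (by omega), hu]
      exact v.injective.ne (Fin.ne_of_val_ne (by simp <;> omega)))
    (b := L - 1) (by omega) (by omega)
    (by
      rw [ofEmb_apply v (by omega), hu]
      exact ⟨v.injective.ne (Fin.ne_of_val_ne (by simp <;> omega)), hbranch _ _ (by simp <;> omega) (by simp)⟩)
    (by omega)
  have hw := w_eq_of_simple h1
  refine ⟨T.w (ofEmb v 0), fun j => ?_, fun j j' h h' => ?_, fun j j' h h' => ?_, fun j k hjk n1 n2 => ?_⟩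
  · rw [← ofEmb_val v j]
    rcases Nat.lt_or_ge j.val (L + 1) with h | h
    · exact hw j (by omega)
    · rw [show (j : ℕ) = L + 1 by omega]
      exact (w_a_of_one h2 h3).1.trans (hw _ (by omega))
  · rw [← ofEmb_val v j, ← ofEmb_val v j', h]
    exact a_eq_of_simple h1 (by omega)
  · rw [← ofEmb_val v j, ← ofEmb_val v j', h', show (j : ℕ) = L - 1 by omega]
    exact (w_a_of_one h2 h3).2.trans (hw _ (by omega))
  · rw [← ofEmb_val v j, ← ofEmb_val v k]
    rcases Nat.lt_or_ge k.val (L + 1) with h | h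
    · exact a_eq_zero_of_path hp (by omega) (by omega) (by omega)
    · rw [show (k : ℕ) = L + 1 by omega]
      exact h4 j (by omega) (by omega)

end Groth.Agent.S7355
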