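import Groth.Statements.S7357
import Mathlib
import Groth.Prelude

set_option linter.all false
set_option maxHeartbeats 1000000

set_option autoImplicit false
universe u
open Polynomial
open Resolve

open Polynomial

namespace Groth.Agent.S7357

namespace S7357aux

open TensorProduct

theorem affine {R M P : Type u} [CommRing R] [AddCommGroup M] [Module R M] [AddCommGroup P] [Module R P]
    {n : ℕ} (A : M [⋀^Fin n]→ₗ[R] P) (u : M) (η : Fin n → M) (c : Fin n → R) :
    A (η + fun j => c j • u) = A η + ∑ j, c j • A (Function.update η j u) := by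
  classical
  suffices h : ∀ s : Finset (Fin n),
      A (fun j => if j ∈ s then η j + c j • u else η j) = A η + ∑ j ∈ s, c j • A (Function.update η j u) ∧
      ∀ k ∉ s, A (Function.update (fun j => if j ∈ s then η j + c j • u else η j) k u) = A (Function.update η k u) by
    have := (h Finset.univ).1
    simp only [Finset.mem_univ, if_true] at this
    exact this
  intro s
  induction s using Finset.induction with
  | empty => simp
  | insert i s hi ih =>
    set e : Fin n → M := fun j => if j ∈ s then η j + c j • u else η j with he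
    have hins : (fun j => if j ∈ insert i s then η j + c j • u else η j) = Function.update e i (η i + c i • u) := by
      funext j
      rcases eq_or_ne j i with rfl | hj
      · simp
      · simp [he, hj, Finset.mem_insert]
    have hei : Function.update e i (η i) = e := by
      conv_lhs => rw [show η i = e i from by simp [he, hi]]
      exact Function.update_eq_self i e
    refine ⟨?_, fun k hk => ?_⟩
    · rw [hins, A.map_update_add, A.map_update_smul, hei, ih.1, ih.2 i hi, Finset.sum_insert hi]
      abel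
    · obtain ⟨hki, hks⟩ : k ≠ i ∧ k ∉ s := by simpa [Finset.mem_insert, not_or] using hk
      rw [hins, Function.update_comm hki.symm, A.map_update_add, A.map_update_smul]
      rw [Function.update_comm hki u (η i) e, hei, ih.2 k hks,
        A.map_eq_zero_of_eq (Function.update (Function.update e k u) i u) (i := i) (j := k) (by simp [hki]) hki.symm,
        smul_zero, add_zero]

variable {R M P : Type u} [CommRing R] [AddCommGroup M] [Module R M] [AddCommGroup P] [Module R P] {n : ℕ}

noncomputable def liftQ (u : M) : (M ⧸ Submodule.span R {u}) × R → M × R := fun x => (Quotient.out x.1, x.2)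

def G0 (A : M [⋀^Fin n]→ₗ[R] P) (u : M) : (M × R) [⋀^Fin n]→ₗ[R] P :=
  A.compLinearMap (LinearMap.fst R M R + (LinearMap.toSpanSingleton R M u).comp (LinearMap.snd R M R)) -
    A.compLinearMap (LinearMap.fst R M R)

theorem G0_congr (A : M [⋀^Fin n]→ₗ[R] P) (u : M) (v w : Fin n → M × R)
    (h : ∀ i, (v i).2 = (w i).2 ∧ (v i).1 - (w i).1 ∈ Submodule.span R {u}) : G0 A u v = G0 A u w := by
  classical
  choose r hr using fun i => Submodule.mem_span_singleton.mp (h i).2
  have e1 : (fun i => (v i).1) = (fun i => (w i).1) + fun i => r i • u := by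
    funext i; simp [hr i]
  show A (fun i => (v i).1 + (v i).2 • u) - A (fun i => (v i).1) = A (fun i => (w i).1 + (w i).2 • u) - A (fun i => (w i).1)
  have e2 : (fun i => (v i).1 + (v i).2 • u) = (fun i => (w i).1) + fun i => (r i + (w i).2) • u := by
    funext i
    rw [Pi.add_apply, congrFun e1 i, Pi.add_apply, (h i).1, add_smul, add_assoc]
  rw [e1, e2, show (fun i => (w i).1 + (w i).2 • u) = (fun i => (w i).1) + fun i => (w i).2 • u from rfl,
    affine, affine, affine]
  simp only [add_smul, Finset.sum_add_distrib]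
  abel

noncomputable def G (A : M [⋀^Fin n]→ₗ[R] P) (u : M) : ((M ⧸ Submodule.span R {u}) × R) [⋀^Fin n]→ₗ[R] P where
  toFun v := G0 A u (liftQ u ∘ v)
  map_update_add' := by
    intro _ v i x y
    simp only [Function.comp_update]
    rw [← (G0 A u).map_update_add]
    refine G0_congr A u _ _ fun j => ?_
    rcases eq_or_ne j i with rfl | hj
    · simp only [Function.update_self]
      refine ⟨by simp [liftQ], ?_⟩
      rw [← Submodule.Quotient.eq]
      simp [liftQ]
    · simp [Function.update_of_ne hj]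
  map_update_smul' := by
    intro _ v i c x
    simp only [Function.comp_update]
    rw [← (G0 A u).map_update_smul]
    refine G0_congr A u _ _ fun j => ?_
    rcases eq_or_ne j i with rfl | hj
    · simp only [Function.update_self]
      refine ⟨by simp [liftQ], ?_⟩
      rw [← Submodule.Quotient.eq]
      simp [liftQ]
    · simp [Function.update_of_ne hj]
  map_eq_zero_of_eq' := by
    intro v i j h hij
    exact (G0 A u).map_eq_zero_of_eq _ (by simp [h]) hij

theorem G_mk (A : M [⋀^Fin n]→ₗ[R] P) (u : M) (η : Fin n → M) (c : Fin n → R) :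
    G A u (fun i => (Submodule.Quotient.mk (η i), c i)) = A (fun i => η i + c i • u) - A η := by
  show G0 A u _ = G0 A u (fun i => (η i, c i))
  refine G0_congr A u _ _ fun i => ⟨rfl, ?_⟩
  rw [← Submodule.Quotient.eq]
  simp [liftQ]

theorem prod_tmul {S : Type u} [CommRing S] [Algebra R S] {E : Type u} [Ring E] [Algebra R E] :
    ∀ {m : ℕ} (s : Fin m → S) (e : Fin m → E),
      (List.ofFn fun i => s i ⊗ₜ[R] e i).prod = (∏ i, s i) ⊗ₜ[R] (List.ofFn e).prod := by
  intro m
  induction m with
  | zero => intro s e; simp [Algebra.TensorProduct.one_def]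
  | succ m ih =>
    intro s e
    rw [List.ofFn_succ, List.prod_cons, ih, List.ofFn_succ, List.prod_cons, Fin.prod_univ_succ,
      Algebra.TensorProduct.tmul_mul_tmul]

theorem sq_zero (S : Type u) [CommRing S] [Algebra R S] (x : S ⊗[R] M) :
    ((ExteriorAlgebra.ι R (M := M)).baseChange S x) * ((ExteriorAlgebra.ι R (M := M)).baseChange S x) = 0 := by
  set f := (ExteriorAlgebra.ι R (M := M)).baseChange S
  have hanti : ∀ x y, f x * f y + f y * f x = 0 := by
    intro x
    induction x with
    | zero => simp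
    | add x x' hx hx' =>
      intro y
      have := congrArg₂ (· + ·) (hx y) (hx' y)
      simp only [add_zero] at this
      rw [← this, map_add, add_mul, mul_add]; abel
    | tmul s m =>
      intro y
      induction y with
      | zero => simp
      | add y y' hy hy' =>
        have := congrArg₂ (· + ·) hy hy'
        simp only [add_zero] at this
        rw [← this, map_add, mul_add, add_mul]; abel
      | tmul s' m' =>
        simp only [f, LinearMap.baseChange_tmul, Algebra.TensorProduct.tmul_mul_tmul]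
        rw [mul_comm s' s, ← TensorProduct.tmul_add, ExteriorAlgebra.ι_add_mul_swap, TensorProduct.tmul_zero]
  induction x with
  | zero => simp
  | tmul s m => simp [f]
  | add x y hx hy =>
    rw [map_add, mul_add, add_mul, add_mul, hx, hy, add_zero, zero_add, ← hanti y x]

end S7357aux

/-- Let p be a prime number, Λ → R a ring map with R of characteristic p, a ∈ R and S = R[x]/(x^p - a).
For every t ≥ 0 there is a canonical R-linear map Tr : Ω^{t+1}_{S/Λ} → Ω^{t+1}_{R/Λ} with η_1 ∧ … ∧
η_t ∧ x^i dx ↦ 0 for 0 ≤ i ≤ p - 2 and η_1 ∧ … ∧ η_t ∧ x^{p-1} dx ↦ η_1 ∧ … ∧ η_t ∧ da (η_j ∈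
Ω_{R/Λ}, pulled back to Ω_{S/Λ}), and Tr annihilates the image of S ⊗_R Ω^{t+1}_{R/Λ} →
Ω^{t+1}_{S/Λ}. (Existence of such a map is asserted; R-linearity is written through the R-action on
S.) -/
theorem result (p : ℕ) [Fact p.Prime] (Λ R : Type u) [CommRing Λ] [CommRing R] [Algebra Λ R]
    [CharP Λ p] [CharP R p] (a : R) (t : ℕ) :
    ∃ Tr : (⋀[AdjoinRoot (X ^ p - C a : R[X])]^(t + 1) (Ω[AdjoinRoot (X ^ p - C a : R[X])⁄Λ])) →+ (⋀[R]^(t + 1) (Ω[R⁄Λ])),
      (∀ (r : R) (ω : ⋀[AdjoinRoot (X ^ p - C a : R[X])]^(t + 1) (Ω[AdjoinRoot (X ^ p - C a : R[X])⁄Λ])),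
        Tr (algebraMap R (AdjoinRoot (X ^ p - C a : R[X])) r • ω) = r • Tr ω) ∧
      (∀ (η : Fin t → Ω[R⁄Λ]) (i : ℕ), i + 2 ≤ p →
        Tr (exteriorPower.ιMulti _ (t + 1) (Fin.snoc (fun j => KaehlerDifferential.map Λ Λ R (AdjoinRoot (X ^ p - C a : R[X])) (η j))
          (AdjoinRoot.root (X ^ p - C a) ^ i • KaehlerDifferential.D Λ _ (AdjoinRoot.root (X ^ p - C a))))) = 0) ∧
      (∀ (η : Fin t → Ω[R⁄Λ]),
        Tr (exteriorPower.ιMulti _ (t + 1) (Fin.snoc (fun j => KaehlerDifferential.map Λ Λ R (AdjoinRoot (X ^ p - C a : R[X])) (η j))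
          (AdjoinRoot.root (X ^ p - C a) ^ (p - 1) • KaehlerDifferential.D Λ _ (AdjoinRoot.root (X ^ p - C a))))) =
          exteriorPower.ιMulti R (t + 1) (Fin.snoc η (KaehlerDifferential.D Λ R a))) ∧
      (∀ (s : AdjoinRoot (X ^ p - C a : R[X])) (η : Fin (t + 1) → Ω[R⁄Λ]),
        Tr (s • exteriorPower.ιMulti _ (t + 1) (fun j => KaehlerDifferential.map Λ Λ R (AdjoinRoot (X ^ p - C a : R[X])) (η j))) = 0) := by
  classical
  have hp := (Fact.out : p.Prime)
  haveI : Nontrivial R := CharP.nontrivial_of_char_ne_one (R := R) hp.ne_one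
  set f := (X ^ p - C a : R[X]) with hf
  have hm : f.Monic := monic_X_pow_sub_C a hp.ne_zero
  have hdeg : f.natDegree = p := natDegree_X_pow_sub_C
  let S := AdjoinRoot f
  let x : S := AdjoinRoot.root f
  let u := KaehlerDifferential.D Λ R a
  let N := (Ω[R⁄Λ] ⧸ Submodule.span R {u}) × R
  let T := TensorProduct R S N
  -- the derivation
  haveI : IsScalarTower Λ S T := inferInstance
  let dR : Derivation Λ R T :=
    (((TensorProduct.mk R S N 1).comp (LinearMap.inl R _ R)).comp (Submodule.mkQ _)).compDer (KaehlerDifferential.D Λ R)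
  haveI : IsCentralScalar S T := inferInstance
  let i0 : R →+* TrivSqZeroExt S T :=
    { toFun := fun r => ((algebraMap R S r, dR r) : S × T)
      map_one' := TrivSqZeroExt.ext (map_one _) (Derivation.map_one_eq_zero dR)
      map_mul' := fun r r' => TrivSqZeroExt.ext (map_mul _ r r') (by
        show dR (r * r') = algebraMap R S r • dR r' + MulOpposite.op (algebraMap R S r') • dR r
        rw [Derivation.leibniz, op_smul_eq_smul, algebraMap_smul, algebraMap_smul])
      map_zero' := TrivSqZeroExt.ext (map_zero _) (map_zero dR)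
      map_add' := fun r r' => TrivSqZeroExt.ext (map_add _ r r') (map_add dR r r') }
  have hi0f : ∀ r, (i0 r).fst = algebraMap R S r := fun _ => rfl
  have hi0s : ∀ r, (i0 r).snd = dR r := fun _ => rfl
  let e : T := (1 : S) ⊗ₜ[R] ((0, 1) : N)
  let X1 : TrivSqZeroExt S T := TrivSqZeroExt.inl x + TrivSqZeroExt.inr e
  have hX1 : f.eval₂ i0 X1 = 0 := by
    have hxa : x ^ p = algebraMap R S a := by
      have := AdjoinRoot.aeval_eq (f := f) f
      rw [AdjoinRoot.mk_self] at this
      simpa [hf, x, S, sub_eq_zero, AdjoinRoot.algebraMap_eq] using this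
    have hcp : (p : S) = 0 := by
      rw [← map_natCast (algebraMap R S), CharP.cast_eq_zero, map_zero]
    simp only [hf, eval₂_sub, eval₂_X_pow, eval₂_C]
    ext
    · simp [X1, hi0f, hxa]
    · have hda : dR a = 0 := by
        simp [dR, u, (Submodule.Quotient.mk_eq_zero _).mpr (Submodule.mem_span_singleton_self u)]
      simp [X1, hi0s, hda, ← Nat.cast_smul_eq_nsmul S p, hcp]
  let Ψ : S →+* TrivSqZeroExt S T := AdjoinRoot.lift i0 X1 hX1
  have hfst : ∀ s : S, (Ψ s).fst = s := by
    intro s
    have : (TrivSqZeroExt.fstHom S S T).toRingHom.comp Ψ = RingHom.id S := by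
      refine AdjoinRoot.ringHom_ext ?_ ?_
      · refine RingHom.ext fun r => ?_
        show (Ψ (AdjoinRoot.of f r)).fst = AdjoinRoot.of f r
        rw [show Ψ (AdjoinRoot.of f r) = i0 r from AdjoinRoot.lift_of _, hi0f]
        rfl
      · show (Ψ (AdjoinRoot.root f)).fst = AdjoinRoot.root f
        rw [show Ψ (AdjoinRoot.root f) = X1 from AdjoinRoot.lift_root _]
        show x + 0 = x
        exact add_zero x
    exact RingHom.congr_fun this s
  have hΨR : ∀ r : R, (Ψ (algebraMap R S r)).snd = dR r := fun r => by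
    rw [AdjoinRoot.algebraMap_eq, AdjoinRoot.lift_of]; exact hi0s r
  have hΨx : (Ψ x).snd = e := by
    rw [show Ψ x = X1 from AdjoinRoot.lift_root _]; show 0 + e = e; exact zero_add e
  let dS : Derivation Λ S T :=
    { toFun := fun s => (Ψ s).snd
      map_add' := fun s s' => by simp
      map_smul' := fun l s => by
        rw [RingHom.id_apply, Algebra.smul_def, map_mul, TrivSqZeroExt.snd_mul, hfst, hfst,
          IsScalarTower.algebraMap_apply Λ R S, hΨR, Derivation.map_algebraMap, smul_zero, add_zero, algebraMap_smul, algebraMap_smul]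
      map_one_eq_zero' := by show (Ψ 1).snd = 0; simp
      leibniz' := fun s s' => by
        show (Ψ (s * s')).snd = _
        rw [map_mul, TrivSqZeroExt.snd_mul, hfst, hfst, op_smul_eq_smul]
        rfl }
  let δ : Ω[S⁄Λ] →ₗ[S] T := dS.liftKaehlerDifferential
  let E := TensorProduct R S (ExteriorAlgebra R N)
  let ι' : T →ₗ[S] E := (ExteriorAlgebra.ι R (M := N)).baseChange S
  let L : ExteriorAlgebra S (Ω[S⁄Λ]) →ₐ[S] E :=
    ExteriorAlgebra.lift S ⟨ι'.comp δ, fun m => S7357aux.sq_zero (R := R) S (δ m)⟩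
  let A := exteriorPower.ιMulti R (t + 1) (M := Ω[R⁄Λ])
  let G' : ExteriorAlgebra R N →ₗ[R] ⋀[R]^(t + 1) (Ω[R⁄Λ]) :=
    ExteriorAlgebra.liftAlternating (R := R) (Function.update 0 (t + 1) (S7357aux.G A u))
  let lam : S →ₗ[R] R := (Polynomial.lcoeff R (p - 1)).comp (AdjoinRoot.modByMonicHom hm)
  let Pr : E →ₗ[R] ⋀[R]^(t + 1) (Ω[R⁄Λ]) :=
    (TensorProduct.lid R _).toLinearMap.comp (TensorProduct.map lam G')
  let Tr : (⋀[S]^(t + 1) (Ω[S⁄Λ])) →+ ⋀[R]^(t + 1) (Ω[R⁄Λ]) :=
    { toFun := fun ω => Pr (L ω.1)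
      map_zero' := by simp
      map_add' := fun x y => by simp }
  have hcomp : ∀ (s0 : S) (v : Fin (t + 1) → Ω[S⁄Λ]) (s : Fin (t + 1) → S) (η : Fin (t + 1) → Ω[R⁄Λ]) (c : Fin (t + 1) → R),
      (∀ i, δ (v i) = s i ⊗ₜ[R] ((Submodule.Quotient.mk (η i), c i) : N)) →
      Tr (s0 • exteriorPower.ιMulti S (t + 1) v) = lam (s0 * ∏ i, s i) • (A (fun i => η i + c i • u) - A η) := by
    intro s0 v s η c h
    show Pr (L (s0 • ExteriorAlgebra.ιMulti S (t + 1) v)) = _
    have h1 : L (ExteriorAlgebra.ιMulti S (t + 1) v) =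
        (∏ i, s i) ⊗ₜ[R] ExteriorAlgebra.ιMulti R (t + 1) (fun i => ((Submodule.Quotient.mk (η i), c i) : N)) := by
      rw [ExteriorAlgebra.ιMulti_apply, ExteriorAlgebra.ιMulti_apply, map_list_prod, List.map_ofFn]
      rw [← S7357aux.prod_tmul]
      congr 2
      funext i
      simp [L, ι', h i]
      rfl
    rw [map_smul, h1, TensorProduct.smul_tmul', smul_eq_mul]
    show lam (s0 * ∏ i, s i) • G' (ExteriorAlgebra.ιMulti R (t + 1) fun i => ((Submodule.Quotient.mk (η i), c i) : N)) = _
    simp only [G']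
    rw [ExteriorAlgebra.liftAlternating_apply_ιMulti, Function.update_self, S7357aux.G_mk]
  have hδmap : ∀ η : Ω[R⁄Λ], δ (KaehlerDifferential.map Λ Λ R S η) = (1 : S) ⊗ₜ[R] ((Submodule.Quotient.mk η, 0) : N) := by
    have : ((δ.restrictScalars R).comp (KaehlerDifferential.map Λ Λ R S)) =
        ((TensorProduct.mk R S N 1).comp (LinearMap.inl R _ R)).comp (Submodule.mkQ _) := by
      refine Derivation.liftKaehlerDifferential_unique _ _ ?_
      ext r
      show δ (KaehlerDifferential.map Λ Λ R S (KaehlerDifferential.D Λ R r)) = dR r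
      rw [KaehlerDifferential.map_D, Derivation.liftKaehlerDifferential_comp_D]
      exact hΨR r
    exact LinearMap.congr_fun this
  have hδx : ∀ i : ℕ, δ (x ^ i • KaehlerDifferential.D Λ S x) = (x ^ i) ⊗ₜ[R] ((0, 1) : N) := by
    intro i
    rw [map_smul, Derivation.liftKaehlerDifferential_comp_D]
    show x ^ i • (Ψ x).snd = _
    rw [hΨx]
    show (x ^ i • (1 : S)) ⊗ₜ[R] ((0, 1) : N) = _
    rw [smul_eq_mul, mul_one]
  have hlam : ∀ i < p, lam (x ^ i) = if i = p - 1 then 1 else 0 := by
    intro i hi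
    show (AdjoinRoot.modByMonicHom hm (AdjoinRoot.root f ^ i)).coeff (p - 1) = _
    rw [show AdjoinRoot.root f ^ i = AdjoinRoot.mk f (X ^ i) by simp, AdjoinRoot.modByMonicHom_mk,
      (Polynomial.modByMonic_eq_self_iff hm).mpr (by
        rw [degree_X_pow, degree_eq_natDegree hm.ne_zero, hdeg]; exact_mod_cast hi), coeff_X_pow]
    simp [eq_comm]
  have hsn : ∀ (η : Fin t → Ω[R⁄Λ]) (i : ℕ), i < p →
      Tr (exteriorPower.ιMulti S (t + 1) (Fin.snoc (fun j => KaehlerDifferential.map Λ Λ R S (η j))
          (x ^ i • KaehlerDifferential.D Λ S x))) = lam (x ^ i) • A (Fin.snoc η u) := by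
    intro η i hi
    have h := hcomp 1 (Fin.snoc (fun j => KaehlerDifferential.map Λ Λ R S (η j)) (x ^ i • KaehlerDifferential.D Λ S x))
      (Fin.snoc (fun _ => 1) (x ^ i)) (Fin.snoc η 0) (Fin.snoc (fun _ => 0) 1) (fun j => by
        refine Fin.lastCases ?_ (fun j => ?_) j
        · simp only [Fin.snoc_last]; exact hδx i
        · simp only [Fin.snoc_castSucc]; exact hδmap _)
    rw [one_smul, one_mul, Fin.prod_snoc, Finset.prod_const_one, one_mul] at h
    rw [h]
    congr 1
    rw [A.map_coord_zero (m := Fin.snoc η 0) (Fin.last t) (by simp), sub_zero]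
    congr 1
    funext j
    refine Fin.lastCases ?_ (fun j => ?_) j <;> simp
  refine ⟨Tr, fun r ω => ?_, fun η i hi => ?_, fun η => ?_, fun s η => ?_⟩
  · show Pr (L (algebraMap R S r • ω.1)) = r • Pr (L ω.1)
    rw [map_smul, algebraMap_smul, map_smul]
  · rw [hsn η i (by omega), hlam i (by omega), if_neg (by omega), zero_smul]
  · rw [hsn η (p - 1) (by have := hp.pos; omega), hlam _ (by have := hp.pos; omega), if_pos rfl, one_smul]
  · have h := hcomp s (fun j => KaehlerDifferential.map Λ Λ R S (η j)) (fun _ => 1) η (fun _ => 0) (fun j => hδmap _)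
    rw [h]
    simp

end Groth.Agent.S7357
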