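import Groth.Statements.S7358
import Groth.Agent.Resolve13.StrictLength

set_option autoImplicit false
universe u
open CategoryTheory CategoryTheory.Limits AlgebraicGeometry
open Resolve

open Groth.Agent.Misc15.DivDescent Groth.Agent.SDiv28.CartierPart Groth.Agent.Resolve13

namespace Groth.Agent.S7358

/-- Let X be a locally Noetherian scheme, Y and Z closed subschemes with ideal sheaves I_Y and I_Z, p a
closed point lying on Y and on Z, with Y integral of dimension one, the generic point of Y not on Z,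
and O_{Y,p} regular; the multiplicity m_p(Y ∩ Z) is the length of the local ring of Y ∩ Z (ideal I_Y
+ I_Z) at p. Let b : X' → X be the blowing up of X at p (in the reduced point), E its exceptional
divisor, and Y', Z' ⊂ X' the strict transforms of Y and Z, i.e. the closed subschemes whose ideals
are the kernels of b^{-1}(Y) ∖ E → X' and b^{-1}(Z) ∖ E → X'. Then (1) b induces an isomorphism Y' ≅
Y; (2) Y' meets E in exactly one point q, and m_q(Y' ∩ E) = 1; (3) if moreover q ∈ Z', then m_q(Y' ∩
Z') < m_p(Y ∩ Z). -/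
theorem result (X : Scheme.{u}) [IsLocallyNoetherian X]
    (IY IZ : X.IdealSheafData) [IsIntegral IY.subscheme] (hdimY : topologicalKrullDim ↥IY.subscheme = 1)
    (p : X) (hp : IsClosed ({p} : Set X)) (hpY : p ∈ (IY.support : Set X)) (hpZ : p ∈ (IZ.support : Set X))
    (hgen : IY.subschemeι.base (genericPoint ↥IY.subscheme) ∉ (IZ.support : Set X))
    (hreg : ∀ y : ↥IY.subscheme, IY.subschemeι.base y = p → IsRegularLocalRing (IY.subscheme.presheaf.stalk y))
    (X' : Scheme.{u}) (b : X' ⟶ X) (hb : BlowUp.IsBlowUp b (Scheme.IdealSheafData.vanishingIdeal ⟨{p}, hp⟩))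
    (IY' IZ' : X'.IdealSheafData)
    (hY' : IY' = Scheme.Hom.ker ((((IY.comap b).subschemeι ⁻¹ᵁ
        (BlowUp.exceptional b (Scheme.IdealSheafData.vanishingIdeal ⟨{p}, hp⟩)).support.compl).ι) ≫ (IY.comap b).subschemeι))
    (hZ' : IZ' = Scheme.Hom.ker ((((IZ.comap b).subschemeι ⁻¹ᵁ
        (BlowUp.exceptional b (Scheme.IdealSheafData.vanishingIdeal ⟨{p}, hp⟩)).support.compl).ι) ≫ (IZ.comap b).subschemeι)) :
    (∃ e : IY'.subscheme ≅ IY.subscheme, e.hom ≫ IY.subschemeι = IY'.subschemeι ≫ b) ∧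
    (∃ q : X', {x : X' | x ∈ (IY'.support : Set X') ∧
          x ∈ ((BlowUp.exceptional b (Scheme.IdealSheafData.vanishingIdeal ⟨{p}, hp⟩)).support : Set X')} = {q} ∧
      (∀ q1 : ↥(IY' ⊔ BlowUp.exceptional b (Scheme.IdealSheafData.vanishingIdeal ⟨{p}, hp⟩)).subscheme,
          (IY' ⊔ BlowUp.exceptional b (Scheme.IdealSheafData.vanishingIdeal ⟨{p}, hp⟩)).subschemeι.base q1 = q →
          Module.length
            ((IY' ⊔ BlowUp.exceptional b (Scheme.IdealSheafData.vanishingIdeal ⟨{p}, hp⟩)).subscheme.presheaf.stalk q1)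
            ((IY' ⊔ BlowUp.exceptional b (Scheme.IdealSheafData.vanishingIdeal ⟨{p}, hp⟩)).subscheme.presheaf.stalk q1) = 1) ∧
      (q ∈ (IZ'.support : Set X') →
        ∀ (q0 : ↥(IY ⊔ IZ).subscheme) (q1 : ↥(IY' ⊔ IZ').subscheme),
          (IY ⊔ IZ).subschemeι.base q0 = p → (IY' ⊔ IZ').subschemeι.base q1 = q →
          Module.length ((IY' ⊔ IZ').subscheme.presheaf.stalk q1) ((IY' ⊔ IZ').subscheme.presheaf.stalk q1) <
            Module.length ((IY ⊔ IZ).subscheme.presheaf.stalk q0) ((IY ⊔ IZ).subscheme.presheaf.stalk q0))) := by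
  let j := IY.subschemeι
  let Ip := Scheme.IdealSheafData.vanishingIdeal (X := X) ⟨{p}, hp⟩
  let IE := BlowUp.exceptional b Ip
  obtain ⟨y, rfl⟩ := IY.range_subschemeι.ge hpY
  haveI := hreg y rfl
  haveI : IsProper b := Groth.Agent.BlowUpLib.isProper_of_isBlowUp hb (Groth.Agent.FlatMorAdm.isFiniteTypeIdeal_of_noetherian _)
  haveI : IsLocallyNoetherian X' := LocallyOfFiniteType.isLocallyNoetherian b
  haveI : IsLocallyNoetherian IY.subscheme := LocallyOfFiniteType.isLocallyNoetherian IY.subschemeι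
  obtain ⟨hy', s, hscl, hs, hy0, hEs, hdvr⟩ := exists_curve_lift j hdimY y hp b hb
  haveI := hscl
  haveI := hdvr
  have hsupp : (Ip.support : Set X) = {j y} := Scheme.IdealSheafData.coe_support_vanishingIdeal _
  have hkerj : j.ker = IY := Scheme.IdealSheafData.ker_subschemeι IY
  have hY : IY' = s.ker := by
    have hη : j (genericPoint ↥IY.subscheme) ∉ Ip.support := fun h => hy0
      (j.isClosedEmbedding.injective (Set.mem_singleton_iff.1 (hsupp.le h))).symm
    have h := ker_strict_eq hb j s hs hη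
    rw [hkerj] at h
    rw [hY']
    exact h
  have hYsupp : (IY'.support : Set X') = Set.range s.base := by
    rw [hY, Scheme.Hom.support_ker]
    exact s.isClosedEmbedding.isClosed_range.closure_eq
  have hEsupp : ∀ w : X', w ∈ (IE.support : Set X') ↔ b w = j y := fun w => by
    show w ∈ ((Ip.comap b).support : Set X') ↔ _
    rw [Scheme.IdealSheafData.support_comap]
    exact ⟨fun h => Set.mem_singleton_iff.1 (hsupp.le h), fun h => hsupp.ge h⟩
  have hstk : stk (IE.comap s) y = IsLocalRing.maximalIdeal (IY.subscheme.presheaf.stalk y) := by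
    rw [show IE.comap s = Scheme.IdealSheafData.vanishingIdeal ⟨{y}, hy'⟩ from hEs]
    exact Groth.Agent.Models7.stk_vanishingIdeal_point y hy'
  refine ⟨?_, s y, ?_, ?_, ?_⟩
  · -- the isomorphism
    subst hY
    refine ⟨(asIso s.toImage).symm, ?_⟩
    show inv s.toImage ≫ j = s.imageι ≫ b
    rw [IsIso.inv_comp_eq, ← Category.assoc, Scheme.Hom.toImage_imageι, hs]
  · refine Set.eq_singleton_iff_unique_mem.2 ⟨⟨hYsupp.ge ⟨y, rfl⟩, (hEsupp _).2 (by rw [← Scheme.Hom.comp_apply, hs])⟩, ?_⟩
    rintro w ⟨hwY, hwE⟩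
    obtain ⟨a, rfl⟩ := hYsupp.le hwY
    have h := (hEsupp _).1 hwE
    rw [← Scheme.Hom.comp_apply, hs] at h
    rw [j.isClosedEmbedding.injective h]
  · intro q1 hq1
    rw [length_subscheme_eq s _ (by rw [← hY]; exact le_sup_left) y q1 hq1, Scheme.IdealSheafData.comap_sup, hY,
      comap_ker_self, bot_sup_eq, hstk]
    have h := IsDiscreteValuationRing.length_quotient_pow_maximalIdeal (IY.subscheme.presheaf.stalk y) 1
    rwa [pow_one] at h
  · intro hqZ q0 q1 hq0 hq1
    rw [length_subscheme_eq j _ (hkerj.le.trans le_sup_left) y q0 hq0,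
      length_subscheme_eq s _ (by rw [← hY]; exact le_sup_left) y q1 hq1,
      Scheme.IdealSheafData.comap_sup, Scheme.IdealSheafData.comap_sup, hY, comap_ker_self, bot_sup_eq,
      show IY.comap j = ⊥ from (congrArg (fun J : X.IdealSheafData => J.comap j) hkerj.symm).trans (comap_ker_self j), bot_sup_eq]
    have hleE : IZ.comap b ≤ IE := Scheme.IdealSheafData.comap_mono b
      (Scheme.IdealSheafData.le_support_iff_le_vanishingIdeal.1 (Set.singleton_subset_iff.2 hpZ))
    have hle : stk (IZ.comap j) y ≤ IsLocalRing.maximalIdeal (IY.subscheme.presheaf.stalk y) * stk (IZ'.comap s) y := by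
      rw [← hstk, ← hs, Scheme.IdealSheafData.comap_comp, stk_comap (IZ.comap b) s y, stk_comap IE s y, stk_comap IZ' s y, hZ', ← Ideal.map_mul]
      exact Ideal.map_mono (stk_comap_le_mul b IZ IE hb.1 hleE (s y))
    have hne : stk (IZ.comap j) y ≠ ⊥ := stk_ne_bot _ (ne_bot_of_notMem _ (x := genericPoint ↥IY.subscheme) (fun h => hgen (by
      have h' : genericPoint ↥IY.subscheme ∈ ((IZ.comap j).support : Set ↥IY.subscheme) := h
      rw [Scheme.IdealSheafData.support_comap] at h'
      exact h'))) y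
    obtain ⟨ϖ, hϖ⟩ := IsDiscreteValuationRing.exists_irreducible (IY.subscheme.presheaf.stalk y)
    obtain ⟨a, ha⟩ := IsDiscreteValuationRing.ideal_eq_span_pow_irreducible hne hϖ
    have hne' : stk (IZ'.comap s) y ≠ ⊥ := fun h => hne (le_bot_iff.1 (hle.trans (by rw [h, Ideal.mul_bot])))
    obtain ⟨c, hc⟩ := IsDiscreteValuationRing.ideal_eq_span_pow_irreducible hne' hϖ
    rw [← Ideal.span_singleton_pow, ← hϖ.maximalIdeal_eq] at ha hc
    rw [ha, hc, ← pow_succ'] at hle
    rw [ha, hc, IsDiscreteValuationRing.length_quotient_pow_maximalIdeal,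
      IsDiscreteValuationRing.length_quotient_pow_maximalIdeal]
    have hac : c + 1 ≤ a := by
      by_contra hlt
      have h1 : IsLocalRing.maximalIdeal (IY.subscheme.presheaf.stalk y) ^ a ≤ IsLocalRing.maximalIdeal (IY.subscheme.presheaf.stalk y) ^ (a + 1) :=
        hle.trans (Ideal.pow_le_pow_right (by omega))
      rw [hϖ.maximalIdeal_eq, Ideal.span_singleton_pow, Ideal.span_singleton_pow, Ideal.span_singleton_le_span_singleton,
        pow_dvd_pow_iff hϖ.ne_zero hϖ.not_isUnit] at h1
      omega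
    exact_mod_cast hac

end Groth.Agent.S7358
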