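import Groth.Statements.S7360
import Groth.Agent.S7299
import Groth.Agent.Resolve13.RatExt
import Groth.Agent.ExcC13.Stalks
import Groth.Agent.Models7.PointBlowUpIso
import Groth.Agent.FlatMor12.FibreProp
import Groth.Agent.Resolve13.StrictLength
import Groth.Agent.Resolve13.CurveBlowUp
import Groth.Agent.CommAlg4.RatSingRegular
import Groth.Agent.SDiv28.BlowUp
import Groth.Agent.Inters29.Class
import Groth.Agent.CurvesLib24.Basic
import Groth.Agent.VarietyLib.DivisorGlue
import Groth.Agent.CurveRR24.Sky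

set_option autoImplicit false
set_option linter.style.haveILetI false
set_option backward.isDefEq.respectTransparency false
set_option maxHeartbeats 2000000
universe u
open CategoryTheory CategoryTheory.Limits AlgebraicGeometry
open Resolve TopologicalSpace Opposite Groth.Agent.Misc15.DivDescent

namespace Groth.Agent.S7360

/-- Let (A, m) be a regular local ring of dimension two, X → Spec A (the structure morphism) the blowing
up in m with exceptional divisor E and its ideal I_E, and I an ideal of A with m^n ⊆ I ⊆ m for some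
n. Let d be the largest integer with I O_X ⊆ O_X(-dE) = I_E^d and I' ⊆ O_X the ideal with I O_X = I'
· I_E^d (so I' = I O_X(dE)). Then d > 0, O_X/I' is supported in finitely many closed points x_1, …,
x_r, and length_A(A/I) > length_A Γ(X, O_X/I') ≥ Σ_i length_{O_{X,x_i}}(O_{X,x_i}/I'_{x_i}), the sum
written as a finite sum over the points of the subscheme defined by I'. -/
theorem result (A : Type u) [CommRing A] [IsRegularLocalRing A] (hA : ringKrullDim A = 2)
    (X : Scheme.{u}) [X.Over (Spec (CommRingCat.of A))]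
    (hb : BlowUp.IsBlowUp (X ↘ Spec (CommRingCat.of A)) (Curv2.idealSheaf A (IsLocalRing.maximalIdeal A)))
    (I : Ideal A) (n : ℕ) (hIn : IsLocalRing.maximalIdeal A ^ n ≤ I) (hIm : I ≤ IsLocalRing.maximalIdeal A)
    (d : ℕ) (I' : X.IdealSheafData)
    (hd : (Curv2.idealSheaf A I).comap (X ↘ Spec (CommRingCat.of A)) =
      I' * BlowUp.exceptional (X ↘ Spec (CommRingCat.of A)) (Curv2.idealSheaf A (IsLocalRing.maximalIdeal A)) ^ d)
    (hmax : ¬ (Curv2.idealSheaf A I).comap (X ↘ Spec (CommRingCat.of A)) ≤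
      BlowUp.exceptional (X ↘ Spec (CommRingCat.of A)) (Curv2.idealSheaf A (IsLocalRing.maximalIdeal A)) ^ (d + 1)) :
    0 < d ∧ (I'.support : Set X).Finite ∧ (∀ x ∈ (I'.support : Set X), IsClosed ({x} : Set X)) ∧
      Module.length A (Coh.HH X (ClSub.quotMod I') 0) < Module.length A (A ⧸ I) ∧
      ∑ᶠ x : ↥I'.subscheme, Module.length (I'.subscheme.presheaf.stalk x) (I'.subscheme.presheaf.stalk x) ≤
        Module.length A (Coh.HH X (ClSub.quotMod I') 0) := by
  let b := X ↘ Spec (CommRingCat.of A)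
  let m := IsLocalRing.maximalIdeal A
  let Im := Curv2.idealSheaf A m
  let Ex := BlowUp.exceptional b Im
  let J := (Curv2.idealSheaf A I).comap b
  haveI : IsDomain A := CAlgH3.isDomain_of_isRegularLocalRing A
  haveI := CAlgH3.ufm_of_regular A
  haveI : IsIntegrallyClosed A := inferInstance
  haveI : IsIntegrallyClosed ↑(CommRingCat.of A) := ‹IsIntegrallyClosed A›
  haveI : IsProper b := BlowUpLib.isProper_of_isBlowUp hb (FlatMorAdm.isFiniteTypeIdeal_of_noetherian _)
  haveI : IsLocallyNoetherian X := LocallyOfFiniteType.isLocallyNoetherian b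
  haveI : CompactSpace X := QuasiCompact.compactSpace_of_compactSpace b
  haveI : AlgebraicGeometry.IsNoetherian X := {}
  -- the exceptional curve
  obtain ⟨E, ι, hι, hE, z₀, hz₀, hr, hker, -⟩ := Resolve13.exists_exc_spec hA hb
  haveI := hι
  have hm0 : m ≠ ⊥ := fun h => by
    have := IsLocalRing.isField_iff_maximalIdeal_eq.2 h
    rw [ringKrullDim_eq_zero_of_isField this] at hA
    exact absurd hA (by decide)
  have hη : genericPoint (Spec (CommRingCat.of A)) ∈ Im.support.compl := fun h => hm0 (by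
    have h' : genericPoint (Spec (CommRingCat.of A)) ∈ (Im.support : Set _) := h
    rw [show (Im.support : Set (Spec (CommRingCat.of A))) = PrimeSpectrum.zeroLocus (m : Set A) from
      CAlgH3.BlowUpCd.support_idealSheaf m] at h'
    refine le_bot_iff.1 fun a ha => ?_
    have hP : (genericPoint (Spec (CommRingCat.of A))).asIdeal = ⊥ := by
      rw [genericPoint_eq_bot_of_affine]; rfl
    exact hP.le (h' ha))
  haveI : IsIntegral X := Resolve13.isIntegral_blowUp hb hη
  have hbir : ∃ V : (Spec (CommRingCat.of A)).Opens, (V : Set (Spec (CommRingCat.of A))).Nonempty ∧ IsIso (b ∣_ V) :=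
    ⟨_, ⟨_, hη⟩, SDiv28.isIso_off_center hb⟩
  have hEc : ∀ e, BlowUp.IsEffCartierIdeal (Ex ^ e) := fun e => Inters29.isEffCartier_pow hb.1 e
  -- `d` is positive
  have hd0 : 0 < d := Nat.pos_of_ne_zero fun h => hmax (by
    rw [h, zero_add, pow_one]
    refine Scheme.IdealSheafData.comap_mono _ ?_
    refine Scheme.IdealSheafData.le_of_isAffine ?_
    rw [Resolve13.RatExt.ideal_top, Resolve13.RatExt.ideal_top]
    exact Ideal.map_mono hIm)
  -- stalks
  have hJstk : ∀ x, stk J x = stk I' x * stk (Ex ^ d) x := fun x => by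
    rw [← SDiv28.CartierPart.stk_mul]
    exact congrArg (fun K => stk K x) hd
  have hsuppJ : (I'.support : Set X) ⊆ (Ex.support : Set X) := fun x hx => by
    by_contra hxE
    have hn : n ≠ 0 := fun h => by
      rw [h, pow_zero, Ideal.one_eq_top, top_le_iff] at hIn
      exact (IsLocalRing.maximalIdeal.isMaximal A).ne_top (top_le_iff.1 (hIn ▸ hIm))
    have h1 : Ex ^ n ≤ J := by
      rw [show Ex ^ n = (Im ^ n).comap b from (FSchLib.comap_pow b Im n).symm]
      refine Scheme.IdealSheafData.comap_mono b ?_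
      refine Scheme.IdealSheafData.le_of_isAffine ?_
      rw [Scheme.IdealSheafData.ideal_pow, Pi.pow_apply, Resolve13.RatExt.ideal_top, Resolve13.RatExt.ideal_top, ← Ideal.map_pow]
      exact Ideal.map_mono hIn
    have h2 : stk I' x = ⊤ := top_le_iff.1 <| by
      have h3 := Resolve13.stk_mono h1 x
      rw [SDiv28.CartierPart.stk_pow, SDiv28.CartierPart.stk_eq_top hxE, hJstk x,
        show (⊤ : Ideal (X.presheaf.stalk x)) ^ n = ⊤ by rw [← Ideal.one_eq_top, one_pow]] at h3
      exact h3.trans Ideal.mul_le_left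
    have h4 := (SDiv28.CartierPart.mem_support_iff_stk I' x).1 hx
    rw [h2, top_le_iff] at h4
    exact (IsLocalRing.maximalIdeal.isMaximal _).ne_top h4
  have hrange : (Ex.support : Set X) = Set.range ι.base := by
    rw [show Ex = ι.ker from hker.symm, Scheme.Hom.support_ker]
    exact ι.isClosedEmbedding.isClosed_range.closure_eq
  obtain ⟨-, k₀, _, eP, -⟩ := id hE
  haveI := CurveLib.isIntegral_projSpace k₀ 1
  haveI : Nonempty E := ⟨eP.hom (genericPoint _)⟩
  haveI : IsIntegral E := isIntegral_of_isOpenImmersion eP.inv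
  have hEdim : topologicalKrullDim E ≤ 1 := by
    rw [← eP.hom.homeomorph.isHomeomorph.topologicalKrullDim_eq]
    simpa using (DimLib.PN.topologicalKrullDim_projSpace 1 k₀).le
  have hclosed : ∀ x ∈ (I'.support : Set X), IsClosed ({x} : Set X) := fun x hx => by
    obtain ⟨a, rfl⟩ := hrange.le (hsuppJ hx)
    rcases CurvesLib24.eq_genericPoint_or_isClosed hEdim a with ha | ha
    swap
    · have h := ι.isClosedEmbedding.isClosedMap _ ha
      rwa [Set.image_singleton] at h
    exfalso
    subst ha
    refine hmax ?_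
    have h0 : I'.comap ι = ⊥ := by
      have hs : (I'.comap ι).support = ⊤ := by
        refine TopologicalSpace.Closeds.ext (Set.eq_univ_of_forall fun w => ?_)
        exact (genericPoint_specializes w).mem_closed (I'.comap ι).support.isClosed
          (by rw [Scheme.IdealSheafData.support_comap]; exact hx)
      have h1 := Scheme.IdealSheafData.le_support_iff_le_vanishingIdeal.1 hs.ge
      rw [Scheme.IdealSheafData.vanishingIdeal_top, Scheme.nilradical_eq_bot] at h1
      exact le_bot_iff.1 h1
    have hle : I' ≤ Ex := (Resolve13.le_ker_of_comap_eq_bot ι I' h0).trans hker.le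
    rw [hd, pow_succ' Ex d]
    intro U
    rw [Scheme.IdealSheafData.ideal_mul, Scheme.IdealSheafData.ideal_mul, Pi.mul_apply, Pi.mul_apply]
    exact Ideal.mul_mono_left (hle U)
  have hfin : (I'.support : Set X).Finite := VarietyLib.finite_of_forall_isClosed I'.support.isClosed hclosed
  refine ⟨hd0, hfin, hclosed, ?_⟩
  let Z := I'.subscheme
  let ιZ := I'.subschemeι
  haveI hZfin : Finite Z := by
    haveI := hfin.to_subtype
    exact Finite.of_injective (fun z : Z => (⟨ιZ z, I'.range_subschemeι.le ⟨z, rfl⟩⟩ : (I'.support : Set X)))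
      fun a c h => ιZ.isClosedEmbedding.injective (congrArg Subtype.val h)
  haveI : Fintype Z := Fintype.ofFinite Z
  have hZpt : ∀ z : Z, IsClosed ({z} : Set Z) := fun z => by
    have h := (hclosed _ (I'.range_subschemeι.le ⟨z, rfl⟩)).preimage ιZ.continuous
    rwa [show ιZ ⁻¹' {ιZ z} = {z} from ιZ.isClosedEmbedding.injective.preimage_image (s := {z}) |> fun h => by simpa using h] at h
  haveI : T1Space Z := ⟨hZpt⟩
  -- scalars
  let pr : A →+* Γ(Z, ιZ ⁻¹ᵁ ⊤) := (ιZ.app ⊤).hom.comp (Coh.toGlobal b)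
  let gz : ∀ z : Z, A →+* Z.presheaf.stalk z := fun z =>
    (Z.presheaf.germ (ιZ ⁻¹ᵁ ⊤) z trivial).hom.comp pr
  have hgz : ∀ (z : Z) (a : A), gz z a = ιZ.stalkMap z (X.presheaf.germ ⊤ (ιZ z) trivial (Coh.toGlobal b a)) :=
    fun z a => (Scheme.Hom.germ_stalkMap_apply ιZ ⊤ z trivial (Coh.toGlobal b a)).symm
  letI : ∀ z : Z, Algebra A (Z.presheaf.stalk z) := fun z => (gz z).toAlgebra
  letI : Algebra A Γ(Z, ιZ ⁻¹ᵁ ⊤) := pr.toAlgebra
  -- sections of the finite scheme
  let ev : Γ(Z, ιZ ⁻¹ᵁ ⊤) →ₗ[A] ∀ z : Z, Z.presheaf.stalk z :=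
    { toFun := fun s z => Z.presheaf.germ (ιZ ⁻¹ᵁ ⊤) z trivial s
      map_add' := fun s t => funext fun z => map_add _ s t
      map_smul' := fun a s => funext fun z => map_mul _ (pr a) s }
  have hev : Function.Bijective ev := by
    refine ⟨fun s t h => TopCat.Presheaf.section_ext Z.sheaf _ s t fun z _ => congrFun h z, fun s => ?_⟩
    let W : Z → Z.Opens := fun z => ⟨{z}, isOpen_discrete _⟩
    choose V hV σ hσ using fun z => Z.presheaf.exists_germ_eq (s z)
    have hWV : ∀ z, W z ≤ V z := fun z w hw => (Set.mem_singleton_iff.1 hw) ▸ hV z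
    obtain ⟨g, hg, -⟩ := TopCat.Sheaf.existsUnique_gluing' Z.sheaf W (ιZ ⁻¹ᵁ ⊤) (fun _ => homOfLE fun _ _ => trivial)
      (fun z _ => Opens.mem_iSup.2 ⟨z, rfl⟩) (fun z => Z.presheaf.map (homOfLE (hWV z)).op (σ z))
      (fun z w => by
        refine TopCat.Presheaf.section_ext Z.sheaf _ _ _ fun v hv => ?_
        obtain rfl : v = z := hv.1
        obtain rfl : v = w := hv.2
        rfl)
    refine ⟨g, funext fun z => ?_⟩
    show Z.presheaf.germ (ιZ ⁻¹ᵁ ⊤) z trivial g = s z
    erw [← TopCat.Presheaf.germ_res_apply Z.presheaf (homOfLE (show W z ≤ ιZ ⁻¹ᵁ ⊤ from fun _ _ => trivial)) z rfl g]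
    refine (congrArg (Z.presheaf.germ (W z) z rfl) (hg z)).trans ?_
    rw [TopCat.Presheaf.germ_res_apply]
    exact hσ z
  let eH : Coh.HH X (ClSub.quotMod I') 0 ≃ₗ[A] Γ(Z, ιZ ⁻¹ᵁ ⊤) :=
    { (CurveRR24.hhZero A (ClSub.quotMod I')).toAddEquiv with
      map_smul' := fun a x => (CurveRR24.hhZero A (ClSub.quotMod I')).map_smul a x }
  rw [eH.length_eq, (LinearEquiv.ofBijective ev hev).length_eq, Module.length_pi_of_fintype,
    finsum_eq_sum_of_fintype]
  refine ⟨?_, Finset.sum_le_sum fun z _ => ?_⟩
  swap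
  · have h := Submodule.length_le_length_restrictScalars A (⊤ : Submodule (Z.presheaf.stalk z) (Z.presheaf.stalk z))
    rw [Submodule.restrictScalars_top, Module.length_top, Module.length_top] at h
    exact h
  rw [← Module.length_pi_of_fintype]
  -- `H¹(J) = 0`
  obtain ⟨t, gx, hgx⟩ := Submodule.fg_iff_exists_fin_generating_family.1 (IsNoetherian.noetherian I)
  replace hgx : Ideal.span (Set.range gx) = I := hgx
  have hI : Resolve13.IdealPow.GenBy J (fun i => Coh.toGlobal b (gx i)) := fun W => by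
    rw [S7299.ideal_comap_eq b I W, ← hgx, Ideal.map_span, ← Set.range_comp]
    rfl
  have hv : Lipman24.NoH2 X := fun M hM =>
    haveI := hM; Resolve13.subsingleton_HH_of_modification b hA.le hbir M 2 le_rfl
  have hXn : Pi1.IsNormalScheme X := Models7.isNormalScheme_of_regular fun x => by
    by_cases hx : x ∈ (Ex.support : Set X)
    · obtain ⟨a, rfl⟩ := hrange.le hx
      exact (ExcC13.exists_stalk_param ι hE a).1
    · have hx' : b x ∈ Im.support.compl := fun h => hx (by
        rw [show (Ex.support : Set X) = b ⁻¹' (Im.support : Set _) from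
          congrArg (fun T : Closeds X => (T : Set X)) (Scheme.IdealSheafData.support_comap _ _)]
        exact h)
      haveI := SDiv28.isIso_off_center hb
      have hi : IsIso ((b ∣_ Im.support.compl).stalkMap (⟨x, hx'⟩ : ↥(b ⁻¹ᵁ Im.support.compl))) := inferInstance
      haveI : IsIso (b.stalkMap x) := ((MorphismProperty.isomorphisms CommRingCat).arrow_mk_iso_iff
        (morphismRestrictStalkMap b Im.support.compl ⟨x, hx'⟩)).1 hi
      haveI := (FlatMor12.FibreProp.isRegularLocalRing_stalk_spec_iff A).2 (CAlgH3.isRegularRing_of_isRegularLocalRing) (b x)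
      exact IsRegularLocalRing.of_ringEquiv (asIso (b.stalkMap x)).commRingCatIsoToRingEquiv
  have h1 : Subsingleton (Coh.HH X (Coh.structureModule X) 1) :=
    CommAlg4.isRationalSing_of_regular A hA X b inferInstance inferInstance hXn hbir
  have hJ1 : Subsingleton (Coh.HH X (ClSub.idealMod J) 1) := by
    have := Resolve13.IdealPow.subsingleton_H1_pow hI hv h1 1
    rwa [pow_one] at this
  have hsurj := Lipman24.surjective_app_top (CurveRR24.shortExact_ideal J) hJ1
  haveI := hbir.choose_spec.2
  obtain ⟨hξ, hbb⟩ := Coherent.birational_of_isIso_morphismRestrict b hbir.choose hbir.choose_spec.1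
  have hiso : IsIso (b.app ⊤) := Coherent.isIso_app_of_birational b
    (CommAlg4.Cone.isNormalScheme_spec (CommRingCat.of A)) hξ ((ConcreteCategory.isIso_iff_bijective _).2 hbb) ⊤
  have hglob : ∀ c : Γ(X, ⊤), ∃ a : A, Coh.toGlobal b a = c := fun c => by
    obtain ⟨c', hc'⟩ := (ConcreteCategory.bijective_of_isIso (b.app ⊤)).2 c
    exact ⟨(Scheme.ΓSpecIso (CommRingCat.of A)).hom.hom c', (congrArg (b.app ⊤)
      (ConcreteCategory.congr_hom (Scheme.ΓSpecIso (CommRingCat.of A)).hom_inv_id c')).trans hc'⟩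
  have hgerm : ∀ (f : A) (x : X) (K : Ideal A), f ∈ K →
      X.presheaf.germ ⊤ x trivial (Coh.toGlobal b f) ∈ stk ((Curv2.idealSheaf A K).comap b) x := fun f x K hf => by
    obtain ⟨W, hW, hxW, -⟩ := exists_isAffineOpen_mem_and_subset (x := x) (U := (⊤ : X.Opens)) trivial
    rw [stk_eq _ ⟨W, hW⟩ hxW, S7299.ideal_comap_eq b K ⟨W, hW⟩,
      ← TopCat.Presheaf.germ_res_apply X.presheaf (homOfLE (le_top : W ≤ ⊤)) x hxW (Coh.toGlobal b f)]
    exact Ideal.mem_map_of_mem _ (Ideal.mem_map_of_mem _ hf)
  -- local generators of `Ex ^ d`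
  choose Ut hxt gt hgt hUt using fun z : Z => hEc d (ιZ z)
  let tt : ∀ z : Z, X.presheaf.stalk (ιZ z) := fun z => X.presheaf.germ (Ut z).1 (ιZ z) (hxt z) (gt z)
  have htt : ∀ z, stk (Ex ^ d) (ιZ z) = Ideal.span {tt z} := fun z => stk_span _ (Ut z) (hUt z) (hxt z)
  have hnz : ∀ z, tt z ∈ nonZeroDivisors (X.presheaf.stalk (ιZ z)) := fun z =>
    germ_mem_nonZeroDivisors (Ut z) (hgt z) (hxt z)
  have hmd : ∀ (f : A), f ∈ m ^ d → ∀ z : Z, ∃ c, c * tt z = X.presheaf.germ ⊤ (ιZ z) trivial (Coh.toGlobal b f) :=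
    fun f hf z => by
      have h2 := hgerm f (ιZ z) (m ^ d) hf
      have he : (Curv2.idealSheaf A (m ^ d)).comap b = Ex ^ d := by
        rw [show Ex ^ d = (Im ^ d).comap b from (FSchLib.comap_pow b Im d).symm]
        congr 1
        refine le_antisymm ?_ ?_ <;> refine Scheme.IdealSheafData.le_of_isAffine ?_ <;>
          rw [Scheme.IdealSheafData.ideal_pow, Pi.pow_apply, Resolve13.RatExt.ideal_top, Resolve13.RatExt.ideal_top, ← Ideal.map_pow]
      rw [he, htt z, Ideal.mem_span_singleton'] at h2
      exact h2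
  choose cc hcc using hmd
  let P := ∀ z : Z, Z.presheaf.stalk z
  let Φ : ↥(m ^ d) →ₗ[A] P :=
    { toFun := fun f z => ιZ.stalkMap z (cc f.1 f.2 z)
      map_add' := fun f g => funext fun z => by
        show ιZ.stalkMap z _ = ιZ.stalkMap z _ + ιZ.stalkMap z _
        rw [← map_add]
        refine congrArg _ ((mul_cancel_right_mem_nonZeroDivisors (hnz z)).1 ?_)
        rw [add_mul, hcc, hcc, hcc, ← map_add]
        exact congrArg _ (map_add (Coh.toGlobal b) f.1 g.1)
      map_smul' := fun a f => funext fun z => by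
        show ιZ.stalkMap z _ = gz z a * ιZ.stalkMap z _
        rw [hgz, ← map_mul]
        refine congrArg _ ((mul_cancel_right_mem_nonZeroDivisors (hnz z)).1 ?_)
        rw [mul_assoc, hcc, hcc, ← map_mul]
        exact congrArg _ (map_mul (Coh.toGlobal b) a f.1) }
  have hker' : Submodule.comap (Submodule.subtype (m ^ d)) I ≤ LinearMap.ker Φ := fun f hf => by
    refine funext fun z => ?_
    show ιZ.stalkMap z _ = 0
    have h2 := hgerm f.1 (ιZ z) I hf
    rw [← hcc f.1 f.2 z, hJstk, htt z, Ideal.mem_mul_span_singleton] at h2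
    obtain ⟨c', hc', he⟩ := h2
    rw [← (mul_cancel_right_mem_nonZeroDivisors (hnz z)).1 he]
    refine RingHom.mem_ker.1 ?_
    rw [Resolve13.ker_stalkMap_eq_stk, Scheme.IdealSheafData.ker_subschemeι]
    exact hc'
  have hΦ : Function.Surjective Φ := by
    intro s
    choose c hc using fun z => ιZ.stalkMap_surjective z (s z)
    choose V hV cV hcV using fun z => X.presheaf.exists_germ_eq (c z)
    let F : Set X := (I'.support : Set X)
    have hoth : ∀ z : Z, IsOpen (F \ {ιZ z})ᶜ := fun z => by
      rw [isOpen_compl_iff, ← Set.biUnion_of_singleton (F \ {ιZ z})]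
      exact (hfin.subset Set.sdiff_subset).isClosed_biUnion fun p hp => hclosed p hp.1
    let W : Option Z → X.Opens := fun o => o.elim ⟨Fᶜ, I'.support.isClosed.isOpen_compl⟩
      fun z => (Ut z).1 ⊓ V z ⊓ ⟨_, hoth z⟩
    have hW : ∀ x : X, ∃ o, x ∈ W o := fun x => by
      by_cases hx : x ∈ F
      · obtain ⟨z, hz⟩ := I'.range_subschemeι.ge hx
        refine ⟨some z, ?_⟩
        have hxz : x = ιZ z := hz.symm
        subst hxz
        exact ⟨⟨hxt z, hV z⟩, fun h => h.2 rfl⟩
      · exact ⟨none, hx⟩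
    let ιJ := J.subschemeι
    let σ : ∀ o, Γ(J.subscheme, ιJ ⁻¹ᵁ W o) := fun o => match o with
      | none => 0
      | some z => ιJ.app (W (some z)) (ModPairLib.res (show W (some z) ≤ V z from fun _ h => h.1.2) (cV z) *
          ModPairLib.res (show W (some z) ≤ (Ut z).1 from fun _ h => h.1.1) (gt z))
    have hzero : ∀ (z : Z) (w : J.subscheme) (hw : w ∈ ιJ ⁻¹ᵁ W (some z)), ιJ w ∉ F →
        J.subscheme.presheaf.germ _ w hw (σ (some z)) = 0 := fun z w hw hwF => by
      show J.subscheme.presheaf.germ _ w hw (ιJ.app _ _) = 0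
      rw [← Scheme.Hom.germ_stalkMap_apply]
      refine RingHom.mem_ker.1 ?_
      rw [Resolve13.ker_stalkMap_eq_stk, Scheme.IdealSheafData.ker_subschemeι, map_mul]
      rw [hJstk, SDiv28.CartierPart.stk_eq_top hwF, Ideal.top_mul]
      refine Ideal.mul_mem_left _ _ ?_
      rw [stk_span _ (Ut z) (hUt z) hw.1.1]
      refine Ideal.mem_span_singleton'.2 ⟨1, ?_⟩
      rw [one_mul]
      exact (TopCat.Presheaf.germ_res_apply X.presheaf _ _ _ _).symm
    obtain ⟨τ, hτ, -⟩ := TopCat.Sheaf.existsUnique_gluing' J.subscheme.sheaf (fun o => ιJ ⁻¹ᵁ W o) (ιJ ⁻¹ᵁ ⊤)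
      (fun _ => homOfLE fun _ _ => trivial) (fun w _ => Opens.mem_iSup.2 (hW (ιJ w))) σ (fun o o' => by
        refine TopCat.Presheaf.section_ext J.subscheme.sheaf _ _ _ fun w hw => ?_
        erw [TopCat.Presheaf.germ_res_apply, TopCat.Presheaf.germ_res_apply]
        have key : ∀ (o : Option Z) (h : w ∈ ιJ ⁻¹ᵁ W o), ιJ w ∉ F →
            J.subscheme.presheaf.germ _ w h (σ o) = 0 := fun o h hwF => by
          cases o with
          | none => exact map_zero _
          | some z => exact hzero z w h hwF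
        by_cases hwF : ιJ w ∈ F
        · have : o = o' := by
            cases o with
            | none => exact absurd hwF hw.1
            | some z =>
              cases o' with
              | none => exact absurd hwF hw.2
              | some z' =>
                have e1 : ιJ w = ιZ z := not_not.1 fun h => hw.1.2 ⟨hwF, h⟩
                have e2 : ιJ w = ιZ z' := not_not.1 fun h => hw.2.2 ⟨hwF, h⟩
                rw [ιZ.isClosedEmbedding.injective (e1.symm.trans e2)]
          subst this
          rfl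
        · exact (key o hw.1 hwF).trans (key o' hw.2 hwF).symm)
    obtain ⟨g, hg⟩ := hsurj τ
    obtain ⟨f, rfl⟩ := hglob g
    have hfJ : ∀ (x : X) (o : Option Z) (hxo : x ∈ W o) (q : Γ(X, W o)), σ o = ιJ.app (W o) q →
        X.presheaf.germ ⊤ x trivial (Coh.toGlobal b f) - X.presheaf.germ (W o) x hxo q ∈ stk J x :=
      fun x o hxo q hq => by
        by_cases hx : x ∈ (J.support : Set X)
        · obtain ⟨w, rfl⟩ := J.range_subschemeι.ge hx
          have hk : RingHom.ker (ιJ.stalkMap w).hom = stk J (ιJ w) := (Resolve13.ker_stalkMap_eq_stk ιJ w).trans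
            (congrArg (fun K => stk K (ιJ w)) J.ker_subschemeι)
          rw [← hk, RingHom.mem_ker, map_sub, sub_eq_zero]
          erw [Scheme.Hom.germ_stalkMap_apply, Scheme.Hom.germ_stalkMap_apply]
          rw [← hq]
          have h3 := congrArg (J.subscheme.presheaf.germ (ιJ ⁻¹ᵁ W o) w hxo) (hτ o)
          erw [TopCat.Presheaf.germ_res_apply] at h3
          rw [← h3, ← hg]
          rfl
        · rw [SDiv28.CartierPart.stk_eq_top hx]; trivial
    have hmem : ∀ x : X, X.presheaf.germ ⊤ x trivial (Coh.toGlobal b f) ∈ stk (Ex ^ d) x := fun x => by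
      have hle : stk J x ≤ stk (Ex ^ d) x := by rw [hJstk]; exact Ideal.mul_le_right
      obtain ⟨o, ho⟩ := hW x
      cases o with
      | none =>
        have h3 := hfJ x none ho 0 (map_zero _).symm
        rw [map_zero, sub_zero] at h3
        exact hle h3
      | some z =>
        refine sub_add_cancel (X.presheaf.germ ⊤ x trivial (Coh.toGlobal b f)) _ ▸
          Ideal.add_mem _ (hle (hfJ x (some z) ho _ rfl)) ?_
        rw [map_mul]
        refine Ideal.mul_mem_left _ _ ?_
        rw [stk_span _ (Ut z) (hUt z) ho.1.1]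
        refine Ideal.mem_span_singleton'.2 ⟨1, ?_⟩
        rw [one_mul]
        exact (TopCat.Presheaf.germ_res_apply X.presheaf _ _ _ _).symm
    have hfm : f ∈ m ^ d := Resolve13.mem_pow_of_comap_le hA hb fun U => by
      rw [S7299.ideal_comap_eq b _ U, Ideal.map_span, Set.image_singleton, Ideal.span_singleton_le_iff_mem,
        mem_ideal_iff]
      intro x hx
      rw [RingHom.comp_apply]
      erw [TopCat.Presheaf.germ_res_apply]
      exact hmem x
    refine ⟨⟨f, hfm⟩, funext fun z => ?_⟩
    show ιZ.stalkMap z (cc f hfm z) = s z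
    rw [← hc z, ← sub_eq_zero, ← map_sub]
    refine RingHom.mem_ker.1 ?_
    rw [Resolve13.ker_stalkMap_eq_stk, Scheme.IdealSheafData.ker_subschemeι]
    have ho : ιZ z ∈ W (some z) := ⟨⟨hxt z, hV z⟩, fun h => h.2 rfl⟩
    have h3 := hfJ (ιZ z) (some z) ho _ rfl
    rw [map_mul, ← hcc f hfm z, hJstk, htt z] at h3
    erw [TopCat.Presheaf.germ_res_apply, TopCat.Presheaf.germ_res_apply] at h3
    rw [hcV z, ← sub_mul, Ideal.mem_mul_span_singleton] at h3
    obtain ⟨c', hc', he⟩ := h3
    rwa [(mul_cancel_right_mem_nonZeroDivisors (hnz z)).1 he] at hc'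
  -- comparison with `A ⧸ I`
  let N := Submodule.comap (Submodule.subtype (m ^ d)) I
  let M : Submodule A (A ⧸ I) := Submodule.map I.mkQ (m ^ d)
  let Q := (I.mkQ).comp (Submodule.subtype (m ^ d))
  have hQker : LinearMap.ker Q = N := by rw [LinearMap.ker_comp, Submodule.ker_mkQ]
  have hQrange : LinearMap.range Q = M := by rw [LinearMap.range_comp, Submodule.range_subtype]
  have h2 : Module.length A P ≤ Module.length A (↥(m ^ d) ⧸ N) :=
    Module.length_le_of_surjective (N.liftQ Φ hker') fun s => by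
      obtain ⟨f, hf⟩ := hΦ s
      exact ⟨Submodule.Quotient.mk f, hf⟩
  refine h2.trans_lt ?_
  rw [← (Submodule.quotEquivOfEq _ _ hQker).length_eq, Q.quotKerEquivRange.length_eq, hQrange]
  have hn' : ∀ x : A ⧸ I, ∀ a ∈ m ^ n, a • x = 0 := fun x a ha => by
    obtain ⟨r, rfl⟩ := Submodule.Quotient.mk_surjective I x
    rw [← Submodule.Quotient.mk_smul, Submodule.Quotient.mk_eq_zero]
    exact Ideal.mul_mem_right _ _ (hIn ha)
  haveI : IsArtinian A (A ⧸ I) := by
    haveI : IsArtinianRing (A ⧸ I) := by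
      haveI : Ring.KrullDimLE 0 (A ⧸ I) := Ring.KrullDimLE.mk₀ fun P hP => by
        have hPm : m ≤ P.comap (Ideal.Quotient.mk I) := fun a ha => by
          refine (Ideal.IsPrime.comap (Ideal.Quotient.mk I) (K := P)).mem_of_pow_mem n ?_
          rw [Ideal.mem_comap, Ideal.Quotient.eq_zero_iff_mem.2 (hIn (Ideal.pow_mem_pow ha n))]
          exact P.zero_mem
        have h := (IsLocalRing.maximalIdeal.isMaximal A).eq_of_le
          (Ideal.IsPrime.comap (Ideal.Quotient.mk I) (K := P)).ne_top hPm
        haveI : (P.comap (Ideal.Quotient.mk I)).IsMaximal := h ▸ IsLocalRing.maximalIdeal.isMaximal A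
        exact (Ideal.map_comap_of_surjective _ Ideal.Quotient.mk_surjective P) ▸
          (Ideal.map_eq_top_or_isMaximal_of_surjective _ Ideal.Quotient.mk_surjective this).resolve_left
            (by rw [Ideal.map_comap_of_surjective _ Ideal.Quotient.mk_surjective]; exact hP.ne_top)
      exact IsNoetherianRing.isArtinianRing_of_krullDimLE_zero
    exact isArtinian_of_surjective_algebraMap (Ideal.Quotient.mk_surjective (I := I))
  refine Submodule.length_lt fun h => ?_
  have h3 : Submodule.Quotient.mk (1 : A) ∈ M := h.ge Submodule.mem_top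
  obtain ⟨a, ha, he⟩ := Submodule.mem_map.1 h3
  have h4 : (1 : A) - a ∈ I := (Submodule.Quotient.eq I).1 he.symm
  have h5 : a ∈ m := Ideal.pow_le_self hd0.ne' ha
  exact (IsLocalRing.maximalIdeal.isMaximal A).ne_top ((Ideal.eq_top_iff_one _).2
    (sub_add_cancel (1 : A) a ▸ Ideal.add_mem _ (hIm h4) h5))

end Groth.Agent.S7360
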