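import Groth.Statements.S7362
import Groth.Agent.NumTypeLib.Tables

set_option autoImplicit false
open Finset
open Models Models.NumericalType

namespace Groth.Agent.S7362

open Groth.Agent.NumTypeLib in

/-- Genus one classification: case n = 2: let T be a minimal numerical type of genus 1 on two indices.
Then for some ordering i, j of the indices and some integers m, w, either m_i = m_j = m, a_ii = a_jj
= -2w, a_ij = 2w, w_i = w_j = w, g_i = g_j = 0; or m_i = 2m, m_j = m, a_ii = -2w, a_ij = 4w, a_jj =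
-8w, w_i = w, w_j = 4w, g_i = g_j = 0. Only the classification direction is stated. -/
theorem result (T : Models.NumericalType 2) (hmin : T.IsMinimal) (hg : T.genus = 1) :
    ∃ (i j : Fin 2) (m w : ℤ), i ≠ j ∧ T.g i = 0 ∧ T.g j = 0 ∧
      ((T.m i = m ∧ T.m j = m ∧ T.a i i = -2 * w ∧ T.a i j = 2 * w ∧ T.a j j = -2 * w ∧ T.w i = w ∧ T.w j = w) ∨
        (T.m i = 2 * m ∧ T.m j = m ∧ T.a i i = -2 * w ∧ T.a i j = 4 * w ∧ T.a j j = -8 * w ∧ T.w i = w ∧ T.w j = 4 * w)) := by
  obtain ⟨hmt, hC⟩ := classified_of_genus_one hmin (by omega) hg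
  cases hC with
  | cyc h t => omega
  | upUp h t => omega
  | upDown h t => omega
  | downUp h t => omega
  | forkUp h t => omega
  | forkDown h t => omega
  | forkFork h t => omega
  | A11 h t =>
    obtain ⟨σ, m, w, hm, hw, ha⟩ := t.entries (Equiv.refl _)
    refine ⟨σ 0, σ 1, m, w, σ.injective.ne (by decide), (hmt _).1, (hmt _).1, ?_⟩
    left
    and_intros <;> simp [hm, hw, ha, permOfLists, Tab.cyc, Tab.upUp, Tab.upDown, Tab.downUp, Tab.forkUp, Tab.forkDown, Tab.forkFork, Tab.A11, Tab.A22, Tab.G2a, Tab.G2b, Tab.F4a, Tab.F4b, Tab.E6, Tab.E7, Tab.E8, Tab.ofList, Tab.S] <;> ring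
  | A22 h t =>
    obtain ⟨σ, m, w, hm, hw, ha⟩ := t.entries (Equiv.refl _)
    refine ⟨σ 0, σ 1, m, w, σ.injective.ne (by decide), (hmt _).1, (hmt _).1, ?_⟩
    right
    and_intros <;> simp [hm, hw, ha, permOfLists, Tab.cyc, Tab.upUp, Tab.upDown, Tab.downUp, Tab.forkUp, Tab.forkDown, Tab.forkFork, Tab.A11, Tab.A22, Tab.G2a, Tab.G2b, Tab.F4a, Tab.F4b, Tab.E6, Tab.E7, Tab.E8, Tab.ofList, Tab.S] <;> ring
  | G2a h t => omega
  | G2b h t => omega
  | F4a h t => omega
  | F4b h t => omega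
  | E6 h t => omega
  | E7 h t => omega
  | E8 h t => omega

end Groth.Agent.S7362
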