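import Groth.Statements.S7364
import Groth.Agent.NumTypeLib.Tables

set_option autoImplicit false
open Finset
open Models Models.NumericalType

namespace Groth.Agent.S7364

open Groth.Agent.NumTypeLib in

/-- Genus one classification: case n = 4: let T be a minimal numerical type of genus 1 on 4 indices.
Then all g_i = 0 and, for some permutation σ of the indices and some integers m, w, the
multiplicities, weights and intersection matrix (m_{σ(i)}, w_{σ(i)}, a_{σ(i)σ(j)}) are those of one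
of the following 6 types: [four cycle] m = (m, m, m, m), w = (w, w, w, w), a = (-2 * w w 0 w / w -2
* w w 0 / 0 w -2 * w w / w 0 w -2 * w); [up equal up] m = (2 * m, 2 * m, 2 * m, m), w = (w, 2 * w, 2
* w, 4 * w), a = (-2 * w 2 * w 0 0 / 2 * w -4 * w 2 * w 0 / 0 2 * w -4 * w 4 * w / 0 0 4 * w -8 *
w); [up equal down] m = (m, m, m, m), w = (w, 2 * w, 2 * w, w), a = (-2 * w 2 * w 0 0 / 2 * w -4 * w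
2 * w 0 / 0 2 * w -4 * w 2 * w / 0 0 2 * w -2 * w); [down equal up] m = (m, 2 * m, 2 * m, m), w = (2
* w, w, w, 2 * w), a = (-4 * w 2 * w 0 0 / 2 * w -2 * w w 0 / 0 w -2 * w 2 * w / 0 0 2 * w -4 * w);
[triple with up] m = (2 * m, m, m, m), w = (w, w, w, 2 * w), a = (-2 * w w w 2 * w / w -2 * w 0 0 /
w 0 -2 * w 0 / 2 * w 0 0 -4 * w); [triple with down] m = (2 * m, m, m, 2 * m), w = (2 * w, 2 * w, 2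
* w, w), a = (-4 * w 2 * w 2 * w 2 * w / 2 * w -4 * w 0 0 / 2 * w 0 -4 * w 0 / 2 * w 0 0 -2 * w).
Only the classification direction is stated. -/
theorem result (T : Models.NumericalType 4) (hmin : T.IsMinimal) (hg : T.genus = 1) :
    (∀ i, T.g i = 0) ∧ ∃ (σ : Equiv.Perm (Fin 4)) (m w : ℤ),
      ((T.m (σ 0) = m ∧ T.m (σ 1) = m ∧ T.m (σ 2) = m ∧ T.m (σ 3) = m ∧ T.w (σ 0) = w ∧ T.w (σ 1) = w ∧ T.w (σ 2) = w ∧ T.w (σ 3) = w ∧ T.a (σ 0) (σ 0) = -2 * w ∧ T.a (σ 0) (σ 1) = w ∧ T.a (σ 0) (σ 2) = 0 ∧ T.a (σ 0) (σ 3) = w ∧ T.a (σ 1) (σ 1) = -2 * w ∧ T.a (σ 1) (σ 2) = w ∧ T.a (σ 1) (σ 3) = 0 ∧ T.a (σ 2) (σ 2) = -2 * w ∧ T.a (σ 2) (σ 3) = w ∧ T.a (σ 3) (σ 3) = -2 * w) ∨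
      (T.m (σ 0) = 2 * m ∧ T.m (σ 1) = 2 * m ∧ T.m (σ 2) = 2 * m ∧ T.m (σ 3) = m ∧ T.w (σ 0) = w ∧ T.w (σ 1) = 2 * w ∧ T.w (σ 2) = 2 * w ∧ T.w (σ 3) = 4 * w ∧ T.a (σ 0) (σ 0) = -2 * w ∧ T.a (σ 0) (σ 1) = 2 * w ∧ T.a (σ 0) (σ 2) = 0 ∧ T.a (σ 0) (σ 3) = 0 ∧ T.a (σ 1) (σ 1) = -4 * w ∧ T.a (σ 1) (σ 2) = 2 * w ∧ T.a (σ 1) (σ 3) = 0 ∧ T.a (σ 2) (σ 2) = -4 * w ∧ T.a (σ 2) (σ 3) = 4 * w ∧ T.a (σ 3) (σ 3) = -8 * w) ∨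
      (T.m (σ 0) = m ∧ T.m (σ 1) = m ∧ T.m (σ 2) = m ∧ T.m (σ 3) = m ∧ T.w (σ 0) = w ∧ T.w (σ 1) = 2 * w ∧ T.w (σ 2) = 2 * w ∧ T.w (σ 3) = w ∧ T.a (σ 0) (σ 0) = -2 * w ∧ T.a (σ 0) (σ 1) = 2 * w ∧ T.a (σ 0) (σ 2) = 0 ∧ T.a (σ 0) (σ 3) = 0 ∧ T.a (σ 1) (σ 1) = -4 * w ∧ T.a (σ 1) (σ 2) = 2 * w ∧ T.a (σ 1) (σ 3) = 0 ∧ T.a (σ 2) (σ 2) = -4 * w ∧ T.a (σ 2) (σ 3) = 2 * w ∧ T.a (σ 3) (σ 3) = -2 * w) ∨
      (T.m (σ 0) = m ∧ T.m (σ 1) = 2 * m ∧ T.m (σ 2) = 2 * m ∧ T.m (σ 3) = m ∧ T.w (σ 0) = 2 * w ∧ T.w (σ 1) = w ∧ T.w (σ 2) = w ∧ T.w (σ 3) = 2 * w ∧ T.a (σ 0) (σ 0) = -4 * w ∧ T.a (σ 0) (σ 1) = 2 * w ∧ T.a (σ 0) (σ 2) = 0 ∧ T.a (σ 0) (σ 3) = 0 ∧ T.a (σ 1) (σ 1) = -2 * w ∧ T.a (σ 1) (σ 2) = w ∧ T.a (σ 1) (σ 3) = 0 ∧ T.a (σ 2) (σ 2) = -2 * w ∧ T.a (σ 2) (σ 3) = 2 * w ∧ T.a (σ 3) (σ 3) = -4 * w) ∨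
      (T.m (σ 0) = 2 * m ∧ T.m (σ 1) = m ∧ T.m (σ 2) = m ∧ T.m (σ 3) = m ∧ T.w (σ 0) = w ∧ T.w (σ 1) = w ∧ T.w (σ 2) = w ∧ T.w (σ 3) = 2 * w ∧ T.a (σ 0) (σ 0) = -2 * w ∧ T.a (σ 0) (σ 1) = w ∧ T.a (σ 0) (σ 2) = w ∧ T.a (σ 0) (σ 3) = 2 * w ∧ T.a (σ 1) (σ 1) = -2 * w ∧ T.a (σ 1) (σ 2) = 0 ∧ T.a (σ 1) (σ 3) = 0 ∧ T.a (σ 2) (σ 2) = -2 * w ∧ T.a (σ 2) (σ 3) = 0 ∧ T.a (σ 3) (σ 3) = -4 * w) ∨
      (T.m (σ 0) = 2 * m ∧ T.m (σ 1) = m ∧ T.m (σ 2) = m ∧ T.m (σ 3) = 2 * m ∧ T.w (σ 0) = 2 * w ∧ T.w (σ 1) = 2 * w ∧ T.w (σ 2) = 2 * w ∧ T.w (σ 3) = w ∧ T.a (σ 0) (σ 0) = -4 * w ∧ T.a (σ 0) (σ 1) = 2 * w ∧ T.a (σ 0) (σ 2) = 2 * w ∧ T.a (σ 0) (σ 3) = 2 * w ∧ T.a (σ 1) (σ 1) = -4 * w ∧ T.a (σ 1) (σ 2) = 0 ∧ T.a (σ 1) (σ 3) = 0 ∧ T.a (σ 2) (σ 2) = -4 * w ∧ T.a (σ 2) (σ 3) = 0 ∧ T.a (σ 3) (σ 3) = -2 * w)) :=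 by
  obtain ⟨hmt, hC⟩ := classified_of_genus_one hmin (by omega) hg
  refine ⟨fun i => (hmt i).1, ?_⟩
  cases hC with
  | cyc h t =>
    obtain ⟨σ, m, w, hm, hw, ha⟩ := t.entries (Equiv.refl _)
    refine ⟨σ, m, w, ?_⟩
    left
    and_intros <;> simp [hm, hw, ha, permOfLists, Tab.cyc, Tab.upUp, Tab.upDown, Tab.downUp, Tab.forkUp, Tab.forkDown, Tab.forkFork, Tab.A11, Tab.A22, Tab.G2a, Tab.G2b, Tab.F4a, Tab.F4b, Tab.E6, Tab.E7, Tab.E8, Tab.ofList, Tab.S] <;> ring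
  | upUp h t =>
    obtain ⟨σ, m, w, hm, hw, ha⟩ := t.entries (Equiv.refl _)
    refine ⟨σ, m, w, ?_⟩
    right
    left
    and_intros <;> simp [hm, hw, ha, permOfLists, Tab.cyc, Tab.upUp, Tab.upDown, Tab.downUp, Tab.forkUp, Tab.forkDown, Tab.forkFork, Tab.A11, Tab.A22, Tab.G2a, Tab.G2b, Tab.F4a, Tab.F4b, Tab.E6, Tab.E7, Tab.E8, Tab.ofList, Tab.S] <;> ring
  | upDown h t =>
    obtain ⟨σ, m, w, hm, hw, ha⟩ := t.entries (Equiv.refl _)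
    refine ⟨σ, m, w, ?_⟩
    right; right
    left
    and_intros <;> simp [hm, hw, ha, permOfLists, Tab.cyc, Tab.upUp, Tab.upDown, Tab.downUp, Tab.forkUp, Tab.forkDown, Tab.forkFork, Tab.A11, Tab.A22, Tab.G2a, Tab.G2b, Tab.F4a, Tab.F4b, Tab.E6, Tab.E7, Tab.E8, Tab.ofList, Tab.S] <;> ring
  | downUp h t =>
    obtain ⟨σ, m, w, hm, hw, ha⟩ := t.entries (Equiv.refl _)
    refine ⟨σ, m, w, ?_⟩
    right; right; right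
    left
    and_intros <;> simp [hm, hw, ha, permOfLists, Tab.cyc, Tab.upUp, Tab.upDown, Tab.downUp, Tab.forkUp, Tab.forkDown, Tab.forkFork, Tab.A11, Tab.A22, Tab.G2a, Tab.G2b, Tab.F4a, Tab.F4b, Tab.E6, Tab.E7, Tab.E8, Tab.ofList, Tab.S] <;> ring
  | forkUp h t =>
    obtain ⟨σ, m, w, hm, hw, ha⟩ := t.entries (permOfLists ![1, 2, 3, 0] ![3, 0, 1, 2] (by decide) (by decide))
    refine ⟨σ, m, w, ?_⟩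
    right; right; right; right
    left
    and_intros <;> simp [hm, hw, ha, permOfLists, Tab.cyc, Tab.upUp, Tab.upDown, Tab.downUp, Tab.forkUp, Tab.forkDown, Tab.forkFork, Tab.A11, Tab.A22, Tab.G2a, Tab.G2b, Tab.F4a, Tab.F4b, Tab.E6, Tab.E7, Tab.E8, Tab.ofList, Tab.S] <;> ring
  | forkDown h t =>
    obtain ⟨σ, m, w, hm, hw, ha⟩ := t.entries (permOfLists ![1, 2, 3, 0] ![3, 0, 1, 2] (by decide) (by decide))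
    refine ⟨σ, m, w, ?_⟩
    right; right; right; right; right
    and_intros <;> simp [hm, hw, ha, permOfLists, Tab.cyc, Tab.upUp, Tab.upDown, Tab.downUp, Tab.forkUp, Tab.forkDown, Tab.forkFork, Tab.A11, Tab.A22, Tab.G2a, Tab.G2b, Tab.F4a, Tab.F4b, Tab.E6, Tab.E7, Tab.E8, Tab.ofList, Tab.S] <;> ring
  | forkFork h t => omega
  | A11 h t => omega
  | A22 h t => omega
  | G2a h t => omega
  | G2b h t => omega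
  | F4a h t => omega
  | F4b h t => omega
  | E6 h t => omega
  | E7 h t => omega
  | E8 h t => omega

end Groth.Agent.S7364
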