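import Groth.Statements.S7366
import Groth.Agent.RDPChain13.Resolution
-- import your own Groth.Agent.* helpers here

set_option autoImplicit false
universe u
open CategoryTheory CategoryTheory.Limits AlgebraicGeometry
open Resolve

namespace Groth.Agent.S7366

/-- Let (A, m, κ) be a local normal Nagata domain of dimension two which defines a rational singularity,
whose m-adic completion is a normal domain, and which is Gorenstein. Then Spec A has a resolution of
singularities: there is a proper morphism X → Spec A from an integral scheme all of whose local
rings are regular, which is an isomorphism over a nonempty open. (The published statement also says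
that the resolution is reached by a finite sequence of blowings up in singular closed points through
normal schemes with finitely many singular points of the same kind; this row asserts only that a
resolution exists.) -/
theorem result (A : Type u) [CommRing A] [IsDomain A]
    [IsIntegrallyClosed A] [LocCoh.IsGorensteinLocalRing A] (hN : CAlg.IsNagata A) (hdim : ringKrullDim A = 2) (hA : Curv2.IsRationalSing A)
    [IsDomain (Curv2.cpl A)] [IsIntegrallyClosed (Curv2.cpl A)] :
    ∃ (X : Scheme.{u}) (f : X ⟶ Spec (CommRingCat.of A)), IsProper f ∧ IsIntegral X ∧
      (∃ U : (Spec (CommRingCat.of A)).Opens, (U : Set (Spec (CommRingCat.of A))).Nonempty ∧ IsIso (f ∣_ U)) ∧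
      ∀ x : X, IsRegularLocalRing (X.presheaf.stalk x) := by
  open Groth.Agent in
  obtain ⟨X, f, hf, hi, hU, hreg⟩ := RDPChain13.exists_resolution hdim
    (RDPChain13.resolvable_of_gorenstein (A := A) ⟨‹_›, inferInstance, ‹_›, hN, hdim, hA, ‹_›, ‹_›⟩)
  exact ⟨X, f, Groth.Agent.RelVALib.isProper_of_isProjective hf, hi, hU, hreg⟩

end Groth.Agent.S7366
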