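import Groth.Statements.S7372
import Groth.Agent.Resolve13.CurveBlowUp
import Groth.Agent.S7321

set_option autoImplicit false
universe u
open CategoryTheory CategoryTheory.Limits AlgebraicGeometry
open Resolve

namespace Groth.Agent.S7372

/-- Let Y be an integral Noetherian scheme of dimension one. Then Y has a resolution of singularities (a
proper morphism X → Y from an integral scheme with regular local rings which is an isomorphism over
a nonempty open of Y) if and only if there is a finite sequence of blowings up in closed points Y_n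
→ Y_{n-1} → … → Y_1 → Y with Y_n regular (all local rings regular). -/
theorem result (Y : Scheme.{u}) [IsIntegral Y] [IsNoetherian Y]
    (hdim : topologicalKrullDim Y = 1) :
    (∃ (X : Scheme.{u}) (g : X ⟶ Y), IsProper g ∧ IsIntegral X ∧
        (∃ V : Y.Opens, (V : Set Y).Nonempty ∧ IsIso (g ∣_ V)) ∧ ∀ x : X, IsRegularLocalRing (X.presheaf.stalk x)) ↔
      ∃ (Y' : Scheme.{u}) (g : Y' ⟶ Y), Resolve.IsPtBlowupSeq g ∧ ∀ y : Y', IsRegularLocalRing (Y'.presheaf.stalk y) := by
  haveI : QuasiCompact (Y.fromSpecStalk (genericPoint Y)) :=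
    AlgebraicGeometry.quasiCompact_iff _ |>.2 fun U _ _ => TopologicalSpace.NoetherianSpace.isCompact _
  haveI : QuasiSeparated (Y.fromSpecStalk (genericPoint Y)) := inferInstance
  constructor
  · intro h
    have hfin : IsFinite (Curv2.normalizationι Y) := (Groth.Agent.S7321.result Y hdim).2.1 h
    haveI := hfin
    obtain ⟨U, hU, hiso⟩ := Groth.Agent.BMLib.exists_isIso_normalization (X := Y)
    haveI := hiso
    haveI hint : IsIntegral (Curv2.normalization Y) :=
      inferInstanceAs (IsIntegral (Y.fromSpecStalk (genericPoint Y)).normalization)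
    haveI : IsLocallyNoetherian (Curv2.normalization Y) := LocallyOfFiniteType.isLocallyNoetherian (Curv2.normalizationι Y)
    have hN : Pi1.IsNormalScheme (Curv2.normalization Y) :=
      Groth.Agent.NormalizationLib.isNormal (RingHom.id Y.functionField) (Y.fromSpecStalk (genericPoint Y))
        (by rw [show CommRingCat.ofHom (RingHom.id Y.functionField) = 𝟙 _ from rfl, Spec.map_id, Category.id_comp])
    refine Groth.Agent.Resolve13.exists_ptBlowupSeq_regular hdim.le (Curv2.normalizationι Y)
      (Groth.Agent.Coherent.birational_of_isIso_morphismRestrict _ U hU.nonempty).1 fun x => ?_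
    obtain ⟨hd, hic⟩ := hN x
    haveI := hd
    haveI := hic
    exact Groth.Agent.CAlgH3.isRegularLocalRing_of_normal_dim_le_one
      ((Groth.Agent.CurvesLib24.stalk_dim_le_topologicalKrullDim x).trans
        ((Groth.Agent.AlgSpLib.topologicalKrullDim_le_of_isIntegralHom (Curv2.normalizationι Y)).trans hdim.le))
  · rintro ⟨Y', g, hg, hreg⟩
    obtain ⟨h1, -, h3, -, h5⟩ := Groth.Agent.Resolve13.ptBlowupSeq_invariant hg inferInstance inferInstance
      (fun {_} => Groth.Agent.CurvesLib24.not_isClosed_genericPoint hdim)
    exact ⟨Y', g, h3, h1, h5, hreg⟩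

end Groth.Agent.S7372
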