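import Groth.Statements.S7373
import Groth.Agent.Resolve13.CurveLift

set_option autoImplicit false
universe u
open CategoryTheory CategoryTheory.Limits AlgebraicGeometry
open Resolve

namespace Groth.Agent.S7373

/-- Let X be a Noetherian scheme and Y ⊂ X an integral closed subscheme of dimension one (given by its
ideal sheaf I) whose normalization morphism is finite. Then there is a finite sequence of blowings
up in closed points g : X' → X such that the strict transform Y' of Y in X' is a regular curve: an
integral closed subscheme Y' ⊂ X' (ideal I') mapped by g into Y, isomorphically over a nonempty open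
of Y, all of whose local rings are regular. (The quasi-compactness and quasi-separatedness binders
on Spec K(Y) → Y always hold.) -/
theorem result (X : Scheme.{u}) [IsNoetherian X] (I : X.IdealSheafData)
    [IsIntegral I.subscheme] (hdim : topologicalKrullDim ↥I.subscheme = 1)
    [QuasiCompact (I.subscheme.fromSpecStalk (genericPoint ↥I.subscheme))]
    [QuasiSeparated (I.subscheme.fromSpecStalk (genericPoint ↥I.subscheme))]
    (hfin : IsFinite (Curv2.normalizationι I.subscheme)) :
    ∃ (X' : Scheme.{u}) (g : X' ⟶ X), Resolve.IsPtBlowupSeq g ∧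
      ∃ (I' : X'.IdealSheafData) (g' : I'.subscheme ⟶ I.subscheme), IsIntegral I'.subscheme ∧
        g' ≫ I.subschemeι = I'.subschemeι ≫ g ∧
        (∃ V : I.subscheme.Opens, (V : Set ↥I.subscheme).Nonempty ∧ IsIso (g' ∣_ V)) ∧
        ∀ y : ↥I'.subscheme, IsRegularLocalRing (I'.subscheme.presheaf.stalk y) := by
  haveI : IsNoetherian I.subscheme :=
    { toIsLocallyNoetherian := LocallyOfFiniteType.isLocallyNoetherian I.subschemeι
      toCompactSpace := I.subschemeι.isClosedEmbedding.compactSpace }
  haveI := hfin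
  obtain ⟨Y', r, hr, hint, -, hV, hreg⟩ := Groth.Agent.Resolve13.exists_regular_of_finite_normalization (Y := I.subscheme) hdim
  obtain ⟨X', g, j', hg, hj', hcomm⟩ := Groth.Agent.Resolve13.exists_lift_closed hr I.subschemeι
  haveI := hj'
  haveI := hint
  let φ : j'.ker.subscheme ≅ Y' := (asIso j'.toImage).symm
  have hφ : φ.hom ≫ j' = j'.ker.subschemeι := by
    show inv j'.toImage ≫ j' = _
    rw [IsIso.inv_comp_eq]
    exact j'.toImage_imageι.symm
  haveI : Nonempty j'.ker.subscheme := ⟨φ.inv (genericPoint Y')⟩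
  obtain ⟨V, hV, hiso⟩ := hV
  haveI := hiso
  refine ⟨X', g, hg, j'.ker, φ.hom ≫ r, isIntegral_of_isOpenImmersion φ.hom, ?_, ⟨V, hV, ?_⟩, fun y => ?_⟩
  · rw [Category.assoc, ← hcomm, ← Category.assoc, hφ]
  · have h1 : IsIso (φ.hom ∣_ (r ⁻¹ᵁ V)) := (MorphismProperty.isomorphisms.iff _).1
      (IsZariskiLocalAtTarget.restrict ((MorphismProperty.isomorphisms.iff _).2 φ.isIso_hom) (r ⁻¹ᵁ V))
    have h2 : IsIso (φ.hom ∣_ (r ⁻¹ᵁ V) ≫ r ∣_ V) := @IsIso.comp_isIso _ _ _ _ _ _ _ h1 hiso
    rw [morphismRestrict_comp]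
    exact h2
  · haveI := hreg (φ.hom y)
    exact IsRegularLocalRing.of_ringEquiv (R := Y'.presheaf.stalk (φ.hom y))
      (asIso (φ.hom.stalkMap y)).commRingCatIsoToRingEquiv

end Groth.Agent.S7373
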