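import Groth.Statements.S7374
import Groth.Agent.Resolve13.DisjointCurves

set_option autoImplicit false
universe u
open CategoryTheory CategoryTheory.Limits AlgebraicGeometry
open Resolve

open Groth.Agent.Resolve13

namespace Groth.Agent.S7374

/-- Let X be a Noetherian scheme and Y_1, …, Y_n ⊂ X integral closed subschemes of dimension one (ideal
sheaves I_i), pairwise distinct, each with finite normalization morphism. Then there is a finite
sequence of blowings up in closed points g : X' → X such that the strict transforms Y'_i ⊂ X' —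
integral closed subschemes (ideals I'_i) mapped by g into Y_i, isomorphically over a nonempty open
of Y_i — are pairwise disjoint and have regular local rings. (The quasi-compactness and
quasi-separatedness binders always hold. The published statement does not say the Y_i are distinct;
for Y_1 = Y_2 the strict transforms coincide and cannot be disjoint, so distinctness is assumed
here, as the proof's use of the intersection multiplicities m_p(Y_i ∩ Y_j) requires.) -/
theorem result (X : Scheme.{u}) [IsNoetherian X] {n : ℕ}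
    (I : Fin n → X.IdealSheafData) [∀ i, IsIntegral (I i).subscheme] (hdim : ∀ i, topologicalKrullDim ↥(I i).subscheme = 1)
    [∀ i, QuasiCompact ((I i).subscheme.fromSpecStalk (genericPoint ↥(I i).subscheme))]
    [∀ i, QuasiSeparated ((I i).subscheme.fromSpecStalk (genericPoint ↥(I i).subscheme))]
    (hfin : ∀ i, IsFinite (Curv2.normalizationι (I i).subscheme)) (hdist : Function.Injective I) :
    ∃ (X' : Scheme.{u}) (g : X' ⟶ X), Resolve.IsPtBlowupSeq g ∧
      ∃ (I' : Fin n → X'.IdealSheafData) (g' : ∀ i, (I' i).subscheme ⟶ (I i).subscheme),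
        (∀ i, IsIntegral (I' i).subscheme ∧ g' i ≫ (I i).subschemeι = (I' i).subschemeι ≫ g ∧
          (∃ V : (I i).subscheme.Opens, (V : Set ↥(I i).subscheme).Nonempty ∧ IsIso (g' i ∣_ V)) ∧
          ∀ y : ↥(I' i).subscheme, IsRegularLocalRing ((I' i).subscheme.presheaf.stalk y)) ∧
        ∀ i j, i ≠ j → Disjoint ((I' i).support : Set X') ((I' j).support : Set X') := by
  classical
  let N : Fin n → Scheme.{u} := fun i => Curv2.normalization (I i).subscheme
  let ν : ∀ i, N i ⟶ (I i).subscheme := fun i => Curv2.normalizationι (I i).subscheme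
  let h₀ : ∀ i, N i ⟶ X := fun i => ν i ≫ (I i).subschemeι
  haveI : ∀ i, IsFinite (ν i) := hfin
  haveI hNi : ∀ i, IsIntegral (N i) := fun i =>
    inferInstanceAs (IsIntegral ((I i).subscheme.fromSpecStalk (genericPoint ↥(I i).subscheme)).normalization)
  haveI : ∀ i, IsFinite (h₀ i) := fun i => inferInstanceAs (IsFinite (ν i ≫ (I i).subschemeι))
  haveI hYn : ∀ i, IsLocallyNoetherian (I i).subscheme := fun i => LocallyOfFiniteType.isLocallyNoetherian (I i).subschemeι
  have hU : ∀ i, ∃ U : (I i).subscheme.Opens, (U : Set ↥(I i).subscheme).Nonempty ∧ IsIso (ν i ∣_ U) := fun i => by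
    haveI : IsFinite (Curv2.normalizationι (I i).subscheme) := hfin i
    obtain ⟨U, hU, hiso⟩ := Groth.Agent.BMLib.exists_isIso_normalization (X := (I i).subscheme)
    exact ⟨U, hU.nonempty, hiso⟩
  choose U hUne hUiso using hU
  have hgen : ∀ i, ν i (genericPoint (N i)) = genericPoint ↥(I i).subscheme ∧
      Function.Bijective ((ν i).stalkMap (genericPoint (N i))) := fun i => by
    haveI := hUiso i
    exact Groth.Agent.Coherent.birational_of_isIso_morphismRestrict (ν i) (U i) (hUne i)
  have hsν : ∀ i, Surjective (ν i) := fun i =>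
    ⟨fun v => (genericPoint_specializes v).mem_closed (ν i).isClosedMap.isClosed_range ⟨_, (hgen i).1⟩⟩
  have hdN : ∀ i, topologicalKrullDim (N i) = 1 := fun i => by
    haveI := hsν i
    exact le_antisymm ((Groth.Agent.AlgSpLib.topologicalKrullDim_le_of_isIntegralHom (ν i)).trans (hdim i).le)
      ((hdim i).ge.trans (Groth.Agent.AlgSpLib.topologicalKrullDim_ge_of_isIntegralHom (ν i)))
  have hN : ∀ i, ∀ x : N i, IsRegularLocalRing ((N i).presheaf.stalk x) := fun i x => by
    haveI : IsLocallyNoetherian (N i) := LocallyOfFiniteType.isLocallyNoetherian (ν i)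
    have hn : Pi1.IsNormalScheme (N i) :=
      Groth.Agent.NormalizationLib.isNormal (RingHom.id (I i).subscheme.functionField)
        ((I i).subscheme.fromSpecStalk (genericPoint ↥(I i).subscheme))
        (by rw [show CommRingCat.ofHom (RingHom.id (I i).subscheme.functionField) = 𝟙 _ from rfl, Spec.map_id, Category.id_comp])
    obtain ⟨hd, hic⟩ := hn x
    haveI := hd
    haveI := hic
    exact Groth.Agent.CAlgH3.isRegularLocalRing_of_normal_dim_le_one
      ((Groth.Agent.CurvesLib24.stalk_dim_le_topologicalKrullDim x).trans (hdN i).le)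
  have hη : ∀ i, h₀ i (genericPoint (N i)) = (I i).subschemeι (genericPoint ↥(I i).subscheme) := fun i => by
    show (ν i ≫ (I i).subschemeι) _ = _
    rw [Scheme.Hom.comp_apply, (hgen i).1]
  have hc : ∀ i, ¬ IsClosed ({h₀ i (genericPoint (N i))} : Set X) := fun i h => by
    refine Groth.Agent.CurvesLib24.not_isClosed_genericPoint (hdim i) ?_
    have : ({genericPoint ↥(I i).subscheme} : Set ↥(I i).subscheme) = (I i).subschemeι.base ⁻¹' {h₀ i (genericPoint (N i))} :=
      Set.ext fun w => ⟨fun hw => by rw [Set.mem_singleton_iff.1 hw, hη i]; rfl,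
        fun hw => (I i).subschemeι.isClosedEmbedding.injective ((Set.mem_singleton_iff.1 hw).trans (hη i))⟩
    rw [this]
    exact h.preimage (I i).subschemeι.continuous
  have hsurj : ∀ i, Function.Surjective ((h₀ i).stalkMap (genericPoint (N i))) := fun i => by
    show Function.Surjective ((ν i ≫ (I i).subschemeι).stalkMap (genericPoint (N i)))
    intro v
    obtain ⟨w, hw⟩ := (hgen i).2.2 v
    obtain ⟨z, hz⟩ := (I i).subschemeι.stalkMap_surjective (ν i (genericPoint (N i))) w
    refine ⟨z, ?_⟩
    rw [Scheme.Hom.stalkMap_comp]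
    show (ν i).stalkMap _ ((I i).subschemeι.stalkMap _ z) = v
    exact (congrArg _ hz).trans hw
  have hdist' : Function.Injective fun i => h₀ i (genericPoint (N i)) := fun i k e => by
    apply hdist
    have e' : (I i).subschemeι (genericPoint ↥(I i).subscheme) = (I k).subschemeι (genericPoint ↥(I k).subscheme) := by
      rw [← hη i, ← hη k]; exact e
    have hr : ∀ m, ((I m).support : Set X) = closure {(I m).subschemeι (genericPoint ↥(I m).subscheme)} := fun m => by
      have h2 := (genericPoint_spec ↥(I m).subscheme).image (I m).subschemeι.continuous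
      rw [h2.def, Set.image_univ, Scheme.IdealSheafData.range_subschemeι, (I m).support.isClosed.closure_eq]
    rw [Groth.Agent.Models7.eq_vanishingIdeal_of_isReduced (I i), Groth.Agent.Models7.eq_vanishingIdeal_of_isReduced (I k)]
    exact congrArg _ (TopologicalSpace.Closeds.ext (by rw [hr i, hr k, e']))
  obtain ⟨X₁, L₁, hL₁⟩ := exists_closedImm_all N h₀ hdN hN hc hsurj
    ⟨X, 𝟙 X, Resolve.IsPtBlowupSeq.iso (Iso.refl X), h₀, fun i => inferInstance, fun i => Category.comp_id _⟩ Finset.univ
  obtain ⟨X', L, hL, hdisj⟩ := exists_disjoint N h₀ hdN hN hc hdist' L₁ fun i => hL₁ i (Finset.mem_univ i)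
  haveI := hL
  let φ : ∀ i, (L.h i).ker.subscheme ≅ N i := fun i => (asIso (L.h i).toImage).symm
  have hφ : ∀ i, (φ i).hom ≫ L.h i = (L.h i).ker.subschemeι := fun i => by
    show inv (L.h i).toImage ≫ L.h i = _
    rw [IsIso.inv_comp_eq]
    exact (L.h i).toImage_imageι.symm
  refine ⟨X', L.g, L.seq, fun i => (L.h i).ker, fun i => (φ i).hom ≫ ν i, fun i => ⟨?_, ?_, ⟨U i, hUne i, ?_⟩, fun y => ?_⟩, fun i k hik => ?_⟩
  · haveI : Nonempty (L.h i).ker.subscheme := ⟨(φ i).inv (genericPoint (N i))⟩
    exact isIntegral_of_isOpenImmersion (φ i).hom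
  · rw [← hφ i, Category.assoc, Category.assoc, L.eq i]
  · have h1 : IsIso ((φ i).hom ∣_ (ν i ⁻¹ᵁ U i)) := (MorphismProperty.isomorphisms.iff _).1
      (IsZariskiLocalAtTarget.restrict ((MorphismProperty.isomorphisms.iff _).2 (φ i).isIso_hom) (ν i ⁻¹ᵁ U i))
    have h2 : IsIso ((φ i).hom ∣_ (ν i ⁻¹ᵁ U i) ≫ ν i ∣_ U i) := @IsIso.comp_isIso _ _ _ _ _ _ _ h1 (hUiso i)
    rw [morphismRestrict_comp]
    exact h2
  · haveI := hN i ((φ i).hom y)
    exact IsRegularLocalRing.of_ringEquiv (R := (N i).presheaf.stalk ((φ i).hom y))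
      (asIso ((φ i).hom.stalkMap y)).commRingCatIsoToRingEquiv
  · rw [Scheme.Hom.support_ker, Scheme.Hom.support_ker]
    show Disjoint (closure (Set.range (L.h i).base)) (closure (Set.range (L.h k).base))
    rw [(L.h i).isClosedEmbedding.isClosed_range.closure_eq, (L.h k).isClosedEmbedding.isClosed_range.closure_eq]
    exact hdisj i k hik

end Groth.Agent.S7374
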