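import Groth.Statements.S7376
import Groth.Agent.Resolve13.NormPtResolve

set_option autoImplicit false
set_option backward.isDefEq.respectTransparency.types false
universe u
open CategoryTheory CategoryTheory.Limits AlgebraicGeometry
open Resolve

namespace Groth.Agent.S7376

open Resolve13

/-- Let (A, m, κ) be a Noetherian local normal domain of dimension two and assume Spec A has a
resolution of singularities (a proper morphism X → Spec A from an integral scheme with regular local
rings which is an isomorphism over a nonempty open). Then Spec A has a resolution by normalized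
blowups: there is a finite sequence of normalized blowings up in closed points X_n → X_{n-1} → … →
X_1 → Spec A with X_n proper over Spec A and regular. (A is normal, so Spec A is its own
normalization and the sequence starts at Spec A itself; the published definition of such a
resolution asks every X_i to be proper over Spec A, and this row records properness of X_n → Spec
A.) -/
theorem result (A : Type u) [CommRing A] [IsDomain A] [IsLocalRing A]
    [IsNoetherianRing A] [IsIntegrallyClosed A] (hdim : ringKrullDim A = 2)
    (hres : ∃ (X : Scheme.{u}) (f : X ⟶ Spec (CommRingCat.of A)), IsProper f ∧ IsIntegral X ∧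
      (∃ U : (Spec (CommRingCat.of A)).Opens, (U : Set (Spec (CommRingCat.of A))).Nonempty ∧ IsIso (f ∣_ U)) ∧
      ∀ x : X, IsRegularLocalRing (X.presheaf.stalk x)) :
    ∃ (Xn : Scheme.{u}) (g : Xn ⟶ Spec (CommRingCat.of A)), Resolve.IsNormPtBlowupSeq g ∧ IsProper g ∧
      ∀ x : Xn, IsRegularLocalRing (Xn.presheaf.stalk x) := by
  obtain ⟨X, f, hfp, hXi, hbir, hreg⟩ := hres
  haveI := hfp
  haveI := hXi
  haveI : IsLocallyNoetherian X := LocallyOfFiniteType.isLocallyNoetherian f
  haveI : CompactSpace X := QuasiCompact.compactSpace_of_compactSpace f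
  have hd : ∀ p : Spec (CommRingCat.of A), ringKrullDim ((Spec (CommRingCat.of A)).presheaf.stalk p) ≤ 2 :=
    fun p => ringKrullDim_stalk_spec_le hdim.le _
  obtain ⟨U, hUne, hU⟩ := id hbir
  haveI := hU
  obtain ⟨hfη, hfb⟩ := Coherent.birational_of_isIso_morphismRestrict f U hUne
  have hX : Models7.RegSurf X := ⟨hXi, inferInstance, inferInstance, hreg, NormPt.dim_le_of_stalks 2 fun x =>
    (Modification.ringKrullDim_stalk_le f hfη hfb x).trans (hd _)⟩
  have hη : ¬ IsClosed ({genericPoint (Spec (CommRingCat.of A))} : Set (Spec (CommRingCat.of A))) := by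
    intro hc
    let S := Spec (CommRingCat.of A)
    let z₀ : S := IsLocalRing.closedPoint A
    let b₀ : S := (⊥ : PrimeSpectrum A)
    have h1 : z₀ ∈ closure ({genericPoint S} : Set S) :=
      specializes_iff_mem_closure.1 (genericPoint_specializes z₀)
    rw [hc.closure_eq] at h1
    have h1' : z₀ = genericPoint S := h1
    have h2 : z₀ ⤳ b₀ := h1' ▸ genericPoint_specializes b₀
    have h3 := (PrimeSpectrum.le_iff_specializes (IsLocalRing.closedPoint A) (⊥ : PrimeSpectrum A)).2 h2
    have h4 : ringKrullDim A ≤ 1 := NormPt.dim_le_one_of_principal (0 : A) (by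
      rw [Ideal.span_singleton_eq_bot.2 rfl]
      exact le_bot_iff.1 h3)
    rw [hdim] at h4
    exact absurd h4 (by decide)
  obtain ⟨Xn, g, hg, hreg'⟩ := NormPt.exists_regular_seq (CommAlg4.Cone.isNormalScheme_spec (CommRingCat.of A)) hd hη hX f hbir
  exact ⟨Xn, g, hg.seq, hg.proper, hreg'⟩

end Groth.Agent.S7376
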