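import Groth.Statements.S7384
import Groth.Agent.H8Lim.ApproxFP
import Mathlib

set_option backward.isDefEq.respectTransparency.types false

set_option autoImplicit false
universe u
open CategoryTheory AlgebraicGeometry
open Lim

namespace Groth.Agent.S7384

/-- Let `f : X → S` be a morphism of quasi-compact quasi-separated schemes. Then `f` is a limit of
morphisms `f_i : X_i → S_i` indexed by a nonempty directed set: there are inverse systems `X_i`,
`S_i` of quasi-compact schemes locally of finite type over `ℤ` with affine transition morphisms, a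
compatible family of morphisms `f_i`, and limit cones identified with `X` and `S` compatibly with
`f`. -/
theorem result {X S : Scheme.{u}} (f : X ⟶ S) [CompactSpace X]
    [QuasiSeparatedSpace X] [CompactSpace S] [QuasiSeparatedSpace S] :
    ∃ (I : Type u) (_ : Preorder I) (_ : IsDirected I (fun a b => a ≤ b)) (_ : Nonempty I)
      (DX DS : Iᵒᵖ ⥤ Scheme.{u}) (φ : DX ⟶ DS)
      (cX : Limits.Cone DX) (cS : Limits.Cone DS) (_ : Limits.IsLimit cX) (_ : Limits.IsLimit cS)
      (eX : cX.pt ≅ X) (eS : cS.pt ≅ S),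
      (∀ (i j : Iᵒᵖ) (a : i ⟶ j), IsAffineHom (DX.map a) ∧ IsAffineHom (DS.map a)) ∧
      (∀ i, CompactSpace (DX.obj i) ∧ CompactSpace (DS.obj i) ∧
        LocallyOfFiniteType (Limits.IsTerminal.from specULiftZIsTerminal (DX.obj i)) ∧
        LocallyOfFiniteType (Limits.IsTerminal.from specULiftZIsTerminal (DS.obj i))) ∧
      (∀ i, cX.π.app i ≫ φ.app i = eX.hom ≫ f ≫ eS.inv ≫ cS.π.app i) := by
  obtain ⟨X₁, Y₁, a, b, f₁, w, ha, hb, hc, hc', hqs, hN, hlft, hX⟩ := H8Lim.exists_int_model_hom f
  refine ⟨H8Lim.PairModel a b f f₁ w, inferInstance, inferInstance, inferInstance,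
    H8Lim.PairModel.srcDiagram a b f f₁ w, H8Lim.PairModel.tgtDiagram a b f f₁ w,
    H8Lim.PairModel.modelHom a b f f₁ w, H8Lim.PairModel.srcCone a b f f₁ w,
    H8Lim.PairModel.tgtCone a b f f₁ w, (H8Lim.PairModel.isLimit_srcCone a b f f₁ w).some,
    (H8Lim.PairModel.isLimit_tgtCone a b f f₁ w).some, Iso.refl _, Iso.refl _,
    fun i j g ↦ ⟨inferInstance, inferInstance⟩, fun i ↦ ⟨?_, ?_, ?_, ?_⟩, fun i ↦ ?_⟩
  · show CompactSpace i.unop.F.alg.spec
    have : IsAffineHom i.unop.F.alg.π := i.unop.F.alg.isAffineHom_π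
    exact QuasiCompact.compactSpace_of_compactSpace i.unop.F.alg.π
  · show CompactSpace i.unop.G.alg.spec
    have : IsAffineHom i.unop.G.alg.π := i.unop.G.alg.isAffineHom_π
    exact QuasiCompact.compactSpace_of_compactSpace i.unop.G.alg.π
  · have h : LocallyOfFiniteType ((i.unop.F.alg.π ≫ f₁) ≫ specULiftZIsTerminal.from X₁) :=
      inferInstance
    rwa [specULiftZIsTerminal.hom_ext ((i.unop.F.alg.π ≫ f₁) ≫ specULiftZIsTerminal.from X₁)
      (specULiftZIsTerminal.from _)] at h
  · have h : LocallyOfFiniteType (i.unop.G.alg.π ≫ specULiftZIsTerminal.from X₁) :=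
      inferInstance
    rwa [specULiftZIsTerminal.hom_ext (i.unop.G.alg.π ≫ specULiftZIsTerminal.from X₁)
      (specULiftZIsTerminal.from _)] at h
  · simp only [Iso.refl_hom, Iso.refl_inv]
    erw [Category.id_comp, Category.id_comp]
    exact H8Lim.PairModel.cone_modelHom a b f f₁ w i

end Groth.Agent.S7384
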