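import Groth.Statements.S7386
import Mathlib
import Groth.Agent.Misc15.QSGeneric
-- import your own Groth.Agent.* helpers here

set_option autoImplicit false
universe u
open CategoryTheory AlgebraicGeometry
open Mor

namespace Groth.Agent.S7386

/-- Let `X` be a quasi-separated scheme, `η_1, …, η_n` generic points of irreducible components of `X`
and `x` any point of `X`. Then some affine open of `X` contains `x` and all the `η_i`. -/
theorem result (X : Scheme.{u}) [QuasiSeparatedSpace X] {n : ℕ}
    (η : Fin n → X) (hη : ∀ i, closure ({η i} : Set X) ∈ irreducibleComponents (X : Type u)) (x : X) :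
    ∃ U : X.Opens, IsAffineOpen U ∧ x ∈ U ∧ ∀ i, η i ∈ U := by
  classical
  obtain ⟨U, hU, hxU, -⟩ := exists_isAffineOpen_mem_and_subset (x := x) (U := ⊤) trivial
  let S := {z : X | z ∈ Set.range η ∧ z ∉ U}
  haveI : Finite ↥S := ((Set.finite_range η).subset fun z hz => hz.1).to_subtype
  have hS : ∀ z : S, closure ({(z : X)} : Set X) ∈ irreducibleComponents (X : Type u) := by
    rintro ⟨_, ⟨i, rfl⟩, -⟩; exact hη i
  let O : X.Opens := ⟨(closure (U : Set X))ᶜ, isClosed_closure.isOpen_compl⟩
  obtain ⟨W, hW, hd⟩ := Misc15.exists_disjoint_affine_nhds (fun z : S => (z : X)) hS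
    Subtype.val_injective O (fun z => Misc15.notMem_closure_of_generic hU.isCompact (hS z) z.2.2)
  refine ⟨U ⊔ ⨆ z, W z, hU.sup_of_disjoint (IsAffineOpen.iSup_of_disjoint (fun z => (hW z).1) hd) ?_,
    Or.inl hxU, fun i => ?_⟩
  · refine disjoint_iff_inf_le.2 fun z hz => ?_
    obtain ⟨j, hj⟩ := TopologicalSpace.Opens.mem_iSup.1 hz.2
    exact (hW j).2.2 hj (subset_closure hz.1)
  · by_cases h : η i ∈ U
    · exact Or.inl h
    · exact Or.inr (TopologicalSpace.Opens.mem_iSup.2 ⟨⟨η i, ⟨i, rfl⟩, h⟩, (hW _).2.1⟩)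

end Groth.Agent.S7386
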