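import Groth.Statements.S7387
import Mathlib
import Groth.Agent.Misc15.QSGeneric
-- import your own Groth.Agent.* helpers here

set_option autoImplicit false
universe u
open CategoryTheory AlgebraicGeometry
open Mor

namespace Groth.Agent.S7387

/-- A quasi-compact scheme has a dense open subscheme which is separated. -/
theorem result (X : Scheme.{u}) [CompactSpace X] :
    ∃ V : X.Opens, Dense (V : Set X) ∧ (V : Scheme.{u}).IsSeparated := by
  classical
  choose U hU hmem _ using fun x : X => exists_isAffineOpen_mem_and_subset (x := x) (U := ⊤) trivial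
  obtain ⟨t, ht⟩ := isCompact_univ.elim_finite_subcover (fun x => (U x : Set X)) (fun x => (U x).2)
    (fun x _ => Set.mem_iUnion.2 ⟨x, hmem x⟩)
  suffices ∀ t : Finset X, ∃ V : X.Opens, (V : Scheme.{u}).IsSeparated ∧
      ∀ x ∈ t, (U x : Set X) ⊆ closure (V : Set X) by
    obtain ⟨V, hV, hsub⟩ := this t
    refine ⟨V, fun z => ?_, hV⟩
    obtain ⟨x, hx, hz⟩ := Set.mem_iUnion₂.1 (ht (Set.mem_univ z))
    exact hsub x hx hz
  intro t
  induction t using Finset.induction with
  | empty =>
    refine ⟨⊥, ?_, by simp⟩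
    haveI : IsEmpty ↥((⊥ : X.Opens) : Scheme.{u}) := ⟨fun z => z.2⟩
    haveI : IsAffine ((⊥ : X.Opens) : Scheme.{u}) := isAffine_of_isEmpty
    infer_instance
  | insert a t ha ih =>
    obtain ⟨V, hV, hsub⟩ := ih
    let W : X.Opens := U a ⊓ ⟨(closure (V : Set X))ᶜ, isClosed_closure.isOpen_compl⟩
    haveI : (W : Scheme.{u}).IsSeparated := by
      haveI : IsAffine (U a : Scheme.{u}) := hU a
      exact ⟨by
        rw [show CategoryTheory.Limits.terminal.from (W : Scheme.{u}) = X.homOfLE (inf_le_left : W ≤ U a) ≫ CategoryTheory.Limits.terminal.from _ from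
          CategoryTheory.Limits.terminal.hom_ext _ _]
        exact MorphismProperty.comp_mem (W := @IsSeparated) _ _ inferInstance inferInstance⟩
    refine ⟨V ⊔ W, Misc15.isSeparated_sup_of_disjoint
      (disjoint_iff_inf_le.2 fun z hz => hz.2.2 (subset_closure hz.1)), fun x hx z hz => ?_⟩
    rcases Finset.mem_insert.1 hx with rfl | hx
    · by_cases h : z ∈ closure (V : Set X)
      · exact closure_mono (fun y hy => Or.inl hy) h
      · exact subset_closure (Or.inr ⟨hz, h⟩)
    · exact closure_mono (fun y hy => Or.inl hy) (hsub x hx hz)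

end Groth.Agent.S7387
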