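import Mathlib.AlgebraicGeometry.AffineScheme
import Mathlib.AlgebraicGeometry.Morphisms.QuasiSeparated
import Mathlib.AlgebraicGeometry.Morphisms.Separated
import Mathlib.AlgebraicGeometry.Morphisms.Immersion
import Mathlib.AlgebraicGeometry.ProjectiveSpectrum.Scheme
import Mathlib.Topology.Irreducible
import Mathlib.AlgebraicGeometry.Limits
import Groth.Agent.GrpdLib.InvariantAffine

set_option autoImplicit false
universe u
namespace CategoryTheory
end CategoryTheory
namespace AlgebraicGeometry
end AlgebraicGeometry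
open CategoryTheory AlgebraicGeometry
namespace Mor
end Mor
open Mor

namespace Groth.Agent.S7389

/-- Let `X` be a scheme admitting an immersion into an affine scheme. Then any finite set of points of
`X` is contained in an affine open of `X`. -/
theorem result {X Y : Scheme.{u}} [IsAffine Y] (ι : X ⟶ Y)
    [IsImmersion ι] (E : Set X) (hE : E.Finite) :
    ∃ U : X.Opens, IsAffineOpen U ∧ E ⊆ U := by
  let f := ι.liftCoborder
  haveI : IsClosedImmersion f := inferInstance
  obtain ⟨r, hr, hle⟩ := Groth.Agent.GrpdLib.exists_basicOpen_of_finite (ι.base '' E) (hE.image _) ι.coborderRange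
    (by rintro _ ⟨x, -, rfl⟩; exact subset_coborder ⟨x, rfl⟩)
  refine ⟨ι ⁻¹ᵁ Y.basicOpen r, ?_, fun x hx => hr ⟨x, hx, rfl⟩⟩
  have h : IsAffineOpen (ι.coborderRange.ι ⁻¹ᵁ Y.basicOpen r) := by
    rw [← ι.coborderRange.ι.isAffineOpen_iff_of_isOpenImmersion, Scheme.Hom.image_preimage_eq_opensRange_inf,
      Scheme.Opens.opensRange_ι, inf_eq_right.2 hle]
    exact (isAffineOpen_top Y).basicOpen r
  have := h.preimage f
  rwa [← Scheme.Hom.comp_preimage, ι.liftCoborder_ι] at this

end Groth.Agent.S7389
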