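import Groth.Prelude.Def_CohB1
import Groth.Prelude.Def_Pic
import Mathlib.AlgebraicGeometry.Limits
import Mathlib.AlgebraicGeometry.Morphisms.Affine
import Mathlib.CategoryTheory.Limits.Shapes.Diagonal
import Groth.Agent.AmpleLib.Ample

set_option autoImplicit false
universe u
namespace CategoryTheory
end CategoryTheory
namespace AlgebraicGeometry
end AlgebraicGeometry
open CategoryTheory AlgebraicGeometry
namespace Mor
end Mor
open Mor

namespace Groth.Agent.S7390

/-- Let `X` be a scheme such that every point lies in some affine open `X_s`, the locus where a global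
section `s` generates an invertible `O_X`-module `L` (both depending on the point). Then the
diagonal of `X` is an affine morphism. -/
theorem result (X : Scheme.{u})
    (h : ∀ x : X, ∃ (L : X.Modules) (s : Coh.structureModule X ⟶ L), PicF.IsInvertible L ∧
      x ∈ CohB1.genLocus L s ∧ IsAffineOpen (CohB1.genLocus L s)) :
    IsAffineHom (Limits.pullback.diagonal (Limits.terminal.from X)) := by
  rw [isAffineHom_diagonal_iff]
  intro O _ U _ V _ hU hV
  have hι : IsAffineHom V.ι := by
    refine isAffineHom_of_forall_exists_isAffineOpen _ fun x => ?_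
    obtain ⟨L, s, hL, hxs, ha⟩ := h x
    refine ⟨CohB1.genLocus L s, hxs, ha, ?_⟩
    rw [← V.ι.isAffineOpen_iff_of_isOpenImmersion, V.ι.image_preimage_eq_opensRange_inf,
      Scheme.Opens.opensRange_ι, inf_comm, Groth.Agent.AmpleLib.genLocus_eq_glocus]
    exact Groth.Agent.AmpleLib.isAffineOpen_glocus_inf hL _ hV
  have := V.ι.isAffineOpen_iff_of_isOpenImmersion.2 (hU.preimage V.ι)
  rwa [V.ι.image_preimage_eq_opensRange_inf, Scheme.Opens.opensRange_ι, inf_comm] at this

end Groth.Agent.S7390
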