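import Groth.Prelude.Def_Coh
import Mathlib.AlgebraicGeometry.AffineScheme
import Mathlib.Algebra.Module.Projective
import Groth.Agent.MorProj.Basic

set_option autoImplicit false
universe u
namespace CategoryTheory
end CategoryTheory
namespace AlgebraicGeometry
end AlgebraicGeometry
open CategoryTheory AlgebraicGeometry
namespace Opposite
end Opposite
open Opposite
namespace Mor
end Mor
open Mor

namespace Groth.Agent.S7391

/-- Let `F` be a quasi-coherent `O_X`-module on a scheme `X`. Then `F(U)` is a projective
`O_X(U)`-module for every affine open `U` (that is, `F` is locally projective) if and only if `X`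
has a covering by affine opens `U_i` with `F(U_i)` projective over `O_X(U_i)`. -/
theorem result (X : Scheme.{u}) (F : X.Modules) [Coh.IsQCoh F] :
    (∀ U : X.Opens, IsAffineOpen U → Module.Projective (X.ringCatSheaf.obj.obj (op U)) (F.val.obj (op U))) ↔
      ∃ (I : Type u) (U : I → X.Opens), (⨆ i, U i) = ⊤ ∧ ∀ i, IsAffineOpen (U i) ∧
        Module.Projective (X.ringCatSheaf.obj.obj (op (U i))) (F.val.obj (op (U i))) := by
  constructor
  · intro h
    exact ⟨X.affineOpens, fun i => i.1, iSup_affineOpens_eq_top X, fun i => ⟨i.2, h _ i.2⟩⟩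
  · rintro ⟨I, U, hU, h⟩ V hV
    refine Groth.Agent.MorProj.projective_of_cover F (fun x => ?_) hV
    obtain ⟨i, hi⟩ := TopologicalSpace.Opens.mem_iSup.1 (hU.ge (show x ∈ (⊤ : X.Opens) from trivial))
    exact ⟨U i, hi, (h i).1, (h i).2⟩

end Groth.Agent.S7391
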