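import Groth.Prelude.Def_Coh
import Mathlib.AlgebraicGeometry.AffineScheme
import Mathlib.Algebra.Module.Projective
import Mathlib.AlgebraicGeometry.Modules.Tilde
import Groth.Agent.MorProj.Basic

set_option autoImplicit false
universe u
namespace CategoryTheory
end CategoryTheory
namespace AlgebraicGeometry
end AlgebraicGeometry
set_option backward.isDefEq.respectTransparency false

open CategoryTheory AlgebraicGeometry
namespace Opposite
end Opposite
open Opposite
namespace Mor
end Mor
open Mor

namespace Groth.Agent.S7392

/-- For a ring `A` and an `A`-module `M`, the module `M~` on `Spec A` is locally projective (projective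
sections over every affine open) if and only if `M` is a projective `A`-module. -/
theorem result (A : CommRingCat.{u}) (M : ModuleCat.{u} A) :
    (∀ U : (Spec A).Opens, IsAffineOpen U →
      Module.Projective ((Spec A).ringCatSheaf.obj.obj (op U)) ((tilde M).val.obj (op U))) ↔
      Module.Projective A M := by
  haveI : Coh.IsQCoh (tilde (R := A) M) := Groth.Agent.MorProj.isQCoh_tilde A M
  let σ : A ≃+* Γ(Spec A, ⊤) := (Scheme.ΓSpecIso A).symm.commRingCatIsoToRingEquiv
  let e : M ≃+ Γ(tilde (R := A) M, ⊤) := (tilde.isoTop (R := A) M).toLinearEquiv.toAddEquiv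
  have he : ∀ (r : A) (m : M), e (r • m) = σ r • e m := fun r m => (tilde.isoTop (R := A) M).toLinearEquiv.map_smul r m
  constructor
  · intro h
    have h' : Module.Projective Γ(Spec A, ⊤) Γ(tilde (R := A) M, ⊤) := h ⊤ (isAffineOpen_top _)
    refine Groth.Agent.MorProj.projective_of_ringEquiv σ.symm e.symm fun r m => ?_
    apply e.injective
    rw [he, e.apply_symm_apply, e.apply_symm_apply, σ.apply_symm_apply]
  · intro h U hU
    exact Groth.Agent.MorProj.projective_of_cover (tilde (R := A) M)
      (fun x => ⟨⊤, trivial, isAffineOpen_top _, Groth.Agent.MorProj.projective_of_ringEquiv σ e he⟩) hU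

end Groth.Agent.S7392
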