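import Groth.Statements.S7394
import Groth.Agent.H8ProCons.CommonField

set_option autoImplicit false
universe u
open CategoryTheory AlgebraicGeometry
open Lim

namespace Groth.Agent.S7394

/-- Let `S` be a scheme and `T_i → S`, `i ∈ I`, surjective affine morphisms. Then any product of the
`T_i` in the category of schemes over `S` maps surjectively onto `S`. -/
theorem result {S : Scheme.{u}} {I : Type u} (T : I → Over S)
    (hT : ∀ i, IsAffineHom (T i).hom ∧ Surjective (T i).hom) (c : Limits.Fan T) (hc : Limits.IsLimit c) :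
    Surjective c.pt.hom := by
  refine ⟨fun s ↦ ?_⟩
  have hpt : ∀ i, ∃ (K : Type u) (_ : Field K) (_ : Algebra (S.residueField s) K)
      (g : Spec (CommRingCat.of K) ⟶ (T i).left),
      g ≫ (T i).hom = Spec.map (CommRingCat.ofHom (algebraMap (S.residueField s) K)) ≫ S.fromSpecResidueField s := by
    intro i
    obtain ⟨x, hx⟩ := (hT i).2.surj s
    obtain rfl := hx
    refine ⟨(T i).left.residueField x, inferInstance, ((T i).hom.residueFieldMap x).hom.toAlgebra,
      (T i).left.fromSpecResidueField x, ?_⟩
    exact ((T i).hom.SpecMap_residueFieldMap_fromSpecResidueField x).symm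
  choose K hKf hKa g hg using hpt
  obtain ⟨Ω, hΩf, -, hΩa, hΩ⟩ := H8ProCons.exists_common_field (κ := S.residueField s) K
  let e := fun i ↦ (hΩ i).some
  let p : Spec (CommRingCat.of Ω) ⟶ S :=
    Spec.map (CommRingCat.ofHom (algebraMap (S.residueField s) Ω)) ≫ S.fromSpecResidueField s
  let F : Limits.Fan T := Limits.Fan.mk (Over.mk p) fun i ↦
    Over.homMk (Spec.map (CommRingCat.ofHom (e i).toRingHom) ≫ g i) (by
      dsimp [p]
      rw [Category.assoc, hg i, ← Spec.map_comp_assoc, ← CommRingCat.ofHom_comp]
      congr 3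
      exact (e i).comp_algebraMap)
  let l := (hc.lift F).left
  have hl : l ≫ c.pt.hom = p := Over.w (hc.lift F)
  let z : Spec (CommRingCat.of Ω) := IsLocalRing.closedPoint Ω
  refine ⟨l z, ?_⟩
  rw [← Scheme.Hom.comp_apply, hl]
  exact S.fromSpecResidueField_apply s _

end Groth.Agent.S7394
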