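import Groth.Statements.S7396
import Groth.Agent.H8Lim.FiniteApprox
import Mathlib

set_option backward.isDefEq.respectTransparency.types false

set_option autoImplicit false
universe u
open CategoryTheory AlgebraicGeometry
open Lim

namespace Groth.Agent.S7396

/-- Let `f : X → S` be finite with `S` quasi-compact and quasi-separated. Then there are a morphism `f'
: X' → S` which is finite and of finite presentation and a closed immersion `X → X'` over `S`. -/
theorem result {X S : Scheme.{u}} (f : X ⟶ S) [IsFinite f]
    [CompactSpace S] [QuasiSeparatedSpace S] :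
    ∃ (X' : Scheme.{u}) (f' : X' ⟶ S) (j : X ⟶ X'), IsFinite f' ∧ LocallyOfFinitePresentation f' ∧
      IsClosedImmersion j ∧ j ≫ f' = f := by
  obtain ⟨I, _, _, ⟨i₀⟩, D, c, -, hD, -, hcl, ⟨e⟩⟩ := Groth.Agent.H8Lim.exists_limit_finite_finitePresentation f
  refine ⟨(D.obj (Opposite.op i₀)).left, (D.obj (Opposite.op i₀)).hom,
    (e.inv ≫ c.π.app (Opposite.op i₀)).left, (hD _).1, (hD _).2, ?_, Over.w _⟩
  have := hcl (Opposite.op i₀)
  rw [Over.comp_left]
  haveI : IsIso e.inv.left := (Over.forget S).map_isIso e.inv
  infer_instance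

end Groth.Agent.S7396
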