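import Groth.Statements.S7397
import Groth.Agent.UnivHomeo.Ring

set_option autoImplicit false
universe u
open Mor

namespace Groth.Agent.S7397

/-- Let `A ⊆ B` be a ring extension and `b ∈ B`, `b ∉ A`, with `b^n, b^(n+1) ∈ A` for some `n ≥ 2`. Then
some `b' ∈ B` with `b' ∉ A` has `b'^2 ∈ A` and `b'^3 ∈ A`. -/
theorem result {B : Type u} [CommRing B] (A : Subring B) (b : B) (hb : b ∉ A)
    (n : ℕ) (hn : 2 ≤ n) (h1 : b ^ n ∈ A) (h2 : b ^ (n + 1) ∈ A) :
    ∃ b' : B, b' ∉ A ∧ b' ^ 2 ∈ A ∧ b' ^ 3 ∈ A := by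
  by_contra hcon
  push Not at hcon
  have h23 : ∀ x : B, x ^ 2 ∈ A → x ^ 3 ∈ A → x ∈ A := fun x h2 h3 => by
    by_contra hx
    exact hcon x hx h2 h3
  refine hb (Groth.Agent.UnivHomeo.mem_of_pow_mem h23 (N := n * n) fun k hk => ?_)
  have hq : n ≤ k / n := (Nat.le_div_iff_mul_le (by omega)).2 (by omega)
  have hr : k % n < n := Nat.mod_lt _ (by omega)
  have hkk : (k / n - k % n) * n + k % n * (n + 1) = k := by
    conv_rhs => rw [← Nat.div_add_mod k n]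
    obtain ⟨d, hd⟩ := Nat.exists_eq_add_of_le (hr.le.trans hq)
    rw [hd, Nat.add_sub_cancel_left]
    ring
  rw [← hkk, pow_add, mul_comm _ n, mul_comm _ (n + 1), pow_mul, pow_mul]
  exact A.mul_mem (A.pow_mem h1 _) (A.pow_mem h2 _)

end Groth.Agent.S7397
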