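import Groth.Statements.S7398
import Groth.Agent.UnivHomeo.Scheme
import Groth.Agent.UnivHomeo.Tower
import Groth.Agent.UnivHomeo.Adjoin

set_option autoImplicit false
universe u
open CategoryTheory AlgebraicGeometry
open Mor

namespace Groth.Agent.S7398

/-- Let `A ⊆ B` be a ring extension with `A ≠ B` such that `Spec B → Spec A` is a universal
homeomorphism whose residue field extensions are all trivial. Then some `b ∈ B` with `b ∉ A` has
`b^2 ∈ A` and `b^3 ∈ A`. (Here `A → B` is an injective, non-surjective ring map and membership in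
`A` means membership in its image.) -/
theorem result {A B : Type u} [CommRing A] [CommRing B]
    (φ : A →+* B) (hinj : Function.Injective φ) (hns : ¬ Function.Surjective φ)
    (hU : FlatMor.IsUnivHomeo (Spec.map (CommRingCat.ofHom φ)))
    (hres : ∀ x : Spec (CommRingCat.of B), Function.Surjective ((Spec.map (CommRingCat.ofHom φ)).residueFieldMap x)) :
    ∃ b : B, b ∉ φ.range ∧ b ^ 2 ∈ φ.range ∧ b ^ 3 ∈ φ.range := by
  obtain ⟨hint, hrad, -⟩ := (Groth.Agent.UnivHomeo.isUnivHomeo_iff φ).1 hU
  by_contra hcon
  push Not at hcon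
  refine hns (RingHom.range_eq_top.1 (Groth.Agent.UnivHomeo.eq_top_of_closed φ φ.range hint hrad le_rfl
    ?_ (Or.inl ((Groth.Agent.UnivHomeo.residueFieldMap_surjective_iff φ).1 hres))))
  intro x h2 h3
  by_contra hx
  exact hcon x hx h2 h3

end Groth.Agent.S7398
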