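import Groth.Statements.S7400
import Groth.Agent.UnivHomeo.Scheme
import Groth.Agent.UnivHomeo.Tower
import Groth.Agent.UnivHomeo.Adjoin

set_option autoImplicit false
universe u
open CategoryTheory AlgebraicGeometry
open Mor

namespace Groth.Agent.S7400

/-- Let `A ⊆ B` be a ring extension. The morphism `Spec B → Spec A` is a universal homeomorphism with
all residue field extensions trivial exactly when each finite subset of `B` is contained in some
`A[b_1, …, b_n] ⊆ B` such that `b_i^2` and `b_i^3` lie in `A[b_1, …, b_{i-1}]` for every `i`. (Here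
`A → B` is an injective ring map and `A[b_1, …, b_{i-1}]` is the `A`-subalgebra generated by the
earlier entries.) -/
theorem result {A B : Type u} [CommRing A] [CommRing B] [Algebra A B]
    (hinj : Function.Injective (algebraMap A B)) :
    (FlatMor.IsUnivHomeo (Spec.map (CommRingCat.ofHom (algebraMap A B))) ∧
      ∀ x : Spec (CommRingCat.of B),
        Function.Surjective ((Spec.map (CommRingCat.ofHom (algebraMap A B))).residueFieldMap x)) ↔
    ∀ E : Finset B, ∃ l : List B, (↑E : Set B) ⊆ Algebra.adjoin A {b : B | b ∈ l} ∧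
      ∀ i : Fin l.length, l.get i ^ 2 ∈ Algebra.adjoin A {b : B | ∃ j : Fin l.length, j < i ∧ b = l.get j} ∧
        l.get i ^ 3 ∈ Algebra.adjoin A {b : B | ∃ j : Fin l.length, j < i ∧ b = l.get j} := by
  rw [Groth.Agent.UnivHomeo.isUnivHomeo_iff, Groth.Agent.UnivHomeo.residueFieldMap_surjective_iff]
  constructor
  · rintro ⟨⟨hint, hrad, -⟩, htriv⟩ E
    exact Groth.Agent.UnivHomeo.exists_good_of_union_eq_top Groth.Agent.UnivHomeo.StepC.mono
      (Groth.Agent.UnivHomeo.union_stepC_eq_top hint hrad htriv) E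
  · intro h
    have h' : ∀ E : Finset B, ∃ l : List B, (↑E : Set B) ⊆ Algebra.adjoin A {b : B | b ∈ l} ∧
        Groth.Agent.UnivHomeo.Good A Groth.Agent.UnivHomeo.StepP l := fun E =>
      (h E).imp fun l hl => ⟨hl.1, Groth.Agent.UnivHomeo.good_stepP_of_stepC hl.2⟩
    refine ⟨⟨Groth.Agent.UnivHomeo.isIntegral_of_good h', Groth.Agent.UnivHomeo.rad_of_good h', ?_⟩,
      Groth.Agent.UnivHomeo.triv_of_good h⟩
    rw [(RingHom.injective_iff_ker_eq_bot _).1 hinj]
    exact bot_le

end Groth.Agent.S7400
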