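import Groth.Statements.S7402
import Groth.Agent.UnivHomeo.Scheme
import Groth.Agent.UnivHomeo.Tower
import Groth.Agent.UnivHomeo.Adjoin

set_option autoImplicit false
universe u
open CategoryTheory AlgebraicGeometry
open Polynomial
open Mor

namespace Groth.Agent.S7402

/-- Let `A` be a ring and `x, y ∈ A` with `x^3 = y^2`. Then `A → B = A[t]/(t^2 - x, t^3 - y)` induces a
universal homeomorphism on spectra and isomorphisms on residue fields. -/
theorem result (A : Type u) [CommRing A] (x y : A) (h : x ^ 3 = y ^ 2) :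
    FlatMor.IsUnivHomeo (Spec.map (CommRingCat.ofHom (algebraMap A
      (A[X] ⧸ Ideal.span ({X ^ 2 - C x, X ^ 3 - C y} : Set A[X]))))) ∧
    ∀ q : Spec (CommRingCat.of (A[X] ⧸ Ideal.span ({X ^ 2 - C x, X ^ 3 - C y} : Set A[X]))),
      Function.Surjective ((Spec.map (CommRingCat.ofHom (algebraMap A
        (A[X] ⧸ Ideal.span ({X ^ 2 - C x, X ^ 3 - C y} : Set A[X]))))).residueFieldMap q) := by
  have hUH := Groth.Agent.UnivHomeo.uh_adjoin_sq_cube x y fun L _ g => by rw [← map_pow, ← map_pow, h]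
  refine ⟨(Groth.Agent.UnivHomeo.isUnivHomeo_iff _).2 hUH, ?_⟩
  rw [Groth.Agent.UnivHomeo.residueFieldMap_surjective_iff]
  refine Groth.Agent.UnivHomeo.triv_of_good fun E => ⟨[Ideal.Quotient.mk _ X], ?_, ?_⟩
  · intro z hz
    clear hz
    obtain ⟨z, rfl⟩ := Ideal.Quotient.mk_surjective z
    induction z using Polynomial.induction_on' with
    | add p q hp hq => rw [map_add]; exact add_mem hp hq
    | monomial m a =>
      rw [← C_mul_X_pow_eq_monomial, map_mul, map_pow]
      exact mul_mem (Subalgebra.algebraMap_mem _ a) (pow_mem (Algebra.subset_adjoin (by simp)) m)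
  · intro i
    have hi : ([Ideal.Quotient.mk (Ideal.span ({X ^ 2 - C x, X ^ 3 - C y} : Set A[X])) X]).get i =
        Ideal.Quotient.mk _ X := by fin_cases i; rfl
    rw [hi]
    refine ⟨?_, ?_⟩
    · rw [← map_pow, Ideal.Quotient.eq.2 (Ideal.subset_span (by simp) :
        X ^ 2 - C x ∈ Ideal.span ({X ^ 2 - C x, X ^ 3 - C y} : Set A[X]))]
      exact Subalgebra.algebraMap_mem _ x
    · rw [← map_pow, Ideal.Quotient.eq.2 (Ideal.subset_span (by simp) :
        X ^ 3 - C y ∈ Ideal.span ({X ^ 2 - C x, X ^ 3 - C y} : Set A[X]))]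
      exact Subalgebra.algebraMap_mem _ y

end Groth.Agent.S7402
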