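import Groth.Statements.S7404
import Groth.Agent.UnivHomeo.Scheme
import Groth.Agent.UnivHomeo.Tower
import Groth.Agent.UnivHomeo.Adjoin

set_option autoImplicit false
universe u
open CategoryTheory AlgebraicGeometry
open Mor

namespace Groth.Agent.S7404

/-- Let `A → B` be a ring map and `B' ⊆ B` an `A`-subalgebra, with `f : Spec B → Spec A` and `f' : Spec
B' → Spec A` the induced morphisms. Each of the following properties passes from `f` to `f'`: being
a universal homeomorphism; being a universal homeomorphism with trivial residue field extensions;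
being universally closed; being both universally closed and universally injective. -/
theorem result {A B : Type u} [CommRing A] [CommRing B] [Algebra A B]
    (B' : Subalgebra A B) :
    (FlatMor.IsUnivHomeo (Spec.map (CommRingCat.ofHom (algebraMap A B))) →
      FlatMor.IsUnivHomeo (Spec.map (CommRingCat.ofHom (algebraMap A B')))) ∧
    ((FlatMor.IsUnivHomeo (Spec.map (CommRingCat.ofHom (algebraMap A B))) ∧
      ∀ x : Spec (CommRingCat.of B),
        Function.Surjective ((Spec.map (CommRingCat.ofHom (algebraMap A B))).residueFieldMap x)) →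
      FlatMor.IsUnivHomeo (Spec.map (CommRingCat.ofHom (algebraMap A B'))) ∧
      ∀ x : Spec (CommRingCat.of B'),
        Function.Surjective ((Spec.map (CommRingCat.ofHom (algebraMap A B'))).residueFieldMap x)) ∧
    (UniversallyClosed (Spec.map (CommRingCat.ofHom (algebraMap A B))) →
      UniversallyClosed (Spec.map (CommRingCat.ofHom (algebraMap A B')))) ∧
    (UniversallyClosed (Spec.map (CommRingCat.ofHom (algebraMap A B))) →
      UniversallyInjective (Spec.map (CommRingCat.ofHom (algebraMap A B))) →
      UniversallyClosed (Spec.map (CommRingCat.ofHom (algebraMap A B'))) ∧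
      UniversallyInjective (Spec.map (CommRingCat.ofHom (algebraMap A B')))) := by
  have hcomp : (B'.val.toRingHom).comp (algebraMap A B') = algebraMap A B := rfl
  have hval : Function.Injective B'.val.toRingHom := Subtype.val_injective
  have hUH : FlatMor.IsUnivHomeo (Spec.map (CommRingCat.ofHom (algebraMap A B))) →
      Groth.Agent.UnivHomeo.UH (algebraMap A B') := fun h =>
    Groth.Agent.UnivHomeo.uh_of_injective _ hcomp hval
      ((Groth.Agent.UnivHomeo.isUnivHomeo_iff _).1 h)
  have hclosed : UniversallyClosed (Spec.map (CommRingCat.ofHom (algebraMap A B))) →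
      UniversallyClosed (Spec.map (CommRingCat.ofHom (algebraMap A B'))) := by
    rw [Groth.Agent.UnivHomeo.universallyClosed_iff, Groth.Agent.UnivHomeo.universallyClosed_iff]
    intro h b
    obtain ⟨F, hF, hFb⟩ := h (b : B)
    refine ⟨F, hF, hval ?_⟩
    rw [Polynomial.hom_eval₂, hcomp, map_zero]
    exact hFb
  refine ⟨fun h => (Groth.Agent.UnivHomeo.isUnivHomeo_iff _).2 (hUH h), fun h =>
    ⟨(Groth.Agent.UnivHomeo.isUnivHomeo_iff _).2 (hUH h.1), ?_⟩, hclosed, fun h1 h2 =>
      ⟨hclosed h1, ?_⟩⟩
  · rw [Groth.Agent.UnivHomeo.residueFieldMap_surjective_iff]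
    exact Groth.Agent.UnivHomeo.triv_of_tower _ hcomp (hUH h.1)
      ((Groth.Agent.UnivHomeo.isUnivHomeo_iff _).1 h.1)
      ((Groth.Agent.UnivHomeo.residueFieldMap_surjective_iff _).1 h.2)
  · rw [← Groth.Agent.UnivHomeo.rad_iff] at h2 ⊢
    intro K _ g₁ g₂ hg
    have hint : B'.val.toRingHom.IsIntegral :=
      RingHom.IsIntegral.tower_top (algebraMap A B') _
        (hcomp.symm ▸ (Groth.Agent.UnivHomeo.universallyClosed_iff _).1 h1)
    have hk : ∀ g : B' →+* AlgebraicClosure K, RingHom.ker B'.val.toRingHom ≤ RingHom.ker g := by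
      intro g
      rw [(RingHom.injective_iff_ker_eq_bot _).1 hval]
      exact bot_le
    obtain ⟨G₁, hG₁⟩ := Groth.Agent.UnivHomeo.exists_extend _ hint
      ((algebraMap K (AlgebraicClosure K)).comp g₁) (hk _)
    obtain ⟨G₂, hG₂⟩ := Groth.Agent.UnivHomeo.exists_extend _ hint
      ((algebraMap K (AlgebraicClosure K)).comp g₂) (hk _)
    have := h2 (AlgebraicClosure K) G₁ G₂ (by
      rw [← hcomp, ← RingHom.comp_assoc, ← RingHom.comp_assoc, hG₁, hG₂, RingHom.comp_assoc,
        RingHom.comp_assoc, hg])
    refine RingHom.ext fun b => (algebraMap K (AlgebraicClosure K)).injective ?_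
    rw [← RingHom.comp_apply, ← RingHom.comp_apply (algebraMap K (AlgebraicClosure K)) g₂, ← hG₁,
      ← hG₂, this]

end Groth.Agent.S7404
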