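import Groth.Statements.S7405
import Groth.Agent.UnivHomeo.Scheme
import Groth.Agent.UnivHomeo.Adjoin
import Mathlib.CategoryTheory.Filtered.Basic
import Mathlib.CategoryTheory.Comma.Over.Basic

set_option autoImplicit false
universe u
open CategoryTheory AlgebraicGeometry
open Mor

namespace Groth.Agent.S7405

/-- Let `A` be a ring and `B` the colimit of a filtered diagram `j ↦ B_j` of `A`-algebras. Each of the
following properties, when it holds for every `Spec B_j → Spec A`, holds for `Spec B → Spec A`:
being a universal homeomorphism; being a universal homeomorphism with trivial residue field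
extensions; being universally closed; being both universally closed and universally injective. -/
theorem result (A : CommRingCat.{u}) {J : Type u} [SmallCategory J]
    [IsFiltered J] (F : J ⥤ Under A) (c : Limits.Cocone F) (hc : Limits.IsColimit c) :
    ((∀ j, FlatMor.IsUnivHomeo (Spec.map (F.obj j).hom)) → FlatMor.IsUnivHomeo (Spec.map c.pt.hom)) ∧
    ((∀ j, FlatMor.IsUnivHomeo (Spec.map (F.obj j).hom) ∧
        ∀ x : Spec (F.obj j).right, Function.Surjective ((Spec.map (F.obj j).hom).residueFieldMap x)) →
      FlatMor.IsUnivHomeo (Spec.map c.pt.hom) ∧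
        ∀ x : Spec c.pt.right, Function.Surjective ((Spec.map c.pt.hom).residueFieldMap x)) ∧
    ((∀ j, UniversallyClosed (Spec.map (F.obj j).hom)) → UniversallyClosed (Spec.map c.pt.hom)) ∧
    ((∀ j, UniversallyClosed (Spec.map (F.obj j).hom) ∧ UniversallyInjective (Spec.map (F.obj j).hom)) →
      UniversallyClosed (Spec.map c.pt.hom) ∧ UniversallyInjective (Spec.map c.pt.hom)) := by
  classical
  haveI : Nonempty J := IsFiltered.nonempty
  let B : Type u := c.pt.right
  let ι : ∀ j, (F.obj j).right →+* B := fun j => (c.ι.app j).right.hom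
  have hι : ∀ j, (ι j).comp (F.obj j).hom.hom = c.pt.hom.hom := fun j =>
    congrArg CommRingCat.Hom.hom (Under.w (c.ι.app j))
  have hmap : ∀ {i j : J} (f : i ⟶ j) (x), ι j ((F.map f).right x) = ι i x := fun {i j} f x =>
    congrArg (fun q => q.right x) (c.w f)
  -- the union of the images is everything
  have hsurj : ∀ b : B, ∃ (j : J) (x : (F.obj j).right), ι j x = b := by
    let C : Subring B :=
      { carrier := {b | ∃ (j : J) (x : (F.obj j).right), ι j x = b}
        one_mem' := ⟨Classical.arbitrary J, 1, map_one _⟩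
        zero_mem' := ⟨Classical.arbitrary J, 0, map_zero _⟩
        neg_mem' := by rintro _ ⟨j, x, rfl⟩; exact ⟨j, -x, map_neg _ _⟩
        add_mem' := by
          rintro _ _ ⟨i, x, rfl⟩ ⟨j, y, rfl⟩
          exact ⟨IsFiltered.max i j, (F.map (IsFiltered.leftToMax i j)).right x +
            (F.map (IsFiltered.rightToMax i j)).right y, by rw [map_add, hmap, hmap]⟩
        mul_mem' := by
          rintro _ _ ⟨i, x, rfl⟩ ⟨j, y, rfl⟩
          exact ⟨IsFiltered.max i j, (F.map (IsFiltered.leftToMax i j)).right x *
            (F.map (IsFiltered.rightToMax i j)).right y, by rw [map_mul, hmap, hmap]⟩ }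
    have hA : ∀ a : A, c.pt.hom.hom a ∈ C := fun a =>
      ⟨Classical.arbitrary J, _, RingHom.congr_fun (hι (Classical.arbitrary J)) a⟩
    let s : Limits.Cocone F :=
      { pt := Under.mk (CommRingCat.ofHom (c.pt.hom.hom.codRestrict C hA))
        ι :=
          { app := fun j => Under.homMk (CommRingCat.ofHom ((ι j).codRestrict C fun x => ⟨j, x, rfl⟩))
              (CommRingCat.hom_ext (RingHom.ext fun a => Subtype.ext (RingHom.congr_fun (hι j) a)))
            naturality := fun i j f => by
              apply Under.UnderMorphism.ext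
              refine CommRingCat.hom_ext (RingHom.ext fun x => Subtype.ext ?_)
              exact hmap f x } }
    let incl : s.pt ⟶ c.pt := Under.homMk (CommRingCat.ofHom C.subtype) rfl
    have hid : hc.desc s ≫ incl = 𝟙 c.pt := hc.hom_ext fun j => by
      rw [hc.fac_assoc, Category.comp_id]
      apply Under.UnderMorphism.ext
      rfl
    intro b
    have hb := congrArg (fun q => q.right b) hid
    obtain ⟨j, x, hx⟩ := ((hc.desc s).right b : C).2
    exact ⟨j, x, hx.trans hb⟩
  have hclosed : (∀ j, UniversallyClosed (Spec.map (F.obj j).hom)) →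
      UniversallyClosed (Spec.map c.pt.hom) := by
    intro h
    refine (Groth.Agent.UnivHomeo.universallyClosed_iff c.pt.hom.hom).2 fun b => ?_
    obtain ⟨j, x, rfl⟩ := hsurj b
    obtain ⟨P, hP, hx⟩ := (Groth.Agent.UnivHomeo.universallyClosed_iff (F.obj j).hom.hom).1 (h j) x
    refine ⟨P, hP, ?_⟩
    rw [← hι j]
    change Polynomial.eval₂ ((ι j).comp (F.obj j).hom.hom) (ι j x) P = 0
    rw [← Polynomial.hom_eval₂, hx, map_zero]
  have hrad : (∀ j, Groth.Agent.UnivHomeo.Rad (F.obj j).hom.hom) →
      Groth.Agent.UnivHomeo.Rad c.pt.hom.hom := by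
    intro h K _ g₁ g₂ hg
    refine RingHom.ext fun b => ?_
    obtain ⟨j, x, rfl⟩ := hsurj b
    exact RingHom.congr_fun (h j K (g₁.comp (ι j)) (g₂.comp (ι j))
      (by rw [RingHom.comp_assoc, RingHom.comp_assoc, hι, hg])) x
  have huh : (∀ j, FlatMor.IsUnivHomeo (Spec.map (F.obj j).hom)) →
      FlatMor.IsUnivHomeo (Spec.map c.pt.hom) := by
    intro h
    have h' : ∀ j, Groth.Agent.UnivHomeo.UH (F.obj j).hom.hom := fun j =>
      (Groth.Agent.UnivHomeo.isUnivHomeo_iff _).1 (h j)
    refine (Groth.Agent.UnivHomeo.isUnivHomeo_iff c.pt.hom.hom).2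
      ⟨(Groth.Agent.UnivHomeo.universallyClosed_iff _).1 (hclosed fun j =>
        Groth.Agent.UnivHomeo.universallyClosed_of_isUnivHomeo (h j)),
        hrad fun j => (h' j).2.1,
        Groth.Agent.UnivHomeo.ker_le_nilradical_of_lifts fun L _ _ g => ?_⟩
    choose G hG using fun j => (h' j).exists_lift g
    have hnat : ∀ {i j : J} (f : i ⟶ j), (G j).comp (F.map f).right.hom = G i := fun {i j} f =>
      (h' i).2.1 L _ _ (by
        rw [RingHom.comp_assoc, hG i, ← hG j]
        congr 1
        exact congrArg CommRingCat.Hom.hom (Under.w (F.map f)))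
    let s : Limits.Cocone F :=
      { pt := Under.mk (CommRingCat.ofHom g : A ⟶ CommRingCat.of L)
        ι :=
          { app := fun j => Under.homMk (CommRingCat.ofHom (G j)) (CommRingCat.hom_ext (hG j))
            naturality := fun i j f => by
              apply Under.UnderMorphism.ext
              refine CommRingCat.hom_ext (RingHom.ext fun x => ?_)
              exact RingHom.congr_fun (hnat f) x } }
    exact ⟨(hc.desc s).right.hom, congrArg CommRingCat.Hom.hom (Under.w (hc.desc s))⟩
  refine ⟨huh, fun h => ⟨huh fun j => (h j).1, ?_⟩, hclosed, fun h =>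
    ⟨hclosed fun j => (h j).1, (Groth.Agent.UnivHomeo.rad_iff c.pt.hom.hom).1
      (hrad fun j => (Groth.Agent.UnivHomeo.rad_iff _).2 (h j).2)⟩⟩
  refine (Groth.Agent.UnivHomeo.residueFieldMap_surjective_iff c.pt.hom.hom).2 fun q hq b => ?_
  obtain ⟨j, x, rfl⟩ := hsurj b
  obtain ⟨a, t, ht, hat⟩ := (Groth.Agent.UnivHomeo.residueFieldMap_surjective_iff (F.obj j).hom.hom).1
    (h j).2 (q.comap (ι j)) (Ideal.IsPrime.comap _) x
  refine ⟨a, t, fun hm => ht ?_, ?_⟩
  · rw [Ideal.mem_comap, ← RingHom.comp_apply, hι]; exact hm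
  · rw [Ideal.mem_comap, map_sub, map_mul, ← RingHom.comp_apply (ι j), ← RingHom.comp_apply (ι j),
      hι] at hat
    exact hat

end Groth.Agent.S7405
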