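import Groth.Statements.S7406
import Groth.Agent.FlatMorWeight.GeomPoints
import Groth.Agent.AlgSpLib.FibreDimChart

set_option autoImplicit false
universe u
open CategoryTheory AlgebraicGeometry
open Desc

set_option backward.isDefEq.respectTransparency.types false
set_option backward.isDefEq.respectTransparency false

namespace Groth.Agent.S7406
open CategoryTheory.Limits


/-- Consider a commutative square of schemes with horizontal maps `h' : U' → V'`, `h : U → V` and étale
vertical maps `a : U' → U`, `b : V' → V`, and let `v' ∈ V'` with image `v = b(v')`. Then the induced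
morphism of fibres `U'_{v'} → U_v` is étale. (The morphism of fibres is characterised by its
compatibility with `a` and with `Spec κ(v') → Spec κ(v)`.) -/
theorem result {U U' V V' : Scheme.{u}} (h : U ⟶ V) (h' : U' ⟶ V') (a : U' ⟶ U)
    (b : V' ⟶ V) [Etale a] [Etale b] (comm : h' ≫ b = a ≫ h) (v' : V')
    (φ : h'.fiber v' ⟶ h.fiber (b v')) (hφ1 : φ ≫ h.fiberι (b v') = h'.fiberι v' ≫ a)
    (hφ2 : φ ≫ h.fiberToSpecResidueField (b v') = h'.fiberToSpecResidueField v' ≫ Spec.map (b.residueFieldMap v')) :
    Etale φ := by
  let m : U' ⟶ pullback h b := pullback.lift a h' comm.symm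
  have : Etale (pullback.fst h b) := MorphismProperty.pullback_fst h b ‹Etale b›
  have hm0 : Etale (m ≫ pullback.fst h b) := by rw [pullback.lift_fst]; infer_instance
  have hm : Etale m := Etale.of_comp m (pullback.fst h b)
  have hsnd : m ≫ pullback.snd h b = h' := pullback.lift_snd _ _ _
  let m' : h'.fiber v' ⟶ (pullback.snd h b).fiber v' :=
    pullback.map _ _ _ _ m (𝟙 _) (𝟙 _) (by rw [Category.comp_id, hsnd]) (by simp)
  have hm' : Etale m' := by
    have sq : IsPullback m' (h'.fiberι v') ((pullback.snd h b).fiberι v') m := by
      refine IsPullback.of_right ?_ (pullback.lift_fst _ _ _)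
        ((IsPullback.of_hasPullback (pullback.snd h b) (V'.fromSpecResidueField v')).flip)
      rw [hsnd, show m' ≫ pullback.snd (pullback.snd h b) (V'.fromSpecResidueField v') =
        pullback.snd h' (V'.fromSpecResidueField v') from by simp [m']]
      exact (IsPullback.of_hasPullback h' (V'.fromSpecResidueField v')).flip
    exact MorphismProperty.of_isPullback sq.flip hm
  have sq2 := isPullback_fiberToSpecResidueField_of_isPullback (IsPullback.of_hasPullback h b) v'
  have := Groth.Agent.AlgSpLib.locallyQuasiFinite_of_etale b
  have hres : Etale (Spec.map (b.residueFieldMap v')) := by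
    rw [HasRingHomProperty.Spec_iff (P := @Etale)]
    algebraize [(b.residueFieldMap v').hom]
    have : Algebra.IsSeparable (V.residueField (b v')) (V'.residueField v') := inferInstance
    have : Module.Finite (V.residueField (b v')) (V'.residueField v') :=
      Groth.Agent.FlatMorWeight.residueFieldMap_finite b v'
    have : Algebra.FinitePresentation (V.residueField (b v')) (V'.residueField v') :=
      Algebra.FinitePresentation.of_finiteType.1 inferInstance
    exact (RingHom.etale_algebraMap).2 ⟨Algebra.FormallyEtale.of_isSeparable _ _, this⟩
  have h2 := MorphismProperty.of_isPullback sq2.flip hres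
  have e : φ = m' ≫ pullback.map _ _ _ _ (pullback.fst h b) (Spec.map (b.residueFieldMap v')) b
      pullback.condition.symm (by simp) := by
    apply pullback.hom_ext
    · rw [show pullback.fst h (V.fromSpecResidueField (b v')) = h.fiberι (b v') from rfl, hφ1]
      simp [m', m, Scheme.Hom.fiberι]
    · rw [show pullback.snd h (V.fromSpecResidueField (b v')) = h.fiberToSpecResidueField (b v') from rfl, hφ2]
      simp [m', Scheme.Hom.fiberToSpecResidueField]
  rw [e]
  exact MorphismProperty.comp_mem _ _ _ hm' h2

end Groth.Agent.S7406
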