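import Groth.Statements.S7407
import Mathlib.AlgebraicGeometry.Morphisms.Etale
import Mathlib.AlgebraicGeometry.Morphisms.FormallyUnramified
import Mathlib.RingTheory.AlgebraicIndependent.Transcendental

set_option autoImplicit false
universe u
open CategoryTheory AlgebraicGeometry
open Desc

set_option backward.isDefEq.respectTransparency.types false
set_option backward.isDefEq.respectTransparency false

namespace Groth.Agent.S7407


/-- The transcendence degree of the residue field extension `κ(x)/κ(s)` of a morphism of germs `(X, x) →
(S, s)` is étale local on the source-and-target: for a commutative square with horizontal maps `h' :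
U' → V'`, `h : U → V`, étale vertical maps `a : U' → U`, `b : V' → V` and `u' ∈ U'` with `u =
a(u')`, the transcendence degree of `κ(u)` over `κ(h(u))` equals that of `κ(u')` over `κ(h'(u'))`. -/
theorem result {U U' V V' : Scheme.{u}} (h : U ⟶ V) (h' : U' ⟶ V') (a : U' ⟶ U)
    (b : V' ⟶ V) [Etale a] [Etale b] (comm : h' ≫ b = a ≫ h) (u' : U') :
    @Algebra.trdeg (V.residueField (h (a u'))) (U.residueField (a u')) _ _ (h.residueFieldMap (a u')).hom.toAlgebra =
      @Algebra.trdeg (V'.residueField (h' u')) (U'.residueField u') _ _ (h'.residueFieldMap u').hom.toAlgebra := by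
  have key : b.residueFieldMap (h' u') ≫ h'.residueFieldMap u' =
      (V.residueFieldCongr (show b (h' u') = h (a u') from by
        rw [← Scheme.Hom.comp_apply, comm, Scheme.Hom.comp_apply])).hom ≫
        h.residueFieldMap (a u') ≫ a.residueFieldMap u' := by
    rw [← Scheme.residueFieldMap_comp, ← Scheme.residueFieldMap_comp,
      Scheme.Hom.residueFieldMap_congr comm]
  have hx : b (h' u') = h (a u') := by rw [← Scheme.Hom.comp_apply, comm, Scheme.Hom.comp_apply]
  let α : V.residueField (h (a u')) →+* V'.residueField (h' u') :=
    (V.residueFieldCongr hx).inv.hom |> (b.residueFieldMap (h' u')).hom.comp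
  have key' : (h'.residueFieldMap u').hom.comp α =
      (a.residueFieldMap u').hom.comp (h.residueFieldMap (a u')).hom := by
    have := congrArg (fun t => (V.residueFieldCongr hx).inv ≫ t) key
    simp only [Iso.inv_hom_id_assoc] at this
    exact congrArg CommRingCat.Hom.hom this
  have hb : letI := α.toAlgebra; Algebra.IsAlgebraic (V.residueField (h (a u'))) (V'.residueField (h' u')) := by
    letI := (b.residueFieldMap (h' u')).hom.toAlgebra
    have : Algebra.IsAlgebraic (V.residueField (b (h' u'))) (V'.residueField (h' u')) :=
      Algebra.IsSeparable.isAlgebraic _ _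
    letI := (V.residueFieldCongr hx).inv.hom.toAlgebra
    letI := α.toAlgebra
    have : IsScalarTower (V.residueField (h (a u'))) (V.residueField (b (h' u'))) (V'.residueField (h' u')) :=
      IsScalarTower.of_algebraMap_eq fun _ => rfl
    have : Algebra.IsAlgebraic (V.residueField (h (a u'))) (V.residueField (b (h' u'))) := ⟨fun z => by
      obtain ⟨w, rfl⟩ : ∃ w, algebraMap (V.residueField (h (a u'))) (V.residueField (b (h' u'))) w = z :=
        ((ConcreteCategory.isIso_iff_bijective (V.residueFieldCongr hx).inv).1 inferInstance).2 z
      exact isAlgebraic_algebraMap w⟩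
    exact Algebra.IsAlgebraic.trans _ (V.residueField (b (h' u'))) _
  have ha : letI := (a.residueFieldMap u').hom.toAlgebra
      Algebra.IsAlgebraic (U.residueField (a u')) (U'.residueField u') := by
    letI := (a.residueFieldMap u').hom.toAlgebra
    exact Algebra.IsSeparable.isAlgebraic _ _
  algebraize [α, (h'.residueFieldMap u').hom, (h.residueFieldMap (a u')).hom, (a.residueFieldMap u').hom,
    (h'.residueFieldMap u').hom.comp α]
  have : IsScalarTower (V.residueField (h (a u'))) (U.residueField (a u')) (U'.residueField u') :=
    IsScalarTower.of_algebraMap_eq' key'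
  have e1 := trdeg_add_eq (V.residueField (h (a u'))) (V'.residueField (h' u')) (A := U'.residueField u')
  have e2 := trdeg_add_eq (V.residueField (h (a u'))) (U.residueField (a u')) (A := U'.residueField u')
  have h1 : Algebra.trdeg (V.residueField (h (a u'))) (V'.residueField (h' u')) = 0 := trdeg_eq_zero
  have h2 : Algebra.trdeg (U.residueField (a u')) (U'.residueField u') = 0 := trdeg_eq_zero
  rw [h1, zero_add] at e1
  rw [h2, add_zero] at e2
  exact e2.trans e1.symm

end Groth.Agent.S7407
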