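import Groth.Statements.S7411
import Groth.Agent.H8Lim.TopDegreeApps
-- import your own Groth.Agent.* helpers here

set_option autoImplicit false
set_option backward.isDefEq.respectTransparency.types false
universe u
open Lim

namespace Groth.Agent.S7411

open AlgebraicGeometry CategoryTheory in
/-- Let `f : X → Y` be proper and `y ∈ Y` a point whose fibre `X_y` has dimension at most `d`. Then for
every quasi-coherent `O_X`-module `F` and every `i > d` the stalk `(R^i f_* F)_y` vanishes. (The
published statement assumes that the fibre has dimension exactly `d`; this row assumes dimension at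
most `d`.) -/
theorem result {X Y : Scheme.{u}} (f : X ⟶ Y) [IsProper f]
    (y : Y) (d : ℕ) (hd : topologicalKrullDim ↥(f.fiber y) ≤ d) (M : X.Modules) [Coh.IsQCoh M] (i : ℕ)
    (hi : d < i) :
    Limits.IsZero (TopCat.Presheaf.stalk ((Coh.RpushAb f i).obj (Coh.toAb M)).obj y) := by
  obtain ⟨V, hy, hV, hm⟩ := Groth.Agent.H8Lim.exists_model_nhd f y d hd
  haveI : IsAffine V.toScheme := hV
  exact Groth.Agent.H8Lim.isZero_stalk_rpushAb_of_restrict f V M i y hy
    (hm.isZero_rpushAb (M.restrict (f ⁻¹ᵁ V).ι) i hi)

end Groth.Agent.S7411
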