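import Mathlib.AlgebraicGeometry.AffineScheme
import Mathlib.AlgebraicGeometry.OpenImmersion

set_option autoImplicit false
universe u
namespace CategoryTheory
end CategoryTheory
namespace AlgebraicGeometry
end AlgebraicGeometry
open CategoryTheory AlgebraicGeometry
namespace Mor
end Mor
open Mor

namespace Groth.Agent.S7416

/-- Let `U`, `V` be affine schemes and `W → U`, `W → V` open immersions. Then every `w ∈ W` has an open
neighbourhood `W' ⊆ W` whose images in `U` and in `V` are standard opens `D(f) ⊆ U`, `D(g) ⊆ V` (in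
particular `W'` is affine). -/
theorem result {U V W : Scheme.{u}} [IsAffine U]
    [IsAffine V] (i : W ⟶ U) (j : W ⟶ V) [IsOpenImmersion i] [IsOpenImmersion j] (w : W) :
    ∃ (W' : W.Opens) (f : Γ(U, ⊤)) (g : Γ(V, ⊤)), w ∈ W' ∧ i ''ᵁ W' = U.basicOpen f ∧ j ''ᵁ W' = V.basicOpen g := by
  obtain ⟨f₀, hf₀, hwf⟩ := (isAffineOpen_top U).exists_basicOpen_le (V := i.opensRange)
    ⟨i.base w, w, rfl⟩ trivial
  obtain ⟨g₀, hg₀, hwg⟩ := (isAffineOpen_top V).exists_basicOpen_le (V := j.opensRange)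
    ⟨j.base w, w, rfl⟩ trivial
  have h₁ : IsAffineOpen (i ⁻¹ᵁ U.basicOpen f₀) := by
    rw [← i.isAffineOpen_iff_of_isOpenImmersion, i.image_preimage_eq_opensRange_inf, inf_eq_right.2 hf₀]
    exact (isAffineOpen_top U).basicOpen f₀
  have h₂ : IsAffineOpen (j ⁻¹ᵁ V.basicOpen g₀) := by
    rw [← j.isAffineOpen_iff_of_isOpenImmersion, j.image_preimage_eq_opensRange_inf, inf_eq_right.2 hg₀]
    exact (isAffineOpen_top V).basicOpen g₀
  obtain ⟨f₁, g₁, hfg, hw⟩ := exists_basicOpen_le_affine_inter h₁ h₂ w ⟨hwf, hwg⟩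
  have hU' : i ''ᵁ (i ⁻¹ᵁ U.basicOpen f₀) = U.basicOpen f₀ := by
    rw [i.image_preimage_eq_opensRange_inf, inf_eq_right.2 hf₀]
  have hV' : j ''ᵁ (j ⁻¹ᵁ V.basicOpen g₀) = V.basicOpen g₀ := by
    rw [j.image_preimage_eq_opensRange_inf, inf_eq_right.2 hg₀]
  obtain ⟨f, hf⟩ := (isAffineOpen_top U).basicOpen_basicOpen_is_basicOpen f₀
    (U.presheaf.map (eqToHom hU'.symm).op ((i.appIso _).inv f₁))
  obtain ⟨g, hg⟩ := (isAffineOpen_top V).basicOpen_basicOpen_is_basicOpen g₀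
    (V.presheaf.map (eqToHom hV'.symm).op ((j.appIso _).inv g₁))
  refine ⟨W.basicOpen f₁, f, g, hw, ?_, ?_⟩
  · rw [hf, Scheme.basicOpen_res_eq, Scheme.image_basicOpen]
  · rw [hfg, hg, Scheme.basicOpen_res_eq, Scheme.image_basicOpen]

end Groth.Agent.S7416
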