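import Groth.Prelude.Def_HTop2
import Groth.Prelude.Def_Flat
import Mathlib.RingTheory.Localization.Away.Basic
import Mathlib.AlgebraicGeometry.AffineScheme
import Mathlib.RingTheory.Nilpotent.Defs
import Mathlib.AlgebraicGeometry.Properties
import Groth.Agent.HTop16.AWN

set_option autoImplicit false
universe u
namespace CategoryTheory
end CategoryTheory
namespace AlgebraicGeometry
end AlgebraicGeometry
open CategoryTheory AlgebraicGeometry
namespace HTop
end HTop
open HTop

namespace Groth.Agent.S7422

/-- Every ring `A` has an absolute weak normalization: a ring map `A → A^awn` which induces a universal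
homeomorphism on spectra and is final among ring maps out of `A` with this property. -/
theorem result (A : Type u) [CommRing A] :
    ∃ (B : Type u) (_ : CommRing B) (φ : A →+* B), HTop.IsRingAWN φ := by
  exact ⟨HTop16.awn A, inferInstance, HTop16.toAwn A, HTop16.isRingAWN_toAwn A⟩

end Groth.Agent.S7422
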