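import Groth.Prelude.Def_HTop2
import Groth.Prelude.Def_Flat
import Mathlib.RingTheory.Localization.Away.Basic
import Mathlib.AlgebraicGeometry.AffineScheme
import Mathlib.RingTheory.Nilpotent.Defs
import Mathlib.AlgebraicGeometry.Properties
import Groth.Agent.HTop16.SchemeApps

set_option autoImplicit false
universe u
namespace CategoryTheory
end CategoryTheory
namespace AlgebraicGeometry
end AlgebraicGeometry
open CategoryTheory AlgebraicGeometry
namespace HTop
end HTop
open HTop

namespace Groth.Agent.S7425

/-- Let `ν : X^awn → X` be an absolute weak normalization and `π : Y → X` a universal homeomorphism.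
Then `Y` is absolutely weakly normal exactly when the induced morphism `h : X^awn → Y` over `X` is
an isomorphism. -/
theorem result {X X' Y : Scheme.{u}} (ν : X' ⟶ X)
    (hν : HTop.IsAWNormalization ν) (π : Y ⟶ X) (hπ : FlatMor.IsUnivHomeo π) (h : X' ⟶ Y) (hh : h ≫ π = ν) :
    IsIso h ↔ HTop.IsAWN Y := by
  have hh' : FlatMor.IsUnivHomeo h := (S0416.result h π).2 (hh.symm ▸ hν.1) hπ
  have hX' := HTop16.isAWN_of_isAWNormalization hν
  constructor
  · intro hi
    exact HTop16.isAWN_of_isOpenImmersion (inv h) hX'
  · intro hY
    haveI := HTop16.isReduced_of_isAWN hX'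
    exact HTop16.isIso_of_isAWN hY h hh'

end Groth.Agent.S7425
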