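import Groth.Prelude.Def_HTop2
import Groth.Prelude.Def_Flat
import Mathlib.RingTheory.Localization.Away.Basic
import Mathlib.AlgebraicGeometry.AffineScheme
import Mathlib.RingTheory.Nilpotent.Defs
import Mathlib.AlgebraicGeometry.Properties
import Groth.Agent.HTop16.SchemeApps

set_option autoImplicit false
universe u
namespace CategoryTheory
end CategoryTheory
namespace AlgebraicGeometry
end AlgebraicGeometry
open CategoryTheory AlgebraicGeometry
namespace HTop
end HTop
open HTop

namespace Groth.Agent.S7426

/-- For a scheme `X` the following are equivalent: `X` is absolutely weakly normal; `X^awn → X` is an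
isomorphism (equivalently, the identity of `X` is an absolute weak normalization); every universal
homeomorphism `Y → X` with `Y` reduced is an isomorphism. -/
theorem result (X : Scheme.{u}) :
    (HTop.IsAWN X ↔ HTop.IsAWNormalization (𝟙 X)) ∧
    (HTop.IsAWN X ↔ ∀ (Y : Scheme.{u}) (π : Y ⟶ X), FlatMor.IsUnivHomeo π → AlgebraicGeometry.IsReduced Y → IsIso π) := by
  constructor
  · constructor
    · intro hX
      haveI := HTop16.isReduced_of_isAWN hX
      haveI : IsIso (HTop16.awnι X) :=
        HTop16.isIso_of_isAWN hX _ (HTop16.isUnivHomeo_awnι X)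
      haveI := HTop16.respectsIso_uh.{u}
      refine ⟨?_, fun Y π hπ => ?_⟩
      · have := MorphismProperty.RespectsIso.precomp (P := FlatMor.IsUnivHomeo)
          (inv (HTop16.awnι X)) (HTop16.awnι X) (HTop16.isUnivHomeo_awnι X)
        simpa using this
      · obtain ⟨l, hl⟩ := HTop16.exists_lift X π hπ
        exact ⟨inv (HTop16.awnι X) ≫ l, by simp [hl],
          fun g hg => HTop16.hom_ext_of_uh hπ _ _ (by simp [hl, hg])⟩
    · intro h
      exact HTop16.isAWN_of_isAWNormalization h
  · constructor
    · intro hX Y π hπ hY
      exact HTop16.isIso_of_isAWN hX π hπ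
    · intro h
      haveI : IsIso (HTop16.awnι X) := h _ _ (HTop16.isUnivHomeo_awnι X) inferInstance
      exact HTop16.isAWN_of_isOpenImmersion (inv (HTop16.awnι X)) (HTop16.isAWN_awnScheme X)

end Groth.Agent.S7426
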