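import Groth.Statements.S7430
import Groth.Agent.Desc19b.Largest

set_option autoImplicit false
universe u
open CategoryTheory AlgebraicGeometry
open Desc

namespace Groth.Agent.S7430

/-- Let `P` be a property of morphisms of schemes which is fppf local on the source. For every morphism
`f : X → Y` there is a largest open `W(f) ⊆ X` such that `f|_{W(f)}` has `P`; moreover for `g : X' →
X` flat and locally of finite presentation and `f' = f ∘ g` one has `W(f') = g⁻¹(W(f))`. -/
theorem result (P : MorphismProperty Scheme.{u})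
    [P.IsLocalAtSource Scheme.fppfPrecoverage] {X Y : Scheme.{u}} (f : X ⟶ Y) :
    ∃ W : X.Opens, (P (W.ι ≫ f) ∧ ∀ W' : X.Opens, P (W'.ι ≫ f) → W' ≤ W) ∧
      ∀ (X' : Scheme.{u}) (g : X' ⟶ X) [Flat g] [LocallyOfFinitePresentation g] (V : X'.Opens),
        (P (V.ι ≫ g ≫ f) ∧ ∀ V' : X'.Opens, P (V'.ι ≫ g ≫ f) → V' ≤ V) → V = g ⁻¹ᵁ W := by
  have : P.IsLocalAtSource (Scheme.precoverage (@Flat ⊓ @LocallyOfFinitePresentation : MorphismProperty Scheme.{u})) := inferInstanceAs (P.IsLocalAtSource Scheme.fppfPrecoverage)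
  obtain ⟨W, h1, h2⟩ := Desc19b.largest_source (R := (@Flat ⊓ @LocallyOfFinitePresentation : MorphismProperty Scheme.{u})) (P := P) (fun j _ => ⟨inferInstance, inferInstance⟩) (fun j h => have := h.1; have := h.2; j.isOpenMap) f
  exact ⟨W, h1, fun X' g _ _ V hV => h2 X' g ⟨inferInstance, inferInstance⟩ V hV⟩

end Groth.Agent.S7430
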