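import Groth.Statements.S7431
import Groth.Agent.H8Lim.Approximation
import Mathlib

set_option backward.isDefEq.respectTransparency.types false

set_option autoImplicit false
universe u
open CategoryTheory AlgebraicGeometry
open Lim

namespace Groth.Agent.S7431

/-- Let `B' = B ×_R R'` be a cartesian square of rings with maps `s : B → R`, `t : R' → R`, and let `W'
= D(f_1) ∪ … ∪ D(f_n) ⊆ Spec R'` with `t(f_i) = s(g_i)` for elements `g_i ∈ B` such that `B_{g_i} →
R_{s(g_i)}` is an isomorphism for each `i`. Then the composite `W' → Spec R' → Spec B'`, the second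
map coming from `B' → R'`, is an open immersion. -/
theorem result {B B' R R' : Type u} [CommRing B] [CommRing B']
    [CommRing R] [CommRing R'] (s : B →+* R) (t : R' →+* R) (p : B' →+* B) (q : B' →+* R')
    (hsq : IsPullback (CommRingCat.ofHom p) (CommRingCat.ofHom q) (CommRingCat.ofHom s) (CommRingCat.ofHom t))
    {n : ℕ} (f : Fin n → R') (g : Fin n → B) (hfg : ∀ i, t (f i) = s (g i))
    (hiso : ∀ i, Function.Bijective (Localization.awayMap s (g i))) :
    IsOpenImmersion (Scheme.Opens.ι (X := Spec (CommRingCat.of R')) (⨆ i, PrimeSpectrum.basicOpen (f i)) ≫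
      Spec.map (CommRingCat.ofHom q)) := by
  have hP := Limits.Types.isPullback_iff _ _ _ _ |>.mp (hsq.map (forget CommRingCat))
  obtain ⟨-, hext, hex⟩ := hP
  choose b hbp hbq using fun i => hex (g i) (f i) (hfg i).symm
  have hbp : ∀ i, p (b i) = g i := hbp
  have hbq : ∀ i, q (b i) = f i := hbq
  have hc : ∀ x, s (p x) = t (q x) := fun x =>
    ConcreteCategory.congr_hom hsq.w x
  have hiso' : ∀ i, Function.Bijective (Localization.awayMap q (b i)) := fun i => by
    refine ⟨Localization.awayMap_injective_iff.mpr fun x hx => ?_,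
      Localization.awayMap_surjective_iff.mpr fun r => ?_⟩
    · obtain ⟨k, hk⟩ := Localization.awayMap_injective_iff.mp (hiso i).1 (p x)
        (by rw [hc, hx, map_zero])
      exact ⟨k, hext _ _ ⟨show p (b i ^ k * x) = p 0 by rw [map_mul, map_pow, hbp, hk, map_zero],
        show q (b i ^ k * x) = q 0 by rw [map_mul, hx, mul_zero, map_zero]⟩⟩
    · obtain ⟨a, m, ha⟩ := Localization.awayMap_surjective_iff.mp (hiso i).2 (t r)
      obtain ⟨y, -, hy⟩ := hex a (f i ^ m * r) (show s a = t (f i ^ m * r) by
        rw [ha, map_mul, map_pow, hfg])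
      exact ⟨y, m, hy.trans (by rw [hbq])⟩
  let W : (Spec (CommRingCat.of R')).Opens := ⨆ i, PrimeSpectrum.basicOpen (f i)
  let φ : W.toScheme ⟶ Spec (CommRingCat.of B') := W.ι ≫ Spec.map (CommRingCat.ofHom q)
  show IsOpenImmersion φ
  have hpre : ∀ i, Spec.map (CommRingCat.ofHom q) ⁻¹ᵁ PrimeSpectrum.basicOpen (b i) =
      PrimeSpectrum.basicOpen (f i) := fun i => by
    rw [SpecMap_preimage_basicOpen]
    exact congrArg _ (hbq i)
  have hle : ∀ i, PrimeSpectrum.basicOpen (f i) ≤ W := fun i =>
    le_iSup (fun i => PrimeSpectrum.basicOpen (f i)) i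
  refine H8Lim.isOpenImmersion_of_preimages φ (fun i => PrimeSpectrum.basicOpen (b i)) ?_ fun i => ?_
  · refine top_unique fun x _ => ?_
    obtain ⟨i, hi⟩ := TopologicalSpace.Opens.mem_iSup.mp x.2
    refine TopologicalSpace.Opens.mem_iSup.mpr ⟨i, ?_⟩
    show Spec.map (CommRingCat.ofHom q) (W.ι x) ∈ PrimeSpectrum.basicOpen (b i)
    exact ((hpre i).ge hi :)
  · let loc := Spec.map (CommRingCat.ofHom (algebraMap R' (Localization.Away (f i))))
    have : IsOpenImmersion loc := IsOpenImmersion.of_isLocalization (f i)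
    let j := (φ ⁻¹ᵁ PrimeSpectrum.basicOpen (b i)).ι ≫ W.ι
    have hj : Set.range j = Set.range loc := by
      rw [show Set.range loc = SetLike.coe (PrimeSpectrum.basicOpen (f i)) from
        PrimeSpectrum.localization_away_comap_range _ (f i)]
      ext x
      constructor
      · rintro ⟨⟨z, hz⟩, rfl⟩
        exact ((hpre i).le hz :)
      · intro hx
        exact ⟨⟨⟨x, hle i hx⟩, ((hpre i).ge hx :)⟩, rfl⟩
    let e := IsOpenImmersion.isoOfRangeEq j loc hj
    let aw := Spec.map (CommRingCat.ofHom (Localization.awayMap q (b i)))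
    let locb := Spec.map (CommRingCat.ofHom (algebraMap B' (Localization.Away (b i))))
    have : IsOpenImmersion locb := IsOpenImmersion.of_isLocalization (b i)
    have hbi : f i = q (b i) := (hbq i).symm
    have hk : ∀ F : R', F = q (b i) → ∃ a : Spec (CommRingCat.of (Localization.Away F)) ⟶
        Spec (CommRingCat.of (Localization.Away (b i))), IsIso a ∧
        Spec.map (CommRingCat.ofHom (algebraMap R' (Localization.Away F))) ≫
          Spec.map (CommRingCat.ofHom q) = a ≫ locb := by
      rintro F rfl
      refine ⟨aw, ?_, ?_⟩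
      · have : IsIso (CommRingCat.ofHom (Localization.awayMap q (b i))) :=
          (ConcreteCategory.isIso_iff_bijective _).mpr (hiso' i)
        infer_instance
      · rw [← Spec.map_comp, ← Spec.map_comp]
        congr 1
        ext x
        simp [Localization.awayMap, IsLocalization.Away.map]
    obtain ⟨a, ha, hak⟩ := hk (f i) hbi
    have e' : (φ ⁻¹ᵁ PrimeSpectrum.basicOpen (b i)).ι ≫ φ = e.hom ≫ a ≫ locb := by
      rw [← hak, ← Category.assoc e.hom, IsOpenImmersion.isoOfRangeEq_hom_fac, Category.assoc]
    rw [e']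
    infer_instance

end Groth.Agent.S7431
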