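import Groth.Statements.S7443
import Groth.Agent.UnivHomeo.Scheme
import Groth.Agent.UnivHomeo.Tower
import Groth.Agent.UnivHomeo.Adjoin
import Groth.Agent.UnivHomeo.Colimit
import Mathlib.RingTheory.RingHom.FinitePresentation

set_option autoImplicit false
universe u
open CategoryTheory AlgebraicGeometry
open Mor

namespace Groth.Agent.S7443

/-- Let `φ : A → B` be a ring map with `Spec B → Spec A` a universal homeomorphism. Then `B`, as an
`A`-algebra, is the colimit of a filtered diagram of finitely presented `A`-algebras `B_i`, and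
every `Spec B_i → Spec A` is again a universal homeomorphism. (The colimit is taken in the category
of rings under `A`, over a small filtered index category.) -/
theorem result {A B : Type u} [CommRing A] [CommRing B] (φ : A →+* B)
    (hφ : FlatMor.IsUnivHomeo (Spec.map (CommRingCat.ofHom φ))) :
    ∃ (J : Type u) (_ : SmallCategory J) (_ : IsFiltered J) (F : J ⥤ Under (CommRingCat.of A))
      (c : Limits.Cocone F) (_ : Limits.IsColimit c),
      (∀ j, (F.obj j).hom.hom.FinitePresentation ∧ FlatMor.IsUnivHomeo (Spec.map (F.obj j).hom)) ∧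
      Nonempty (c.pt ≅ Under.mk (CommRingCat.ofHom φ)) := by
  algebraize [φ]
  have hB := (Groth.Agent.UnivHomeo.isUnivHomeo_iff φ).1 hφ
  haveI := Groth.Agent.UnivHomeo.isFiltered (A := A) (B := B) hB
  obtain ⟨hc⟩ := Groth.Agent.UnivHomeo.exists_isColimit (A := A) (B := B) hB
  refine ⟨Groth.Agent.UnivHomeo.Obj A B, inferInstance, inferInstance,
    Groth.Agent.UnivHomeo.diagram A B, Groth.Agent.UnivHomeo.cocone A B, hc, fun j => ⟨?_, ?_⟩,
    ⟨Iso.refl _⟩⟩
  · exact RingHom.finitePresentation_algebraMap.2 (Algebra.FinitePresentation.quotient j.fg)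
  · exact (Groth.Agent.UnivHomeo.isUnivHomeo_iff _).2 j.uh

end Groth.Agent.S7443
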