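import Groth.Statements.S7444
import Groth.Agent.UnivHomeo.Scheme
import Groth.Agent.UnivHomeo.Tower
import Groth.Agent.UnivHomeo.Adjoin
import Groth.Agent.UnivHomeo.Colimit
import Mathlib.RingTheory.RingHom.FinitePresentation

set_option autoImplicit false
universe u
open CategoryTheory AlgebraicGeometry
open Mor

namespace Groth.Agent.S7444

/-- Let `φ : A → B` be a ring map such that `Spec B → Spec A` is a universal homeomorphism and all
residue field extensions are trivial (every residue field map is surjective). Then `B`, as an
`A`-algebra, is the colimit of a filtered diagram of finitely presented `A`-algebras `B_i`, each of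
which has the same two properties over `A`. (The colimit is taken in the category of rings under
`A`, over a small filtered index category.) -/
theorem result {A B : Type u} [CommRing A] [CommRing B]
    (φ : A →+* B) (hφ : FlatMor.IsUnivHomeo (Spec.map (CommRingCat.ofHom φ)))
    (hres : ∀ x : Spec (CommRingCat.of B), Function.Surjective ((Spec.map (CommRingCat.ofHom φ)).residueFieldMap x)) :
    ∃ (J : Type u) (_ : SmallCategory J) (_ : IsFiltered J) (F : J ⥤ Under (CommRingCat.of A))
      (c : Limits.Cocone F) (_ : Limits.IsColimit c),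
      (∀ j, (F.obj j).hom.hom.FinitePresentation ∧ FlatMor.IsUnivHomeo (Spec.map (F.obj j).hom) ∧
        ∀ x : Spec (F.obj j).right, Function.Surjective ((Spec.map (F.obj j).hom).residueFieldMap x)) ∧
      Nonempty (c.pt ≅ Under.mk (CommRingCat.ofHom φ)) := by
  algebraize [φ]
  have hB := (Groth.Agent.UnivHomeo.isUnivHomeo_iff φ).1 hφ
  have ht := (Groth.Agent.UnivHomeo.residueFieldMap_surjective_iff φ).1 hres
  haveI := Groth.Agent.UnivHomeo.isFiltered (A := A) (B := B) hB
  obtain ⟨hc⟩ := Groth.Agent.UnivHomeo.exists_isColimit (A := A) (B := B) hB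
  refine ⟨Groth.Agent.UnivHomeo.Obj A B, inferInstance, inferInstance,
    Groth.Agent.UnivHomeo.diagram A B, Groth.Agent.UnivHomeo.cocone A B, hc, fun j => ⟨?_, ?_, ?_⟩,
    ⟨Iso.refl _⟩⟩
  · exact RingHom.finitePresentation_algebraMap.2 (Algebra.FinitePresentation.quotient j.fg)
  · exact (Groth.Agent.UnivHomeo.isUnivHomeo_iff _).2 j.uh
  · exact (Groth.Agent.UnivHomeo.residueFieldMap_surjective_iff _).2
      (Groth.Agent.UnivHomeo.triv_of_tower _ j.ev.comp_algebraMap j.uh hB ht)

end Groth.Agent.S7444
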