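import Groth.Statements.S7447
import Groth.Agent.H8Lim.RelApprox
-- import your own Groth.Agent.* helpers here

set_option autoImplicit false
set_option backward.isDefEq.respectTransparency.types false
universe u
open CategoryTheory AlgebraicGeometry
open Opposite
open Lim

namespace Groth.Agent.S7447

/-- Noetherian approximation relative to a quasi-compact open: let `S` be quasi-compact and
quasi-separated, `V ⊆ S` a quasi-compact open, and `V = lim V_i` the limit of an inverse system,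
over a nonempty directed set `I`, of schemes of finite type over `ℤ` with affine transition
morphisms. Then there are a nonempty directed set `J`, an inverse system `(S_j)` of schemes of
finite type over `ℤ` with affine transition morphisms and `S = lim S_j`, an order preserving map `α
: J → I`, opens `V'_j ⊆ S_j` and isomorphisms `V'_j ≅ V_{α(j)}` such that: the transition maps
satisfy `g_{jj'}⁻¹(V'_{j'}) = V'_j`; `V` is the inverse image of each `V'_j` under `S → S_j` (which
identifies `V` with `lim V'_j`); the composite `V → V'_j → V_{α(j)}` is the projection; and the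
squares `V'_j → V_{α(j)} → V_{α(j')}`, `V'_j → V'_{j'} → V_{α(j')}` commute. -/
theorem result (S : Scheme.{u}) [CompactSpace S] [QuasiSeparatedSpace S]
    (V : S.Opens) (hV : IsCompact (V : Set S)) (I : Type u) [Preorder I] [IsDirected I (fun a b => a ≤ b)] [Nonempty I]
    (DV : Iᵒᵖ ⥤ Scheme.{u}) (haff : ∀ (i i' : Iᵒᵖ) (a : i ⟶ i'), IsAffineHom (DV.map a))
    (hft : ∀ i, CompactSpace (DV.obj i) ∧ LocallyOfFiniteType (Limits.IsTerminal.from specULiftZIsTerminal (DV.obj i)))
    (cV : Limits.Cone DV) (hcV : Limits.IsLimit cV) (eV : cV.pt ≅ (V : Scheme.{u})) :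
    ∃ (J : Type u) (_ : Preorder J) (_ : IsDirected J (fun a b => a ≤ b)) (_ : Nonempty J)
      (DS : Jᵒᵖ ⥤ Scheme.{u}) (cS : Limits.Cone DS) (_ : Limits.IsLimit cS) (eS : cS.pt ≅ S)
      (α : J →o I) (V' : ∀ j : J, (DS.obj (op j)).Opens)
      (φ : ∀ j : J, (V' j : Scheme.{u}) ≅ DV.obj (op (α j))),
      (∀ (j j' : Jᵒᵖ) (a : j ⟶ j'), IsAffineHom (DS.map a)) ∧
      (∀ j, CompactSpace (DS.obj j) ∧ LocallyOfFiniteType (Limits.IsTerminal.from specULiftZIsTerminal (DS.obj j))) ∧
      (∀ (j j' : J) (h : j' ≤ j), (DS.map (homOfLE h).op) ⁻¹ᵁ (V' j') = V' j) ∧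
      (∀ j : J, (eS.inv ≫ cS.π.app (op j)) ⁻¹ᵁ (V' j) = V) ∧
      (∀ j : J, ∃ ρ : (V : Scheme.{u}) ⟶ (V' j : Scheme.{u}),
        ρ ≫ (V' j).ι = V.ι ≫ eS.inv ≫ cS.π.app (op j) ∧ ρ ≫ (φ j).hom = eV.inv ≫ cV.π.app (op (α j))) ∧
      (∀ (j j' : J) (h : j' ≤ j), ∃ τ : (V' j : Scheme.{u}) ⟶ (V' j' : Scheme.{u}),
        τ ≫ (V' j').ι = (V' j).ι ≫ DS.map (homOfLE h).op ∧
        (φ j).hom ≫ DV.map (homOfLE (α.mono h)).op = τ ≫ (φ j').hom) := by
  haveI : CompactSpace (V : Scheme.{u}) := isCompact_iff_compactSpace.mp hV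
  haveI : CompactSpace cV.pt := eV.inv.homeomorph.compactSpace
  obtain ⟨J, iJ, hJ, hJne, DS, cS, hcS, e, α, ι, hι, haff', hft', hcomm, hpre, hcone, hrange⟩ :=
    Groth.Agent.H8Lim.RelApprox.exists_extends hcV haff hft (eV.hom ≫ V.ι)
  haveI : ∀ j, IsOpenImmersion (ι j) := hι
  have hVr : ∀ z, z ∈ V ↔ z ∈ Set.range (eV.hom ≫ V.ι) := fun z => by
    rw [Scheme.Hom.comp_base, TopCat.coe_comp, Set.range_comp, Set.range_eq_univ.2 eV.hom.surjective,
      Set.image_univ, Scheme.Opens.range_ι]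
    rfl
  refine ⟨J, iJ, hJ, hJne, DS, cS, hcS, e, α, fun j => (ι j).opensRange, fun j => (ι j).isoOpensRange.symm,
    haff', hft', fun j j' h => ?_, fun j => ?_, fun j => ?_, fun j j' h => ?_⟩
  · apply le_antisymm
    · exact fun x hx => hpre j j' h x hx
    · rintro _ ⟨y, rfl⟩
      exact ⟨DV.map (homOfLE (α.mono h)).op y, by
        rw [← Scheme.Hom.comp_apply, ← Scheme.Hom.comp_apply, hcomm]⟩
  · apply le_antisymm
    · exact fun z hz => (hVr z).2 (hrange j z hz)
    · intro z hz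
      obtain ⟨x, rfl⟩ := (hVr z).1 hz
      exact ⟨cV.π.app (op (α j)) x, by
        rw [← Scheme.Hom.comp_apply, ← Scheme.Hom.comp_apply, ← hcone j, Category.assoc]⟩
  · refine ⟨eV.inv ≫ cV.π.app (op (α j)) ≫ (ι j).isoOpensRange.hom, ?_, by simp⟩
    rw [Category.assoc, Category.assoc, Scheme.Hom.isoOpensRange_hom_ι, ← hcone j]
    simp
  · refine ⟨(ι j).isoOpensRange.inv ≫ DV.map (homOfLE (α.mono h)).op ≫ (ι j').isoOpensRange.hom, ?_, by simp⟩
    rw [Category.assoc, Category.assoc, Scheme.Hom.isoOpensRange_hom_ι, hcomm j j' h, ← Category.assoc,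
      Scheme.Hom.isoOpensRange_inv_comp]

end Groth.Agent.S7447
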