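import Groth.Statements.S7451
import Mathlib.FieldTheory.IsAlgClosed.AlgebraicClosure
import Mathlib.RingTheory.Ideal.MinimalPrime.Noetherian
import Mathlib.Algebra.MvPolynomial.Funext

set_option autoImplicit false
universe u
open CategoryTheory AlgebraicGeometry
open Desc

set_option backward.isDefEq.respectTransparency.types false
set_option backward.isDefEq.respectTransparency false

namespace Groth.Agent.S7451

open MvPolynomial in
/-- A closed condition on points, invariant under elementary automorphisms, holds on lines. -/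
theorem update_mem {Ω : Type*} [Field Ω] {n : ℕ} {k : Type*} [Field k] [Algebra k Ω]
    (I : Set (MvPolynomial (Fin n) k)) (i : Fin n) (v : Fin n → Ω) (S : Set Ω) (hS : S.Infinite)
    (h : ∀ s ∈ S, ∀ g ∈ I, aeval (Function.update v i (v i + s)) g = 0) (t : Ω) :
    ∀ g ∈ I, aeval (Function.update v i t) g = 0 := by
  intro g hg
  let F : Fin n → Polynomial Ω := Function.update (fun l => Polynomial.C (v l)) i Polynomial.X
  have hF : ∀ r, (aeval F g).eval r = aeval (Function.update v i r) g := fun r => by
    have e : (fun l => (F l).eval r) = Function.update v i r := by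
      funext l
      rcases eq_or_ne l i with rfl | hl
      · simp [F]
      · simp [F, hl]
    rw [← e, ← Polynomial.coe_aeval_eq_eval]
    exact (congrArg (fun φ : MvPolynomial (Fin n) k →ₐ[k] Ω => φ g)
      (comp_aeval (R := k) F ((Polynomial.aeval r).restrictScalars k) )).trans rfl
  have h0 : aeval F g = 0 := by
    refine Polynomial.eq_zero_of_infinite_isRoot _ (Set.Infinite.mono ?_
      (hS.image (f := fun s => v i + s) fun a _ b _ hab => add_left_cancel hab))
    rintro _ ⟨s, hs, rfl⟩
    show (aeval F g).IsRoot (v i + s)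
    rw [Polynomial.IsRoot, hF]
    exact h s hs g hg
  rw [← hF t, h0, Polynomial.eval_zero]


theorem key_lemma {k : Type u} [Field k] {n : ℕ} (hn : 2 ≤ n) (I : Set (MvPolynomial (Fin n) k))
    (hne : ∃ g ∈ I, g ≠ 0)
    (hstep : ∀ P : PrimeSpectrum (MvPolynomial (Fin n) k), I ⊆ (P.asIdeal : Set (MvPolynomial (Fin n) k)) →
      ∀ i j : Fin n, i ≠ j → ∀ d : ℕ, ∀ g ∈ I, (MvPolynomial.aeval (R := k) (Function.update MvPolynomial.X i
        (MvPolynomial.X i + MvPolynomial.X j ^ d) : Fin n → MvPolynomial (Fin n) k) g) ∈ P.asIdeal)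
    (x : PrimeSpectrum (MvPolynomial (Fin n) k)) (hx : I ⊆ (x.asIdeal : Set (MvPolynomial (Fin n) k))) :
    ∃ p : ℕ, p.Prime ∧ CharP k p ∧ ∀ i : Fin n, ∃ m : ℕ, 0 < m ∧
      (algebraMap (MvPolynomial (Fin n) k) x.asIdeal.ResidueField (MvPolynomial.X i)) ^ (p ^ m) =
        algebraMap (MvPolynomial (Fin n) k) x.asIdeal.ResidueField (MvPolynomial.X i) := by
  classical
  let R := MvPolynomial (Fin n) k
  let Ω := AlgebraicClosure x.asIdeal.ResidueField
  let ι := (IsScalarTower.toAlgHom k x.asIdeal.ResidueField Ω).comp (IsScalarTower.toAlgHom k R x.asIdeal.ResidueField)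
  let Z : (Fin n → Ω) → Prop := fun v => ∀ g ∈ I, MvPolynomial.aeval v g = 0
  have hv : Z fun i => ι (MvPolynomial.X i) := fun g hg => by
    rw [show MvPolynomial.aeval (fun i => ι (MvPolynomial.X i)) g = ι g from
      (AlgHom.congr_fun (MvPolynomial.aeval_unique ι) g).symm]
    show algebraMap x.asIdeal.ResidueField Ω (algebraMap R x.asIdeal.ResidueField g) = 0
    rw [Ideal.algebraMap_residueField_eq_zero.2 (hx hg), map_zero]
  have step : ∀ (v : Fin n → Ω) (i j : Fin n), i ≠ j → ∀ d : ℕ, Z v →
      Z (Function.update v i (v i + v j ^ d)) := by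
    intro v i j hij d hZ g hg
    let P : PrimeSpectrum R := ⟨RingHom.ker (MvPolynomial.aeval v), RingHom.ker_isPrime _⟩
    have h3 : MvPolynomial.aeval v (MvPolynomial.aeval (R := k) (Function.update MvPolynomial.X i
        (MvPolynomial.X i + MvPolynomial.X j ^ d) : Fin n → MvPolynomial (Fin n) k) g) = 0 :=
      hstep P (fun g hg => hZ g hg) i j hij d g hg
    let T : ∀ (i j : Fin n) (d : ℕ), MvPolynomial (Fin n) k →ₐ[k] MvPolynomial (Fin n) k := fun i j d =>
      MvPolynomial.aeval (R := k)
        (Function.update MvPolynomial.X i (MvPolynomial.X i + MvPolynomial.X j ^ d) : Fin n → MvPolynomial (Fin n) k)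
    have e : (MvPolynomial.aeval v).comp (T i j d) =
        MvPolynomial.aeval (Function.update v i (v i + v j ^ d)) := by
      refine MvPolynomial.algHom_ext fun l => ?_
      rcases eq_or_ne l i with rfl | hl
      · show MvPolynomial.aeval v (T l j d (MvPolynomial.X l)) = _
        rw [MvPolynomial.aeval_X]
        erw [MvPolynomial.aeval_X]
        simp
      · show MvPolynomial.aeval v (T i j d (MvPolynomial.X l)) = _
        rw [MvPolynomial.aeval_X]
        erw [MvPolynomial.aeval_X]
        simp [hl]
    rw [← e]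
    exact h3
  have whole : ∀ S : Set Ω, S.Infinite → (∀ w : Fin n → Ω, (∀ l, w l ∈ S) → Z w) → False := by
    intro S hS h
    have hI0 : ∀ g ∈ I, g = 0 := fun g hg => by
      refine MvPolynomial.map_injective (algebraMap k Ω) (algebraMap k Ω).injective ?_
      rw [map_zero]
      refine MvPolynomial.funext_set (fun _ => S) (fun _ => hS) fun w hw => ?_
      have h4 := h w fun l => hw l trivial
      rw [map_zero, ← h4 g hg, MvPolynomial.aeval_def, MvPolynomial.eval_map]
    obtain ⟨g, hg, hg0⟩ := hne
    exact hg0 (hI0 g hg)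
  have other : ∀ i : Fin n, ∃ j, i ≠ j := fun i => by
    haveI : Nontrivial (Fin n) := Fin.nontrivial_iff_two_le.2 hn
    exact (exists_ne i).imp fun _ h => h.symm
  obtain ⟨p, hp⟩ := CharP.exists k
  haveI : CharP Ω p := charP_of_injective_algebraMap (algebraMap k Ω).injective p
  rcases CharP.char_is_prime_or_zero k p with hp' | rfl
  · refine ⟨p, hp', hp, ?_⟩
    haveI : Fact p.Prime := ⟨hp'⟩
    have line : ∀ (v : Fin n → Ω) (i j : Fin n), i ≠ j → (Set.range fun d : ℕ => v j ^ d).Infinite → Z v →
        ∀ t, Z (Function.update v i t) := by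
      intro v i j hij hinf hZ t
      refine update_mem I i v _ hinf ?_ t
      rintro s ⟨d, rfl⟩
      exact step v i j hij d hZ
    have fin : ∀ j, (Set.range fun d : ℕ => ι (MvPolynomial.X j) ^ d).Finite := by
      intro j
      by_contra hj
      let good : Set Ω := {a | Function.Injective fun d : ℕ => a ^ d}
      have inf_of_good : ∀ a ∈ good, (Set.range fun d : ℕ => a ^ d).Infinite := fun a ha =>
        Set.infinite_range_of_injective ha
      have hja : ι (MvPolynomial.X j) ∈ good := by
        intro r s hrs
        by_contra hne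
        wlog hlt : r < s generalizing r s
        · exact this hrs.symm (Ne.symm hne) (lt_of_le_of_ne (not_lt.1 hlt) (Ne.symm hne))
        refine hj ((Set.finite_Iio s).image (fun d => ι (MvPolynomial.X j) ^ d) |>.subset ?_)
        rintro _ ⟨d, rfl⟩
        induction d using Nat.strong_induction_on with
        | _ d ih =>
          rcases lt_or_ge d s with hd | hd
          · exact ⟨d, hd, rfl⟩
          · obtain ⟨e, he, hee⟩ := ih (d - s + r) (by omega)
            exact ⟨e, he, hee.trans (by simp only at hrs ⊢; rw [pow_add, hrs, ← pow_add, Nat.sub_add_cancel hd])⟩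
      have hgood : good.Infinite := by
        refine Set.Infinite.mono ?_ (Set.infinite_range_of_injective
          (hja.comp Nat.succ_injective : Function.Injective fun d : ℕ => ι (MvPolynomial.X j) ^ (d + 1)))
        rintro _ ⟨d, rfl⟩ r s hrs
        have := hja (a₁ := (d + 1) * r) (a₂ := (d + 1) * s) (by simp only [pow_mul]; exact hrs)
        exact Nat.eq_of_mul_eq_mul_left d.succ_pos this
      refine whole good hgood fun w hw => ?_
      have hall : ∀ s : Finset (Fin n), j ∉ s →
          Z fun l => if l ∈ s then w l else ι (MvPolynomial.X l) := by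
        intro s
        induction s using Finset.induction_on with
        | empty => intro _; simpa using hv
        | insert a s ha ih =>
          intro hjs
          rw [Finset.mem_insert, not_or] at hjs
          have h2 := line _ a j (Ne.symm hjs.1) (by simpa [hjs.2] using inf_of_good _ hja) (ih hjs.2) (w a)
          convert h2 using 1
          funext l
          rcases eq_or_ne l a with rfl | hl
          · simp
          · simp [hl]
      obtain ⟨m, hjm⟩ := other j
      have h1 := hall (Finset.univ.erase j) (by simp)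
      have h2 := line _ j m hjm (by simpa [hjm.symm] using inf_of_good _ (hw m)) h1 (w j)
      convert h2 using 1
      funext l
      rcases eq_or_ne l j with rfl | hl
      · simp
      · simp [hl]
    intro i
    obtain ⟨r, -, s, -, hrs, hr⟩ := Set.infinite_univ.exists_ne_map_eq_of_mapsTo
      (f := fun m : ℕ => ι (MvPolynomial.X i) ^ p ^ m) (fun m _ => Set.mem_range_self (f := fun d : ℕ => ι (MvPolynomial.X i) ^ d) (p ^ m)) (fin i)
    wlog hlt : r < s generalizing r s
    · exact this s r hrs.symm hr.symm (lt_of_le_of_ne (not_lt.1 hlt) hrs.symm)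
    refine ⟨s - r, Nat.sub_pos_of_lt hlt, ?_⟩
    apply (algebraMap x.asIdeal.ResidueField Ω).injective
    rw [map_pow]
    apply iterateFrobenius_inj Ω p r
    simp only [iterateFrobenius_def, ← pow_mul, ← pow_add]
    rw [Nat.sub_add_cancel hlt.le]
    exact hr.symm
  · exfalso
    haveI : CharZero Ω := CharP.charP_to_charZero Ω
    have line : ∀ (v : Fin n → Ω), Z v → ∀ i t, Z (Function.update v i t) := by
     intro v hZ i t
     obtain ⟨j, hij⟩ := other i
     refine update_mem I i v _ (Set.infinite_range_of_injective (f := fun m : ℕ => (m : Ω)) Nat.cast_injective) ?_ t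
     rintro _ ⟨m, rfl⟩
     induction m with
     | zero => simpa [Z] using hZ
     | succ m ih =>
       have h2 := step _ i j hij 0 ih
       simpa [add_assoc] using h2
    refine whole Set.univ Set.infinite_univ fun w _ => ?_
    have hall : ∀ s : Finset (Fin n), Z fun l => if l ∈ s then w l else ι (MvPolynomial.X l) := by
      intro s
      induction s using Finset.induction_on with
      | empty => simpa using hv
      | insert a s ha ih =>
        have h2 := line _ ih a (w a)
        convert h2 using 1
        funext l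
        rcases eq_or_ne l a with rfl | hl
        · simp
        · simp [hl]
    simpa using hall Finset.univ



/-- Let `k` be a field and `n ≥ 2`. For `i ≠ j` and `d ≥ 0` let `T_{i,j,d}` be the automorphism of
`𝔸^n_k` given by `x_i ↦ x_i + x_j^d` and fixing the other coordinates. Let `W ⊆ 𝔸^n_k` be a nonempty
open subscheme with `T_{i,j,d}⁻¹(W) = W` for all `i, j, d`. Then either `W = 𝔸^n_k`, or `k` has
prime characteristic `p` and the complement `𝔸^n_k ∖ W` consists of finitely many closed points,
each of whose coordinates `a` in the residue field satisfies `a^(p^m) = a` for some `m ≥ 1`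
(equivalently, is algebraic over `𝔽_p`). -/
theorem result (k : Type u) [Field k] (n : ℕ) (hn : 2 ≤ n)
    (W : (Spec (CommRingCat.of (MvPolynomial (Fin n) k))).Opens)
    (hW : (W : Set ↥(Spec (CommRingCat.of (MvPolynomial (Fin n) k)))).Nonempty)
    (hinv : ∀ (i j : Fin n), i ≠ j → ∀ d : ℕ,
      (Spec.map (CommRingCat.ofHom (MvPolynomial.aeval (R := k)
        (Function.update MvPolynomial.X i (MvPolynomial.X i + MvPolynomial.X j ^ d) :
          Fin n → MvPolynomial (Fin n) k)).toRingHom)) ⁻¹ᵁ W = W) :
    W = ⊤ ∨ ∃ p : ℕ, p.Prime ∧ CharP k p ∧ ((W : Set ↥(Spec (CommRingCat.of (MvPolynomial (Fin n) k))))ᶜ).Finite ∧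
      ∀ x : ↥(Spec (CommRingCat.of (MvPolynomial (Fin n) k))),
        x ∉ (W : Set ↥(Spec (CommRingCat.of (MvPolynomial (Fin n) k)))) →
        IsClosed ({x} : Set ↥(Spec (CommRingCat.of (MvPolynomial (Fin n) k)))) ∧ ∀ i : Fin n, ∃ m : ℕ, 0 < m ∧
          (algebraMap (MvPolynomial (Fin n) k) x.asIdeal.ResidueField (MvPolynomial.X i)) ^ (p ^ m) =
            algebraMap (MvPolynomial (Fin n) k) x.asIdeal.ResidueField (MvPolynomial.X i) := by
  classical
  let R := MvPolynomial (Fin n) k
  let T : ∀ (i j : Fin n) (d : ℕ), R →ₐ[k] R := fun i j d => MvPolynomial.aeval (R := k)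
    (Function.update MvPolynomial.X i (MvPolynomial.X i + MvPolynomial.X j ^ d) : Fin n → R)
  let Wc : Set (PrimeSpectrum R) := W.carrier
  obtain ⟨I, hI⟩ := (PrimeSpectrum.isClosed_iff_zeroLocus Wcᶜ).1 W.isOpen.isClosed_compl
  have hmem : ∀ x : PrimeSpectrum R, x ∉ Wc ↔ I ⊆ (x.asIdeal : Set R) := fun x => by
    show x ∈ Wcᶜ ↔ _
    rw [hI]
    rfl
  -- points with values in an algebraically closed field
  have key : ∀ x : PrimeSpectrum R, x ∉ Wc →
      ∃ p : ℕ, p.Prime ∧ CharP k p ∧ ∀ i : Fin n, ∃ m : ℕ, 0 < m ∧
        (algebraMap R x.asIdeal.ResidueField (MvPolynomial.X i)) ^ (p ^ m) =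
          algebraMap R x.asIdeal.ResidueField (MvPolynomial.X i) := by
    intro x hx
    refine key_lemma hn I ?_ (fun P hP i j hij d g hg => ?_) x ((hmem x).1 hx)
    · by_contra h0
      push Not at h0
      obtain ⟨y, hy⟩ := hW
      exact (hmem y).2 (fun g hg => by rw [h0 g hg]; exact Ideal.zero_mem _) hy
    · have hP' : (PrimeSpectrum.comap (T i j d).toRingHom P) ∉ Wc := by
        intro h
        have h2 := congrArg (fun U : (Spec (CommRingCat.of R)).Opens => U.carrier) (hinv i j hij d)
        exact (hmem P).2 hP ((Set.ext_iff.1 h2 P).1 h)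
      exact (hmem _).1 hP' hg
  by_cases hne : ∃ x : PrimeSpectrum R, x ∉ Wc
  · obtain ⟨x₀, hx₀⟩ := hne
    obtain ⟨p, hp, hpc, -⟩ := key x₀ hx₀
    have hcl : ∀ x : PrimeSpectrum R, x ∉ Wc → x.asIdeal.IsMaximal := by
      intro x hx
      obtain ⟨q, hq, hqc, ha⟩ := key x hx
      haveI : Algebra.IsIntegral k (R ⧸ x.asIdeal) := by
        refine ⟨fun y => ?_⟩
        obtain ⟨g, rfl⟩ := Ideal.Quotient.mk_surjective y
        induction g using MvPolynomial.induction_on with
        | C a => exact isIntegral_algebraMap
        | add a b ha hb => rw [map_add]; exact ha.add hb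
        | mul_X g i hg =>
          rw [map_mul]
          refine hg.mul ?_
          obtain ⟨m, hm, he⟩ := ha i
          refine ⟨Polynomial.X ^ q ^ m - Polynomial.X, Polynomial.monic_X_pow_sub (by
            rw [Polynomial.degree_X]; exact_mod_cast Nat.one_lt_pow hm.ne' hq.one_lt), ?_⟩
          have e : Ideal.Quotient.mk x.asIdeal (MvPolynomial.X i ^ q ^ m) =
              Ideal.Quotient.mk x.asIdeal (MvPolynomial.X i) := by
            rw [Ideal.Quotient.eq, ← Ideal.algebraMap_residueField_eq_zero, map_sub, map_pow, he, sub_self]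
          simp only [Polynomial.eval₂_sub, Polynomial.eval₂_X_pow, Polynomial.eval₂_X, ← map_pow, e, sub_self]
      exact Ideal.Quotient.maximal_of_isField _
        (isField_of_isIntegral_of_isField' (Field.toIsField k))
    refine Or.inr ⟨p, hp, hpc, ?_, fun x hx => ⟨(PrimeSpectrum.isClosed_singleton_iff_isMaximal x).2 (hcl x hx), ?_⟩⟩
    · refine ((Ideal.finite_minimalPrimes_of_isNoetherianRing R (Ideal.span I)).preimage
        (fun a _ b _ h => PrimeSpectrum.ext h)).subset fun (x : PrimeSpectrum R) hx => ?_
      refine ⟨⟨x.isPrime, Ideal.span_le.2 ((hmem x).1 hx)⟩, ?_⟩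
      rintro q ⟨hq, hIq⟩ hqx
      exact ((hcl ⟨q, hq⟩ ((hmem ⟨q, hq⟩).2 (Ideal.span_le.1 hIq))).eq_of_le x.isPrime.ne_top hqx).ge
    · obtain ⟨q, hq, hqc, ha⟩ := key x hx
      obtain rfl := CharP.eq k hpc hqc
      exact ha
  · refine Or.inl (TopologicalSpace.Opens.ext (Set.eq_univ_of_forall fun x => ?_))
    by_contra h
    exact hne ⟨x, h⟩

end Groth.Agent.S7451
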