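import Groth.Statements.S7454
import Groth.Agent.GrpdField.Equidim
import Groth.Agent.HopfLib.SchemeCartier
import Groth.Agent.S7822

set_option autoImplicit false
universe u
open CategoryTheory CategoryTheory.Limits AlgebraicGeometry
open Grpd

namespace Groth.Agent.S7454

open Groth.Agent.GrpdLib

theorem smoothLocus_congr {X Y : Scheme.{u}} {f g : X ⟶ Y} (h : f = g) [LocallyOfFinitePresentation f]
    [LocallyOfFinitePresentation g] {x : X} (hx : x ∈ f.smoothLocus) : x ∈ g.smoothLocus := by
  subst h; exact hx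

/-- Coefficientwise map of dual numbers. -/
def dmap {R L : Type u} [CommRing R] [CommRing L] (ψ : R →+* L) : DualNumber R →+* DualNumber L where
  toFun x := TrivSqZeroExt.inl (ψ x.fst) + TrivSqZeroExt.inr (ψ x.snd)
  map_one' := by ext <;> simp
  map_zero' := by ext <;> simp
  map_add' a b := by ext <;> simp
  map_mul' a b := by ext <;> simp [DualNumber.snd_mul] <;> ring

@[simp] theorem fst_dmap {R L : Type u} [CommRing R] [CommRing L] (ψ : R →+* L) (x : DualNumber R) :
    (dmap ψ x).fst = ψ x.fst := by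
  show (TrivSqZeroExt.inl (ψ x.fst) + TrivSqZeroExt.inr (ψ x.snd) : DualNumber L).fst = _
  simp

@[simp] theorem snd_dmap {R L : Type u} [CommRing R] [CommRing L] (ψ : R →+* L) (x : DualNumber R) :
    (dmap ψ x).snd = ψ x.snd := by
  show (TrivSqZeroExt.inl (ψ x.fst) + TrivSqZeroExt.inr (ψ x.snd) : DualNumber L).snd = _
  simp

/-- The projection of dual numbers. -/
abbrev dfst (L : Type u) [CommRing L] : DualNumber L →+* L := (TrivSqZeroExt.fstHom L L L).toRingHom

/-- The inclusion into dual numbers. -/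
abbrev dinl (L : Type u) [CommRing L] : L →+* DualNumber L := TrivSqZeroExt.inlHom L L

set_option backward.isDefEq.respectTransparency.types false in
/-- The arrows are smooth over the source at the identity. -/
theorem mem_smoothLocus_identity (S : Scheme.{u}) (G : Grpd.GroupoidScheme S) (k : Type u) [Field k] [CharZero k]
    (eU : G.U ≅ Spec (CommRingCat.of k)) [LocallyOfFiniteType (G.s ≫ eU.hom)]
    [LocallyOfFinitePresentation (G.s ≫ eU.hom)] :
    (eU.inv ≫ G.e) (IsLocalRing.closedPoint k) ∈ (G.s ≫ eU.hom).smoothLocus := by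
  set p := G.s ≫ eU.hom with hp
  let σ : Spec (CommRingCat.of k) ⟶ G.R := eU.inv ≫ G.e
  have hσ : σ ≫ p = 𝟙 _ := by simp only [σ, p, Category.assoc, reassoc_of% G.e_s, Iso.inv_hom_id]
  refine S7822.mem_smoothLocus_of_rational k p σ hσ ?_
  obtain ⟨A, φ, j, P, hj, hφ, hjp, hP⟩ := DimLib.exists_chart p (σ (IsLocalRing.closedPoint k))
  algebraize [φ]
  have hrange : Set.range σ ⊆ Set.range j := by
    rintro _ ⟨y, rfl⟩
    exact ⟨P, by rw [hP, Subsingleton.elim (α := PrimeSpectrum k) y (IsLocalRing.closedPoint k)]⟩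
  let γ₀ : A ⟶ CommRingCat.of k := Spec.preimage (IsOpenImmersion.lift j σ hrange)
  have hγ : Spec.map γ₀ ≫ j = σ := by rw [Spec.map_preimage, IsOpenImmersion.lift_fac]
  have hγφ : CommRingCat.ofHom φ ≫ γ₀ = 𝟙 _ := by
    apply Spec.map_injective
    rw [Spec.map_comp, ← hjp, reassoc_of% hγ, hσ, Spec.map_id]
  let g : A →ₐ[k] k :=
    { γ₀.hom with commutes' := fun c => DFunLike.congr_fun (congrArg CommRingCat.Hom.hom hγφ) c }
  let m : Ideal A := P.asIdeal
  have hm : m = RingHom.ker g := by
    have : PrimeSpectrum.comap γ₀.hom (IsLocalRing.closedPoint k) = P := by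
      apply j.isOpenEmbedding.injective
      rw [hP, ← hγ, Scheme.Hom.comp_apply]
      rfl
    show P.asIdeal = _
    rw [← this]
    show (IsLocalRing.maximalIdeal k).comap γ₀.hom = _
    rw [show IsLocalRing.maximalIdeal k = ⊥ from IsLocalRing.isField_iff_maximalIdeal_eq.1 (Field.toIsField k)]
    rfl
  haveI : m.IsPrime := P.isPrime
  haveI : IsNoetherianRing A := Algebra.FiniteType.isNoetherianRing k A
  let L := Localization.AtPrime m
  let ρ : L →ₐ[k] k := IsLocalization.liftAlgHom (M := m.primeCompl) (f := g) fun t => isUnit_iff_ne_zero.2 fun h =>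
    t.2 ((SetLike.ext_iff.1 hm (t : A)).2 (RingHom.mem_ker.2 h))
  have hρ : ∀ b, ρ (algebraMap A L b) = g b := fun b => IsLocalization.lift_eq _ b
  suffices hreg : IsRegularLocalRing L by
    obtain ⟨eB⟩ := EGA43.FibDepth.nonempty_stalk_equiv j P
    exact hP ▸ IsRegularLocalRing.of_ringEquiv eB
  refine HopfLib.isRegularLocalRing_of_tangent_lifts g m hm ρ hρ fun q hq => ?_
  -- the local point and the tangent vector at the identity
  let al : CommRingCat.of A ⟶ CommRingCat.of L := CommRingCat.ofHom (algebraMap A L)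
  let z : Spec (CommRingCat.of L) ⟶ G.R := Spec.map al ≫ j
  let ξ : Spec (CommRingCat.of (DualNumber k)) ⟶ G.R := Spec.map (CommRingCat.ofHom q.toRingHom) ≫ j
  let ψ : CommRingCat.of k ⟶ CommRingCat.of L := Spec.preimage (z ≫ G.t ≫ eU.hom)
  let u : Spec (CommRingCat.of (DualNumber L)) ⟶ Spec (CommRingCat.of (DualNumber k)) :=
    Spec.map (CommRingCat.ofHom (dmap ψ.hom))
  let π : Spec (CommRingCat.of (DualNumber L)) ⟶ Spec (CommRingCat.of L) := Spec.map (CommRingCat.ofHom (dinl L))
  let π₀ : Spec (CommRingCat.of (DualNumber k)) ⟶ Spec (CommRingCat.of k) := Spec.map (CommRingCat.ofHom (dinl k))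
  let i₀ : Spec (CommRingCat.of L) ⟶ Spec (CommRingCat.of (DualNumber L)) := Spec.map (CommRingCat.ofHom (dfst L))
  have hξp : ξ ≫ p = π₀ := by
    simp only [ξ, π₀, Category.assoc, hjp, ← Spec.map_comp, ← CommRingCat.ofHom_comp]
    congr 2
    ext1 c
    exact q.commutes c
  have huπ : u ≫ π₀ = π ≫ z ≫ G.t ≫ eU.hom := by
    rw [← Spec.map_preimage (z ≫ G.t ≫ eU.hom)]
    simp only [u, π₀, π, ← Spec.map_comp]
    congr 1
    ext1
    refine RingHom.ext fun c => ?_
    show dmap ψ.hom (TrivSqZeroExt.inl c) = TrivSqZeroExt.inl (ψ.hom c)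
    ext <;> simp
  have hw : (u ≫ ξ) ≫ G.s = (π ≫ z) ≫ G.t := by
    rw [← cancel_mono eU.hom]
    simp only [Category.assoc]
    rw [← hp, hξp, huπ]
  let w := cmp G (u ≫ ξ) (π ≫ z) hw
  have hi₀π : i₀ ≫ π = 𝟙 _ := by
    simp only [i₀, π, ← Spec.map_comp, ← CommRingCat.ofHom_comp]
    exact Spec.map_id _
  have hw₀ : i₀ ≫ w = z := by
    simp only [w, comp_cmp]
    refine (cmp_congr G ?_ (by rw [reassoc_of% hi₀π]) _ ?_).trans (G.e_comp z)
    · calc i₀ ≫ u ≫ ξ = (z ≫ G.t ≫ eU.hom) ≫ σ := by
            rw [← hγ, ← Spec.map_preimage (z ≫ G.t ≫ eU.hom)]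
            simp only [i₀, u, ξ, ← Category.assoc, ← Spec.map_comp]
            congr 2
            ext1
            refine RingHom.ext fun c => ?_
            show (dmap ψ.hom (q c)).fst = ψ.hom (γ₀.hom c)
            rw [fst_dmap, hq]
            rfl
        _ = z ≫ G.t ≫ G.e := by simp only [σ, Category.assoc, eU.hom_inv_id_assoc]
    · simp only [Category.assoc, G.e_s, Category.comp_id]
  have hwr : Set.range w ⊆ Set.range j := by
    rintro _ ⟨y, rfl⟩
    obtain ⟨y₀, rfl⟩ : ∃ y₀, i₀ y₀ = y := by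
      refine ⟨π y, PrimeSpectrum.ext ?_⟩
      ext (x : DualNumber L)
      change TrivSqZeroExt.inl x.fst ∈ y.asIdeal ↔ x ∈ y.asIdeal
      have hn : TrivSqZeroExt.inr x.snd ∈ y.asIdeal :=
        y.isPrime.mem_of_pow_mem 2 (by rw [pow_two, TrivSqZeroExt.inr_mul_inr]; exact Submodule.zero_mem _)
      conv_rhs => rw [← TrivSqZeroExt.inl_fst_add_inr_snd_eq x]
      exact (Submodule.add_mem_iff_left _ hn).symm
    rw [← Scheme.Hom.comp_apply, hw₀]
    exact ⟨Spec.map al y₀, rfl⟩
  let Φ₀ : CommRingCat.of A ⟶ CommRingCat.of (DualNumber L) := Spec.preimage (IsOpenImmersion.lift j w hwr)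
  have hΦ : Spec.map Φ₀ ≫ j = w := by rw [Spec.map_preimage, IsOpenImmersion.lift_fac]
  have hwp : w ≫ p = π ≫ z ≫ p := by
    simp only [p, w, ← Category.assoc, cmp_s]
  have hΦφ : CommRingCat.ofHom φ ≫ Φ₀ = CommRingCat.ofHom ((dinl L).comp (algebraMap k L)) := by
    apply Spec.map_injective
    rw [Spec.map_comp, ← hjp, ← Category.assoc, hΦ, hwp]
    simp only [π, z, al, Category.assoc, hjp, ← Spec.map_comp, ← CommRingCat.ofHom_comp]
  refine ⟨{ Φ₀.hom with commutes' := fun c => DFunLike.congr_fun (congrArg CommRingCat.Hom.hom hΦφ) c }, ?_, ?_⟩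
  · have h1 : Φ₀ ≫ CommRingCat.ofHom (dfst L) = al := by
      apply Spec.map_injective
      rw [← cancel_mono j, Spec.map_comp, Category.assoc, hΦ]
      exact hw₀
    intro b
    exact DFunLike.congr_fun (congrArg CommRingCat.Hom.hom h1) b
  · let rr : Spec (CommRingCat.of k) ⟶ Spec (CommRingCat.of L) := Spec.map (CommRingCat.ofHom ρ.toRingHom)
    let r₁ : Spec (CommRingCat.of (DualNumber k)) ⟶ Spec (CommRingCat.of (DualNumber L)) :=
      Spec.map (CommRingCat.ofHom (dmap ρ.toRingHom))
    have hrz : rr ≫ z = σ := by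
      rw [← hγ]
      simp only [rr, z, al, ← Category.assoc, ← Spec.map_comp, ← CommRingCat.ofHom_comp]
      congr 2
      ext b
      exact hρ b
    have hrψ : ψ ≫ CommRingCat.ofHom ρ.toRingHom = 𝟙 _ := by
      apply Spec.map_injective
      rw [Spec.map_comp, Spec.map_preimage, Spec.map_id]
      show rr ≫ z ≫ G.t ≫ eU.hom = _
      rw [reassoc_of% hrz]
      simp only [σ, Category.assoc, reassoc_of% G.e_t, Iso.inv_hom_id]
    have hru : r₁ ≫ u = 𝟙 _ := by
      simp only [r₁, u, ← Spec.map_comp, ← CommRingCat.ofHom_comp]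
      rw [← Spec.map_id]
      congr 1
      refine CommRingCat.hom_ext (RingHom.ext fun c => ?_)
      have hc := fun c => DFunLike.congr_fun (congrArg CommRingCat.Hom.hom hrψ) c
      show dmap ρ.toRingHom (dmap ψ.hom c) = c
      ext
      · rw [fst_dmap, fst_dmap]; exact hc _
      · rw [snd_dmap, snd_dmap]; exact hc _
    have hrπ : r₁ ≫ π = π₀ ≫ rr := by
      simp only [r₁, π, π₀, rr, ← Spec.map_comp, ← CommRingCat.ofHom_comp]
      congr 2
      refine RingHom.ext fun c => ?_
      show dmap ρ.toRingHom (TrivSqZeroExt.inl c) = TrivSqZeroExt.inl (ρ c)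
      ext <;> simp
    have h2 : r₁ ≫ w = ξ := by
      simp only [w, comp_cmp]
      refine (cmp_congr G (by rw [reassoc_of% hru]) ?_ _ ?_).trans (G.comp_e ξ)
      · rw [reassoc_of% hrπ, hrz, ← hξp]
        simp only [σ, p, Category.assoc, eU.hom_inv_id_assoc]
      · simp only [Category.assoc, G.e_t, Category.comp_id]
    have h3 : Φ₀ ≫ CommRingCat.ofHom (dmap ρ.toRingHom) = CommRingCat.ofHom q.toRingHom := by
      apply Spec.map_injective
      rw [← cancel_mono j, Spec.map_comp, Category.assoc, hΦ]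
      exact h2
    intro b
    have := congrArg TrivSqZeroExt.snd (DFunLike.congr_fun (congrArg CommRingCat.Hom.hom h3) b)
    exact (snd_dmap _ _).symm.trans this

set_option backward.isDefEq.respectTransparency.types false in
theorem smooth_source (S : Scheme.{u}) (G : Grpd.GroupoidScheme S) (k : Type u) [Field k] [CharZero k]
    (eU : G.U ≅ Spec (CommRingCat.of k)) [LocallyOfFiniteType G.s] : Smooth (G.s ≫ eU.hom) := by
  set p := G.s ≫ eU.hom with hp
  haveI : LocallyOfFiniteType p := inferInstance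
  haveI : LocallyOfFinitePresentation p := inferInstance
  have hU := mem_smoothLocus_identity S G k eU
  let kb := AlgebraicClosure k
  let a : Spec (CommRingCat.of kb) ⟶ Spec (CommRingCat.of k) := Spec.map (CommRingCat.ofHom (algebraMap k kb))
  refine MorphismProperty.of_pullback_snd_of_descendsAlong (P := @Smooth)
    (Q := @Surjective ⊓ @Flat ⊓ @QuasiCompact) (f := p) (g := a)
    ⟨⟨inferInstance, inferInstance⟩, inferInstance⟩ ?_
  haveI : LocallyOfFiniteType (pullback.snd p a) := inferInstance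
  haveI : LocallyOfFinitePresentation (pullback.snd p a) := inferInstance
  haveI : JacobsonSpace ↥(pullback p a) := LocallyOfFiniteType.jacobsonSpace (pullback.snd p a)
  rw [← Scheme.Hom.smoothLocus_eq_top_iff, ← TopologicalSpace.Opens.coe_eq_univ, ← not_ne_iff, ← Set.nonempty_compl]
  intro H
  obtain ⟨x, hx, hxc⟩ := nonempty_inter_closedPoints H (pullback.snd p a).smoothLocus.2.isClosed_compl.isLocallyClosed
  apply hx
  let r : Spec (CommRingCat.of kb) ⟶ G.R := pointOfClosedPoint (pullback.snd p a) x hxc ≫ pullback.fst p a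
  have hra : r ≫ G.s ≫ eU.hom = a := by
    show r ≫ p = a
    rw [Category.assoc, pullback.condition, pointOfClosedPoint_comp_assoc]
  let b := r ≫ G.t ≫ eU.hom
  obtain ⟨Φ, hΦs, hΦe⟩ := GrpdField.exists_translate_iso G eU r
  -- smoothness at the identity after base change
  have hb : GrpdField.idSection G eU b (IsLocalRing.closedPoint kb) ∈ (pullback.snd p b).smoothLocus := by
    let U := p.smoothLocus
    haveI : Smooth (U.ι ≫ p) := by
      rw [← Scheme.Hom.smoothLocus_eq_top_iff, ← Scheme.Hom.preimage_smoothLocus_eq, eq_top_iff]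
      exact fun z _ => z.2
    let mm : pullback (U.ι ≫ p) b ⟶ pullback p b :=
      pullback.map _ _ p b U.ι (𝟙 _) (𝟙 _) (Category.comp_id _) (by simp)
    haveI : Smooth (mm ≫ pullback.snd p b) := by
      simp only [mm, pullback.lift_snd, Category.comp_id]
      infer_instance
    have hr : GrpdField.idSection G eU b (IsLocalRing.closedPoint kb) ∈ Set.range mm := by
      rw [Scheme.Pullback.range_map]
      refine ⟨?_, by simp⟩
      rw [Set.mem_preimage, Scheme.Opens.range_ι, ← Scheme.Hom.comp_apply,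
        show GrpdField.idSection G eU b ≫ pullback.fst p b = b ≫ eU.inv ≫ G.e from pullback.lift_fst _ _ _]
      show (eU.inv ≫ G.e) (b _) ∈ U
      rw [Subsingleton.elim (α := PrimeSpectrum k) (b _) (IsLocalRing.closedPoint k)]
      exact hU
    obtain ⟨z, hz⟩ := hr
    rw [← hz]
    show z ∈ mm ⁻¹ᵁ (pullback.snd p b).smoothLocus
    rw [Scheme.Hom.preimage_smoothLocus_eq, Scheme.Hom.smoothLocus_eq_top]
    trivial
  have key : ∀ (a' : Spec (CommRingCat.of kb) ⟶ Spec (CommRingCat.of k)) (e : a' = a)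
      (y : Spec (CommRingCat.of kb) ⟶ pullback p a'), y ≫ pullback.fst p a' = r → y ≫ pullback.snd p a' = 𝟙 _ →
      y (IsLocalRing.closedPoint kb) ∈ (pullback.snd p a').smoothLocus →
      x ∈ (pullback.snd p a).smoothLocus := by
    rintro _ rfl y e1 e2 h
    rwa [show y = pointOfClosedPoint (pullback.snd p _) x hxc from pullback.hom_ext e1
      (e2.trans (pointOfClosedPoint_comp _ x hxc).symm), pointOfClosedPoint_apply] at h
  haveI : IsIso Φ.hom := Φ.isIso_hom
  refine key (r ≫ G.s ≫ eU.hom) hra (GrpdField.idSection G eU b ≫ Φ.hom) ?_ ?_ ?_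
  · rw [hΦe]; exact pullback.lift_fst _ _ _
  · rw [hΦe]; exact pullback.lift_snd _ _ _
  · show GrpdField.idSection G eU b (IsLocalRing.closedPoint kb) ∈ Φ.hom ⁻¹ᵁ (pullback.snd p (r ≫ G.s ≫ eU.hom)).smoothLocus
    rw [Scheme.Hom.preimage_smoothLocus_eq]
    exact smoothLocus_congr hΦs.symm hb

/-- Let (U, R, s, t, c) be a groupoid scheme over S with U the spectrum of a field of characteristic
zero and s, t locally of finite type. Then s and t are smooth. (A groupoid scheme carries U, R, s,
t, c, e, i over S with the groupoid axioms on T-points; c is defined on the fibre product of s and t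
and sends a pair (a, b) with s(a) = t(b) to a composed with b.) -/
theorem result (S : Scheme.{u}) (G : Grpd.GroupoidScheme S) (k : Type u) [Field k] [CharZero k] (eU : G.U ≅ Spec (CommRingCat.of k)) [LocallyOfFiniteType G.s] [LocallyOfFiniteType G.t] : Smooth G.s ∧ Smooth G.t := by
  haveI := smooth_source S G k eU
  have hs : Smooth G.s := by
    have : G.s = (G.s ≫ eU.hom) ≫ eU.inv := by rw [Category.assoc, eU.hom_inv_id, Category.comp_id]
    rw [this]; infer_instance
  refine ⟨hs, ?_⟩
  haveI := GrpdLib.isIso_i G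
  rw [← G.i_s]
  infer_instance

end Groth.Agent.S7454
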