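import Groth.Statements.S7458
import Mathlib.CategoryTheory.MorphismProperty.Limits

set_option autoImplicit false
universe u
open CategoryTheory MonoidalCategory CartesianMonoidalCategory MonObj GrpObj AlgebraicGeometry
open GrpSch

namespace Groth.Agent.S7458

/-- For a group scheme G over a scheme S, a scheme T flat over S and a morphism ψ : T -> G over S, the
map T x_S G -> G sending (t, g) to the product ψ(t)·g is a flat morphism; taking T = G and ψ the
identity, the multiplication G x_S G -> G is flat whenever G is flat over S. -/
theorem result (S : Scheme.{u}) (G : Over S) [GrpObj G] : (∀ (T : Over S) (ψ : T ⟶ G), Flat T.hom → Flat (ψ ▷ G ≫ μ[G]).left) ∧ (Flat G.hom → Flat μ[G].left) := by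
  have key : ∀ (T : Over S) (ψ : T ⟶ G), Flat T.hom → Flat (ψ ▷ G ≫ μ[G]).left := by
    intro T ψ hT
    let f : T ⊗ G ⟶ G := (fst T G ≫ ψ) * snd T G
    let f' : T ⊗ G ⟶ G := (fst T G ≫ ψ)⁻¹ * snd T G
    have hf : ψ ▷ G ≫ μ[G] = f := by
      show _ = lift (fst T G ≫ ψ) (snd T G) ≫ μ[G]
      congr 1
      all_goals (ext <;> simp)
    let e : T ⊗ G ≅ T ⊗ G :=
      { hom := lift (fst T G) f
        inv := lift (fst T G) f'
        hom_inv_id := by
          ext
          · simp
          · simp [f, f', MonObj.comp_mul, GrpObj.comp_inv]
        inv_hom_id := by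
          ext
          · simp
          · simp [f, f', MonObj.comp_mul] }
    have : f = e.hom ≫ snd T G := by simp [e]
    rw [hf, this, Over.comp_left]
    have : Flat (snd T G).left := by
      rw [Over.snd_left]; infer_instance
    have : IsIso e.hom.left := ((Over.forget S).mapIso e).isIso_hom
    infer_instance
  refine ⟨key, fun h => ?_⟩
  have := key G (𝟙 G) h
  simpa using this

end Groth.Agent.S7458
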