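import Groth.Statements.S7459
import Mathlib.AlgebraicGeometry.Morphisms.UniversallyOpen
import Mathlib.CategoryTheory.Monoidal.Cartesian.Grp
-- import your own Groth.Agent.* helpers here

set_option autoImplicit false
universe u
open CategoryTheory MonoidalCategory CartesianMonoidalCategory MonObj GrpObj AlgebraicGeometry
open GrpSch

namespace Groth.Agent.S7459

/-- Let G be a group scheme over a field k, W an open subscheme of G and f : T -> G a morphism of
schemes (T becomes a k-scheme through f). Then the image of the composition T x_k W -> G x_k G -> G,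
the second map being the multiplication, is open. -/
theorem result (K : Type u) [Field K] (G : Over (Spec (CommRingCat.of K))) [GrpObj G] (W : G.left.Opens) (T : Scheme.{u}) (f : T ⟶ G.left) : IsOpen (Set.range ⇑(((Over.homMk f rfl : Over.mk (f ≫ G.hom) ⟶ G) ⊗ₘ (Over.homMk W.ι rfl : Over.mk (W.ι ≫ G.hom) ⟶ G)) ≫ μ[G]).left) := by
  let X : Over (Spec (CommRingCat.of K)) := Over.mk (f ≫ G.hom)
  let fo : X ⟶ G := Over.homMk f rfl
  let Wo : Over.mk (W.ι ≫ G.hom) ⟶ G := Over.homMk W.ι rfl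
  let Φ : X ⊗ G ⟶ X ⊗ G := lift (fst X G) ((fst X G ≫ fo) * snd X G)
  let Φ' : X ⊗ G ⟶ X ⊗ G := lift (fst X G) ((fst X G ≫ fo)⁻¹ * snd X G)
  have h1 : Φ ≫ Φ' = 𝟙 _ := by
    apply CartesianMonoidalCategory.hom_ext
    · simp [Φ, Φ']
    · simp [Φ, Φ', MonObj.comp_mul, GrpObj.comp_inv]
  have h2 : Φ' ≫ Φ = 𝟙 _ := by
    apply CartesianMonoidalCategory.hom_ext
    · simp [Φ, Φ']
    · simp [Φ, Φ', MonObj.comp_mul, GrpObj.comp_inv]
  haveI : IsIso Φ := ⟨Φ', h1, h2⟩
  haveI : IsIso Φ.left := inferInstanceAs (IsIso ((Over.forget _).map Φ))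
  haveI : IsOpenImmersion (X ◁ Wo).left := by
    have sq : IsPullback (snd X (Over.mk (W.ι ≫ G.hom))).left (X ◁ Wo).left W.ι (snd X G).left := ?_
    · exact MorphismProperty.of_isPullback (P := @IsOpenImmersion) sq inferInstance
    refine IsPullback.of_bot (v₂₁ := (fst X G).left) (v₂₂ := G.hom) (h₃₁ := X.hom) ?_ ?_
      ((IsPullback.of_hasPullback X.hom G.hom).flip)
    · rw [← Over.comp_left, whiskerLeft_fst]
      exact (IsPullback.of_hasPullback X.hom (W.ι ≫ G.hom)).flip
    · rw [← Over.comp_left, whiskerLeft_snd]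
      rfl
  haveI : UniversallyOpen (snd X G).left := inferInstanceAs (UniversallyOpen (Limits.pullback.snd X.hom G.hom))
  have e : (fo ⊗ₘ Wo) ≫ μ[G] = (X ◁ Wo) ≫ Φ ≫ snd X G := by
    have h : fo ⊗ₘ Wo = lift (fst _ _ ≫ fo) (snd _ _ ≫ Wo) := by
      apply CartesianMonoidalCategory.hom_ext <;> simp
    rw [h, ← Hom.mul_def, lift_snd, MonObj.comp_mul, whiskerLeft_fst_assoc, whiskerLeft_snd]
  show IsOpen (Set.range ⇑((fo ⊗ₘ Wo) ≫ μ[G]).left)
  rw [e, Over.comp_left, Over.comp_left]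
  exact (Scheme.Hom.isOpenMap _).isOpen_range

end Groth.Agent.S7459
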