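import Groth.Statements.S7460
import Groth.Agent.S7489

set_option autoImplicit false
universe u
open CategoryTheory CategoryTheory.Limits AlgebraicGeometry
open GrpSch

namespace Groth.Agent.S7460

theorem isClopen_basicOpen {k A : Type u} [Field k] [CommRing A] [Algebra k A]
    (hA : ∀ s : Finset A, ∃ (B : Subalgebra k A) (n : ℕ), (↑s : Set A) ⊆ (B : Set A) ∧ Nonempty (B ≃ₐ[k] (Fin n → k)))
    (x : A) : IsClopen (PrimeSpectrum.basicOpen x : Set (PrimeSpectrum A)) := by
  classical
  obtain ⟨B, n, hB, ⟨e⟩⟩ := hA {x}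
  let xb : B := ⟨x, hB (by simp)⟩
  let y : B := e.symm fun i => (e xb i)⁻¹
  have hy : x * (1 - x * (y : A)) = 0 := by
    have h : xb * (1 - xb * y) = 0 := by
      apply e.injective
      funext i
      by_cases h0 : e xb i = 0 <;> simp [y, h0]
    exact congrArg Subtype.val h
  refine ⟨⟨?_⟩, (PrimeSpectrum.basicOpen x).isOpen⟩
  have : (PrimeSpectrum.basicOpen x : Set (PrimeSpectrum A))ᶜ = PrimeSpectrum.basicOpen (1 - x * (y : A)) := by
    ext P
    simp only [Set.mem_compl_iff, SetLike.mem_coe, PrimeSpectrum.mem_basicOpen, not_not]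
    refine ⟨fun hx h => P.isPrime.ne_top ((Ideal.eq_top_iff_one _).2 ?_), fun h => ?_⟩
    · simpa using add_mem h (P.asIdeal.mul_mem_right (y : A) hx)
    · exact (P.isPrime.mem_or_mem (hy ▸ zero_mem _)).resolve_right h
  rw [this]
  exact (PrimeSpectrum.basicOpen _).isOpen

theorem exists_section {k A : Type u} [Field k] [CommRing A] [Algebra k A]
    (hA : ∀ s : Finset A, ∃ (B : Subalgebra k A) (n : ℕ), (↑s : Set A) ⊆ (B : Set A) ∧ Nonempty (B ≃ₐ[k] (Fin n → k)))
    (a : PrimeSpectrum A) : ∃ χ : A →ₐ[k] k, a ∈ Set.range (PrimeSpectrum.comap χ.toRingHom) := by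
  haveI := a.isPrime
  have hbij : Function.Bijective (Algebra.ofId k (A ⧸ a.asIdeal)) := by
    refine ⟨(Algebra.ofId k (A ⧸ a.asIdeal)).toRingHom.injective, fun x => ?_⟩
    obtain ⟨x, rfl⟩ := Ideal.Quotient.mk_surjective x
    obtain ⟨n, r, hr⟩ := S7489.exists_root hA x
    obtain ⟨i, -, hi⟩ := a.isPrime.prod_mem_iff.1
      (show ∏ i, (x - algebraMap k A (r i)) ∈ a.asIdeal from hr.symm ▸ zero_mem _)
    exact ⟨r i, (Ideal.Quotient.eq.2 hi).symm⟩
  refine ⟨(AlgEquiv.ofBijective _ hbij).symm.toAlgHom.comp (Ideal.Quotient.mkₐ k a.asIdeal),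
    ⟨⊥, Ideal.isPrime_bot⟩, PrimeSpectrum.ext (Ideal.ext fun x => ?_)⟩
  show (AlgEquiv.ofBijective _ hbij).symm (Ideal.Quotient.mk a.asIdeal x) ∈ (⊥ : Ideal k) ↔ x ∈ a.asIdeal
  rw [Ideal.mem_bot, ← Ideal.Quotient.eq_zero_iff_mem]
  exact EmbeddingLike.map_eq_zero_iff (f := (AlgEquiv.ofBijective _ hbij).symm)

/-- Let k be a field and A a k-algebra such that every finite subset of A is contained in a k-subalgebra
isomorphic to a finite product of copies of k (that is, A is a directed colimit of finite products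
of copies of k). Let X be a scheme over k. Then the map from the underlying space of Spec A x_k X to
the product of the underlying spaces of Spec A and X, given by the two projections, is a
homeomorphism. -/
theorem result (k : Type u) [Field k] (A : Type u) [CommRing A] [Algebra k A] (hA : ∀ s : Finset A, ∃ (B : Subalgebra k A) (n : ℕ), (↑s : Set A) ⊆ (B : Set A) ∧ Nonempty (B ≃ₐ[k] (Fin n → k))) (X : Scheme.{u}) (f : X ⟶ Spec (CommRingCat.of k)) : IsHomeomorph (fun p : ↑(pullback (Spec.map (CommRingCat.ofHom (algebraMap k A))) f) => (pullback.fst (Spec.map (CommRingCat.ofHom (algebraMap k A))) f p, pullback.snd (Spec.map (CommRingCat.ofHom (algebraMap k A))) f p)) := by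
  classical
  let q := Spec.map (CommRingCat.ofHom (algebraMap k A))
  haveI : IsIntegralHom q := IsIntegralHom.SpecMap_iff.2 fun x => by
    obtain ⟨n, r, hr⟩ := S7489.exists_root hA x
    refine ⟨∏ i, (Polynomial.X - Polynomial.C (r i)), Polynomial.monic_prod_of_monic _ _ fun i _ => Polynomial.monic_X_sub_C _, ?_⟩
    simpa [Polynomial.eval₂_finsetProd] using hr
  have hfib : ∀ a : PrimeSpectrum A, ∃ j : X ⟶ pullback q f, j ≫ pullback.snd q f = 𝟙 X ∧
      (∀ z, pullback.fst q f z = a → z ∈ Set.range j) ∧ ∀ x, pullback.fst q f (j x) = a := by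
    intro a
    obtain ⟨χ, o, ho⟩ := exists_section hA a
    let ia : Spec (CommRingCat.of k) ⟶ Spec (CommRingCat.of A) := Spec.map (CommRingCat.ofHom χ.toRingHom)
    have hiq : ia ≫ q = 𝟙 _ := by
      rw [← Spec.map_comp, ← Spec.map_id]
      exact congrArg Spec.map (CommRingCat.hom_ext (RingHom.ext fun r => χ.commutes r))
    let j : X ⟶ pullback q f := pullback.lift (f ≫ ia) (𝟙 X) (by simp [hiq])
    have hpt : ∀ p : Spec (CommRingCat.of k), ia p = a := fun p => by
      rw [← ho]; exact congrArg ia.base (Subsingleton.elim (α := PrimeSpectrum k) _ _)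
    refine ⟨j, pullback.lift_snd _ _ _, fun z hz => ?_, fun x => ?_⟩
    · have hm := Scheme.Pullback.range_map (𝟙 (Spec (CommRingCat.of k))) f q f ia (𝟙 X) (𝟙 _) (by simp [hiq]) (by simp)
      obtain ⟨w, hw⟩ : z ∈ Set.range (pullback.map (𝟙 (Spec (CommRingCat.of k))) f q f ia (𝟙 X) (𝟙 _) (by simp [hiq]) (by simp)) := by
        rw [hm]; exact ⟨⟨f (pullback.snd q f z), (hpt _).trans hz.symm⟩, ⟨_, rfl⟩⟩
      refine ⟨pullback.snd _ f w, ?_⟩
      rw [← hw, ← Scheme.Hom.comp_apply]
      refine congrArg (fun h : _ ⟶ pullback q f => h w) ?_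
      apply pullback.hom_ext
      · simp only [Category.assoc, j]
        erw [pullback.lift_fst, pullback.lift_fst]
        rw [← pullback.condition_assoc, Category.id_comp]
      · simp only [Category.assoc, j]
        erw [pullback.lift_snd, pullback.lift_snd]
    · rw [← Scheme.Hom.comp_apply, pullback.lift_fst, Scheme.Hom.comp_apply]
      exact hpt _
  have hinj : ∀ z z', pullback.fst q f z = pullback.fst q f z' → pullback.snd q f z = pullback.snd q f z' → z = z' := by
    intro z z' h1 h2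
    obtain ⟨j, hj, hjr, -⟩ := hfib (pullback.fst q f z')
    obtain ⟨x, rfl⟩ := hjr z h1
    obtain ⟨x', rfl⟩ := hjr z' rfl
    rw [← Scheme.Hom.comp_apply, ← Scheme.Hom.comp_apply, hj] at h2
    exact congrArg j h2
  refine isHomeomorph_iff_continuous_isClosedMap_bijective.2
    ⟨(pullback.fst q f).continuous.prodMk (pullback.snd q f).continuous, fun F hF => ?_,
      fun z z' h => hinj z z' (Prod.ext_iff.1 h).1 (Prod.ext_iff.1 h).2, fun ⟨a, x⟩ => ?_⟩
  · rw [← closure_subset_iff_isClosed]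
    rintro ⟨a, x⟩ hax
    let ι := {e : A // a ∈ PrimeSpectrum.basicOpen e}
    let C : ι → Set ↥(pullback q f) := fun e => F ∩ pullback.fst q f ⁻¹' (PrimeSpectrum.basicOpen e.1 : Set (PrimeSpectrum A))
    have hC : ∀ e, IsClosed (C e) := fun e => hF.inter ((isClopen_basicOpen hA e.1).1.preimage (pullback.fst q f).continuous)
    have hne : ∀ e, x ∈ pullback.snd q f '' C e := fun e => by
      rw [← ((pullback.snd q f).isClosedMap _ (hC e)).closure_eq]
      rw [mem_closure_iff]
      intro V hV hxV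
      obtain ⟨_, ⟨hb1, hb2⟩, z, hz, rfl⟩ := mem_closure_iff.1 hax ((PrimeSpectrum.basicOpen e.1 : Set (PrimeSpectrum A)) ×ˢ V)
        ((PrimeSpectrum.basicOpen e.1).isOpen.prod hV) ⟨e.2, hxV⟩
      exact ⟨_, hb2, z, ⟨hz, hb1⟩, rfl⟩
    have hK : IsCompact (pullback.snd q f ⁻¹' {x}) := (pullback.snd q f).isProperMap.isCompact_preimage isCompact_singleton
    obtain ⟨z, hzx, hzC⟩ := hK.inter_iInter_nonempty C hC fun u => by
      obtain ⟨z, hz, hzx⟩ := hne ⟨∏ e ∈ u, e.1, fun h => by
        obtain ⟨e, _, he⟩ := a.isPrime.prod_mem_iff.1 h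
        exact e.2 he⟩
      refine ⟨z, hzx, Set.mem_iInter₂.2 fun e he => ⟨hz.1, fun h => ?_⟩⟩
      exact hz.2 (Ideal.mem_of_dvd _ (Finset.dvd_prod_of_mem _ he) h)
    rw [Set.mem_iInter] at hzC
    refine ⟨z, (hzC ⟨1, fun h => a.isPrime.ne_top ((Ideal.eq_top_iff_one _).2 h)⟩).1, Prod.ext ?_ hzx⟩
    by_contra hne'
    have : ∃ e : A, a ∈ PrimeSpectrum.basicOpen e ∧ pullback.fst q f z ∉ PrimeSpectrum.basicOpen e := by
      by_contra hall
      push Not at hall
      have hsp : pullback.fst q f z ⤳ (a : PrimeSpectrum A) := by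
        refine (PrimeSpectrum.le_iff_specializes (pullback.fst q f z : PrimeSpectrum A) a).1 fun t ht => ?_
        by_contra hta
        exact hall t hta ht
      obtain ⟨χ, o, ho⟩ := exists_section hA (pullback.fst q f z)
      have hmax : (pullback.fst q f z : PrimeSpectrum A).asIdeal.IsMaximal := by
        rw [← ho]
        show (Ideal.comap χ.toRingHom o.asIdeal).IsMaximal
        rw [show o.asIdeal = (⊥ : Ideal k) from (Ring.isField_iff_isSimpleOrder_ideal.1 (Field.toIsField k)).eq_bot_or_eq_top _ |>.resolve_right o.isPrime.ne_top]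
        exact RingHom.ker_isMaximal_of_surjective χ.toRingHom fun r => ⟨algebraMap k A r, χ.commutes r⟩
      exact hne' (PrimeSpectrum.ext (hmax.eq_of_le a.isPrime.ne_top ((PrimeSpectrum.le_iff_specializes _ _).2 hsp)))
    obtain ⟨e, he, hze⟩ := this
    exact hze (hzC ⟨e, he⟩).2
  · obtain ⟨j, hj, -, hj'⟩ := hfib a
    refine ⟨j x, Prod.ext (hj' x) ?_⟩
    show pullback.snd q f (j x) = x
    rw [← Scheme.Hom.comp_apply, hj]
    rfl

end Groth.Agent.S7460
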