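import Groth.Statements.S7461
import Groth.Agent.S7457
import Groth.Prelude.Def_Mor2

set_option autoImplicit false
universe u
open CategoryTheory CategoryTheory.Limits AlgebraicGeometry
open Grpd

namespace Groth.Agent.S7461

theorem finrank_s_eq (S : Scheme.{u}) (G : Grpd.GroupoidScheme S) [IsFinite G.s] [Flat G.s] (r : G.R) :
    G.s.finrank (G.t r) = G.s.finrank (G.s r) := by
  have h1 := Scheme.Hom.finrank_of_isPullback (pullback.fst G.s G.t) (pullback.snd G.s G.t) G.s G.t
    (IsPullback.of_hasPullback G.s G.t) r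
  have h2 := Scheme.Hom.finrank_of_isPullback G.c (pullback.snd G.s G.t) G.s G.s (Groth.Agent.S7457.result S G).2 r
  exact h1.symm.trans h2

theorem isFinLocFreeOfDeg_restrict {X Y : Scheme.{u}} (f : X ⟶ Y) [IsFinite f] [Flat f]
    [LocallyOfFinitePresentation f] (V : Y.Opens) (d : ℕ) (h : ∀ y ∈ V, f.finrank y = d) :
    Mor2.IsFinLocFreeOfDeg d (f ∣_ V) := by
  have sq := (isPullback_morphismRestrict f V).flip
  exact ⟨⟨MorphismProperty.of_isPullback (P := @IsFinite) sq inferInstance,
    MorphismProperty.of_isPullback (P := @Flat) sq inferInstance,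
    MorphismProperty.of_isPullback (P := @LocallyOfFinitePresentation) sq inferInstance⟩,
    fun y => (Scheme.Hom.finrank_of_isPullback _ _ _ _ sq y).trans (h _ y.2)⟩

/-- Let (U, R, s, t, c) be a groupoid scheme over S with s and t finite locally free. Then U is a
disjoint union of R-invariant open subschemes U_r, r = 1, 2, 3, ..., such that s and t restricted
over U_r are finite locally free of rank r. Here the decomposition is indexed by all natural numbers
with U_0 empty, R-invariance of U_r means s^{-1}(U_r) = t^{-1}(U_r), and 'finite locally free of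
rank r' means finite, flat, locally of finite presentation with rank function constant equal to r.
(A groupoid scheme carries U, R, s, t, c, e, i over S with the groupoid axioms on T-points; c is
defined on the fibre product of s and t and sends a pair (a, b) with s(a) = t(b) to a composed with
b.) -/
theorem result (S : Scheme.{u}) (G : Grpd.GroupoidScheme S) [IsFinite G.s] [Flat G.s] [LocallyOfFinitePresentation G.s] [IsFinite G.t] [Flat G.t] [LocallyOfFinitePresentation G.t] : ∃ V : ℕ → G.U.Opens, V 0 = ⊥ ∧ (∀ r r', r ≠ r' → Disjoint (V r) (V r')) ∧ (⨆ r, V r) = ⊤ ∧ ∀ r, G.s ⁻¹ᵁ V r = G.t ⁻¹ᵁ V r ∧ Mor2.IsFinLocFreeOfDeg r (G.s ∣_ V r) ∧ Mor2.IsFinLocFreeOfDeg r (G.t ∣_ V r) := by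
  let V : ℕ → G.U.Opens := fun r => ⟨{u | G.s.finrank u = r}, (G.s.isLocallyConstant_finrank).isOpen_fiber r⟩
  have hsurj : ∀ u : G.U, 1 ≤ G.s.finrank u := fun u => by
    have h := G.s.one_le_finrank_map (G.e u)
    rwa [← Scheme.Hom.comp_apply, G.e_s] at h
  have := Groth.Agent.GrpdLib.isIso_i G
  have ht : ∀ u, G.t.finrank u = G.s.finrank u := fun u => by
    conv_lhs => rw [← G.i_s, Scheme.Hom.finrank_comp_left_of_isIso]
  refine ⟨V, ?_, fun r r' hne => ?_, ?_, fun r => ⟨?_, isFinLocFreeOfDeg_restrict G.s (V r) r fun y hy => hy,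
    isFinLocFreeOfDeg_restrict G.t (V r) r fun y hy => (ht y).trans hy⟩⟩
  · refine TopologicalSpace.Opens.ext (Set.eq_empty_iff_forall_notMem.2 fun u hu => ?_)
    exact absurd (show G.s.finrank u = 0 from hu) (Nat.one_le_iff_ne_zero.1 (hsurj u))
  · rw [disjoint_iff]
    refine TopologicalSpace.Opens.ext (Set.eq_empty_iff_forall_notMem.2 fun u hu => hne ?_)
    exact (show G.s.finrank u = r from hu.1).symm.trans hu.2
  · exact eq_top_iff.2 fun u _ => TopologicalSpace.Opens.mem_iSup.2 ⟨G.s.finrank u, rfl⟩
  · refine TopologicalSpace.Opens.ext (Set.ext fun x => ?_)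
    show G.s.finrank (G.s x) = r ↔ G.s.finrank (G.t x) = r
    rw [finrank_s_eq S G x]

end Groth.Agent.S7461
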