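import Groth.Prelude.Def_HTop
import Groth.Agent.HTop16.PhCover

set_option autoImplicit false
universe w u
namespace HTop
end HTop
open HTop

namespace Groth.Agent.S7479

open CategoryTheory CategoryTheory.Limits AlgebraicGeometry in
/-- Let T be an affine scheme. (1) For every open covering of T there is a standard ph covering of T
that refines it. (2) If E is a standard ph covering of T and, for each member U_j of E, F_j is a
standard ph covering of U_j, then some standard ph covering of T refines the composite family of all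
W_ji -> T. -/
theorem result {T : Scheme.{u}} [IsAffine T] : (∀ 𝒰 : T.OpenCover, ∃ F : PreZeroHypercover.{0} T, HTop.IsStandardPh F ∧ Nonempty (F.Hom 𝒰.toPreZeroHypercover)) ∧ (∀ (E : PreZeroHypercover.{w} T), HTop.IsStandardPh E → ∀ F : ∀ j, PreZeroHypercover.{w} (E.X j), (∀ j, HTop.IsStandardPh (F j)) → ∃ F' : PreZeroHypercover.{0} T, HTop.IsStandardPh F' ∧ Nonempty (F'.Hom (E.bind F))) := by
  refine ⟨fun 𝒰 => ?_, fun E hE F hF => HTop16.PhComp.exists_standardPh_bind hE hF⟩
  obtain ⟨n, a, P, hP, hG⟩ := HTop16.PhComp.exists_standardPh_openCover (T := T)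
    (fun i : 𝒰.I₀ => (𝒰.f i).opensRange) fun t => ⟨_, 𝒰.covers t⟩
  refine ⟨_, hG, ⟨{ s₀ := a, h₀ := fun m => T.homOfLE (hP m) ≫ (𝒰.f (a m)).isoOpensRange.inv, w₀ := fun m => ?_ }⟩⟩
  change (T.homOfLE (hP m) ≫ (𝒰.f (a m)).isoOpensRange.inv) ≫ 𝒰.f (a m) = (P m).ι
  rw [Category.assoc, Scheme.Hom.isoOpensRange_inv_comp, Scheme.homOfLE_ι]

end Groth.Agent.S7479
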