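import Groth.Statements.S7485
import Groth.Agent.Desc19b.EffFinLocFree
import Groth.Agent.AmpleLib.Ample

set_option autoImplicit false
open CategoryTheory CategoryTheory.Limits AlgebraicGeometry
universe u
open Desc

set_option backward.isDefEq.respectTransparency.types false
set_option backward.isDefEq.respectTransparency false

namespace Groth.Agent.S7485


/-- Let p : X -> Y be a surjective finite locally free morphism and V a scheme over X which has an ample
invertible module. Then every descent datum on V relative to p is effective. (Descent data are taken
in functor-of-points form.) -/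
theorem result {X Y : Scheme.{u}} (p : X ⟶ Y) [Surjective p] [IsFinite p] [Flat p] [LocallyOfFinitePresentation p] (D : Desc.SchDD p) (L : D.obj.left.Modules) (hL : CohB1.IsAmple L) : ∃ W : Over Y, Nonempty ((Desc.toDD p).obj W ≅ D) := by
  refine Groth.Agent.Desc19b.EffFinLocFree.schDD_effective_of_finite_in_affine p D fun y s _ => ?_
  obtain ⟨m, -, b, hb, -, haff⟩ := Groth.Agent.AmpleLib.exists_affine_glocus_finite (U := ⊤) hL (↑s) s.finite_toSet (by simp)
  exact ⟨_, haff, fun v hv => hb hv⟩

end Groth.Agent.S7485
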