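import Groth.Statements.S7488
import Groth.Agent.GrpdLib.QuotientScheme
import Groth.Agent.GrpdLib.FppfQuot

set_option autoImplicit false
universe u
open CategoryTheory CategoryTheory.Limits AlgebraicGeometry
open Grpd

namespace Groth.Agent.S7488

/-- Let (U, R, s, t, c) be a groupoid scheme over S with U and R affine, s and t finite locally free,
and j = (t, s) : R -> U x_S U a monomorphism. Let C be the ring of R-invariant functions on U and M
= Spec C. Then the structure morphism U -> S factors uniquely through U -> M, and for the resulting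
structure of scheme over S on M, the morphism U -> M represents the quotient sheaf U/R in the fppf
topology: it coequalizes s and t and the induced map from the coequalizer of h_R => h_U (sheaves of
sets on the big fppf site of S) to h_M is an isomorphism. (The published statement also asserts that
U -> M is finite locally free and that R = U x_M U; this row states only the quotient-sheaf clause.)
(A groupoid scheme carries U, R, s, t, c, e, i over S with the groupoid axioms on T-points; c is
defined on the fibre product of s and t and sends a pair (a, b) with s(a) = t(b) to a composed with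
b.) -/
theorem result (S : Scheme.{u}) (G : Grpd.GroupoidScheme S) [IsAffine G.U] [IsAffine G.R] [IsFinite G.s] [Flat G.s] [LocallyOfFinitePresentation G.s] [IsFinite G.t] [Flat G.t] [LocallyOfFinitePresentation G.t] [Mono G.j] : ∃! m : Spec (CommRingCat.of G.invariants) ⟶ S, ∃ h : G.toQuot ≫ m = G.pU, QuotSh.IsQuotient Scheme.fppfPrecoverage (Over.homMk G.s G.s_over : Over.mk G.pR ⟶ Over.mk G.pU) (Over.homMk G.t G.t_over : Over.mk G.pR ⟶ Over.mk G.pU) (Over.homMk G.toQuot h : Over.mk G.pU ⟶ Over.mk m) := by
  obtain ⟨⟨h1, h2, h3⟩, φ, hφt, hφs⟩ := Groth.Agent.GrpdLib.finite_flat_quotient_scheme G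
  have : Surjective G.toQuot := ⟨(Groth.Agent.GrpdLib.toQuot_surjective_and_fibres G).1.1⟩
  have sqR : IsPullback G.t G.s G.toQuot G.toQuot :=
    IsPullback.of_iso_pullback ⟨by rw [← hφt, ← hφs, Category.assoc, Category.assoc, pullback.condition]⟩ φ hφt hφs
  have hdesc : ∀ {W : Scheme.{u}} (g₁ g₂ : W ⟶ G.U), g₁ ≫ G.toQuot = g₂ ≫ G.toQuot → g₁ ≫ G.pU = g₂ ≫ G.pU := by
    intro W g₁ g₂ h
    obtain ⟨l, rfl, rfl⟩ := sqR.exists_lift g₁ g₂ h
    rw [Category.assoc, Category.assoc, G.t_over, G.s_over]
  let m := EffectiveEpi.desc G.toQuot G.pU hdesc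
  have hm : G.toQuot ≫ m = G.pU := EffectiveEpi.fac _ _ _
  refine ⟨m, ⟨hm, ?_⟩, fun m' ⟨hm', _⟩ => ?_⟩
  · let q : Over.mk G.pU ⟶ Over.mk m := Over.homMk G.toQuot hm
    have : Flat q.left := h2
    have : LocallyOfFinitePresentation q.left := h3
    have : Surjective q.left := ‹Surjective G.toQuot›
    exact Groth.Agent.GrpdLib.isQuotient_of_isPullback _ _ q (IsPullback.of_map (Over.forget S)
      (by ext1; exact sqR.w) sqR)
  · rw [← cancel_epi G.toQuot, hm, hm']

end Groth.Agent.S7488
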