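import Groth.Statements.S7490
import Groth.Agent.GrpdLib.EpiQuot

set_option autoImplicit false
open CategoryTheory CategoryTheory.Limits AlgebraicGeometry
universe u
open QuotSh

namespace Groth.Agent.S7490

/-- Let K be a precoverage on schemes (the topology τ), S a scheme, s, t : R -> U morphisms of schemes
over S (a pre-relation) and q : U -> M a morphism over S such that (1) q coequalizes s and t, (2)
the induced map of τ-sheaves h_U -> h_M is an epimorphism, and (3) the map h_R -> h_(U x_M U)
induced by (t, s) is an epimorphism of τ-sheaves. Then M, through q, represents the quotient sheaf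
U/R: the canonical map from the coequalizer of h_s, h_t to h_M is an isomorphism. (The published
statement takes τ to be the Zariski, étale, fppf, smooth or syntomic topology; this row allows the
topology generated by any precoverage K.) -/
theorem result (K : Precoverage Scheme.{u}) {S : Scheme.{u}} {R U M : Over S} (s t : R ⟶ U) (q : U ⟶ M) (w : s ≫ q = t ≫ q) (w' : t.left ≫ q.left = s.left ≫ q.left) (h₂ : Epi (QuotSh.repMap K q)) (h₃ : Epi (QuotSh.repMap K (Over.homMk (pullback.lift t.left s.left w') (((Category.assoc _ _ _).symm.trans (congrArg (fun k => k ≫ U.hom) (pullback.lift_fst t.left s.left w'))).trans (Over.w t)) : R ⟶ Over.mk (pullback.fst q.left q.left ≫ U.hom)))) : QuotSh.IsQuotient K s t q := by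
  have hw : pullback.fst q.left q.left ≫ U.hom = pullback.snd q.left q.left ≫ U.hom := by
    rw [← Over.w q, ← Category.assoc, pullback.condition, Category.assoc]
  let P : Over S := Over.mk (pullback.fst q.left q.left ≫ U.hom)
  let a : P ⟶ U := Over.homMk (pullback.fst q.left q.left) rfl
  let b : P ⟶ U := Over.homMk (pullback.snd q.left q.left) hw.symm
  have sq : IsPullback a b q q :=
    IsPullback.of_map (Over.forget S) (Over.OverMorphism.ext pullback.condition) (IsPullback.of_hasPullback q.left q.left)
  exact Groth.Agent.GrpdLib.EpiQuot.isQuotient_of_epi s t q w sq _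
    (Over.OverMorphism.ext (pullback.lift_fst _ _ _)) (Over.OverMorphism.ext (pullback.lift_snd _ _ _)) h₂ h₃

end Groth.Agent.S7490
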