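import Groth.Statements.S7493
import Mathlib.FieldTheory.IsAlgClosed.Classification
import Mathlib.AlgebraicGeometry.ResidueField
import Mathlib.FieldTheory.IsAlgClosed.AlgebraicClosure

set_option autoImplicit false
universe u
open CategoryTheory CategoryTheory.Limits AlgebraicGeometry
open Grpd

namespace Groth.Agent.S7493

open Cardinal

/-- Two embeddings of a small field into a big algebraically closed field are conjugate. -/
theorem exists_equiv_comp {k K L : Type u} [Field k] [Field K] [Field L] [IsAlgClosed K] [IsAlgClosed L]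
    [Algebra k K] [Algebra k L] (hKL : #K = #L) (hk : #k < #K) (h0 : ℵ₀ < #K) :
    ∃ τ : K ≃+* L, τ.toRingHom.comp (algebraMap k K) = algebraMap k L := by
  obtain ⟨s, hs⟩ := exists_isTranscendenceBasis k K
  obtain ⟨t, ht⟩ := exists_isTranscendenceBasis k L
  have hs' : #K = #s := le_antisymm (by
    have h := IsAlgClosed.cardinal_le_max_transcendence_basis' _ hs
    rcases le_max_iff.1 h with h | h
    · rcases le_max_iff.1 h with h | h
      · exact absurd h (not_le_of_gt hk)
      · exact h
    · exact absurd h (not_le_of_gt h0)) (mk_le_of_injective hs.1.injective)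
  have ht' : #L = #t := le_antisymm (by
    have h := IsAlgClosed.cardinal_le_max_transcendence_basis' _ ht
    rcases le_max_iff.1 h with h | h
    · rcases le_max_iff.1 h with h | h
      · exact absurd h (not_le_of_gt (hKL ▸ hk))
      · exact h
    · exact absurd h (not_le_of_gt (hKL ▸ h0))) (mk_le_of_injective ht.1.injective)
  obtain ⟨e⟩ := Cardinal.eq.1 (hs'.symm.trans (hKL.trans ht'))
  letI := IsAlgClosed.isAlgClosure_of_transcendence_basis _ hs
  letI := IsAlgClosed.isAlgClosure_of_transcendence_basis _ ht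
  let e₀ : Algebra.adjoin k (Set.range ((↑) : s → K)) ≃ₐ[k] Algebra.adjoin k (Set.range ((↑) : t → L)) :=
    hs.1.aevalEquiv.symm.trans ((MvPolynomial.renameEquiv k e).trans ht.1.aevalEquiv)
  refine ⟨IsAlgClosure.equivOfEquiv K L e₀.toRingEquiv, RingHom.ext fun c => ?_⟩
  have h := IsAlgClosure.equivOfEquiv_algebraMap K L e₀.toRingEquiv (algebraMap k _ c)
  rw [← IsScalarTower.algebraMap_apply] at h
  refine h.trans ?_
  rw [AlgEquiv.toRingEquiv_eq_coe, AlgEquiv.coe_ringEquiv, AlgEquiv.commutes, ← IsScalarTower.algebraMap_apply]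

theorem isIso_residueFieldMap_of_isIso_comp {K L : Type u} [Field K] [Field L] {X : Scheme.{u}}
    (q : Spec (CommRingCat.of K) ⟶ X) (f : X ⟶ Spec (CommRingCat.of L)) [IsIso (q ≫ f)]
    (x : Spec (CommRingCat.of K)) : IsIso (f.residueFieldMap (q x)) := by
  haveI hc : IsIso ((q ≫ f).residueFieldMap x) := inferInstance
  rw [Scheme.residueFieldMap_comp] at hc
  haveI : IsIso (q.residueFieldMap x) := by
    rw [ConcreteCategory.isIso_iff_bijective]
    refine ⟨(q.residueFieldMap x).hom.injective, fun y => ?_⟩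
    obtain ⟨z, hz⟩ := ((ConcreteCategory.isIso_iff_bijective _).1 hc).2 y
    exact ⟨_, hz⟩
  have hc' : IsIso (f.residueFieldMap (q x) ≫ q.residueFieldMap x) := hc
  exact @IsIso.of_isIso_comp_right _ _ _ _ _ (f.residueFieldMap (q x)) (q.residueFieldMap x) _ hc'

/-- Let (U, R, s, t, c) be a groupoid scheme over S with U = Spec k for a field k, and let r be a point
of R. Then there exist a field extension k -> k' with k' algebraically closed and a point r' of the
restriction R' of R along g : U' = Spec k' -> U, that is R' = (U' x_(g,U,t) R) x_(s pr, U, g) U'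
with t' the projection to the first factor U' and s' the projection to the last factor U', such that
r' maps to r under R' -> R and both s' and t' induce isomorphisms on residue fields at r' (k' ->
κ(r') bijective). (A groupoid scheme carries U, R, s, t, c, e, i over S with the groupoid axioms on
T-points; c is defined on the fibre product of s and t and sends a pair (a, b) with s(a) = t(b) to a
composed with b.) -/
theorem result (S : Scheme.{u}) (G : Grpd.GroupoidScheme S) (k : Type u) [Field k] (eU : G.U ≅ Spec (CommRingCat.of k)) (r : G.R) : ∃ (k' : Type u) (_ : Field k') (_ : IsAlgClosed k') (_ : Algebra k k'), ∃ r' : ↑(pullback (pullback.snd (Spec.map (CommRingCat.ofHom (algebraMap k k')) ≫ eU.inv) G.t ≫ G.s) (Spec.map (CommRingCat.ofHom (algebraMap k k')) ≫ eU.inv)), (pullback.fst (pullback.snd (Spec.map (CommRingCat.ofHom (algebraMap k k')) ≫ eU.inv) G.t ≫ G.s) (Spec.map (CommRingCat.ofHom (algebraMap k k')) ≫ eU.inv) ≫ pullback.snd (Spec.map (CommRingCat.ofHom (algebraMap k k')) ≫ eU.inv) G.t) r' = r ∧ IsIso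 ((pullback.snd (pullback.snd (Spec.map (CommRingCat.ofHom (algebraMap k k')) ≫ eU.inv) G.t ≫ G.s) (Spec.map (CommRingCat.ofHom (algebraMap k k')) ≫ eU.inv)).residueFieldMap r') ∧ IsIso ((pullback.fst (pullback.snd (Spec.map (CommRingCat.ofHom (algebraMap k k')) ≫ eU.inv) G.t ≫ G.s) (Spec.map (CommRingCat.ofHom (algebraMap k k')) ≫ eU.inv) ≫ pullback.fst (Spec.map (CommRingCat.ofHom (algebraMap k k')) ≫ eU.inv) G.t).residueFieldMap r') := by
  let κ := G.R.residueField r
  let ι : Type u := Set (κ ⊕ k ⊕ ULift.{u} ℕ)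
  let F := FractionRing (MvPolynomial ι κ)
  let k' := AlgebraicClosure F
  have hι : #(κ ⊕ k ⊕ ULift.{u} ℕ) < #k' := by
    refine (Cardinal.cantor _).trans_le ?_
    rw [← Cardinal.mk_set]
    refine mk_le_of_injective (f := fun i : ι => algebraMap F k' (algebraMap (MvPolynomial ι κ) F (MvPolynomial.X i))) ?_
    exact fun a b h => MvPolynomial.X_injective (IsFractionRing.injective (MvPolynomial ι κ) F ((algebraMap F k').injective h))
  have hk : #k < #k' := lt_of_le_of_lt (mk_le_of_injective (f := fun a : k => (Sum.inr (Sum.inl a) : κ ⊕ k ⊕ ULift.{u} ℕ))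
    (fun a b h => by simpa using h)) hι
  have h0 : ℵ₀ < #k' := lt_of_le_of_lt (by
    have : Infinite (κ ⊕ k ⊕ ULift.{u} ℕ) := inferInstance
    exact aleph0_le_mk _) hι
  let φ : κ →+* k' := (algebraMap F k').comp ((algebraMap (MvPolynomial ι κ) F).comp MvPolynomial.C)
  let p : Spec (CommRingCat.of k') ⟶ G.R := Spec.map (CommRingCat.ofHom φ) ≫ G.R.fromSpecResidueField r
  let a : CommRingCat.of k ⟶ CommRingCat.of k' := Spec.preimage (p ≫ G.t ≫ eU.hom)
  let b : CommRingCat.of k ⟶ CommRingCat.of k' := Spec.preimage (p ≫ G.s ≫ eU.hom)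
  letI : Algebra k k' := a.hom.toAlgebra
  obtain ⟨τ, hτ⟩ : ∃ τ : k' ≃+* k', τ.toRingHom.comp a.hom = b.hom :=
    @exists_equiv_comp k k' k' _ _ _ _ _ a.hom.toAlgebra b.hom.toAlgebra rfl hk h0
  set g := Spec.map (CommRingCat.ofHom (algebraMap k k')) ≫ eU.inv with hg
  have hga : g = p ≫ G.t := by
    rw [hg, show CommRingCat.ofHom (algebraMap k k') = a from rfl, Spec.map_preimage]
    simp
  let T : Spec (CommRingCat.of k') ⟶ Spec (CommRingCat.of k') := Spec.map (CommRingCat.ofHom τ.toRingHom)
  haveI : IsIso T := by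
    haveI : IsIso (CommRingCat.ofHom τ.toRingHom) :=
      (ConcreteCategory.isIso_iff_bijective _).2 τ.bijective
    exact inferInstanceAs (IsIso (Spec.map (CommRingCat.ofHom τ.toRingHom)))
  have hgb : T ≫ g = p ≫ G.s := by
    have hb : CommRingCat.ofHom (algebraMap k k') ≫ CommRingCat.ofHom τ.toRingHom = b := CommRingCat.hom_ext hτ
    rw [hg, ← Category.assoc, show T = Spec.map (CommRingCat.ofHom τ.toRingHom) from rfl, ← Spec.map_comp, hb,
      Spec.map_preimage]
    simp
  let l₁ : Spec (CommRingCat.of k') ⟶ pullback g G.t :=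
    pullback.lift (𝟙 _) p (by rw [Category.id_comp, hga])
  let q : Spec (CommRingCat.of k') ⟶ pullback (pullback.snd g G.t ≫ G.s) g :=
    pullback.lift l₁ T (by rw [← Category.assoc, pullback.lift_snd, hgb])
  obtain ⟨pt⟩ : Nonempty (Spec (CommRingCat.of k')) := ⟨IsLocalRing.closedPoint k'⟩
  refine ⟨k', inferInstance, inferInstance, a.hom.toAlgebra, q pt, ?_, ?_, ?_⟩
  · have h : q ≫ pullback.fst (pullback.snd g G.t ≫ G.s) g ≫ pullback.snd g G.t = p := by
      rw [← Category.assoc, pullback.lift_fst, pullback.lift_snd]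
    refine ((Scheme.Hom.comp_apply q _ pt).symm.trans (congrArg (fun ψ : _ ⟶ G.R => ψ pt) h)).trans ?_
    exact (Scheme.Hom.comp_apply _ _ pt).trans (Scheme.fromSpecResidueField_apply r _)
  · haveI : IsIso (q ≫ pullback.snd (pullback.snd g G.t ≫ G.s) g) := by
      rw [pullback.lift_snd]; infer_instance
    exact isIso_residueFieldMap_of_isIso_comp q _ pt
  · haveI : IsIso (q ≫ pullback.fst (pullback.snd g G.t ≫ G.s) g ≫ pullback.fst g G.t) := by
      rw [← Category.assoc, pullback.lift_fst, pullback.lift_fst]; infer_instance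
    exact isIso_residueFieldMap_of_isIso_comp q _ pt

end Groth.Agent.S7493
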