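import Groth.Statements.S7494
import Groth.Agent.AlgGrpLib.ActionShear

set_option autoImplicit false
universe u
open CategoryTheory MonoidalCategory CartesianMonoidalCategory MonObj GrpObj AlgebraicGeometry
open AlgGrp

namespace Groth.Agent.S7494
open Groth.Agent.AlgGrpLib

/-- Let G be a group scheme over S acting on a scheme X over S by a. The action is free, meaning that
for every scheme T over S and all T-points g of G and x of X with g · x = x one has g = 1, if and
only if the morphism G x_S X -> X x_S X, (g, x) ↦ (a(g, x), x), is a monomorphism of schemes. -/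
theorem result {S : Scheme.{u}} (G X : Over S) [GrpObj G] (a : AlgGrp.Action G X) : (∀ (T : Over S) (g : T ⟶ G) (x : T ⟶ X), lift g x ≫ a.act = x → g = toUnit T ≫ η[G]) ↔ Mono (lift a.act (snd G X)).left := by
  constructor
  · intro h
    haveI : Mono (lift a.act (snd G X)) := ⟨fun {T} p q hpq => by
      have h1 := congrArg (· ≫ fst X X) hpq
      have h2 := congrArg (· ≫ snd X X) hpq
      simp only [Category.assoc, lift_fst, lift_snd] at h1 h2
      have e1 : lift (p ≫ fst G X) (q ≫ snd G X) ≫ a.act = lift (q ≫ fst G X) (q ≫ snd G X) ≫ a.act := by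
        conv_lhs => rw [← h2]
        simp only [← comp_lift, lift_fst_snd, Category.comp_id]
        exact h1
      have e2 : lift ((q ≫ fst G X)⁻¹ * (p ≫ fst G X)) (q ≫ snd G X) ≫ a.act = q ≫ snd G X := by
        rw [← act_act, e1, act_act, inv_mul_cancel, one_act']
      have e3 := h T _ _ e2
      rw [← Hom.one_def, inv_mul_eq_one] at e3
      exact CartesianMonoidalCategory.hom_ext _ _ e3.symm h2⟩
    constructor
    intro W g g' hgg
    let T : Over S := Over.mk (g ≫ (G ⊗ X).hom)
    let p : T ⟶ G ⊗ X := Over.homMk g rfl
    let q : T ⟶ G ⊗ X := Over.homMk g' (by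
      change g' ≫ (G ⊗ X).hom = g ≫ (G ⊗ X).hom
      rw [← Over.w (lift a.act (snd G X)), ← Category.assoc, ← hgg, Category.assoc])
    exact congrArg CommaMorphism.left
      ((cancel_mono (lift a.act (snd G X))).1 (Over.OverMorphism.ext hgg : p ≫ _ = q ≫ _))
  · intro hm T g x hgx
    haveI := hm
    haveI : Mono (lift a.act (snd G X)) := Over.mono_of_mono_left _
    have h1 : lift g x ≫ lift a.act (snd G X) = lift (1 : T ⟶ G) x ≫ lift a.act (snd G X) := by
      rw [comp_lift, comp_lift, lift_snd, lift_snd, hgx, one_act']
    have h2 := congrArg (· ≫ fst G X) ((cancel_mono (lift a.act (snd G X))).1 h1)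
    simp only [lift_fst] at h2
    rw [← Hom.one_def]
    exact h2

end Groth.Agent.S7494
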