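import Mathlib.AlgebraicGeometry.Cover.QuasiCompact
import Mathlib.AlgebraicGeometry.Morphisms.QuasiSeparated
import Groth.Prelude.Def_HTop
import Mathlib.AlgebraicGeometry.Morphisms.QuasiSeparated

set_option autoImplicit false
universe w u
namespace CategoryTheory
end CategoryTheory
namespace CategoryTheory.Limits
end CategoryTheory.Limits
namespace AlgebraicGeometry
end AlgebraicGeometry
open CategoryTheory CategoryTheory.Limits AlgebraicGeometry
namespace HTop
end HTop
open HTop

namespace Groth.Agent.S7496

/-- Let T be a quasi-separated scheme and {f_i : T_i -> T} a family of morphisms. Then every affine open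
of T is the union of the images of finitely many quasi-compact opens of the T_i (the
quasi-compactness condition in the definition of an fpqc covering) if and only if for every point t
of T there are finitely many quasi-compact opens U_j of members T_(i_j) such that the union of the
f_(i_j)(U_j) is a neighbourhood of t. (The published statement also asks every f_i to be flat, on
both sides, and lists two more equivalent forms of the quasi-compactness condition; this row omits
flatness, which plays no part in the equivalence, and states only the equivalence of the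
quasi-compactness condition with the neighbourhood condition.) -/
theorem result {T : Scheme.{u}} [QuasiSeparatedSpace T] (E : PreZeroHypercover.{w} T) : QuasiCompactCover E ↔ ∀ t : T, ∃ (n : ℕ) (i : Fin n → E.I₀) (V : ∀ j, (E.X (i j)).Opens), (∀ j, IsCompact (V j : Set (E.X (i j)))) ∧ (⋃ j, ⇑(E.f (i j)) '' (V j : Set (E.X (i j)))) ∈ nhds t := by
  refine ⟨fun h t => ?_, fun h => ⟨fun {U} hU => ?_⟩⟩
  · obtain ⟨_, ⟨U, hU, rfl⟩, htU, -⟩ :=
      T.isBasis_affineOpens.exists_subset_of_mem_open (Set.mem_univ t) isOpen_univ
    obtain ⟨n, i, V, hV, he⟩ := QuasiCompactCover.exists_isAffineOpen_of_isCompact E (U := U) hU.isCompact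
    exact ⟨n, i, V, fun j => (hV j).isCompact, he ▸ U.isOpen.mem_nhds htU⟩
  · refine IsCompactOpenCovered.of_isCompact_of_forall_exists_isCompactOpenCovered hU.isCompact fun t ht => ?_
    obtain ⟨n, i, V, hV, hn⟩ := h t
    obtain ⟨_, ⟨W, hW, rfl⟩, htW, hWn⟩ := T.isBasis_affineOpens.exists_subset_of_mem_open
      (show t ∈ (U : Set T) ∩ interior (⋃ j, ⇑(E.f (i j)) '' (V j : Set (E.X (i j)))) from
        ⟨ht, mem_interior_iff_mem_nhds.2 hn⟩) (U.isOpen.inter isOpen_interior)
    refine ⟨W, fun x hx => (hWn hx).1, htW, W.2,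
      IsCompactOpenCovered.of_finite i (fun j => V j ⊓ E.f (i j) ⁻¹ᵁ W) (fun j => ?_) ?_⟩
    · haveI : CompactSpace (V j : Scheme.{u}) := isCompact_iff_compactSpace.1 (hV j)
      haveI : QuasiCompact ((V j).ι ≫ E.f (i j)) := inferInstance
      have hc := ((V j).ι ≫ E.f (i j)).isCompact_preimage hW.isCompact
      have he : ((V j ⊓ E.f (i j) ⁻¹ᵁ W : (E.X (i j)).Opens) : Set (E.X (i j))) =
          (V j).ι '' (↑(((V j).ι ≫ E.f (i j)) ⁻¹ᵁ W) : Set (V j : Scheme.{u})) := by
        ext x
        constructor
        · rintro ⟨h₁, h₂⟩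
          exact ⟨⟨x, h₁⟩, h₂, rfl⟩
        · rintro ⟨y, hy, rfl⟩
          exact ⟨y.2, hy⟩
      change IsCompact ((V j ⊓ E.f (i j) ⁻¹ᵁ W : (E.X (i j)).Opens) : Set (E.X (i j)))
      rw [he]
      exact hc.image (V j).ι.continuous
    · ext x
      simp only [Set.mem_iUnion]
      constructor
      · rintro ⟨j, y, hy, rfl⟩
        exact hy.2
      · intro hx
        obtain ⟨j, y, hy, rfl⟩ := Set.mem_iUnion.1 (interior_subset (hWn hx).2)
        exact ⟨j, y, ⟨hy, hx⟩, rfl⟩

end Groth.Agent.S7496
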