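import Mathlib.AlgebraicGeometry.Sites.Fpqc
import Groth.Prelude.Def_HTop
import Groth.Agent.HTop16.QcBind

set_option autoImplicit false
universe u
namespace CategoryTheory
end CategoryTheory
namespace CategoryTheory.Limits
end CategoryTheory.Limits
namespace AlgebraicGeometry
end AlgebraicGeometry
open CategoryTheory CategoryTheory.Limits AlgebraicGeometry
namespace HTop
end HTop
open HTop

namespace Groth.Agent.S7497

/-- Let {f_i : T_i -> T} be a family of flat morphisms of schemes and {g_j : S_j -> T} an fpqc covering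
such that for every j the family of base changes {S_j x_T T_i -> S_j} is an fpqc covering. Then {f_i
: T_i -> T} is an fpqc covering. (fpqc coverings are Mathlib's: flat, jointly surjective, every
affine open of the target covered by images of finitely many quasi-compact opens.) -/
theorem result {T : Scheme.{u}} (E : PreZeroHypercover.{u} T) (hflat : ∀ i, Flat (E.f i)) (𝒱 : Scheme.Cover Scheme.fpqcPrecoverage T) (hloc : ∀ j, (E.pullback₁ (𝒱.f j)).presieve₀ ∈ Scheme.fpqcPrecoverage (𝒱.X j)) : E.presieve₀ ∈ Scheme.fpqcPrecoverage T := by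
  haveI : QuasiCompactCover 𝒱.toPreZeroHypercover := Scheme.presieve₀_mem_qcPrecoverage_iff.1 𝒱.mem₀.1
  haveI : ∀ j, QuasiCompactCover (E.pullback₁ (𝒱.f j)) := fun j => Scheme.presieve₀_mem_qcPrecoverage_iff.1 (hloc j).1
  let B := 𝒱.toPreZeroHypercover.bind fun j => E.pullback₁ (𝒱.f j)
  haveI : QuasiCompactCover B := by
    exact HTop16.QcBind.quasiCompactCover_bind _ _ fun _ => inferInstance
  let e : B.Hom E :=
    { s₀ := fun ji => ji.2
      h₀ := fun ji => pullback.snd (𝒱.f ji.1) (E.f ji.2)
      w₀ := fun ji => pullback.condition.symm }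
  refine ⟨Scheme.presieve₀_mem_qcPrecoverage_iff.2 (QuasiCompactCover.of_hom (𝒱 := B) e),
    (Scheme.presieve₀_mem_precoverage_iff E).2 ⟨fun t => ?_, hflat⟩⟩
  obtain ⟨j, x, rfl⟩ := ((Scheme.presieve₀_mem_precoverage_iff _).1 𝒱.mem₀.2).1 t
  obtain ⟨i, y, hy⟩ := ((Scheme.presieve₀_mem_precoverage_iff _).1 (hloc j).2).1 x
  refine ⟨i, pullback.snd (𝒱.f j) (E.f i) y, ?_⟩
  change (pullback.snd (𝒱.f j) (E.f i) ≫ E.f i) y = _
  rw [← pullback.condition, Scheme.Hom.comp_apply]
  exact congrArg (fun z => 𝒱.f j z) hy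

end Groth.Agent.S7497
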