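import Groth.Statements.S7498
import Groth.Agent.GrpdLib.Orbits

set_option autoImplicit false
universe u
open CategoryTheory CategoryTheory.Limits AlgebraicGeometry
open Grpd

namespace Groth.Agent.S7498

/-- Let (U, R, s, t, c) be a groupoid scheme over S and r, r' points of R with t(r) = t(r'); put u =
s(r), u' = s(r') and let F_u, F_u' be the scheme-theoretic fibres of s. Then there are a field k
which is a common extension of κ(u) and κ(u') (morphisms a, b : Spec k -> U with images u, u') and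
an isomorphism of the base changes (F_u)_k and (F_u')_k over Spec k, which moreover can be chosen to
send some point lying over r to a point lying over r'. (The published statement also compares the
germs of s at r and at r' when s and t are flat or flat of finite presentation; this row omits
that.) (A groupoid scheme carries U, R, s, t, c, e, i over S with the groupoid axioms on T-points; c
is defined on the fibre product of s and t and sends a pair (a, b) with s(a) = t(b) to a composed
with b.) -/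
theorem result (S : Scheme.{u}) (G : Grpd.GroupoidScheme S) (r r' : G.R) (h : G.t r = G.t r') : ∃ (k : Type u) (_ : Field k) (a b : Spec (CommRingCat.of k) ⟶ G.U) (φ : pullback G.s a ≅ pullback G.s b) (p : ↑(pullback G.s a)), a (IsLocalRing.closedPoint k) = G.s r ∧ b (IsLocalRing.closedPoint k) = G.s r' ∧ φ.hom ≫ pullback.snd G.s b = pullback.snd G.s a ∧ pullback.fst G.s a p = r ∧ pullback.fst G.s b (φ.hom p) = r' := by
  obtain ⟨z, hz₁, hz₂⟩ := Scheme.Pullback.exists_preimage_pullback (f := G.t) (g := G.t) r r' h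
  let W := pullback G.t G.t
  let K := AlgebraicClosure (W.residueField z)
  obtain ⟨q, hq⟩ : ∃ q : Spec (CommRingCat.of K) ⟶ W, q (IsLocalRing.closedPoint K) = z :=
    ⟨Spec.map (CommRingCat.ofHom (algebraMap (W.residueField z) K)) ≫ W.fromSpecResidueField z,
      (W.range_fromSpecResidueField z).le ⟨_, rfl⟩⟩
  let α := q ≫ pullback.fst G.t G.t
  let β := q ≫ pullback.snd G.t G.t
  have hαβ : α ≫ G.t = β ≫ G.t := by simp only [α, β, Category.assoc, pullback.condition]
  have hρ : (α ≫ G.i) ≫ G.s = β ≫ G.t := by rw [GrpdLib.i_comp_s, hαβ]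
  let ρ := GrpdLib.cmp G (α ≫ G.i) β hρ
  have hρs : ρ ≫ G.s = β ≫ G.s := GrpdLib.cmp_s G _ _ _
  have hρt : ρ ≫ G.t = α ≫ G.s := (GrpdLib.cmp_t G _ _ _).trans (GrpdLib.i_comp_t G α)
  let a := α ≫ G.s
  let b := β ≫ G.s
  have h₁ : pullback.fst G.s a ≫ G.s = (pullback.snd G.s a ≫ ρ) ≫ G.t := by
    rw [pullback.condition, Category.assoc, hρt]
  have h₂ : pullback.fst G.s b ≫ G.s = (pullback.snd G.s b ≫ ρ ≫ G.i) ≫ G.t := by
    rw [pullback.condition, Category.assoc, GrpdLib.i_comp_t, hρs]
  let F : pullback G.s a ⟶ pullback G.s b := pullback.lift (GrpdLib.cmp G _ _ h₁) (pullback.snd G.s a) (by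
    rw [GrpdLib.cmp_s, Category.assoc, hρs])
  let F' : pullback G.s b ⟶ pullback G.s a := pullback.lift (GrpdLib.cmp G _ _ h₂) (pullback.snd G.s b) (by
    rw [GrpdLib.cmp_s, Category.assoc, GrpdLib.i_comp_s, hρt])
  have hF₁ : F ≫ pullback.fst G.s b = GrpdLib.cmp G _ _ h₁ := pullback.lift_fst _ _ _
  have hF₂ : F ≫ pullback.snd G.s b = pullback.snd G.s a := pullback.lift_snd _ _ _
  have hF₁' : F' ≫ pullback.fst G.s a = GrpdLib.cmp G _ _ h₂ := pullback.lift_fst _ _ _
  have hF₂' : F' ≫ pullback.snd G.s a = pullback.snd G.s b := pullback.lift_snd _ _ _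
  have e1 : F ≫ F' = 𝟙 _ := by
    apply pullback.hom_ext
    · rw [Category.assoc, hF₁', Category.id_comp, GrpdLib.comp_cmp]
      refine (GrpdLib.cmp_congr G hF₁ (show F ≫ pullback.snd G.s b ≫ ρ ≫ G.i = (pullback.snd G.s a ≫ ρ) ≫ G.i by
        rw [reassoc_of% hF₂, Category.assoc]) _ ?_).trans
        (GrpdLib.cmp_cmp_inv_right G (pullback.snd G.s a ≫ ρ) (pullback.fst G.s a) h₁ ?_)
      · rw [GrpdLib.cmp_s, GrpdLib.i_comp_t]
      · rw [GrpdLib.cmp_s, GrpdLib.i_comp_t]
    · rw [Category.assoc, hF₂', hF₂, Category.id_comp]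
  have e2 : F' ≫ F = 𝟙 _ := by
    apply pullback.hom_ext
    · rw [Category.assoc, hF₁, Category.id_comp, GrpdLib.comp_cmp]
      refine (GrpdLib.cmp_congr G hF₁' (show F' ≫ pullback.snd G.s a ≫ ρ = (pullback.snd G.s b ≫ ρ ≫ G.i) ≫ G.i by
        rw [reassoc_of% hF₂']
        simp only [Category.assoc, GrpdLib.i_comp_i, Category.comp_id]) _ ?_).trans
        (GrpdLib.cmp_cmp_inv_right G (pullback.snd G.s b ≫ ρ ≫ G.i) (pullback.fst G.s b) h₂ ?_)
      · rw [GrpdLib.cmp_s, GrpdLib.i_comp_t]
      · rw [GrpdLib.cmp_s, GrpdLib.i_comp_t]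
    · rw [Category.assoc, hF₂, hF₂', Category.id_comp]
  let σ : Spec (CommRingCat.of K) ⟶ pullback G.s a := pullback.lift α (𝟙 _) (Category.id_comp _).symm
  refine ⟨K, inferInstance, a, b, ⟨F, F', e1, e2⟩, σ (IsLocalRing.closedPoint K), ?_, ?_, hF₂, ?_, ?_⟩
  · show G.s (pullback.fst G.t G.t (q _)) = G.s r
    rw [hq, hz₁]
  · show G.s (pullback.snd G.t G.t (q _)) = G.s r'
    rw [hq, hz₂]
  · show (σ ≫ pullback.fst G.s a) (IsLocalRing.closedPoint K) = r
    rw [show σ ≫ pullback.fst G.s a = α from pullback.lift_fst _ _ _]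
    show pullback.fst G.t G.t (q _) = r
    rw [hq, hz₁]
  · show (σ ≫ F ≫ pullback.fst G.s b) (IsLocalRing.closedPoint K) = r'
    have : σ ≫ F ≫ pullback.fst G.s b = β := by
      rw [hF₁, GrpdLib.comp_cmp]
      refine (GrpdLib.cmp_congr G (pullback.lift_fst _ _ _) (show σ ≫ pullback.snd G.s a ≫ ρ = ρ by
        rw [← Category.assoc, pullback.lift_snd, Category.id_comp]) _ hρt.symm).trans
        (GrpdLib.cmp_cmp_inv G α β hρ _)
    rw [this]
    show pullback.snd G.t G.t (q _) = r'
    rw [hq, hz₂]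

end Groth.Agent.S7498
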