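import Groth.Statements.S7499
import Groth.Agent.GrpdLib.Orbits
import Groth.Agent.S0593

set_option autoImplicit false
universe u
open CategoryTheory CategoryTheory.Limits AlgebraicGeometry
open Grpd

namespace Groth.Agent.S7499

/-- Let (U, R, s, t, c) be a groupoid scheme over S with s and t integral, and g : U' -> U an integral
morphism such that every R-orbit of U meets the image of g. Let R' = (U' x_(g,U,t) R) x_(s pr, U, g)
U' be the restriction of R to U', with t' the projection to the first factor U' and s' the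
projection to the last. If u' is a point of U' contained in an affine open W' of U' with t'^{-1}(W')
= s'^{-1}(W'), then g(u') is contained in an affine open W of U with s^{-1}(W) = t^{-1}(W). (A
groupoid scheme carries U, R, s, t, c, e, i over S with the groupoid axioms on T-points; c is
defined on the fibre product of s and t and sends a pair (a, b) with s(a) = t(b) to a composed with
b.) -/
theorem result (S : Scheme.{u}) (G : Grpd.GroupoidScheme S) [IsIntegralHom G.s] [IsIntegralHom G.t] (U' : Scheme.{u}) (g : U' ⟶ G.U) [IsIntegralHom g] (horb : ∀ u : G.U, ∃ r : G.R, G.s r = u ∧ G.t r ∈ Set.range ⇑g) (u' : U') (W' : U'.Opens) (hW' : IsAffineOpen W') (hu' : u' ∈ W') (hinv : (pullback.fst (pullback.snd g G.t ≫ G.s) g ≫ pullback.fst g G.t) ⁻¹ᵁ W' = (pullback.snd (pullback.snd g G.t ≫ G.s) g) ⁻¹ᵁ W') : ∃ W : G.U.Opens, IsAffineOpen W ∧ g u' ∈ W ∧ G.s ⁻¹ᵁ W = G.t ⁻¹ᵁ W := by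
  let a : pullback g G.t ⟶ G.U := pullback.snd g G.t ≫ G.s
  let φ : pullback g G.t ⟶ U' := pullback.fst g G.t
  have : IsIntegralHom φ := inferInstanceAs (IsIntegralHom (pullback.fst g G.t))
  have : IsIntegralHom a := inferInstanceAs (IsIntegralHom (pullback.snd g G.t ≫ G.s))
  have : Surjective a := ⟨fun x => by
    obtain ⟨r, hr, y, hy⟩ := horb x
    obtain ⟨z, hz₁, hz₂⟩ := Scheme.Pullback.exists_preimage_pullback (f := g) (g := G.t) y r hy
    exact ⟨z, by rw [Scheme.Hom.comp_apply, hz₂, hr]⟩⟩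
  -- invariance of `W'` on points
  have hinv' : ∀ (z : (pullback g G.t : Scheme.{u})) (y : U'), a z = g y → (φ z ∈ W' ↔ y ∈ W') := by
    intro z y hzy
    obtain ⟨w, hw₁, hw₂⟩ := Scheme.Pullback.exists_preimage_pullback (f := a) (g := g) z y hzy
    have e := Set.ext_iff.1 (congrArg (fun V : TopologicalSpace.Opens _ => (V : Set _)) hinv) w
    change φ (pullback.fst a g w) ∈ W' ↔ pullback.snd a g w ∈ W' at e
    rwa [hw₁, hw₂] at e
  let Z : Set G.U := ⇑a '' (⇑φ ⁻¹' (W' : Set U')ᶜ)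
  let W : G.U.Opens := ⟨Zᶜ, (a.isClosedMap _ (W'.isOpen.isClosed_compl.preimage φ.continuous)).isOpen_compl⟩
  have hsat : ∀ r : G.R, G.s r ∈ Z → G.t r ∈ Z := by
    rintro r ⟨z, hz, hza⟩
    obtain ⟨m, hm₁, hm₂⟩ := GrpdLib.exists_arrow_trans G (pullback.snd g G.t z) (G.i r)
      (by rw [GrpdLib.t_i_apply, ← hza, Scheme.Hom.comp_apply])
    obtain ⟨w, hw₁, hw₂⟩ := Scheme.Pullback.exists_preimage_pullback (f := g) (g := G.t) (φ z) m (by
      rw [hm₁, ← Scheme.Hom.comp_apply, ← Scheme.Hom.comp_apply, pullback.condition])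
    refine ⟨w, ?_, ?_⟩
    · show φ w ∉ W'
      rw [hw₁]; exact hz
    · rw [Scheme.Hom.comp_apply, hw₂, hm₂, GrpdLib.s_i_apply]
  have hpre : a ⁻¹ᵁ W = φ ⁻¹ᵁ W' := by
    refine TopologicalSpace.Opens.ext (Set.ext fun z => ⟨fun hz => by_contra fun h => hz ⟨z, h, rfl⟩, ?_⟩)
    rintro hz ⟨z', hz', he⟩
    obtain ⟨m, hm₁, hm₂⟩ := GrpdLib.exists_arrow_trans G (pullback.snd g G.t z) (G.i (pullback.snd g G.t z'))
      (by rw [GrpdLib.t_i_apply, ← Scheme.Hom.comp_apply, ← Scheme.Hom.comp_apply]; exact he.symm)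
    obtain ⟨w, hw₁, hw₂⟩ := Scheme.Pullback.exists_preimage_pullback (f := g) (g := G.t) (φ z) m (by
      rw [hm₁, ← Scheme.Hom.comp_apply, ← Scheme.Hom.comp_apply, pullback.condition])
    have := (hinv' w (φ z') (by
      rw [Scheme.Hom.comp_apply, hw₂, hm₂, GrpdLib.s_i_apply, ← Scheme.Hom.comp_apply, ← Scheme.Hom.comp_apply,
        pullback.condition])).1 (by rw [hw₁]; exact hz)
    exact hz' this
  refine ⟨W, ?_, ?_, ?_⟩
  · have : IsAffine (a ⁻¹ᵁ W).toScheme := by rw [hpre]; exact hW'.preimage φ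
    have : IsIntegralHom (a ∣_ W) := inferInstance
    have : Surjective (a ∣_ W) := IsZariskiLocalAtTarget.restrict ‹_› W
    exact Groth.Agent.S0593.result _ _ (a ∣_ W)
  · rintro ⟨z, hz, hza⟩
    exact hz ((hinv' z u' hza).2 hu')
  · refine TopologicalSpace.Opens.ext (Set.ext fun r => not_congr ⟨hsat r, fun h => ?_⟩)
    have := hsat (G.i r) (by rw [GrpdLib.s_i_apply]; exact h)
    rwa [GrpdLib.t_i_apply] at this

end Groth.Agent.S7499
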