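import Groth.Statements.S7500
import Groth.Agent.GrpdLib.Orbits

set_option autoImplicit false
universe u
open CategoryTheory CategoryTheory.Limits AlgebraicGeometry
open Grpd

namespace Groth.Agent.S7500

/-- Let (U, R, s, t, c) be a groupoid scheme over S and G -> U its stabilizer group scheme (the base
change of j = (t, s) along the diagonal). The action of G on R by composition, base changed to G_0 =
G x_(U, pr_0) (U x_S U), makes R a pseudo G_0-torsor over U x_S U. Concretely: let α : G x_(U, t) R
-> R x_(s, U, t) R be the morphism with components (γ viewed in R, r) and β : G x_(U, t) R -> R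
x_(j, U x_S U, j) R the morphism with components (c ∘ α, r); then β is an isomorphism. (A groupoid
scheme carries U, R, s, t, c, e, i over S with the groupoid axioms on T-points; c is defined on the
fibre product of s and t and sends a pair (a, b) with s(a) = t(b) to a composed with b.) -/
theorem result (S : Scheme.{u}) (G : Grpd.GroupoidScheme S) (α : pullback G.stabilizerToU G.t ⟶ pullback G.s G.t) (hα₁ : α ≫ pullback.fst G.s G.t = pullback.fst G.stabilizerToU G.t ≫ pullback.fst G.j G.diag) (hα₂ : α ≫ pullback.snd G.s G.t = pullback.snd G.stabilizerToU G.t) (β : pullback G.stabilizerToU G.t ⟶ pullback G.j G.j) (hβ₁ : β ≫ pullback.fst G.j G.j = α ≫ G.c) (hβ₂ : β ≫ pullback.snd G.j G.j = pullback.snd G.stabilizerToU G.t) : IsIso β := by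
  let γ := pullback.fst G.j G.diag
  let π := pullback.snd G.j G.diag
  have hst : γ ≫ G.t = π ∧ γ ≫ G.s = π := by
    have h := pullback.condition (f := G.j) (g := G.diag)
    have j1 : G.j ≫ pullback.fst G.pU G.pU = G.t := pullback.lift_fst _ _ _
    have j2 : G.j ≫ pullback.snd G.pU G.pU = G.s := pullback.lift_snd _ _ _
    have d1 : G.diag ≫ pullback.fst G.pU G.pU = 𝟙 G.U := pullback.lift_fst _ _ _
    have d2 : G.diag ≫ pullback.snd G.pU G.pU = 𝟙 G.U := pullback.lift_snd _ _ _
    refine ⟨?_, ?_⟩
    · have := congrArg (fun z => z ≫ pullback.fst G.pU G.pU) h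
      rwa [Category.assoc, Category.assoc, j1, d1, Category.comp_id] at this
    · have := congrArg (fun z => z ≫ pullback.snd G.pU G.pU) h
      rwa [Category.assoc, Category.assoc, j2, d2, Category.comp_id] at this
  let p := pullback.fst G.stabilizerToU G.t
  let r := pullback.snd G.stabilizerToU G.t
  have hp : p ≫ π = r ≫ G.t := pullback.condition
  let a := pullback.fst G.j G.j
  let b := pullback.snd G.j G.j
  have hab : a ≫ G.t = b ≫ G.t ∧ a ≫ G.s = b ≫ G.s := by
    have h := pullback.condition (f := G.j) (g := G.j)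
    have j1 : G.j ≫ pullback.fst G.pU G.pU = G.t := pullback.lift_fst _ _ _
    have j2 : G.j ≫ pullback.snd G.pU G.pU = G.s := pullback.lift_snd _ _ _
    refine ⟨?_, ?_⟩
    · have := congrArg (fun z => z ≫ pullback.fst G.pU G.pU) h
      rwa [Category.assoc, Category.assoc, j1] at this
    · have := congrArg (fun z => z ≫ pullback.snd G.pU G.pU) h
      rwa [Category.assoc, Category.assoc, j2] at this
  have hq : a ≫ G.s = (b ≫ G.i) ≫ G.t := by rw [Groth.Agent.GrpdLib.i_comp_t]; exact hab.2
  let δ := Groth.Agent.GrpdLib.cmp G a (b ≫ G.i) hq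
  have hδt : δ ≫ G.t = b ≫ G.t := by rw [Groth.Agent.GrpdLib.cmp_t]; exact hab.1
  have hδs : δ ≫ G.s = b ≫ G.t := by rw [Groth.Agent.GrpdLib.cmp_s, Groth.Agent.GrpdLib.i_comp_s]
  have hw : δ ≫ G.j = (b ≫ G.t) ≫ G.diag := by
    apply pullback.hom_ext
    · rw [Category.assoc, Category.assoc, show G.j ≫ pullback.fst G.pU G.pU = G.t from pullback.lift_fst _ _ _,
        show G.diag ≫ pullback.fst G.pU G.pU = 𝟙 G.U from pullback.lift_fst _ _ _, Category.comp_id]
      exact hδt
    · rw [Category.assoc, Category.assoc, show G.j ≫ pullback.snd G.pU G.pU = G.s from pullback.lift_snd _ _ _,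
        show G.diag ≫ pullback.snd G.pU G.pU = 𝟙 G.U from pullback.lift_snd _ _ _, Category.comp_id]
      exact hδs
  let σ : pullback G.j G.j ⟶ G.stabilizer := pullback.lift δ (b ≫ G.t) hw
  have hσ : σ ≫ G.stabilizerToU = b ≫ G.t := pullback.lift_snd _ _ _
  have hσγ : σ ≫ γ = δ := pullback.lift_fst _ _ _
  have hsd : (p ≫ γ) ≫ G.s = r ≫ G.t := (Category.assoc _ _ _).trans ((congrArg (fun z => p ≫ z) hst.2).trans hp)
  have hαc : α ≫ G.c = Groth.Agent.GrpdLib.cmp G (p ≫ γ) r hsd := by
    rw [Groth.Agent.GrpdLib.cmp]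
    congr 1
    apply pullback.hom_ext
    · rw [pullback.lift_fst]; exact hα₁
    · rw [pullback.lift_snd]; exact hα₂
  refine ⟨pullback.lift σ b hσ, ?_, ?_⟩
  · apply pullback.hom_ext
    · rw [Category.assoc, pullback.lift_fst, Category.id_comp]
      apply pullback.hom_ext
      · show (β ≫ σ) ≫ γ = p ≫ γ
        refine (Category.assoc _ _ _).trans ((congrArg (fun z => β ≫ z) hσγ).trans ?_)
        rw [Groth.Agent.GrpdLib.comp_cmp]
        refine (Groth.Agent.GrpdLib.cmp_congr G (hβ₁.trans hαc) (show β ≫ b ≫ G.i = r ≫ G.i by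
          rw [← Category.assoc, show β ≫ b = r from hβ₂]) _ ?_).trans
          (Groth.Agent.GrpdLib.cmp_cmp_inv_right G r (p ≫ γ) hsd ?_)
        all_goals rw [Groth.Agent.GrpdLib.cmp_s, Groth.Agent.GrpdLib.i_comp_t]
      · show (β ≫ σ) ≫ G.stabilizerToU = p ≫ π
        rw [Category.assoc, hσ, ← Category.assoc, show β ≫ b = r from hβ₂]
        exact hp.symm
    · rw [Category.assoc, pullback.lift_snd, Category.id_comp]; exact hβ₂
  · apply pullback.hom_ext
    · rw [Category.assoc, hβ₁, hαc, Category.id_comp, Groth.Agent.GrpdLib.comp_cmp]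
      have e1 : pullback.lift σ b hσ ≫ p ≫ γ = δ := by
        exact (Category.assoc _ _ _).symm.trans ((congrArg (fun z => z ≫ γ) (pullback.lift_fst σ b hσ)).trans hσγ)
      refine (Groth.Agent.GrpdLib.cmp_congr G e1 (pullback.lift_snd _ _ _) _ hδs).trans ?_
      refine (G.assoc a (b ≫ G.i) b hq (Groth.Agent.GrpdLib.i_comp_s G b)).trans ?_
      refine (Groth.Agent.GrpdLib.cmp_congr G rfl ((G.i_comp b).trans (show b ≫ G.s ≫ G.e = a ≫ G.s ≫ G.e by
        rw [← Category.assoc, ← hab.2, Category.assoc])) _ ?_).trans (G.comp_e a)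
      rw [Category.assoc, Category.assoc, G.e_t, Category.comp_id]
    · rw [Category.assoc, hβ₂, Category.id_comp]; exact pullback.lift_snd _ _ _

end Groth.Agent.S7500
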