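import Groth.Prelude.Def_HTop
import Mathlib.AlgebraicGeometry.Sites.BigZariski
import Mathlib.AlgebraicGeometry.Morphisms.Proper
import Groth.Agent.HTop16.VSheaf
import Groth.Agent.HTop16.PhCover

set_option autoImplicit false
universe w u
namespace HTop
end HTop
open HTop

namespace Groth.Agent.S7501

open CategoryTheory CategoryTheory.Limits AlgebraicGeometry in
/-- Let F be a presheaf of sets on the category of schemes. If F is a sheaf for the Zariski topology
and, for every proper surjective morphism f : V -> U, F has the sheaf property for the one-arrow
family {f} (sections over V whose two pullbacks to V x_U V agree come from exactly one section over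
U), then F has the sheaf property for every ph covering. (The published statement is an equivalence
for presheaves on the big ph site of a base scheme and adds that, for a Zariski sheaf, the condition
on proper surjective morphisms may be asked only for affine targets; this row states, for presheaves
on all schemes, only that the two conditions imply the sheaf property for ph coverings.) -/
theorem result (F : Scheme.{u}ᵒᵖ ⥤ Type w) (h₁ : Presieve.IsSheaf Scheme.zariskiTopology F) (h₂ : ∀ (U V : Scheme.{u}) (f : V ⟶ U), IsProper f → Surjective f → Presieve.IsSheafFor F (Presieve.singleton f)) : HTop.IsPhSheaf F := by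
  have hs : ∀ (A : Scheme.{u}) (G : PreZeroHypercover.{0} A), HTop.IsStandardPh G →
      Presieve.IsSheafFor F G.presieve₀ := by
    intro A G hG
    obtain ⟨U, f, ι, hf, hfs, hι, hιf, hU⟩ := hG.exists_proper
    haveI := hι
    exact HTop16.VSheaf.isSheafFor_of_openPieces h₁ f ι hιf hU (h₂ _ _ f hf hfs)
  intro X R hR
  obtain ⟨E, hE, rfl⟩ := PreZeroHypercoverFamily.mem_precoverage_iff.1 hR
  refine HTop16.VSheaf.isSheafFor_of_refinesOver h₁ fun A _ h => ?_
  obtain ⟨G, hG, hr⟩ := HTop16.PhComp.exists_standardPh_refinesOver hE h
  exact ⟨G, hr, hs A G hG, fun A' _ b => hs A' _ (HTop16.PhComp.isStandardPh_pullback b hG)⟩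

end Groth.Agent.S7501
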