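import Groth.Statements.S7502
import Groth.Agent.S2515
import Groth.Agent.Coherent.QcohOps
import Groth.Agent.Coherent.FiniteType
import Groth.Agent.EGA43.InjFibre.Scheme
import Groth.Agent.DCat.FlatPull


set_option autoImplicit false
universe u
open CategoryTheory CategoryTheory.Limits AlgebraicGeometry
open Coh

set_option backward.isDefEq.respectTransparency false

namespace Groth.Agent.S7502

/-- Let f : Y -> X be a morphism of schemes which is quasi-compact, quasi-separated, flat and
surjective, with X and Y locally Noetherian. Let F be a quasi-coherent O_X-module, G a coherent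
O_Y-module and φ : G -> f^*F an injective map of O_Y-modules. Then the O_X-module F ∩ f_*G, defined
as the fibre product of the adjunction unit F -> f_*f^*F with f_*φ : f_*G -> f_*f^*F, is coherent.
('Coherent' is quasi-coherent of finite type, the usual notion on locally Noetherian schemes.) -/
theorem result {X Y : Scheme.{u}} (f : Y ⟶ X) [QuasiCompact f] [QuasiSeparated f] [Flat f] [Surjective f] [IsLocallyNoetherian X] [IsLocallyNoetherian Y] (F : X.Modules) (hF : Coh.IsQCoh F) (G : Y.Modules) (hG : Coh.IsCoh G) (φ : G ⟶ (Scheme.Modules.pullback f).obj F) [Mono φ] : Coh.IsCoh (Limits.pullback ((Scheme.Modules.pullbackPushforwardAdjunction f).unit.app F) ((Scheme.Modules.pushforward f).map φ)) := by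
  classical
  haveI : Coh.IsQCoh ((Scheme.Modules.pullback f).obj F) :=
    Groth.Agent.EGA43.InjFibre.isQCoh_pullback f F
  haveI : Coh.IsQCoh G := hG.1
  haveI := hF
  haveI : Coh.IsQCoh ((Scheme.Modules.pushforward f).obj G) := Groth.Agent.Coherent.isQCoh_push f G
  haveI : Coh.IsQCoh ((Scheme.Modules.pushforward f).obj ((Scheme.Modules.pullback f).obj F)) :=
    Groth.Agent.Coherent.isQCoh_push f _
  set adj := Scheme.Modules.pullbackPushforwardAdjunction f
  set u : F ⟶ (Scheme.Modules.pushforward f).obj ((Scheme.Modules.pullback f).obj F) := adj.unit.app F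
  set p := (Scheme.Modules.pushforward f).map φ
  haveI : Mono p := by
    haveI : (Scheme.Modules.pushforward f).PreservesMonomorphisms :=
      Functor.preservesMonomorphisms_of_adjunction adj
    infer_instance
  -- the fibre product is the kernel of `F → f_*f^*F → coker (f_*φ)`
  set π := u ≫ cokernel.π p
  haveI : Coh.IsQCoh (cokernel p) := Groth.Agent.Coherent.isQCoh_cokernel p
  haveI := Groth.Agent.Coherent.isQCoh_kernel π
  have h0 : (kernel.ι π ≫ u) ≫ cokernel.π p = 0 := by
    rw [Category.assoc]; exact kernel.condition π
  let e : Limits.pullback u p ≅ kernel π :=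
    { hom := kernel.lift π (pullback.fst u p) (by
        simp only [π, pullback.condition_assoc, cokernel.condition, comp_zero])
      inv := pullback.lift (kernel.ι π) (Abelian.monoLift p (kernel.ι π ≫ u) h0)
        (Abelian.monoLift_comp p _ h0).symm
      hom_inv_id := by
        apply pullback.hom_ext
        · simp
        · rw [← cancel_mono p]
          simp [Abelian.monoLift_comp, pullback.condition]
      inv_hom_id := by
        rw [← cancel_mono (kernel.ι π)]
        simp }
  have hq : Coh.IsQCoh (Limits.pullback u p) := Groth.Agent.Coherent.isQCoh_of_iso e.symm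
  haveI := Groth.Agent.DCat.FlatPull.preservesMonomorphisms_pullback f
  haveI : Mono (pullback.fst u p) := pullback.fst_of_mono
  haveI := hq
  let K := Limits.pullback u p
  let t : (Scheme.Modules.pullback f).obj K ⟶ G := (adj.homEquiv _ _).symm (pullback.snd u p)
  have ht : t ≫ φ = (Scheme.Modules.pullback f).map (pullback.fst u p) := by
    apply (adj.homEquiv _ _).injective
    rw [adj.homEquiv_naturality_right, Equiv.apply_symm_apply, Adjunction.homEquiv_unit]
    exact pullback.condition.symm.trans (adj.unit.naturality (pullback.fst u p))
  haveI : Mono t := mono_of_mono_fac ht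
  haveI : Coh.IsQCoh ((Scheme.Modules.pullback f).obj K) :=
    Groth.Agent.EGA43.InjFibre.isQCoh_pullback f K
  exact Groth.Agent.S2515.result f K hq (Groth.Agent.Coherent.isCoh_of_mono t hG ‹_›)

end Groth.Agent.S7502
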