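import Groth.Statements.S7504
import Mathlib.AlgebraicGeometry.Morphisms.UniversallyOpen
import Mathlib.AlgebraicGeometry.Morphisms.Etale
import Mathlib.AlgebraicGeometry.Restrict

set_option autoImplicit false
universe u
open CategoryTheory CategoryTheory.Limits AlgebraicGeometry
open Grpd

namespace Groth.Agent.S7504
open Limits

/-- Let (U, R, s, t, c) be a groupoid scheme over S, let τ be the Zariski, étale, smooth or fppf
topology (given as the corresponding precoverage K on schemes), and let P be a property of scheme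
morphisms that is τ-local on the target. (The published statement also allows the syntomic topology,
which has no precoverage here; this row omits it.) Assume the one-arrow families {s : R -> U} and {t
: R -> U} are τ-coverings. If W is the largest open subscheme of U such that the restriction
s^{-1}(W) -> W of s has P (W has the property and contains every open with the property), then W is
R-invariant: s^{-1}(W) = t^{-1}(W). (A groupoid scheme carries U, R, s, t, c, e, i over S with the
groupoid axioms on T-points; c is defined on the fibre product of s and t and sends a pair (a, b)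
with s(a) = t(b) to a composed with b.) -/
theorem result (S : Scheme.{u}) (G : Grpd.GroupoidScheme S) (K : Precoverage Scheme.{u}) (hK : K = Scheme.zariskiPrecoverage ∨ K = Scheme.etalePrecoverage ∨ K = Scheme.precoverage @Smooth ∨ K = Scheme.fppfPrecoverage) (P : MorphismProperty Scheme.{u}) [P.IsLocalAtTarget K] (hs : Presieve.singleton G.s ∈ K G.U) (ht : Presieve.singleton G.t ∈ K G.U) (W : G.U.Opens) (hW : P (G.s ∣_ W)) (hmax : ∀ W' : G.U.Opens, P (G.s ∣_ W') → W' ≤ W) : G.s ⁻¹ᵁ W = G.t ⁻¹ᵁ W := by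
  obtain ⟨Q, rfl, hQo, hQi, hQc⟩ : ∃ Q : MorphismProperty Scheme.{u}, K = Scheme.precoverage Q ∧
      (∀ {X Y : Scheme.{u}} (f : X ⟶ Y), Q f → IsOpenMap f.base) ∧
      (∀ {X Y : Scheme.{u}} (f : X ⟶ Y) [IsOpenImmersion f], Q f) ∧
      (∀ {X Y : Scheme.{u}} (f : X ⟶ Y) (hf : Q f) (U : Y.Opens) (V : X.Opens) (e : V ≤ f ⁻¹ᵁ U), Q (f.resLE U V e)) := by
    rcases hK with rfl | rfl | rfl | rfl
    · exact ⟨@IsOpenImmersion, rfl, fun f (h : IsOpenImmersion f) => f.isOpenEmbedding.isOpenMap,
        fun f h => h, fun f (h : IsOpenImmersion f) U V e => by rw [Scheme.Hom.resLE]; infer_instance⟩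
    · exact ⟨@Etale, rfl, fun f (h : Etale f) => f.isOpenMap, fun f h => inferInstance,
        fun f (h : Etale f) U V e => by rw [Scheme.Hom.resLE]; infer_instance⟩
    · exact ⟨@Smooth, rfl, fun f (h : Smooth f) => f.isOpenMap, fun f h => inferInstance,
        fun f (h : Smooth f) U V e => by rw [Scheme.Hom.resLE]; infer_instance⟩
    · exact ⟨@Flat ⊓ @LocallyOfFinitePresentation, rfl,
        fun f h => by obtain ⟨h1, h2⟩ := h; exact f.isOpenMap,
        fun f h => ⟨inferInstance, inferInstance⟩,
        fun f h U V e => by obtain ⟨h1, h2⟩ := h; exact ⟨by rw [Scheme.Hom.resLE]; infer_instance, by rw [Scheme.Hom.resLE]; infer_instance⟩⟩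
  have hsQ := (Scheme.singleton_mem_precoverage_iff _ G.s).1 hs
  have htQ := (Scheme.singleton_mem_precoverage_iff _ G.t).1 ht
  have hB : IsPullback G.c (pullback.snd G.s G.t) G.s G.s := by
    have w : G.c ≫ G.s = pullback.snd G.s G.t ≫ G.s := by
      have h := G.comp_s (pullback.fst G.s G.t) (pullback.snd G.s G.t) pullback.condition
      rwa [show pullback.lift (pullback.fst G.s G.t) (pullback.snd G.s G.t) pullback.condition = 𝟙 _ from
        pullback.hom_ext (by simp) (by simp), Category.id_comp] at h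
    refine ⟨⟨w⟩, ⟨PullbackCone.IsLimit.mk w (fun c => pullback.lift (pullback.lift c.fst (c.snd ≫ G.i)
      (by rw [Category.assoc, G.i_t]; exact c.condition) ≫ G.c) c.snd
      (by rw [G.comp_s, Category.assoc, G.i_s])) (fun c => ?_) (fun c => pullback.lift_snd _ _ _) (fun c m h1 h2 => ?_)⟩⟩
    · rw [G.assoc _ _ _ _ (by rw [Category.assoc, G.i_s])]
      rw [show pullback.lift c.fst (pullback.lift (c.snd ≫ G.i) c.snd (by rw [Category.assoc, G.i_s]) ≫ G.c) _ =
        pullback.lift c.fst (c.fst ≫ G.s ≫ G.e) (by rw [Category.assoc, Category.assoc, G.e_t, Category.comp_id]) from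
        pullback.hom_ext ((pullback.lift_fst _ _ _).trans (pullback.lift_fst _ _ _).symm) (by rw [pullback.lift_snd, pullback.lift_snd, G.i_comp]; exact (c.condition_assoc G.e).symm)]
      exact G.comp_e _
    · apply pullback.hom_ext
      · rw [pullback.lift_fst]
        have ha : (m ≫ pullback.fst G.s G.t) ≫ G.s = (m ≫ pullback.snd G.s G.t) ≫ G.t := by
          rw [Category.assoc, Category.assoc, pullback.condition]
        have hm : pullback.lift (m ≫ pullback.fst G.s G.t) (m ≫ pullback.snd G.s G.t) ha = m :=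
          pullback.hom_ext (pullback.lift_fst _ _ _) (pullback.lift_snd _ _ _)
        have e1 : pullback.lift c.fst (c.snd ≫ G.i) (by rw [Category.assoc, G.i_t]; exact c.condition) =
            pullback.lift (pullback.lift (m ≫ pullback.fst G.s G.t) (m ≫ pullback.snd G.s G.t) ha ≫ G.c)
              ((m ≫ pullback.snd G.s G.t) ≫ G.i)
              ((G.comp_s _ _ ha).trans (by simp [G.i_t])) :=
          pullback.hom_ext (by rw [pullback.lift_fst, pullback.lift_fst, hm, h1])
            (by rw [pullback.lift_snd, pullback.lift_snd, h2])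
        rw [e1, G.assoc _ _ _ ha (by simp [G.i_t])]
        rw [show pullback.lift (m ≫ pullback.fst G.s G.t)
            (pullback.lift (m ≫ pullback.snd G.s G.t) ((m ≫ pullback.snd G.s G.t) ≫ G.i) _ ≫ G.c) _ =
            pullback.lift (m ≫ pullback.fst G.s G.t) ((m ≫ pullback.fst G.s G.t) ≫ G.s ≫ G.e)
              (by rw [Category.assoc (m ≫ pullback.fst G.s G.t) (G.s ≫ G.e) G.t, Category.assoc G.s, G.e_t,
                Category.comp_id]) from
          pullback.hom_ext ((pullback.lift_fst _ _ _).trans (pullback.lift_fst _ _ _).symm) (by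
            rw [pullback.lift_snd, pullback.lift_snd, G.comp_i]
            simp [pullback.condition_assoc])]
        exact (G.comp_e _).symm
      · rw [pullback.lift_snd, h2]
  let p := pullback.snd G.s G.t
  have key : ∀ (g : G.R ⟶ G.U) (a : pullback G.s G.t ⟶ G.R), Q g → IsPullback a p G.s g →
      ∀ (W' : G.U.Opens) (V : G.R.Opens) (e : V ≤ g ⁻¹ᵁ W'), (∀ x ∈ W', ∃ r ∈ V, g.base r = x) →
      (P (G.s ∣_ W') ↔ P (p ∣_ V)) := by
    intro g a hg hsq W' V e hsurj
    have H1 : IsPullback ((p ⁻¹ᵁ V).ι ≫ a) (p ∣_ V) G.s (V.ι ≫ g) :=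
      (isPullback_morphismRestrict p V).flip.paste_horiz hsq
    have H2 : IsPullback (G.s ⁻¹ᵁ W').ι (G.s ∣_ W') G.s W'.ι := (isPullback_morphismRestrict G.s W').flip
    rw [← Scheme.Hom.resLE_comp_ι g e] at H1
    have H3 := IsPullback.of_right (h₁₁ := H2.lift ((p ⁻¹ᵁ V).ι ≫ a) ((p ∣_ V) ≫ g.resLE W' V e)
      (by rw [H1.w, Category.assoc])) (by rwa [H2.lift_fst]) (H2.lift_snd _ _ _) H2
    have hmem : Presieve.singleton (g.resLE W' V e) ∈ Scheme.precoverage Q W'.toScheme := by
      rw [Scheme.singleton_mem_precoverage_iff]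
      refine ⟨fun x => ?_, hQc g hg W' V e⟩
      obtain ⟨r, hr, hrx⟩ := hsurj x.1 x.2
      refine ⟨⟨r, hr⟩, W'.ι.isOpenEmbedding.injective ?_⟩
      change ((g.resLE W' V e) ≫ W'.ι).base ⟨r, hr⟩ = _
      rw [Scheme.Hom.resLE_comp_ι]
      exact hrx
    rw [MorphismProperty.IsLocalAtTarget.iff_of_forall_pullbackSnd (P := P) hmem]
    constructor
    · intro h
      have := h (g.resLE W' V e) (Presieve.singleton_self _)
      rwa [← H3.isoPullback_inv_snd, MorphismProperty.cancel_left_of_respectsIso P] at this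
    · intro h U g' _ hg'
      cases hg'
      rwa [← H3.isoPullback_inv_snd, MorphismProperty.cancel_left_of_respectsIso P]
  have half : ∀ (g g' : G.R ⟶ G.U) (a a' : pullback G.s G.t ⟶ G.R), Q g → Q g' → IsPullback a p G.s g →
      IsPullback a' p G.s g' → ∀ W' : G.U.Opens, P (G.s ∣_ W') → (∀ x ∈ W', ∃ r, g.base r = x) →
      g ⁻¹ᵁ W' ≤ g' ⁻¹ᵁ W := by
    intro g g' a a' hg hg' hsq hsq' W' hP hsurj
    let V := g ⁻¹ᵁ W'
    let O : G.U.Opens := ⟨g'.base '' (V : Set G.R), hQo g' hg' _ V.isOpen⟩
    have h1 := (key g a hg hsq W' V le_rfl fun x hx => by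
      obtain ⟨r, hr⟩ := hsurj x hx
      exact ⟨r, show g.base r ∈ W' from hr ▸ hx, hr⟩).1 hP
    have e : V ≤ g' ⁻¹ᵁ O := fun r hr => ⟨r, hr, rfl⟩
    have h2 := (key g' a' hg' hsq' O V e fun x hx => hx).2 h1
    exact fun r hr => hmax O h2 (e hr)
  exact le_antisymm
    (half G.s G.t G.c (pullback.fst G.s G.t) hsQ.2 htQ.2 hB (IsPullback.of_hasPullback G.s G.t) W hW fun x _ => hsQ.1 x)
    (half G.t G.s (pullback.fst G.s G.t) G.c htQ.2 hsQ.2 (IsPullback.of_hasPullback G.s G.t) hB W hW fun x _ => htQ.1 x)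

end Groth.Agent.S7504
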