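import Groth.Statements.S7505
import Groth.Agent.GrpdLib.StabConj
import Mathlib.AlgebraicGeometry.Morphisms.UniversallyOpen
import Mathlib.AlgebraicGeometry.Morphisms.Etale
import Mathlib.AlgebraicGeometry.Restrict

set_option autoImplicit false
universe u
open CategoryTheory CategoryTheory.Limits AlgebraicGeometry
open Grpd

namespace Groth.Agent.S7505
open Limits

/-- Let (U, R, s, t, c) be a groupoid scheme over S with stabilizer group scheme G -> U, let τ be the
étale, smooth or fppf topology (given as the corresponding precoverage K), and let P be a property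
of scheme morphisms that is τ-local on the target. (The published statement also allows the syntomic
topology; this row omits it.) Assume {s : R -> U} and {t : R -> U} are τ-coverings. If W is the
largest open subscheme of U such that the restriction G_W -> W of the stabilizer has P, then W is
R-invariant: s^{-1}(W) = t^{-1}(W). (A groupoid scheme carries U, R, s, t, c, e, i over S with the
groupoid axioms on T-points; c is defined on the fibre product of s and t and sends a pair (a, b)
with s(a) = t(b) to a composed with b.) -/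
theorem result (S : Scheme.{u}) (G : Grpd.GroupoidScheme S) (K : Precoverage Scheme.{u}) (hK : K = Scheme.etalePrecoverage ∨ K = Scheme.precoverage @Smooth ∨ K = Scheme.fppfPrecoverage) (P : MorphismProperty Scheme.{u}) [P.IsLocalAtTarget K] (hs : Presieve.singleton G.s ∈ K G.U) (ht : Presieve.singleton G.t ∈ K G.U) (W : G.U.Opens) (hW : P (G.stabilizerToU ∣_ W)) (hmax : ∀ W' : G.U.Opens, P (G.stabilizerToU ∣_ W') → W' ≤ W) : G.s ⁻¹ᵁ W = G.t ⁻¹ᵁ W := by
  obtain ⟨Q, rfl, hQo, hQi, hQc⟩ : ∃ Q : MorphismProperty Scheme.{u}, K = Scheme.precoverage Q ∧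
      (∀ {X Y : Scheme.{u}} (f : X ⟶ Y), Q f → IsOpenMap f.base) ∧
      (∀ {X Y : Scheme.{u}} (f : X ⟶ Y) [IsOpenImmersion f], Q f) ∧
      (∀ {X Y : Scheme.{u}} (f : X ⟶ Y) (hf : Q f) (U : Y.Opens) (V : X.Opens) (e : V ≤ f ⁻¹ᵁ U), Q (f.resLE U V e)) := by
    rcases hK with rfl | rfl | rfl
    · exact ⟨@Etale, rfl, fun f (h : Etale f) => f.isOpenMap, fun f h => inferInstance,
        fun f (h : Etale f) U V e => by rw [Scheme.Hom.resLE]; infer_instance⟩
    · exact ⟨@Smooth, rfl, fun f (h : Smooth f) => f.isOpenMap, fun f h => inferInstance,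
        fun f (h : Smooth f) U V e => by rw [Scheme.Hom.resLE]; infer_instance⟩
    · exact ⟨@Flat ⊓ @LocallyOfFinitePresentation, rfl,
        fun f h => by obtain ⟨h1, h2⟩ := h; exact f.isOpenMap,
        fun f h => ⟨inferInstance, inferInstance⟩,
        fun f h U V e => by
          obtain ⟨h1, h2⟩ := h
          exact ⟨by rw [Scheme.Hom.resLE]; infer_instance, by rw [Scheme.Hom.resLE]; infer_instance⟩⟩
  have hsQ := (Scheme.singleton_mem_precoverage_iff _ G.s).1 hs
  have htQ := (Scheme.singleton_mem_precoverage_iff _ G.t).1 ht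
  have key : ∀ (g : G.R ⟶ G.U), Q g → ∀ (W' : G.U.Opens) (V : G.R.Opens) (e : V ≤ g ⁻¹ᵁ W'),
      (∀ x ∈ W', ∃ r ∈ V, g.base r = x) →
      (P (G.stabilizerToU ∣_ W') ↔ P (pullback.snd G.stabilizerToU g ∣_ V)) := by
    intro g hg W' V e hsurj
    let p := pullback.snd G.stabilizerToU g
    let a := pullback.fst G.stabilizerToU g
    have H1 : IsPullback ((p ⁻¹ᵁ V).ι ≫ a) (p ∣_ V) G.stabilizerToU (V.ι ≫ g) :=
      (isPullback_morphismRestrict p V).flip.paste_horiz (IsPullback.of_hasPullback _ _)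
    have H2 : IsPullback (G.stabilizerToU ⁻¹ᵁ W').ι (G.stabilizerToU ∣_ W') G.stabilizerToU W'.ι :=
      (isPullback_morphismRestrict G.stabilizerToU W').flip
    rw [← Scheme.Hom.resLE_comp_ι g e] at H1
    have H3 := IsPullback.of_right (h₁₁ := H2.lift ((p ⁻¹ᵁ V).ι ≫ a) ((p ∣_ V) ≫ g.resLE W' V e)
      (by rw [H1.w, Category.assoc])) (by rwa [H2.lift_fst]) (H2.lift_snd _ _ _) H2
    have hmem : Presieve.singleton (g.resLE W' V e) ∈ Scheme.precoverage Q W'.toScheme := by
      rw [Scheme.singleton_mem_precoverage_iff]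
      refine ⟨fun x => ?_, hQc g hg W' V e⟩
      obtain ⟨r, hr, hrx⟩ := hsurj x.1 x.2
      refine ⟨⟨r, hr⟩, W'.ι.isOpenEmbedding.injective ?_⟩
      change ((g.resLE W' V e) ≫ W'.ι).base ⟨r, hr⟩ = _
      rw [Scheme.Hom.resLE_comp_ι]
      exact hrx
    rw [MorphismProperty.IsLocalAtTarget.iff_of_forall_pullbackSnd (P := P) hmem]
    constructor
    · intro h
      have := h (g.resLE W' V e) (Presieve.singleton_self _)
      rwa [← H3.isoPullback_inv_snd, MorphismProperty.cancel_left_of_respectsIso P] at this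
    · intro h U g' _ hg'
      cases hg'
      rwa [← H3.isoPullback_inv_snd, MorphismProperty.cancel_left_of_respectsIso P]
  have swap : ∀ V : G.R.Opens, P (pullback.snd G.stabilizerToU G.s ∣_ V) ↔ P (pullback.snd G.stabilizerToU G.t ∣_ V) := by
    intro V
    rw [← Groth.Agent.GrpdLib.stabConj_hom_snd G, morphismRestrict_comp]
    haveI : IsIso (Groth.Agent.GrpdLib.stabConj G).hom := (Groth.Agent.GrpdLib.stabConj G).isIso_hom
    have hi : (MorphismProperty.isomorphisms Scheme.{u}) (Groth.Agent.GrpdLib.stabConj G).hom :=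
      (Groth.Agent.GrpdLib.stabConj G).isIso_hom
    haveI : IsIso ((Groth.Agent.GrpdLib.stabConj G).hom ∣_ pullback.snd G.stabilizerToU G.t ⁻¹ᵁ V) :=
      IsZariskiLocalAtTarget.restrict (P := MorphismProperty.isomorphisms Scheme.{u}) hi _
    exact @MorphismProperty.cancel_left_of_respectsIso _ _ P _ _ _ _ _ _ ‹IsIso _›
  have half : ∀ (g g' : G.R ⟶ G.U), Q g → Q g' → (∀ x, ∃ r, g.base r = x) →
      (∀ V : G.R.Opens, P (pullback.snd G.stabilizerToU g ∣_ V) → P (pullback.snd G.stabilizerToU g' ∣_ V)) →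
      g ⁻¹ᵁ W ≤ g' ⁻¹ᵁ W := by
    intro g g' hg hg' hsurj hsw
    let V := g ⁻¹ᵁ W
    let O : G.U.Opens := ⟨g'.base '' (V : Set G.R), hQo g' hg' _ V.isOpen⟩
    have h1 := (key g hg W V le_rfl fun x hx => by
      obtain ⟨r, hr⟩ := hsurj x
      exact ⟨r, show g.base r ∈ W from hr ▸ hx, hr⟩).1 hW
    have e : V ≤ g' ⁻¹ᵁ O := fun r hr => ⟨r, hr, rfl⟩
    have h2 := (key g' hg' O V e fun x hx => hx).2 (hsw V h1)
    exact fun r hr => hmax O h2 (e hr)
  exact le_antisymm (half G.s G.t hsQ.2 htQ.2 hsQ.1 fun V => (swap V).1)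
    (half G.t G.s htQ.2 hsQ.2 htQ.1 fun V => (swap V).2)

end Groth.Agent.S7505
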