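import Groth.Statements.S7506
import Groth.Agent.Stk19b.QDMSlice.CutSymm
import Groth.Agent.FlatMor12.CMFibreDim
open Groth.Agent Groth.Agent.Stk19b.QDMSlice

set_option autoImplicit false
universe u
open CategoryTheory CategoryTheory.Limits AlgebraicGeometry
open Grpd

set_option backward.isDefEq.respectTransparency.types false
set_option backward.isDefEq.respectTransparency false

namespace Groth.Agent.S7506


/-- Let (U, R, s, t, c, e, i) be a groupoid scheme over S with s and t Cohen-Macaulay and locally of
finite presentation, G -> U the stabilizer group scheme and u a finite type point of U. Put d_1 =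
dim(G_u) and d_2 = dim_(e(u))(F_u) with F_u = s^{-1}(u). If d_2 > d_1, there exist an affine scheme
U', an immersion g : U' -> U locally of finite presentation and a point u' of U' with g(u') = u such
that, writing h = s ∘ pr_1 : U' x_(g,U,t) R -> U and p for the point of U' x_(g,U,t) R with
projections u' and e(u), the morphism h is Cohen-Macaulay at p and the local dimension at p of the
fibre of h is d_2 - 1 (this fibre is the fibre F'_(u') of the restricted groupoid). Here a morphism
is Cohen-Macaulay when it is Cohen-Macaulay at every point of its source (flat there with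
Cohen-Macaulay fibre local ring, Grpd.IsCMAt), a finite type point u is one for which Spec κ(u) -> U
is locally of finite type, dim_x of a fibre is the local dimension FlatMor.fibreDimAt, and G_u is
the scheme-theoretic fibre of the stabilizer G -> U over u. (A groupoid scheme carries U, R, s, t,
c, e, i over S with the groupoid axioms on T-points; c is defined on the fibre product of s and t
and sends a pair (a, b) with s(a) = t(b) to a composed with b.) -/
theorem result (S : Scheme.{u}) (G : Grpd.GroupoidScheme S) [LocallyOfFinitePresentation G.s] [LocallyOfFinitePresentation G.t] (hs : ∀ r : G.R, Grpd.IsCMAt G.s r) (ht : ∀ r : G.R, Grpd.IsCMAt G.t r) (u : G.U) (hu : LocallyOfFiniteType (G.U.fromSpecResidueField u)) (hd : topologicalKrullDim ↥(G.stabilizerToU.fiber u) < FlatMor.fibreDimAt G.s (G.e u)) : ∃ (U' : Scheme.{u}) (_ : IsAffine U') (g : U' ⟶ G.U) (u' : U') (p : ↑(pullback g G.t)), IsImmersion g ∧ LocallyOfFinitePresentation g ∧ g u' = u ∧ pullback.fst g G.t p = u' ∧ pullback.snd g G.t p = G.e u ∧ Grpd.IsCMAt (pullback.snd g G.t ≫ G.s)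 p ∧ FlatMor.fibreDimAt (pullback.snd g G.t ≫ G.s) p + 1 = FlatMor.fibreDimAt G.s (G.e u) := by
  have := flat_of_isCMAt G.s hs
  have := flat_of_isCMAt G.t ht
  obtain ⟨W₀, hW, huW, hmax⟩ := exists_affine_maximal u hu
  have hn : topologicalKrullDim ↥(G.stabilizerToU.fiber u) + ((1 : ℕ) : WithBot ℕ∞) ≤ FlatMor.fibreDimAt G.s (G.e u) := by
    obtain ⟨d, hd'⟩ := FlatMor12.exists_fibreDimAt_eq_nat G.s (G.e u)
    rw [hd'] at hd ⊢
    revert hd
    generalize topologicalKrullDim ↥(G.stabilizerToU.fiber u) = x
    intro hd
    induction x with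
    | bot => simp
    | coe x =>
      induction x using ENat.recTopCoe with
      | top => exact absurd hd (not_lt.2 (WithBot.coe_le_coe.2 le_top))
      | coe x => norm_cast at hd ⊢
  obtain ⟨Z, g, x, hZ, hgi, hgp, hgz, hx, hτp, hfl, hcm, hdim⟩ :=
    exists_cut_point G hW u huW hmax (hs _).2 1 hn
  let σ := (pullbackSymmetry g G.t).hom
  let x' := (pullbackSymmetry g G.t).inv x
  have hσx : σ x' = x := by rw [← Scheme.Hom.comp_apply, Iso.inv_hom_id]; rfl
  obtain ⟨h1, h2⟩ := isCMAt_of_iso σ (τ G.s G.t g) (pullback.snd g G.t ≫ G.s)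
    (by rw [τ, ← Category.assoc, pullbackSymmetry_hom_comp_fst]) x' (by rw [hσx]; exact hfl) (by rw [hσx]; exact hcm)
  refine ⟨Z, hZ, g, pullback.snd G.t g x, x', hgi, hgp, hgz, ?_, ?_, h1, ?_⟩
  · rw [← Scheme.Hom.comp_apply, pullbackSymmetry_inv_comp_fst]
  · rw [← Scheme.Hom.comp_apply, pullbackSymmetry_inv_comp_snd, hx]
  · rw [h2, hσx, ← hdim, Nat.cast_one]

end Groth.Agent.S7506
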