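import Groth.Statements.S7507
import Groth.Agent.Stk19b.QDMSlice.CutMax
open Groth.Agent Groth.Agent.Stk19b.QDMSlice

set_option autoImplicit false
universe u
open CategoryTheory CategoryTheory.Limits AlgebraicGeometry
open Grpd

set_option backward.isDefEq.respectTransparency.types false
set_option backward.isDefEq.respectTransparency false

namespace Groth.Agent.S7507


/-- Let (U, R, s, t, c, e, i) be a groupoid scheme over S with s and t Cohen-Macaulay and locally of
finite presentation, G -> U the stabilizer and u a finite type point of U. Then there exist an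
affine scheme U', an immersion g : U' -> U locally of finite presentation and a point u' with g(u')
= u such that: h = s ∘ pr_1 : U' x_(g,U,t) R -> U is Cohen-Macaulay as well as locally of finite
presentation; the source and target s', t' : R' -> U' of the restriction R' = (U' x_(g,U,t) R)
x_(h,U,g) U' are likewise locally of finite presentation and Cohen-Macaulay; and, p being the point
of U' x_(g,U,t) R with projections u' and e(u), the local dimension at p of the fibre of h equals
dim(G_u) (that is, dim_(e'(u'))(F'_(u')) = dim(G'_(u'))). Here a morphism is Cohen-Macaulay when it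
is Cohen-Macaulay at every point of its source (flat there with Cohen-Macaulay fibre local ring,
Grpd.IsCMAt), a finite type point u is one for which Spec κ(u) -> U is locally of finite type, dim_x
of a fibre is the local dimension FlatMor.fibreDimAt, and G_u is the scheme-theoretic fibre of the
stabilizer G -> U over u. (A groupoid scheme carries U, R, s, t, c, e, i over S with the groupoid
axioms on T-points; c is defined on the fibre product of s and t and sends a pair (a, b) with s(a) =
t(b) to a composed with b.) -/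
theorem result (S : Scheme.{u}) (G : Grpd.GroupoidScheme S) [LocallyOfFinitePresentation G.s] [LocallyOfFinitePresentation G.t] (hs : ∀ r : G.R, Grpd.IsCMAt G.s r) (ht : ∀ r : G.R, Grpd.IsCMAt G.t r) (u : G.U) (hu : LocallyOfFiniteType (G.U.fromSpecResidueField u)) : ∃ (U' : Scheme.{u}) (_ : IsAffine U') (g : U' ⟶ G.U) (u' : U') (p : ↑(pullback g G.t)), IsImmersion g ∧ LocallyOfFinitePresentation g ∧ g u' = u ∧ pullback.fst g G.t p = u' ∧ pullback.snd g G.t p = G.e u ∧ (∀ q, Grpd.IsCMAt (pullback.snd g G.t ≫ G.s) q) ∧ LocallyOfFinitePresentation (pullback.snd g G.t ≫ G.s) ∧ (∀ q, Grpd.IsCMAt (pullback.snd (pullback.snd g G.t ≫ G.s) g) q) ∧ LocallyOfFinitePresentation (pullback.snd (pullback.snd g G.t ≫ G.s) g) ∧ (∀ q, Grpd.IsCMAt (pullback.fst (pullback.snd g G.t ≫ G.s) g ≫ pullback.fst g G.t) q) ∧ LocallyOfFinitePresentation (pullback.fst (pullback.snd g G.t ≫ G.s) g ≫ pullback.fst g G.t) ∧ FlatMor.fibreDimAt (pullback.snd g G.t ≫ G.s) p = topologicalKrullDim ↥(G.stabilizerToU.fiber u) := by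
  have := flat_of_isCMAt G.s hs
  have := flat_of_isCMAt G.t ht
  obtain ⟨W₀, hW, huW, hmax⟩ := exists_affine_maximal u hu
  have hle := dim_stab_le_fibreDimAt G u
  obtain ⟨d, hd⟩ := FlatMor12.exists_fibreDimAt_eq_nat G.s (G.e u)
  obtain ⟨m, hm⟩ : ∃ m : ℕ, topologicalKrullDim ↥(G.stabilizerToU.fiber u) + (m : WithBot ℕ∞) = (d : WithBot ℕ∞) := by
    have h0 : (0 : WithBot ℕ∞) ≤ topologicalKrullDim ↥(G.stabilizerToU.fiber u) := by
      have : Nonempty ↥(G.stabilizerToU.fiber u) := by
        obtain ⟨z, -⟩ : G.eStab u ∈ Set.range (G.stabilizerToU.fiberι u) := by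
          rw [G.stabilizerToU.range_fiberι]
          show G.stabilizerToU (G.eStab u) = u
          rw [← Scheme.Hom.comp_apply, show G.eStab ≫ G.stabilizerToU = 𝟙 _ from pullback.lift_snd _ _ _]
          rfl
        exact ⟨z⟩
      rw [DimLib.topologicalKrullDim_eq_krullDim]
      exact Order.krullDim_nonneg
    rw [hd] at hle
    revert hle h0
    generalize topologicalKrullDim ↥(G.stabilizerToU.fiber u) = x
    intro hle h0
    induction x with
    | bot => exact absurd h0 (by simp)
    | coe x =>
      induction x using ENat.recTopCoe with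
      | top =>
        rw [← WithBot.coe_natCast, WithBot.coe_le_coe] at hle
        exact absurd hle (not_le.2 (ENat.natCast_lt_top d))
      | coe x =>
        have hxd : x ≤ d := by exact_mod_cast hle
        refine ⟨d - x, ?_⟩
        show ((x : ℕ) : WithBot ℕ∞) + _ = _
        rw [← Nat.cast_add]
        congr 1
        omega
  obtain ⟨Z, g, x, hZ, hgi, hgp, hgz, hx, hτp, hfl, hcm, hdim⟩ :=
    exists_cut_point G hW u huW hmax (hs _).2 m (by rw [hd, hm])
  rw [hd, ← hm] at hdim
  have hd₁ : FlatMor.fibreDimAt (τ G.s G.t g) x = topologicalKrullDim ↥(G.stabilizerToU.fiber u) := by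
    revert hdim
    generalize FlatMor.fibreDimAt (τ G.s G.t g) x = a
    generalize topologicalKrullDim ↥(G.stabilizerToU.fiber u) = b
    intro h
    induction a with
    | bot => induction b with
      | bot => rfl
      | coe b => rw [WithBot.bot_add] at h; exact absurd h.symm (by rw [← WithBot.coe_natCast, ← WithBot.coe_add]; exact WithBot.coe_ne_bot)
    | coe a => induction b with
      | bot => rw [WithBot.bot_add] at h; exact absurd h (by rw [← WithBot.coe_natCast, ← WithBot.coe_add]; exact WithBot.coe_ne_bot)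
      | coe b =>
        rw [← WithBot.coe_natCast, ← WithBot.coe_add, ← WithBot.coe_add, WithBot.coe_inj] at h
        rw [WithBot.coe_inj]
        exact (ENat.add_left_injective_of_ne_top (ENat.natCast_ne_top m)) h
  have hsat : Saturated G.s G.t := fun {_} hπ {_} => saturated_grpd G hπ
  let D := locus G.s G.t _ etPtProp_cm g
  obtain ⟨_, ⟨O, hO', rfl⟩, hzO, hOD⟩ := Z.isBasis_affineOpens.exists_subset_of_mem_open
    (show pullback.snd G.t g x ∈ D from ⟨x, (CMBC25.moreMor_isCMAt_iff _ x).2 ⟨hfl, hcm⟩, rfl⟩) D.isOpen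
  have hO : IsAffineOpen (X := Z) O := hO'
  let j := Scheme.Opens.ι (X := Z) O
  let g' := j ≫ g
  have hτ' : LocallyOfFinitePresentation (τ G.s G.t g') := lfp_τ_comp G.s G.t g j
  have hall : ∀ y, MoreMor.IsCMAt (τ G.s G.t g') y := fun y =>
    prop_of_le_locus G.s G.t hsat etPtProp_cm g j (fun z => hOD z.2) y
  let k : pullback G.t g' ⟶ pullback G.t g := pullback.map _ _ _ _ (𝟙 _) j (𝟙 _) (by simp) (by simp [g'])
  have hk₁ : k ≫ pullback.fst G.t g = pullback.fst G.t g' := (pullback.lift_fst _ _ _).trans (Category.comp_id _)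
  have hk : IsPullback k (pullback.snd G.t g') (pullback.snd G.t g) j := by
    refine IsPullback.of_right ?_ (pullback.lift_snd _ _ _) (IsPullback.of_hasPullback G.t g)
    rw [hk₁]
    exact IsPullback.of_hasPullback G.t (j ≫ g)
  have : IsOpenImmersion k := MorphismProperty.of_isPullback (P := @IsOpenImmersion) hk.flip inferInstance
  obtain ⟨x', hxk, hxz⟩ := Stk19b.Boot.exists_preimage hk x ⟨pullback.snd G.t g x, hzO⟩ rfl
  have hx' : pullback.fst G.t g' x' = G.e u := by rw [← hk₁, Scheme.Hom.comp_apply, hxk, hx]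
  have hdim' : FlatMor.fibreDimAt (τ G.s G.t g') x' = topologicalKrullDim ↥(G.stabilizerToU.fiber u) := by
    rw [← hd₁, ← hxk]
    exact (Unram17Lib.fibreDimAt_eq_of_openImmersion k (𝟙 G.U) (h := τ G.s G.t g) (h' := τ G.s G.t g')
      (by rw [τ, τ, ← Category.assoc, hk₁, Category.comp_id]) x').symm
  let h := pullback.snd g' G.t ≫ G.s
  let σ := (pullbackSymmetry g' G.t).hom
  have hh : σ ≫ τ G.s G.t g' = h := by rw [τ, ← Category.assoc, pullbackSymmetry_hom_comp_fst]
  have hhp : LocallyOfFinitePresentation h := by rw [← hh]; infer_instance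
  have hhcm : ∀ q, MoreMor.IsCMAt h q := fun q => by
    rw [← hh]; exact (etPtProp_cm.etale_comp σ (τ G.s G.t g') q).2 (hall _)
  have hs'cm : ∀ q, MoreMor.IsCMAt (pullback.snd h g') q := fun q =>
    etPtProp_cm.baseChange (IsPullback.of_hasPullback h g') hhp q (hhcm _)
  have hs'p : LocallyOfFinitePresentation (pullback.snd h g') := inferInstance
  have ht' := restrInv_snd G g'
  refine ⟨_, hO, g', ⟨pullback.snd G.t g x, hzO⟩, (pullbackSymmetry g' G.t).inv x', inferInstance, inferInstance, hgz, ?_, ?_,
    fun q => (grpd_isCMAt_iff _ q).2 (hhcm q), hhp, fun q => (grpd_isCMAt_iff _ q).2 (hs'cm q), hs'p,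
    fun q => ?_, ?_, ?_⟩
  · rw [← Scheme.Hom.comp_apply, pullbackSymmetry_inv_comp_fst]; exact hxz
  · rw [← Scheme.Hom.comp_apply, pullbackSymmetry_inv_comp_snd, hx']
  · rw [grpd_isCMAt_iff, ← ht']
    exact (etPtProp_cm.etale_comp (restrInv G g') (pullback.snd h g') q).2 (hs'cm _)
  · rw [← ht']
    exact inferInstanceAs (LocallyOfFinitePresentation (restrInv G g' ≫ pullback.snd h g'))
  · rw [← hdim']
    refine ((Unram17Lib.fibreDimAt_eq_of_openImmersion σ (𝟙 G.U) (h := τ G.s G.t g') (h' := h)
      (by rw [hh, Category.comp_id]) _).symm.trans ?_)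
    rw [← Scheme.Hom.comp_apply, Iso.inv_hom_id]
    rfl

end Groth.Agent.S7507
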