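import Groth.Statements.S7508
import Groth.Agent.Stk19b.QDMSlice.GrpdMain
open Groth.Agent

set_option autoImplicit false
universe u
open CategoryTheory CategoryTheory.Limits AlgebraicGeometry
open Grpd

set_option backward.isDefEq.respectTransparency.types false
set_option backward.isDefEq.respectTransparency false

namespace Groth.Agent.S7508


/-- Let (U, R, s, t, c, e, i) be a groupoid scheme over S with s and t Cohen-Macaulay and locally of
finite presentation, assume the stabilizer G -> U is locally quasi-finite (locally of finite type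
with discrete fibres), and let u be a finite type point of U. Then there exist an affine scheme U',
an immersion g : U' -> U locally of finite presentation and a point u' with g(u') = u such that h =
s ∘ pr_1 : U' x_(g,U,t) R -> U and the source and target s', t' : R' -> U' of the restriction R' =
(U' x_(g,U,t) R) x_(h,U,g) U' are flat, locally of finite presentation and locally quasi-finite.
Here a morphism is Cohen-Macaulay when it is Cohen-Macaulay at every point of its source (flat there
with Cohen-Macaulay fibre local ring, Grpd.IsCMAt), and a finite type point u is one for which Spec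
κ(u) -> U is locally of finite type. (A groupoid scheme carries U, R, s, t, c, e, i over S with the
groupoid axioms on T-points; c is defined on the fibre product of s and t and sends a pair (a, b)
with s(a) = t(b) to a composed with b.) -/
theorem result (S : Scheme.{u}) (G : Grpd.GroupoidScheme S) [LocallyOfFinitePresentation G.s] [LocallyOfFinitePresentation G.t] (hs : ∀ r : G.R, Grpd.IsCMAt G.s r) (ht : ∀ r : G.R, Grpd.IsCMAt G.t r) [LocallyOfFiniteType G.stabilizerToU] [LocallyQuasiFinite G.stabilizerToU] (u : G.U) (hu : LocallyOfFiniteType (G.U.fromSpecResidueField u)) : ∃ (U' : Scheme.{u}) (_ : IsAffine U') (g : U' ⟶ G.U) (u' : U'), IsImmersion g ∧ LocallyOfFinitePresentation g ∧ g u' = u ∧ (Flat (pullback.snd g G.t ≫ G.s) ∧ LocallyOfFinitePresentation (pullback.snd g G.t ≫ G.s) ∧ LocallyOfFiniteType (pullback.snd g G.t ≫ G.s) ∧ LocallyQuasiFinite (pullback.snd g G.t ≫ G.s)) ∧ (Flat (pullback.snd (pullback.snd g G.t ≫ G.s) g) ∧ LocallyOfFinitePresentation (pullback.snd (pullback.snd g G.t ≫ G.s) g) ∧ LocallyQuasiFinite (pullback.snd (pullback.snd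 g G.t ≫ G.s) g)) ∧ (Flat (pullback.fst (pullback.snd g G.t ≫ G.s) g ≫ pullback.fst g G.t) ∧ LocallyOfFinitePresentation (pullback.fst (pullback.snd g G.t ≫ G.s) g ≫ pullback.fst g G.t) ∧ LocallyQuasiFinite (pullback.fst (pullback.snd g G.t ≫ G.s) g ≫ pullback.fst g G.t)) := by
  haveI : Flat G.s := Flat.of_stalkMap _ fun r => (hs r).1
  haveI : Flat G.t := Flat.of_stalkMap _ fun r => (ht r).1
  obtain ⟨Z, hZ, g, z, hgi, hgp, hgz, hf, hp, hq⟩ :=
    Stk19b.QDMSlice.exists_grpd_slice G (fun r => (hs r).2) u hu
  have e : pullback.snd g G.t ≫ G.s = (pullbackSymmetry g G.t).hom ≫ Stk19b.QDMSlice.τ G.s G.t g := by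
    rw [Stk19b.QDMSlice.τ, pullbackSymmetry_hom_comp_fst_assoc]
  have h1 : Flat (pullback.snd g G.t ≫ G.s) := by rw [e]; infer_instance
  have h2 : LocallyOfFinitePresentation (pullback.snd g G.t ≫ G.s) := by rw [e]; infer_instance
  have h3 : LocallyQuasiFinite (pullback.snd g G.t ≫ G.s) := by rw [e]; infer_instance
  let h := pullback.snd g G.t ≫ G.s
  have s1 : Flat (pullback.snd h g) := inferInstance
  have s2 : LocallyOfFinitePresentation (pullback.snd h g) := inferInstance
  have s3 : LocallyQuasiFinite (pullback.snd h g) := inferInstance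
  let r := pullback.fst h g ≫ pullback.snd g G.t
  have hr_s : r ≫ G.s = pullback.snd h g ≫ g := by rw [Category.assoc]; exact pullback.condition
  have hr_t : r ≫ G.t = (pullback.fst h g ≫ pullback.fst g G.t) ≫ g := by
    rw [Category.assoc, Category.assoc, pullback.condition]
  let inv : pullback h g ⟶ pullback h g := pullback.lift
    (pullback.lift (pullback.snd h g) (r ≫ G.i) (by rw [Category.assoc, G.i_t, hr_s]))
    (pullback.fst h g ≫ pullback.fst g G.t)
    (by rw [pullback.lift_snd_assoc, Category.assoc, G.i_s, hr_t])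
  have i1 : inv ≫ pullback.snd h g = pullback.fst h g ≫ pullback.fst g G.t := pullback.lift_snd _ _ _
  have i2 : inv ≫ pullback.fst h g ≫ pullback.fst g G.t = pullback.snd h g := by
    rw [pullback.lift_fst_assoc, pullback.lift_fst]
  have i3 : inv ≫ r = r ≫ G.i := by rw [pullback.lift_fst_assoc, pullback.lift_snd]
  have hii : G.i ≫ G.i = 𝟙 G.R := GrpdLib.i_comp_i G
  have hinv : inv ≫ inv = 𝟙 _ := by
    apply pullback.hom_ext
    · rw [Category.assoc, pullback.lift_fst, Category.id_comp]
      apply pullback.hom_ext
      · rw [Category.assoc, pullback.lift_fst, i1]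
      · rw [Category.assoc, pullback.lift_snd, reassoc_of% i3, hii, Category.comp_id]
    · rw [Category.assoc, i1, i2, Category.id_comp]
  haveI : IsIso inv := ⟨inv, hinv, hinv⟩
  refine ⟨Z, hZ, g, z, hgi, hgp, hgz, ⟨h1, h2, inferInstance, h3⟩, ⟨s1, s2, s3⟩, ?_, ?_, ?_⟩
  all_goals rw [← i1]; infer_instance

end Groth.Agent.S7508
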