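import Groth.Statements.S7509
import Groth.Agent.GrpdField.Image

set_option autoImplicit false
universe u
open CategoryTheory CategoryTheory.Limits AlgebraicGeometry
open Grpd

namespace Groth.Agent.S7509

theorem quasiCompact_j {S : Scheme.{u}} (G : Grpd.GroupoidScheme S) (k : Type u) [Field k]
    (eU : G.U ≅ Spec (CommRingCat.of k)) [CompactSpace G.R] : QuasiCompact G.j := by
  haveI : IsAffine G.U := IsAffine.of_isIso eU.hom
  haveI : IsSeparated (terminal.from G.U) := (inferInstance : G.U.IsSeparated).isSeparated_terminal_from
  haveI : IsSeparated (G.pU ≫ terminal.from S) := by rw [terminal.comp_from]; infer_instance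
  haveI : IsSeparated G.pU := IsSeparated.of_comp G.pU (terminal.from S)
  haveI : IsSeparated (pullback.fst G.pU G.pU) := inferInstance
  haveI : IsSeparated (terminal.from (pullback G.pU G.pU)) := by
    rw [← terminal.comp_from (pullback.fst G.pU G.pU)]; infer_instance
  haveI : QuasiCompact (G.j ≫ terminal.from (pullback G.pU G.pU)) := by
    rw [terminal.comp_from]
    exact (quasiCompact_iff_compactSpace _).2 ‹_›
  exact QuasiCompact.of_comp G.j (terminal.from (pullback G.pU G.pU))


/-- Let (U, R, s, t, c) be a groupoid scheme over S with U the spectrum of a field and R quasi-compact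
(equivalently s, t quasi-compact), and let Z be the scheme-theoretic image of j = (t, s) : R -> U
x_S U. Then (U, Z, pr_0|_Z, pr_1|_Z, pr_02) is a groupoid scheme over S; stated as: there are a
groupoid scheme G' over S and a morphism of groupoid schemes φ : (U, R, s, t, c) -> G' which is an
isomorphism on object schemes, such that j' : G'.R -> G'.U x_S G'.U is a closed immersion whose
kernel ideal sheaf equals the kernel ideal sheaf of j followed by the induced isomorphism U x_S U ->
G'.U x_S G'.U (so G'.R is the scheme-theoretic image of j, transported). (A groupoid scheme carries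
U, R, s, t, c, e, i over S with the groupoid axioms on T-points; c is defined on the fibre product
of s and t and sends a pair (a, b) with s(a) = t(b) to a composed with b.) -/
theorem result (S : Scheme.{u}) (G : Grpd.GroupoidScheme S) (k : Type u) [Field k] (eU : G.U ≅ Spec (CommRingCat.of k)) [CompactSpace G.R] : ∃ (G' : Grpd.GroupoidScheme S) (φ : Grpd.GroupoidScheme.Hom G G'), IsIso φ.fU ∧ IsClosedImmersion G'.j ∧ G'.j.ker = (G.j ≫ pullback.map G.pU G.pU G'.pU G'.pU φ.fU φ.fU (𝟙 S) ((Category.comp_id _).trans φ.fU_over.symm) ((Category.comp_id _).trans φ.fU_over.symm)).ker := by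
  haveI := quasiCompact_j G k eU
  obtain ⟨G', u, w, hU, hu, hcl, hwt, hws, hker⟩ := GrpdField.exists_image_j G eU
  let r : G.R ⟶ G'.R := IsClosedImmersion.lift w G.j hker.le
  have hr : r ≫ w = G.j := IsClosedImmersion.lift_fac _ _ _
  have hs : r ≫ G'.s = G.s ≫ inv u := by
    rw [IsIso.eq_comp_inv, Category.assoc, ← hws, ← Category.assoc, hr]
    exact pullback.lift_snd _ _ _
  have ht : r ≫ G'.t = G.t ≫ inv u := by
    rw [IsIso.eq_comp_inv, Category.assoc, ← hwt, ← Category.assoc, hr]
    exact pullback.lift_fst _ _ _
  have hv : inv u ≫ G'.pU = G.pU := by rw [IsIso.inv_comp_eq, hu]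
  let φ : Grpd.GroupoidScheme.Hom G G' :=
    { fU := inv u, fR := r, fU_over := hv, comm_s := hs, comm_t := ht
      comm_c := fun α β h => by
        have h' : (α ≫ r) ≫ G'.s = (β ≫ r) ≫ G'.t := by rw [Category.assoc, Category.assoc, hs, ht, reassoc_of% h]
        rw [← cancel_mono w]
        have f1 : r ≫ w ≫ pullback.fst G.pU G.pU = G.t := by
          rw [← Category.assoc, hr]; exact pullback.lift_fst _ _ _
        have f2 : r ≫ w ≫ pullback.snd G.pU G.pU = G.s := by
          rw [← Category.assoc, hr]; exact pullback.lift_snd _ _ _
        have c1 := (G'.comp_t (α ≫ r) (β ≫ r) h') =≫ u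
        have c2 := (G'.comp_s (α ≫ r) (β ≫ r) h') =≫ u
        simp only [Category.assoc] at c1 c2
        have d1 := G.comp_t α β h
        have d2 := G.comp_s α β h
        simp only [Category.assoc] at d1 d2
        apply pullback.hom_ext
        · simp only [Category.assoc, f1]
          rw [d1, hwt]
          refine Eq.trans ?_ c1.symm
          rw [← hwt, f1]
        · simp only [Category.assoc, f2]
          rw [d2, hws]
          refine Eq.trans ?_ c2.symm
          rw [← hws, f2] }
  let m := pullback.map G.pU G.pU G'.pU G'.pU (inv u) (inv u) (𝟙 S)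
    ((Category.comp_id _).trans hv.symm) ((Category.comp_id _).trans hv.symm)
  have hj : G'.j = w ≫ m := by
    apply pullback.hom_ext
    · rw [Category.assoc, pullback.lift_fst, ← Category.assoc, hwt, Category.assoc, IsIso.hom_inv_id,
        Category.comp_id]
      exact pullback.lift_fst _ _ _
    · rw [Category.assoc, pullback.lift_snd, ← Category.assoc, hws, Category.assoc, IsIso.hom_inv_id,
        Category.comp_id]
      exact pullback.lift_snd _ _ _
  refine ⟨G', φ, inferInstanceAs (IsIso (inv u)), ?_, ?_⟩
  · rw [hj]
    infer_instance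
  · show G'.j.ker = (G.j ≫ m).ker
    rw [hj, ← Scheme.IdealSheafData.map_ker, ← Scheme.IdealSheafData.map_ker, hker]

end Groth.Agent.S7509
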