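import Groth.Statements.S7510
import Mathlib.AlgebraicGeometry.Restrict

set_option autoImplicit false
universe u
open CategoryTheory CategoryTheory.Limits AlgebraicGeometry
open Grpd

namespace Groth.Agent.S7510
open Limits

/-- Let (U, R, s, t, c, e, i) be a groupoid scheme over S and g : U' -> U a morphism; write h = s ∘ pr_1
: U' x_(g,U,t) R -> U. Let P, Q, R be properties of morphisms of schemes, with P invariant under
composition with isomorphisms, such that (1) R implies Q, (2) Q is stable under base change and
composition, (3) every morphism f : X -> Y with Q has a largest open W(P, f) of X on which the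
restriction of f has P (given here as a function W with these two properties), and (4) for f with Q
and a base change along Y' -> Y with R, the preimage of W(P, f) in X x_Y Y' is W(P, f') for the base
change f'. If s, t have R and g has Q, then there is an open W of U' whose preimage in U' x_(g,U,t)
R equals W(P, h). (The published statement speaks of arbitrary properties of morphisms; this row
asks P to be invariant under composition with isomorphisms, which the proof uses to identify the
largest opens on the two isomorphic fibre products of h with t and with s.) (A groupoid scheme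
carries U, R, s, t, c, e, i over S with the groupoid axioms on T-points; c is defined on the fibre
product of s and t and sends a pair (a, b) with s(a) = t(b) to a composed with b.) -/
theorem result (S : Scheme.{u}) (G : Grpd.GroupoidScheme S) {U' : Scheme.{u}} (g : U' ⟶ G.U) (P Q R : MorphismProperty Scheme.{u}) [P.RespectsIso] (hRQ : R ≤ Q) [Q.IsStableUnderBaseChange] [Q.IsStableUnderComposition] (W : ∀ {X Y : Scheme.{u}} (f : X ⟶ Y), Q f → X.Opens) (hWP : ∀ {X Y : Scheme.{u}} (f : X ⟶ Y) (hf : Q f), P ((W f hf).ι ≫ f)) (hWmax : ∀ {X Y : Scheme.{u}} (f : X ⟶ Y) (hf : Q f) (V : X.Opens), P (V.ι ≫ f) → V ≤ W f hf) (hWbc : ∀ {X Y Y' : Scheme.{u}} (f : X ⟶ Y) (hf : Q f) (b : Y' ⟶ Y), R b → ∀ hf' : Q (pullback.snd f b), pullback.fst f b ⁻¹ᵁ W f hf = W (pullback.snd f b) hf') (hs : R G.s) (ht : R G.t) (hg : Q g) (hh : Q (pullback.snd g G.t ≫ G.s)) : ∃ V : U'.Opens, pullback.fst g G.t ⁻¹ᵁ V = W (pullback.snd g G.t ≫ G.s) hh := by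
  let h := pullback.snd g G.t ≫ G.s
  let σ : U' ⟶ pullback g G.t := pullback.lift (𝟙 U') (g ≫ G.e) (by rw [Category.assoc, G.e_t, Category.comp_id, Category.id_comp])
  let p := pullback.snd h G.t
  have hα : (pullback.fst h G.t ≫ pullback.snd g G.t) ≫ G.s = p ≫ G.t :=
    (Category.assoc _ _ _).trans pullback.condition
  let γ := pullback.lift (pullback.fst h G.t ≫ pullback.snd g G.t) p hα ≫ G.c
  let m : pullback h G.t ⟶ pullback g G.t :=
    pullback.lift (pullback.fst h G.t ≫ pullback.fst g G.t) γ (by
      rw [G.comp_t, Category.assoc, Category.assoc, pullback.condition])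
  have hm1 : m ≫ pullback.fst g G.t = pullback.fst h G.t ≫ pullback.fst g G.t := pullback.lift_fst _ _ _
  have hm2 : m ≫ pullback.snd g G.t = γ := pullback.lift_snd _ _ _
  have w : m ≫ h = p ≫ G.s := by
    rw [show m ≫ h = (m ≫ pullback.snd g G.t) ≫ G.s from (Category.assoc _ _ _).symm, hm2]
    exact G.comp_s _ _ hα
  let q := pullback.snd h G.s
  let δ := pullback.fst h G.s ≫ pullback.snd g G.t
  have hδ : δ ≫ G.s = (q ≫ G.i) ≫ G.t := by
    rw [Category.assoc, Category.assoc, G.i_t]; exact pullback.condition
  let back : pullback h G.s ⟶ pullback h G.t :=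
    pullback.lift (pullback.lift (pullback.fst h G.s ≫ pullback.fst g G.t)
      (pullback.lift δ (q ≫ G.i) hδ ≫ G.c) (by rw [G.comp_t, Category.assoc, Category.assoc, pullback.condition]))
      q (by
        change _ ≫ pullback.snd g G.t ≫ G.s = q ≫ G.t
        rw [pullback.lift_snd_assoc, G.comp_s, Category.assoc, G.i_s])
  let φ : pullback h G.t ≅ pullback h G.s :=
    { hom := pullback.lift m p w
      inv := back
      hom_inv_id := by
        apply pullback.hom_ext
        · rw [Category.assoc, pullback.lift_fst, Category.id_comp]
          apply pullback.hom_ext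
          · rw [Category.assoc, pullback.lift_fst, pullback.lift_fst_assoc, hm1]
          · rw [Category.assoc, pullback.lift_snd]
            have e1 : pullback.lift m p w ≫ pullback.lift δ (q ≫ G.i) hδ = pullback.lift γ (p ≫ G.i) (by
                rw [Category.assoc p G.i G.t, G.i_t]; exact G.comp_s _ _ hα) := by
              apply pullback.hom_ext
              · rw [Category.assoc, pullback.lift_fst, pullback.lift_fst, ← hm2, pullback.lift_fst_assoc]
              · rw [Category.assoc, pullback.lift_snd, pullback.lift_snd, pullback.lift_snd_assoc]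
            rw [← Category.assoc, e1, G.assoc _ _ _ hα (by rw [Category.assoc, G.i_t])]
            rw [show pullback.lift (pullback.fst h G.t ≫ pullback.snd g G.t)
                (pullback.lift p (p ≫ G.i) _ ≫ G.c) _ =
                pullback.lift (pullback.fst h G.t ≫ pullback.snd g G.t)
                  ((pullback.fst h G.t ≫ pullback.snd g G.t) ≫ G.s ≫ G.e) (by
                    rw [Category.assoc _ (G.s ≫ G.e) G.t, Category.assoc G.s, G.e_t, Category.comp_id]) from
              pullback.hom_ext ((pullback.lift_fst _ _ _).trans (pullback.lift_fst _ _ _).symm) (by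
                rw [pullback.lift_snd, pullback.lift_snd, G.comp_i, ← Category.assoc, ← hα]
                simp only [Category.assoc])]
            exact G.comp_e _
        · rw [Category.assoc, pullback.lift_snd, pullback.lift_snd, Category.id_comp]
      inv_hom_id := by
        apply pullback.hom_ext
        · rw [Category.assoc, pullback.lift_fst, Category.id_comp]
          apply pullback.hom_ext
          · rw [Category.assoc, hm1, pullback.lift_fst_assoc, pullback.lift_fst]
          · rw [Category.assoc, hm2]
            have e1 : back ≫ pullback.lift (pullback.fst h G.t ≫ pullback.snd g G.t) p hα =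
                pullback.lift (pullback.lift δ (q ≫ G.i) hδ ≫ G.c) q (by
                  rw [G.comp_s, Category.assoc, G.i_s]) := by
              apply pullback.hom_ext
              · rw [Category.assoc, pullback.lift_fst, pullback.lift_fst, pullback.lift_fst_assoc, pullback.lift_snd]
              · rw [Category.assoc, pullback.lift_snd, pullback.lift_snd, pullback.lift_snd]
            rw [← Category.assoc, e1, G.assoc _ _ _ hδ (by rw [Category.assoc, G.i_s])]
            rw [show pullback.lift δ (pullback.lift (q ≫ G.i) q _ ≫ G.c) _ =
                pullback.lift δ (δ ≫ G.s ≫ G.e) (by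
                    rw [Category.assoc δ (G.s ≫ G.e) G.t, Category.assoc G.s, G.e_t, Category.comp_id]) from
              pullback.hom_ext ((pullback.lift_fst _ _ _).trans (pullback.lift_fst _ _ _).symm) (by
                rw [pullback.lift_snd, pullback.lift_snd, G.i_comp, ← Category.assoc δ, hδ, Category.assoc q,
                  G.i_t, Category.assoc])]
            exact G.comp_e _
        · rw [Category.assoc, pullback.lift_snd, pullback.lift_snd, Category.id_comp] }
  haveI : IsIso φ.hom := φ.isIso_hom
  haveI : IsIso φ.inv := φ.isIso_inv
  have hQt : Q p := MorphismProperty.pullback_snd h G.t hh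
  have hQs : Q q := MorphismProperty.pullback_snd h G.s hh
  have hiso : φ.hom ⁻¹ᵁ W q hQs = W p hQt := by
    have hP : ∀ {X X' Y : Scheme.{u}} (e : X' ⟶ X) [IsIso e] (f : X ⟶ Y) (V : X.Opens),
        P (V.ι ≫ f) → P ((e ⁻¹ᵁ V).ι ≫ e ≫ f) := by
      intro X X' Y e _ f V hV
      rw [← Category.assoc, ← morphismRestrict_ι e V, Category.assoc]
      exact (MorphismProperty.cancel_left_of_respectsIso P (e ∣_ V) _).2 hV
    refine le_antisymm (hWmax p hQt _ ?_) ?_
    · have := hP φ.hom q _ (hWP q hQs)
      rwa [show φ.hom ≫ q = p from pullback.lift_snd _ _ _] at this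
    · intro x hx
      have := hP φ.inv p _ (hWP p hQt)
      rw [show φ.inv ≫ p = q from pullback.lift_snd _ _ _] at this
      refine hWmax q hQs _ this ?_
      change φ.inv (φ.hom x) ∈ W p hQt
      rwa [← Scheme.Hom.comp_apply, φ.hom_inv_id]
  rw [← hWbc h hh G.t ht hQt, ← hWbc h hh G.s hs hQs] at hiso
  refine ⟨σ ⁻¹ᵁ W h hh, ?_⟩
  let τ : pullback g G.t ⟶ pullback h G.t := pullback.lift (pullback.fst g G.t ≫ σ) (pullback.snd g G.t) (by
    change (_ ≫ σ) ≫ pullback.snd g G.t ≫ G.s = _
    rw [Category.assoc, pullback.lift_snd_assoc, Category.assoc, G.e_s, Category.comp_id, pullback.condition])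
  have hτ : τ ≫ m = 𝟙 _ := by
    apply pullback.hom_ext
    · rw [Category.assoc, hm1, pullback.lift_fst_assoc, Category.assoc, pullback.lift_fst, Category.comp_id,
        Category.id_comp]
    · rw [Category.assoc, hm2, Category.id_comp, ← Category.assoc]
      rw [show τ ≫ pullback.lift (pullback.fst h G.t ≫ pullback.snd g G.t) p hα =
          pullback.lift (pullback.snd g G.t ≫ G.t ≫ G.e) (pullback.snd g G.t) (by
            rw [Category.assoc, Category.assoc, G.e_s, Category.comp_id]) from by
        apply pullback.hom_ext
        · rw [Category.assoc, pullback.lift_fst, pullback.lift_fst, pullback.lift_fst_assoc, Category.assoc,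
            pullback.lift_snd, pullback.condition_assoc]
        · rw [Category.assoc, pullback.lift_snd, pullback.lift_snd, pullback.lift_snd]]
      exact G.e_comp _
  ext x
  have hx := congrArg (fun O : (pullback h G.t).Opens => τ x ∈ O) hiso
  change (pullback.fst h G.s (φ.hom (τ x)) ∈ W h hh) = (pullback.fst h G.t (τ x) ∈ W h hh) at hx
  rw [← Scheme.Hom.comp_apply, ← Scheme.Hom.comp_apply, ← Scheme.Hom.comp_apply,
    show τ ≫ φ.hom ≫ pullback.fst h G.s = 𝟙 _ from by rw [pullback.lift_fst, hτ],
    show τ ≫ pullback.fst h G.t = pullback.fst g G.t ≫ σ from pullback.lift_fst _ _ _] at hx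
  exact hx.symm.to_iff

end Groth.Agent.S7510
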