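import Mathlib.AlgebraicGeometry.Sites.Fpqc
import Groth.Prelude.Def_HTop
import Groth.Agent.HTop16.QcBind
import Mathlib.AlgebraicGeometry.Limits
import Mathlib.AlgebraicGeometry.Morphisms.Flat

set_option autoImplicit false
universe u
namespace CategoryTheory
end CategoryTheory
namespace CategoryTheory.Limits
end CategoryTheory.Limits
namespace AlgebraicGeometry
end AlgebraicGeometry
open CategoryTheory CategoryTheory.Limits AlgebraicGeometry
namespace HTop
end HTop
open HTop

namespace Groth.Agent.S7511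

/-- Let {f_i : T_i -> T} be a family of morphisms of schemes (indexed by a type in the universe of T, so
that the coproduct exists). Then it is an fpqc covering if and only if the one-arrow family
consisting of the induced morphism from the coproduct of the T_i to T is an fpqc covering. -/
theorem result {T : Scheme.{u}} (E : PreZeroHypercover.{u} T) : E.presieve₀ ∈ Scheme.fpqcPrecoverage T ↔ Presieve.singleton (Sigma.desc E.f) ∈ Scheme.fpqcPrecoverage T := by
  rw [show Presieve.singleton (Sigma.desc E.f) = (PreZeroHypercover.singleton.{0} (Sigma.desc E.f)).presieve₀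
    from (PreZeroHypercover.presieve₀_singleton _).symm]
  have hsurj : ∀ t : T, (∃ i, t ∈ Set.range (E.f i)) ↔ t ∈ Set.range (Sigma.desc E.f) := fun t => by
    constructor
    · rintro ⟨i, x, rfl⟩
      exact ⟨Sigma.ι E.X i x, by rw [← Scheme.Hom.comp_apply, Sigma.ι_desc]⟩
    · rintro ⟨y, rfl⟩
      obtain ⟨i, x, rfl⟩ := (sigmaOpenCover E.X).exists_eq y
      exact ⟨i, x, by rw [← Scheme.Hom.comp_apply]; exact congr($(Sigma.ι_desc E.f i) x).symm⟩
  have hflat : (∀ i, Flat (E.f i)) ↔ Flat (Sigma.desc E.f) :=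
    ⟨fun h => IsZariskiLocalAtSource.sigmaDesc h, fun h i => by
      haveI := h
      rw [← Sigma.ι_desc E.f i]
      infer_instance⟩
  refine ⟨fun ⟨hq, hp⟩ => ⟨?_, ?_⟩, fun ⟨hq, hp⟩ => ⟨?_, ?_⟩⟩
  · haveI := Scheme.presieve₀_mem_qcPrecoverage_iff.1 hq
    exact Scheme.presieve₀_mem_qcPrecoverage_iff.2 (QuasiCompactCover.of_hom (𝒱 := E)
      { s₀ := fun _ => PUnit.unit, h₀ := fun i => Sigma.ι E.X i, w₀ := fun i => Sigma.ι_desc _ _ })
  · rw [Scheme.presieve₀_mem_precoverage_iff] at hp ⊢
    exact ⟨fun t => ⟨PUnit.unit, (hsurj t).1 (hp.1 t)⟩, fun _ => hflat.1 hp.2⟩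
  · haveI := Scheme.presieve₀_mem_qcPrecoverage_iff.1 hq
    haveI : QuasiCompactCover (PreZeroHypercover.singleton.{u} (Sigma.desc E.f)) :=
      QuasiCompactCover.of_hom (𝒱 := PreZeroHypercover.singleton.{0} (Sigma.desc E.f))
        { s₀ := fun _ => PUnit.unit, h₀ := fun _ => 𝟙 _, w₀ := fun _ => Category.id_comp _ }
    haveI : ∀ x : (PreZeroHypercover.singleton.{u} (Sigma.desc E.f)).I₀,
        QuasiCompactCover ((fun _ => (sigmaOpenCover E.X).toPreZeroHypercover) x :
          PreZeroHypercover.{u} (∐ E.X)) := fun _ => inferInstance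
    let B := (PreZeroHypercover.singleton.{u} (Sigma.desc E.f)).bind
      fun _ => (sigmaOpenCover E.X).toPreZeroHypercover
    haveI : QuasiCompactCover B := by
      exact HTop16.QcBind.quasiCompactCover_bind _ _ fun _ => inferInstance
    exact Scheme.presieve₀_mem_qcPrecoverage_iff.2 (QuasiCompactCover.of_hom (𝒱 := B)
      { s₀ := fun i => i.2, h₀ := fun i => 𝟙 _, w₀ := fun i => by
          change 𝟙 _ ≫ E.f i.2 = Sigma.ι E.X i.2 ≫ Sigma.desc E.f
          rw [Category.id_comp, Sigma.ι_desc] })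
  · rw [Scheme.presieve₀_mem_precoverage_iff] at hp ⊢
    exact ⟨fun t => (hsurj t).2 (by obtain ⟨_, h⟩ := hp.1 t; exact h), hflat.2 (hp.2 PUnit.unit)⟩

end Groth.Agent.S7511
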