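import Groth.Prelude.Def_HTop
import Mathlib.AlgebraicGeometry.Sites.Fpqc
import Mathlib.AlgebraicGeometry.Morphisms.Flat
import Groth.Prelude.Def_HTop

set_option autoImplicit false
universe w u
namespace HTop
end HTop
open HTop

namespace Groth.Agent.S7512

open CategoryTheory CategoryTheory.Limits AlgebraicGeometry in
/-- Let {f_i : T_i -> T} be a family of flat morphisms of schemes. Assume that for every affine scheme Z
and every morphism h : Z -> T there is a standard fpqc covering of Z (a finite family of flat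
morphisms Z_j -> Z with Z_j affine whose images cover Z) refining the family of base changes {T_i
x_T Z -> Z} (every Z_j -> Z factors through some T_i compatibly with h). Then {f_i : T_i -> T} is an
fpqc covering (in Mathlib's sense). -/
theorem result {T : Scheme.{u}} (E : PreZeroHypercover.{w} T) (hflat : ∀ i, Flat (E.f i)) (href : ∀ (Z : Scheme.{u}) [IsAffine Z] (h : Z ⟶ T), ∃ F : PreZeroHypercover.{0} Z, Finite F.I₀ ∧ (∀ j, IsAffine (F.X j)) ∧ (∀ j, Flat (F.f j)) ∧ (∀ z : Z, ∃ (j : F.I₀) (x : F.X j), F.f j x = z) ∧ HTop.RefinesOver h F E) : E.presieve₀ ∈ Scheme.fpqcPrecoverage T := by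
  refine ⟨Scheme.presieve₀_mem_qcPrecoverage_iff.2 ⟨fun {U} hU => ?_⟩,
    (Scheme.presieve₀_mem_precoverage_iff E).2 ⟨fun t => ?_, hflat⟩⟩
  · haveI : IsAffine (U : Scheme.{u}) := hU
    obtain ⟨F, hfin, haff, -, hsurj, hr⟩ := href (U : Scheme.{u}) U.ι
    choose i a ha using hr
    have key : ∀ j, ∃ W : (E.X (i j)).Opens, IsCompact (W : Set (E.X (i j))) ∧
        Set.range (a j) ⊆ W ∧ W ≤ E.f (i j) ⁻¹ᵁ U := fun j => by
      haveI := haff j
      have hK : IsCompact (Set.range (a j)) := isCompact_range (a j).continuous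
      obtain ⟨s, hs⟩ := hK.elim_finite_subcover
        (fun O : {O : (E.X (i j)).Opens // IsAffineOpen O ∧ O ≤ E.f (i j) ⁻¹ᵁ U} => (O.1 : Set (E.X (i j))))
        (fun O => O.1.isOpen) (by
          rintro _ ⟨y, rfl⟩
          have hy : a j y ∈ E.f (i j) ⁻¹ᵁ U := by
            change (a j ≫ E.f (i j)) y ∈ U
            rw [ha]
            exact (F.f j y).2
          obtain ⟨_, ⟨O, hO, rfl⟩, hyO, hle⟩ :=
            (E.X (i j)).isBasis_affineOpens.exists_subset_of_mem_open hy (E.f (i j) ⁻¹ᵁ U).isOpen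
          exact Set.mem_iUnion.2 ⟨⟨O, hO, hle⟩, hyO⟩)
      refine ⟨⟨⋃ O ∈ s, (O.1 : Set (E.X (i j))), isOpen_biUnion fun O _ => O.1.isOpen⟩,
        s.isCompact_biUnion fun O _ => O.2.1.isCompact, hs, ?_⟩
      intro y hy
      obtain ⟨O, hO, hyO⟩ := Set.mem_iUnion₂.1 hy
      exact O.2.2 hyO
    choose W hW haW hWU using key
    refine IsCompactOpenCovered.of_finite i W hW ?_
    refine Set.Subset.antisymm (Set.iUnion_subset fun j => Set.image_subset_iff.2 (hWU j)) fun x hx => ?_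
    obtain ⟨j, y, hy⟩ := hsurj ⟨x, hx⟩
    refine Set.mem_iUnion.2 ⟨j, a j y, haW j ⟨y, rfl⟩, ?_⟩
    change (a j ≫ E.f (i j)) y = x
    rw [ha, Scheme.Hom.comp_apply, hy]
    rfl
  · obtain ⟨_, ⟨U, hU, rfl⟩, ht, -⟩ :=
      T.isBasis_affineOpens.exists_subset_of_mem_open (Set.mem_univ t) isOpen_univ
    let U' : T.Opens := U
    haveI : IsAffine (U' : Scheme.{u}) := hU
    obtain ⟨F, -, -, -, hsurj, hr⟩ := href (U' : Scheme.{u}) U'.ι
    obtain ⟨j, x, hx⟩ := hsurj ⟨t, ht⟩
    obtain ⟨i, a, ha⟩ := hr j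
    refine ⟨i, a x, ?_⟩
    change (a ≫ E.f i) x = t
    rw [ha, Scheme.Hom.comp_apply, hx]
    rfl

end Groth.Agent.S7512
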