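import Groth.Statements.S7513
import Groth.Agent.GrpdLib.FitStrat
import Groth.Agent.S7457

set_option autoImplicit false
universe u
open CategoryTheory CategoryTheory.Limits AlgebraicGeometry
open Grpd

namespace Groth.Agent.S7513

/-- Let (U, R, s, t, c) be a groupoid scheme over S with s and t finite. Then there are closed
subschemes U = Z_0 ⊇ Z_1 ⊇ Z_2 ⊇ ..., each invariant under R, (given by quasi-coherent ideal sheaves
I_0 = 0 ≤ I_1 ≤ I_2 ≤ ...) with empty intersection such that for every r the restriction of s over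
the locally closed stratum Z_r minus Z_(r+1) (the open of the subscheme Z_r complementary to the
support of Z_(r+1)) is finite locally free of rank r + 1. R-invariance of Z_r is expressed as an
isomorphism between the pullbacks of s and of t along Z_r -> U compatible with the maps to R;
'finite locally free of rank n' is finite, flat, locally of finite presentation with constant rank
n. (A groupoid scheme carries U, R, s, t, c, e, i over S with the groupoid axioms on T-points; c is
defined on the fibre product of s and t and sends a pair (a, b) with s(a) = t(b) to a composed with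
b.) -/
theorem result (S : Scheme.{u}) (G : Grpd.GroupoidScheme S) [IsFinite G.s] [IsFinite G.t] : ∃ Z : ℕ → G.U.IdealSheafData, Z 0 = ⊥ ∧ Monotone Z ∧ (⋂ r, ((Z r).support : Set G.U)) = ∅ ∧ (∀ r, ∃ φ : pullback G.s (Z r).subschemeι ≅ pullback G.t (Z r).subschemeι, φ.hom ≫ pullback.fst G.t (Z r).subschemeι = pullback.fst G.s (Z r).subschemeι) ∧ ∀ r, Mor2.IsFinLocFreeOfDeg (r + 1) (pullback.snd G.s (((Z r).subschemeι ⁻¹ᵁ (Z (r + 1)).support.compl).ι ≫ (Z r).subschemeι)) := by
  have hii : IsFinite (pullback.snd G.s G.t) := inferInstance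
  let Z : ℕ → G.U.IdealSheafData := fun r => GrpdLib.FitStrat.fit G.s r
  have hinv : ∀ r, (Z r).comap G.s = (Z r).comap G.t := fun r =>
    (GrpdLib.FitStrat.comap_fit (Groth.Agent.S7457.result S G).2 r).trans
      (GrpdLib.FitStrat.comap_fit (IsPullback.of_hasPullback G.s G.t) r).symm
  refine ⟨Z, GrpdLib.FitStrat.fit_zero_eq_bot G.s G.e G.e_s, GrpdLib.FitStrat.fit_mono G.s, ?_, fun r => ?_,
    fun r => ?_⟩
  · refine Set.eq_empty_of_forall_notMem fun u hu => ?_
    obtain ⟨r, hr⟩ := GrpdLib.FitStrat.exists_notMem_support G.s u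
    exact hr (Set.mem_iInter.1 hu r)
  · have h := (hinv r).symm
    have := IsClosedImmersion.isIso_lift (pullback.fst G.t (Z r).subschemeι) (pullback.fst G.s (Z r).subschemeι) h
    exact ⟨asIso (IsClosedImmersion.lift (pullback.fst G.t (Z r).subschemeι)
      (pullback.fst G.s (Z r).subschemeι) h.le), IsClosedImmersion.lift_fac _ _ _⟩
  · let W := (Z r).subschemeι ⁻¹ᵁ (Z (r + 1)).support.compl
    let g := W.ι ≫ (Z r).subschemeι
    have hf : ∀ k, GrpdLib.FitStrat.fit (pullback.snd G.s g) k = (Z k).comap g := fun k =>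
      (GrpdLib.FitStrat.comap_fit (IsPullback.of_hasPullback G.s g) k).symm
    have h0 : ∀ k, k < r + 1 → GrpdLib.FitStrat.fit (pullback.snd G.s g) k = ⊥ := fun k hk => by
      rw [hf k]
      refine le_bot_iff.1 ?_
      refine (Scheme.IdealSheafData.comap_mono g (GrpdLib.FitStrat.fit_mono G.s (Nat.le_of_lt_succ hk))).trans ?_
      show (Z r).comap (W.ι ≫ (Z r).subschemeι) ≤ ⊥
      rw [Scheme.IdealSheafData.comap_comp]
      refine (Scheme.IdealSheafData.comap_mono W.ι
        (Scheme.IdealSheafData.le_map_iff_comap_le.1 (?_ : Z r ≤ Scheme.IdealSheafData.map ⊥ (Z r).subschemeι))).trans ?_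
      · rw [Scheme.IdealSheafData.map_bot, Scheme.IdealSheafData.ker_subschemeι]
      · exact le_of_eq (Scheme.IdealSheafData.comap_bot _)
    have h1 : ∀ k, r + 1 ≤ k → GrpdLib.FitStrat.fit (pullback.snd G.s g) k = ⊤ := fun k hk => by
      rw [hf k]
      refine top_le_iff.1 (le_trans ?_ (Scheme.IdealSheafData.comap_mono g (GrpdLib.FitStrat.fit_mono G.s hk)))
      refine ((Scheme.IdealSheafData.support_eq_bot_iff _).1 ?_).ge
      rw [Scheme.IdealSheafData.support_comap]
      ext x
      refine iff_of_false (fun hx => ?_) id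
      exact x.2 hx
    obtain ⟨a, b, c⟩ := GrpdLib.FitStrat.isFinLocFree_of_fit (pullback.snd G.s g) (r + 1) h0 h1
    exact ⟨⟨inferInstance, a, b⟩, c⟩

end Groth.Agent.S7513
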