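import Groth.Statements.S7514
import Mathlib.AlgebraicGeometry.Morphisms.FormallyUnramified
import Mathlib.AlgebraicGeometry.Morphisms.UniversallyInjective

set_option autoImplicit false
universe u
open CategoryTheory CategoryTheory.Limits AlgebraicGeometry
open Grpd

namespace Groth.Agent.S7514

theorem surjective_diagonal {X Y : Scheme.{u}} (j : X ⟶ Y)
    (h : ∀ (k : Type u) [Field k] [IsAlgClosed k], Function.Injective (fun r : Spec (CommRingCat.of k) ⟶ X => r ≫ j)) :
    Surjective (pullback.diagonal j) := by
  refine ⟨fun z => ?_⟩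
  let k := AlgebraicClosure ((pullback.diagonalObj j).residueField z)
  have key : ∀ q : Spec (CommRingCat.of k) ⟶ pullback.diagonalObj j,
      ∀ p : Spec (CommRingCat.of k), q p = z → ∃ w, pullback.diagonal j w = z := by
    intro q p hp
    have h12 : q ≫ pullback.fst j j = q ≫ pullback.snd j j :=
      h k (show (q ≫ pullback.fst j j) ≫ j = (q ≫ pullback.snd j j) ≫ j by
        simp only [Category.assoc, pullback.condition])
    have hq : (q ≫ pullback.fst j j) ≫ pullback.diagonal j = q := by
      apply pullback.hom_ext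
      · simp
      · simp only [Category.assoc, pullback.diagonal_snd, Category.comp_id]
        exact h12
    exact ⟨(q ≫ pullback.fst j j) p, (congrArg (fun φ : _ ⟶ pullback.diagonalObj j => φ p) hq).trans hp⟩
  obtain ⟨p⟩ : Nonempty (Spec (CommRingCat.of k)) := ⟨IsLocalRing.closedPoint k⟩
  refine key (Spec.map (CommRingCat.ofHom (algebraMap ((pullback.diagonalObj j).residueField z) k)) ≫
    (pullback.diagonalObj j).fromSpecResidueField z) p ?_
  exact (Scheme.Hom.comp_apply _ _ p).trans (Scheme.fromSpecResidueField_apply z _)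

/-- Let S be a scheme, U a scheme over S and j : R -> U x_S U a pre-relation, with t = pr_0 ∘ j and s =
pr_1 ∘ j. Assume (1) s and t are unramified (formally unramified and locally of finite type), (2)
for every algebraically closed field k, the map from k-points of R to pairs of k-points of U is
injective with image an equivalence relation, and (3) there are morphisms e : U -> R, i : R -> R and
c : R x_(s,U,t) R -> R such that j ∘ e is the diagonal, j ∘ i is j followed by the flip of the two
factors, and j ∘ c is pr_02 ∘ (j x j) (the arrow c(a, b) has target t(a) and source s(b)). Then j is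
an equivalence relation: j is a monomorphism and, for every scheme T, the relation 'there is a
T-point r of R with t ∘ r = a and s ∘ r = b' on T-points a, b of U is an equivalence relation. -/
theorem result {S U R : Scheme.{u}} (pU : U ⟶ S) (j : R ⟶ pullback pU pU) [FormallyUnramified (j ≫ pullback.fst pU pU)] [LocallyOfFiniteType (j ≫ pullback.fst pU pU)] [FormallyUnramified (j ≫ pullback.snd pU pU)] [LocallyOfFiniteType (j ≫ pullback.snd pU pU)] (h₂ : ∀ (k : Type u) [Field k] [IsAlgClosed k], Function.Injective (fun r : Spec (CommRingCat.of k) ⟶ R => r ≫ j) ∧ Equivalence (fun a b : Spec (CommRingCat.of k) ⟶ U => ∃ r : Spec (CommRingCat.of k) ⟶ R, r ≫ j ≫ pullback.fst pU pU = a ∧ r ≫ j ≫ pullback.snd pU pU = b)) (e : U ⟶ R) (he : e ≫ j = pullback.lift (𝟙 U) (𝟙 U) rfl) (i : R ⟶ R) (hi : i ≫ j = j ≫ (pullbackSymmetry pU pU).hom) (c : pullback (j ≫ pullback.snd pU pU) (j ≫ pullback.fst pU pU) ⟶ R) (hc₁ : c ≫ j ≫ pullback.fst pU pU = pullback.fst (j ≫ pullback.snd pU pU) (j ≫ pullback.fst pU pU) ≫ j ≫ pullback.fst pU pU) (hc₂ : c ≫ j ≫ pullback.snd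 pU pU = pullback.snd (j ≫ pullback.snd pU pU) (j ≫ pullback.fst pU pU) ≫ j ≫ pullback.snd pU pU) : Mono j ∧ ∀ T : Scheme.{u}, Equivalence (fun a b : T ⟶ U => ∃ r : T ⟶ R, r ≫ j ≫ pullback.fst pU pU = a ∧ r ≫ j ≫ pullback.snd pU pU = b) := by
  haveI : FormallyUnramified j := FormallyUnramified.of_comp j (pullback.fst pU pU)
  haveI : LocallyOfFiniteType j := locallyOfFiniteType_of_comp j (pullback.fst pU pU)
  have hsurj : Surjective (pullback.diagonal j) :=
    surjective_diagonal j fun k _ _ => (h₂ k).1
  have hmono : Mono j := by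
    haveI : IsOpenImmersion (pullback.diagonal j) := inferInstance
    haveI : Epi (pullback.diagonal j).base := (TopCat.epi_iff_surjective _).2 hsurj.surj
    haveI := IsOpenImmersion.isIso (pullback.diagonal j)
    exact (pullback.isIso_diagonal_iff j).1 inferInstance
  refine ⟨hmono, fun T => ⟨fun a => ?_, ?_, ?_⟩⟩
  · refine ⟨a ≫ e, ?_, ?_⟩
    · rw [Category.assoc, reassoc_of% he, pullback.lift_fst, Category.comp_id]
    · rw [Category.assoc, reassoc_of% he, pullback.lift_snd, Category.comp_id]
  · rintro a b ⟨r, h1, h2⟩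
    refine ⟨r ≫ i, ?_, ?_⟩
    · rw [Category.assoc, reassoc_of% hi, pullbackSymmetry_hom_comp_fst]
      exact h2
    · rw [Category.assoc, reassoc_of% hi, pullbackSymmetry_hom_comp_snd]
      exact h1
  · rintro a b d ⟨r, h1, h2⟩ ⟨r', h1', h2'⟩
    refine ⟨pullback.lift r r' (h2.trans h1'.symm) ≫ c, ?_, ?_⟩
    · rw [Category.assoc, hc₁, ← Category.assoc, pullback.lift_fst]
      exact h1
    · rw [Category.assoc, hc₂, ← Category.assoc, pullback.lift_snd]
      exact h2'

end Groth.Agent.S7514
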