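import Groth.Statements.S7516
import Groth.Agent.GrpdField.GeomIrred

set_option autoImplicit false
universe u
open CategoryTheory CategoryTheory.Limits AlgebraicGeometry
open Grpd

namespace Groth.Agent.S7516

/-- The inverse fixes identities. -/
theorem e_comp_i {S : Scheme.{u}} (G : Grpd.GroupoidScheme S) : G.e ≫ G.i = G.e := by
  have h := G.e_comp (G.e ≫ G.i)
  have h' := G.comp_i G.e
  rw [show G.e ≫ G.t ≫ G.e = G.e by rw [reassoc_of% G.e_t]] at h'
  refine h.symm.trans (Eq.trans ?_ h')
  refine GrpdLib.cmp_congr G ?_ rfl _ _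
  simp only [Category.assoc, reassoc_of% G.i_t, reassoc_of% G.e_s]

/-- Let (U, R, s, t, c) be a groupoid scheme over S with U = Spec k for a field k, and let Z be an
irreducible component of R passing through the identity point e (there is exactly one). Then Z is
geometrically irreducible over k via either s or t: for any closed immersion ι : Z -> R from an
irreducible scheme whose image is an irreducible component of R containing e, the composites Z -> R
-> U = Spec k through s and through t are geometrically irreducible. (A groupoid scheme carries U,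
R, s, t, c, e, i over S with the groupoid axioms on T-points; c is defined on the fibre product of s
and t and sends a pair (a, b) with s(a) = t(b) to a composed with b.) -/
theorem result (S : Scheme.{u}) (G : Grpd.GroupoidScheme S) (k : Type u) [Field k] (eU : G.U ≅ Spec (CommRingCat.of k)) (Z : Scheme.{u}) (ι : Z ⟶ G.R) [IsClosedImmersion ι] [IrreducibleSpace Z] (hZ : Set.range ⇑ι ∈ irreducibleComponents ↥G.R) (he : G.e (eU.inv (IsLocalRing.closedPoint k)) ∈ Set.range ⇑ι) : GeometricallyIrreducible (ι ≫ G.s ≫ eU.hom) ∧ GeometricallyIrreducible (ι ≫ G.t ≫ eU.hom) := by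
  let σ : Spec (CommRingCat.of k) ⟶ G.R := eU.inv ≫ G.e
  have hσ : σ ≫ G.s ≫ eU.hom = 𝟙 _ := by
    simp only [σ, Category.assoc, reassoc_of% G.e_s, Iso.inv_hom_id]
  have key : ∀ (j : Z ⟶ G.R) [IsClosedImmersion j], Set.range j ∈ irreducibleComponents ↥G.R →
      σ (IsLocalRing.closedPoint k) ∈ Set.range j → GeometricallyIrreducible (j ≫ G.s ≫ eU.hom) := fun j _ h1 h2 =>
    GrpdField.geometricallyIrreducible_component (G.s ≫ eU.hom) σ hσ
      (fun _ _ g => GrpdField.uniqueMax_idSection G eU g) (GrpdField.uniqueMax_arrow G eU) j h1 h2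
  refine ⟨key ι hZ he, ?_⟩
  haveI := GrpdLib.isIso_i G
  have h3 : ι ≫ G.t ≫ eU.hom = (ι ≫ G.i) ≫ G.s ≫ eU.hom := by
    rw [Category.assoc, reassoc_of% G.i_s]
  rw [h3]
  have hr : Set.range ⇑(ι ≫ G.i) = ⇑G.i '' Set.range ⇑ι := by
    rw [← Set.range_comp]; rfl
  refine key (ι ≫ G.i) ?_ ?_
  · rw [hr]
    let e := G.i.homeomorph
    exact ⟨hZ.1.image _ G.i.continuous.continuousOn, fun T hT hle y hy => by
      have h4 : e.symm '' T ⊆ Set.range ⇑ι := hZ.2 (hT.image _ e.symm.continuous.continuousOn) (fun x hx =>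
        ⟨e x, hle ⟨x, hx, rfl⟩, e.symm_apply_apply x⟩)
      exact ⟨e.symm y, h4 ⟨y, hy, rfl⟩, e.apply_symm_apply y⟩⟩
  · rw [hr]
    refine ⟨_, he, ?_⟩
    show (G.e ≫ G.i) _ = _
    rw [e_comp_i]
    rfl

end Groth.Agent.S7516
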