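import Groth.Statements.S7517
import Groth.Agent.GrpdField.GeomIrred

set_option autoImplicit false
universe u
open CategoryTheory MonoidalCategory CartesianMonoidalCategory MonObj GrpObj AlgebraicGeometry
open GrpSch

namespace Groth.Agent.S7517

/-- Let G be a group scheme over a field k and Z the irreducible component of G passing through the
identity e (there is exactly one). Then Z is geometrically irreducible over k: for any closed
immersion incl : Z -> G from an irreducible scheme whose image is an irreducible component of G
containing e, the composite Z -> G -> Spec k is geometrically irreducible. (Parts (1) and (2) of the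
source are not stated here.) -/
theorem result (K : Type u) [Field K] (G : Over (Spec (CommRingCat.of K))) [GrpObj G] (Z : Scheme.{u}) (incl : Z ⟶ G.left) [IsClosedImmersion incl] [IrreducibleSpace Z] (hZ : Set.range ⇑incl ∈ irreducibleComponents ↥G.left) (he : η[G].left (IsLocalRing.closedPoint K) ∈ Set.range ⇑incl) : GeometricallyIrreducible (incl ≫ G.hom) := by
  have hmax : ∀ {Y : Scheme.{u}} {z : Y}, (∀ w, w ⤳ z → z = w) → z ∈ genericPoints ↥Y := fun h =>
    VarietyLib.mem_genericPoints_iff.2 fun w hw => (h w hw).symm
  refine GrpdField.geometricallyIrreducible_component G.hom η[G].left (Over.w η[G]) (fun L _ g => ?_)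
    (fun x z₁ z₂ h₁ h₂ s₁ s₂ => SGA3cLib.eq_of_specializes_of_homogeneous (SGA3cLib.regAction G)
      (SGA3cLib.surjective_regAction G) (hmax h₁) (hmax h₂) s₁ s₂) incl hZ he
  intro z₁ z₂ h₁ h₂ s₁ s₂
  exact SGA3cLib.eq_of_specializes_of_homogeneous ((SGA3cLib.regAction G).bc g)
    (SGA3cLib.surjective_bc (SGA3cLib.regAction G) (SGA3cLib.surjective_regAction G) g) (hmax h₁) (hmax h₂) s₁ s₂

end Groth.Agent.S7517
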