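import Groth.Statements.S7522
import Mathlib.AlgebraicGeometry.PullbackCarrier
import Mathlib.AlgebraicGeometry.Geometrically.Basic

set_option autoImplicit false
universe u
open CategoryTheory CategoryTheory.Limits AlgebraicGeometry
open Grpd

namespace Groth.Agent.S7522

/-- Let S be a scheme, U a scheme over S and j : R -> U x_S U a pre-equivalence relation, that is a
morphism such that for every scheme T the image of the T-points of R in pairs of T-points of U is an
equivalence relation; write t = pr_0 ∘ j and s = pr_1 ∘ j. Then the relation on the points of U in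
which x ∼ y when some point r of R has t(r) = x and s(r) = y is an equivalence relation. -/
theorem result {S U R : Scheme.{u}} (pU : U ⟶ S) (j : R ⟶ pullback pU pU) (hj : ∀ T : Scheme.{u}, Equivalence (fun a b : T ⟶ U => ∃ r : T ⟶ R, r ≫ j ≫ pullback.fst pU pU = a ∧ r ≫ j ≫ pullback.snd pU pU = b)) : Equivalence (fun x y : ↥U => ∃ r : R, (j ≫ pullback.fst pU pU) r = x ∧ (j ≫ pullback.snd pU pU) r = y) := by
  set t := j ≫ pullback.fst pU pU with ht
  set s := j ≫ pullback.snd pU pU with hs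
  refine ⟨fun x => ?_, fun {x y} h => ?_, fun {x y z} h h' => ?_⟩
  · obtain ⟨r, hr₁, hr₂⟩ := (hj U).refl (𝟙 U)
    exact ⟨r x, by rw [← Scheme.Hom.comp_apply, ht, hr₁]; rfl, by rw [← Scheme.Hom.comp_apply, hs, hr₂]; rfl⟩
  · obtain ⟨r, rfl, rfl⟩ := h
    obtain ⟨q, hq₁, hq₂⟩ := (hj R).symm (⟨𝟙 R, rfl, rfl⟩ : ∃ r : R ⟶ R, r ≫ j ≫ pullback.fst pU pU =
      𝟙 R ≫ t ∧ r ≫ j ≫ pullback.snd pU pU = 𝟙 R ≫ s)
    exact ⟨q r, by rw [← Scheme.Hom.comp_apply, ht, hq₁, Category.id_comp],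
      by rw [← Scheme.Hom.comp_apply, hs, hq₂, Category.id_comp]⟩
  · obtain ⟨r₁, rfl, h₁⟩ := h
    obtain ⟨r₂, h₂, rfl⟩ := h'
    obtain ⟨w, hw₁, hw₂⟩ := Scheme.Pullback.exists_preimage_pullback (f := s) (g := t) r₁ r₂ (h₁.trans h₂.symm)
    obtain ⟨q, hq₁, hq₂⟩ := (hj (pullback s t)).trans
      (⟨pullback.fst s t, rfl, rfl⟩ : ∃ r : pullback s t ⟶ R, r ≫ j ≫ pullback.fst pU pU =
        pullback.fst s t ≫ t ∧ r ≫ j ≫ pullback.snd pU pU = pullback.fst s t ≫ s)
      (⟨pullback.snd s t, pullback.condition.symm, rfl⟩ : ∃ r : pullback s t ⟶ R, r ≫ j ≫ pullback.fst pU pU =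
        pullback.fst s t ≫ s ∧ r ≫ j ≫ pullback.snd pU pU = pullback.snd s t ≫ s)
    refine ⟨q w, ?_, ?_⟩
    · rw [← Scheme.Hom.comp_apply, ← hw₁, ← Scheme.Hom.comp_apply]
      exact congrArg (fun f : pullback s t ⟶ U => f w) hq₁
    · rw [← Scheme.Hom.comp_apply, ← hw₂, ← Scheme.Hom.comp_apply]
      exact congrArg (fun f : pullback s t ⟶ U => f w) hq₂

end Groth.Agent.S7522
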