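import Mathlib.Topology.Spectral.Basic
import Mathlib.Topology.Spectral.Hom
import Mathlib.Topology.Spectral.ConstructibleTopology
import Groth.Agent.SpecSp.Basic

set_option autoImplicit false
universe u
namespace SpecSp
end SpecSp
open SpecSp

namespace Groth.Agent.S7523

/-- For a spectral map f : X → Y between spectral spaces, (1) f remains continuous once X and Y are both
given their constructible topologies, (2) every fibre of f is quasi-compact, and (3) f(X) is a
closed subset of Y for the constructible topology. -/
theorem result {X Y : Type u} [TopologicalSpace X] [TopologicalSpace Y]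
    [SpectralSpace X] [SpectralSpace Y] (f : X → Y) (hf : IsSpectralMap f) :
    @Continuous X Y (constructibleTopology X) (constructibleTopology Y) f ∧
    (∀ y : Y, IsCompact (f ⁻¹' {y})) ∧
    @IsClosed Y (constructibleTopology Y) (Set.range f) := by
  refine ⟨Groth.Agent.SpecSp.continuous_cons_of_spectral hf, fun y => ?_, Groth.Agent.SpecSp.isClosed_cons_range hf⟩
  exact Groth.Agent.SpecSp.isCompact_of_cons (@IsClosed.preimage X Y (constructibleTopology X) (constructibleTopology Y) f
    (Groth.Agent.SpecSp.continuous_cons_of_spectral hf) _ (@isClosed_singleton Y (constructibleTopology Y)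
      (@T2Space.t1Space Y (constructibleTopology Y) Groth.Agent.H8ProCons.t2Space_cons) y))

end Groth.Agent.S7523
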