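import Mathlib.Topology.Spectral.Basic
import Mathlib.Topology.Spectral.Hom
import Mathlib.Topology.Spectral.ConstructibleTopology
import Groth.Agent.SpecSp.Basic

set_option autoImplicit false
universe u
namespace SpecSp
end SpecSp
open SpecSp

namespace Groth.Agent.S7524

/-- A continuous map f : X → Y of spectral spaces is spectral if and only if it is continuous when X and
Y both carry their constructible topologies. -/
theorem result {X Y : Type u} [TopologicalSpace X] [TopologicalSpace Y]
    [SpectralSpace X] [SpectralSpace Y] (f : X → Y) (hf : Continuous f) :
    IsSpectralMap f ↔ @Continuous X Y (constructibleTopology X) (constructibleTopology Y) f := by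
  exact ⟨Groth.Agent.SpecSp.continuous_cons_of_spectral, Groth.Agent.SpecSp.isSpectralMap_of_continuous_cons hf⟩

end Groth.Agent.S7524
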