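import Mathlib.Topology.Spectral.Basic
import Mathlib.Topology.Spectral.ConstructibleTopology
import Mathlib.Topology.Connected.TotallyDisconnected
import Mathlib.Topology.Irreducible
import Mathlib.Data.List.TFAE
import Groth.Agent.SpecSp.Basic

set_option autoImplicit false
universe u
namespace SpecSp
end SpecSp
open SpecSp

namespace Groth.Agent.S7528

/-- For a spectral space X the following are equivalent: (1) X is profinite, i.e. quasi-compact,
Hausdorff and totally disconnected (quasi-compactness being automatic); (2) X is Hausdorff; (3) X is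
totally disconnected; (4) every quasi-compact open subset is closed; (5) there are no nontrivial
specializations between points; (6) every point is closed; (7) every point is the generic point of
an irreducible component; (8) the constructible topology coincides with the topology of X. -/
theorem result (X : Type u) [tX : TopologicalSpace X] [SpectralSpace X] :
    List.TFAE [
      T2Space X ∧ TotallyDisconnectedSpace X,
      T2Space X,
      TotallyDisconnectedSpace X,
      ∀ U : Set X, IsOpen U → IsCompact U → IsClosed U,
      ∀ x y : X, x ⤳ y → x = y,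
      ∀ x : X, IsClosed ({x} : Set X),
      ∀ x : X, closure ({x} : Set X) ∈ irreducibleComponents X,
      constructibleTopology X = tX] := by
  tfae_have 1 → 2 := fun h => h.1
  tfae_have 1 → 3 := fun h => h.2
  tfae_have 2 → 5 := fun h x y hxy => hxy.eq
  tfae_have 3 → 6 := fun h x => by
    have hs : (closure ({x} : Set X)).Subsingleton :=
      isTotallyDisconnected_of_totallyDisconnectedSpace _ _ Set.Subset.rfl isConnected_singleton.closure.isPreconnected
    have he : closure ({x} : Set X) = {x} := hs.eq_singleton_of_mem (subset_closure rfl)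
    exact he ▸ isClosed_closure
  tfae_have 6 → 5 := fun h x y hxy => ((h x).closure_eq ▸ specializes_iff_mem_closure.1 hxy : y ∈ ({x} : Set X)).symm
  tfae_have 5 → 7 := fun h x => by
    refine ⟨isIrreducible_singleton.closure, fun Z hZ hxZ => ?_⟩
    obtain ⟨η, hη⟩ := QuasiSober.sober hZ.closure isClosed_closure
    have := h η x (hη.specializes (subset_closure (hxZ (subset_closure rfl))))
    subst this
    exact subset_closure.trans hη.def.ge
  tfae_have 7 → 5 := fun h x y hxy => by
    have h1 : closure ({y} : Set X) ⊆ closure {x} := specializes_iff_closure_subset.1 hxy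
    exact (inseparable_iff_closure_eq.2 (((h y).2 isIrreducible_singleton.closure h1).antisymm h1)).eq
  tfae_have 5 → 4 := fun h U hU hc => Groth.Agent.SpecSp.isClosed_of_cons_of_stable
    (Groth.Agent.SpecSp.isClosed_cons_of_isCompactOpen hU hc) fun a b hab ha => h a b hab ▸ ha
  tfae_have 4 → 8 := fun h => by
    refine le_antisymm (fun U hU => Groth.Agent.H8ProCons.isOpen_cons_of_isOpen hU) (le_generateFrom ?_)
    rintro s (⟨ho, -⟩ | ⟨hcl, hc⟩)
    · exact ho
    · exact compl_compl s ▸ (h _ hcl.isOpen_compl hc).isOpen_compl
  tfae_have 8 → 1 := fun h => by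
    have hs : ∀ x y : X, x ≠ y → ∃ U : Set X, IsClopen U ∧ x ∈ U ∧ y ∈ Uᶜ := fun x y hxy => by
      obtain ⟨U, hU, hU', hx, hy⟩ := Groth.Agent.H8ProCons.exists_clopen_separating hxy
      rw [h] at hU hU'
      exact ⟨U, ⟨⟨hU'⟩, hU⟩, hx, hy⟩
    have : TotallySeparatedSpace X := totallySeparatedSpace_iff_exists_isClopen.2 hs
    exact ⟨⟨fun x y hxy => by
      obtain ⟨U, hU, hx, hy⟩ := hs x y hxy
      exact ⟨U, Uᶜ, hU.2, hU.compl.2, hx, hy, disjoint_compl_right⟩⟩, inferInstance⟩
  tfae_finish

end Groth.Agent.S7528
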