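import Mathlib.Topology.Spectral.Basic
import Mathlib.Topology.Category.TopCat.Limits.Basic
import Mathlib.Order.Directed
import Groth.Agent.SpecSp.Limit

set_option autoImplicit false
universe u
namespace CategoryTheory
end CategoryTheory
namespace CategoryTheory.Limits
end CategoryTheory.Limits
open CategoryTheory CategoryTheory.Limits
namespace SpecSp
end SpecSp
open SpecSp

namespace Groth.Agent.S7531

/-- Let J be a nonempty directed preordered set and let (X_j) be an inverse system of finite sober
topological spaces indexed by J (a functor from the opposite of J to topological spaces). Then any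
limit of this system in the category of topological spaces is a spectral space. -/
theorem result {J : Type u} [Preorder J] [Nonempty J] [IsDirected J (· ≤ ·)]
    (F : Jᵒᵖ ⥤ TopCat.{u})
    (hF : ∀ j : Jᵒᵖ, Finite (F.obj j) ∧ T0Space (F.obj j) ∧ QuasiSober (F.obj j))
    (c : Cone F) (hc : IsLimit c) :
    SpectralSpace c.pt := by
  have hs : ∀ j, SpectralSpace (F.obj j) := fun j => by
    obtain ⟨h1, h2, -⟩ := hF j
    exact Groth.Agent.SpecSp.spectralSpace_of_finite
  exact (Groth.Agent.SpecSp.spectralSpace_limit hs (fun {i j} a => by
    have := (hF i).1
    exact Groth.Agent.SpecSp.isSpectralMap_of_finite (F.map a).hom.continuous) hc).1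

end Groth.Agent.S7531
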