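import Mathlib.Topology.Spectral.Basic
import Mathlib.Topology.Spectral.ConstructibleTopology
import Mathlib.Topology.Order
import Groth.Agent.SpecSp.Basic

set_option autoImplicit false
universe u
namespace SpecSp
end SpecSp
open SpecSp

namespace Groth.Agent.S7532

/-- Let W be the two-point space with one closed and one non-closed point (here the Sierpiński topology
on Prop). A topological space X is spectral exactly when, for some index type I, X admits a
topological embedding into the power W^I whose image is a closed set for the constructible topology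
on W^I. -/
theorem result (X : Type u) [TopologicalSpace X] :
    SpectralSpace X ↔ ∃ (I : Type u) (f : X → (I → Prop)),
      Topology.IsEmbedding f ∧ @IsClosed (I → Prop) (constructibleTopology (I → Prop)) (Set.range f) := by
  have : T0Space Prop := ⟨fun p q h => propext
    ⟨fun hp => by simpa using (h.mem_open_iff isOpen_singleton_true).1 (show p ∈ ({True} : Set Prop) by simpa using hp),
      fun hq => by simpa using (h.mem_open_iff isOpen_singleton_true).2 (show q ∈ ({True} : Set Prop) by simpa using hq)⟩⟩
  constructor
  · intro hX
    let I := {U : Set X // IsOpen U ∧ IsCompact U}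
    let f : X → (I → Prop) := fun x U => x ∈ U.1
    have : SpectralSpace Prop := Groth.Agent.SpecSp.spectralSpace_of_finite
    have hfc : Continuous f := continuous_pi fun U => continuous_Prop.2 U.2.1
    have hind : Topology.IsInducing f := by
      refine ⟨le_antisymm hfc.le_induced fun V hV => ?_⟩
      obtain ⟨S, hS, rfl⟩ := PrespectralSpace.isTopologicalBasis.open_eq_sUnion hV
      refine @isOpen_sUnion X (TopologicalSpace.induced f inferInstance) S fun U hU => ?_
      exact ⟨(fun g : I → Prop => g ⟨U, hS hU⟩) ⁻¹' {True}, isOpen_singleton_true.preimage (continuous_apply _),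
        Set.ext fun x => by simp [f]⟩
    have hinj : Function.Injective f := fun x y h => Inseparable.eq
      (show nhds x = nhds y by rw [hind.nhds_eq_comap, hind.nhds_eq_comap, h])
    have hspec : IsSpectralMap f := by
      refine Groth.Agent.SpecSp.isSpectralMap_of_continuous_cons hfc ?_
      refine Groth.Agent.H8ProCons.continuous_cons hfc fun W hW hWc => ?_
      obtain ⟨S, hS, rfl⟩ := (Groth.Agent.SpecSp.isTopologicalBasis_boxes (X := fun _ : I => Prop)).open_eq_sUnion hW
      obtain ⟨t, htS, htf, hsub⟩ := hWc.elim_finite_subcover_image (c := id)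
        (fun B hB => Groth.Agent.SpecSp.isOpen_of_mem_boxes (hS hB)) (by simp [Set.sUnion_eq_biUnion])
      have : f ⁻¹' ⋃₀ S = ⋃ B ∈ t, f ⁻¹' B := by
        rw [← Set.preimage_iUnion₂]
        exact congrArg _ (Set.Subset.antisymm hsub (Set.iUnion₂_subset fun B hB => Set.subset_sUnion_of_mem (htS hB)))
      rw [this]
      refine htf.isCompact_biUnion fun B hB => ?_
      obtain ⟨A, rfl, hA, s, hs⟩ := hS (htS hB)
      have h1 : f ⁻¹' Set.univ.pi A = ⋂ U ∈ s, {x | f x U ∈ A U} := by
        ext x
        refine ⟨fun h => Set.mem_iInter₂.2 fun U _ => h U trivial, fun h U _ => ?_⟩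
        by_cases hU : U ∈ s
        · exact Set.mem_iInter₂.1 h U hU
        · rw [hs U hU]; trivial
      have hprop : ∀ V : Set Prop, IsOpen V → V = ∅ ∨ V = {True} ∨ V = Set.univ := fun V hV => by
        by_cases h : False ∈ V
        · have ht : True ∈ V := by
            have : (True : Prop) ⤳ False := by simp [specializes_iff_pure]
            exact this.mem_open hV h
          exact Or.inr (Or.inr (Set.eq_univ_of_forall fun p => by by_cases hp : p <;> simp [hp, h, ht]))
        · by_cases ht : True ∈ V
          · exact Or.inr (Or.inl (Set.ext fun p => by by_cases hp : p <;> simp [hp, h, ht]))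
          · exact Or.inl (Set.ext fun p => by by_cases hp : p <;> simp [hp, h, ht])
      have h2 : ∀ U : I, IsOpen {x | f x U ∈ A U} ∧ IsCompact {x | f x U ∈ A U} := fun U => by
        rcases hprop (A U) (hA U).1 with h | h | h <;> rw [h]
        · simp
        · simp [f, U.2.1, U.2.2]
        · refine ⟨?_, ?_⟩ <;> simp [isCompact_univ]
      rw [h1]
      have h3 : ∀ t : Finset I, IsOpen (⋂ U ∈ t, {x | f x U ∈ A U}) ∧ IsCompact (⋂ U ∈ t, {x | f x U ∈ A U}) := by
        classical
        intro t
        induction t using Finset.induction_on with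
        | empty => refine ⟨?_, ?_⟩ <;> simp [isCompact_univ]
        | insert a t _ ih =>
          rw [Finset.set_biInter_insert]
          exact ⟨(h2 a).1.inter ih.1, QuasiSeparatedSpace.inter_isCompact _ _ (h2 a).1 (h2 a).2 ih.1 ih.2⟩
      exact (h3 s).2
    exact ⟨I, f, ⟨hind, hinj⟩, Groth.Agent.SpecSp.isClosed_cons_range hspec⟩
  · rintro ⟨I, f, hf, hc⟩
    have : SpectralSpace Prop := Groth.Agent.SpecSp.spectralSpace_of_finite
    exact (Groth.Agent.SpecSp.spectralSpace_of_isEmbedding hf hc).1

end Groth.Agent.S7532
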