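import Mathlib.Topology.Spectral.Basic
import Mathlib.Topology.Spectral.Hom
import Mathlib.Topology.Spectral.ConstructibleTopology
import Mathlib.Topology.Category.TopCat.Limits.Basic
import Mathlib.CategoryTheory.Filtered.Basic
import Mathlib.Topology.Constructible
import Groth.Agent.SpecSp.Limit

set_option autoImplicit false
universe u
namespace CategoryTheory
end CategoryTheory
namespace CategoryTheory.Limits
end CategoryTheory.Limits
open CategoryTheory CategoryTheory.Limits
namespace SpecSp
end SpecSp
open SpecSp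

namespace Groth.Agent.S7536

/-- Let j ↦ X_j be a cofiltered diagram of spectral spaces with spectral transition maps and X its limit
with projections p_j. For every constructible E ⊆ X there are an object i and a constructible E_i ⊆
X_i with p_i⁻¹(E_i) = E; if E is open, resp. closed, then E_i may be chosen open, resp. closed. -/
theorem result {J : Type u} [SmallCategory J] [IsCofiltered J] (F : J ⥤ TopCat.{u})
    (hF : ∀ j, SpectralSpace (F.obj j))
    (hFm : ∀ {i j : J} (a : i ⟶ j), IsSpectralMap (F.map a : F.obj i → F.obj j))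
    (c : Cone F) (hc : IsLimit c)
    (E : Set c.pt) (hE : Topology.IsConstructible E) :
    (∃ (i : J) (Ei : Set (F.obj i)), Topology.IsConstructible Ei ∧ c.π.app i ⁻¹' Ei = E) ∧
    (IsOpen E → ∃ (i : J) (Ei : Set (F.obj i)), Topology.IsConstructible Ei ∧ IsOpen Ei ∧ c.π.app i ⁻¹' Ei = E) ∧
    (IsClosed E → ∃ (i : J) (Ei : Set (F.obj i)), Topology.IsConstructible Ei ∧ IsClosed Ei ∧ c.π.app i ⁻¹' Ei = E) := by
  have hs := (Groth.Agent.SpecSp.spectralSpace_limit hF hFm hc).1
  have := hF
  refine ⟨Groth.Agent.SpecSp.exists_constructible_preimage_eq hF hFm hc hE, fun ho => ?_, fun hcl => ?_⟩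
  · obtain ⟨i, Ui, h1, h2, h3⟩ := Groth.Agent.SpecSp.exists_preimage_eq hF hFm hc ho
      (Groth.Agent.SpecSp.isCompact_of_cons (Groth.Agent.H8ProCons.isClosed_cons_of_isConstructible hE))
    exact ⟨i, Ui, h2.isConstructible h1, h1, h3⟩
  · obtain ⟨i, Ui, h1, h2, h3⟩ := Groth.Agent.SpecSp.exists_preimage_eq hF hFm hc hcl.isOpen_compl
      (Groth.Agent.SpecSp.isCompact_of_cons (Groth.Agent.H8ProCons.isClosed_cons_of_isConstructible hE.compl))
    exact ⟨i, Uiᶜ, (h2.isConstructible h1).compl, h1.isClosed_compl, by rw [Set.preimage_compl, h3, compl_compl]⟩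

end Groth.Agent.S7536
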