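import Mathlib.Topology.Spectral.Basic
import Mathlib.Topology.Spectral.Hom
import Mathlib.Topology.Spectral.ConstructibleTopology
import Mathlib.Topology.Category.TopCat.Limits.Basic
import Mathlib.CategoryTheory.Filtered.Basic
import Groth.Agent.SpecSp.Limit

set_option autoImplicit false
universe u
namespace CategoryTheory
end CategoryTheory
namespace CategoryTheory.Limits
end CategoryTheory.Limits
open CategoryTheory CategoryTheory.Limits
namespace SpecSp
end SpecSp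
open SpecSp

namespace Groth.Agent.S7538

/-- Let j ↦ X_j be a cofiltered diagram of spectral spaces with spectral transition maps f_a and X its
limit with projections p_j. (1) Any quasi-compact open U ⊆ X is p_i⁻¹(U_i) for some i and some
quasi-compact open U_i ⊆ X_i. (2) If U_i ⊆ X_i and U_j ⊆ X_j are quasi-compact opens with p_i⁻¹(U_i)
⊆ p_j⁻¹(U_j), there are k and a : k → i, b : k → j with f_a⁻¹(U_i) ⊆ f_b⁻¹(U_j). (3) If U_i and
finitely many U_{l,i} are quasi-compact opens of X_i with p_i⁻¹(U_i) = ⋃_l p_i⁻¹(U_{l,i}), then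
f_a⁻¹(U_i) = ⋃_l f_a⁻¹(U_{l,i}) for some a : j → i. (4) The same with intersections. -/
theorem result {J : Type u} [SmallCategory J] [IsCofiltered J] (F : J ⥤ TopCat.{u})
    (hF : ∀ j, SpectralSpace (F.obj j))
    (hFm : ∀ {i j : J} (a : i ⟶ j), IsSpectralMap (F.map a : F.obj i → F.obj j))
    (c : Cone F) (hc : IsLimit c) :
    (∀ U : Set c.pt, IsOpen U → IsCompact U →
      ∃ (i : J) (Ui : Set (F.obj i)), IsOpen Ui ∧ IsCompact Ui ∧ c.π.app i ⁻¹' Ui = U) ∧
    (∀ (i j : J) (Ui : Set (F.obj i)) (Uj : Set (F.obj j)),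
      IsOpen Ui → IsCompact Ui → IsOpen Uj → IsCompact Uj →
      c.π.app i ⁻¹' Ui ⊆ c.π.app j ⁻¹' Uj →
      ∃ (k : J) (a : k ⟶ i) (b : k ⟶ j), F.map a ⁻¹' Ui ⊆ F.map b ⁻¹' Uj) ∧
    (∀ (i : J) (n : ℕ) (Ui : Set (F.obj i)) (V : Fin n → Set (F.obj i)),
      IsOpen Ui → IsCompact Ui → (∀ l, IsOpen (V l) ∧ IsCompact (V l)) →
      (c.π.app i ⁻¹' Ui = ⋃ l, c.π.app i ⁻¹' V l →
        ∃ (j : J) (a : j ⟶ i), F.map a ⁻¹' Ui = ⋃ l, F.map a ⁻¹' V l) ∧
      (c.π.app i ⁻¹' Ui = ⋂ l, c.π.app i ⁻¹' V l →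
        ∃ (j : J) (a : j ⟶ i), F.map a ⁻¹' Ui = ⋂ l, F.map a ⁻¹' V l)) := by
  have := hF
  refine ⟨fun U hU hUc => Groth.Agent.SpecSp.exists_preimage_eq hF hFm hc hU hUc,
    fun i j Ui Uj hi hic hj hjc h => ?_, fun i n Ui V hi hic hV => ?_⟩
  · have hpre : ∀ {k l : J} (a : k ⟶ l) (W : Set (F.obj l)), IsOpen W → IsOpen (F.map a ⁻¹' W) :=
      fun a W hW => hW.preimage (F.map a).hom.continuous
    have h' : c.π.app _ ⁻¹' (F.map (IsCofiltered.minToLeft i j) ⁻¹' Ui) ⊆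
        c.π.app _ ⁻¹' (F.map (IsCofiltered.minToRight i j) ⁻¹' Uj) := fun x hx => by
      rw [Set.mem_preimage, Set.mem_preimage, Groth.Agent.SpecSp.map_π c] at hx ⊢
      exact h hx
    obtain ⟨k, a, hk⟩ := Groth.Agent.SpecSp.exists_preimage_subset hF hFm hc
      (Groth.Agent.SpecSp.isClosed_cons_of_isCompactOpen (hpre _ _ hi) ((hFm _).isCompact_preimage_of_isOpen hi hic))
      (Groth.Agent.H8ProCons.isOpen_cons_of_isOpen (hpre _ _ hj)) h'
    refine ⟨k, a ≫ IsCofiltered.minToLeft i j, a ≫ IsCofiltered.minToRight i j, ?_⟩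
    rw [F.map_comp, F.map_comp]
    exact hk
  · have hc1 := Groth.Agent.SpecSp.isClosed_cons_of_isCompactOpen hi hic
    have ho1 := Groth.Agent.H8ProCons.isOpen_cons_of_isOpen hi
    have key : ∀ (W : Set (F.obj i)), @IsClosed _ (constructibleTopology (F.obj i)) W →
        @IsOpen _ (constructibleTopology (F.obj i)) W → c.π.app i ⁻¹' Ui = c.π.app i ⁻¹' W →
        ∃ (j : J) (a : j ⟶ i), F.map a ⁻¹' Ui = F.map a ⁻¹' W := fun W hWc hWo h => by
      obtain ⟨j, a, ha⟩ := Groth.Agent.SpecSp.exists_preimage_subset hF hFm hc hc1 hWo h.le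
      obtain ⟨j', b, hb⟩ := Groth.Agent.SpecSp.exists_preimage_subset hF hFm hc hWc ho1 h.ge
      have hpq0 := IsCofiltered.eq_condition (IsCofiltered.minToLeft j j' ≫ a) (IsCofiltered.minToRight j j' ≫ b)
      obtain ⟨k, p, q, hpq⟩ : ∃ (k : J) (p : k ⟶ j) (q : k ⟶ j'), p ≫ a = q ≫ b :=
        ⟨_, _ ≫ IsCofiltered.minToLeft j j', _ ≫ IsCofiltered.minToRight j j',
          (Category.assoc _ _ _).trans (hpq0.trans (Category.assoc _ _ _).symm)⟩
      refine ⟨k, p ≫ a, Set.Subset.antisymm ?_ ?_⟩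
      · rw [F.map_comp]; exact fun x hx => ha hx
      · rw [hpq, F.map_comp]; exact fun x hx => hb hx
    refine ⟨fun h => ?_, fun h => ?_⟩
    · rw [← Set.preimage_iUnion] at h
      obtain ⟨j, a, ha⟩ := key _ (@isClosed_iUnion_of_finite _ _ (constructibleTopology _) _ _ fun l =>
          Groth.Agent.SpecSp.isClosed_cons_of_isCompactOpen (hV l).1 (hV l).2)
        (Groth.Agent.H8ProCons.isOpen_cons_of_isOpen (isOpen_iUnion fun l => (hV l).1)) h
      exact ⟨j, a, by rw [ha, Set.preimage_iUnion]⟩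
    · rw [← Set.preimage_iInter] at h
      obtain ⟨j, a, ha⟩ := key _ (@isClosed_iInter _ _ (constructibleTopology _) _ fun l =>
          Groth.Agent.SpecSp.isClosed_cons_of_isCompactOpen (hV l).1 (hV l).2)
        (Groth.Agent.H8ProCons.isOpen_cons_of_isOpen (isOpen_iInter_of_finite fun l => (hV l).1)) h
      exact ⟨j, a, by rw [ha, Set.preimage_iInter]⟩

end Groth.Agent.S7538
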