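import Mathlib.Topology.Spectral.Basic
import Mathlib.Topology.Constructible
import Mathlib.Topology.Inseparable
import Mathlib.Data.List.TFAE
import Groth.Agent.SpecSp.Basic

set_option autoImplicit false
universe u
namespace SpecSp
end SpecSp
open SpecSp

namespace Groth.Agent.S7539

/-- For a subset W of a spectral space X, these five conditions coincide: (1) W can be written as an
intersection of constructible subsets and is stable under generalization; (2) W is quasi-compact and
stable under generalization; (3) for some quasi-compact E ⊆ X, W consists exactly of the points that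
specialize to a point of E; (4) W is the intersection of some family of quasi-compact opens; (5)
there are a nonempty index set I and quasi-compact opens U_i with W = ⋂ U_i such that for all i, j
some U_k is contained in U_i ∩ U_j. -/
theorem result {X : Type u} [TopologicalSpace X] [SpectralSpace X] (W : Set X) :
    List.TFAE [
      (∃ S : Set (Set X), (∀ s ∈ S, Topology.IsConstructible s) ∧ W = ⋂₀ S) ∧ StableUnderGeneralization W,
      IsCompact W ∧ StableUnderGeneralization W,
      ∃ E : Set X, IsCompact E ∧ W = {x | ∃ e ∈ E, x ⤳ e},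
      ∃ S : Set (Set X), (∀ s ∈ S, IsOpen s ∧ IsCompact s) ∧ W = ⋂₀ S,
      ∃ (I : Type u) (_ : Nonempty I) (U : I → Set X), (∀ i, IsOpen (U i) ∧ IsCompact (U i)) ∧
        W = ⋂ i, U i ∧ ∀ i j, ∃ k, U k ⊆ U i ∩ U j] := by
  classical
  tfae_have 1 → 2 := by
    rintro ⟨⟨S, hS, rfl⟩, hst⟩
    exact ⟨Groth.Agent.SpecSp.isCompact_of_cons (@isClosed_sInter X (constructibleTopology X) S fun s hs =>
      Groth.Agent.H8ProCons.isClosed_cons_of_isConstructible (hS s hs)), hst⟩
  tfae_have 2 → 3 := fun ⟨hc, hst⟩ => ⟨W, hc, Set.Subset.antisymm (fun x hx => ⟨x, hx, specializes_rfl⟩)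
    fun x ⟨e, he, hxe⟩ => hst hxe he⟩
  tfae_have 3 → 4 := by
    rintro ⟨E, hE, rfl⟩
    exact ⟨_, fun s hs => hs.1, Groth.Agent.SpecSp.generalizations_eq_sInter hE⟩
  tfae_have 4 → 5 := by
    rintro ⟨S, hS, rfl⟩
    have hfin : ∀ t : Finset S, IsOpen (⋂ s ∈ t, (s : Set X)) ∧ IsCompact (⋂ s ∈ t, (s : Set X)) := by
      intro t
      induction t using Finset.induction_on with
      | empty => refine ⟨?_, ?_⟩ <;> simp [isCompact_univ]
      | insert a t _ ih =>
        rw [Finset.set_biInter_insert]
        exact ⟨(hS a a.2).1.inter ih.1, QuasiSeparatedSpace.inter_isCompact _ _ (hS a a.2).1 (hS a a.2).2 ih.1 ih.2⟩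
    refine ⟨Finset S, inferInstance, fun t => ⋂ s ∈ t, (s : Set X), hfin, ?_, fun t t' => ⟨t ∪ t', ?_⟩⟩
    · ext x
      refine ⟨fun hx => Set.mem_iInter.2 fun t => Set.mem_iInter₂.2 fun s _ => Set.mem_sInter.1 hx s s.2,
        fun hx => Set.mem_sInter.2 fun s hs => ?_⟩
      exact Set.mem_iInter₂.1 (Set.mem_iInter.1 hx {⟨s, hs⟩}) ⟨s, hs⟩ (Finset.mem_singleton_self _)
    · intro x hx; simp only [Set.mem_iInter, Finset.mem_union] at hx; exact ⟨Set.mem_iInter₂.2 fun s hs => hx s (Or.inl hs), Set.mem_iInter₂.2 fun s hs => hx s (Or.inr hs)⟩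
  tfae_have 5 → 1 := by
    rintro ⟨I, -, U, hU, rfl, -⟩
    refine ⟨⟨Set.range U, ?_, (Set.sInter_range U).symm⟩, stableUnderGeneralization_iInter U fun i => (hU i).1.stableUnderGeneralization⟩
    rintro _ ⟨i, rfl⟩
    exact (hU i).2.isConstructible (hU i).1
  tfae_finish

end Groth.Agent.S7539
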