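import Mathlib.Topology.Spectral.Basic
import Groth.Agent.SpecSp.Basic

set_option autoImplicit false
universe u
namespace SpecSp
end SpecSp
open SpecSp

namespace Groth.Agent.S7540

/-- Let X be a spectral space, I a nonempty index set and U_i ⊆ X quasi-compact opens such that for all
i, j some U_k lies in U_i ∩ U_j; put W = ⋂ U_i. Then every open subset of X containing W contains
some U_i. The published statement also asserts that W is spectral and is the limit of the U_i; this
row states the neighbourhood property. -/
theorem result {X : Type u} [TopologicalSpace X] [SpectralSpace X]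
    {I : Type u} [Nonempty I] (U : I → Set X) (hU : ∀ i, IsOpen (U i) ∧ IsCompact (U i))
    (hdir : ∀ i j, ∃ k, U k ⊆ U i ∩ U j) :
    ∀ V : Set X, IsOpen V → (⋂ i, U i) ⊆ V → ∃ i, U i ⊆ V := by
  classical
  intro V hV hsub
  by_contra hne
  push Not at hne
  obtain ⟨z, hz⟩ := Groth.Agent.SpecSp.nonempty_iInter_cons (fun i => U i ∩ Vᶜ)
    (fun i => @IsClosed.inter X _ _ (constructibleTopology X)
      (Groth.Agent.SpecSp.isClosed_cons_of_isCompactOpen (hU i).1 (hU i).2)
      (Groth.Agent.SpecSp.isClosed_cons_of_isClosed hV.isClosed_compl)) (fun s => by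
      obtain ⟨k, hk⟩ : ∃ k, ∀ i ∈ s, U k ⊆ U i := by
        induction s using Finset.induction_on with
        | empty => exact ⟨Classical.arbitrary I, fun i hi => absurd hi (Finset.notMem_empty i)⟩
        | insert a t _ ih =>
          obtain ⟨k, hk⟩ := ih
          obtain ⟨l, hl⟩ := hdir a k
          refine ⟨l, fun i hi => ?_⟩
          rcases Finset.mem_insert.1 hi with rfl | hi
          · exact hl.trans Set.inter_subset_left
          · exact (hl.trans Set.inter_subset_right).trans (hk i hi)
      obtain ⟨z, hz, hz'⟩ := Set.not_subset.1 (hne k)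
      exact ⟨z, Set.mem_iInter₂.2 fun i hi => ⟨hk i hi hz, hz'⟩⟩)
  exact (Set.mem_iInter.1 hz (Classical.arbitrary I)).2 (hsub (Set.mem_iInter.2 fun i => (Set.mem_iInter.1 hz i).1))

end Groth.Agent.S7540
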