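import Mathlib.Topology.Spectral.Basic
import Mathlib.Topology.Constructible
import Groth.Agent.SpecSp.Basic

set_option autoImplicit false
universe u
namespace SpecSp
end SpecSp
open SpecSp

namespace Groth.Agent.S7541

/-- Let X be a spectral space, E ⊆ X a constructible subset and W the set of points of X that specialize
to a point of E. Then the subspace W minus E is a spectral space. (The description of W minus E as a
limit of the U_i minus E is not recorded here.) -/
theorem result {X : Type u} [TopologicalSpace X] [SpectralSpace X]
    (E : Set X) (hE : Topology.IsConstructible E) :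
    SpectralSpace ↥({x : X | ∃ e ∈ E, x ⤳ e} \ E) := by
  have hE' : IsCompact E := Groth.Agent.SpecSp.isCompact_of_cons (Groth.Agent.H8ProCons.isClosed_cons_of_isConstructible hE)
  refine (Groth.Agent.SpecSp.spectralSpace_of_isEmbedding Topology.IsEmbedding.subtypeVal ?_).1
  rw [Subtype.range_coe, Set.diff_eq, Groth.Agent.SpecSp.generalizations_eq_sInter hE']
  exact @IsClosed.inter X _ _ (constructibleTopology X)
    (@isClosed_sInter X (constructibleTopology X) _ fun s hs => Groth.Agent.SpecSp.isClosed_cons_of_isCompactOpen hs.1.1 hs.1.2)
    (Groth.Agent.H8ProCons.isClosed_cons_of_isConstructible hE.compl)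

end Groth.Agent.S7541
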