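import Mathlib.Topology.JacobsonSpace
import Mathlib.Topology.Spectral.Prespectral
import Groth.Agent.SpecSp.Limit

set_option autoImplicit false
universe u
namespace PtTop
end PtTop
open PtTop

namespace Groth.Agent.S7547

/-- Let X be a Kolmogorov topological space whose quasi-compact opens form a basis for the topology. If
X is not Jacobson, there is a point x ∈ X which is not closed but such that {x} is locally closed. -/
theorem result {X : Type u} [TopologicalSpace X]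
    [T0Space X] [PrespectralSpace X] (hX : ¬ JacobsonSpace X) :
    ∃ x : X, ¬ IsClosed ({x} : Set X) ∧ IsLocallyClosed ({x} : Set X) := by
  rw [jacobsonSpace_iff_locallyClosed] at hX
  push Not at hX
  obtain ⟨Z, hne, hZl, hZ⟩ := hX
  obtain ⟨U, C, hU, hC, rfl⟩ := hZl
  obtain ⟨x, hxU, hxC⟩ := hne
  obtain ⟨V, hV, hVc, hxV, hVU⟩ := Groth.Agent.SpecSp.exists_compactOpen hU hxU
  have : CompactSpace ↥(V ∩ C) := isCompact_iff_compactSpace.1 (hVc.inter_right hC)
  obtain ⟨⟨y, hyV, hyC⟩, -, hy⟩ := IsClosed.exists_closed_singleton (X := ↥(V ∩ C)) isClosed_univ ⟨⟨x, hxV, hxC⟩, trivial⟩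
  obtain ⟨D, hD, hD'⟩ := isClosed_induced_iff.1 hy
  refine ⟨y, fun hcl => ?_, ?_⟩
  · exact (Set.eq_empty_iff_forall_notMem.1 hZ y) ⟨⟨hVU hyV, hyC⟩, hcl⟩
  · refine ⟨V, C ∩ D, hV, hC.inter hD, ?_⟩
    ext z
    refine ⟨fun hz => ?_, fun ⟨hzV, hzC, hzD⟩ => ?_⟩
    · obtain rfl : z = y := hz
      exact ⟨hyV, hyC, ((Set.ext_iff.1 hD' ⟨z, hyV, hyC⟩).2 rfl : z ∈ D)⟩
    · exact congrArg Subtype.val ((Set.ext_iff.1 hD' ⟨z, hzV, hzC⟩).1 hzD)

end Groth.Agent.S7547
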