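import Mathlib.Topology.JacobsonSpace
set_option autoImplicit false
universe u
namespace PtTop
end PtTop
open PtTop

namespace Groth.Agent.S7548

/-- Let X be a Jacobson space and let T = ⋃ T_i be a union of subsets T_i ⊆ X each locally closed in X
(open, closed, locally closed and constructible subsets are of this form). Then T is Jacobson and
every point of T closed in T is closed in X. -/
theorem result {X : Type u} [TopologicalSpace X] [JacobsonSpace X]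
    {ι : Type u} (T : ι → Set X) (hT : ∀ i, IsLocallyClosed (T i)) :
    JacobsonSpace ↥(⋃ i, T i) ∧
      closedPoints ↥(⋃ i, T i) ⊆ (Subtype.val : ↥(⋃ i, T i) → X) ⁻¹' closedPoints X := by
  classical
  have hemb := Topology.IsEmbedding.subtypeVal (p := (· ∈ ⋃ i, T i))
  have hcl : ∀ A : Set X, IsLocallyClosed A → A ⊆ ⋃ i, T i → ∀ i, (A ∩ T i).Nonempty →
      ∃ x ∈ A ∩ T i, IsClosed ({x} : Set X) := fun A hA _ i hne => by
    obtain ⟨x, hx, hx'⟩ := nonempty_inter_closedPoints hne (hA.inter (hT i))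
    exact ⟨x, hx, mem_closedPoints_iff.1 hx'⟩
  refine ⟨jacobsonSpace_iff_locallyClosed.2 fun Z hne hZ => ?_, fun t ht => ?_⟩
  · obtain ⟨U, C, hU, hC, rfl⟩ := hZ
    obtain ⟨U', hU', rfl⟩ := isOpen_induced_iff.1 hU
    obtain ⟨C', hC', rfl⟩ := isClosed_induced_iff.1 hC
    obtain ⟨⟨z, hz⟩, hzU, hzC⟩ := hne
    obtain ⟨i, hi⟩ := Set.mem_iUnion.1 hz
    obtain ⟨x, ⟨hxA, hxi⟩, hx⟩ := hcl (U' ∩ C' ∩ T i)
      ((hU'.isLocallyClosed.inter hC'.isLocallyClosed).inter (hT i))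
      (fun y hy => Set.mem_iUnion.2 ⟨i, hy.2⟩) i ⟨z, ⟨⟨hzU, hzC⟩, hi⟩, hi⟩
    refine ⟨⟨x, Set.mem_iUnion.2 ⟨i, hxi⟩⟩, ⟨hxA.1.1, hxA.1.2⟩, mem_closedPoints_iff.2 ?_⟩
    rw [← Set.image_singleton (f := fun _ : Unit => (⟨x, Set.mem_iUnion.2 ⟨i, hxi⟩⟩ : ↥(⋃ i, T i))) (a := ())]
    convert hx.preimage hemb.continuous
    ext y; simp [Subtype.ext_iff]
  · rw [mem_closedPoints_iff] at ht
    obtain ⟨C, hC, hC'⟩ := isClosed_induced_iff.1 ht
    obtain ⟨i, hi⟩ := Set.mem_iUnion.1 t.2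
    have htC : (t : X) ∈ C := (Set.ext_iff.1 hC' t).2 rfl
    obtain ⟨x, ⟨hxA, -⟩, hx⟩ := hcl (C ∩ T i) (hC.isLocallyClosed.inter (hT i))
      (fun y hy => Set.mem_iUnion.2 ⟨i, hy.2⟩) i ⟨t, ⟨htC, hi⟩, hi⟩
    have : (⟨x, Set.mem_iUnion.2 ⟨i, hxA.2⟩⟩ : ↥(⋃ i, T i)) = t := (Set.ext_iff.1 hC' _).1 hxA.1
    rw [← this]
    exact mem_closedPoints_iff.2 hx

end Groth.Agent.S7548
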