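import Mathlib.Topology.JacobsonSpace
import Mathlib.Topology.Constructible
set_option autoImplicit false
universe u
namespace PtTop
end PtTop
open PtTop

namespace Groth.Agent.S7549

/-- Let X be a Jacobson space and X₀ ⊆ X the subspace of closed points. (a) For U ⊆ X open, U is
quasi-compact if and only if U ∩ X₀ is quasi-compact, and U is retrocompact in X if and only if U ∩
X₀ is retrocompact in X₀. (b) The rule E ↦ E ∩ X₀ is an inclusion-preserving and
inclusion-reflecting bijection between the constructible subsets of X and the constructible subsets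
of X₀. -/
theorem result {X : Type u} [TopologicalSpace X] [JacobsonSpace X] :
    (∀ U : Set X, IsOpen U →
      (IsCompact U ↔ IsCompact ((Subtype.val : closedPoints X → X) ⁻¹' U)) ∧
      (IsRetrocompact U ↔ IsRetrocompact ((Subtype.val : closedPoints X → X) ⁻¹' U))) ∧
    (∀ E : Set X, Topology.IsConstructible E →
      Topology.IsConstructible ((Subtype.val : closedPoints X → X) ⁻¹' E)) ∧
    (∀ E E' : Set X, Topology.IsConstructible E → Topology.IsConstructible E' →
      ((Subtype.val : closedPoints X → X) ⁻¹' E ⊆ Subtype.val ⁻¹' E' ↔ E ⊆ E')) ∧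
    (∀ F : Set (closedPoints X), Topology.IsConstructible F →
      ∃ E : Set X, Topology.IsConstructible E ∧ (Subtype.val : closedPoints X → X) ⁻¹' E = F) := by
  classical
  let v : closedPoints X → X := Subtype.val
  have hrefl : ∀ U V : Set X, IsOpen U → IsOpen V → v ⁻¹' U ⊆ v ⁻¹' V → U ⊆ V := fun U V hU hV h x hx => by
    by_contra hxV
    obtain ⟨y, hy, hy'⟩ := nonempty_inter_closedPoints (Z := U ∩ Vᶜ) ⟨x, hx, hxV⟩
      (hU.isLocallyClosed.inter hV.isClosed_compl.isLocallyClosed)
    exact hy.2 (h (show (⟨y, hy'⟩ : closedPoints X) ∈ v ⁻¹' U from hy.1))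
  have hc : ∀ U : Set X, IsOpen U → (IsCompact U ↔ IsCompact (v ⁻¹' U)) := fun U hU => by
    constructor <;> intro h <;> refine isCompact_of_finite_subcover fun {ι} V hV hcov => ?_
    · choose V' hV' hVV using fun i => isOpen_induced_iff.1 (hV i)
      obtain ⟨t, ht⟩ := h.elim_finite_subcover V' hV' (hrefl U _ hU (isOpen_iUnion hV') (by
        refine hcov.trans ?_
        rw [Set.preimage_iUnion]
        exact Set.iUnion_mono fun i => (hVV i).ge))
      refine ⟨t, fun z hz => ?_⟩
      obtain ⟨i, hi, hzi⟩ := Set.mem_iUnion₂.1 (ht hz)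
      exact Set.mem_iUnion₂.2 ⟨i, hi, hVV i ▸ hzi⟩
    · obtain ⟨t, ht⟩ := h.elim_finite_subcover (fun i => v ⁻¹' V i) (fun i => (hV i).preimage continuous_subtype_val)
        ((Set.preimage_mono hcov).trans Set.preimage_iUnion.le)
      refine ⟨t, hrefl U _ hU (isOpen_biUnion fun i _ => hV i) ?_⟩
      rw [Set.preimage_iUnion₂]
      exact ht
  have hr : ∀ U : Set X, IsOpen U → (IsRetrocompact U ↔ IsRetrocompact (v ⁻¹' U)) := fun U hU => by
    constructor <;> intro h W hW hWo
    · obtain ⟨W', hW', rfl⟩ := isOpen_induced_iff.1 hWo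
      exact (hc _ (hU.inter hW')).1 (h ((hc _ hW').2 hW) hW')
    · exact (hc _ (hU.inter hWo)).2 (h ((hc _ hWo).1 hW) (hWo.preimage continuous_subtype_val))
  have hpiece : ∀ E : Set X, Topology.IsConstructible E →
      (∀ x ∈ E, ∃ L, IsLocallyClosed L ∧ x ∈ L ∧ L ⊆ E) ∧ (∀ x ∈ Eᶜ, ∃ L, IsLocallyClosed L ∧ x ∈ L ∧ L ⊆ Eᶜ) := by
    intro E hE
    induction hE using Topology.IsConstructible.empty_union_induction with
    | open_retrocompact U hU _ =>
      exact ⟨fun x hx => ⟨U, hU.isLocallyClosed, hx, Set.Subset.rfl⟩,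
        fun x hx => ⟨Uᶜ, hU.isClosed_compl.isLocallyClosed, hx, Set.Subset.rfl⟩⟩
    | union s _ t _ h h' =>
      refine ⟨fun x hx => hx.elim (fun hx => ?_) (fun hx => ?_), fun x hx => ?_⟩
      · obtain ⟨L, h1, h2, h3⟩ := h.1 x hx; exact ⟨L, h1, h2, h3.trans Set.subset_union_left⟩
      · obtain ⟨L, h1, h2, h3⟩ := h'.1 x hx; exact ⟨L, h1, h2, h3.trans Set.subset_union_right⟩
      · rw [Set.compl_union] at hx ⊢
        obtain ⟨L, h1, h2, h3⟩ := h.2 x hx.1
        obtain ⟨L', h1', h2', h3'⟩ := h'.2 x hx.2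
        exact ⟨L ∩ L', h1.inter h1', ⟨h2, h2'⟩, Set.inter_subset_inter h3 h3'⟩
    | compl s _ h => exact ⟨h.2, by rw [compl_compl]; exact h.1⟩
  have hpre : ∀ E : Set X, Topology.IsConstructible E → Topology.IsConstructible (v ⁻¹' E) := by
    intro E hE
    induction hE using Topology.IsConstructible.empty_union_induction with
    | open_retrocompact U hU hUr => exact ((hr U hU).1 hUr).isConstructible (hU.preimage continuous_subtype_val)
    | union s _ t _ h h' => exact h.union h'
    | compl s _ h => exact h.compl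
  refine ⟨fun U hU => ⟨hc U hU, hr U hU⟩, hpre, fun E E' hE hE' => ⟨fun h x hx => ?_, fun h => Set.preimage_mono h⟩, fun F hF => ?_⟩
  · by_contra hx'
    obtain ⟨L, h1, h2, h3⟩ := (hpiece E hE).1 x hx
    obtain ⟨L', h1', h2', h3'⟩ := (hpiece E' hE').2 x hx'
    obtain ⟨y, hy, hy'⟩ := nonempty_inter_closedPoints (Z := L ∩ L') ⟨x, h2, h2'⟩ (h1.inter h1')
    exact h3' hy.2 (h (show (⟨y, hy'⟩ : closedPoints X) ∈ v ⁻¹' E from h3 hy.1))
  · induction hF using Topology.IsConstructible.empty_union_induction with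
    | open_retrocompact U hU hUr =>
      obtain ⟨U', hU', rfl⟩ := isOpen_induced_iff.1 hU
      exact ⟨U', ((hr U' hU').2 hUr).isConstructible hU', rfl⟩
    | union s _ t _ h h' =>
      obtain ⟨A, hA, rfl⟩ := h
      obtain ⟨B, hB, rfl⟩ := h'
      exact ⟨A ∪ B, hA.union hB, rfl⟩
    | compl s _ h =>
      obtain ⟨A, hA, rfl⟩ := h
      exact ⟨Aᶜ, hA.compl, rfl⟩

end Groth.Agent.S7549
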