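import Mathlib.Topology.Inseparable
import Mathlib.Topology.NoetherianSpace
import Mathlib.Topology.Sober
set_option autoImplicit false
universe u
namespace PtTop
end PtTop
open PtTop

namespace Groth.Agent.S7550

/-- Let f : X → Y be a continuous and open map of topological spaces, with X Noetherian, every
irreducible closed subset of X having a generic point, and Y Kolmogorov. Then generalizations lift
along f. (Part (1), closed maps are specializing, is a library fact.) -/
theorem result {X Y : Type u} [TopologicalSpace X] [TopologicalSpace Y]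
    [TopologicalSpace.NoetherianSpace X] [QuasiSober X] [T0Space Y]
    (f : X → Y) (hf : Continuous f) (hfo : IsOpenMap f) :
    GeneralizingMap f := by
  classical
  intro x y hy
  have hxZ : x ∈ closure (f ⁻¹' {y}) := mem_closure_iff.2 fun U hU hxU => by
    obtain ⟨z, hz, hzy⟩ := hy.mem_open (hfo U hU) ⟨x, hxU, rfl⟩
    exact ⟨z, hz, hzy⟩
  obtain ⟨S, hSf, hScl, hSi, hSZ⟩ := TopologicalSpace.NoetherianSpace.exists_finite_set_isClosed_irreducible
    (isClosed_closure (s := f ⁻¹' {y}))
  have hex : ∃ n, ∃ T : Finset (Set X), T ⊆ hSf.toFinset ∧ closure (f ⁻¹' {y}) ⊆ ⋃₀ (T : Set (Set X)) ∧ T.card = n :=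
    ⟨_, hSf.toFinset, Finset.Subset.refl _, by rw [Set.Finite.coe_toFinset]; exact hSZ.le, rfl⟩
  obtain ⟨T, hTS, hcov, hcard⟩ := Nat.find_spec hex
  obtain ⟨s, hs, hxs⟩ := hcov hxZ
  have hsS : s ∈ S := hSf.mem_toFinset.1 (hTS hs)
  obtain ⟨η, hη⟩ := QuasiSober.sober (hSi s hsS) (hScl s hsS)
  refine ⟨η, hη.specializes hxs, ?_⟩
  have hηZ : η ∈ closure (f ⁻¹' {y}) := hSZ ▸ ⟨s, hsS, hη.mem⟩
  have h1 : y ⤳ f η := specializes_iff_mem_closure.2
    (closure_mono (Set.image_preimage_subset f {y}) (image_closure_subset_closure_image hf ⟨η, hηZ, rfl⟩))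
  obtain ⟨z, hzy, hz⟩ : ∃ z, f z = y ∧ z ∈ s := by
    by_contra hne
    have hK : closure (f ⁻¹' {y}) ⊆ ⋃₀ ((T.erase s : Finset (Set X)) : Set (Set X)) := by
      refine closure_minimal (fun z hz => ?_) ?_
      · obtain ⟨t, ht, hzt⟩ := hcov (subset_closure hz)
        exact ⟨t, Finset.mem_coe.2 (Finset.mem_erase.2 ⟨fun h => hne ⟨z, hz, h ▸ hzt⟩, ht⟩), hzt⟩
      · rw [Set.sUnion_eq_biUnion]
        exact (Finset.finite_toSet _).isClosed_biUnion fun t ht => hScl t (hSf.mem_toFinset.1 (hTS (Finset.mem_of_mem_erase ht)))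
    have h3 := Nat.find_min' hex ⟨_, (Finset.erase_subset _ _).trans hTS, hK, rfl⟩
    have h4 : (T.erase s).card < T.card := Finset.card_erase_lt_of_mem hs
    omega
  exact (((hη.specializes hz).map hf).trans (specializes_of_eq hzy)).antisymm h1 |>.eq

end Groth.Agent.S7550
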