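import Mathlib.Topology.Inseparable
import Mathlib.Topology.Sober
import Mathlib.Topology.Maps.Basic
set_option autoImplicit false
universe u
namespace PtTop
end PtTop
open PtTop

namespace Groth.Agent.S7551

/-- Let s, t : R → U and π : U → X be continuous maps between topological spaces satisfying: (1) π is an
open map, (2) U is a sober space, (3) s and t have finite fibres, (4) generalizations lift along s
and along t, and (5) the image of (t, s) : R → U × U is an equivalence relation on U and π
identifies X, as a set, with the quotient of U by it. Then X is Kolmogorov. -/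
theorem result {R U X : Type u}
    [TopologicalSpace R] [TopologicalSpace U] [TopologicalSpace X] [QuasiSober U] [T0Space U]
    (s t : R → U) (π : U → X) (hs : Continuous s) (ht : Continuous t) (hπ : Continuous π)
    (hπo : IsOpenMap π) (hsf : ∀ u, (s ⁻¹' {u}).Finite) (htf : ∀ u, (t ⁻¹' {u}).Finite)
    (hsg : GeneralizingMap s) (htg : GeneralizingMap t)
    (hE : Equivalence fun u u' : U => ∃ r, t r = u ∧ s r = u')
    (hπs : Function.Surjective π) (hπq : ∀ u u' : U, π u = π u' ↔ ∃ r, t r = u ∧ s r = u') :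
    T0Space X := by
  classical
  let C : U → Set U := fun u => {c | π c = π u}
  have hfin : ∀ u, (C u).Finite := fun u => ((htf u).image s).subset fun c hc => by
    obtain ⟨r, hr, hr'⟩ := (hπq u c).1 hc.symm
    exact ⟨r, hr, hr'⟩
  have key : ∀ u u', π u ⤳ π u' → ∀ w ∈ C u', ∃ c ∈ C u, c ⤳ w := by
    intro u u' h
    have h0 : ∃ c ∈ C u, c ⤳ u' := by
      by_contra hne
      push Not at hne
      have hW : IsOpen (⋂ c ∈ C u, (closure ({c} : Set U))ᶜ) :=
        (hfin u).isOpen_biInter fun c _ => isClosed_closure.isOpen_compl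
      obtain ⟨w, hw, hwu⟩ := h.mem_open (hπo _ hW)
        ⟨u', Set.mem_iInter₂.2 fun c hc hcl => hne c hc (specializes_iff_mem_closure.2 hcl), rfl⟩
      exact Set.mem_iInter₂.1 hw w hwu (subset_closure rfl)
    obtain ⟨c, hc, hcu⟩ := h0
    intro w hw
    obtain ⟨r, hr, hr'⟩ := (hπq u' w).1 hw.symm
    obtain ⟨r', hrr, hr'c⟩ := htg (hr.symm ▸ hcu : c ⤳ t r)
    refine ⟨s r', ((hπq c (s r')).2 ⟨r', hr'c, rfl⟩).symm.trans hc, hr' ▸ hrr.map hs⟩
  refine ⟨fun x x' h => ?_⟩
  obtain ⟨u, rfl⟩ := hπs x
  obtain ⟨u', rfl⟩ := hπs x'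
  obtain ⟨m, hm, hmin⟩ := Finset.exists_min_image (hfin u).toFinset
    (fun m => ((hfin u).toFinset.filter fun c => c ⤳ m).card) ⟨u, (hfin u).mem_toFinset.2 (rfl : π u = π u)⟩
  rw [Set.Finite.mem_toFinset] at hm
  obtain ⟨c', hc', hcm⟩ := key u' u h.specializes' m hm
  obtain ⟨c, hc, hcc⟩ := key u u' h.specializes c' hc'
  have hmc : m ⤳ c := by
    by_contra hne
    refine absurd (hmin c ((hfin u).mem_toFinset.2 hc)) (not_le.2 (Finset.card_lt_card ?_))
    refine ⟨fun d hd => ?_, fun hsub => ?_⟩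
    · rw [Finset.mem_filter] at hd ⊢
      exact ⟨hd.1, hd.2.trans (hcc.trans hcm)⟩
    · exact hne (Finset.mem_filter.1 (hsub (Finset.mem_filter.2 ⟨(hfin u).mem_toFinset.2 hm, specializes_rfl⟩))).2
  have he : c' = m := (hcm.antisymm (hmc.trans hcc)).eq
  exact (show π m = π u from hm).symm.trans (he ▸ (show π c' = π u' from hc'))

end Groth.Agent.S7551
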