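import Mathlib.Topology.KrullDimension
import Mathlib.Topology.Inseparable
import Mathlib.Topology.Sober
set_option autoImplicit false
universe u
namespace PtTop
end PtTop
open PtTop

namespace Groth.Agent.S7552

/-- Let f : X → Y be a continuous surjective map of topological spaces with Y sober, and assume that
specializations lift along f or that generalizations lift along f. Then dim X ≥ dim Y (Krull
dimensions as suprema of lengths of chains of irreducible closed subsets). -/
theorem result {X Y : Type u}
    [TopologicalSpace X] [TopologicalSpace Y] [QuasiSober Y] [T0Space Y]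
    (f : X → Y) (hf : Continuous f) (hsurj : Function.Surjective f)
    (hlift : SpecializingMap f ∨ GeneralizingMap f) :
    topologicalKrullDim Y ≤ topologicalKrullDim X := by
  refine iSup_le fun l => ?_
  have hgen : ∀ i, ∃ y, IsGenericPoint y (l i : Set Y) := fun i => QuasiSober.sober (l i).isIrreducible (l i).isClosed
  choose y hy using hgen
  have hst : ∀ i : Fin l.length, y i.succ ⤳ y i.castSucc := fun i =>
    (hy i.succ).specializes ((show l i.castSucc < l i.succ from l.step i).le (hy i.castSucc).mem)
  obtain ⟨x, hx, hxs⟩ : ∃ x : Fin (l.length + 1) → X, (∀ i, f (x i) = y i) ∧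
      ∀ i : Fin l.length, x i.succ ⤳ x i.castSucc := by
    rcases hlift with h | h
    · choose lift h1 h2 using fun (a : X) (b : Y) (hab : f a ⤳ b) => h hab
      let g : ∀ i, {x : X // f x = y i} := fun i => Fin.reverseInduction
        (motive := fun i => {x : X // f x = y i})
        ⟨(hsurj _).choose, (hsurj _).choose_spec⟩
        (fun j p => ⟨lift p.1 (y j.castSucc) (p.2.symm ▸ hst j), h2 p.1 (y j.castSucc) (p.2.symm ▸ hst j)⟩) i
      refine ⟨fun i => (g i).1, fun i => (g i).2, fun j => ?_⟩
      simp only [g, Fin.reverseInduction_castSucc]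
      exact h1 _ _ _
    · choose lift h1 h2 using fun (a : X) (b : Y) (hab : b ⤳ f a) => h hab
      let g : ∀ i, {x : X // f x = y i} := fun i => Fin.induction
        (motive := fun i => {x : X // f x = y i})
        ⟨(hsurj _).choose, (hsurj _).choose_spec⟩
        (fun j p => ⟨lift p.1 (y j.succ) (p.2.symm ▸ hst j), h2 p.1 (y j.succ) (p.2.symm ▸ hst j)⟩) i
      refine ⟨fun i => (g i).1, fun i => (g i).2, fun j => ?_⟩
      simp only [g, Fin.induction_succ]
      exact h1 _ _ _
  let C : Fin (l.length + 1) → TopologicalSpace.IrreducibleCloseds X := fun i =>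
    ⟨closure {x i}, isIrreducible_singleton.closure, isClosed_closure⟩
  refine Order.LTSeries.length_le_krullDim (⟨l.length, C, fun i => ?_⟩ : LTSeries (TopologicalSpace.IrreducibleCloseds X))
  refine lt_of_le_of_ne (α := TopologicalSpace.IrreducibleCloseds X) (specializes_iff_closure_subset.1 (hxs i)) fun he => (show l i.castSucc < l i.succ from l.step i).ne ?_
  have hins : Inseparable (x i.castSucc) (x i.succ) :=
    inseparable_iff_closure_eq.2 (congrArg (fun Z : TopologicalSpace.IrreducibleCloseds X => (Z : Set X)) he)
  have := (hins.map hf).eq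
  rw [hx, hx] at this
  exact TopologicalSpace.IrreducibleCloseds.ext ((hy i.castSucc).def.symm.trans (this ▸ (hy i.succ).def))

end Groth.Agent.S7552
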