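import Mathlib.Topology.GDelta.Basic
set_option autoImplicit false
universe u
namespace PtTop
end PtTop
open PtTop

namespace Groth.Agent.S7554

/-- Let X be a topological space with an open covering X = ⋃ U_i and let T ⊆ X. If T ∩ U_i is nowhere
dense in U_i (with the induced topology) for every i, then T is nowhere dense in X. -/
theorem result {X : Type u} [TopologicalSpace X] {ι : Type u}
    (U : ι → Set X) (hU : ∀ i, IsOpen (U i)) (hcov : ⋃ i, U i = Set.univ) (T : Set X)
    (hT : ∀ i, IsNowhereDense ((Subtype.val : U i → X) ⁻¹' T)) :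
    IsNowhereDense T := by
  refine Set.eq_empty_iff_forall_notMem.2 fun x hx => ?_
  obtain ⟨i, hi⟩ := Set.mem_iUnion.1 (hcov ▸ Set.mem_univ x)
  have he := (hU i).isOpenEmbedding_subtypeVal
  have h := hT i
  rw [IsNowhereDense, ← he.isOpenMap.preimage_closure_eq_closure_preimage continuous_subtype_val,
    ← he.isOpenMap.preimage_interior_eq_interior_preimage continuous_subtype_val] at h
  exact Set.eq_empty_iff_forall_notMem.1 h ⟨x, hi⟩ hx

end Groth.Agent.S7554
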