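import Mathlib.Topology.ExtremallyDisconnected
import Mathlib.Topology.Homeomorph.Defs
import Mathlib.Topology.ExtremallyDisconnected

set_option autoImplicit false
universe u
namespace PtTop
end PtTop
open PtTop

namespace Groth.Agent.S7556

/-- `X` with the discrete topology -/
def Disc (X : Type u) : Type u := X

/-- the underlying point -/
def Disc.val {X : Type u} (x : Disc X) : X := x

instance (X : Type u) : TopologicalSpace (Disc X) := ⊥

instance (X : Type u) : DiscreteTopology (Disc X) := ⟨rfl⟩

/-- an endomorphism over `X` of a minimal cover is the identity -/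
lemma endo_eq_id {X E : Type u} [TopologicalSpace E] [T2Space E] (p : E → X)
    (hp : Function.Surjective p) (hmin : ∀ F : Set E, IsClosed F → F ≠ Set.univ → p '' F ≠ Set.univ)
    (s : E → E) (hs : Continuous s) (h : p ∘ s = p) : s = id := by
  funext e
  by_contra hne
  obtain ⟨U, V, hU, hV, hsU, heV, hd⟩ := t2_separation hne
  let W := V ∩ s ⁻¹' U
  have hW : IsOpen W := hV.inter (hU.preimage hs)
  refine hmin Wᶜ hW.isClosed_compl (fun hc => ?_) (Set.eq_univ_of_forall fun y => ?_)
  · exact Set.eq_univ_iff_forall.1 hc e ⟨heV, hsU⟩
  · obtain ⟨z, rfl⟩ := hp y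
    by_cases hz : z ∈ W
    · exact ⟨s z, fun hz' => Set.disjoint_left.1 hd hz.2 hz'.1, congrFun h z⟩
    · exact ⟨z, hz, rfl⟩

/-- Let X be a quasi-compact Hausdorff space. There is a continuous surjection p : X' → X with X'
quasi-compact, Hausdorff and extremally disconnected such that no proper closed subset of X' maps
onto X; and if q : X'' → X is a second cover with the same properties, there is a homeomorphism X' ≃
X'' compatible with p and q. -/
theorem result (X : Type u) [TopologicalSpace X] [CompactSpace X] [T2Space X] :
    (∃ (X' : Type u) (_ : TopologicalSpace X') (_ : CompactSpace X') (_ : T2Space X') (_ : ExtremallyDisconnected X')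
        (p : X' → X), Continuous p ∧ Function.Surjective p ∧
        ∀ E : Set X', IsClosed E → E ≠ Set.univ → p '' E ≠ Set.univ) ∧
    (∀ (X' X'' : Type u) [TopologicalSpace X'] [CompactSpace X'] [T2Space X'] [ExtremallyDisconnected X']
        [TopologicalSpace X''] [CompactSpace X''] [T2Space X''] [ExtremallyDisconnected X'']
        (p : X' → X) (q : X'' → X),
        Continuous p → Function.Surjective p → (∀ E : Set X', IsClosed E → E ≠ Set.univ → p '' E ≠ Set.univ) →
        Continuous q → Function.Surjective q → (∀ E : Set X'', IsClosed E → E ≠ Set.univ → q '' E ≠ Set.univ) →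
        ∃ h : X' ≃ₜ X'', q ∘ h = p) := by
  refine ⟨?_, ?_⟩
  · let D := StoneCech (Disc X)
    have hD : CompactT2.Projective D := StoneCech.projective
    have hid : Continuous (Disc.val : Disc X → X) := continuous_of_discreteTopology
    let π : D → X := stoneCechExtend hid
    have hπ : Continuous π := continuous_stoneCechExtend hid
    have hπs : Function.Surjective π := fun x =>
      ⟨stoneCechUnit (x : Disc X), congrFun (stoneCechExtend_extends hid) x⟩
    obtain ⟨E, hEc, hEi, hEmin⟩ := exists_compact_surjective_zorn_subset hπ hπs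
    let p : E → X := E.domRestrict π
    have hp : Continuous p := hπ.comp continuous_subtype_val
    have hps : Function.Surjective p := fun x => by
      obtain ⟨d, hd, rfl⟩ := (Set.eq_univ_iff_forall.1 hEi x)
      exact ⟨⟨d, hd⟩, rfl⟩
    have hmin : ∀ F : Set E, IsClosed F → F ≠ Set.univ → p '' F ≠ Set.univ :=
      fun F h1 h2 => hEmin F h2 h1
    obtain ⟨r, hr, hrp⟩ := hD hπ hp hps
    have hrid : r ∘ Subtype.val = id :=
      endo_eq_id p hps hmin _ (hr.comp continuous_subtype_val)
        (funext fun e => congrFun hrp e.1)
    have hE : CompactT2.Projective E := by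
      intro Y Z _ _ _ _ _ _ f g hf hg hgs
      obtain ⟨h, hh, hgh⟩ := hD (hf.comp hr) hg hgs
      refine ⟨h ∘ Subtype.val, hh.comp continuous_subtype_val, funext fun e => ?_⟩
      show g (h e.1) = f e
      rw [show g (h e.1) = f (r e.1) from congrFun hgh e.1, show r e.1 = e from congrFun hrid e]
    exact ⟨E, inferInstance, hEc, inferInstance, hE.extremallyDisconnected, p, hp, hps, hmin⟩
  · intro X' X'' _ _ _ _ _ _ _ _ p q hp hps hpm hq hqs hqm
    obtain ⟨h, hh, hqh⟩ := CompactT2.ExtremallyDisconnected.projective hp hq hqs
    obtain ⟨h', hh', hph'⟩ := CompactT2.ExtremallyDisconnected.projective hq hp hps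
    have e1 := endo_eq_id p hps hpm (h' ∘ h) (hh'.comp hh) (by
      rw [← Function.comp_assoc, hph', hqh])
    have e2 := endo_eq_id q hqs hqm (h ∘ h') (hh.comp hh') (by
      rw [← Function.comp_assoc, hqh, hph'])
    exact ⟨{ toFun := h, invFun := h', left_inv := congrFun e1, right_inv := congrFun e2,
             continuous_toFun := hh, continuous_invFun := hh' }, hqh⟩

end Groth.Agent.S7556
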