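import Mathlib.Topology.Category.TopCommRingCat
import Mathlib.CategoryTheory.Limits.Preserves.Basic
import Mathlib.Topology.Category.TopCommRingCat
import Mathlib.Algebra.Category.Ring.Limits
import Mathlib.Topology.Category.TopCat.Limits.Basic
import Mathlib.Topology.Algebra.Ring.Basic

set_option autoImplicit false
universe u
namespace CategoryTheory
end CategoryTheory
namespace CategoryTheory.Limits
end CategoryTheory.Limits
open CategoryTheory CategoryTheory.Limits
namespace PtTop
end PtTop
open PtTop

namespace Groth.Agent.S7557

variable {J : Type u} [SmallCategory J] (F : J ⥤ TopCommRingCat.{u})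

/-- the limit ring -/
noncomputable abbrev limRing : CommRingCat.{u} := limit (F ⋙ forget₂ TopCommRingCat.{u} CommRingCat.{u})

/-- the projections -/
noncomputable def proj (j : J) : limRing F →+* F.obj j :=
  (limit.π (F ⋙ forget₂ TopCommRingCat.{u} CommRingCat.{u}) j).hom

/-- the limit topology -/
noncomputable abbrev topR : TopologicalSpace (limRing F) :=
  ⨅ j, (F.obj j).isTopologicalSpace.induced (proj F j)

lemma ringTop : @IsTopologicalRing (limRing F) (topR F) _ :=
  letI := topR F
  { toContinuousAdd := continuousAdd_iInf fun j =>
      @continuousAdd_induced _ _ _ _ _ _ _ (F.obj j).isTopologicalSpace _ (proj F j)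
    toContinuousMul := continuousMul_iInf fun j =>
      @continuousMul_induced _ _ _ _ _ _ _ (F.obj j).isTopologicalSpace _ (proj F j)
    toContinuousNeg := continuousNeg_iInf fun j => by
      letI := TopologicalSpace.induced (proj F j) (F.obj j).isTopologicalSpace
      exact Topology.IsInducing.continuousNeg (⟨rfl⟩ : Topology.IsInducing (proj F j)) (fun x => map_neg _ x) }

/-- the limit cone -/
noncomputable def cone : Cone F where
  pt := @TopCommRingCat.of (limRing F) _ (topR F) (ringTop F)
  π :=
    { app := fun j => ⟨proj F j, continuous_iInf_dom (continuous_induced_dom)⟩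
      naturality := fun j j' f => Subtype.ext
        (congrArg CommRingCat.Hom.hom (limit.w (F ⋙ forget₂ TopCommRingCat.{u} CommRingCat.{u}) f)).symm }

lemma continuous_into {A : Type u} [TopologicalSpace A] (g : A → limRing F)
    (h : ∀ j, Continuous fun a => proj F j (g a)) : @Continuous _ _ _ (topR F) g :=
  continuous_iInf_rng.2 fun j => continuous_induced_rng.2 (h j)

lemma proj_ext {x y : limRing F} (h : ∀ j, proj F j x = proj F j y) : x = y :=
  Concrete.limit_ext (F ⋙ forget₂ TopCommRingCat.{u} CommRingCat.{u}) x y h

/-- the underlying map of the universal map -/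
noncomputable def liftRing (s : Cone F) : s.pt →+* limRing F :=
  (limit.lift (F ⋙ forget₂ TopCommRingCat.{u} CommRingCat.{u})
    ((forget₂ TopCommRingCat.{u} CommRingCat.{u}).mapCone s)).hom

lemma proj_liftRing (s : Cone F) (j : J) (x : s.pt) : proj F j (liftRing F s x) = (s.π.app j).1 x :=
  ConcreteCategory.congr_hom (limit.lift_π
    ((forget₂ TopCommRingCat.{u} CommRingCat.{u}).mapCone s) j) x

/-- it is a limit -/
noncomputable def isLim : IsLimit (cone F) where
  lift s := ⟨liftRing F s, continuous_into F _ fun j =>
    (show (fun a => proj F j (liftRing F s a)) = (s.π.app j).1 from funext (proj_liftRing F s j)).symm ▸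
      (s.π.app j).2⟩
  fac s j := Subtype.ext (RingHom.ext (proj_liftRing F s j))
  uniq s m hm := Subtype.ext (RingHom.ext fun x => proj_ext F fun j => by
    refine Eq.trans ?_ (proj_liftRing F s j x).symm
    exact congrArg (fun t : s.pt ⟶ F.obj j => t.1 x) (hm j))

/-- the underlying space is the limit -/
noncomputable def isLimTop : IsLimit ((forget₂ TopCommRingCat.{u} TopCat.{u}).mapCone (cone F)) := by
  let hc : IsLimit ((CategoryTheory.forget CommRingCat.{u}).mapCone
      (limit.cone (F ⋙ forget₂ TopCommRingCat.{u} CommRingCat.{u}))) :=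
    isLimitOfPreserves _ (limit.isLimit _)
  let toTypes : Cone (F ⋙ forget₂ TopCommRingCat.{u} TopCat.{u}) → Cone ((F ⋙ forget₂ TopCommRingCat.{u} CommRingCat.{u}) ⋙
      CategoryTheory.forget CommRingCat.{u}) := fun s =>
    { pt := s.pt
      π :=
        { app := fun j => TypeCat.ofHom fun x => (s.π.app j) x
          naturality := fun j j' f => by
            ext x
            exact (ConcreteCategory.congr_hom (s.w f) x).symm } }
  refine
    { lift := fun s => TopCat.ofHom ⟨fun x => hc.lift (toTypes s) x, continuous_into F _ fun j => ?_⟩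
      fac := fun s j => ?_
      uniq := fun s m hm => ?_ }
  · have : (fun a => proj F j (hc.lift (toTypes s) a)) = fun a => (s.π.app j) a :=
      funext fun a => ConcreteCategory.congr_hom (hc.fac (toTypes s) j) a
    rw [this]
    exact (s.π.app j).hom.continuous
  · ext x
    exact ConcreteCategory.congr_hom (hc.fac (toTypes s) j) x
  · ext x
    refine proj_ext F fun j => ?_
    refine Eq.trans ?_ (ConcreteCategory.congr_hom (hc.fac (toTypes s) j) x).symm
    exact ConcreteCategory.congr_hom (hm j) x

/-- The category of topological rings (commutative, with continuous ring homomorphisms) has limits, and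
limits commute with the forgetful functors to topological spaces and to rings. -/
theorem result :
    HasLimits TopCommRingCat.{u} ∧
    PreservesLimits (forget₂ TopCommRingCat.{u} TopCat.{u}) ∧
    PreservesLimits (forget₂ TopCommRingCat.{u} CommRingCat.{u}) := by
  refine ⟨⟨fun J _ => ⟨fun F => ⟨⟨_, isLim F⟩⟩⟩⟩, ⟨fun {J} _ => ⟨fun {F} => ?_⟩⟩, ⟨fun {J} _ => ⟨fun {F} => ?_⟩⟩⟩
  · exact preservesLimit_of_preserves_limit_cone (isLim F) (isLimTop F)
  · refine preservesLimit_of_preserves_limit_cone (isLim F) ?_
    exact IsLimit.ofIsoLimit (limit.isLimit _) (Cone.ext (Iso.refl _) (fun j => by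
      simp; rfl))

end Groth.Agent.S7557
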