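import Mathlib.Topology.Category.TopCommRingCat
import Mathlib.CategoryTheory.Limits.Preserves.Basic
import Mathlib.Topology.Category.TopCommRingCat
import Mathlib.Algebra.Category.Ring.Colimits
import Mathlib.Topology.Algebra.Ring.Basic

set_option autoImplicit false
universe u
namespace CategoryTheory
end CategoryTheory
namespace CategoryTheory.Limits
end CategoryTheory.Limits
open CategoryTheory CategoryTheory.Limits
namespace PtTop
end PtTop
open PtTop

namespace Groth.Agent.S7558

variable {J : Type u} [SmallCategory J] (F : J ⥤ TopCommRingCat.{u})

/-- the colimit ring -/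
noncomputable abbrev colimRing : CommRingCat.{u} := colimit (F ⋙ forget₂ TopCommRingCat.{u} CommRingCat.{u})

/-- the structure maps -/
noncomputable def leg (j : J) : F.obj j →+* colimRing F :=
  (colimit.ι (F ⋙ forget₂ TopCommRingCat.{u} CommRingCat.{u}) j).hom

/-- admissible ring topologies -/
noncomputable def topSet : Set (TopologicalSpace (colimRing F)) :=
  {t | @IsTopologicalRing (colimRing F) t _ ∧
    ∀ j, @Continuous _ _ (F.obj j).isTopologicalSpace t (leg F j)}

/-- the colimit topology -/
noncomputable abbrev topR : TopologicalSpace (colimRing F) := sInf (topSet F)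

lemma ringTop : @IsTopologicalRing (colimRing F) (topR F) _ :=
  letI := topR F
  { toContinuousAdd := continuousAdd_sInf fun _ ht => ht.1.toContinuousAdd
    toContinuousMul := continuousMul_sInf fun _ ht => ht.1.toContinuousMul
    toContinuousNeg := continuousNeg_sInf fun _ ht => ht.1.toContinuousNeg }

/-- the colimit cocone -/
noncomputable def cocone : Cocone F where
  pt := @TopCommRingCat.of (colimRing F) _ (topR F) (ringTop F)
  ι :=
    { app := fun j => ⟨leg F j, continuous_sInf_rng.2 fun t ht => ht.2 j⟩
      naturality := fun j j' f => Subtype.ext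
        (congrArg CommRingCat.Hom.hom (colimit.w (F ⋙ forget₂ TopCommRingCat.{u} CommRingCat.{u}) f)) }

/-- the underlying map of the universal map -/
noncomputable def descRing (s : Cocone F) : colimRing F →+* s.pt :=
  (colimit.desc (F ⋙ forget₂ TopCommRingCat.{u} CommRingCat.{u})
    ((forget₂ TopCommRingCat.{u} CommRingCat.{u}).mapCocone s)).hom

lemma descRing_leg (s : Cocone F) (j : J) :
    (descRing F s).comp (leg F j) = (s.ι.app j).1 :=
  congrArg CommRingCat.Hom.hom (colimit.ι_desc
    ((forget₂ TopCommRingCat.{u} CommRingCat.{u}).mapCocone s) j)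

/-- it is a colimit -/
noncomputable def isColim : IsColimit (cocone F) where
  desc s := ⟨descRing F s, by
    refine continuous_iff_le_induced.2 (sInf_le ⟨?_, fun j => ?_⟩)
    · letI := TopologicalSpace.induced (descRing F s) s.pt.isTopologicalSpace
      haveI : ContinuousAdd (colimRing F) := continuousAdd_induced (descRing F s)
      haveI : ContinuousMul (colimRing F) := continuousMul_induced (descRing F s)
      haveI : ContinuousNeg (colimRing F) :=
        Topology.IsInducing.continuousNeg (⟨rfl⟩ : Topology.IsInducing (descRing F s))
          (fun x => map_neg _ x)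
      exact { toContinuousAdd := by assumption, toContinuousMul := by assumption,
              toContinuousNeg := by assumption }
    · refine continuous_induced_rng.2 ?_
      have e : ⇑(descRing F s) ∘ ⇑(leg F j) = ⇑(s.ι.app j).1 :=
        congrArg DFunLike.coe (descRing_leg F s j)
      exact e.symm ▸ (s.ι.app j).2⟩
  fac s j := Subtype.ext (descRing_leg F s j)
  uniq s m hm := Subtype.ext <| by
    refine congrArg CommRingCat.Hom.hom (colimit.hom_ext
      (f := CommRingCat.ofHom m.1) (f' := CommRingCat.ofHom (descRing F s)) fun j => ?_)
    refine CommRingCat.hom_ext ?_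
    show m.1.comp (leg F j) = (descRing F s).comp (leg F j)
    rw [descRing_leg]
    exact congrArg Subtype.val (hm j)

/-- The category of topological rings (commutative, with continuous ring homomorphisms) has colimits,
and colimits commute with the forgetful functor to rings. -/
theorem result :
    HasColimits TopCommRingCat.{u} ∧
    PreservesColimits (forget₂ TopCommRingCat.{u} CommRingCat.{u}) := by
  refine ⟨⟨fun J _ => ⟨fun F => ⟨⟨_, isColim F⟩⟩⟩⟩, ⟨fun {J} _ => ⟨fun {F} => ?_⟩⟩⟩
  refine preservesColimit_of_preserves_colimit_cocone (isColim F) ?_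
  exact IsColimit.ofIsoColimit (colimit.isColimit _) (Cocone.ext (Iso.refl _) (fun j => by
    simp; rfl))

end Groth.Agent.S7558
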