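import Mathlib.Data.Fintype.Pi
import Mathlib.Data.Fintype.Sum
import Mathlib.Data.Fintype.Card
import Mathlib.Topology.LocallyClosed
import Mathlib.Data.Fintype.Basic
set_option autoImplicit false
universe u
namespace PtTop
end PtTop
open PtTop

namespace Groth.Agent.S7559

/-- Let X be a topological space and X = ∐ P_k a finite partition into locally closed parts. Then there
is a finite stratification of X refining it: a finite partially ordered index set I and pairwise
disjoint locally closed strata S_i covering X with closure(S_j) ⊆ ⋃_{i ≤ j} S_i, such that every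
part P_k is a union of strata. -/
theorem result {X : Type u} [TopologicalSpace X]
    {n : ℕ} (P : Fin n → Set X) (hP : ∀ k, IsLocallyClosed (P k)) (hcov : ⋃ k, P k = Set.univ)
    (hdisj : ∀ k k', k ≠ k' → Disjoint (P k) (P k')) :
    ∃ (I : Type) (_ : Fintype I) (_ : PartialOrder I) (S : I → Set X),
      (∀ i, IsLocallyClosed (S i)) ∧ (⋃ i, S i = Set.univ) ∧ (∀ i j, i ≠ j → Disjoint (S i) (S j)) ∧
      (∀ j, closure (S j) ⊆ ⋃ i ∈ Set.Iic j, S i) ∧
      (∀ i k, (S i ∩ P k).Nonempty → S i ⊆ P k) := by
  classical
  choose U C hU hC hP' using hP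
  let D : Fin n ⊕ Fin n → Set X := Sum.elim C (fun k => (U k)ᶜ)
  have hD : ∀ i, IsClosed (D i) := by rintro (k | k); exacts [hC k, (hU k).isClosed_compl]
  let vec : X → (Fin n ⊕ Fin n → Bool) := fun x i => decide (x ∈ D i)
  refine ⟨(Fin n ⊕ Fin n → Bool)ᵒᵈ, Fintype.ofEquiv _ OrderDual.toDual, inferInstance,
    fun v => {x | vec x = OrderDual.ofDual v}, fun v => ?_, ?_, ?_, fun v x hx => ?_, ?_⟩
  · have : {x | vec x = OrderDual.ofDual v} = (⋂ i, if OrderDual.ofDual v i then D i else Set.univ) ∩
        ⋂ i, if OrderDual.ofDual v i then Set.univ else (D i)ᶜ := by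
      ext x
      simp only [Set.mem_ofPred_eq, funext_iff, Set.mem_inter_iff, Set.mem_iInter, ← forall_and]
      refine forall_congr' fun i => ?_
      cases OrderDual.ofDual v i <;> simp [vec]
    show IsLocallyClosed {x | vec x = OrderDual.ofDual v}
    rw [this]
    exact (isClosed_iInter fun i => by split_ifs; exacts [hD i, isClosed_univ]).isLocallyClosed.inter
      (isOpen_iInter_of_finite fun i => by split_ifs; exacts [isOpen_univ, (hD i).isOpen_compl]).isLocallyClosed
  · exact Set.eq_univ_of_forall fun x => Set.mem_iUnion.2 ⟨OrderDual.toDual (vec x), rfl⟩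
  · exact fun v w hne => Set.disjoint_left.2 fun x h1 h2 => hne (OrderDual.ofDual.injective (h1.symm.trans h2))
  · refine Set.mem_iUnion₂.2 ⟨OrderDual.toDual (vec x), ?_, rfl⟩
    intro i
    show OrderDual.ofDual v i ≤ vec x i
    cases hv : OrderDual.ofDual v i with
    | false => exact Bool.false_le _
    | true =>
      have : x ∈ D i := closure_minimal (fun y hy => by
        have := congrFun (show vec y = OrderDual.ofDual v from hy) i
        rw [hv] at this
        simpa [vec] using this) (hD i) hx
      simp [vec, this]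
  · rintro v k ⟨x, hx, hxk⟩ y hy
    have h1 : ∀ i, (y ∈ D i ↔ x ∈ D i) := fun i => by
      simpa [vec] using congrFun ((show vec y = OrderDual.ofDual v from hy).trans (show vec x = OrderDual.ofDual v from hx).symm) i
    rw [hP' k] at hxk ⊢
    exact ⟨by simpa [D] using (not_congr (h1 (Sum.inr k))).2 (by simpa [D] using hxk.1), (h1 (Sum.inl k)).2 hxk.2⟩

end Groth.Agent.S7559
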