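import Mathlib.Topology.LocallyClosed
import Mathlib.Topology.NoetherianSpace
import Mathlib.Data.Fintype.Basic
set_option autoImplicit false
universe u
namespace PtTop
end PtTop
open PtTop

namespace Groth.Agent.S7561

/-- Let X be a Noetherian topological space and X = ∐ P_k a finite partition into locally closed parts.
Then it is refined by a finite good stratification: a finite partition X = ∐ S_i into locally closed
strata such that S_i ∩ closure(S_j) ≠ ∅ implies S_i ⊆ closure(S_j), with every P_k a union of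
strata. -/
theorem result {X : Type u} [TopologicalSpace X]
    [TopologicalSpace.NoetherianSpace X]
    {n : ℕ} (P : Fin n → Set X) (hP : ∀ k, IsLocallyClosed (P k)) (hcov : ⋃ k, P k = Set.univ)
    (hdisj : ∀ k k', k ≠ k' → Disjoint (P k) (P k')) :
    ∃ (m : ℕ) (S : Fin m → Set X),
      (∀ i, IsLocallyClosed (S i)) ∧ (⋃ i, S i = Set.univ) ∧ (∀ i j, i ≠ j → Disjoint (S i) (S j)) ∧
      (∀ i j, (S i ∩ closure (S j)).Nonempty → S i ⊆ closure (S j)) ∧
      (∀ i k, (S i ∩ P k).Nonempty → S i ⊆ P k) := by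
  classical
  have key : ∀ (Z : TopologicalSpace.Closeds X) (𝒟 : Finset (Set X)), (∀ D ∈ 𝒟, IsClosed D) →
      ∃ 𝒮 : Finset (Set X), (∀ S ∈ 𝒮, IsLocallyClosed S) ∧ (⋃₀ (𝒮 : Set (Set X))) = Z ∧
        (∀ S ∈ 𝒮, ∀ T ∈ 𝒮, S ≠ T → Disjoint S T) ∧
        (∀ S ∈ 𝒮, ∀ T ∈ 𝒮, (S ∩ closure T).Nonempty → S ⊆ closure T) ∧
        (∀ S ∈ 𝒮, ∀ D ∈ 𝒟, (S ∩ D).Nonempty → S ⊆ D) := by
    intro Z
    induction Z using WellFoundedLT.induction with
    | _ Z ih =>
      intro 𝒟 h𝒟
      rcases (Z : Set X).eq_empty_or_nonempty with hZ | ⟨z, hz⟩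
      · exact ⟨∅, by simp, by simp [hZ], by simp, by simp, by simp⟩
      obtain ⟨S, hSf, hScl, hSi, hSZ⟩ := TopologicalSpace.NoetherianSpace.exists_finite_set_isClosed_irreducible Z.isClosed
      have hex : ∃ m, ∃ T : Finset (Set X), T ⊆ hSf.toFinset ∧ (Z : Set X) ⊆ ⋃₀ (T : Set (Set X)) ∧ T.card = m :=
        ⟨_, hSf.toFinset, Finset.Subset.refl _, by rw [Set.Finite.coe_toFinset]; exact hSZ.le, rfl⟩
      obtain ⟨T, hTS, hcov, hcard⟩ := Nat.find_spec hex
      obtain ⟨s, hs, -⟩ := hcov hz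
      have hsS : s ∈ S := hSf.mem_toFinset.1 (hTS hs)
      have hsZ : s ⊆ (Z : Set X) := hSZ ▸ Set.subset_sUnion_of_mem hsS
      let K : Set X := ⋃₀ ((T.erase s : Finset (Set X)) : Set (Set X))
      have hK : IsClosed K := by
        simp only [K, Set.sUnion_eq_biUnion]
        exact (Finset.finite_toSet _).isClosed_biUnion fun t ht => hScl t (hSf.mem_toFinset.1 (hTS (Finset.mem_of_mem_erase ht)))
      let 𝒜 : Finset (Set X) := insert Kᶜ ((𝒟.filter fun D => ¬ s ⊆ D).image fun D => Dᶜ)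
      have hne : ∀ A ∈ 𝒜, (s ∩ A).Nonempty := by
        intro A hA
        rcases Finset.mem_insert.1 hA with rfl | hA
        · rw [Set.inter_compl_nonempty_iff]
          intro hsK
          have h3 := Nat.find_min' hex ⟨T.erase s, (Finset.erase_subset _ _).trans hTS, fun w hw => ?_, rfl⟩
          · have h4 := Finset.card_erase_lt_of_mem hs
            omega
          · obtain ⟨t, ht, hwt⟩ := hcov hw
            by_cases hts : t = s
            · exact hsK (hts ▸ hwt)
            · exact ⟨t, Finset.mem_coe.2 (Finset.mem_erase.2 ⟨hts, ht⟩), hwt⟩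
        · obtain ⟨D, hD, rfl⟩ := Finset.mem_image.1 hA
          exact Set.inter_compl_nonempty_iff.2 (Finset.mem_filter.1 hD).2
      have hAo : ∀ A ∈ 𝒜, IsOpen A := by
        intro A hA
        rcases Finset.mem_insert.1 hA with rfl | hA
        · exact hK.isOpen_compl
        · obtain ⟨D, hD, rfl⟩ := Finset.mem_image.1 hA
          exact (h𝒟 D (Finset.mem_filter.1 hD).1).isOpen_compl
      obtain ⟨v, hvs, hv⟩ := isIrreducible_iff_sInter.1 (hSi s hsS) 𝒜 hAo hne
      let O : Set X := ⋂₀ (𝒜 : Set (Set X))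
      have hO : IsOpen O := (Finset.finite_toSet 𝒜).isOpen_sInter hAo
      let V : Set X := (Z : Set X) ∩ O
      have hVne : v ∈ V := ⟨hsZ hvs, hv⟩
      have hVs : V ⊆ s := fun w hw => by
        obtain ⟨t, ht, hwt⟩ := hcov hw.1
        by_cases hts : t = s
        · exact hts ▸ hwt
        · exact absurd ⟨t, Finset.mem_coe.2 (Finset.mem_erase.2 ⟨hts, ht⟩), hwt⟩
            (Set.mem_sInter.1 hw.2 Kᶜ (Finset.mem_coe.2 (Finset.mem_insert_self _ _)))
      have hVD : ∀ D ∈ 𝒟, (V ∩ D).Nonempty → V ⊆ D := fun D hD ⟨w, hwV, hwD⟩ => by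
        by_cases hsD : s ⊆ D
        · exact hVs.trans hsD
        · exact absurd hwD (Set.mem_sInter.1 hwV.2 Dᶜ (Finset.mem_coe.2 (Finset.mem_insert_of_mem
            (Finset.mem_image_of_mem _ (Finset.mem_filter.2 ⟨hD, hsD⟩)))))
      let Z' : TopologicalSpace.Closeds X := ⟨(Z : Set X) ∩ Oᶜ, Z.isClosed.inter hO.isClosed_compl⟩
      have hlt : Z' < Z := lt_of_le_of_ne (fun w hw => hw.1) fun h => by
        have : v ∈ (Z' : Set X) := h ▸ hVne.1
        exact this.2 hVne.2
      obtain ⟨𝒮, h1, h2, h3, h4, h5⟩ := ih Z' hlt (insert (closure V) 𝒟)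
        (fun D hD => (Finset.mem_insert.1 hD).elim (fun e => e ▸ isClosed_closure) (h𝒟 D))
      have hsub : ∀ A ∈ 𝒮, A ⊆ (Z' : Set X) := fun A hA => h2 ▸ Set.subset_sUnion_of_mem (Finset.mem_coe.2 hA)
      refine ⟨insert V 𝒮, ?_, ?_, ?_, ?_, ?_⟩
      · intro A hA
        rcases Finset.mem_insert.1 hA with rfl | hA
        exacts [Z.isClosed.isLocallyClosed.inter hO.isLocallyClosed, h1 A hA]
      · rw [Finset.coe_insert, Set.sUnion_insert, h2]
        exact Set.inter_union_compl (Z : Set X) O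
      · intro A hA B hB hAB
        have hVd : ∀ B ∈ 𝒮, Disjoint V B := fun B hB => Set.disjoint_left.2 fun w hw hwB => (hsub B hB hwB).2 hw.2
        rcases Finset.mem_insert.1 hA with e | hA <;> rcases Finset.mem_insert.1 hB with e' | hB
        · exact absurd (e.trans e'.symm) hAB
        · exact e ▸ hVd B hB
        · exact e' ▸ (hVd A hA).symm
        · exact h3 A hA B hB hAB
      · intro A hA B hB hne'
        rcases Finset.mem_insert.1 hA with e | hA <;> rcases Finset.mem_insert.1 hB with e' | hB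
        · exact e ▸ e' ▸ subset_closure
        · obtain ⟨w, hw, hwB⟩ := hne'
          exact absurd ((e ▸ hw : w ∈ V).2) (closure_minimal (hsub B hB) Z'.isClosed hwB).2
        · exact e' ▸ h5 A hA (closure V) (Finset.mem_insert_self _ _) (e' ▸ hne')
        · exact h4 A hA B hB hne'
      · intro A hA D hD
        rcases Finset.mem_insert.1 hA with e | hA
        · exact e ▸ hVD D hD
        · exact h5 A hA D (Finset.mem_insert_of_mem hD)
  choose U C hU hC hP' using hP
  obtain ⟨𝒮, h1, h2, h3, h4, h5⟩ := key ⊤ ((Finset.univ.image C) ∪ (Finset.univ.image fun k => (U k)ᶜ))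
    (fun D hD => by
      rcases Finset.mem_union.1 hD with hD | hD <;> obtain ⟨k, -, rfl⟩ := Finset.mem_image.1 hD
      exacts [hC k, (hU k).isClosed_compl])
  let e := 𝒮.equivFin
  refine ⟨𝒮.card, fun i => (e.symm i).1, fun i => h1 _ (e.symm i).2, ?_, fun i j hij => h3 _ (e.symm i).2 _ (e.symm j).2
    (fun h => hij (e.symm.injective (Subtype.ext h))), fun i j => h4 _ (e.symm i).2 _ (e.symm j).2, ?_⟩
  · refine Set.eq_univ_of_forall fun x => ?_
    obtain ⟨S, hS, hx⟩ : x ∈ ⋃₀ (𝒮 : Set (Set X)) := h2 ▸ trivial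
    exact Set.mem_iUnion.2 ⟨e ⟨S, hS⟩, by simpa using hx⟩
  · rintro i k ⟨x, hxS, hxP⟩ y hy
    rw [hP' k] at hxP ⊢
    refine ⟨by_contra fun hyU => ?_, h5 _ (e.symm i).2 _ (Finset.mem_union_left _ (Finset.mem_image_of_mem _ (Finset.mem_univ k))) ⟨x, hxS, hxP.2⟩ hy⟩
    exact (h5 _ (e.symm i).2 _ (Finset.mem_union_right _ (Finset.mem_image_of_mem _ (Finset.mem_univ k))) ⟨y, hy, hyU⟩ hxS) hxP.1

end Groth.Agent.S7561
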