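import Mathlib.Topology.LocallyClosed
import Mathlib.Topology.Maps.Basic
set_option autoImplicit false
universe u
namespace PtTop
end PtTop
open PtTop

namespace Groth.Agent.S7562

/-- Let f : X → Y be a surjective closed continuous map of topological spaces and T ⊆ Y. Then the
closure of T equals f applied to the closure of f⁻¹(T), and T is locally closed in Y if and only if
f⁻¹(T) is locally closed in X. The published statement also asserts that Y carries the quotient
topology of X; this row states the closure formula and the locally-closed equivalence only. -/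
theorem result {X Y : Type u} [TopologicalSpace X] [TopologicalSpace Y]
    (f : X → Y) (hf : Continuous f) (hc : IsClosedMap f) (hs : Function.Surjective f) (T : Set Y) :
    closure T = f '' closure (f ⁻¹' T) ∧ (IsLocallyClosed T ↔ IsLocallyClosed (f ⁻¹' T)) := by
  have h1 : closure T = f '' closure (f ⁻¹' T) := by
    refine Set.Subset.antisymm (closure_minimal (fun y hy => ?_) (hc _ isClosed_closure)) ?_
    · obtain ⟨x, rfl⟩ := hs y; exact ⟨x, subset_closure hy, rfl⟩
    · exact (image_closure_subset_closure_image hf).trans (closure_mono (Set.image_preimage_subset f T))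
  refine ⟨h1, fun h => h.preimage hf, fun h => ?_⟩
  have hC : IsClosed (closure (f ⁻¹' T) \ f ⁻¹' T) := by
    obtain ⟨U, Z, hU, hZ, he⟩ := h
    have : closure (f ⁻¹' T) \ f ⁻¹' T = closure (f ⁻¹' T) ∩ Uᶜ := by
      ext z
      refine ⟨fun hz => ⟨hz.1, fun hzU => hz.2 (he ▸ ⟨hzU, ?_⟩)⟩, fun hz => ⟨hz.1, fun hzT => hz.2 (he ▸ hzT : z ∈ U ∩ Z).1⟩⟩
      exact closure_minimal (he ▸ Set.inter_subset_right) hZ hz.1
    rw [this]; exact isClosed_closure.inter hU.isClosed_compl
  refine ⟨(f '' (closure (f ⁻¹' T) \ f ⁻¹' T))ᶜ, closure T, (hc _ hC).isOpen_compl, isClosed_closure, ?_⟩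
  refine Set.Subset.antisymm (fun y hy => ⟨fun ⟨z, hz, hzy⟩ => hz.2 (show f z ∈ T from hzy ▸ hy), subset_closure hy⟩) ?_
  rintro y ⟨hy, hy'⟩
  rw [h1] at hy'
  obtain ⟨z, hz, rfl⟩ := hy'
  by_contra hT
  exact hy ⟨z, ⟨hz, hT⟩, rfl⟩

end Groth.Agent.S7562
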