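import Mathlib.Topology.Irreducible
set_option autoImplicit false
universe u
namespace PtTop
end PtTop
open PtTop

namespace Groth.Agent.S7563

/-- Let X be a topological space and X = X_1 ∪ … ∪ X_n with each X_i irreducible and closed and no X_i
contained in the union of the others. Then the irreducible components of X are precisely the sets
X_1, …, X_n. -/
theorem result {X : Type u} [TopologicalSpace X]
    {n : ℕ} (Z : Fin n → Set X) (hZ : ∀ i, IsIrreducible (Z i) ∧ IsClosed (Z i))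
    (hcov : ⋃ i, Z i = Set.univ) (hirr : ∀ i, ¬ Z i ⊆ ⋃ j ∈ ({i}ᶜ : Set (Fin n)), Z j) :
    irreducibleComponents X = Set.range Z := by
  classical
  have hsub : ∀ Y : Set X, IsIrreducible Y → ∃ j, Y ⊆ Z j := fun Y hY => by
    obtain ⟨t, ht, hYt⟩ := isIrreducible_iff_sUnion_isClosed.1 hY (Finset.univ.image Z)
      (fun t ht => by obtain ⟨i, -, rfl⟩ := Finset.mem_image.1 ht; exact (hZ i).2)
      (fun y _ => by
        obtain ⟨i, hi⟩ := Set.mem_iUnion.1 (hcov ▸ Set.mem_univ y)
        exact ⟨Z i, Finset.mem_coe.2 (Finset.mem_image_of_mem Z (Finset.mem_univ i)), hi⟩)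
    obtain ⟨i, -, rfl⟩ := Finset.mem_image.1 ht
    exact ⟨i, hYt⟩
  refine Set.Subset.antisymm (fun Y hY => ?_) ?_
  · obtain ⟨j, hj⟩ := hsub Y hY.1
    exact ⟨j, (hY.2 (hZ j).1 hj).antisymm hj⟩
  · rintro _ ⟨i, rfl⟩
    refine ⟨(hZ i).1, fun Y hY hiY => ?_⟩
    obtain ⟨j, hj⟩ := hsub Y hY
    obtain rfl : j = i := by_contra fun hne => hirr i ((hiY.trans hj).trans (Set.subset_biUnion_of_mem (show j ∈ ({i}ᶜ : Set (Fin n)) from hne)))
    exact hj

end Groth.Agent.S7563
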