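import Mathlib.Topology.NoetherianSpace
set_option autoImplicit false
universe u
namespace PtTop
end PtTop
open PtTop

namespace Groth.Agent.S7565

/-- Let f : X → Y be a continuous open map of topological spaces and assume every point of X has a
Noetherian neighbourhood. Then every point of f(X) (with the induced topology) has a Noetherian
neighbourhood. The published statement also asserts that a continuous image of a Noetherian space is
Noetherian; this row states the part about open maps and locally Noetherian spaces. -/
theorem result {X Y : Type u} [TopologicalSpace X] [TopologicalSpace Y]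
    (f : X → Y) (hf : Continuous f) (hfo : IsOpenMap f)
    (hX : ∀ x : X, ∃ E ∈ nhds x, TopologicalSpace.NoetherianSpace E) :
    ∀ y : Set.range f, ∃ E : Set (Set.range f), E ∈ nhds y ∧ TopologicalSpace.NoetherianSpace E := by
  rintro ⟨_, x, rfl⟩
  obtain ⟨E, hE, hN⟩ := hX x
  obtain ⟨U, hUE, hU, hxU⟩ := mem_nhds_iff.1 hE
  refine ⟨Subtype.val ⁻¹' (f '' U), ((hfo U hU).preimage continuous_subtype_val).mem_nhds ⟨x, hxU, rfl⟩, ?_⟩
  have hNU : TopologicalSpace.NoetherianSpace U :=
    (Topology.IsEmbedding.inclusion hUE).isInducing.noetherianSpace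
  let g : U → (Subtype.val ⁻¹' (f '' U) : Set (Set.range f)) := fun u => ⟨⟨f u, u, rfl⟩, u, u.2, rfl⟩
  exact TopologicalSpace.noetherianSpace_of_surjective g (by fun_prop) (fun ⟨⟨y, hy⟩, u, hu, he⟩ =>
    ⟨⟨u, hu⟩, Subtype.ext (Subtype.ext he)⟩)

end Groth.Agent.S7565
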