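import Mathlib.Topology.Separation.Hausdorff
set_option autoImplicit false
universe u
namespace PtTop
end PtTop
open PtTop

namespace Groth.Agent.S7568

/-- Let X be a Hausdorff quasi-compact space, X = ⋃ U_i an open covering, p ≥ 0 an integer, and for
every (p+1)-tuple (i_0, …, i_p) an open covering of U_{i_0} ∩ … ∩ U_{i_p} by opens W_{i_0…i_p,k}.
Then there are an open covering X = ⋃_{j ∈ J} V_j and a map α : J → I with closure(V_j) ⊆ U_{α(j)}
such that each V_{j_0} ∩ … ∩ V_{j_p} is contained in W_{α(j_0)…α(j_p),k} for some k. The published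
statement allows a covering of an empty intersection to have no members; this row requires every
covering W_{i_0…i_p} to have at least one member (possibly empty), without which the conclusion
fails. -/
theorem result {X : Type u} [TopologicalSpace X] [CompactSpace X] [T2Space X]
    {ι : Type u} (U : ι → Set X) (hU : ∀ i, IsOpen (U i)) (hcov : ⋃ i, U i = Set.univ) (p : ℕ)
    (W : (Fin (p + 1) → ι) → Set (Set X)) (hWo : ∀ t, ∀ w ∈ W t, IsOpen w)
    (hWc : ∀ t, ⋃₀ W t = ⋂ l, U (t l)) (hWne : ∀ t, (W t).Nonempty) :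
    ∃ (J : Type u) (V : J → Set X) (α : J → ι), (∀ j, IsOpen (V j)) ∧ (⋃ j, V j = Set.univ) ∧
      (∀ j, closure (V j) ⊆ U (α j)) ∧
      (∀ t : Fin (p + 1) → J, ∃ w ∈ W (α ∘ t), (⋂ l, V (t l)) ⊆ w) := by
  classical
  obtain ⟨s, hs⟩ := (isCompact_univ (X := X)).elim_finite_subcover U hU (by rw [hcov])
  obtain ⟨K, hK, hKU, hKcov⟩ := (isCompact_univ (X := X)).finite_compact_cover s U (fun i _ => hU i) hs
  choose L hLc hKL hLU using fun i => exists_compact_between (hK i) (hU i) (hKU i)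
  have hi : ∀ x : X, ∃ i : s, x ∈ interior (L i) := fun x => by
    obtain ⟨i, hi, hxi⟩ := Set.mem_iUnion₂.1 (hKcov ▸ Set.mem_univ x : x ∈ ⋃ i ∈ s, K i)
    exact ⟨⟨i, hi⟩, hKL i hxi⟩
  choose i hi using hi
  have hw : ∀ (x : X) (t : Fin (p + 1) → s), ∃ O : Set X, IsOpen O ∧ x ∈ O ∧
      ((∀ l, x ∈ U (t l)) → ∃ w ∈ W fun l => t l, O ⊆ w) := fun x t => by
    by_cases h : ∀ l, x ∈ U (t l)
    · obtain ⟨w, hw, hxw⟩ : x ∈ ⋃₀ W fun l => (t l : ι) := by rw [hWc]; exact Set.mem_iInter.2 h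
      exact ⟨w, hWo _ w hw, hxw, fun _ => ⟨w, hw, Set.Subset.rfl⟩⟩
    · exact ⟨Set.univ, isOpen_univ, trivial, fun h' => absurd h' h⟩
  choose O hO hxO hOw using hw
  let N : X → Set X := fun x =>
    interior (L (i x)) ∩ (⋂ t, O x t) ∩ ⋂ j : s, if x ∈ L j then Set.univ else (L j)ᶜ
  have hxN : ∀ x, x ∈ N x := fun x => ⟨⟨hi x, Set.mem_iInter.2 (hxO x)⟩, Set.mem_iInter.2 fun j => by
    split_ifs with h
    exacts [trivial, h]⟩
  refine ⟨X, N, fun x => i x, fun x => ?_, Set.eq_univ_of_forall fun x => Set.mem_iUnion.2 ⟨x, hxN x⟩, fun x => ?_, fun t => ?_⟩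
  · refine (isOpen_interior.inter (isOpen_iInter_of_finite (hO x))).inter (isOpen_iInter_of_finite fun j => ?_)
    split_ifs
    exacts [isOpen_univ, (hLc _).isClosed.isOpen_compl]
  · exact (closure_mono (fun y hy => interior_subset hy.1.1)).trans ((hLc _).isClosed.closure_eq.le.trans (hLU _))
  · rcases (⋂ l, N (t l)).eq_empty_or_nonempty with he | ⟨y, hy⟩
    · obtain ⟨w, hw⟩ := hWne ((fun x => (i x : ι)) ∘ t)
      exact ⟨w, hw, he ▸ Set.empty_subset w⟩
    · have hy' := Set.mem_iInter.1 hy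
      obtain ⟨w, hw, hwO⟩ := hOw (t 0) (fun l => i (t l)) (fun l => hLU _ (by
        by_contra h
        have := Set.mem_iInter.1 (hy' 0).2 (i (t l))
        rw [if_neg h] at this
        exact this (interior_subset (hy' l).1.1)))
      exact ⟨w, hw, fun z hz => hwO (Set.mem_iInter.1 (Set.mem_iInter.1 hz 0).1.2 _)⟩

end Groth.Agent.S7568
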