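import Mathlib.Topology.Separation.Hausdorff
import Mathlib.Topology.Compactness.LocallyCompact
import Groth.Agent.SpecSp.Refine

set_option autoImplicit false
universe u
namespace PtTop
end PtTop
open PtTop

namespace Groth.Agent.S7569

/-- Let X be a Hausdorff, locally quasi-compact space and Z ⊆ X a quasi-compact subset. Let p ≥ 0, let
U_i ⊆ X be opens with Z ⊆ ⋃ U_i, and for every (p+1)-tuple (i_0, …, i_p) let W_{i_0…i_p} ⊆ U_{i_0} ∩
… ∩ U_{i_p} be an open with W_{i_0…i_p} ∩ Z = U_{i_0} ∩ … ∩ U_{i_p} ∩ Z. Then there are opens V_i ⊆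
X with Z ⊆ ⋃ V_i, closure(V_i) ⊆ U_i for all i, and V_{i_0} ∩ … ∩ V_{i_p} ⊆ W_{i_0…i_p} for all
(p+1)-tuples. -/
theorem result {X : Type u} [TopologicalSpace X]
    [T2Space X] [LocallyCompactSpace X] (Z : Set X) (hZ : IsCompact Z)
    {ι : Type u} (U : ι → Set X) (hU : ∀ i, IsOpen (U i)) (hcov : Z ⊆ ⋃ i, U i) (p : ℕ)
    (W : (Fin (p + 1) → ι) → Set X) (hWo : ∀ t, IsOpen (W t)) (hWU : ∀ t, W t ⊆ ⋂ l, U (t l))
    (hWZ : ∀ t, W t ∩ Z = (⋂ l, U (t l)) ∩ Z) :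
    ∃ V : ι → Set X, (∀ i, IsOpen (V i)) ∧ (Z ⊆ ⋃ i, V i) ∧ (∀ i, closure (V i) ⊆ U i) ∧
      (∀ t : Fin (p + 1) → ι, (⋂ l, V (t l)) ⊆ W t) := by
  obtain ⟨s, K, V, h1, h2, h3, h4, h5, h6, h7⟩ := Groth.Agent.SpecSp.exists_shrink (Z := Z)
    (fun z _ z' _ h => t2_separation h) hZ U hU hcov W hWo hWZ
  choose L hLc hKL hLU using fun i => exists_compact_between (h2 i).1 (hU i) (h2 i).2.1
  refine ⟨fun i => V i ∩ interior (L i), fun i => (h1 i).inter isOpen_interior,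
    h4.trans (Set.iUnion_mono fun i => Set.subset_inter (h2 i).2.2 (hKL i)),
    fun i => (closure_mono (Set.inter_subset_right.trans interior_subset)).trans ((hLc i).isClosed.closure_eq.le.trans (hLU i)),
    fun t => (Set.iInter_mono fun l => Set.inter_subset_left).trans (h7 t)⟩

end Groth.Agent.S7569
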