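import Mathlib.Topology.Category.TopCat.Limits.Basic
import Mathlib.CategoryTheory.Filtered.Basic
import Groth.Agent.SpecSp.Limit

set_option autoImplicit false
universe u
namespace CategoryTheory
end CategoryTheory
namespace CategoryTheory.Limits
end CategoryTheory.Limits
open CategoryTheory CategoryTheory.Limits
namespace PtTop
end PtTop
open PtTop

namespace Groth.Agent.S7571

/-- Let j ↦ X_j be a diagram of topological spaces over a cofiltered category with limit X and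
projections f_j. (1) Every open of X is a union of subsets of the form f_j⁻¹(U_j) with U_j ⊆ X_j
open. (2) Every quasi-compact open of X equals f_i⁻¹(U_i) for some i and some open U_i ⊆ X_i. -/
theorem result {J : Type u} [SmallCategory J] [IsCofiltered J]
    (F : J ⥤ TopCat.{u}) (c : Cone F) (hc : IsLimit c) :
    (∀ W : Set c.pt, IsOpen W →
      ∃ S : Set (Σ j, Set (F.obj j)), (∀ s ∈ S, IsOpen s.2) ∧ W = ⋃ s ∈ S, c.π.app s.1 ⁻¹' s.2) ∧
    (∀ W : Set c.pt, IsOpen W → IsCompact W →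
      ∃ (i : J) (Ui : Set (F.obj i)), IsOpen Ui ∧ W = c.π.app i ⁻¹' Ui) := by
  classical
  have hb : ∀ (W : Set c.pt), IsOpen W → ∀ x ∈ W, ∃ (i : J) (U : Set (F.obj i)), IsOpen U ∧
      x ∈ c.π.app i ⁻¹' U ∧ c.π.app i ⁻¹' U ⊆ W := by
    intro W hW x hx
    obtain ⟨V, hV, rfl⟩ := (Groth.Agent.SpecSp.isEmbedding_toPi hc).1.isInducing.isOpen_iff.1 hW
    obtain ⟨s, A, hA, hAV⟩ := isOpen_pi_iff.1 hV (Groth.Agent.SpecSp.toPi c x) hx
    obtain ⟨k, hk⟩ := IsCofiltered.inf_objs_exists s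
    refine ⟨k, ⋂ j ∈ s.attach, F.map (hk j.2).some ⁻¹' A j,
      isOpen_biInter_finset fun j _ => (hA j j.2).1.preimage (F.map _).hom.continuous,
      Set.mem_iInter₂.2 fun j _ => by rw [Set.mem_preimage, Groth.Agent.SpecSp.map_π c]; exact (hA j j.2).2,
      fun y hy => hAV fun j hj => ?_⟩
    have := Set.mem_iInter₂.1 hy ⟨j, hj⟩ (Finset.mem_attach _ _)
    rwa [Set.mem_preimage, Groth.Agent.SpecSp.map_π c] at this
  refine ⟨fun W hW => ⟨{s | IsOpen s.2 ∧ c.π.app s.1 ⁻¹' s.2 ⊆ W}, fun s hs => hs.1,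
    Set.Subset.antisymm (fun x hx => ?_) (Set.iUnion₂_subset fun s hs => hs.2)⟩, fun W hW hWc => ?_⟩
  · obtain ⟨i, U, hU, hxU, hUW⟩ := hb W hW x hx
    exact Set.mem_iUnion₂.2 ⟨⟨i, U⟩, ⟨hU, hUW⟩, hxU⟩
  · choose i U hU hxU hUW using fun x : W => hb W hW x x.2
    obtain ⟨t, ht⟩ := hWc.elim_finite_subcover (fun x : W => c.π.app (i x) ⁻¹' U x)
      (fun x => (hU x).preimage (c.π.app (i x)).hom.continuous)
      (fun x hx => Set.mem_iUnion.2 ⟨⟨x, hx⟩, hxU ⟨x, hx⟩⟩)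
    obtain ⟨k, hk⟩ := IsCofiltered.inf_objs_exists (t.image i)
    refine ⟨k, ⋃ x ∈ t.attach, F.map (hk (Finset.mem_image_of_mem i x.2)).some ⁻¹' U x,
      isOpen_biUnion fun x _ => (hU x).preimage (F.map _).hom.continuous, ?_⟩
    ext y
    simp only [Set.mem_preimage, Set.mem_iUnion, exists_prop, Groth.Agent.SpecSp.map_π c]
    constructor
    · intro hy
      obtain ⟨x, hx, hxy⟩ := Set.mem_iUnion₂.1 (ht hy)
      exact ⟨⟨x, hx⟩, Finset.mem_attach _ _, hxy⟩
    · rintro ⟨x, -, hxy⟩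
      exact hUW _ hxy

end Groth.Agent.S7571
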