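import Mathlib.Topology.Sheaves.Sheaf
import Mathlib.Topology.Sheaves.Limits
import Mathlib.CategoryTheory.Limits.Types.Colimits
import Mathlib.Order.Directed
import Groth.Agent.ToposFinLib.Filt
import Mathlib.Topology.Sheaves.SheafCondition.UniqueGluing

set_option autoImplicit false
universe u
namespace CategoryTheory
end CategoryTheory
namespace CategoryTheory.Limits
end CategoryTheory.Limits
namespace TopologicalSpace
end TopologicalSpace
namespace Opposite
end Opposite
open CategoryTheory CategoryTheory.Limits TopologicalSpace Opposite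
namespace ShSp
end ShSp
open ShSp

namespace Groth.Agent.S7575

/-- Let X be a topological space, I a directed set, (F_i) a system of sheaves of sets on X over I with
colimit F (in sheaves), U ⊆ X open, and Ψ : colim_i F_i(U) → F(U) the canonical map. (1) If all
transition maps F_i → F_{i'} are injective (on all sections) then Ψ is injective. (2)
Quasi-compactness of U alone already makes Ψ injective. (3) When U is quasi-compact and every
transition map is injective, Ψ is bijective. (4) If every open covering of U can be refined by a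
finite open covering U = U_1 ∪ … ∪ U_m with all U_j ∩ U_{j'} quasi-compact, then Ψ is bijective. -/
theorem result {X : TopCat.{u}} {J : Type u} [Preorder J] [Nonempty J] [IsDirected J (· ≤ ·)]
    (F : J ⥤ X.Sheaf (Type u)) (c : Cocone F) (hc : IsColimit c) (U : Opens X) :
    let ev := TopCat.Sheaf.forget (Type u) X ⋙ (evaluation (Opens X)ᵒᵖ (Type u)).obj (op U)
    let Ψ : colimit (F ⋙ ev) → ev.obj c.pt := colimit.desc (F ⋙ ev) (ev.mapCocone c)
    ((∀ (i j : J) (h : i ⟶ j) (V : Opens X), Function.Injective ((F.map h).1.app (op V))) → Function.Injective Ψ) ∧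
    (IsCompact (U : Set X) → Function.Injective Ψ) ∧
    (IsCompact (U : Set X) → (∀ (i j : J) (h : i ⟶ j) (V : Opens X), Function.Injective ((F.map h).1.app (op V))) →
      Function.Bijective Ψ) ∧
    ((∀ 𝒱 : Set (Opens X), (⨆ V ∈ 𝒱, V) = U →
        ∃ (m : ℕ) (W : Fin m → Opens X), (∀ j, ∃ V ∈ 𝒱, W j ≤ V) ∧ (⨆ j, W j) = U ∧
          ∀ j j', IsCompact ((W j ⊓ W j' : Opens X) : Set X)) →
      Function.Bijective Ψ) := by
  classical
  intro ev Ψ
  have hΨ : ∀ (j : J) (t : (F.obj j).obj.obj (op U)), Ψ (colimit.ι (F ⋙ ev) j t) = (c.ι.app j).hom.app (op U) t :=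
    fun j t => ConcreteCategory.congr_hom (colimit.ι_desc (ev.mapCocone c) j) t
  haveI : HasColimit F := ⟨⟨⟨c, hc⟩⟩⟩
  let e := IsColimit.coconePointUniqueUpToIso hc (colimit.isColimit F)
  have he : ∀ j, c.ι.app j ≫ e.hom = colimit.ι F j := fun j =>
    IsColimit.comp_coconePointUniqueUpToIso_hom hc _ j
  -- equal sections of the colimit agree locally at a later stage
  have locEq : ∀ {W : Opens X} (i : J) (z₁ z₂ : (F.obj i).obj.obj (op W)),
      (c.ι.app i).hom.app (op W) z₁ = (c.ι.app i).hom.app (op W) z₂ → ∀ x ∈ W, ∃ (V : Opens X) (g : V ⟶ W) (k : J)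
        (f : i ⟶ k), x ∈ V ∧ (F.map f).hom.app (op V) ((F.obj i).obj.map g.op z₁) =
          (F.map f).hom.app (op V) ((F.obj i).obj.map g.op z₂) := by
    intro W i z₁ z₂ h x hx
    have h' : (colimit.ι F i).hom.app (op W) z₁ = (colimit.ι F i).hom.app (op W) z₂ := by
      rw [← he i]
      exact congrArg (fun z => e.hom.hom.app (op W) z) h
    obtain ⟨S, hS, hS'⟩ := ToposFinLib.exists_cover_eq (D := F) z₁ z₂ h'
    obtain ⟨V, g, hg, hxV⟩ := hS x hx
    obtain ⟨k, f, hf⟩ := hS' g hg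
    exact ⟨V, g, k, f, hxV, hf⟩
  -- sections of the colimit come locally from some stage
  have locLift : ∀ {W : Opens X} (s : c.pt.obj.obj (op W)), ∀ x ∈ W, ∃ (V : Opens X) (g : V ⟶ W) (k : J)
      (t : (F.obj k).obj.obj (op V)), x ∈ V ∧ (c.ι.app k).hom.app (op V) t = c.pt.obj.map g.op s := by
    intro W s x hx
    let E := colimit.cocone (F ⋙ sheafToPresheaf (Opens.grothendieckTopology X) (Type u))
    let hE := Sheaf.isColimitSheafifyCocone E (colimit.isColimit _)
    let e' := IsColimit.coconePointUniqueUpToIso hc hE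
    obtain ⟨V, g, ⟨y, hy⟩, hxV⟩ := Presheaf.imageSieve_mem (Opens.grothendieckTopology X)
      (toSheafify (Opens.grothendieckTopology X) E.pt) (e'.hom.hom.app (op W) s) x hx
    obtain ⟨k, t, rfl⟩ := Types.jointly_surjective_of_isColimit
      (isColimitOfPreserves ((evaluation (Opens X)ᵒᵖ (Type u)).obj (op V))
        (colimit.isColimit (F ⋙ sheafToPresheaf (Opens.grothendieckTopology X) (Type u)))) y
    refine ⟨V, g, k, t, hxV, ?_⟩
    have inj : Function.Injective (e'.hom.hom.app (op V)) :=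
      ((CategoryTheory.isIso_iff_bijective _).1 (inferInstanceAs (IsIso
        ((sheafToPresheaf _ _ ⋙ (evaluation (Opens X)ᵒᵖ (Type u)).obj (op V)).map e'.hom)))).1
    apply inj
    have hk := ToposFinLib.hom_app_congr (IsColimit.comp_coconePointUniqueUpToIso_hom hc hE k) (op V) t
    rw [Sheaf.sheafifyCocone_ι_app_val] at hk
    refine (hk.trans hy).trans ?_
    exact (NatTrans.naturality_apply e'.hom.hom g.op s).symm
  have stage : ∀ {κ : Type u} (s : Finset κ) (k : κ → J) (i : J), ∃ (m : J) (_ : i ≤ m), ∀ a ∈ s, k a ≤ m := by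
    intro κ s k i
    obtain ⟨m, hm⟩ := Finset.exists_le (insert i (s.image k))
    exact ⟨m, hm i (Finset.mem_insert_self _ _),
      fun a ha => hm _ (Finset.mem_insert_of_mem (Finset.mem_image_of_mem k ha))⟩
  have map_comp' : ∀ {i j k : J} (f : i ⟶ j) (g : j ⟶ k) {V : Opens X} (z : (F.obj i).obj.obj (op V)),
      (F.map (f ≫ g)).hom.app (op V) z = (F.map g).hom.app (op V) ((F.map f).hom.app (op V) z) := fun {i j k} f g {V} z =>
    ToposFinLib.hom_app_congr (F.map_comp f g) _ z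
  have injInj : (∀ (i j : J) (h : i ⟶ j) (V : Opens X), Function.Injective ((F.map h).1.app (op V))) →
      ∀ (W : Opens X) (i : J), Function.Injective ((c.ι.app i).hom.app (op W)) := by
    intro hinj W i z₁ z₂ h
    choose V g k f hxV hf using fun x : W => locEq i z₁ z₂ h x.1 x.2
    exact TopCat.Sheaf.eq_of_locally_eq' (F.obj i) V W g (fun y hy => Opens.mem_iSup.2 ⟨⟨y, hy⟩, hxV _⟩) z₁ z₂
      fun x => hinj i _ (f x) _ (hf x)
  have nat : ∀ (i : J) {W V : Opens X} (g : V ⟶ W) (z : (F.obj i).obj.obj (op W)),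
      (c.ι.app i).hom.app (op V) ((F.obj i).obj.map g.op z) = c.pt.obj.map g.op ((c.ι.app i).hom.app (op W) z) :=
    fun i W V g z => NatTrans.naturality_apply (c.ι.app i).hom g.op z
  have cw : ∀ {i j : J} (f : i ⟶ j) {W : Opens X} (z : (F.obj i).obj.obj (op W)),
      (c.ι.app j).hom.app (op W) ((F.map f).hom.app (op W) z) = (c.ι.app i).hom.app (op W) z := fun {i j} f {W} z =>
    ToposFinLib.hom_app_congr (c.w f) _ z
  -- on a quasi-compact open, equal sections agree at a later stage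
  have qcEq : ∀ {W : Opens X}, IsCompact (W : Set X) → ∀ (i : J) (z₁ z₂ : (F.obj i).obj.obj (op W)),
      (c.ι.app i).hom.app (op W) z₁ = (c.ι.app i).hom.app (op W) z₂ → ∃ (m : J) (f : i ⟶ m),
        (F.map f).hom.app (op W) z₁ = (F.map f).hom.app (op W) z₂ := by
    intro W hW i z₁ z₂ h
    choose V g k f hxV hf using fun x : W => locEq i z₁ z₂ h x.1 x.2
    obtain ⟨s, hs⟩ := hW.elim_finite_subcover (fun x => (V x : Set X)) (fun x => (V x).isOpen)
      fun y hy => Set.mem_iUnion.2 ⟨⟨y, hy⟩, hxV _⟩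
    obtain ⟨m, him, hm⟩ := stage s k i
    refine ⟨m, homOfLE him, TopCat.Sheaf.eq_of_locally_eq' (F.obj m) (fun x : s => V x.1) W (fun x => g x.1)
      (fun y hy => ?_) _ _ fun x => ?_⟩
    · obtain ⟨x, hx, hy'⟩ := Set.mem_iUnion₂.1 (hs hy)
      exact Opens.mem_iSup.2 ⟨⟨x, hx⟩, hy'⟩
    · have e₁ : ∀ z, (F.obj m).obj.map (g x.1).op ((F.map (homOfLE him)).hom.app (op W) z) =
          (F.map (homOfLE (hm x.1 x.2))).hom.app (op (V x.1))
            ((F.map (f x.1)).hom.app (op (V x.1)) ((F.obj i).obj.map (g x.1).op z)) := fun z => by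
        rw [← map_comp', Subsingleton.elim (f x.1 ≫ homOfLE (hm x.1 x.2)) (homOfLE him)]
        exact (NatTrans.naturality_apply (F.map (homOfLE him)).hom (g x.1).op z).symm
      exact (e₁ z₁).trans ((congrArg _ (hf x.1)).trans (e₁ z₂).symm)
  have injOfEq : (∀ (i : J) (z₁ z₂ : (F.obj i).obj.obj (op U)),
      (c.ι.app i).hom.app (op U) z₁ = (c.ι.app i).hom.app (op U) z₂ → ∃ (m : J) (f : i ⟶ m),
        (F.map f).hom.app (op U) z₁ = (F.map f).hom.app (op U) z₂) → Function.Injective Ψ := by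
    intro hEq a b hab
    obtain ⟨i, z₁, rfl⟩ := Types.jointly_surjective' a
    obtain ⟨j, z₂, rfl⟩ := Types.jointly_surjective' b
    rw [hΨ, hΨ] at hab
    obtain ⟨m, hm⟩ := Finset.exists_le ({i, j} : Finset J)
    let fi : i ⟶ m := homOfLE (hm i (by simp))
    let fj : j ⟶ m := homOfLE (hm j (by simp))
    obtain ⟨n, f, hf⟩ := hEq m ((F.map fi).hom.app (op U) z₁) ((F.map fj).hom.app (op U) z₂) (by rw [cw, cw, hab])
    rw [← map_comp', ← map_comp'] at hf
    have w₁ : colimit.ι (F ⋙ ev) i z₁ = colimit.ι (F ⋙ ev) n ((F.map (fi ≫ f)).hom.app (op U) z₁) :=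
      (ConcreteCategory.congr_hom (colimit.w (F ⋙ ev) (fi ≫ f)) z₁).symm
    have w₂ : colimit.ι (F ⋙ ev) j z₂ = colimit.ι (F ⋙ ev) n ((F.map (fj ≫ f)).hom.app (op U) z₂) :=
      (ConcreteCategory.congr_hom (colimit.w (F ⋙ ev) (fj ≫ f)) z₂).symm
    rw [w₁, w₂, hf]
  -- gluing at a finite stage
  have surjOfGlue : ∀ (s : c.pt.obj.obj (op U)) {κ : Type u} [Finite κ] (V : κ → Opens X) (g : ∀ a, V a ⟶ U),
      U ≤ iSup V → ∀ (m : J) (t : ∀ a, (F.obj m).obj.obj (op (V a))),
      (∀ a, (c.ι.app m).hom.app (op (V a)) (t a) = c.pt.obj.map (g a).op s) →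
      (∀ a b, ∃ (m' : J) (f : m ⟶ m'), (F.map f).hom.app (op (V a ⊓ V b)) ((F.obj m).obj.map (homOfLE inf_le_left).op (t a)) =
        (F.map f).hom.app (op (V a ⊓ V b)) ((F.obj m).obj.map (homOfLE inf_le_right).op (t b))) →
      ∃ a, Ψ a = s := by
    intro s κ _ V g hle m t ht hc'
    cases nonempty_fintype κ
    choose k f hf using fun q : κ × κ => hc' q.1 q.2
    obtain ⟨n, hmn, hn⟩ := stage Finset.univ k m
    obtain ⟨σ, hσ, -⟩ := TopCat.Sheaf.existsUnique_gluing' (F.obj n) V U g hle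
      (fun a => (F.map (homOfLE hmn)).hom.app (op (V a)) (t a)) fun a b => by
        have e₁ : ∀ (d : κ) (i₀ : V a ⊓ V b ⟶ V d), (F.obj n).obj.map i₀.op ((F.map (homOfLE hmn)).hom.app (op (V d)) (t d)) =
            (F.map (homOfLE (hn (a, b) (Finset.mem_univ _)))).hom.app _
              ((F.map (f (a, b))).hom.app _ ((F.obj m).obj.map i₀.op (t d))) := fun d i₀ => by
          rw [← map_comp', Subsingleton.elim (f (a, b) ≫ _) (homOfLE hmn)]
          exact (NatTrans.naturality_apply (F.map (homOfLE hmn)).hom i₀.op (t d)).symm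
        exact (e₁ a _).trans ((congrArg _ (hf (a, b))).trans (e₁ b _).symm)
    refine ⟨colimit.ι (F ⋙ ev) n σ, ?_⟩
    rw [hΨ]
    refine TopCat.Sheaf.eq_of_locally_eq' c.pt V U g hle _ _ fun a => ?_
    rw [← ht a, ← cw (homOfLE hmn) (t a), ← hσ a]
    exact (nat n (g a) σ).symm
  have liftFin : IsCompact (U : Set X) → ∀ s : c.pt.obj.obj (op U), ∃ (κ : Type u) (_ : Finite κ) (V : κ → Opens X)
      (g : ∀ a, V a ⟶ U), U ≤ iSup V ∧ ∃ (m : J) (t : ∀ a, (F.obj m).obj.obj (op (V a))),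
        ∀ a, (c.ι.app m).hom.app (op (V a)) (t a) = c.pt.obj.map (g a).op s := by
    intro hU s
    choose V g k t hxV ht using fun x : U => locLift s x.1 x.2
    obtain ⟨f, hf⟩ := hU.elim_finite_subcover (fun x => (V x : Set X)) (fun x => (V x).isOpen)
      fun y hy => Set.mem_iUnion.2 ⟨⟨y, hy⟩, hxV _⟩
    obtain ⟨m, -, hm⟩ := stage f k (Classical.arbitrary J)
    refine ⟨f, inferInstance, fun a => V a.1, fun a => g a.1, fun y hy => ?_, m,
      fun a => (F.map (homOfLE (hm a.1 a.2))).hom.app _ (t a.1), fun a => by rw [cw]; exact ht a.1⟩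
    obtain ⟨x, hx, hy'⟩ := Set.mem_iUnion₂.1 (hf hy)
    exact Opens.mem_iSup.2 ⟨⟨x, hx⟩, hy'⟩
  refine ⟨fun hinj => injOfEq fun i z₁ z₂ h => ⟨i, 𝟙 i, by rw [injInj hinj U i h]⟩,
    fun hU => injOfEq (qcEq hU), fun hU hinj => ⟨injOfEq (qcEq hU), fun s => ?_⟩, fun hP => ?_⟩
  · obtain ⟨κ, _, V, g, hle, m, t, ht⟩ := liftFin hU s
    refine surjOfGlue s V g hle m t ht fun a b => ⟨m, 𝟙 m, congrArg _ (injInj hinj _ m ?_)⟩
    rw [nat, nat, ht, ht]
    simp only [← ConcreteCategory.comp_apply, ← Functor.map_comp, ← op_comp]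
    rfl
  · obtain ⟨n, W, -, hWU, hWc⟩ := hP {U} (by simp)
    have hU : IsCompact (U : Set X) := by
      rw [← hWU, Opens.coe_iSup]
      exact isCompact_iUnion fun j => by simpa using hWc j j
    refine ⟨injOfEq (qcEq hU), fun s => ?_⟩
    choose V g k t hxV ht using fun x : U => locLift s x.1 x.2
    obtain ⟨n', W', hW', hWU', hWc'⟩ := hP (Set.range V) (le_antisymm (iSup₂_le fun W hW => by obtain ⟨x, rfl⟩ := hW; exact (g x).le)
      fun y hy => by simpa using ⟨y, hy, hxV ⟨y, hy⟩⟩)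
    have hW'' : ∀ j, ∃ x, W' j ≤ V x := fun j => by
      obtain ⟨_, ⟨x, rfl⟩, hle⟩ := hW' j
      exact ⟨x, hle⟩
    choose x hx using hW''
    obtain ⟨m, -, hm⟩ := stage (Finset.univ : Finset (ULift.{u} (Fin n'))) (fun j => k (x j.down)) (Classical.arbitrary J)
    refine surjOfGlue s (fun j : ULift.{u} (Fin n') => W' j.down) (fun j => homOfLE (hx j.down) ≫ g (x j.down))
      (fun y hy => ?_) m (fun j => (F.map (homOfLE (hm j (Finset.mem_univ _)))).hom.app _
        ((F.obj (k (x j.down))).obj.map (homOfLE (hx j.down)).op (t (x j.down)))) (fun j => ?_) (fun a b => ?_)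
    · obtain ⟨j, hj⟩ := Opens.mem_iSup.1 (hWU'.ge hy)
      exact Opens.mem_iSup.2 ⟨⟨j⟩, hj⟩
    · rw [cw, nat, ht]
      simp only [← ConcreteCategory.comp_apply, ← Functor.map_comp, ← op_comp]
    · refine qcEq (hWc' a.down b.down) m _ _ ?_
      simp only [nat, cw, ht]
      simp only [← ConcreteCategory.comp_apply, ← Functor.map_comp, ← op_comp]
      rfl

end Groth.Agent.S7575
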