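import Groth.Prelude.Def_W4stktopologysheavesDim
import Mathlib.Topology.Sober
import Groth.Agent.SpecSp.Codim

set_option autoImplicit false
universe u
namespace PtTop
end PtTop
open PtTop

namespace Groth.Agent.S7577

/-- Let X be a sober topological space and δ : X → ℤ a dimension function. Then X is catenary, and for
any specialization x ⤳ y the codimension of the closure of {y} in the closure of {x} equals δ(x) −
δ(y). -/
theorem result {X : Type u} [TopologicalSpace X] [QuasiSober X] [T0Space X]
    (δ : X → ℤ) (hδ : PtTop.IsDimensionFunction δ) :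
    PtTop.IsCatenarySpace X ∧
    ∀ x y : X, x ⤳ y →
      PtTop.codim (⟨closure {y}, isIrreducible_singleton.closure, isClosed_closure⟩ : TopologicalSpace.IrreducibleCloseds X)
        (closure {x}) = ((δ x - δ y).toNat : ℕ∞) := by
  choose gp hgp using fun T : TopologicalSpace.IrreducibleCloseds X => QuasiSober.sober T.isIrreducible T.isClosed
  have hmono : ∀ {T T' : TopologicalSpace.IrreducibleCloseds X}, T ≤ T' → gp T' ⤳ gp T := fun {T T'} h =>
    (hgp T').specializes (h (hgp T).mem)
  have hinj : ∀ {T T' : TopologicalSpace.IrreducibleCloseds X}, gp T = gp T' → T = T' := fun {T T'} h =>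
    TopologicalSpace.IrreducibleCloseds.ext ((hgp T).def.symm.trans (h ▸ (hgp T').def))
  have hlt : ∀ {T T' : TopologicalSpace.IrreducibleCloseds X}, T < T' → δ (gp T) < δ (gp T') := fun {T T'} h =>
    hδ.1 _ _ (hmono h.le) fun he => h.ne (hinj he.symm)
  have hcov : ∀ {T T' : TopologicalSpace.IrreducibleCloseds X}, T ⋖ T' → δ (gp T') = δ (gp T) + 1 := fun {T T'} h => by
    refine hδ.2 _ _ ⟨hmono h.le, fun he => h.ne (hinj he.symm), fun z hz1 hz2 => ?_⟩
    let Z : TopologicalSpace.IrreducibleCloseds X := ⟨closure {z}, isIrreducible_singleton.closure, isClosed_closure⟩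
    have hle1 : T ≤ Z := fun w hw => specializes_iff_mem_closure.1 (hz2.trans ((hgp T).specializes hw))
    have hle2 : Z ≤ T' := closure_minimal (Set.singleton_subset_iff.2 (hz1.mem_closed T'.isClosed (hgp T').mem)) T'.isClosed
    rcases h.eq_or_eq hle1 hle2 with e | e
    · exact Or.inr ((isGenericPoint_closure (x := z)).eq (show IsGenericPoint (gp T) (Z : Set X) from e.symm ▸ hgp T))
    · exact Or.inl ((isGenericPoint_closure (x := z)).eq (show IsGenericPoint (gp T') (Z : Set X) from e.symm ▸ hgp T'))
  have hlen : ∀ (s : LTSeries (TopologicalSpace.IrreducibleCloseds X)) (k : ℕ) (hk : k < s.length + 1),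
      δ (gp s.head) + k ≤ δ (gp (s ⟨k, hk⟩)) ∧
      ((∀ i : Fin s.length, s (Fin.castSucc i) ⋖ s (Fin.succ i)) → δ (gp s.head) + k = δ (gp (s ⟨k, hk⟩))) := by
    intro s k
    induction k with
    | zero => intro _; exact ⟨le_of_eq (by simp [RelSeries.head]), fun _ => by simp [RelSeries.head]⟩
    | succ k ih =>
      intro hk
      obtain ⟨i1, i2⟩ := ih (by omega)
      refine ⟨?_, fun hs => ?_⟩
      · have h3 := hlt (show s ⟨k, by omega⟩ < s ⟨k + 1, hk⟩ from s.step ⟨k, by omega⟩)
        push_cast; omega
      · have h3 := hcov (show s ⟨k, by omega⟩ ⋖ s ⟨k + 1, hk⟩ from hs ⟨k, by omega⟩)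
        have h4 := i2 hs
        push_cast; omega
  have hcat : PtTop.IsCatenarySpace X := by
    refine Groth.Agent.Props12.isCatenarySpace_iff_oCat.2 ⟨fun p q hpq => ⟨(δ (gp q) - δ (gp p)).toNat, fun s h1 h2 => ?_⟩,
      fun s t h1 h2 hs ht => ?_⟩
    · have h3 := (hlen s s.length (Nat.lt_succ_self _)).1
      rw [h1, show s ⟨s.length, _⟩ = q from h2] at h3
      omega
    · have h3 := (hlen s s.length (Nat.lt_succ_self _)).2 hs
      have h4 := (hlen t t.length (Nat.lt_succ_self _)).2 ht
      rw [show s ⟨s.length, _⟩ = t.last from h2, h1] at h3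
      rw [show t ⟨t.length, _⟩ = t.last from rfl] at h4
      omega
  refine ⟨hcat, fun x y hxy => ?_⟩
  let T : TopologicalSpace.IrreducibleCloseds X := ⟨closure {y}, isIrreducible_singleton.closure, isClosed_closure⟩
  let T' : TopologicalSpace.IrreducibleCloseds X := ⟨closure {x}, isIrreducible_singleton.closure, isClosed_closure⟩
  have hle : T ≤ T' := specializes_iff_closure_subset.1 hxy
  obtain ⟨s, h1, h2, h3, h4⟩ := Groth.Agent.SpecSp.exists_cov_chain hle (hcat T T' hle).1
  have h5 := (hlen s s.length (Nat.lt_succ_self _)).2 h3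
  rw [h1, show s ⟨s.length, _⟩ = T' from h2, (hgp T).eq isGenericPoint_closure, (hgp T').eq isGenericPoint_closure] at h5
  refine h4.symm.trans ?_
  congr 1
  omega

end Groth.Agent.S7577
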