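import Groth.Prelude.Def_W4stktopologysheavesDim
import Mathlib.Topology.Sober
import Mathlib.Topology.NoetherianSpace
import Mathlib.Topology.LocallyConstant.Basic
import Groth.Agent.S7577
import Mathlib.Topology.NoetherianSpace

set_option autoImplicit false
universe u
namespace PtTop
end PtTop
open PtTop

namespace Groth.Agent.S7578

/-- Let X be a topological space which is locally Noetherian (every point has a Noetherian
neighbourhood) and sober, and let δ, δ' be two dimension functions on X. Then δ − δ' is locally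
constant. -/
theorem result {X : Type u} [TopologicalSpace X] [QuasiSober X] [T0Space X]
    (hX : ∀ x : X, ∃ E ∈ nhds x, TopologicalSpace.NoetherianSpace E)
    (δ δ' : X → ℤ) (hδ : PtTop.IsDimensionFunction δ) (hδ' : PtTop.IsDimensionFunction δ') :
    IsLocallyConstant (fun x => δ x - δ' x) := by
  classical
  have hspec : ∀ a b : X, a ⤳ b → δ a - δ b = δ' a - δ' b := fun a b hab => by
    have h1 := (Groth.Agent.S7577.result δ hδ).2 a b hab
    have h2 := (Groth.Agent.S7577.result δ' hδ').2 a b hab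
    have h3 := h1.symm.trans h2
    rw [Nat.cast_inj] at h3
    have h4 : δ b ≤ δ a ∧ δ' b ≤ δ' a := by
      rcases eq_or_ne a b with rfl | hne
      · exact ⟨le_rfl, le_rfl⟩
      · exact ⟨(hδ.1 _ _ hab hne).le, (hδ'.1 _ _ hab hne).le⟩
    omega
  refine (IsLocallyConstant.iff_exists_open _).2 fun x => ?_
  obtain ⟨E, hE, hN⟩ := hX x
  obtain ⟨U, hUE, hU, hxU⟩ := mem_nhds_iff.1 hE
  have : TopologicalSpace.NoetherianSpace U := (Topology.IsEmbedding.inclusion hUE).isInducing.noetherianSpace
  have : QuasiSober U := hU.isOpenEmbedding_subtypeVal.quasiSober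
  have hclosed : IsClosed (⋃₀ {Z ∈ irreducibleComponents U | (⟨x, hxU⟩ : U) ∉ Z}) := by
    rw [Set.sUnion_eq_biUnion]
    exact (TopologicalSpace.NoetherianSpace.finite_irreducibleComponents.subset fun Z hZ => hZ.1).isClosed_biUnion
      fun Z hZ => isClosed_of_mem_irreducibleComponents Z hZ.1
  refine ⟨Subtype.val '' (⋃₀ {Z ∈ irreducibleComponents U | (⟨x, hxU⟩ : U) ∉ Z})ᶜ,
    hU.isOpenEmbedding_subtypeVal.isOpenMap _ hclosed.isOpen_compl,
    ⟨⟨x, hxU⟩, fun ⟨Z, hZ, hxZ⟩ => hZ.2 hxZ, rfl⟩, ?_⟩
  rintro _ ⟨y, hy, rfl⟩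
  have hxZ : (⟨x, hxU⟩ : U) ∈ irreducibleComponent y := by_contra fun h =>
    hy ⟨_, ⟨irreducibleComponent_mem_irreducibleComponents y, h⟩, mem_irreducibleComponent⟩
  obtain ⟨η, hη⟩ := QuasiSober.sober (isIrreducible_irreducibleComponent (x := y)) isClosed_irreducibleComponent
  have h1 := hspec η.1 y.1 ((hη.specializes mem_irreducibleComponent).map continuous_subtype_val)
  have h2 := hspec η.1 x ((hη.specializes hxZ).map continuous_subtype_val)
  omega

end Groth.Agent.S7578
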