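import Mathlib.Topology.Separation.Hausdorff
import Mathlib.SetTheory.Cardinal.Basic
set_option autoImplicit false
universe u
namespace PtTop
end PtTop
open PtTop

namespace Groth.Agent.S7580

/-- Let f : X → Y be a continuous map of topological spaces with f(X) dense in Y and Y Hausdorff. Then
the cardinality of Y is at most that of the double power set of X. -/
theorem result {X Y : Type u} [TopologicalSpace X] [TopologicalSpace Y] [T2Space Y]
    (f : X → Y) (hf : Continuous f) (hd : DenseRange f) :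
    Cardinal.mk Y ≤ (2 : Cardinal.{u}) ^ ((2 : Cardinal.{u}) ^ Cardinal.mk X) := by
  let g : Y → Set (Set X) := fun y => {A | y ∈ closure (f '' A)}
  have hg : Function.Injective g := fun y y' h => by
    by_contra hne
    obtain ⟨U, V, hU, hV, hy, hy', hUV⟩ := t2_separation hne
    have h1 : f ⁻¹' U ∈ g y := mem_closure_iff.2 fun O hO hyO => by
      obtain ⟨_, ⟨hzO, hzU⟩, x, rfl⟩ := hd.exists_mem_open (hO.inter hU) ⟨y, hyO, hy⟩ |>.elim
        fun x hx => (⟨f x, hx, x, rfl⟩ : ∃ z, z ∈ O ∩ U ∧ ∃ x, f x = z)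
      exact ⟨f x, hzO, x, hzU, rfl⟩
    rw [h] at h1
    obtain ⟨_, hzV, x, hx, rfl⟩ := mem_closure_iff.1 h1 V hV hy'
    exact Set.disjoint_left.1 hUV hx hzV
  refine (Cardinal.mk_le_of_injective hg).trans (le_of_eq ?_)
  rw [Cardinal.mk_set, Cardinal.mk_set]

end Groth.Agent.S7580
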