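import Groth.Prelude.Def_W4stktopologysheavesDim
import Groth.Agent.SpecSp.Codim

set_option autoImplicit false
universe u
namespace PtTop
end PtTop
open PtTop

namespace Groth.Agent.S7581

/-- Let X be a topological space. Then X is catenary if and only if for every pair of irreducible closed
subsets Y ⊆ Y' the codimension codim(Y, Y') is finite and for every triple Y ⊆ Y' ⊆ Y'' of
irreducible closed subsets codim(Y, Y'') = codim(Y, Y') + codim(Y', Y''). -/
theorem result (X : Type u) [TopologicalSpace X] :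
    PtTop.IsCatenarySpace X ↔
      (∀ Y Y' : TopologicalSpace.IrreducibleCloseds X, Y ≤ Y' → PtTop.codim Y (Y' : Set X) ≠ ⊤) ∧
      (∀ Y Y' Y'' : TopologicalSpace.IrreducibleCloseds X, Y ≤ Y' → Y' ≤ Y'' →
        PtTop.codim Y (Y'' : Set X) = PtTop.codim Y (Y' : Set X) + PtTop.codim Y' (Y'' : Set X)) := by
  constructor
  · intro H
    refine ⟨fun Y Y' h => (H Y Y' h).1, fun Y Y' Y'' h h' => ?_⟩
    obtain ⟨a, a1, a2, a3, a4⟩ := Groth.Agent.SpecSp.exists_cov_chain h (H Y Y' h).1
    obtain ⟨b, b1, b2, b3, b4⟩ := Groth.Agent.SpecSp.exists_cov_chain h' (H Y' Y'' h').1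
    have hab : a.last = b.head := a2.trans b1.symm
    rw [← a4, ← b4, ← (H Y Y'' (h.trans h')).2 (a.smash b hab) (by simpa using a1) (by simpa using b2) fun i => ?_]
    · exact Nat.cast_add _ _
    refine Fin.addCases (m := a.length) (n := b.length) (fun i => ?_) (fun i => ?_) i
    · exact (congrArg₂ (· ⋖ ·) (RelSeries.smash_castAdd hab i) (RelSeries.smash_succ_castAdd hab i)).mpr (a3 i)
    · exact (congrArg₂ (· ⋖ ·) (RelSeries.smash_natAdd hab i) (RelSeries.smash_succ_natAdd hab i)).mpr (b3 i)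
  · rintro ⟨hfin, hadd⟩ T T' hle
    refine ⟨hfin T T' hle, fun s h1 h2 hs => ?_⟩
    have key : ∀ (k : ℕ) (hk : k < s.length + 1), PtTop.codim s.head (s ⟨k, hk⟩ : Set X) = k := by
      intro k
      induction k with
      | zero => intro _; exact Groth.Agent.SpecSp.codim_self s.head
      | succ k ih =>
        intro hk
        have hc : PtTop.codim (s ⟨k, by omega⟩) (s ⟨k + 1, hk⟩ : Set X) = 1 :=
          Groth.Agent.SpecSp.codim_of_covBy (hs ⟨k, by omega⟩)
        rw [hadd s.head (s ⟨k, by omega⟩) (s ⟨k + 1, hk⟩) (s.monotone (Fin.zero_le _))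
          (s.monotone (Fin.le_def.2 (Nat.le_succ k))), ih (by omega), hc]
        simp
    rw [← h1, ← h2]
    exact (key s.length (Nat.lt_succ_self _)).symm

end Groth.Agent.S7581
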