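import Groth.Prelude.Def_W4stktopologysheavesBas
import Mathlib.Topology.Bases
import Mathlib.Topology.Sets.Opens
import Groth.Agent.ShB16.Basic

set_option autoImplicit false
universe u
namespace ShSp
end ShSp
open ShSp

namespace Groth.Agent.S7587

/-- Let X be a topological space, ℬ a basis for its topology, U ∈ ℬ and F a sheaf of sets on ℬ. Sending
a section over U to its germs at the points of U, a map from F(U) into the product of the stalks F_x
over x ∈ U, puts F(U) in bijection with those germ families (s_x)_{x ∈ U} that satisfy (*): each x ∈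
U lies in some V ∈ ℬ contained in U carrying a section σ ∈ F(V) whose germ at every y ∈ V equals
s_y. That is, the map is injective and its image is exactly the set of such families. -/
theorem result {X : Type u} [TopologicalSpace X] {B : Set (TopologicalSpace.Opens X)}
    (hB : TopologicalSpace.Opens.IsBasis B) (F : ShB.Pre B) (hF : ShB.IsSheaf F) (U : B) :
    Function.Injective (fun (s : F.obj U) (x : (U : TopologicalSpace.Opens X)) => ShB.germ F x.1 x.2 s) ∧
    ∀ f : ∀ x : (U : TopologicalSpace.Opens X), ShB.Stalk F x.1,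
      (∃ s : F.obj U, ∀ x, ShB.germ F x.1 x.2 s = f x) ↔
      ∀ x : (U : TopologicalSpace.Opens X), ∃ (V : B) (hxV : x.1 ∈ (V : TopologicalSpace.Opens X))
        (hVU : (V : TopologicalSpace.Opens X) ≤ (U : TopologicalSpace.Opens X)) (σ : F.obj V),
        ∀ (y : X) (hy : y ∈ (V : TopologicalSpace.Opens X)), ShB.germ F y hy σ = f ⟨y, hVU hy⟩ := by
  refine ⟨fun s t h => ?_, fun f => ⟨?_, fun hf => ?_⟩⟩
  · refine ShB16.sep hB hF fun x hx => ?_
    obtain ⟨W, hxW, ha, hb, e⟩ := (ShB16.germ_eq_iff hB hx hx s t).1 (congrFun h ⟨x, hx⟩)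
    exact ⟨W, hxW, ha, e⟩
  · rintro ⟨s, hs⟩ x
    exact ⟨U, x.2, le_rfl, s, fun y hy => hs ⟨y, hy⟩⟩
  · choose V hxV hVU σ hσ using hf
    obtain ⟨t, ht⟩ := ShB16.glue hF (U := U) V hVU
      (fun x hx => TopologicalSpace.Opens.mem_iSup.2 ⟨⟨x, hx⟩, hxV ⟨x, hx⟩⟩) σ
      (fun i j x hx => (ShB16.germ_eq_iff hB hx.1 hx.2 (σ i) (σ j)).1 ((hσ i x hx.1).trans (hσ j x hx.2).symm))
    refine ⟨t, fun x => ?_⟩
    rw [← hσ x x.1 (hxV x)]
    exact (ShB16.germ_eq_iff hB x.2 (hxV x) t (σ x)).2
      ⟨V x, hxV x, hVU x, le_rfl, (ht x).trans (F.res_id _ _).symm⟩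

end Groth.Agent.S7587
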