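import Groth.Prelude.Def_W4stktopologysheavesBas
import Mathlib.Topology.Bases
import Mathlib.Topology.Sheaves.Sheaf
import Groth.Agent.ShB16.Basic

set_option autoImplicit false
universe u
namespace CategoryTheory
end CategoryTheory
open CategoryTheory
namespace ShSp
end ShSp
open ShSp

namespace Groth.Agent.S7588

/-- Let X be a topological space, ℬ a basis for its topology and F a sheaf of sets on ℬ. There is a
sheaf of sets F^ext on X together with an isomorphism of presheaves on ℬ between the restriction of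
F^ext to ℬ and F; and it is unique: given two sheaves G, G′ on X with such isomorphisms e, e′, there
is a unique isomorphism G ≅ G′ whose restriction to the members of ℬ is compatible with e and e′. -/
theorem result {X : Type u} [TopologicalSpace X] {B : Set (TopologicalSpace.Opens X)}
    (hB : TopologicalSpace.Opens.IsBasis B) (F : ShB.Pre B) (hF : ShB.IsSheaf F) :
    (∃ G : TopCat.Sheaf (Type u) (TopCat.of X), Nonempty (ShB.Iso (ShB.restrict B G.presheaf) F)) ∧
    ∀ (G G' : TopCat.Sheaf (Type u) (TopCat.of X)) (e : ShB.Iso (ShB.restrict B G.presheaf) F)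
      (e' : ShB.Iso (ShB.restrict B G'.presheaf) F),
      ∃! φ : G ⟶ G', IsIso φ ∧ ∀ (U : B) (s : G.presheaf.obj (Opposite.op (U : TopologicalSpace.Opens X))),
        e'.hom.app U (φ.1.app (Opposite.op (U : TopologicalSpace.Opens X)) s) = e.hom.app U s := by
  let G : TopCat.Sheaf (Type u) (TopCat.of X) := ⟨ShB16.extPsh F, ShB16.extPsh_isSheaf hB hF⟩
  have iso : ShB.Iso (ShB.restrict B G.presheaf) F :=
    { hom :=
        { app := fun U s => s.1 ⟨U, le_rfl⟩
          natural := fun {U V} h s => s.2 ⟨U, le_rfl⟩ ⟨V, h⟩ h }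
      inv :=
        { app := fun U t => ⟨fun W => F.res W.2 t, fun W V h => F.res_comp _ h t⟩
          natural := fun {U V} h t => Subtype.ext (funext fun W => (F.res_comp h W.2 t).symm) }
      hom_inv := fun U s => Subtype.ext (funext fun W => s.2 ⟨U, le_rfl⟩ W W.2)
      inv_hom := fun U t => F.res_id U t }
  refine ⟨⟨G, ⟨iso⟩⟩, fun G₁ G₂ e e' => ?_⟩
  have ex : ∀ (H H' : TopCat.Sheaf (Type u) (TopCat.of X))
      (a : ShB.Hom (ShB.restrict B H.presheaf) F) (b : ShB.Hom F (ShB.restrict B H'.presheaf))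
      (O : TopologicalSpace.Opens X) (s : H.presheaf.obj (Opposite.op O)),
      ∃ t : H'.presheaf.obj (Opposite.op O), ∀ (U : B) (hU : (U : TopologicalSpace.Opens X) ≤ O),
        H'.presheaf.map (homOfLE hU).op t = b.app U (a.app U (H.presheaf.map (homOfLE hU).op s)) := by
    intro H H' a b O s
    obtain ⟨t, ht⟩ := ShB16.sheaf_glue H' (O := O)
      (ι := {U : B // (U : TopologicalSpace.Opens X) ≤ O}) (fun U => (U.1 : TopologicalSpace.Opens X))
      (fun U => U.2) (fun x hx => by
        obtain ⟨W, hxW, hW⟩ := ShB16.exists_member hB (U := O) hx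
        exact TopologicalSpace.Opens.mem_iSup.2 ⟨⟨W, hW⟩, hxW⟩)
      (fun U => b.app U.1 (a.app U.1 (H.presheaf.map (homOfLE U.2).op s))) (fun U U' x hx => by
        obtain ⟨W, hxW, hW⟩ := ShB16.exists_member hB hx
        refine ⟨W, hxW, hW.trans inf_le_left, hW.trans inf_le_right, ?_⟩
        refine (b.natural (hW.trans inf_le_left) _).trans (Eq.trans ?_ (b.natural (hW.trans inf_le_right) _).symm)
        refine congrArg (b.app W) ((a.natural (hW.trans inf_le_left) _).trans
          (Eq.trans ?_ (a.natural (hW.trans inf_le_right) _).symm))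
        refine congrArg (a.app W) ?_
        change H.presheaf.map _ (H.presheaf.map _ s) = H.presheaf.map _ (H.presheaf.map _ s)
        rw [← ConcreteCategory.comp_apply, ← ConcreteCategory.comp_apply, ← Functor.map_comp, ← Functor.map_comp]
        rfl)
    exact ⟨t, fun U hU => ht ⟨U, hU⟩⟩
  choose g hg using ex
  have mk : ∀ (H H' : TopCat.Sheaf (Type u) (TopCat.of X)) (a : ShB.Hom (ShB.restrict B H.presheaf) F)
      (b : ShB.Hom F (ShB.restrict B H'.presheaf)), ∃ φ : H ⟶ H', ∀ (U : B)
        (s : H.presheaf.obj (Opposite.op (U : TopologicalSpace.Opens X))),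
        φ.1.app (Opposite.op (U : TopologicalSpace.Opens X)) s = b.app U (a.app U s) := by
    intro H H' a b
    refine ⟨⟨{ app := fun O => ↾ fun s => g H H' a b O.unop s, naturality := fun O O' i => ?_ }⟩, fun U s => ?_⟩
    · refine ConcreteCategory.hom_ext _ _ fun s => ShB16.sheaf_sep hB H' fun U hU => ?_
      refine (hg H H' a b O'.unop (H.presheaf.map i s) U hU).trans ?_
      refine Eq.trans ?_ (Functor.map_comp_apply H'.presheaf _ _ _)
      refine Eq.trans ?_ (hg H H' a b O.unop s U (hU.trans i.unop.le)).symm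
      rw [← ConcreteCategory.comp_apply, ← Functor.map_comp]
      rfl
    · have := hg H H' a b (U : TopologicalSpace.Opens X) s U le_rfl
      refine (Functor.map_id_apply H'.presheaf _ _).symm.trans (this.trans ?_)
      exact congrArg (fun t => b.app U (a.app U t)) (Functor.map_id_apply H.presheaf _ _)
  have hom_ext : ∀ {H H' : TopCat.Sheaf (Type u) (TopCat.of X)} {φ φ' : H ⟶ H'},
      (∀ (U : B) (s : H.presheaf.obj (Opposite.op (U : TopologicalSpace.Opens X))),
        φ.1.app (Opposite.op (U : TopologicalSpace.Opens X)) s =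
        φ'.1.app (Opposite.op (U : TopologicalSpace.Opens X)) s) → φ = φ' := by
    intro H H' φ φ' h
    refine ObjectProperty.hom_ext _ (NatTrans.ext (funext fun O => ConcreteCategory.hom_ext _ _ fun s => ?_))
    refine ShB16.sheaf_sep hB H' fun U hU => ?_
    refine (NatTrans.naturality_apply φ.1 (homOfLE hU).op s).symm.trans
      (Eq.trans ?_ (NatTrans.naturality_apply φ'.1 (homOfLE hU).op s))
    exact h U _
  obtain ⟨φ, hφ⟩ := mk G₁ G₂ e.hom e'.inv
  obtain ⟨ψ, hψ⟩ := mk G₂ G₁ e'.hom e.inv
  refine ⟨φ, ⟨⟨ψ, hom_ext fun U s => ?_, hom_ext fun U s => ?_⟩, fun U s => by rw [hφ, e'.inv_hom]⟩,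
    fun φ' hφ' => hom_ext fun U s => ?_⟩
  · change ψ.1.app _ (φ.1.app _ s) = s
    rw [hψ, hφ, e'.inv_hom, e.hom_inv]
  · change φ.1.app _ (ψ.1.app _ s) = s
    rw [hφ, hψ, e.inv_hom, e'.hom_inv]
  · rw [hφ, ← hφ'.2 U s, e'.hom_inv]

end Groth.Agent.S7588
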