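import Groth.Statements.S7589
import Groth.Agent.FlatMorDimProd.FieldExt

set_option autoImplicit false
universe u
open CategoryTheory CategoryTheory.Limits AlgebraicGeometry
attribute [local instance] Curv2.stalkAlgebra Curv2.resAlgebra
open Variety

namespace Groth.Agent.S7589

/-- Let X be locally of finite type over a field k, K an extension field of k, y a point of the base
change X_K and x its image in X; write a = trdeg_k κ(x) and a' = trdeg_K κ(y). Then dim O_{X_K, y} +
a' = dim O_{X, x} + a, and the fibre ring O_{X_K, y} / m_x O_{X_K, y} has Krull dimension a - a' (in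
particular a' ≤ a); dimensions in WithBot ℕ∞. -/
theorem result (k : Type u) [Field k] (X : Scheme.{u}) [X.Over (Spec (CommRingCat.of k))] [LocallyOfFiniteType (X ↘ (Spec (CommRingCat.of k)))]
    (K : Type u) [Field K] [Algebra k K] (y : ↥(Curv2.bc k X K)) (a a' : ℕ)
    (ha : Algebra.trdeg k (X.residueField (Curv2.bcFst k X K y)) = a)
    (ha' : letI : (Curv2.bc k X K).Over (Spec (CommRingCat.of K)) := ⟨Curv2.bcSnd k X K⟩
      Algebra.trdeg K ((Curv2.bc k X K).residueField y) = a') :
    ringKrullDim ((Curv2.bc k X K).presheaf.stalk y) + (a' : WithBot ℕ∞) =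
        ringKrullDim (X.presheaf.stalk (Curv2.bcFst k X K y)) + (a : WithBot ℕ∞) ∧
      ringKrullDim (↥((Curv2.bc k X K).presheaf.stalk y) ⧸ Ideal.map ((Curv2.bcFst k X K).stalkMap y).hom (IsLocalRing.maximalIdeal ↥(X.presheaf.stalk (Curv2.bcFst k X K y)))) + (a' : WithBot ℕ∞) =
        (a : WithBot ℕ∞) := by
  open _root_.Groth.Agent in
  letI : (Curv2.bc k X K).Over (Spec (CommRingCat.of K)) := ⟨Curv2.bcSnd k X K⟩
  let f := X ↘ Spec (CommRingCat.of k)
  have ea : _root_.Groth.Agent.DimLib.ptDim f (Curv2.bcFst k X K y) = a :=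
    _root_.Groth.Agent.VarietyLib.ptDim_eq_of_trdeg _ a ha
  have ea' : _root_.Groth.Agent.DimLib.ptDim (_root_.Groth.Agent.DimLib.bcStr f K) y = a' :=
    _root_.Groth.Agent.VarietyLib.ptDim_eq_of_trdeg (X := Curv2.bc k X K) y a' ha'
  have h1 := _root_.Groth.Agent.VarietyLib.localDim_eq_stalk_add_ptDim (_root_.Groth.Agent.DimLib.bcStr f K) y
  rw [_root_.Groth.Agent.FlatMorDimProd.localDim_bc f K y, ea'] at h1
  have h2 := _root_.Groth.Agent.VarietyLib.localDim_eq_stalk_add_ptDim f (Curv2.bcFst k X K y)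
  rw [ea] at h2
  have h3 := _root_.Groth.Agent.FlatMorDimProd.ringKrullDim_fibre_bc f K y
  rw [ea'] at h3
  refine ⟨h1.symm.trans h2, h3.trans ?_⟩
  exact congrArg (fun n : ℕ => (n : WithBot ℕ∞)) ea

end Groth.Agent.S7589
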