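import Groth.Statements.S7590
import Groth.Agent.VarietyLib.GeomPoints
import Groth.Agent.FlatMor12.GeomDescent
import Groth.Agent.AbSchLib.RigidityOver

set_option autoImplicit false
universe u
open CategoryTheory CategoryTheory.Limits AlgebraicGeometry
open Variety Groth.Agent Groth.Agent.VarietyLib

namespace Groth.Agent.S7590

/-- Let k be a separably closed field, K any extension field of k and X a scheme over k. Then the
projection X_K → X induces a bijection between the sets of connected components. -/
theorem result (k : Type u) [Field k] [IsSepClosed k] (X : Scheme.{u}) [X.Over (Spec (CommRingCat.of k))]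
    (K : Type u) [Field K] [Algebra k K] :
    Function.Bijective (Continuous.connectedComponentsMap (Curv2.bcFst k X K).continuous) := by
  let f := X ↘ Spec (CommRingCat.of k)
  have : GeometricallyIrreducible (sK k K) := geometricallyIrreducible_algSpec k K
  have : GeometricallyConnected (sK k K) := AbSchLib.geometricallyConnected_of_irreducible _
  have h := (pullback.fst f (sK k K)).connectedComponentsHomeomorph (pullback.fst f (sK k K)).isOpenMap
  have hs : Function.Surjective (pullback.fst f (sK k K)) := surjective_fst k f
  refine ⟨fun a b hab => ?_, fun c => ?_⟩
  · obtain ⟨a, rfl⟩ := ConnectedComponents.surjective_coe a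
    obtain ⟨b, rfl⟩ := ConnectedComponents.surjective_coe b
    have e : connectedComponent (pullback.fst f (sK k K) a) = connectedComponent (pullback.fst f (sK k K) b) :=
      ConnectedComponents.coe_eq_coe.1 hab
    have hc := Scheme.Hom.isConnected_preimage (pullback.fst f (sK k K)) (pullback.fst f (sK k K)).isOpenMap
      (isConnected_connectedComponent (x := pullback.fst f (sK k K) a)) isClosed_connectedComponent
    exact ConnectedComponents.coe_eq_coe'.2 (hc.isPreconnected.subset_connectedComponent
      (show b ∈ _ ⁻¹' _ from e ▸ mem_connectedComponent) mem_connectedComponent)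
  · obtain ⟨c, rfl⟩ := ConnectedComponents.surjective_coe c
    obtain ⟨a, rfl⟩ := hs c
    exact ⟨ConnectedComponents.mk a, rfl⟩

end Groth.Agent.S7590
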