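import Groth.Statements.S7592
import Groth.Agent.VarietyLib.GeomComponents

set_option autoImplicit false
universe u
open CategoryTheory CategoryTheory.Limits AlgebraicGeometry
open Variety Groth.Agent.VarietyLib

namespace Groth.Agent.S7592

/-- Let K be a (possibly infinite) Galois extension of a field k and f : T → X a morphism of schemes
over k. If the base change T_K is connected and X_K is not connected, then X is not connected. -/
theorem result (k : Type u) [Field k] (K : Type u) [Field K] [Algebra k K] [IsGalois k K]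
    (T X : Scheme.{u}) [T.Over (Spec (CommRingCat.of k))] [X.Over (Spec (CommRingCat.of k))]
    (f : T ⟶ X) [f.IsOver (Spec (CommRingCat.of k))]
    [ConnectedSpace ↥(Curv2.bc k T K)] (hX : ¬ ConnectedSpace ↥(Curv2.bc k X K)) :
    ¬ ConnectedSpace ↥X := by
  intro hcon
  apply hX
  let f₀ := X ↘ Spec (CommRingCat.of k)
  let g₀ := T ↘ Spec (CommRingCat.of k)
  let φ : pullback g₀ (sK k K) ⟶ pullback f₀ (sK k K) := bcMap k f₀ f (comp_over f _) K
  obtain ⟨t⟩ := (inferInstance : Nonempty ↥(Curv2.bc k T K))
  refine connectedSpace_iff_connectedComponent.2 ⟨φ t, Set.eq_univ_of_forall fun y => ?_⟩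
  have hφ : ∀ s, φ s ∈ connectedComponent (φ t) := fun s =>
    φ.continuous.image_connectedComponent_subset t
      ⟨s, by rw [PreconnectedSpace.connectedComponent_eq_univ]; trivial, rfl⟩
  have hy : pullback.fst f₀ (sK k K) '' connectedComponent y = Set.univ := by
    rw [image_connectedComponent_fst k f₀ y]
    exact PreconnectedSpace.connectedComponent_eq_univ _
  obtain ⟨y', hy', he⟩ := hy.ge (Set.mem_univ (pullback.fst f₀ (sK k K) (φ t)))
  obtain ⟨σ, rfl⟩ := exists_gal_apply_eq k f₀ he
  have e : gal k f₀ σ (φ t) = φ (gal k g₀ σ t) := by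
    rw [← Scheme.Hom.comp_apply, ← Scheme.Hom.comp_apply, bcMap_gal]
  rw [e] at hy'
  rw [connectedComponent_eq (hφ (gal k g₀ σ t)), ← connectedComponent_eq hy']
  exact mem_connectedComponent

end Groth.Agent.S7592
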