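import Groth.Statements.S7593
import Groth.Agent.VarietyLib.GeomComponents

set_option autoImplicit false
universe u
open CategoryTheory CategoryTheory.Limits AlgebraicGeometry
open Variety Groth.Agent.VarietyLib

namespace Groth.Agent.S7593

/-- Let k̄ be a separable algebraic closure of a field k, X a scheme over k and t a point of X_{k̄} with
image x in X. The connected component of t is mapped onto itself by the action of every
k-automorphism of k̄ if and only if it equals the full inverse image of the connected component T of
x in X and T is geometrically connected over k (the inverse image of T in X_K is connected for every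
extension field K of k). -/
theorem result (k : Type u) [Field k] (X : Scheme.{u}) [X.Over (Spec (CommRingCat.of k))] (t : ↥(Curv2.bc k X (SeparableClosure k))) :
    (∀ σ : SeparableClosure k ≃ₐ[k] SeparableClosure k,
        (Curv2.galAct k X (SeparableClosure k) σ).base '' connectedComponent t = connectedComponent t) ↔
      ((Curv2.bcFst k X (SeparableClosure k)).base ⁻¹' connectedComponent (Curv2.bcFst k X (SeparableClosure k) t) = connectedComponent t ∧
        ∀ (K : Type u) [Field K] [Algebra k K],
          _root_.IsConnected ((Curv2.bcFst k X K).base ⁻¹' connectedComponent (Curv2.bcFst k X (SeparableClosure k) t))) := by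
  let f := X ↘ Spec (CommRingCat.of k)
  constructor
  · intro hinv
    have hpre : pullback.fst f (sK k (SeparableClosure k)) ⁻¹'
        connectedComponent (pullback.fst f (sK k (SeparableClosure k)) t) = connectedComponent t := by
      rw [← image_connectedComponent_fst k f t]
      exact preimage_image_of_invariant k f hinv
    refine ⟨hpre, fun K _ _ => ?_⟩
    obtain ⟨Ω, _, _, _, _, _, _⟩ := exists_common_extension k K
    have hc := isConnected_preimage_tr k f (SeparableClosure k) Ω
      (isConnected_connectedComponent (x := t)) isClosed_connectedComponent
    have e : pullback.fst f (sK k K) ⁻¹' connectedComponent (pullback.fst f (sK k (SeparableClosure k)) t) =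
        tr k f K Ω '' (tr k f (SeparableClosure k) Ω ⁻¹' connectedComponent t) := by
      rw [← hpre]
      ext y
      constructor
      · intro hy
        obtain ⟨w, rfl⟩ := surjective_tr k f K Ω y
        refine ⟨w, ?_, rfl⟩
        rw [Set.mem_preimage, tr_fst_apply] at hy
        show pullback.fst f _ (tr k f (SeparableClosure k) Ω w) ∈ connectedComponent (pullback.fst f (sK k (SeparableClosure k)) t)
        rwa [tr_fst_apply]
      · rintro ⟨w, hw, rfl⟩
        rw [Set.mem_preimage, tr_fst_apply]
        rw [Set.mem_preimage, Set.mem_preimage, tr_fst_apply] at hw
        exact hw
    show _root_.IsConnected (pullback.fst f (sK k K) ⁻¹' connectedComponent (pullback.fst f (sK k (SeparableClosure k)) t))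
    rw [e]
    exact hc.image _ (tr k f K Ω).continuous.continuousOn
  · rintro ⟨hT, -⟩ σ
    rw [← hT]
    exact image_preimage_gal k f σ _

end Groth.Agent.S7593
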