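import Groth.Statements.S7595
import Groth.Agent.VarietyLib.GeomPoints
import Groth.Agent.FlatMor12.GeomDescent
import Groth.Agent.AbSchLib.RigidityOver

set_option autoImplicit false
universe u
open CategoryTheory CategoryTheory.Limits AlgebraicGeometry
open Variety Groth.Agent Groth.Agent.VarietyLib

namespace Groth.Agent.S7595

/-- Let X be a scheme over a field k, K an extension field of k and T an irreducible component of X.
Then each point of the inverse image of T in X_K lies on some irreducible component of X_K that is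
contained in this inverse image; so the inverse image of T is the union of the irreducible
components of X_K lying inside it. -/
theorem result (k : Type u) [Field k] (X : Scheme.{u}) [X.Over (Spec (CommRingCat.of k))] (K : Type u) [Field K] [Algebra k K]
    (T : Set ↥X) (hT : T ∈ irreducibleComponents ↥X) :
    (Curv2.bcFst k X K).base ⁻¹' T = ⋃₀ {Z : Set ↥(Curv2.bc k X K) | Z ∈ irreducibleComponents ↥(Curv2.bc k X K) ∧ Z ⊆ (Curv2.bcFst k X K).base ⁻¹' T} := by
  let f := X ↘ Spec (CommRingCat.of k)
  refine subset_antisymm (fun y hy => ?_) (fun y ⟨Z, ⟨_, hZ⟩, hy⟩ => hZ hy)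
  obtain ⟨Ω, _, _, _, _, _, _⟩ := exists_common_extension k K
  obtain ⟨z, rfl⟩ := surjective_tr k f K Ω y
  let ks := SeparableClosure k
  let s := tr k f ks Ω z
  obtain ⟨C, ⟨hC, hCT⟩, hsC⟩ := (preimage_component_eq k f (L := ks) hT).le
    (show s ∈ pullback.fst f (sK k ks) ⁻¹' T by
      rw [Set.mem_preimage, tr_fst_apply]
      exact (show pullback.fst f (sK k K) (tr k f K Ω z) ∈ T from hy) |> fun h => by rwa [tr_fst_apply] at h)
  have hW := isIrreducible_preimage_tr k f ks Ω hC.1
  have hWc : IsClosed (tr k f ks Ω ⁻¹' C) :=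
    (isClosed_of_mem_irreducibleComponents C hC).preimage (tr k f ks Ω).continuous
  have hmax : tr k f ks Ω ⁻¹' C ∈ irreducibleComponents ↥(pullback f (sK k Ω)) := by
    refine ⟨hW, fun S hS hle w hw => ?_⟩
    have h1 : C ⊆ tr k f ks Ω '' S := fun c hc => by
      obtain ⟨v, rfl⟩ := surjective_tr k f ks Ω c
      exact ⟨v, hle hc, rfl⟩
    exact hC.2 (hS.image _ (tr k f ks Ω).continuous.continuousOn) h1 ⟨w, hw, rfl⟩
  obtain ⟨ω, hω, hωW⟩ := exists_genericPoint_of_component hmax
  refine ⟨closure {tr k f K Ω ω}, ⟨generalizing_genericPoints ?_ hω, ?_⟩, ?_⟩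
  · have := flat_tr k f K Ω
    exact Flat.generalizingMap _
  · refine (closure_minimal ?_ ((isClosed_of_mem_irreducibleComponents T hT).preimage (pullback.fst f (sK k K)).continuous))
    rw [Set.singleton_subset_iff, Set.mem_preimage]
    show pullback.fst f (sK k K) _ ∈ T
    rw [tr_fst_apply, ← tr_fst_apply k f ks Ω]
    exact hCT ⟨_, hωW.le (subset_closure rfl), rfl⟩
  · refine specializes_iff_mem_closure.1 ((specializes_iff_mem_closure.2 ?_).map (tr k f K Ω).continuous)
    exact hωW.ge hsC

end Groth.Agent.S7595
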