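import Groth.Statements.S7596
import Groth.Agent.VarietyLib.GeomPoints
import Groth.Agent.FlatMor12.GeomDescent
import Groth.Agent.AbSchLib.RigidityOver

set_option autoImplicit false
universe u
open CategoryTheory CategoryTheory.Limits AlgebraicGeometry
open Variety Groth.Agent Groth.Agent.VarietyLib

namespace Groth.Agent.S7596

/-- Let X be an irreducible scheme over a field k whose k-rational points (points x at which k → κ(x) is
onto) form a dense subset. Then X is geometrically irreducible over k. -/
theorem result (k : Type u) [Field k] (X : Scheme.{u}) [X.Over (Spec (CommRingCat.of k))] [IrreducibleSpace ↥X]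
    (hd : Dense {x : ↥X | Function.Surjective (Curv2.resMap k X x)}) :
    GeometricallyIrreducible (X ↘ (Spec (CommRingCat.of k))) := by
  let f := X ↘ Spec (CommRingCat.of k)
  let ks := SeparableClosure k
  suffices IrreducibleSpace ↥(pullback f (sK k ks)) from geometricallyIrreducible_of_irreducibleSpace k f
  let π := pullback.fst f (sK k ks)
  obtain ⟨y, -⟩ := surjective_fst k f (L := ks) (genericPoint X)
  obtain ⟨ζ, hζ, -⟩ := exists_genericPoints_specializes y
  have himg : π '' closure {ζ} = Set.univ := by
    have h1 := image_irreducibleComponent k f ks (T := closure {ζ}) hζ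
    rw [irreducibleComponents_eq_singleton] at h1
    exact h1
  have hsub : π ⁻¹' {x | Function.Surjective (Curv2.resMap k X x)} ⊆ closure {ζ} := by
    intro w hw
    obtain ⟨v, hv, hvw⟩ := himg.ge (Set.mem_univ (π w))
    have e := fst_injOn_fibre k f (π w) (ρ := Curv2.resMap k X (π w))
      (by rw [← DimLib.baseRingHom_eq_resMap X, DimLib.specMap_baseRingHom]) (fun a _ => hw a) (p := w) (q := v) rfl hvw
    rw [e]; exact hv
  refine (irreducibleSpace_def _).2 ?_
  show IsIrreducible (Set.univ : Set ↥(pullback f (sK k ks)))
  have hd' : Dense (π ⁻¹' {x | Function.Surjective (Curv2.resMap k X x)}) := hd.preimage π.isOpenMap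
  rw [show (Set.univ : Set ↥(pullback f (sK k ks))) = closure {ζ} from
    (Set.eq_univ_of_univ_subset (hd'.closure_eq ▸ closure_minimal hsub isClosed_closure)).symm]
  exact isGenericPoint_closure.isIrreducible

end Groth.Agent.S7596
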