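import Groth.Statements.S7597
import Groth.Agent.VarietyLib.GeomComponents

set_option autoImplicit false
universe u
open CategoryTheory CategoryTheory.Limits AlgebraicGeometry
open Variety Groth.Agent.VarietyLib

namespace Groth.Agent.S7597

/-- Let k̄ be a separable algebraic closure of a field k, X a scheme over k and Z an irreducible
component of X_{k̄}. Then Z is mapped onto itself by the action of every k-automorphism of k̄ if and
only if Z is the full inverse image of some irreducible component T of X which is geometrically
irreducible over k (the inverse image of T in X_K is irreducible for every extension field K of k). -/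
theorem result (k : Type u) [Field k] (X : Scheme.{u}) [X.Over (Spec (CommRingCat.of k))]
    (Z : Set ↥(Curv2.bc k X (SeparableClosure k))) (hZ : Z ∈ irreducibleComponents ↥(Curv2.bc k X (SeparableClosure k))) :
    (∀ σ : SeparableClosure k ≃ₐ[k] SeparableClosure k, (Curv2.galAct k X (SeparableClosure k) σ).base '' Z = Z) ↔
      ∃ T ∈ irreducibleComponents ↥X, (Curv2.bcFst k X (SeparableClosure k)).base ⁻¹' T = Z ∧
        ∀ (K : Type u) [Field K] [Algebra k K], IsIrreducible ((Curv2.bcFst k X K).base ⁻¹' T) := by
  let f := X ↘ Spec (CommRingCat.of k)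
  constructor
  · intro hinv
    have hpre := preimage_image_of_invariant k f hinv
    refine ⟨_, image_irreducibleComponent k f _ hZ, hpre, fun K _ _ => ?_⟩
    obtain ⟨Ω, _, _, _, _, _, _⟩ := exists_common_extension k K
    have hirr := isIrreducible_preimage_tr k f (SeparableClosure k) Ω hZ.1
    have e : pullback.fst f (sK k K) ⁻¹' (pullback.fst f (sK k (SeparableClosure k)) '' Z) =
        tr k f K Ω '' (tr k f (SeparableClosure k) Ω ⁻¹' Z) := by
      ext y
      constructor
      · intro hy
        obtain ⟨w, rfl⟩ := surjective_tr k f K Ω y
        refine ⟨w, ?_, rfl⟩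
        rw [Set.mem_preimage, tr_fst_apply] at hy
        refine hpre.le ?_
        show pullback.fst f _ (tr k f (SeparableClosure k) Ω w) ∈ (pullback.fst f (sK k (SeparableClosure k)) '' Z)
        rwa [tr_fst_apply]
      · rintro ⟨w, hw, rfl⟩
        rw [Set.mem_preimage, tr_fst_apply]
        exact ⟨_, hw, tr_fst_apply k f _ Ω w⟩
    show IsIrreducible (pullback.fst f (sK k K) ⁻¹' _)
    rw [show (pullback.fst f (sK k K) ⁻¹' _) = _ from e]
    exact hirr.image _ (tr k f K Ω).continuous.continuousOn
  · rintro ⟨T, -, hT, -⟩ σ
    rw [← hT]
    exact image_preimage_gal k f σ T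

end Groth.Agent.S7597
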