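import Groth.Statements.S7599
import Groth.Agent.VarietyLib.NormalBaseChange
import Groth.Agent.VarietyLib.PiNormal

set_option autoImplicit false
universe u
open CategoryTheory CategoryTheory.Limits AlgebraicGeometry
attribute [local instance] Curv2.stalkAlgebra
open scoped TensorProduct
open Variety
open Groth.Agent
open scoped TensorProduct
attribute [local instance] Curv2.stalkAlgebra

namespace Groth.Agent.S7599

theorem isNormalRing_field (K : Type u) [Field K] : EGA4.IsNormalRing K :=
  VarietyLib.isNormalRing_of_artinian_reduced K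

/-- Normality over finite purely inseparable extensions gives normality of `O_x ⊗ K` for all `K`. -/
theorem isNormalRing_stalk_tensor (k : Type u) [Field k] (S : Type u) [CommRing S] [Algebra k S]
    (h : ∀ (k' : Type u) [Field k'] [Algebra k k'], Module.Finite k k' → IsPurelyInseparable k k' →
      EGA4.IsNormalRing (k' ⊗[k] S))
    (K : Type u) [Field K] [Algebra k K] : EGA4.IsNormalRing (S ⊗[k] K) :=
  CommAlg6.NormalTensor.isNormalRing_tensor_of_isGeomNormal k S K
    (VarietyLib.isGeomNormal_of_purelyInseparable k S h) (isNormalRing_field K)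


/-- Let X be a scheme over a field k and x a point of X. These conditions are equivalent: (1) the scheme
X is geometrically normal at x (meaning: for any extension field k' and any point x' of X_{k'} over
x the local ring O_{X_{k'}, x'} is an integrally closed domain); (2) the same for the finite purely
inseparable extensions k' of k only; (3) for every extension field k' of k the ring k' ⊗_k O_{X, x}
is normal (all its localisations at primes are integrally closed domains). Stated as (1) ↔ (2)
together with (2) ↔ (3). -/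
theorem result (k : Type u) [Field k] (X : Scheme.{u}) [X.Over (Spec (CommRingCat.of k))] (x : ↥X) :
    ((∀ (k' : Type u) [Field k'] [Algebra k k'] (x' : ↥(Curv2.bc k X k')), Curv2.bcFst k X k' x' = x →
          IsDomain ↥((Curv2.bc k X k').presheaf.stalk x') ∧ IsIntegrallyClosed ↥((Curv2.bc k X k').presheaf.stalk x')) ↔
      (∀ (k' : Type u) [Field k'] [Algebra k k'] [FiniteDimensional k k'] [IsPurelyInseparable k k'] (x' : ↥(Curv2.bc k X k')), Curv2.bcFst k X k' x' = x →
          IsDomain ↥((Curv2.bc k X k').presheaf.stalk x') ∧ IsIntegrallyClosed ↥((Curv2.bc k X k').presheaf.stalk x'))) ∧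
    ((∀ (k' : Type u) [Field k'] [Algebra k k'] [FiniteDimensional k k'] [IsPurelyInseparable k k'] (x' : ↥(Curv2.bc k X k')), Curv2.bcFst k X k' x' = x →
          IsDomain ↥((Curv2.bc k X k').presheaf.stalk x') ∧ IsIntegrallyClosed ↥((Curv2.bc k X k').presheaf.stalk x')) ↔
      ∀ (k' : Type u) [Field k'] [Algebra k k'], EGA4.IsNormalRing (k' ⊗[k] ↥(X.presheaf.stalk x))) := by
  have h23 : (∀ (k' : Type u) [Field k'] [Algebra k k'] [FiniteDimensional k k'] [IsPurelyInseparable k k'] (x' : ↥(Curv2.bc k X k')), Curv2.bcFst k X k' x' = x →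
      IsDomain ↥((Curv2.bc k X k').presheaf.stalk x') ∧ IsIntegrallyClosed ↥((Curv2.bc k X k').presheaf.stalk x')) →
      ∀ (k' : Type u) [Field k'] [Algebra k k'], EGA4.IsNormalRing (k' ⊗[k] ↥(X.presheaf.stalk x)) := by
    intro h K _ _
    refine CommAlg6.isNormalRing_of_ringEquiv (Algebra.TensorProduct.comm k _ K).toRingEquiv
      (isNormalRing_stalk_tensor k _ (fun k' _ _ hf hpi => ?_) K)
    haveI : FiniteDimensional k k' := hf
    exact CommAlg6.isNormalRing_of_ringEquiv (Algebra.TensorProduct.comm k _ k').toRingEquiv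
      (VarietyLib.isNormalRing_tensor_of_points k X k' x fun z hz => h k' z hz)
  have h31 : (∀ (k' : Type u) [Field k'] [Algebra k k'], EGA4.IsNormalRing (k' ⊗[k] ↥(X.presheaf.stalk x))) →
      ∀ (k' : Type u) [Field k'] [Algebra k k'] (x' : ↥(Curv2.bc k X k')), Curv2.bcFst k X k' x' = x →
      IsDomain ↥((Curv2.bc k X k').presheaf.stalk x') ∧ IsIntegrallyClosed ↥((Curv2.bc k X k').presheaf.stalk x') :=
    fun h k' _ _ x' hx => VarietyLib.isNormal_stalk_bc k X k' x
      (CommAlg6.isNormalRing_of_ringEquiv (Algebra.TensorProduct.comm k k' _).toRingEquiv (h k')) x' (hx ▸ specializes_rfl)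
  exact ⟨⟨fun h k' _ _ _ _ x' hx => h k' x' hx, fun h => h31 (h23 h)⟩,
    ⟨h23, fun h k' _ _ _ _ x' hx => h31 h k' x' hx⟩⟩

end Groth.Agent.S7599
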