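import Groth.Statements.S7600
import Groth.Agent.VarietyLib.FieldDescent
import Groth.Agent.HenselLib.NormalHens

set_option autoImplicit false
universe u
open CategoryTheory CategoryTheory.Limits AlgebraicGeometry
open Variety
open Groth.Agent
set_option backward.isDefEq.respectTransparency.types false
set_option synthInstance.maxHeartbeats 200000

namespace Groth.Agent.S7600

/-- (2) ⇒ (1): let X be a scheme over a field k, k' an extension field of k and x' a point of X_{k'}
with image x in X. If X_{k'} is geometrically normal at x' over k' (for every extension field k'' of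
k' and every point x'' of (X_{k'})_{k''} over x' the local ring at x'' is an integrally closed
domain), then X is geometrically normal at x over k. -/
theorem result (k : Type u) [Field k] (X : Scheme.{u}) [X.Over (Spec (CommRingCat.of k))] (k' : Type u) [Field k'] [Algebra k k'] (x' : ↥(Curv2.bc k X k'))
    (h : letI : (Curv2.bc k X k').Over (Spec (CommRingCat.of k')) := ⟨Curv2.bcSnd k X k'⟩
      ∀ (k'' : Type u) [Field k''] [Algebra k' k''] (x'' : ↥(Curv2.bc k' (Curv2.bc k X k') k'')), Curv2.bcFst k' (Curv2.bc k X k') k'' x'' = x' →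
          IsDomain ↥((Curv2.bc k' (Curv2.bc k X k') k'').presheaf.stalk x'') ∧ IsIntegrallyClosed ↥((Curv2.bc k' (Curv2.bc k X k') k'').presheaf.stalk x'')) :
    ∀ (K : Type u) [Field K] [Algebra k K] (y : ↥(Curv2.bc k X K)), Curv2.bcFst k X K y = (Curv2.bcFst k X k' x') →
          IsDomain ↥((Curv2.bc k X K).presheaf.stalk y) ∧ IsIntegrallyClosed ↥((Curv2.bc k X K).presheaf.stalk y) := by
  intro K _ _ y hy
  obtain ⟨L, hL1, hL2, φ, ψ, w, hw₁, hw₂, -⟩ := VarietyLib.exists_common_point k X K x' y hy.symm
  letI : (Curv2.bc k X k').Over (Spec (CommRingCat.of k')) := ⟨Curv2.bcSnd k X k'⟩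
  letI := φ.toRingHom.toAlgebra
  let e := VarietyLib.bcBcIso k X φ
  have hw : Curv2.bcFst k' (Curv2.bc k X k') L (e.hom w) = x' := by
    rw [← Scheme.Hom.comp_apply, VarietyLib.bcBcIso_fst]; exact hw₁
  obtain ⟨hd, hn⟩ := h L (e.hom w) hw
  let r := (asIso (e.hom.stalkMap w)).commRingCatIsoToRingEquiv
  haveI : IsDomain ((Curv2.bc k X L).presheaf.stalk w) := r.symm.injective.isDomain
  haveI : IsIntegrallyClosed ((Curv2.bc k X L).presheaf.stalk w) := IsIntegrallyClosed.of_equiv r
  have hff := VarietyLib.faithfullyFlat_stalkMap_bcExt k X ψ w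
  subst hw₂
  algebraize [((VarietyLib.bcExt k X ψ).stalkMap w).hom]
  haveI : Module.FaithfullyFlat ((Curv2.bc k X K).presheaf.stalk (VarietyLib.bcExt k X ψ w)) ((Curv2.bc k X L).presheaf.stalk w) := hff
  exact HenselLib.normalDomain_of_faithfullyFlat _ ((Curv2.bc k X L).presheaf.stalk w)

end Groth.Agent.S7600
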