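import Groth.Statements.S7603
import Groth.Agent.VarietyLib.GeomPoints
import Groth.Agent.AbSchLib.RigidityOver
import Groth.Agent.Props12.Components

set_option autoImplicit false
set_option backward.isDefEq.respectTransparency.types false
universe u
open CategoryTheory CategoryTheory.Limits AlgebraicGeometry
open Variety Groth.Agent Groth.Agent.VarietyLib CategoryTheory CategoryTheory.Limits AlgebraicGeometry

namespace Groth.Agent.S7603

/-- (2) ⇔ (3): let X be a proper scheme over a field k which is geometrically normal (X_K is a normal
scheme for every extension field K of k). Then X is geometrically connected over k exactly when it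
is geometrically irreducible over k. (The published statement lists geometric integrality as a
further equivalent condition; given geometric normality it is equivalent to geometric irreducibility
by a direct argument, so this row omits it.) -/
theorem result (k : Type u) [Field k] (X : Scheme.{u}) [X.Over (Spec (CommRingCat.of k))] [IsProper (X ↘ (Spec (CommRingCat.of k)))]
    (hX : ∀ (K : Type u) [Field K] [Algebra k K], Pi1.IsNormalScheme (Curv2.bc k X K)) :
    GeometricallyConnected (X ↘ (Spec (CommRingCat.of k))) ↔ GeometricallyIrreducible (X ↘ (Spec (CommRingCat.of k))) := by
  let f := X ↘ Spec (CommRingCat.of k)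
  refine ⟨fun hGC => ⟨geometrically_iff_of_commRing_of_isClosedUnderIsomorphisms.2 fun K _ _ => ?_⟩,
    fun h => AbSchLib.geometricallyConnected_of_irreducible f⟩
  have : ConnectedSpace ↥(pullback f (sK k K)) := pullback_of_geometrically hGC.geometrically_connectedSpace K _
  have hp : IsProper (pullback.snd f (sK k K)) := MorphismProperty.pullback_snd (P := @IsProper) _ _ inferInstance
  have : IsLocallyNoetherian (pullback f (sK k K)) := LocallyOfFiniteType.isLocallyNoetherian (pullback.snd f (sK k K))
  have : CompactSpace ↥(pullback f (sK k K)) := QuasiCompact.compactSpace_of_compactSpace (pullback.snd f (sK k K))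
  have : IsNoetherian (pullback f (sK k K)) := {}
  have hfin := finite_irreducibleComponents_of_isNoetherian (X := pullback f (sK k K))
  obtain ⟨z⟩ := (inferInstance : Nonempty ↥(pullback f (sK k K)))
  have hZ := irreducibleComponent_mem_irreducibleComponents z
  have hopen : IsOpen (irreducibleComponent z) := Props12.isOpen_component (fun y => (hX K y).1)
    (fun y => ⟨⊤, trivial, hfin.subset fun C hC => hC.1⟩) hZ
  have huniv : irreducibleComponent z = Set.univ :=
    IsClopen.eq_univ ⟨isClosed_irreducibleComponent, hopen⟩ ⟨z, mem_irreducibleComponent⟩
  refine (irreducibleSpace_def _).2 ?_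
  show IsIrreducible (Set.univ : Set ↥(pullback f (sK k K)))
  rw [← huniv]
  exact isIrreducible_irreducibleComponent

end Groth.Agent.S7603
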