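import Groth.Statements.S7604
import Groth.Agent.S1541
import Groth.Agent.FBaseLib.Geom

set_option autoImplicit false
universe u
open CategoryTheory CategoryTheory.Limits AlgebraicGeometry
open Variety
open Groth.Agent
attribute [local instance] Curv2.stalkAlgebra
set_option backward.isDefEq.respectTransparency.types false

namespace Groth.Agent.S7604

open TensorProduct


/-- Let X and Y be schemes over a field k with Y reduced, and let x be a point of X at which X is
geometrically reduced. Then each point of X ×_k Y mapping to x has a reduced local ring. -/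
theorem result (k : Type u) [Field k] (X : Scheme.{u}) [X.Over (Spec (CommRingCat.of k))] (Y : Scheme.{u}) [Y.Over (Spec (CommRingCat.of k))] [IsReduced Y]
    (x : ↥X) (hx : Curv2.IsGeomReducedAt k X x) (z : ↥(pullback (X ↘ (Spec (CommRingCat.of k))) (Y ↘ (Spec (CommRingCat.of k)))))
    (hz : pullback.fst (X ↘ (Spec (CommRingCat.of k))) (Y ↘ (Spec (CommRingCat.of k))) z = x) :
    _root_.IsReduced ↥((pullback (X ↘ (Spec (CommRingCat.of k))) (Y ↘ (Spec (CommRingCat.of k)))).presheaf.stalk z) := by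
  let qX := X ↘ Spec (CommRingCat.of k)
  let qY := Y ↘ Spec (CommRingCat.of k)
  haveI := (S1541.result k X x).1 hx
  let B := X.presheaf.stalk x
  obtain ⟨_, ⟨V, hV, rfl⟩, hyV, -⟩ :=
    Y.isBasis_affineOpens.exists_subset_of_mem_open (Set.mem_univ (pullback.snd qX qY z)) isOpen_univ
  let φ : k →+* Γ(Y, V) := ((Scheme.ΓSpecIso (CommRingCat.of k)).inv ≫ qY.appLE ⊤ V le_top).hom
  letI algkR : Algebra k Γ(Y, V) := φ.toAlgebra
  have e2 : hV.fromSpec ≫ qY = Spec.map (CommRingCat.ofHom (algebraMap k Γ(Y, V))) := by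
    rw [show CommRingCat.ofHom (algebraMap k Γ(Y, V)) = (Scheme.ΓSpecIso (CommRingCat.of k)).inv ≫ qY.appLE ⊤ V le_top from rfl,
      Spec.map_comp, ← IsAffineOpen.SpecMap_appLE_fromSpec qY (isAffineOpen_top _) hV le_top,
      IsAffineOpen.fromSpec_top, Scheme.isoSpec_Spec_inv]
  haveI : _root_.IsReduced (Γ(Y, V) ⊗[k] B) :=
    FBaseLib.isReduced_tensor B Γ(Y, V) fun K _ _ => S1544.isReduced_field_tensor k K B
  haveI : _root_.IsReduced (B ⊗[k] Γ(Y, V)) :=
    isReduced_of_injective (Algebra.TensorProduct.comm k B Γ(Y, V)) (Algebra.TensorProduct.comm k B Γ(Y, V)).injective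
  let T := Spec (CommRingCat.of (B ⊗[k] Γ(Y, V)))
  haveI : IsReduced T := inferInstance
  let a : T ⟶ pullback (X.fromSpecStalk x ≫ qX) (hV.fromSpec ≫ qY) :=
    (pullbackSpecIso k B Γ(Y, V)).inv ≫
      (pullback.congrHom (VarietyLib.specMap_stalkAlgebra k X x) e2.symm).hom
  let b : pullback (X.fromSpecStalk x ≫ qX) (hV.fromSpec ≫ qY) ⟶ pullback qX qY :=
    pullback.map _ _ _ _ (X.fromSpecStalk x) hV.fromSpec (𝟙 _) (by rw [Category.comp_id]) (by rw [Category.comp_id])
  haveI : Flat (X.fromSpecStalk x) := VarietyLib.flat_fromSpecStalk' x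
  have hb : IsPreimmersion b ∧ Flat b :=
    ⟨MorphismProperty.pullbackMap (P := @IsPreimmersion) (f := X.fromSpecStalk x ≫ qX) (g := hV.fromSpec ≫ qY) (f' := qX) (g' := qY) (i₁ := X.fromSpecStalk x) (i₂ := hV.fromSpec) inferInstance inferInstance rfl rfl,
      MorphismProperty.pullbackMap (P := @Flat) (f := X.fromSpecStalk x ≫ qX) (g := hV.fromSpec ≫ qY) (f' := qX) (g' := qY) (i₁ := X.fromSpecStalk x) (i₂ := hV.fromSpec) inferInstance inferInstance rfl rfl⟩
  haveI := hb.1
  haveI := hb.2
  have hmem : z ∈ Set.range b := by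
    rw [Scheme.Pullback.range_map]
    refine ⟨?_, ?_⟩
    · show pullback.fst qX qY z ∈ Set.range (X.fromSpecStalk x)
      rw [Scheme.range_fromSpecStalk]
      exact hz.symm ▸ specializes_rfl
    · show pullback.snd qX qY z ∈ Set.range hV.fromSpec
      rw [hV.range_fromSpec]
      exact hyV
  obtain ⟨w, rfl⟩ := hmem
  haveI : IsIso (b.stalkMap w) := VarietyLib.isIso_stalkMap_of_flat_of_isPreimmersion b w
  haveI : IsReduced (pullback (X.fromSpecStalk x ≫ qX) (hV.fromSpec ≫ qY)) := isReduced_of_isOpenImmersion (inv a)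
  exact isReduced_of_injective (asIso (b.stalkMap w)).commRingCatIsoToRingEquiv.toRingHom
    (asIso (b.stalkMap w)).commRingCatIsoToRingEquiv.injective

end Groth.Agent.S7604
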