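import Groth.Statements.S7605
import Groth.Agent.FlatMorNoethFib.Basic

set_option autoImplicit false
universe u
open CategoryTheory CategoryTheory.Limits AlgebraicGeometry
open Variety
open Groth.Agent
set_option backward.isDefEq.respectTransparency.types false

namespace Groth.Agent.S7605

/-- For a scheme X over a field k and a finitely generated field extension k' of k, local Noetherianity
of X is equivalent to local Noetherianity of its base change X_{k'}. -/
theorem result (k : Type u) [Field k] (X : Scheme.{u}) [X.Over (Spec (CommRingCat.of k))] (k' : Type u) [Field k'] [Algebra k k']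
    (hfg : (⊤ : IntermediateField k k').FG) :
    IsLocallyNoetherian X ↔ IsLocallyNoetherian (Curv2.bc k X k') := by
  haveI : Algebra.EssFiniteType k k' := IntermediateField.fg_top_iff.mp hfg
  exact (FlatMorNoethFib.isLocallyNoetherian_iff (k := CommRingCat.of k) (K := CommRingCat.of k') (Field.toIsField k) (Field.toIsField k')
    (CommRingCat.ofHom (algebraMap k k')) (RingHom.essFiniteType_algebraMap.2 inferInstance)
    (Curv2.bcFst k X k') (Curv2.bcSnd k X k') (X ↘ Spec (CommRingCat.of k)) (IsPullback.of_hasPullback _ _)).symm

end Groth.Agent.S7605
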