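import Groth.Statements.S7607
import Groth.Agent.VarietyLib.FieldDescent
import Groth.Agent.CAlgH3.RegularHom
import Groth.Agent.HenselLib.HullNoeth

set_option autoImplicit false
universe u
open CategoryTheory CategoryTheory.Limits AlgebraicGeometry
open Variety
open Groth.Agent
set_option backward.isDefEq.respectTransparency.types false

namespace Groth.Agent.S7607

/-- (2) ⇒ (1): let X be a scheme over a field k, k' a finitely generated field extension of k and x' a
point of X_{k'} with image x in X. If X_{k'} is geometrically regular at x' over k', then X is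
geometrically regular at x over k. (The published setting defines geometric regularity only for
locally Noetherian schemes; this row allows any scheme X over k.) -/
theorem result (k : Type u) [Field k] (X : Scheme.{u}) [X.Over (Spec (CommRingCat.of k))] (k' : Type u) [Field k'] [Algebra k k'] (hfg : (⊤ : IntermediateField k k').FG)
    (x' : ↥(Curv2.bc k X k'))
    (h : @Curv2.IsGeomRegularAt k' _ (Curv2.bc k X k') ⟨Curv2.bcSnd k X k'⟩ x') :
    Curv2.IsGeomRegularAt k X (Curv2.bcFst k X k' x') := by
  intro K _ _ hK y hy
  obtain ⟨L, hL1, hL2, φ, ψ, w, hw₁, hw₂, hsup⟩ := VarietyLib.exists_common_point k X K x' y hy.symm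
  letI : (Curv2.bc k X k').Over (Spec (CommRingCat.of k')) := ⟨Curv2.bcSnd k X k'⟩
  letI := φ.toRingHom.toAlgebra
  let e := VarietyLib.bcBcIso k X φ
  have hw : Curv2.bcFst k' (Curv2.bc k X k') L (e.hom w) = x' := by
    rw [← Scheme.Hom.comp_apply, VarietyLib.bcBcIso_fst]; exact hw₁
  haveI := h L (VarietyLib.fg_of_compositum k φ ψ hsup hK) (e.hom w) hw
  haveI : IsRegularLocalRing ((Curv2.bc k X L).presheaf.stalk w) :=
    IsRegularLocalRing.of_ringEquiv (asIso (e.hom.stalkMap w)).commRingCatIsoToRingEquiv
  have hff := VarietyLib.faithfullyFlat_stalkMap_bcExt k X ψ w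
  subst hw₂
  algebraize [((VarietyLib.bcExt k X ψ).stalkMap w).hom]
  haveI : IsLocalHom (algebraMap ((Curv2.bc k X K).presheaf.stalk (VarietyLib.bcExt k X ψ w))
      ((Curv2.bc k X L).presheaf.stalk w)) := by
    rw [RingHom.algebraMap_toAlgebra]; infer_instance
  haveI := HenselLib.isNoetherianRing_of_faithfullyFlat ((Curv2.bc k X K).presheaf.stalk (VarietyLib.bcExt k X ψ w))
      ((Curv2.bc k X L).presheaf.stalk w)
  exact CAlgH3.isRegularLocalRing_of_flat ((Curv2.bc k X L).presheaf.stalk w)

end Groth.Agent.S7607
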