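import Groth.Statements.S7611
import Groth.Agent.FlatMorAmitsur.Main
import Groth.Agent.VarietyLib.GeomReducedPt

set_option autoImplicit false
universe u
open CategoryTheory CategoryTheory.Limits AlgebraicGeometry
attribute [local instance] Curv2.resAlgebra
open Variety

namespace Groth.Agent.S7611

/-- Let X be a scheme over a field k. There is a cardinal κ such that for every extension field K of k
of cardinality at least κ, the base change X_K is a Jacobson scheme and for every closed point x of
X_K the residue field κ(x) is algebraic over K. -/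
theorem result (k : Type u) [Field k] (X : Scheme.{u}) [X.Over (Spec (CommRingCat.of k))] :
    ∃ κ : Cardinal.{u}, ∀ (K : Type u) [Field K] [Algebra k K], κ ≤ Cardinal.mk K →
      JacobsonSpace ↥(Curv2.bc k X K) ∧
        ∀ x : ↥(Curv2.bc k X K), IsClosed ({x} : Set ↥(Curv2.bc k X K)) →
          letI : (Curv2.bc k X K).Over (Spec (CommRingCat.of K)) := ⟨Curv2.bcSnd k X K⟩
          Algebra.IsAlgebraic K ((Curv2.bc k X K).residueField x) := by
  classical
  refine ⟨Order.succ (max Cardinal.aleph0 (⨆ U : X.affineOpens, Cardinal.mk Γ(X, U.1))), fun K _ _ hK => ?_⟩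
  let p := X ↘ Spec (CommRingCat.of k)
  have key : ∀ z : ↥(Curv2.bc k X K), ∃ (A : CommRingCat.{u}) (_ : Algebra K A) (S : Set A)
      (c : Spec A ⟶ Curv2.bc k X K), IsOpenImmersion c ∧ z ∈ Set.range c ∧ Algebra.adjoin K S = ⊤ ∧
        max (Cardinal.mk S) Cardinal.aleph0 < Cardinal.mk K ∧
        c ≫ Curv2.bcSnd k X K = Spec.map (CommRingCat.ofHom (algebraMap K A)) := by
    intro z
    obtain ⟨U, hU, hzU, -⟩ := exists_isAffineOpen_mem_and_subset
      (x := Curv2.bcFst k X K z) (U := (⊤ : X.Opens)) trivial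
    obtain ⟨ψ, hψ⟩ := Spec.map_surjective (hU.fromSpec ≫ p)
    letI : Algebra k Γ(X, U) := ψ.hom.toAlgebra
    have he : hU.fromSpec ≫ p = Spec.map (CommRingCat.ofHom (algebraMap k Γ(X, U))) := hψ.symm
    letI : Algebra K (TensorProduct k Γ(X, U) K) := Algebra.TensorProduct.rightAlgebra
    refine ⟨CommRingCat.of (TensorProduct k Γ(X, U) K), inferInstanceAs (Algebra K (TensorProduct k Γ(X, U) K)), _, Groth.Agent.FlatMorQcDescend.chart p K hU.fromSpec he,
      inferInstance, ?_, Groth.Agent.FlatMorAmitsur.adjoin_range_includeLeft k Γ(X, U) K, ?_, ?_⟩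
    · rw [Groth.Agent.FlatMorQcDescend.range_chart, Set.mem_preimage, hU.range_fromSpec]
      exact hzU
    · refine lt_of_lt_of_le (Order.lt_succ_iff.2 ?_) hK
      exact max_le ((Cardinal.mk_range_le).trans ((le_ciSup (Cardinal.bddAbove_range _)
        (⟨U, hU⟩ : X.affineOpens)).trans (le_max_right _ _))) (le_max_left _ _)
    · rw [Groth.Agent.FlatMorQcDescend.chart, Category.assoc]
      erw [pullback.lift_snd]
      rw [Category.comp_id, pullbackSpecIso_inv_snd]
      rfl
  choose A iA S c hc hzc hS hlt hsnd using key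
  haveI := fun z => hc z
  haveI hJ : ∀ z, JacobsonSpace ↥(Spec (A z)) := fun z => by
    letI := iA z
    haveI := Groth.Agent.FlatMorAmitsur.isJacobsonRing (S z) (hS z) (hlt z)
    infer_instance
  constructor
  · refine (TopologicalSpace.IsOpenCover.jacobsonSpace_iff
      (U := fun z => (c z).opensRange) (TopologicalSpace.Opens.ext (Set.eq_univ_of_forall fun z =>
        TopologicalSpace.Opens.mem_iSup.2 ⟨z, hzc z⟩))).2 fun z => ?_
    exact .of_isClosedEmbedding (c z).isOpenEmbedding.isEmbedding.toHomeomorph.symm.isClosedEmbedding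
  · intro z hz
    letI : (Curv2.bc k X K).Over (Spec (CommRingCat.of K)) := ⟨Curv2.bcSnd k X K⟩
    obtain ⟨t, ht⟩ := hzc z
    letI := iA z
    have htc : IsClosed ({t} : Set ↥(Spec (A z))) := by
      have : ({t} : Set ↥(Spec (A z))) = c z ⁻¹' {z} := Set.ext fun w => by
        rw [Set.mem_preimage, Set.mem_singleton_iff, Set.mem_singleton_iff]
        exact ⟨fun h => h ▸ ht, fun h => (c z).isOpenEmbedding.injective (h.trans ht.symm)⟩
      rw [this]
      exact hz.preimage (c z).continuous
    have hmax : t.asIdeal.IsMaximal := (PrimeSpectrum.isClosed_singleton_iff_isMaximal t).1 htc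
    haveI := hmax
    have hρ : ∀ w : ↥(Curv2.bc k X K), Spec.map (CommRingCat.ofHom (Curv2.resMap K (Curv2.bc k X K) w)) =
        (Curv2.bc k X K).fromSpecResidueField w ≫ Curv2.bcSnd k X K := fun w => by
      letI := Curv2.stalkAlgebra K (Curv2.bc k X K) w
      rw [Scheme.fromSpecResidueField, Category.assoc,
        show Curv2.bcSnd k X K = (Curv2.bc k X K) ↘ Spec (CommRingCat.of K) from rfl,
        ← Groth.Agent.VarietyLib.specMap_stalkAlgebra K (Curv2.bc k X K) w, ← Spec.map_comp]
      rfl
    have halg := Groth.Agent.FlatMorAmitsur.isAlgebraic_residueField (K := K) (c z) (Curv2.bcSnd k X K) (hsnd z) t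
      (Curv2.resMap K (Curv2.bc k X K) (c z t)) (hρ _) hmax
      (Groth.Agent.FlatMorAmitsur.isAlgebraic_quotient (S z) (hS z) (hlt z) t.asIdeal)
    exact ht ▸ halg

end Groth.Agent.S7611
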