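import Groth.Statements.S7612
import Mathlib

set_option autoImplicit false
universe u
open CategoryTheory CategoryTheory.Limits AlgebraicGeometry
open Variety
set_option backward.isDefEq.respectTransparency.types false

namespace Groth.Agent.S7612

/-- In a product over a field, a point over `a` is a limit of points over `a` in any set whose closure contains its image. -/
theorem mem_closure_fibre (k : Type u) [Field k] {X Y : Scheme.{u}} (f : X ⟶ Spec (CommRingCat.of k))
    (g : Y ⟶ Spec (CommRingCat.of k)) (w : ↥(pullback f g)) (B : Set ↥Y) (hB : pullback.snd f g w ∈ closure B) :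
    w ∈ closure ((pullback.fst f g) ⁻¹' {pullback.fst f g w} ∩ (pullback.snd f g) ⁻¹' B) := by
  set a := pullback.fst f g w
  let ι := X.fromSpecResidueField a
  let F := pullback (pullback.fst f g) ι
  let j : F ⟶ pullback f g := pullback.fst (pullback.fst f g) ι
  have hj : Set.range j = (pullback.fst f g) ⁻¹' {a} := by
    rw [Scheme.Pullback.range_fst, Scheme.range_fromSpecResidueField]
  haveI : UniversallyOpen (ι ≫ f) := inferInstance
  have hopen : IsOpenMap (j ≫ pullback.snd f g) := by
    have H : IsPullback (j ≫ pullback.snd f g) (pullback.snd (pullback.fst f g) ι) g (ι ≫ f) :=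
      (IsPullback.of_hasPullback (pullback.fst f g) ι).paste_horiz (IsPullback.of_hasPullback f g).flip
    haveI : UniversallyOpen (j ≫ pullback.snd f g) := MorphismProperty.of_isPullback H.flip inferInstance
    exact Scheme.Hom.isOpenMap _
  obtain ⟨t, ht⟩ : w ∈ Set.range j := hj.ge rfl
  rw [mem_closure_iff]
  intro W hW hwW
  obtain ⟨b, ⟨t', ht', rfl⟩, hbB⟩ := mem_closure_iff.1 hB ((j ≫ pullback.snd f g) '' (j ⁻¹' W))
    (hopen _ (hW.preimage j.continuous))
    ⟨t, show j t ∈ W from ht.symm ▸ hwW, by rw [Scheme.Hom.comp_apply, ht]⟩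
  exact ⟨j t', ht', hj.le ⟨t', rfl⟩, by rw [Scheme.Hom.comp_apply] at hbB; exact hbB⟩


/-- Let X and Y be schemes over a field k and A ⊆ X, B ⊆ Y subsets. Inside X ×_k Y, the closure of the
set of points projecting into A and into B equals the set of points projecting into the closure of A
and into the closure of B. -/
theorem result (k : Type u) [Field k] (X : Scheme.{u}) [X.Over (Spec (CommRingCat.of k))] (Y : Scheme.{u}) [Y.Over (Spec (CommRingCat.of k))] (A : Set ↥X) (B : Set ↥Y) :
    closure ((pullback.fst (X ↘ (Spec (CommRingCat.of k))) (Y ↘ (Spec (CommRingCat.of k)))).base ⁻¹' A ∩ (pullback.snd (X ↘ (Spec (CommRingCat.of k))) (Y ↘ (Spec (CommRingCat.of k)))).base ⁻¹' B) =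
      (pullback.fst (X ↘ (Spec (CommRingCat.of k))) (Y ↘ (Spec (CommRingCat.of k)))).base ⁻¹' closure A ∩ (pullback.snd (X ↘ (Spec (CommRingCat.of k))) (Y ↘ (Spec (CommRingCat.of k)))).base ⁻¹' closure B := by
  set qX := X ↘ Spec (CommRingCat.of k)
  set qY := Y ↘ Spec (CommRingCat.of k)
  apply subset_antisymm
  · refine closure_minimal (Set.inter_subset_inter (Set.preimage_mono subset_closure) (Set.preimage_mono subset_closure))
      ((isClosed_closure.preimage (pullback.fst qX qY).continuous).inter
        (isClosed_closure.preimage (pullback.snd qX qY).continuous))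
  · rintro z ⟨hzA, hzB⟩
    -- first move into `A`
    have h1 : z ∈ closure ((pullback.fst qX qY) ⁻¹' A ∩ (pullback.snd qX qY) ⁻¹' {pullback.snd qX qY z}) := by
      have h := mem_closure_fibre k qY qX ((pullbackSymmetry qX qY).hom z) A (by
        rw [← Scheme.Hom.comp_apply, pullbackSymmetry_hom_comp_snd]; exact hzA)
      have hmap := map_mem_closure (pullbackSymmetry qX qY).inv.continuous h
        (t := (pullback.fst qX qY) ⁻¹' A ∩ (pullback.snd qX qY) ⁻¹' {pullback.snd qX qY z}) ?_
      · rwa [← Scheme.Hom.comp_apply, Iso.hom_inv_id] at hmap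
      · rintro w ⟨hw1, hw2⟩
        refine ⟨?_, ?_⟩
        · show pullback.fst qX qY ((pullbackSymmetry qX qY).inv w) ∈ A
          rw [← Scheme.Hom.comp_apply, pullbackSymmetry_inv_comp_fst]; exact hw2
        · show pullback.snd qX qY ((pullbackSymmetry qX qY).inv w) = _
          rw [← Scheme.Hom.comp_apply, pullbackSymmetry_inv_comp_snd]
          refine (Set.mem_singleton_iff.1 hw1).trans ?_
          rw [← Scheme.Hom.comp_apply, pullbackSymmetry_hom_comp_fst]
    refine closure_minimal ?_ isClosed_closure h1
    rintro w ⟨hwA, hwB⟩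
    refine closure_mono ?_ (mem_closure_fibre k qX qY w B (by rw [hwB]; exact hzB))
    rintro v ⟨hv1, hv2⟩
    exact ⟨show pullback.fst qX qY v ∈ A from (Set.mem_singleton_iff.1 hv1).symm ▸ hwA, hv2⟩

end Groth.Agent.S7612
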