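import Groth.Statements.S7613
import Groth.Agent.S1544
import Groth.Agent.SGA3cLib.GeomConn
import Groth.Agent.AbVarLib.GeomIntegralSmooth
import Groth.Agent.DimLib.OverBridge

set_option autoImplicit false
universe u
open CategoryTheory CategoryTheory.Limits AlgebraicGeometry
open Variety
open Groth.Agent
attribute [local instance] Curv2.stalkAlgebra
set_option backward.isDefEq.respectTransparency.types false

namespace Groth.Agent.S7613

/-- Let X be a variety over a field k (integral, separated and of finite type over k) with a k-rational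
point x (k → κ(x) onto) such that X → Spec k is smooth at x. Then every base change of X to an
extension field of k is an integral scheme (X is geometrically integral over k). -/
theorem result (k : Type u) [Field k] (X : Scheme.{u}) [X.Over (Spec (CommRingCat.of k))] [IsIntegral X] [IsSeparated (X ↘ (Spec (CommRingCat.of k)))]
    [LocallyOfFiniteType (X ↘ (Spec (CommRingCat.of k)))] [QuasiCompact (X ↘ (Spec (CommRingCat.of k)))]
    (x : ↥X) (hx : Function.Surjective (Curv2.resMap k X x)) (hsm : x ∈ (X ↘ (Spec (CommRingCat.of k))).smoothLocus) :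
    GeometricallyIntegral (X ↘ (Spec (CommRingCat.of k))) := by
  let q := X ↘ Spec (CommRingCat.of k)
  haveI : IsLocallyNoetherian X := LocallyOfFiniteType.isLocallyNoetherian q
  haveI : CompactSpace X := QuasiCompact.compactSpace_of_compactSpace q
  haveI : IsNoetherian X := {}
  set U := q.smoothLocus with hUdef
  haveI : Smooth (U.ι ≫ q) := by
    rw [← Scheme.Hom.smoothLocus_eq_top_iff, ← Scheme.Hom.preimage_smoothLocus_eq, eq_top_iff]
    exact fun w _ => w.2
  haveI : Nonempty U := ⟨⟨x, hsm⟩⟩
  haveI : IsIntegral (U : Scheme.{u}) := isIntegral_of_isOpenImmersion U.ι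
  haveI : QuasiCompact U.ι := inferInstance
  haveI : QuasiCompact (U.ι ≫ q) := inferInstance
  -- rational point
  have hbij : Function.Bijective (DimLib.baseRingHom q x) := by
    rw [DimLib.baseRingHom_eq_resMap]
    exact ⟨(Curv2.resMap k X x).injective, hx⟩
  haveI : IsIso (X.fromSpecResidueField x ≫ q) := by
    rw [← DimLib.specMap_baseRingHom]
    haveI : IsIso (CommRingCat.ofHom (DimLib.baseRingHom q x)) := (ConcreteCategory.isIso_iff_bijective _).2 hbij
    infer_instance
  let s : Spec (CommRingCat.of k) ⟶ X := inv (X.fromSpecResidueField x ≫ q) ≫ X.fromSpecResidueField x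
  have hs : s ≫ q = 𝟙 _ := by rw [Category.assoc, IsIso.inv_hom_id]
  have hsU : Set.range s ⊆ Set.range U.ι := by
    rintro _ ⟨p, rfl⟩
    rw [Scheme.Opens.range_ι]
    show X.fromSpecResidueField x _ ∈ U
    rw [Scheme.fromSpecResidueField_apply]
    exact hsm
  let sU := IsOpenImmersion.lift U.ι s hsU
  haveI : GeometricallyConnected (U.ι ≫ q) := by
    have := SGA3cLib.geometricallyConnected_of_rational_point k (U.ι ≫ q) (𝟙 (U : Scheme.{u})) sU
      (by rw [IsOpenImmersion.lift_fac_assoc, hs]) (by simp)
    rwa [Category.id_comp] at this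
  haveI := AbVarLib.geometricallyIntegral_of_smooth (U.ι ≫ q)
  -- geometrically reduced
  haveI : GeometricallyReduced (U.ι ≫ q) := inferInstance
  have hfld : Algebra.IsGeometricallyReduced k X.functionField := by
    obtain ⟨_, ⟨W, hW, rfl⟩, hηW, hWU⟩ :=
      X.isBasis_affineOpens.exists_subset_of_mem_open
        (((genericPoint_spec X).mem_open_set_iff U.2).2 ⟨x, trivial, hsm⟩) U.2
    haveI : Nonempty W := ⟨⟨_, hηW⟩⟩
    let φ : k →+* Γ(X, W) := ((Scheme.ΓSpecIso (CommRingCat.of k)).inv ≫ q.appLE ⊤ W le_top).hom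
    letI algkA : Algebra k Γ(X, W) := φ.toAlgebra
    haveI hfrac : IsFractionRing Γ(X, W) X.functionField := functionField_isFractionRing_of_isAffineOpen X W hW
    have hφ : ∀ c : k, algebraMap Γ(X, W) X.functionField (φ c) = algebraMap k X.functionField c := by
      have h : ((Scheme.ΓSpecIso (CommRingCat.of k)).inv ≫ q.appLE ⊤ W le_top) ≫ X.presheaf.germ W _ hηW =
          (Scheme.ΓSpecIso (CommRingCat.of k)).inv ≫ q.appTop ≫ X.presheaf.germ ⊤ (genericPoint X) trivial := by
        rw [Scheme.Hom.appLE, Category.assoc, Category.assoc, TopCat.Presheaf.germ_res]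
        rfl
      exact fun c => congrArg (fun m => m c) h
    haveI : IsScalarTower k Γ(X, W) X.functionField := IsScalarTower.of_algebraMap_eq fun c => (hφ c).symm
    have e2 : hW.fromSpec ≫ q = Spec.map (CommRingCat.ofHom φ) := by
      rw [show CommRingCat.ofHom φ = (Scheme.ΓSpecIso (CommRingCat.of k)).inv ≫ q.appLE ⊤ W le_top from rfl,
        Spec.map_comp, ← IsAffineOpen.SpecMap_appLE_fromSpec q (isAffineOpen_top _) hW le_top,
        IsAffineOpen.fromSpec_top, Scheme.isoSpec_Spec_inv]
    have hr : Set.range hW.fromSpec ⊆ Set.range U.ι := by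
      rw [hW.range_fromSpec, Scheme.Opens.range_ι]; exact hWU
    haveI : IsOpenImmersion (IsOpenImmersion.lift U.ι hW.fromSpec hr) := by
      haveI : IsOpenImmersion (IsOpenImmersion.lift U.ι hW.fromSpec hr ≫ U.ι) := by
        rw [IsOpenImmersion.lift_fac]; infer_instance
      exact IsOpenImmersion.of_comp _ U.ι
    haveI := AlgGrpLib.PointsDense.isGeometricallyReduced_of_open k (U.ι ≫ q) Γ(X, W)
      (IsOpenImmersion.lift U.ι hW.fromSpec hr) (by rw [IsOpenImmersion.lift_fac_assoc]; exact e2)
    exact S1544.isGeometricallyReduced_fraction k Γ(X, W) X.functionField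
  haveI := (S1544.result k X).2 hfld
  refine ⟨fun K _ y Z fst snd hP => ?_⟩
  haveI : IsReduced Z := GeometricallyReduced.geometrically_isReduced (f := q) y fst snd hP
  haveI : UniversallyOpen y := by
    obtain ⟨ψ, rfl⟩ := Spec.map_surjective y
    infer_instance
  haveI : UniversallyOpen fst := MorphismProperty.of_isPullback hP.flip inferInstance
  have hopen : IsOpenMap fst := fst.isOpenMap
  have hU' : IsPullback (fst ∣_ U) ((fst ⁻¹ᵁ U).ι ≫ snd) (U.ι ≫ q) y :=
    (isPullback_morphismRestrict fst U).paste_vert hP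
  haveI := GeometricallyIntegral.geometrically_isIntegral (f := U.ι ≫ q) y _ _ hU'
  haveI : IrreducibleSpace ↥(fst ⁻¹ᵁ U).toScheme := inferInstance
  haveI : IrreducibleSpace Z := by
    have hd : Dense ((fst ⁻¹ᵁ U : Z.Opens) : Set Z) :=
      (U.2.dense ⟨x, hsm⟩).preimage hopen
    have hi : IsIrreducible ((fst ⁻¹ᵁ U : Z.Opens) : Set Z) := by
      rw [← Scheme.Opens.range_ι, ← Set.image_univ]
      exact (IrreducibleSpace.isIrreducible_univ _).image _ (fst ⁻¹ᵁ U).ι.continuous.continuousOn
    have hi2 := hi.closure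
    rw [hd.closure_eq] at hi2
    exact (irreducibleSpace_def _).2 hi2
  exact isIntegral_of_irreducibleSpace_of_isReduced Z

end Groth.Agent.S7613
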