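import Groth.Statements.S7614
import Groth.Agent.Et18.Descent
import Groth.Agent.Desc19b.Imm

set_option autoImplicit false
set_option backward.isDefEq.respectTransparency.types false
universe u
open CategoryTheory CategoryTheory.Limits AlgebraicGeometry
open Variety Groth.Agent

namespace Groth.Agent.S7614

/-- Let X be a scheme over a field k and K an extension field of k. If X_K is quasi-affine, then X is
quasi-affine. -/
theorem result (k : Type u) [Field k] (X : Scheme.{u}) [X.Over (Spec (CommRingCat.of k))] (K : Type u) [Field K] [Algebra k K]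
    [(Curv2.bc k X K).IsQuasiAffine] : X.IsQuasiAffine := by
  let f := Spec.map (CommRingCat.ofHom (algebraMap k K))
  let g := X ↘ Spec (CommRingCat.of k)
  have hsf : Surjective f := ⟨fun x => ⟨Classical.arbitrary _, Subsingleton.elim _ _⟩⟩
  have : Flat f := by
    rw [Flat.SpecMap_iff]
    exact RingHom.flat_algebraMap_iff.2 inferInstance
  have : CompactSpace (pullback f g : Scheme.{u}) :=
    (pullbackSymmetry f g).symm.hom.homeomorph.compactSpace (X := (Curv2.bc k X K : Scheme.{u}))
  have : (pullback f g).IsQuasiAffine :=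
    Scheme.IsQuasiAffine.of_isImmersion (Y := Curv2.bc k X K) (pullbackSymmetry f g).hom
  have hsP : Surjective (pullback.snd f g) := MorphismProperty.pullback_snd _ _ hsf
  have : CompactSpace X := (pullback.snd f g).surjective.compactSpace (pullback.snd f g).continuous
  have : QuasiSeparatedSpace X := by
    have := Et18.descends_quasiSeparated.{u}
    have h0 : QuasiSeparated (pullback.fst f g) := inferInstance
    have hq : QuasiSeparated g := MorphismProperty.of_pullback_fst_of_descendsAlong
      (P := @QuasiSeparated) (Q := Et18.FPQC.{u}) ⟨⟨hsf, inferInstance⟩, inferInstance⟩ h0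
    exact quasiSeparatedSpace_of_quasiSeparated g
  let h : Spec Γ(X, ⊤) ⟶ Spec (CommRingCat.of k) :=
    Spec.map g.appTop ≫ (Spec (CommRingCat.of k)).isoSpec.inv
  have hh : X.toSpecΓ ≫ h = g := by simp [h, ← Scheme.toSpecΓ_naturality_assoc]
  let q : pullback f g ⟶ pullback h f :=
    pullback.lift (pullback.snd f g ≫ X.toSpecΓ) (pullback.fst f g)
      (by rw [Category.assoc, hh, pullback.condition])
  have hsq : IsPullback (pullback.snd f g) q X.toSpecΓ (pullback.fst h f) := by
    refine IsPullback.of_bot (v₂₁ := pullback.snd h f) (v₂₂ := h) (h₃₁ := f) ?_ ?_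
      (IsPullback.of_hasPullback h f)
    · rw [hh, pullback.lift_snd]
      exact (IsPullback.of_hasPullback f g).flip
    · rw [pullback.lift_fst]
  have hout := Et18.isPushout_appTop_of_flat (IsPullback.of_hasPullback f g).flip
  have htop := Et18.isPushout_appTop_of_flat (IsPullback.of_hasPullback h f)
  have hsqΓ : IsPushout (pullback.fst h f).appTop X.toSpecΓ.appTop q.appTop
      (pullback.snd f g).appTop := by
    refine (htop.flip.paste_vert_iff ?_).mp ?_
    · rw [← Scheme.Hom.comp_appTop, ← Scheme.Hom.comp_appTop, pullback.lift_fst]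
    · rw [← Scheme.Hom.comp_appTop, ← Scheme.Hom.comp_appTop, hh, pullback.lift_snd]
      exact hout.flip
  have : IsIso X.toSpecΓ.appTop := by rw [Scheme.toSpecΓ_appTop]; infer_instance
  have : IsIso q.appTop := hsqΓ.isIso_inl_of_isIso
  have hq : (@IsImmersion ⊓ @QuasiCompact : MorphismProperty Scheme.{u}) q := by
    have he : q ≫ (pullback h f).toSpecΓ = (pullback f g).toSpecΓ ≫ Spec.map q.appTop :=
      Scheme.toSpecΓ_naturality q
    have : IsImmersion (q ≫ (pullback h f).toSpecΓ) := by rw [he]; infer_instance
    exact ⟨IsImmersion.of_comp q (pullback h f).toSpecΓ,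
      quasiCompact_of_compactSpace q⟩
  have := Desc19b.descendsAlong_immersion_qc.{u}
  have hX : (@IsImmersion ⊓ @QuasiCompact : MorphismProperty Scheme.{u}) X.toSpecΓ :=
    MorphismProperty.of_isPullback_of_descendsAlong (Q := Et18.FPQC.{u}) hsq.flip
      ⟨⟨MorphismProperty.pullback_fst _ _ hsf, inferInstance⟩, inferInstance⟩ hq
  have : IsImmersion X.toSpecΓ := hX.1
  constructor

end Groth.Agent.S7614
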