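import Groth.Statements.S7618
import Groth.Agent.HenselLib.SectionsIdem

set_option autoImplicit false
universe u
open CategoryTheory CategoryTheory.Limits AlgebraicGeometry
open Variety
open Groth.Agent
set_option backward.isDefEq.respectTransparency.types false

namespace Groth.Agent.S7618

/-- A finite reduced algebra over a field without nontrivial idempotents is a field. -/
theorem isUnit_of_finite (R : Type u) [CommRing R] [IsArtinianRing R] [_root_.IsReduced R]
    (hid : ∀ e : R, IsIdempotentElem e → e = 0 ∨ e = 1) (a : R) (ha : a ≠ 0) : IsUnit a := by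
  haveI : IsSemisimpleRing R := IsArtinianRing.isSemisimpleRing_of_isReduced R
  obtain ⟨J, hJ⟩ := exists_isCompl (Ideal.span {a})
  obtain ⟨e, he, f, hf, hef⟩ := Submodule.mem_sup.1 (hJ.sup_eq_top.ge (Submodule.mem_top (x := (1 : R))))
  have hef0 : e * f = 0 :=
    (Submodule.mem_bot _).1 (hJ.inf_eq_bot.le ⟨Ideal.mul_mem_right _ _ he, Ideal.mul_mem_left _ _ hf⟩)
  have hee : IsIdempotentElem e := by
    show e * e = e
    conv_rhs => rw [← mul_one e, ← hef, mul_add, hef0, add_zero]
  rcases hid e hee with rfl | rfl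
  · rw [zero_add] at hef
    have : a * f = 0 := (Submodule.mem_bot _).1
      (hJ.inf_eq_bot.le ⟨Ideal.mul_mem_right _ _ (Ideal.mem_span_singleton_self a), Ideal.mul_mem_left _ _ hf⟩)
    rw [hef, mul_one] at this
    exact absurd this ha
  · obtain ⟨c, hc⟩ := Ideal.mem_span_singleton'.1 he
    exact IsUnit.of_mul_eq_one c (by rw [mul_comm, hc])


/-- Let X be a connected reduced scheme over a field k. Then the global functions on X that are integral
over k form a field. -/
theorem result (k : Type u) [Field k] (X : Scheme.{u}) [X.Over (Spec (CommRingCat.of k))] [ConnectedSpace ↥X] [IsReduced X] :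
    letI := ((X ↘ (Spec (CommRingCat.of k))).appTop.hom.comp (Scheme.ΓSpecIso (CommRingCat.of k)).inv.hom : k →+* Γ(X, ⊤)).toAlgebra
    IsField ↥(integralClosure k ↑Γ(X, ⊤)) := by
  letI alg : Algebra k Γ(X, ⊤) := ((X ↘ (Spec (CommRingCat.of k))).appTop.hom.comp
    (Scheme.ΓSpecIso (CommRingCat.of k)).inv.hom : k →+* Γ(X, ⊤)).toAlgebra
  haveI : Nonempty X := inferInstance
  haveI : Nontrivial Γ(X, ⊤) := by
    haveI : Nonempty (⊤ : X.Opens) := ⟨⟨Classical.arbitrary X, trivial⟩⟩
    exact Scheme.component_nontrivial X ⊤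
  have hid : ∀ e : Γ(X, ⊤), IsIdempotentElem e → e = 0 ∨ e = 1 := by
    intro e he
    rcases isClopen_iff.1 (HenselLib.SectionsIdem.isClopen_basicOpen he) with h | h
    · exact Or.inl (HenselLib.SectionsIdem.eq_of_basicOpen_eq he IsIdempotentElem.zero
        (TopologicalSpace.Opens.ext (h.trans (by rw [Scheme.basicOpen_zero]; rfl))))
    · exact Or.inr (HenselLib.SectionsIdem.eq_of_basicOpen_eq he IsIdempotentElem.one
        (TopologicalSpace.Opens.ext (h.trans (by rw [X.basicOpen_of_isUnit isUnit_one]; rfl))))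
  refine ⟨⟨0, 1, fun h => zero_ne_one (congrArg Subtype.val h : (0 : Γ(X, ⊤)) = 1)⟩, mul_comm, fun {a} ha => ?_⟩
  let R := Algebra.adjoin k {(a : Γ(X, ⊤))}
  haveI : Module.Finite k R := Module.Finite.iff_fg.2 (IsIntegral.fg_adjoin_singleton a.2)
  haveI : IsArtinianRing R := IsArtinianRing.of_finite k R
  haveI : _root_.IsReduced Γ(X, ⊤) := inferInstance
  haveI : _root_.IsReduced R := isReduced_of_injective R.val Subtype.val_injective
  have haR : IsUnit (⟨a, Algebra.self_mem_adjoin_singleton k _⟩ : R) := by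
    refine isUnit_of_finite R (fun e he => ?_) _ fun h => ha (Subtype.ext (congrArg Subtype.val h :))
    rcases hid e (congrArg Subtype.val he) with h | h
    · exact Or.inl (Subtype.ext h)
    · exact Or.inr (Subtype.ext h)
  obtain ⟨b, hb⟩ := isUnit_iff_exists_inv.1 haR
  refine ⟨⟨b.1, ?_⟩, Subtype.ext (congrArg Subtype.val hb :)⟩
  exact adjoin_le_integralClosure a.2 b.2

end Groth.Agent.S7618
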