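import Groth.Statements.S7619
import Mathlib.RingTheory.Unramified.Locus
import Mathlib.RingTheory.LocalRing.Module
import Mathlib.RingTheory.Kaehler.Basic
import Mathlib.LinearAlgebra.Dimension.Finite
-- import your own Groth.Agent.* helpers here

set_option autoImplicit false
set_option linter.all false
set_option backward.isDefEq.respectTransparency false
universe u
open CategoryTheory CategoryTheory.Limits AlgebraicGeometry
open scoped TensorProduct
open Variety

namespace Groth.Agent.S7619

/-- Let A → B be a finite type ring map (a finite type morphism of affine schemes), q a prime of B and r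
= dim_{κ(q)} Ω_{B/A} ⊗_B κ(q). Then there is an A-algebra homomorphism A[x_1, …, x_r] → B for which
B is unramified over A[x_1, …, x_r] at q. -/
theorem result (A B : Type u) [CommRing A] [CommRing B] [Algebra A B] [Algebra.FiniteType A B]
    (q : Ideal B) [q.IsPrime] (r : ℕ) (hr : Module.finrank q.ResidueField (q.ResidueField ⊗[B] Ω[B⁄A]) = r) :
    ∃ φ : MvPolynomial (Fin r) A →ₐ[A] B,
      letI := φ.toRingHom.toAlgebra
      Algebra.IsUnramifiedAt (MvPolynomial (Fin r) A) q := by
  classical
  let V := q.ResidueField ⊗[B] Ω[B⁄A]
  let w : B → V := fun b => (1 : q.ResidueField) ⊗ₜ[B] KaehlerDifferential.D A B b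
  have hspan : Submodule.span q.ResidueField (Set.range w) = ⊤ := by
    rw [eq_top_iff]
    rintro z -
    induction z using TensorProduct.induction_on with
    | zero => exact zero_mem _
    | add a b ha hb => exact add_mem ha hb
    | tmul c m =>
      rw [show c ⊗ₜ[B] m = c • ((1 : q.ResidueField) ⊗ₜ[B] m) by rw [TensorProduct.smul_tmul', smul_eq_mul, mul_one]]
      refine Submodule.smul_mem _ _ ?_
      have hm : m ∈ Submodule.span B (Set.range (KaehlerDifferential.D A B)) := by
        rw [KaehlerDifferential.span_range_derivation]; exact Submodule.mem_top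
      induction hm using Submodule.span_induction with
      | mem x hx => obtain ⟨b, rfl⟩ := hx; exact Submodule.subset_span ⟨b, rfl⟩
      | zero => rw [TensorProduct.tmul_zero]; exact zero_mem _
      | add x y _ _ hx hy => rw [TensorProduct.tmul_add]; exact add_mem hx hy
      | smul a x _ hx =>
        rw [TensorProduct.tmul_smul, ← algebraMap_smul q.ResidueField a ((1 : q.ResidueField) ⊗ₜ[B] x)]
        exact Submodule.smul_mem _ _ hx
  obtain ⟨S, hS, hSspan, hli⟩ := exists_linearIndependent q.ResidueField (Set.range w)
  rw [hspan] at hSspan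
  haveI : Fintype S := hli.setFinite.fintype
  let bas : Module.Basis S q.ResidueField V := Module.Basis.mk hli (by rw [Subtype.range_coe, hSspan])
  have hcard : Fintype.card S = r := by rw [← hr, Module.finrank_eq_card_basis bas]
  let e : Fin r ≃ S := (finCongr hcard.symm).trans (Fintype.equivFin S).symm
  choose b hb using fun i : Fin r => hS (e i).2
  refine ⟨MvPolynomial.aeval b, ?_⟩
  letI : Algebra (MvPolynomial (Fin r) A) B := (MvPolynomial.aeval b).toRingHom.toAlgebra
  haveI : IsScalarTower A (MvPolynomial (Fin r) A) B :=
    IsScalarTower.of_algebraMap_eq fun a => ((MvPolynomial.aeval b).commutes a).symm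
  haveI : Algebra.FiniteType (MvPolynomial (Fin r) A) B := Algebra.FiniteType.of_restrictScalars_finiteType A _ _
  show (⟨q, inferInstance⟩ : PrimeSpectrum B) ∈ Algebra.unramifiedLocus (MvPolynomial (Fin r) A) B
  rw [Algebra.unramifiedLocus_eq_compl_support, Set.mem_compl_iff,
    Module.mem_support_iff_nontrivial_residueField_tensorProduct, not_nontrivial_iff_subsingleton]
  let π : Ω[B⁄A] →ₗ[B] Ω[B⁄(MvPolynomial (Fin r) A)] := KaehlerDifferential.map A (MvPolynomial (Fin r) A) B B
  have hπ : ∀ i, π (KaehlerDifferential.D A B (b i)) = 0 := fun i => by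
    show KaehlerDifferential.map A (MvPolynomial (Fin r) A) B B _ = 0
    rw [KaehlerDifferential.map_D, show algebraMap B B (b i) = algebraMap (MvPolynomial (Fin r) A) B (MvPolynomial.X i)
      from (MvPolynomial.aeval_X b i).symm, Derivation.map_algebraMap]
  have hzero : π.baseChange q.ResidueField = 0 := by
    refine bas.ext fun s => ?_
    obtain ⟨i, rfl⟩ := e.surjective s
    rw [Module.Basis.mk_apply, ← hb i, LinearMap.zero_apply]
    show (1 : q.ResidueField) ⊗ₜ[B] π (KaehlerDifferential.D A B (b i)) = 0
    rw [hπ, TensorProduct.tmul_zero]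
  refine subsingleton_of_forall_eq 0 fun z => ?_
  obtain ⟨y, rfl⟩ := LinearMap.lTensor_surjective q.ResidueField (KaehlerDifferential.map_surjective A (MvPolynomial (Fin r) A) B) z
  exact LinearMap.congr_fun hzero y

end Groth.Agent.S7619
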