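import Groth.Statements.S7620
import Groth.Agent.DimLib.Algebra
import Mathlib.RingTheory.NoetherNormalization
import Mathlib.RingTheory.FiniteStability
import Mathlib.RingTheory.LocalRing.ResidueField.Fiber
-- import your own Groth.Agent.* helpers here

set_option autoImplicit false
set_option linter.all false
set_option backward.isDefEq.respectTransparency false
universe u
open CategoryTheory CategoryTheory.Limits AlgebraicGeometry
open scoped TensorProduct
open Variety

namespace Groth.Agent.S7620

/-- Let A → B be a finite type ring map (a finite type morphism of affine schemes X → S), p a prime of A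
and suppose the fibre ring κ(p) ⊗_A B has Krull dimension d. Then there is an A-algebra homomorphism
π : A[t_1, …, t_d] → B such that the induced map of fibres κ(p) ⊗_A A[t_1, …, t_d] → κ(p) ⊗_A B is
finite. -/
theorem result (A B : Type u) [CommRing A] [CommRing B] [Algebra A B] [Algebra.FiniteType A B]
    (p : Ideal A) [p.IsPrime] (d : ℕ) (hd : ringKrullDim (p.ResidueField ⊗[A] B) = d) :
    ∃ π : MvPolynomial (Fin d) A →ₐ[A] B,
      (Algebra.TensorProduct.map (AlgHom.id p.ResidueField p.ResidueField) π).toRingHom.Finite := by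
  classical
  let κ := p.ResidueField
  let F := κ ⊗[A] B
  haveI : Nontrivial F := by
    by_contra hn
    rw [not_nontrivial_iff_subsingleton] at hn
    rw [ringKrullDim_eq_bot_of_subsingleton] at hd
    exact absurd hd.symm (WithBot.natCast_ne_bot d)
  obtain ⟨s, g, hg, hfin⟩ := exists_finite_inj_algHom_of_fg κ F
  have hsd : s = d := by
    letI := g.toRingHom.toAlgebra
    haveI : Module.Finite (MvPolynomial (Fin s) κ) F := hfin
    haveI : Algebra.IsIntegral (MvPolynomial (Fin s) κ) F := Algebra.IsIntegral.of_finite _ _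
    have h := Groth.Agent.DimLib.ringKrullDim_eq_of_isIntegral (R := MvPolynomial (Fin s) κ) (S := F) hg
    rw [hd, MvPolynomial.ringKrullDim_of_isNoetherianRing, ringKrullDim_eq_zero_of_field, zero_add, Nat.card_fin] at h
    exact_mod_cast h
  subst hsd
  -- every element of the fibre is a unit multiple of an element of `B`
  have hscale : ∀ z : F, ∃ c : κ, c ≠ 0 ∧ ∃ b : B, c • z = (1 : κ) ⊗ₜ[A] b := by
    intro z
    induction z using TensorProduct.induction_on with
    | zero => exact ⟨1, one_ne_zero, 0, by simp⟩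
    | tmul c b =>
      obtain ⟨x, y, hy, rfl⟩ := IsFractionRing.div_surjective (A := A ⧸ p) c
      obtain ⟨x, rfl⟩ := Ideal.Quotient.mk_surjective x
      obtain ⟨y, rfl⟩ := Ideal.Quotient.mk_surjective y
      refine ⟨algebraMap A κ y, ?_, x • b, ?_⟩
      · intro h
        exact nonZeroDivisors.ne_zero hy (Ideal.Quotient.eq_zero_iff_mem.mpr (Ideal.algebraMap_residueField_eq_zero.mp h))
      · rw [TensorProduct.smul_tmul', smul_eq_mul, ← TensorProduct.smul_tmul, ← Algebra.algebraMap_eq_smul_one]
        congr 1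
        have hy0 : algebraMap (A ⧸ p) κ (Ideal.Quotient.mk p y) ≠ 0 :=
          IsFractionRing.to_map_ne_zero_of_mem_nonZeroDivisors hy
        rw [IsScalarTower.algebraMap_apply A (A ⧸ p) κ y, IsScalarTower.algebraMap_apply A (A ⧸ p) κ x]
        exact mul_div_cancel₀ _ hy0
    | add u v hu hv =>
      obtain ⟨c, hc, b, hb⟩ := hu
      obtain ⟨e, he, b', hb'⟩ := hv
      obtain ⟨x, y, hy, hc'⟩ := IsFractionRing.div_surjective (A := A ⧸ p) c
      obtain ⟨x', y', hy', he'⟩ := IsFractionRing.div_surjective (A := A ⧸ p) e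
      obtain ⟨x, rfl⟩ := Ideal.Quotient.mk_surjective x
      obtain ⟨x', rfl⟩ := Ideal.Quotient.mk_surjective x'
      obtain ⟨y, rfl⟩ := Ideal.Quotient.mk_surjective y
      obtain ⟨y', rfl⟩ := Ideal.Quotient.mk_surjective y'
      have hy0 : algebraMap (A ⧸ p) κ (Ideal.Quotient.mk p y) ≠ 0 :=
        IsFractionRing.to_map_ne_zero_of_mem_nonZeroDivisors hy
      have hy0' : algebraMap (A ⧸ p) κ (Ideal.Quotient.mk p y') ≠ 0 :=
        IsFractionRing.to_map_ne_zero_of_mem_nonZeroDivisors hy'
      have hmul : ∀ (a : A) (w : F) (q : B), w = (1 : κ) ⊗ₜ[A] q → algebraMap A κ a • w = (1 : κ) ⊗ₜ[A] (a • q) := by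
        intro a w q hw
        rw [hw, TensorProduct.tmul_smul, algebraMap_smul]
      have hx : algebraMap A κ x = algebraMap A κ y * c := by
        rw [← hc', IsScalarTower.algebraMap_apply A (A ⧸ p) κ y, IsScalarTower.algebraMap_apply A (A ⧸ p) κ x]
        exact (mul_div_cancel₀ _ hy0).symm
      have hx' : algebraMap A κ x' = algebraMap A κ y' * e := by
        rw [← he', IsScalarTower.algebraMap_apply A (A ⧸ p) κ y', IsScalarTower.algebraMap_apply A (A ⧸ p) κ x']
        exact (mul_div_cancel₀ _ hy0').symm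
      refine ⟨algebraMap A κ x * algebraMap A κ x', ?_, (x' * y) • b + (x * y') • b', ?_⟩
      · rw [hx, hx']
        exact mul_ne_zero (mul_ne_zero (by rwa [IsScalarTower.algebraMap_apply A (A ⧸ p) κ y]) hc)
          (mul_ne_zero (by rwa [IsScalarTower.algebraMap_apply A (A ⧸ p) κ y']) he)
      · rw [smul_add, TensorProduct.tmul_add, ← hmul (x' * y) _ b hb, ← hmul (x * y') _ b' hb', smul_smul, smul_smul,
          map_mul, map_mul, hx, hx']
        congr 1 <;> · congr 1; ring
  choose c hc b hb using fun i => hscale (g (MvPolynomial.X i))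
  refine ⟨MvPolynomial.aeval b, ?_⟩
  let ψ := Algebra.TensorProduct.map (AlgHom.id κ κ) (MvPolynomial.aeval b : MvPolynomial (Fin s) A →ₐ[A] B)
  let h : MvPolynomial (Fin s) κ →ₐ[κ] κ ⊗[A] MvPolynomial (Fin s) A :=
    MvPolynomial.aeval fun i => (c i)⁻¹ • ((1 : κ) ⊗ₜ[A] MvPolynomial.X i)
  have hψ : ψ.comp h = g := MvPolynomial.algHom_ext fun i => by
    show ψ (h (MvPolynomial.X i)) = _
    rw [show h (MvPolynomial.X i) = (c i)⁻¹ • ((1 : κ) ⊗ₜ[A] MvPolynomial.X i) from MvPolynomial.aeval_X _ i, map_smul,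
      Algebra.TensorProduct.map_tmul, MvPolynomial.aeval_X, AlgHom.id_apply, ← hb, smul_smul, inv_mul_cancel₀ (hc i), one_smul]
  have e : ψ.toRingHom.comp h.toRingHom = g.toRingHom := congrArg AlgHom.toRingHom hψ
  exact RingHom.Finite.of_comp_finite (f := h.toRingHom) (g := ψ.toRingHom) (e ▸ hfin)

end Groth.Agent.S7620
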