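import Groth.Statements.S7621
import Groth.Agent.FlatMorQcDescend.Main

set_option autoImplicit false
universe u
open CategoryTheory CategoryTheory.Limits AlgebraicGeometry
open Variety

namespace Groth.Agent.S7621

/-- Let K be a (possibly infinite) Galois extension of a field k, X a scheme over k and V a
quasi-compact open subset of X_K. Then there is a subextension k'/k of K, finite over k, such that
every k-automorphism of K fixing k' pointwise maps V onto itself under its action on X_K (an open
subgroup of the Galois group stabilises V). -/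
theorem result (k : Type u) [Field k] (K : Type u) [Field K] [Algebra k K] [IsGalois k K]
    (X : Scheme.{u}) [X.Over (Spec (CommRingCat.of k))] (V : Set ↥(Curv2.bc k X K)) (hV : IsOpen V) (hVc : IsCompact V) :
    ∃ E : IntermediateField k K, FiniteDimensional k ↥E ∧
      ∀ σ : K ≃ₐ[k] K, (∀ a : K, a ∈ E → σ a = a) → (Curv2.galAct k X K σ).base '' V = V := by
  obtain ⟨A', hA', W, hW, hWc, hWV⟩ :=
    Groth.Agent.FlatMorQcDescend.exists_descend (X ↘ (Spec (CommRingCat.of k))) V hV hVc
  obtain ⟨s, hs⟩ := hA'
  haveI : Algebra.IsAlgebraic k K := inferInstance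
  refine ⟨IntermediateField.adjoin k (s : Set K), IntermediateField.finiteDimensional_adjoin
    fun x _ => (Algebra.IsAlgebraic.isAlgebraic x).isIntegral, fun σ hσ => ?_⟩
  have hfix : ∀ a : A', σ a.1 = a.1 := fun a => hσ _ (by
    have h1 : A' ≤ (IntermediateField.adjoin k (s : Set K)).toSubalgebra := by
      rw [← hs]; exact Algebra.adjoin_le (IntermediateField.subset_adjoin k _)
    exact h1 a.2)
  have h2 : Curv2.galAct k X K σ ≫ Groth.Agent.FlatMorQcDescend.tr (X ↘ (Spec (CommRingCat.of k))) A'.val =
      Groth.Agent.FlatMorQcDescend.tr (X ↘ (Spec (CommRingCat.of k))) A'.val := by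
    have hc : (σ : K →ₐ[k] K).comp A'.val = A'.val := AlgHom.ext fun a => hfix a
    have hg : Curv2.galAct k X K σ =
        Groth.Agent.FlatMorQcDescend.tr (X ↘ (Spec (CommRingCat.of k))) (σ : K →ₐ[k] K) := by
      apply pullback.hom_ext
      · rw [Groth.Agent.FlatMorQcDescend.tr_fst]
        exact (pullback.lift_fst _ _ _).trans (Category.comp_id _)
      · rw [Groth.Agent.FlatMorQcDescend.tr_snd]
        exact pullback.lift_snd _ _ _
    rw [hg, Groth.Agent.FlatMorQcDescend.tr_comp, hc]
  have hpre : (Curv2.galAct k X K σ).base ⁻¹' V = V := by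
    rw [← hWV]
    ext w
    simp only [Set.mem_preimage]
    rw [← Scheme.Hom.comp_apply, h2]
  have hsurj : Function.Surjective (Curv2.galAct k X K σ).base := by
    intro w
    have hg : ∀ τ : K ≃ₐ[k] K, Curv2.galAct k X K τ =
        Groth.Agent.FlatMorQcDescend.tr (X ↘ (Spec (CommRingCat.of k))) (τ : K →ₐ[k] K) := fun τ => by
      apply pullback.hom_ext
      · rw [Groth.Agent.FlatMorQcDescend.tr_fst]
        exact (pullback.lift_fst _ _ _).trans (Category.comp_id _)
      · rw [Groth.Agent.FlatMorQcDescend.tr_snd]
        exact pullback.lift_snd _ _ _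
    have hid : Curv2.galAct k X K σ.symm ≫ Curv2.galAct k X K σ = 𝟙 _ := by
      rw [hg, hg, Groth.Agent.FlatMorQcDescend.tr_comp]
      apply pullback.hom_ext
      · rw [Groth.Agent.FlatMorQcDescend.tr_fst, Category.id_comp]
      · rw [Groth.Agent.FlatMorQcDescend.tr_snd, Category.id_comp]
        have : ((σ.symm : K →ₐ[k] K).comp (σ : K →ₐ[k] K)).toRingHom = RingHom.id K :=
          RingHom.ext fun a => σ.symm_apply_apply a
        rw [this]
        simp
    exact ⟨(Curv2.galAct k X K σ.symm).base w, by
      have := congrArg (fun z : Curv2.bc k X K ⟶ Curv2.bc k X K => z.base w) hid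
      simpa using this⟩
  calc (Curv2.galAct k X K σ).base '' V = (Curv2.galAct k X K σ).base '' ((Curv2.galAct k X K σ).base ⁻¹' V) := by rw [hpre]
    _ = V := Set.image_preimage_eq V hsurj

end Groth.Agent.S7621
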