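import Groth.Statements.S7622
import Groth.Agent.S2452
import Groth.Agent.CAlgH.CompleteLocal
import Groth.Agent.CommAlg6.CompletionEquidim
-- import your own Groth.Agent.* helpers here

set_option autoImplicit false
universe u
open CategoryTheory CategoryTheory.Limits AlgebraicGeometry
open Variety

namespace Groth.Agent.S7622

open IsLocalRing


/-- Let A be a Noetherian local algebra over a field k (such as the local ring of a locally Noetherian
k-scheme at a point) whose residue field κ is a separable extension of k, meaning geometrically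
reduced over k; κ need not be algebraic over k. Then there are n ≥ 0, an ideal I of κ[[x_1, …, x_n]]
and a k-algebra isomorphism e from κ[[x_1, …, x_n]]/I onto the completion A^∧ of A at its maximal
ideal which induces the identity on residue fields: for every a in A, the value of e on the constant
power series whose value is the residue class of a is congruent to the image of a modulo the
extended maximal ideal of A^∧. -/
theorem result (k A : Type u) [Field k] [CommRing A] [Algebra k A]
    [IsNoetherianRing A] [IsLocalRing A] [Algebra.IsGeometricallyReduced k (IsLocalRing.ResidueField A)] :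
    ∃ (n : ℕ) (I : Ideal (MvPowerSeries (Fin n) (IsLocalRing.ResidueField A)))
      (e : (MvPowerSeries (Fin n) (IsLocalRing.ResidueField A) ⧸ I) ≃ₐ[k]
        AdicCompletion (IsLocalRing.maximalIdeal A) A),
      ∀ a : A, e (Ideal.Quotient.mk I (MvPowerSeries.C (IsLocalRing.residue A a))) -
          algebraMap A (AdicCompletion (IsLocalRing.maximalIdeal A) A) a ∈
        (IsLocalRing.maximalIdeal A).map (algebraMap A (AdicCompletion (IsLocalRing.maximalIdeal A) A)) := by
  let Ah := AdicCompletion (maximalIdeal A) A
  haveI : IsNoetherianRing Ah := _root_.Groth.Agent.Matlis6.isNoetherianRing_adicCompletion _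
  haveI : IsLocalHom (algebraMap A Ah) := _root_.Groth.Agent.CommAlg6.isLocalHom_completion A
  haveI : IsAdicComplete (maximalIdeal Ah) Ah := inferInstance
  have hmax : maximalIdeal Ah = (maximalIdeal A).map (algebraMap A Ah) := AdicCompletion.maximalIdeal_eq_map
  have hres : ∀ z : Ah, ∃ a : A, z - algebraMap A Ah a ∈ maximalIdeal Ah := fun z => by
    obtain ⟨a, ha⟩ := Ideal.Quotient.mk_surjective (AdicCompletion.evalOneₐ (maximalIdeal A) z)
    refine ⟨a, ?_⟩
    rw [hmax, ← AdicCompletion.ker_evalOneₐ_eq_map _ (IsNoetherian.noetherian _), RingHom.mem_ker, map_sub, sub_eq_zero]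
    exact ha.symm.trans (AlgHom.commutes _ a).symm
  let r : ResidueField A →+* ResidueField Ah := ResidueField.map (algebraMap A Ah)
  have hr : Function.Bijective r := ⟨r.injective, fun z => by
    obtain ⟨y, rfl⟩ := residue_surjective z
    obtain ⟨a, ha⟩ := hres y
    exact ⟨residue A a, (Ideal.Quotient.eq.mpr ha).symm⟩⟩
  have hrk : ∀ c : k, r (algebraMap k (ResidueField A) c) = algebraMap k (ResidueField Ah) c := fun c => by
    show r (residue A (algebraMap k A c)) = residue Ah (algebraMap k Ah c)
    rw [ResidueField.map_residue, ← IsScalarTower.algebraMap_apply]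
  let rk : ResidueField A →ₐ[k] ResidueField Ah := { r with commutes' := hrk }
  haveI : Algebra.IsGeometricallyReduced k (ResidueField Ah) :=
    Algebra.IsGeometricallyReduced.of_injective (AlgEquiv.ofBijective rk hr).symm.toAlgHom
      (AlgEquiv.ofBijective rk hr).symm.injective
  obtain ⟨σ, hσ⟩ := _root_.Groth.Agent.S2452.result (k := k) (A := Ah)
  obtain ⟨n, x, hx⟩ := Submodule.fg_iff_exists_fin_generating_family.mp (IsNoetherian.noetherian (maximalIdeal Ah))
  have hI : ∀ i, x i ∈ maximalIdeal Ah := fun i => hx ▸ Submodule.subset_span ⟨i, rfl⟩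
  let φ : ResidueField A →+* Ah := σ.toRingHom.comp r
  have hφres : ∀ a, φ (residue A a) - algebraMap A Ah a ∈ maximalIdeal Ah := fun a => by
    have h1 := hσ (r (residue A a))
    exact Ideal.Quotient.eq.mp (h1.trans (ResidueField.map_residue (algebraMap A Ah) a))
  obtain ⟨f, hfC, hfX⟩ := _root_.Groth.Agent.CAlgH.exists_mvPowerSeries_eval φ (maximalIdeal Ah) x hI
  have hf : Function.Surjective f := by
    refine _root_.Groth.Agent.CAlgH.surjective_mvPowerSeries_hom f (maximalIdeal Ah) (fun i => (hfX i).symm ▸ hI i) ?_
    intro y
    obtain ⟨z, rfl⟩ := Ideal.Quotient.mk_surjective y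
    obtain ⟨a, ha⟩ := hres z
    refine ⟨residue A a, ?_⟩
    rw [RingHom.comp_apply, hfC, Ideal.Quotient.eq, show (fun i => f (MvPowerSeries.X i)) = x from funext hfX,
      show Ideal.span (Set.range x) = maximalIdeal Ah from hx]
    simpa using sub_mem (hφres a) ha
  have hfk : ∀ c : k, f (algebraMap k (MvPowerSeries (Fin n) (ResidueField A)) c) = algebraMap k Ah c := fun c => by
    rw [MvPowerSeries.algebraMap_apply]
    rw [← RingHom.comp_apply, hfC]
    show σ (rk (algebraMap k (ResidueField A) c)) = _
    rw [AlgHom.commutes, AlgHom.commutes]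
  let fk : MvPowerSeries (Fin n) (ResidueField A) →ₐ[k] Ah := { f with commutes' := hfk }
  refine ⟨n, RingHom.ker fk.toRingHom, Ideal.quotientKerAlgEquivOfSurjective (f := fk) hf, fun a => ?_⟩
  rw [← hmax]
  show f (MvPowerSeries.C (residue A a)) - algebraMap A Ah a ∈ maximalIdeal Ah
  rw [← RingHom.comp_apply f MvPowerSeries.C, hfC]
  exact hφres a

end Groth.Agent.S7622
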