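import Groth.Statements.S7624
import Groth.Agent.FlatMorValEquidim.Main

set_option autoImplicit false
universe u
open CategoryTheory CategoryTheory.Limits AlgebraicGeometry
open Variety

namespace Groth.Agent.S7624

/-- Let R be a valuation ring, X an irreducible scheme and f : X → Spec R a surjective morphism locally
of finite type. Then each irreducible component of the fibre of f over the closed point of Spec R
has Krull dimension equal to that of the fibre of f over the generic point. -/
theorem result (R : Type u) [CommRing R] [IsDomain R] [ValuationRing R]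
    (X : Scheme.{u}) [IrreducibleSpace ↥X] (f : X ⟶ Spec (CommRingCat.of R)) [LocallyOfFiniteType f] [Surjective f]
    (Z : Set ↥(f.fiber (IsLocalRing.closedPoint R))) (hZ : Z ∈ irreducibleComponents ↥(f.fiber (IsLocalRing.closedPoint R))) :
    topologicalKrullDim ↥Z = topologicalKrullDim ↥(f.fiber (⟨⊥, Ideal.bot_prime⟩ : PrimeSpectrum R)) := by
  have hg : (⟨⊥, Ideal.bot_prime⟩ : PrimeSpectrum R) = genericPoint (Spec (CommRingCat.of R)) := by
    refine ((genericPoint_spec (Spec (CommRingCat.of R))).eq ?_).symm
    exact Set.eq_univ_of_forall fun p => (PrimeSpectrum.le_iff_specializes ⟨⊥, Ideal.bot_prime⟩ p).1 bot_le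
      |>.mem_closure
  rw [hg]
  exact FlatMorValEquidim.dim_component f Z hZ

end Groth.Agent.S7624
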