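import Groth.Statements.S7625
import Groth.Agent.EGA43.CMChart.Main
import Groth.Agent.FlatMorDim.LocalDim

set_option autoImplicit false
universe u
open CategoryTheory CategoryTheory.Limits AlgebraicGeometry
open Variety

namespace Groth.Agent.S7625

/-- Let f : X → S be locally of finite type, x a point of X with image s, V an affine open neighbourhood
of s in S, and suppose dim_x(X_s) = d. Then there is an affine open neighbourhood U of x with f(U) ⊆
V and a factorisation of f|_U as U → 𝔸^d_V → V with U → 𝔸^d_V locally quasi-finite and locally of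
finite type (hence quasi-finite, U being affine). -/
theorem result {X S : Scheme.{u}} (f : X ⟶ S) [LocallyOfFiniteType f] (x : ↥X)
    (V : S.Opens) (hV : IsAffineOpen V) (hxV : f x ∈ V) (d : ℕ) (hd : FlatMor.fibreDimAt f x = d) :
    ∃ (U : X.Opens), IsAffineOpen U ∧ x ∈ U ∧
      ∃ (g : (U : Scheme.{u}) ⟶ (V : Scheme.{u})) (π : (U : Scheme.{u}) ⟶ 𝔸(ULift.{u} (Fin d); (V : Scheme.{u}))),
        g ≫ V.ι = U.ι ≫ f ∧ π ≫ (𝔸(ULift.{u} (Fin d); (V : Scheme.{u})) ↘ (V : Scheme.{u})) = g ∧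
          LocallyQuasiFinite π ∧ LocallyOfFiniteType π := by
  open _root_.Groth.Agent _root_.Groth.Agent.EGA43.CMChart _root_.Groth.Agent.EGA43.DimFormula FlatMorWeight in
  obtain ⟨n, U₀, hx, g₀, hg₀, hqf, hft, ξ, hξ, hξf, hn⟩ := exists_qf_toAffineSpace f x
  haveI := hqf
  haveI := hft
  have hnd : n = d := by
    have h1 := (_root_.Groth.Agent.FlatMorDim.fibreDimAt_le_iff f x d).1 hd.le ξ hξf hξ
    have h2 : FlatMor.fibreDimAt f x ≤ (n : WithBot ℕ∞) := by
      open _root_.Groth.Agent.EGA43.CMChart _root_.Groth.Agent.EGA43.DimFormula _root_.Groth.Agent.FlatMorWeight in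
      refine (_root_.Groth.Agent.FlatMorDim.fibreDimAt_le_iff f x n).2 fun x' _ hx' => ?_
      open _root_.Groth.Agent.EGA43.CMChart _root_.Groth.Agent.EGA43.DimFormula _root_.Groth.Agent.FlatMorWeight in
      let w : U₀ := ⟨x', hx'.mem_open U₀.isOpen hx⟩
      open _root_.Groth.Agent.EGA43.CMChart _root_.Groth.Agent.EGA43.DimFormula _root_.Groth.Agent.FlatMorWeight in
      have e := trdAt_comp_locallyQuasiFinite g₀ (𝔸(ULift.{u} (Fin n); S) ↘ S) w
      open _root_.Groth.Agent.EGA43.CMChart _root_.Groth.Agent.EGA43.DimFormula _root_.Groth.Agent.FlatMorWeight in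
      rw [trdAt_congr hg₀ w, trdAt_openι f U₀ w] at e
      open _root_.Groth.Agent.EGA43.CMChart _root_.Groth.Agent.EGA43.DimFormula _root_.Groth.Agent.FlatMorWeight in
      exact e.trans_le (trdAt_affineSpace_le n _)
    rw [hd] at h2
    exact le_antisymm (hn.trans h1) (by exact_mod_cast h2)
  subst hnd
  obtain ⟨U, hU, hxU, hUle⟩ := exists_isAffineOpen_mem_and_subset (x := x) (U := U₀ ⊓ f ⁻¹ᵁ V) ⟨hx, hxV⟩
  have h₀ : U ≤ U₀ := fun z hz => (hUle hz).1
  have h₁ : U ≤ f ⁻¹ᵁ V := fun z hz => (hUle hz).2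
  let g : (U : Scheme.{u}) ⟶ (V : Scheme.{u}) := X.homOfLE h₁ ≫ (f ∣_ V)
  have hg : g ≫ V.ι = U.ι ≫ f := by simp [g]
  let p : (U : Scheme.{u}) ⟶ 𝔸(ULift.{u} (Fin n); S) := X.homOfLE h₀ ≫ g₀
  have hp : p ≫ (𝔸(ULift.{u} (Fin n); S) ↘ S) = g ≫ V.ι := by
    rw [hg, Category.assoc, hg₀, Scheme.homOfLE_ι_assoc]
  have hsq := AffineSpace.isPullback_map (n := ULift.{u} (Fin n)) V.ι
  haveI : LocallyQuasiFinite p := inferInstanceAs (LocallyQuasiFinite (X.homOfLE h₀ ≫ g₀))
  haveI : LocallyOfFiniteType p := inferInstanceAs (LocallyOfFiniteType (X.homOfLE h₀ ≫ g₀))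
  refine ⟨U, hU, hxU, g, hsq.lift p g hp, hg, hsq.lift_snd _ _ _, ?_, ?_⟩
  · haveI : LocallyQuasiFinite (hsq.lift p g hp ≫ AffineSpace.map (ULift.{u} (Fin n)) V.ι) := by
      rw [hsq.lift_fst]; infer_instance
    exact LocallyQuasiFinite.of_comp (hsq.lift p g hp) (AffineSpace.map (ULift.{u} (Fin n)) V.ι)
  · haveI : LocallyOfFiniteType (hsq.lift p g hp ≫ AffineSpace.map (ULift.{u} (Fin n)) V.ι) := by
      rw [hsq.lift_fst]; infer_instance
    exact locallyOfFiniteType_of_comp (hsq.lift p g hp) (AffineSpace.map (ULift.{u} (Fin n)) V.ι)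

end Groth.Agent.S7625
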