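import Groth.Statements.S7626
import Groth.Agent.FlatMorVASection.Main
import Groth.Agent.RelVALib.OfPn
import Groth.Agent.PnEmb.Segre

set_option autoImplicit false
universe u
open CategoryTheory CategoryTheory.Limits AlgebraicGeometry
open Variety

namespace Groth.Agent.S7626

/-- Let k be an infinite field, X a scheme of finite type over k, L a very ample invertible O_X-module
on X over k, n ≥ 0, x a k-rational point of X and x_1, …, x_n points of X with x_i ≠ x. Then there
is a global section s of L which vanishes at x (x is not in the open where s generates L) but does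
not vanish at any x_i. -/
theorem result (k : Type u) [Field k] (X : Scheme.{u}) [X.Over (Spec (CommRingCat.of k))] [Infinite k]
    [LocallyOfFiniteType (X ↘ (Spec (CommRingCat.of k)))] [QuasiCompact (X ↘ (Spec (CommRingCat.of k)))]
    (L : X.Modules) (hL : RelAmple.IsRelVeryAmplePn (X ↘ (Spec (CommRingCat.of k))) L)
    (x : ↥X) (hx : Function.Surjective (Curv2.resMap k X x)) (n : ℕ) (pts : Fin n → ↥X) (hne : ∀ i, pts i ≠ x) :
    ∃ s : Coh.structureModule X ⟶ L, x ∉ CohB1.genLocus L s ∧ ∀ i, pts i ∈ CohB1.genLocus L s := by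
  have hL' : PicF.IsInvertible L := by
    obtain ⟨m, i, hi, hiq, ⟨e⟩⟩ := hL
    let pr₁ := pullback.fst (CohB1.ProjSpace.toSpec m (ULift.{u} ℤ)) (specULiftZIsTerminal.from (Spec (CommRingCat.of k)))
    have h1 : PicF.IsInvertible (Twist.twistProjSpace m (ULift.{u} ℤ) 1) :=
      Groth.Agent.PnEmb.isInvertible_twist_one (Groth.Agent.UPLib.adjoin_one_eq_top
        (Groth.Agent.UPLib.linForm_mem (R := ULift.{u} ℤ) m) (Groth.Agent.UPLib.isSymmetricAlgebra_linForm m))
    exact Groth.Agent.AmpleLib.glocus_isInvertible_of_iso e.symm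
      (PicLoc.isInvertible_pullback i (PicLoc.isInvertible_pullback pr₁ h1))
  obtain ⟨s, hxs, hs⟩ := Groth.Agent.FlatMorVASection.exists_section (X ↘ (Spec (CommRingCat.of k))) hL hL'
    (x := x) ⟨RingHom.injective _, hx⟩ pts hne
  exact ⟨Groth.Agent.Coherent.unitDesc L s, hxs, hs⟩

end Groth.Agent.S7626
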