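import Groth.Statements.S7629
import Groth.Agent.S10835

set_option autoImplicit false
universe u
open CategoryTheory CategoryTheory.Limits AlgebraicGeometry
open Variety
open Groth.Agent
set_option backward.isDefEq.respectTransparency.types false

namespace Groth.Agent.S7629

attribute [local instance] Curv2.stalkAlgebra

/-- An affine open model of an integral scheme of finite type over a field, inside its function field. -/
theorem affModel (k : Type u) [Field k] (X : Scheme.{u}) [X.Over (Spec (CommRingCat.of k))] [IsIntegral X]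
    [LocallyOfFiniteType (X ↘ Spec (CommRingCat.of k))] :
    ∃ (A : Type u) (_ : CommRing A) (_ : Algebra k A) (_ : Algebra.FiniteType k A)
      (i : A →ₐ[k] X.presheaf.stalk (genericPoint X)) (j : Spec (CommRingCat.of A) ⟶ X) (_ : IsOpenImmersion j),
      Function.Injective i ∧ (∀ z : X.presheaf.stalk (genericPoint X), ∃ a b : A, b ≠ 0 ∧ z * i b = i a) ∧
      j ≫ (X ↘ Spec (CommRingCat.of k)) = Spec.map (CommRingCat.ofHom (algebraMap k A)) := by
  let η := genericPoint X
  let q := X ↘ Spec (CommRingCat.of k)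
  obtain ⟨_, ⟨W, hW, rfl⟩, hηW, -⟩ :=
    X.isBasis_affineOpens.exists_subset_of_mem_open (Set.mem_univ η) isOpen_univ
  haveI : Nonempty W := ⟨⟨η, hηW⟩⟩
  let A := Γ(X, W)
  let K := X.functionField
  let φ : k →+* A := ((Scheme.ΓSpecIso (CommRingCat.of k)).inv ≫ q.appLE ⊤ W le_top).hom
  letI algkA : Algebra k A := φ.toAlgebra
  haveI hft : Algebra.FiniteType k A := by
    rw [← RingHom.finiteType_algebraMap]
    exact RingHom.finiteType_respectsIso.2 (q.appLE ⊤ W le_top).hom
      (Scheme.ΓSpecIso (CommRingCat.of k)).commRingCatIsoToRingEquiv.symm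
      (HasRingHomProperty.appLE @LocallyOfFiniteType q ‹_› ⟨⊤, isAffineOpen_top _⟩ ⟨W, hW⟩ le_top)
  haveI hfrac : IsFractionRing A K := functionField_isFractionRing_of_isAffineOpen X W hW
  have hφ : ∀ c : k, algebraMap A K (φ c) = algebraMap k K c := by
    have h : ((Scheme.ΓSpecIso (CommRingCat.of k)).inv ≫ q.appLE ⊤ W le_top) ≫ X.presheaf.germ W η hηW =
        (Scheme.ΓSpecIso (CommRingCat.of k)).inv ≫ q.appTop ≫ X.presheaf.germ ⊤ η trivial := by
      rw [Scheme.Hom.appLE, Category.assoc, Category.assoc, TopCat.Presheaf.germ_res]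
      rfl
    exact fun c => congrArg (fun m => m c) h
  haveI : IsScalarTower k A K := IsScalarTower.of_algebraMap_eq fun c => (hφ c).symm
  have e2 : hW.fromSpec ≫ q = Spec.map (CommRingCat.ofHom φ) := by
    rw [show CommRingCat.ofHom φ = (Scheme.ΓSpecIso (CommRingCat.of k)).inv ≫ q.appLE ⊤ W le_top from rfl,
      Spec.map_comp, ← IsAffineOpen.SpecMap_appLE_fromSpec q (isAffineOpen_top _) hW le_top,
      IsAffineOpen.fromSpec_top, Scheme.isoSpec_Spec_inv]
  exact ⟨A, inferInstance, algkA, hft, IsScalarTower.toAlgHom k A K, hW.fromSpec, inferInstance,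
    IsFractionRing.injective A K, fun z => by
      obtain ⟨⟨a, b⟩, h⟩ := IsLocalization.surj (nonZeroDivisors A) z
      exact ⟨a, b, nonZeroDivisors.ne_zero b.2, h⟩, e2⟩


/-- (2) ⇒ (3): let X and Y be varieties over a field k (integral, separated, of finite type) and suppose
the function fields k(X) and k(Y) are isomorphic as k-algebras. Then there are nonempty open
subschemes U ⊆ X and V ⊆ Y which are isomorphic as schemes over k. -/
theorem result (k : Type u) [Field k] (X : Scheme.{u}) [X.Over (Spec (CommRingCat.of k))] [IsIntegral X] [IsSeparated (X ↘ (Spec (CommRingCat.of k)))] [LocallyOfFiniteType (X ↘ (Spec (CommRingCat.of k)))] [QuasiCompact (X ↘ (Spec (CommRingCat.of k)))]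
    (Y : Scheme.{u}) [Y.Over (Spec (CommRingCat.of k))] [IsIntegral Y] [IsSeparated (Y ↘ (Spec (CommRingCat.of k)))] [LocallyOfFiniteType (Y ↘ (Spec (CommRingCat.of k)))] [QuasiCompact (Y ↘ (Spec (CommRingCat.of k)))]
    (e : X.functionField ≅ Y.functionField)
    (he : e.hom.hom.comp (Curv2.stalkMap k X (genericPoint X)) = Curv2.stalkMap k Y (genericPoint Y)) :
    ∃ (U : X.Opens) (V : Y.Opens), (U : Set ↥X).Nonempty ∧
      ∃ φ : (U : Scheme.{u}) ≅ (V : Scheme.{u}), φ.hom ≫ V.ι ≫ (Y ↘ (Spec (CommRingCat.of k))) = U.ι ≫ (X ↘ (Spec (CommRingCat.of k))) := by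
  obtain ⟨A, _, _, _, i, jX, _, hi, hAK, hjX⟩ := affModel k X
  obtain ⟨B, _, _, _, iB, jY, _, hiB, hBK, hjY⟩ := affModel k Y
  let ev : Y.presheaf.stalk (genericPoint Y) →ₐ[k] X.presheaf.stalk (genericPoint X) :=
    { toRingHom := e.inv.hom
      commutes' := fun c => by
        show e.inv.hom (Curv2.stalkMap k Y (genericPoint Y) c) = Curv2.stalkMap k X (genericPoint X) c
        rw [← he]
        exact e.commRingCatIsoToRingEquiv.symm_apply_apply _ }
  have hev : Function.Bijective ev := e.commRingCatIsoToRingEquiv.symm.bijective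
  obtain ⟨f, h, hf, hh, ⟨ε⟩⟩ := S10835.exists_away_equiv i (ev.comp iB) hi (hev.1.comp hiB) hAK (fun z => by
    obtain ⟨w, rfl⟩ := hev.2 z
    obtain ⟨a, b, hb, h⟩ := hBK w
    exact ⟨a, b, hb, by simp only [AlgHom.comp_apply, ← map_mul, h]⟩)
  let jA : Spec (CommRingCat.of (Localization.Away f)) ⟶ X :=
    Spec.map (CommRingCat.ofHom (algebraMap A (Localization.Away f))) ≫ jX
  let jC : Spec (CommRingCat.of (Localization.Away h)) ⟶ Y :=
    Spec.map (CommRingCat.ofHom (algebraMap B (Localization.Away h))) ≫ jY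
  haveI : IsOpenImmersion jA := inferInstance
  haveI : IsOpenImmersion jC := inferInstance
  let eS : Spec (CommRingCat.of (Localization.Away f)) ≅ Spec (CommRingCat.of (Localization.Away h)) :=
    Scheme.Spec.mapIso ε.symm.toRingEquiv.toCommRingCatIso.op
  let e' := jA.isoOpensRange.symm ≪≫ eS ≪≫ jC.isoOpensRange
  haveI : Nontrivial (Localization.Away f) := by
    haveI : IsDomain A := Function.Injective.isDomain i.toRingHom hi
    haveI : IsDomain (Localization.Away f) :=
      IsLocalization.isDomain_localization (powers_le_nonZeroDivisors_of_noZeroDivisors hf)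
    infer_instance
  refine ⟨jA.opensRange, jC.opensRange, ?_, e', ?_⟩
  · obtain ⟨P₀⟩ : Nonempty (Spec (CommRingCat.of (Localization.Away f))) := inferInstance
    exact ⟨jA P₀, ⟨P₀, rfl⟩⟩
  · rw [← cancel_epi jA.isoOpensRange.hom]
    simp only [e', Iso.trans_hom, Iso.symm_hom, Category.assoc, Iso.hom_inv_id_assoc]
    rw [Scheme.Hom.isoOpensRange_hom_ι_assoc, Scheme.Hom.isoOpensRange_hom_ι_assoc]
    simp only [jA, jC, Category.assoc, hjX, hjY]
    simp only [eS, Functor.mapIso_hom, Scheme.Spec_map, Iso.op_hom, Quiver.Hom.unop_op, ← Spec.map_comp]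
    congr 1
    ext c
    show ε.symm (algebraMap B (Localization.Away h) (algebraMap k B c)) = algebraMap A (Localization.Away f) (algebraMap k A c)
    rw [← IsScalarTower.algebraMap_apply k B (Localization.Away h), AlgEquiv.commutes]
    exact IsScalarTower.algebraMap_apply k A (Localization.Away f) c

end Groth.Agent.S7629
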