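import Groth.Statements.S7630
import Groth.Agent.AmpleDesc8.Projective
-- import your own Groth.Agent.* helpers here

set_option autoImplicit false
set_option backward.isDefEq.respectTransparency.types false
universe u
open CategoryTheory CategoryTheory.Limits AlgebraicGeometry
open Variety

namespace Groth.Agent.S7630

/-- Let X be a scheme over a field k and K an extension field of k. If X_K → Spec K is quasi-projective
(of finite type and admitting a relatively ample invertible module), then so is X → Spec k. -/
theorem result (k : Type u) [Field k] (X : Scheme.{u}) [X.Over (Spec (CommRingCat.of k))] (K : Type u) [Field K] [Algebra k K]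
    (h : RelProj.IsQuasiProjective (Curv2.bcSnd k X K)) : RelProj.IsQuasiProjective (X ↘ (Spec (CommRingCat.of k))) := by
  obtain ⟨h1, h2, L', hL'⟩ := h
  haveI := h1
  haveI := h2
  obtain ⟨hp, hq, L, hL⟩ := Groth.Agent.AmpleDesc8.descend_quasiProjective (X ↘ Spec (CommRingCat.of k)) K
    (Groth.Agent.FlatMor12.ProjectiveAmple.exists_isAmple_of_isRelAmple (Curv2.bcSnd k X K)
      Groth.Agent.AmpleDesc8.exists_ample_spec ⟨L', hL'⟩)
  exact ⟨hp, hq, Groth.Agent.FlatMor12.ProjectiveAmple.exists_isRelAmple_of_isAmple _ ⟨L, hL⟩⟩

end Groth.Agent.S7630
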