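import Groth.Statements.S7632
import Groth.Agent.FlatMor12.SmoothChain

set_option autoImplicit false
universe u
open CategoryTheory CategoryTheory.Limits AlgebraicGeometry
open Variety

namespace Groth.Agent.S7632

/-- Let X be a scheme of finite type over a field k. Then one can find a finite purely inseparable field
extension k'/k, some t ≥ 0, and a descending chain Z_0 ⊇ … ⊇ Z_t = ∅ of closed subschemes of X_{k'},
given by an increasing chain of quasi-coherent ideal sheaves I_0 ≤ … ≤ I_t = O on X_{k'}, such that
Z_0 = (X_{k'})_red (I_0 is the ideal of nilpotents) and the open subscheme Z_i ∖ Z_{i+1} of Z_i is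
smooth over k' for every i < t. -/
theorem result (k : Type u) [Field k] (X : Scheme.{u}) [X.Over (Spec (CommRingCat.of k))] [LocallyOfFiniteType (X ↘ (Spec (CommRingCat.of k)))] [QuasiCompact (X ↘ (Spec (CommRingCat.of k)))] :
    ∃ (k' : Type u) (_ : Field k') (_ : Algebra k k') (_ : FiniteDimensional k k') (_ : IsPurelyInseparable k k')
      (t : ℕ) (I : Fin (t + 1) → (Curv2.bc k X k').IdealSheafData),
      Monotone I ∧ I 0 = Scheme.IdealSheafData.vanishingIdeal ⊤ ∧ I (Fin.last t) = ⊤ ∧
        ∀ i : Fin t,
          Smooth (((I i.castSucc).subschemeι ⁻¹ᵁ (I i.succ).support.compl).ι ≫ (I i.castSucc).subschemeι ≫ Curv2.bcSnd k X k') := by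
  haveI : FiniteDimensional k k := inferInstance
  obtain ⟨k', _, _, _, _, -, h⟩ :=
    Groth.Agent.FlatMor12.SmoothChain.exists_chain (X ↘ Spec (CommRingCat.of k)) ⊤ k
  obtain ⟨t, F, hF, hF0, hFl, hs⟩ := h.exists_fin
  refine ⟨k', inferInstance, inferInstance, inferInstance, inferInstance, t,
    fun i => Scheme.IdealSheafData.vanishingIdeal (F i),
    fun i j hij => Scheme.IdealSheafData.vanishingIdeal_antimono (hF hij), ?_, ?_, fun i => ?_⟩
  · show Scheme.IdealSheafData.vanishingIdeal (F 0) = _
    rw [hF0]
    congr 1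
  · show Scheme.IdealSheafData.vanishingIdeal (F (Fin.last t)) = _
    rw [hFl, Scheme.IdealSheafData.vanishingIdeal_bot]
  · simpa only [Category.assoc] using hs i

end Groth.Agent.S7632
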