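import Groth.Statements.S7636
import Groth.Agent.VarietyLib.DegBasic
import Groth.Agent.EulerLib.FieldExt

set_option autoImplicit false
universe u
open CategoryTheory CategoryTheory.Limits AlgebraicGeometry
open Variety
open Groth.Agent

namespace Groth.Agent.S7636

/-- Let X be proper of dimension at most one over a field k, let k' be a field extension of k and let E
be a finite locally free module of rank n on X. Then the degree of the pullback of E to the base
change X_{k'}, computed over k', equals the degree of E over k. -/
theorem result (k : Type u) [Field k] (X : Scheme.{u}) [X.Over (Spec (CommRingCat.of k))] [IsProper (X ↘ (Spec (CommRingCat.of k)))]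
    (hdim : topologicalKrullDim X ≤ 1) (k' : Type u) [Field k'] [Algebra k k']
    (n : ℕ) (E : X.Modules) (hE : FlatMod.IsFinLocFreeOfRank n E) :
    @Curv2.deg k' _ (Curv2.bc k X k') ⟨Curv2.bcSnd k X k'⟩
        ((Scheme.Modules.pullback (Curv2.bcFst k X k')).obj E) n = Curv2.deg k X E n := by
  letI : (Curv2.bc k X k').Over (Spec (CommRingCat.of k')) := ⟨Curv2.bcSnd k X k'⟩
  haveI : IsNoetherian X := EulerLib.isNoetherian_of_proper (X := X) k
  have hEc : Coh.IsCoh E := Coherent.CohBC.isCoh_of_isFinLocFree (VarietyLib.isFinLocFree_of_rank hE)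
  obtain ⟨e⟩ := AmpleLib.exists_pullStructureIso (Curv2.bcFst k X k')
  have h1 := EulerLib.euler_bc k k' E hEc.1
  have h2 := EulerLib.euler_bc k k' (Coh.structureModule X) (Coherent.isCoh_structureModule X).1
  rw [EulerLib.euler_congr k' _ e] at h2
  simp only [Curv2.deg, h1, h2]

end Groth.Agent.S7636
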