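import Groth.Statements.S7639
import Groth.Agent.CurveRR24.AlgClosed
import Groth.Agent.AbSchLib.GlobalSections

set_option autoImplicit false
universe u
open CategoryTheory CategoryTheory.Limits AlgebraicGeometry
attribute [local instance] Curv2.resAlgebra
open Variety
open Groth.Agent Groth.Agent.Coherent Groth.Agent.CurveRR24

namespace Groth.Agent.S7639

/-- Let X be a proper scheme over a field k which is reduced and connected, and let κ = Γ(X, O_X). Then
κ is a field, finite over k, and w = [κ : k] divides (1) the degree of every finite locally free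
module of constant rank, (2) the degree [κ(x) : k] of every closed point x, and (3) the degree dim_k
H^0(X, O_D) of every closed subscheme D of dimension zero (or empty). (The published statement uses
the degree of E, which it defines only for X of dimension at most one; this row states (1) for the
integer χ(E) − n·χ(O_X) with no bound on the dimension of X.) -/
theorem result (k : Type u) [Field k] (X : Scheme.{u}) [X.Over (Spec (CommRingCat.of k))] [IsProper (X ↘ (Spec (CommRingCat.of k)))] [IsReduced X] [ConnectedSpace X] :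
    letI : Algebra k Γ(X, ⊤) := ((X ↘ (Spec (CommRingCat.of k))).appTop.hom.comp
      (Scheme.ΓSpecIso (CommRingCat.of k)).inv.hom).toAlgebra
    IsField Γ(X, ⊤) ∧ Module.Finite k Γ(X, ⊤) ∧
      (∀ (n : ℕ) (E : X.Modules), FlatMod.IsFinLocFreeOfRank n E →
        (Module.finrank k Γ(X, ⊤) : ℤ) ∣ Curv2.deg k X E n) ∧
      (∀ x : X, IsClosed ({x} : Set X) →
        Module.finrank k Γ(X, ⊤) ∣ Module.finrank k (X.residueField x)) ∧
      (∀ D : X.IdealSheafData, topologicalKrullDim D.subscheme ≤ 0 →
        Module.finrank k Γ(X, ⊤) ∣ Module.finrank k (Coh.HH X (ClSub.quotMod D) 0)) := by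
  letI : Algebra k Γ(X, ⊤) := ((X ↘ (Spec (CommRingCat.of k))).appTop.hom.comp
      (Scheme.ΓSpecIso (CommRingCat.of k)).inv.hom).toAlgebra
  haveI := isLocallyNoetherian_of_proper k (X := X)
  haveI := finite_HH_of_isCoh k (isCoh_structureModule X) 0
  haveI hfin' : Module.Finite k (GA (baseHom k X) (Coh.structureModule X)) :=
    Module.Finite.equiv (hhZero k (Coh.structureModule X))
  let e : GA (baseHom k X) (Coh.structureModule X) ≃ₗ[k] Γ(X, ⊤) :=
    { toFun := fun y => (show Γ(X, ⊤) from y)
      invFun := fun y => (show Γ(Coh.structureModule X, ⊤) from y)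
      map_add' := fun _ _ => rfl
      map_smul' := fun _ _ => rfl
      left_inv := fun _ => rfl
      right_inv := fun _ => rfl }
  haveI hfin : Module.Finite k Γ(X, ⊤) := Module.Finite.equiv e
  have hF : IsField Γ(X, ⊤) := AbSchLib.isField_of_isIntegral k
  refine ⟨hF, hfin, ?_⟩
  letI := hF.toField
  have hdvd : ∀ (M : X.Modules) (i : ℕ),
      Module.finrank k Γ(X, ⊤) ∣ Module.finrank k (Coh.HH X M i) := by
    intro M i
    letI : Module Γ(X, ⊤) (Coh.HH X M i) := Coh.moduleΓtop M i
    haveI : IsScalarTower k Γ(X, ⊤) (Coh.HH X M i) :=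
      IsScalarTower.of_algebraMap_smul fun c x => rfl
    exact ⟨_, (Module.finrank_mul_finrank k Γ(X, ⊤) (Coh.HH X M i)).symm⟩
  refine ⟨fun n E _ => ?_, fun x _ => ?_, fun D _ => hdvd _ 0⟩
  · have hχ : ∀ M : X.Modules, (Module.finrank k Γ(X, ⊤) : ℤ) ∣ Curv2.euler k X M := by
      intro M
      unfold Curv2.euler
      refine finsum_induction (fun z : ℤ => (Module.finrank k Γ(X, ⊤) : ℤ) ∣ z) (dvd_zero _)
        (fun _ _ ha hb => dvd_add ha hb) (fun i => (Int.natCast_dvd_natCast.2 (hdvd M i)).mul_left _)
    exact dvd_sub (hχ E) ((hχ _).mul_left _)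
  · letI : Algebra Γ(X, ⊤) (X.residueField x) :=
      ((X.residue x).hom.comp (X.presheaf.germ ⊤ x trivial).hom).toAlgebra
    haveI : IsScalarTower k Γ(X, ⊤) (X.residueField x) := IsScalarTower.of_algebraMap_eq fun c => rfl
    exact ⟨_, (Module.finrank_mul_finrank k Γ(X, ⊤) (X.residueField x)).symm⟩

end Groth.Agent.S7639
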