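import Groth.Statements.S7641
import Groth.Agent.CurveRR24.Section
import Groth.Agent.Surf15.Divisor
import Groth.Agent.AbCubeLib.RosatiPositive
import Mathlib.AlgebraicGeometry.Morphisms.Proper
import Groth.Agent.Props12.KerReduced
open Groth.Agent Groth.Agent.Coherent Groth.Agent.PicLib Groth.Agent.AmpleLib Groth.Agent.EulerLib Groth.Agent.CurveRR24 TopologicalSpace
set_option linter.style.haveILetI false
set_option backward.isDefEq.respectTransparency.types false

set_option autoImplicit false
universe u
open CategoryTheory CategoryTheory.Limits AlgebraicGeometry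
open Variety

set_option backward.isDefEq.respectTransparency.types false
set_option backward.isDefEq.respectTransparency false

namespace Groth.Agent.S7641


theorem notMem_glocus_zero {X : Scheme.{u}} {L : X.Modules} (hL : PicF.IsInvertible L) (z : X) :
    z ∉ glocus L (0 : Γ(L, ⊤)) := by
  intro hz
  obtain ⟨U, hzU, g, hg⟩ := exists_isGen hL z
  have h := (glocus_inf (0 : Γ(L, ⊤)) hg).le ⟨hz, hzU⟩
  rw [show hg.coef le_rfl (resM L le_top (0 : Γ(L, ⊤))) = 0 from hg.coef_eq le_rfl (by rw [zero_smul, map_zero]),
    Scheme.basicOpen_zero] at h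
  exact h

theorem eq_zero_of_glocus_eq_bot {X : Scheme.{u}} [IsReduced X] {L : X.Modules} (hL : PicF.IsInvertible L)
    (s : Γ(L, ⊤)) (h : glocus L s = ⊥) : s = 0 := by
  refine TopCat.Presheaf.section_ext (⟨L.presheaf, L.isSheaf⟩ : TopCat.Sheaf Ab X) ⊤ s 0 fun z _ => ?_
  obtain ⟨W, hzW, g, hg⟩ := exists_isGen hL z
  have hf0 : hg.coef le_rfl (resM L le_top s) = 0 :=
    (basicOpen_eq_bot_iff _).1 (by rw [← glocus_inf s hg, h, bot_inf_eq])
  have h0 : resM L (le_top : W ≤ ⊤) s = resM L (le_top : W ≤ ⊤) 0 := by
    rw [← hg.coef_spec le_rfl (resM L le_top s), hf0, zero_smul, map_zero]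
  let F : TopCat.Sheaf Ab X := ⟨L.presheaf, L.isSheaf⟩
  exact (TopCat.Presheaf.germ_res_apply F.presheaf (homOfLE (le_top (a := W))) z hzW s).symm.trans
    ((congrArg (F.presheaf.germ W z hzW) h0).trans
      (TopCat.Presheaf.germ_res_apply F.presheaf (homOfLE (le_top (a := W))) z hzW 0))

/-- A nonzero global function on an integral proper scheme has no zeros. -/
theorem glocus_structure_eq_top (k : Type u) [Field k] {Y : Scheme.{u}} [Y.Over (Spec (CommRingCat.of k))]
    [IsProper (Y ↘ Spec (CommRingCat.of k))] [IsIntegral Y] (t : Γ(Coh.structureModule Y, ⊤)) (ht : t ≠ 0) :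
    glocus (Coh.structureModule Y) t = ⊤ := by
  have hg := isGen_oneSec (X := Y) ⊤
  have h := glocus_inf t hg
  rw [inf_top_eq] at h
  rw [h]
  have hc : hg.coef le_rfl (resM _ le_top t) ≠ 0 := fun e => ht (by
    have h2 := hg.coef_spec le_rfl (resM _ le_top t)
    rw [e, zero_smul, resM_self] at h2
    exact h2.symm)
  obtain ⟨b, hb⟩ := (isField_of_universallyClosed k (Y ↘ Spec (CommRingCat.of k))).mul_inv_cancel hc
  exact Scheme.basicOpen_of_isUnit _ (IsUnit.of_mul_eq_one b hb)

/-- Let X be proper over a field k, reduced and connected, with every irreducible component of dimension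
one, and let L be an invertible module whose restriction to each irreducible component C, with its
reduced induced structure, has degree at most zero. Then H^0(X, L) = 0 or L is isomorphic to O_X. -/
theorem result (k : Type u) [Field k] (X : Scheme.{u}) [X.Over (Spec (CommRingCat.of k))] [IsProper (X ↘ (Spec (CommRingCat.of k)))]
    [IsReduced X] [ConnectedSpace X] [IsNoetherian X]
    (hdim : ∀ (C : Set X), C ∈ irreducibleComponents (X : Type u) → topologicalKrullDim C = 1)
    (L : X.Modules) (hL : PicF.IsInvertible L)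
    (hdeg : ∀ (C : Set X) (hC : C ∈ irreducibleComponents (X : Type u)), @Curv2.deg k _ (X.irreducibleComponentIdeal C hC).radical.subscheme ⟨(X.irreducibleComponentIdeal C hC).radical.subschemeι ≫ (X ↘ (Spec (CommRingCat.of k)))⟩ ((Scheme.Modules.pullback (X.irreducibleComponentIdeal C hC).radical.subschemeι).obj L) 1 ≤ 0) :
    Subsingleton (Coh.HH X L 0) ∨ Nonempty (L ≅ Coh.structureModule X) := by
  classical
  by_cases h0 : Subsingleton (Coh.HH X L 0)
  · exact Or.inl h0
  right
  rw [not_subsingleton_iff_nontrivial] at h0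
  obtain ⟨s, hs⟩ := exists_ne_zero_of_nontrivial k h0
  suffices htop : glocus L s = ⊤ by
    haveI := AbCubeLib.isIso_of_glocus_eq_top (unitDesc L s) (by rw [unitVal_unitDesc, resM_self]; exact htop)
    exact ⟨(asIso (unitDesc L s)).symm⟩
  let G := glocus L s
  have hcomp : ∀ (C : Set X) (hC : C ∈ irreducibleComponents (X : Type u)) (x : X), x ∈ C → x ∈ G → C ⊆ (G : Set X) := by
    intro C hC x hxC hxG
    let I := (X.irreducibleComponentIdeal C hC).radical
    let i := I.subschemeι
    have hI : I = Scheme.IdealSheafData.vanishingIdeal ⟨C, isClosed_of_mem_irreducibleComponents C hC⟩ := by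
      show (X.irreducibleComponentIdeal C hC).radical = _
      rw [← Scheme.IdealSheafData.vanishingIdeal_support]
      rfl
    have hsupp : (I.support : Set X) = C := by
      rw [hI]; exact Scheme.IdealSheafData.coe_support_vanishingIdeal _
    have hrange : Set.range i = C := (I.range_subschemeι).trans hsupp
    haveI : IsReduced I.subscheme := by rw [hI]; exact Props12.isReduced_subscheme_vanishingIdeal _
    haveI : IrreducibleSpace I.subscheme := by
      have hirr : IsIrreducible (Set.range i) := by rw [hrange]; exact hC.1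
      haveI : IrreducibleSpace (Set.range i) := Subtype.irreducibleSpace hirr
      let h := i.isClosedEmbedding.isEmbedding.toHomeomorph.symm
      rw [irreducibleSpace_def, Set.top_eq_univ, ← Set.range_eq_univ.2 h.surjective, ← Set.image_univ]
      exact ((irreducibleSpace_def _).1 inferInstance).image h h.continuous.continuousOn
    haveI : IsIntegral I.subscheme := isIntegral_of_irreducibleSpace_of_isReduced _
    letI : I.subscheme.Over (Spec (CommRingCat.of k)) := ⟨i ≫ (X ↘ Spec (CommRingCat.of k))⟩
    haveI : IsProper (I.subscheme ↘ Spec (CommRingCat.of k)) :=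
      inferInstanceAs (IsProper (i ≫ (X ↘ Spec (CommRingCat.of k))))
    have hY : topologicalKrullDim I.subscheme ≤ 1 := by
      rw [i.isClosedEmbedding.isEmbedding.toHomeomorph.isHomeomorph.topologicalKrullDim_eq, hrange, hdim C hC]
    have hL' : PicF.IsInvertible ((Scheme.Modules.pullback i).obj L) := PicLoc.isInvertible_pullback i hL
    let s' := pullSec i s
    have hgl : glocus _ s' = i ⁻¹ᵁ G := glocus_pullSec i hL s
    obtain ⟨z, hz⟩ : x ∈ Set.range i := hrange.symm ▸ hxC
    have hz' : z ∈ glocus _ s' := hgl ▸ (show i z ∈ G from hz ▸ hxG)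
    have hs' : s' ≠ 0 := fun e => notMem_glocus_zero hL' z (e ▸ hz')
    have hnt : Nontrivial (Coh.HH I.subscheme ((Scheme.Modules.pullback i).obj L) 0) :=
      Surf15.nontrivial_h0 k hs'
    obtain ⟨hd0, hiso, -⟩ := deg_nonneg_of_section k hY hL' hnt
    obtain ⟨e⟩ := hiso (le_antisymm (hdeg C hC) hd0)
    have hu : glocus _ s' = ⊤ := by
      rw [← glocus_map_iso e]
      refine glocus_structure_eq_top k _ fun h => hs' ?_
      have := congrArg (e.inv.app ⊤) h
      rw [map_zero] at this
      rw [← this]
      exact (ConcreteCategory.congr_hom (congrArg (fun φ => φ.app ⊤) e.hom_inv_id) s').symm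
    intro y hy
    obtain ⟨w, rfl⟩ := hrange.symm ▸ hy
    exact (hgl.symm.trans hu).ge (Opens.mem_top w)
  have hclosed : IsClosed (G : Set X) := by
    have : (G : Set X) = ⋃₀ {C ∈ irreducibleComponents (X : Type u) | (C ∩ (G : Set X)).Nonempty} := by
      ext x
      refine ⟨fun hx => ⟨irreducibleComponent x, ⟨irreducibleComponent_mem_irreducibleComponents x, x, mem_irreducibleComponent, hx⟩, mem_irreducibleComponent⟩, ?_⟩
      rintro ⟨C, ⟨hC, y, hyC, hyG⟩, hxC⟩
      exact hcomp C hC y hyC hyG hxC
    rw [this]
    rw [Set.sUnion_eq_biUnion]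
    exact (NoetherianSpace.finite_irreducibleComponents.subset fun C hC => hC.1).isClosed_biUnion
      fun C hC => isClosed_of_mem_irreducibleComponents C hC.1
  rcases isClopen_iff.1 ⟨hclosed, G.2⟩ with h | h
  · exact absurd (eq_zero_of_glocus_eq_bot hL s (Opens.ext h)) hs
  · exact Opens.ext h

end Groth.Agent.S7641
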