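import Groth.Statements.S7647
import Groth.Agent.VarietyLib.InterCoeff
import Groth.Agent.EulerLib.NumEquivDeg
import Groth.Agent.CurveRR24.Sky

set_option autoImplicit false
universe u
open CategoryTheory CategoryTheory.Limits AlgebraicGeometry
open Variety
open Groth.Agent

namespace Groth.Agent.S7647

/-- Let X be proper over a field k, Z ⊆ X a closed subscheme of dimension ≤ 1 and L an invertible
module. Then the intersection number (L · Z), i.e. the coefficient of n in the polynomial computing
χ(X, O_Z ⊗ L^{⊗n}), equals the degree of L|_Z on Z. -/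
theorem result (k : Type u) [Field k] (X : Scheme.{u}) [X.Over (Spec (CommRingCat.of k))] [IsProper (X ↘ (Spec (CommRingCat.of k)))]
    (D : X.IdealSheafData) (hD : topologicalKrullDim (D.support : Set X) ≤ 1)
    (L : X.Modules) (hL : PicF.IsInvertible L) (P : MvPolynomial (Fin 1) ℚ)
    (hP : ∀ n : Fin 1 → ℕ, (Curv2.euler k X (Curv2.tensorPows (ClSub.quotMod D) 1 (fun _ => L) n) : ℚ) = MvPolynomial.eval (fun i => (n i : ℚ)) P) :
    MvPolynomial.coeff (Finsupp.equivFunOnFinite.symm fun _ : Fin 1 => 1) P =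
      (@Curv2.deg k _ D.subscheme ⟨D.subschemeι ≫ (X ↘ (Spec (CommRingCat.of k)))⟩
        ((Scheme.Modules.pullback D.subschemeι).obj L) 1 : ℚ) := by
  haveI : IsNoetherian X := EulerLib.isNoetherian_of_proper (X := X) k
  letI : D.subscheme.Over (Spec (CommRingCat.of k)) := ⟨D.subschemeι ≫ (X ↘ Spec (CommRingCat.of k))⟩
  haveI : IsProper (D.subscheme ↘ Spec (CommRingCat.of k)) :=
    inferInstanceAs (IsProper (D.subschemeι ≫ (X ↘ Spec (CommRingCat.of k))))
  have hc : Coh.IsCoh (ClSub.quotMod D) := CurveRR24.isCoh_quotMod D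
  have hs : topologicalKrullDim (CohB1.support (ClSub.quotMod D)) ≤ ((1 : ℕ) : WithBot ℕ∞) :=
    (EulerLib.dim_mono (CurveRR24.support_quotMod_subset D)).trans hD
  rw [VarietyLib.coeff_eq_interDeg k hc hs (fun _ => L) (fun _ => hL) P hP,
    show (fun _ : Fin 1 => EulerLib.InvCl.mk L hL) = Fin.cons (EulerLib.InvCl.mk L hL) (fun i => i.elim0) from
      funext fun i => by fin_cases i; rfl,
    EulerLib.interDeg_cons, EulerLib.interDeg_zero, mul_one]
  have h1 := EulerLib.chiCl_push_mk k D.subschemeι rfl hL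
  have h2 := EulerLib.chiCl_push_one k (X := X) D.subschemeι rfl
  have e : ClSub.quotMod D = (Coh.push D.subschemeι).obj (Coh.structureModule D.subscheme) := rfl
  rw [e, h1, h2]
  simp only [Curv2.deg, Nat.cast_one, one_mul]

end Groth.Agent.S7647
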