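import Groth.Statements.S7648
import Groth.Agent.VarietyLib.DivisorCut
import Groth.Agent.VarietyLib.InterCoeff

set_option autoImplicit false
universe u
open CategoryTheory CategoryTheory.Limits AlgebraicGeometry
open Variety
open Groth.Agent

namespace Groth.Agent.S7648

/-- Let X be proper over a field k of dimension e + 1, let D ⊆ X be an effective Cartier divisor and let
L_0, L_1, …, L_e be invertible modules with L_0 ≅ O_X(D), i.e. L_0 ⊗ I_D ≅ O_X. Then (L_0 ⋯ L_e · X)
= (L_1 ⋯ L_e · D): the coefficient of n_0⋯n_e in the polynomial computing χ(X, ⊗_j L_j^{⊗n_j})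
equals the coefficient of n_1⋯n_e in the polynomial computing χ(X, O_D ⊗ L_1^{⊗n_1} ⊗ ⋯ ⊗
L_e^{⊗n_e}). (The published statement has a closed subscheme Z ⊆ X of dimension d with D ⊆ Z and
L_1|_Z ≅ O_Z(D); this row is its case Z = X.) -/
theorem result (k : Type u) [Field k] (X : Scheme.{u}) [X.Over (Spec (CommRingCat.of k))] [IsProper (X ↘ (Spec (CommRingCat.of k)))]
    (e : ℕ) (hX : topologicalKrullDim X = e + 1) (D : X.IdealSheafData) (hD : FGA.IsEffCartier D)
    (L : Fin (e + 1) → X.Modules) (hL : ∀ j, PicF.IsInvertible (L j))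
    (hLD : ClSub.IsInverseOf (L 0) (ClSub.idealMod D))
    (P : MvPolynomial (Fin (e + 1)) ℚ) (Q : MvPolynomial (Fin e) ℚ)
    (hP : ∀ n : Fin (e + 1) → ℕ, (Curv2.euler k X (Curv2.tensorPows (Coh.structureModule X) (e + 1) L n) : ℚ) = MvPolynomial.eval (fun i => (n i : ℚ)) P)
    (hQ : ∀ n : Fin e → ℕ, (Curv2.euler k X (Curv2.tensorPows (ClSub.quotMod D) e (fun j => L j.succ) n) : ℚ) = MvPolynomial.eval (fun i => (n i : ℚ)) Q) :
    MvPolynomial.coeff (Finsupp.equivFunOnFinite.symm fun _ : Fin (e + 1) => 1) P = MvPolynomial.coeff (Finsupp.equivFunOnFinite.symm fun _ : Fin e => 1) Q := by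
  haveI := EulerLib.isNoetherian_of_proper (X := X) k
  have hX' : topologicalKrullDim X ≤ ((e + 1 : ℕ) : WithBot ℕ∞) := le_of_eq (by rw [hX, Nat.cast_succ])
  have hO : topologicalKrullDim (CohB1.support (Coh.structureModule X)) ≤ ((e + 1 : ℕ) : WithBot ℕ∞) :=
    ((EulerLib.dim_mono (Set.subset_univ _)).trans
      (IsHomeomorph.topologicalKrullDim_eq _ (Homeomorph.Set.univ X).isHomeomorph).le).trans hX'
  have hQd : topologicalKrullDim (CohB1.support (ClSub.quotMod D)) ≤ (e : WithBot ℕ∞) :=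
    (EulerLib.dim_mono (CurveRR24.support_quotMod_subset D)).trans (VarietyLib.dim_support_le_of_effCartier k hX' hD)
  rw [VarietyLib.coeff_eq_interDeg k (Coherent.isCoh_structureModule X) hO L hL P hP,
    VarietyLib.coeff_eq_interDeg k (CurveRR24.isCoh_quotMod D) hQd (fun j => L j.succ) (fun j => hL j.succ) Q hQ]
  rw [← Fin.cons_self_tail (fun i => EulerLib.InvCl.mk (L i) (hL i)), EulerLib.interDeg_cons]
  rw [show (fun x => EulerLib.chiCl k (Coh.structureModule X) (EulerLib.InvCl.mk (L 0) (hL 0) * x) -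
      EulerLib.chiCl k (Coh.structureModule X) x) =
      fun x => EulerLib.chiCl k (ClSub.quotMod D) (EulerLib.InvCl.mk (L 0) (hL 0) * x) from
    funext fun x => VarietyLib.chiCl_effCartier_diff k (hL 0) hLD x]
  rw [VarietyLib.interDeg_translate (EulerLib.clDeg_chiCl k (CurveRR24.isCoh_quotMod D) hQd)]
  rfl

end Groth.Agent.S7648
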