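import Groth.Statements.S7649
import Groth.Agent.S1530
import Groth.Agent.VarietyLib.InterCoeff
import Groth.Agent.EulerLib.HilbPoly
import Groth.Agent.Coherent.Serre.Vanishing
import Groth.Agent.EulerLib.Additive

set_option autoImplicit false
universe u
open CategoryTheory CategoryTheory.Limits AlgebraicGeometry
open Variety
open Groth.Agent

namespace Groth.Agent.S7649

theorem poly_bound (Q : Polynomial ℚ) (d : ℕ) (hQ : Q.natDegree ≤ d) :
    ∃ C : ℚ, 0 ≤ C ∧ ∀ n : ℕ, |Q.eval (n : ℚ) - Q.coeff d * (n : ℚ) ^ d| ≤ C * ((n : ℚ) + 1) ^ (d - 1) := by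
  refine ⟨∑ i ∈ Finset.range d, |Q.coeff i|, Finset.sum_nonneg fun i _ => abs_nonneg _, fun n => ?_⟩
  rw [Polynomial.eval_eq_sum_range' (Nat.lt_succ_of_le hQ), Finset.sum_range_succ, add_sub_cancel_right,
    Finset.sum_mul]
  refine (Finset.abs_sum_le_sum_abs _ _).trans (Finset.sum_le_sum fun i hi => ?_)
  rw [abs_mul, abs_pow, Nat.abs_cast]
  refine mul_le_mul_of_nonneg_left ?_ (abs_nonneg _)
  refine (pow_le_pow_left₀ (Nat.cast_nonneg n) (by linarith) i).trans (pow_le_pow_right₀ ?_ ?_)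
  · linarith [(Nat.cast_nonneg n : (0 : ℚ) ≤ (n : ℚ))]
  · have := Finset.mem_range.1 hi; omega


/-- Let X be proper over a field k of dimension d and L an ample invertible module. With deg_L(X) the
coefficient of n_1⋯n_d in the polynomial computing χ(X, L^{⊗n_1} ⊗ ⋯ ⊗ L^{⊗n_d}) and c =
deg_L(X)/d!, the constant c is positive and dim_k Γ(X, L^{⊗n}) = c·n^d + lower order terms; here the
lower-order bound is written as |dim_k H^0(X, L^{⊗n}) − c·n^d| ≤ C·(n+1)^{d−1} for a constant C and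
all n ≥ 0. -/
theorem result (k : Type u) [Field k] (X : Scheme.{u}) [X.Over (Spec (CommRingCat.of k))] [IsProper (X ↘ (Spec (CommRingCat.of k)))]
    (d : ℕ) (hX : topologicalKrullDim X = d) (L : X.Modules) (hL : CohB1.IsAmple L)
    (P : MvPolynomial (Fin d) ℚ)
    (hP : ∀ n : Fin d → ℕ, (Curv2.euler k X (Curv2.tensorPows (Coh.structureModule X) d (fun _ => L) n) : ℚ) = MvPolynomial.eval (fun i => (n i : ℚ)) P) :
    0 < MvPolynomial.coeff (Finsupp.equivFunOnFinite.symm fun _ : Fin d => 1) P ∧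
      ∃ C : ℚ, ∀ n : ℕ,
        |(Module.finrank k (Coh.HH X (CohB1.tensorPow L n) 0) : ℚ) -
            MvPolynomial.coeff (Finsupp.equivFunOnFinite.symm fun _ : Fin d => 1) P / (d.factorial : ℚ) * (n : ℚ) ^ d| ≤
          C * ((n : ℚ) + 1) ^ (d - 1) := by
  haveI : IsNoetherian X := EulerLib.isNoetherian_of_proper (X := X) k
  have hO : Coh.IsCoh (Coh.structureModule X) := Coherent.isCoh_structureModule X
  have hs : topologicalKrullDim (CohB1.support (Coh.structureModule X)) = (d : ℕ) := by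
    rw [S1530.support_structureModule_eq X, (Homeomorph.Set.univ (X : Type u)).isHomeomorph.topologicalKrullDim_eq, hX]
  have hc := VarietyLib.coeff_eq_interDeg k hO hs.le (fun _ => L) (fun _ => hL.1) P hP
  have hpos := EulerLib.interDeg_pos k d (fun _ => L) (fun _ => hL) (Coh.structureModule X) hO hs
  obtain ⟨Q, hQ⟩ := EulerLib.exists_isHilbPoly k hL.1 hO hs.le
  obtain ⟨hQd, hQa⟩ := EulerLib.alpha_eq_interDeg k hL.1 hO hQ hs.le
  rw [← hc] at hQa
  refine ⟨by rw [hc]; exact_mod_cast hpos, ?_⟩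
  obtain ⟨N, hN⟩ := Coherent.Serre.exists_subsingleton_HH_twist k hL (Coh.structureModule X) hO
  obtain ⟨C, hC0, hC⟩ := poly_bound Q d hQd
  have hcd : MvPolynomial.coeff (Finsupp.equivFunOnFinite.symm fun _ : Fin d => 1) P / (d.factorial : ℚ) =
      Q.coeff d := by
    rw [← hQa, StabCat.alpha, mul_comm, mul_div_assoc, div_self (by exact_mod_cast d.factorial_ne_zero),
      mul_one]
  rw [hcd]
  have hbig : ∀ n, N ≤ n → (Module.finrank k (Coh.HH X (CohB1.tensorPow L n) 0) : ℚ) = Q.eval (n : ℚ) := by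
    intro n hn
    rw [← hQ n]
    have e : ShStab.twist X L (Coh.structureModule X) n ≅ CohB1.tensorPow L n := AmpleLib.unitTensorIso _
    rw [EulerLib.euler_congr k X e, EulerLib.euler_eq_sum k X _ 0 fun q hq =>
      Coherent.Serre.HH_subsingleton_of_iso k (AmpleLib.unitTensorIso (X := X) _) q (hN n hn q hq)]
    simp
  let f := fun n : ℕ => |(Module.finrank k (Coh.HH X (CohB1.tensorPow L n) 0) : ℚ) - Q.coeff d * (n : ℚ) ^ d|
  refine ⟨C + ∑ n ∈ Finset.range N, f n, fun n => ?_⟩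
  show f n ≤ _
  have hs0 : 0 ≤ ∑ n ∈ Finset.range N, f n := Finset.sum_nonneg fun i _ => abs_nonneg _
  have h1 : (1 : ℚ) ≤ ((n : ℚ) + 1) ^ (d - 1) :=
    one_le_pow₀ (by linarith [(Nat.cast_nonneg n : (0 : ℚ) ≤ (n : ℚ))])
  rcases lt_or_ge n N with hn | hn
  · refine (Finset.single_le_sum (fun i _ => abs_nonneg _) (Finset.mem_range.2 hn)).trans ?_
    exact (le_add_of_nonneg_left hC0).trans (le_mul_of_one_le_right (add_nonneg hC0 hs0) h1)
  · refine le_trans ?_ (mul_le_mul_of_nonneg_right (le_add_of_nonneg_right hs0) (le_trans zero_le_one h1))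
    simp only [f]
    rw [hbig n hn]
    exact hC n

end Groth.Agent.S7649
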