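import Groth.Statements.S7650
import Groth.Agent.VarietyLib.InterCoeff
import Groth.Agent.VarietyLib.MultFormula
import Groth.Agent.VarietyLib.PullClass
import Groth.Agent.EulerLib.NumEquivDeg

set_option autoImplicit false
universe u
open CategoryTheory CategoryTheory.Limits AlgebraicGeometry
open Variety
open Groth.Agent

namespace Groth.Agent.S7650

/-- Let X be proper over a field k, F a coherent module with dim Supp(F) = d and L_1, …, L_r invertible
modules. The Euler characteristic of F twisted by L_1^{⊗n_1} ⊗ ⋯ ⊗ L_r^{⊗n_r}, minus the sum over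
the d-dimensional irreducible components Z of Supp(F) of the length of F at the generic point of Z
times the Euler characteristic on Z of the restricted twist, agrees with a rational polynomial in
the exponents each of whose monomials has total degree less than d. Here the sum is written over all
points ξ of X whose closure has dimension d (the term vanishes unless ξ is the generic point of a
d-dimensional component of Supp(F)), and Z_ξ carries its reduced induced structure. (The published
statement lets the exponents range over all integers; this row takes them in ℕ.) -/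
theorem result (k : Type u) [Field k] (X : Scheme.{u}) [X.Over (Spec (CommRingCat.of k))] [IsProper (X ↘ (Spec (CommRingCat.of k)))]
    (F : X.Modules) (hF : Coh.IsCoh F) (d : ℕ) (hd : topologicalKrullDim (CohB1.support F) = d)
    (r : ℕ) (L : Fin r → X.Modules) (hL : ∀ i, PicF.IsInvertible (L i)) :
    ∃ P : MvPolynomial (Fin r) ℚ, (∀ m ∈ P.support, (m.sum fun _ e => e) < d) ∧
      ∀ n : Fin r → ℕ,
        (Curv2.euler k X (Curv2.tensorPows F r L n) : ℚ) -
          ∑ᶠ ξ : X, (if topologicalKrullDim (closure ({ξ} : Set X)) = (d : WithBot ℕ∞) then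
            ((Module.length (X.presheaf.stalk ξ) (F.presheaf.stalk ξ)).toNat : ℚ) *
              (@Curv2.euler k _
                (Scheme.IdealSheafData.vanishingIdeal (⟨closure ({ξ} : Set X), isClosed_closure⟩ : TopologicalSpace.Closeds X)).subscheme
                ⟨(Scheme.IdealSheafData.vanishingIdeal (⟨closure ({ξ} : Set X), isClosed_closure⟩ : TopologicalSpace.Closeds X)).subschemeι ≫ (X ↘ (Spec (CommRingCat.of k)))⟩
                (Curv2.tensorPows
                  (Coh.structureModule (Scheme.IdealSheafData.vanishingIdeal (⟨closure ({ξ} : Set X), isClosed_closure⟩ : TopologicalSpace.Closeds X)).subscheme)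
                  r (fun i => (Scheme.Modules.pullback
                    (Scheme.IdealSheafData.vanishingIdeal (⟨closure ({ξ} : Set X), isClosed_closure⟩ : TopologicalSpace.Closeds X)).subschemeι).obj (L i)) n) : ℚ)
            else 0)
          = MvPolynomial.eval (fun i => (n i : ℚ)) P := by
  classical
  haveI : IsNoetherian X := EulerLib.isNoetherian_of_proper (X := X) k
  have hT : IsClosed (CohB1.support F) := Coherent.isClosed_support F (Coherent.locallyFinGen_of_isFT F hF.2)
  let S := (VarietyLib.finite_top_points hT hd.le).toFinset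
  let H := VarietyLib.clDegSubgroup X d
  have key := VarietyLib.eq_sum_mult (ψ := fun M => QuotientAddGroup.mk' H (EulerLib.chiCl k M)) (d := d)
    (fun {M N} e => by rw [EulerLib.chiCl_congr k e])
    (fun T hT h₁ h₂ h₃ => by rw [EulerLib.chiCl_additive k T hT h₁ h₂ h₃, map_add])
    (fun M hM hlt => (QuotientAddGroup.eq_zero_iff _).2 (EulerLib.finDeg_chiCl k hM hlt))
    hF hd.le S (fun ξ hξ h => (Set.Finite.mem_toFinset _).2 ⟨hξ, h⟩)
    (fun ξ hξ => ((Set.Finite.mem_toFinset _).1 hξ).2)
  simp only [← map_nsmul, ← map_sum] at key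
  have hdeg : EulerLib.ClDeg d
      (EulerLib.chiCl k F - ∑ ξ ∈ S, VarietyLib.mult F ξ • EulerLib.chiCl k (AssSch12.clM ξ)) := by
    have := (QuotientAddGroup.eq_iff_sub_mem (N := H)).1 key
    exact this
  let c := fun i => EulerLib.InvCl.mk (L i) (hL i)
  obtain ⟨P, hPd, hP⟩ : ∃ P : MvPolynomial (Fin r) ℚ, (∀ m ∈ P.support, (m.sum fun _ e => e) < d) ∧
      ∀ m : Fin r → ℕ, ((EulerLib.chiCl k F - ∑ ξ ∈ S, VarietyLib.mult F ξ • EulerLib.chiCl k (AssSch12.clM ξ))
        (∏ i, c i ^ m i) : ℚ) = MvPolynomial.eval (fun i => (m i : ℚ)) P := by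
    rcases Nat.eq_zero_or_pos d with hd0 | hd0
    · subst hd0
      refine ⟨0, by simp, fun m => ?_⟩
      rw [show (EulerLib.chiCl k F - ∑ ξ ∈ S, VarietyLib.mult F ξ • EulerLib.chiCl k (AssSch12.clM ξ)) = 0 from
        funext fun x => congrFun hdeg (Additive.ofMul x)]
      simp
    · obtain ⟨e, rfl⟩ : ∃ e, d = e + 1 := ⟨d - 1, by omega⟩
      obtain ⟨P, hPt, hP⟩ := EulerLib.exists_poly_classes _ hdeg c
      exact ⟨P, fun m hm => Nat.lt_succ_of_le ((MvPolynomial.le_totalDegree hm).trans hPt), hP⟩
  refine ⟨P, hPd, fun n => ?_⟩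
  rw [← hP n]
  obtain ⟨N, hN, hcl, ⟨eN⟩⟩ := EulerLib.exists_tensorPows_rep F r L hL n
  have hFn : Curv2.euler k X (Curv2.tensorPows F r L n) = EulerLib.chiCl k F (∏ i, c i ^ n i) := by
    rw [EulerLib.euler_congr k X eN, ← EulerLib.chiCl_mk k F hN, hcl]
  rw [finsum_eq_sum_of_support_subset _ (s := S) ?_, hFn]
  · simp only [Pi.sub_apply, Finset.sum_apply, Pi.smul_apply]
    push_cast
    congr 1
    refine Finset.sum_congr rfl fun ξ hξ => ?_
    have hξd := ((Set.Finite.mem_toFinset _).1 hξ).2
    rw [if_pos hξd, nsmul_eq_mul]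
    congr 1
    let Z : X.IdealSheafData := Scheme.IdealSheafData.vanishingIdeal
      (⟨closure ({ξ} : Set X), isClosed_closure⟩ : TopologicalSpace.Closeds X)
    letI : Z.subscheme.Over (Spec (CommRingCat.of k)) := ⟨Z.subschemeι ≫ (X ↘ Spec (CommRingCat.of k))⟩
    haveI : IsProper (Z.subscheme ↘ Spec (CommRingCat.of k)) :=
      inferInstanceAs (IsProper (Z.subschemeι ≫ (X ↘ Spec (CommRingCat.of k))))
    let L' := fun i => (Scheme.Modules.pullback Z.subschemeι).obj (L i)
    have hL' : ∀ i, PicF.IsInvertible (L' i) := fun i => PicLoc.isInvertible_pullback _ (hL i)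
    obtain ⟨N', hN', hcl', ⟨eN'⟩⟩ := EulerLib.exists_tensorPows_rep (Coh.structureModule Z.subscheme) r L' hL' n
    obtain ⟨N₁, hN₁, hcl₁⟩ := EulerLib.InvCl.exists_rep (∏ i, c i ^ n i)
    have e3 : EulerLib.InvCl.mk N' hN' = VarietyLib.pullHom Z.subschemeι (EulerLib.InvCl.mk N₁ hN₁) := by
      rw [hcl', hcl₁, map_prod]
      simp only [map_pow]
      rfl
    rw [← hcl₁]
    have h1 : EulerLib.chiCl k (AssSch12.clM ξ) (EulerLib.InvCl.mk N₁ hN₁) =
        Curv2.euler k Z.subscheme ((Scheme.Modules.pullback Z.subschemeι).obj N₁) :=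
      EulerLib.chiCl_push_mk k Z.subschemeι rfl hN₁
    rw [h1, VarietyLib.pullHom_mk] at *
    have h2 : Curv2.euler k Z.subscheme (Curv2.tensorPows (Coh.structureModule Z.subscheme) r L' n) =
        Curv2.euler k Z.subscheme ((Scheme.Modules.pullback Z.subschemeι).obj N₁) := by
      obtain ⟨e⟩ := Quotient.exact e3
      exact EulerLib.euler_congr k Z.subscheme (eN' ≪≫ AmpleLib.unitTensorIso N' ≪≫ e)
    exact_mod_cast congrArg (HMul.hMul ((VarietyLib.mult F ξ : ℕ) : ℤ)) h2
  · intro ξ hξ
    rw [Function.mem_support] at hξ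
    by_contra hS
    refine hξ ?_
    split_ifs with h
    · have : ξ ∉ CohB1.support F := fun hm => hS ((Set.Finite.mem_toFinset _).2 ⟨hm, h⟩)
      have h0 := VarietyLib.mult_eq_zero this
      rw [VarietyLib.mult] at h0
      rw [h0]; simp
    · rfl

end Groth.Agent.S7650
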