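import Groth.Statements.S7653
import Mathlib

set_option autoImplicit false
universe u
open CategoryTheory CategoryTheory.Limits AlgebraicGeometry
open Variety

namespace Groth.Agent.S7653

/-- For a reduced local Nagata ring A of Krull dimension one, the δ-invariant of A is zero exactly when
A is a DVR (in particular a domain). -/
theorem result (A : Type u) [CommRing A] [IsLocalRing A]
    [IsReduced A] (hN : CAlg.IsNagata A) (hdim : ringKrullDim A = 1) :
    Curv2.deltaInv A = 0 ↔ ∃ _ : IsDomain A, IsDiscreteValuationRing A := by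
  classical
  haveI : IsNoetherianRing A := hN.1
  have hzero : Curv2.deltaInv A = 0 ↔
      ∀ z : FractionRing A, IsIntegral A z → ∃ a, algebraMap A (FractionRing A) a = z := by
    rw [Curv2.deltaInv, Module.length_eq_zero_iff, Submodule.Quotient.subsingleton_iff, Submodule.eq_top_iff']
    exact ⟨fun h z hz => by obtain ⟨a, ha⟩ := h ⟨z, hz⟩; exact ⟨a, congrArg Subtype.val ha⟩,
      fun h x => by obtain ⟨a, ha⟩ := h x.1 x.2; exact ⟨a, Subtype.ext ha⟩⟩
  rw [hzero]
  constructor
  · intro h
    have hdom : IsDomain A := by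
      obtain ⟨P, hP, -⟩ := Ideal.exists_minimalPrimes_le (I := (⊥ : Ideal A)) (J := IsLocalRing.maximalIdeal A) bot_le
      by_cases h1 : ∀ Q ∈ minimalPrimes A, Q = P
      · have hb : P = ⊥ := by
          refine le_bot_iff.1 (le_trans ?_ (nilradical_eq_zero A).le)
          intro a ha
          rw [nilradical_eq_sInf, Ideal.mem_sInf]
          intro J hJ
          haveI : J.IsPrime := hJ
          obtain ⟨Q, hQ, hQJ⟩ := Ideal.exists_minimalPrimes_le (I := ⊥) (J := J) bot_le
          exact hQJ (h1 Q hQ ▸ ha)
        haveI : (⊥ : Ideal A).IsPrime := hb ▸ hP.1.1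
        exact IsDomain.of_bot_isPrime A
      · exfalso
        let T := ((minimalPrimes.finite_of_isNoetherianRing A).toFinset).erase P
        have hT : ∀ Q, Q ∈ T ↔ Q ≠ P ∧ Q ∈ minimalPrimes A := fun Q => by simp [T]
        have hno : ∀ Q ∈ T, ¬ P ≤ Q := fun Q hQ hle =>
          ((hT Q).1 hQ).1 (le_antisymm (((hT Q).1 hQ).2.2 ⟨hP.1.1, bot_le⟩ hle) hle)
        obtain ⟨a, haP, ha⟩ : ∃ a ∈ P, ∀ Q ∈ T, a ∉ Q := by
          by_contra hc
          push_neg at hc
          have hsub : (P : Set A) ⊆ ⋃ Q ∈ (T : Set (Ideal A)), (Q : Set A) := fun a ha => by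
            obtain ⟨Q, hQ, haQ⟩ := hc a ha
            exact Set.mem_biUnion hQ haQ
          obtain ⟨Q, hQ, hle⟩ := (Ideal.subset_union_prime (f := id) ⊥ ⊥
            (fun Q hQ _ _ => ((hT Q).1 hQ).2.1.1)).1 hsub
          exact hno Q hQ hle
        obtain ⟨b, hbQ, hbP⟩ : ∃ b ∈ T.inf id, b ∉ P := by
          by_contra hc
          push_neg at hc
          haveI := hP.1.1
          obtain ⟨Q, hQ, hle⟩ := (Ideal.IsPrime.inf_le' (s := T) (f := id) hP.1.1).1 hc
          exact ((hT Q).1 hQ).1 (le_antisymm hle (hP.2 ⟨((hT Q).1 hQ).2.1.1, bot_le⟩ hle))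
        have hmin0 : ∀ x : A, (∀ Q ∈ minimalPrimes A, x ∈ Q) → x = 0 := fun x hx => by
          have : x ∈ nilradical A := by
            rw [nilradical_eq_sInf, Ideal.mem_sInf]
            intro J hJ
            haveI : J.IsPrime := hJ
            obtain ⟨Q, hQ, hQJ⟩ := Ideal.exists_minimalPrimes_le (I := ⊥) (J := J) bot_le
            exact hQJ (hx Q hQ)
          rwa [nilradical_eq_zero, Ideal.zero_eq_bot, Ideal.mem_bot] at this
        have hbT : ∀ Q ∈ T, b ∈ Q := fun Q hQ => (Finset.inf_le hQ : T.inf id ≤ id Q) hbQ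
        have hab : a * b = 0 := hmin0 _ fun Q hQ => by
          by_cases e : Q = P
          · exact e ▸ Ideal.mul_mem_right b P haP
          · exact Ideal.mul_mem_left Q a (hbT Q ((hT Q).2 ⟨e, hQ⟩))
        have hs : a + b ∈ nonZeroDivisors A := by
          refine mem_nonZeroDivisors_iff_right.2 fun x hx => hmin0 x fun Q hQ => ?_
          haveI := hQ.1.1
          refine (Ideal.IsPrime.mem_or_mem inferInstance (hx.symm ▸ Q.zero_mem : x * (a + b) ∈ Q)).resolve_right ?_
          intro hQab
          by_cases e : Q = P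
          · subst e; exact hbP ((Ideal.add_mem_iff_right _ haP).1 hQab)
          · have := (hT Q).2 ⟨e, hQ⟩
            exact ha Q this ((Ideal.add_mem_iff_left _ (hbT Q this)).1 hQab)
        let F := algebraMap A (FractionRing A)
        let z := IsLocalization.mk' (FractionRing A) a (⟨a + b, hs⟩ : nonZeroDivisors A)
        have hz : z * z = z := by
          rw [← (IsLocalization.map_units (FractionRing A) (⟨a + b, hs⟩ : nonZeroDivisors A)).mul_left_inj]
          rw [mul_assoc, IsLocalization.mk'_spec]
          rw [← (IsLocalization.map_units (FractionRing A) (⟨a + b, hs⟩ : nonZeroDivisors A)).mul_left_inj,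
            mul_comm z, mul_assoc, IsLocalization.mk'_spec, ← map_mul, ← map_mul]
          congr 1
          show a * a = a * (a + b)
          rw [mul_add, hab, add_zero]
        have hint : IsIntegral A z := ⟨Polynomial.X ^ 2 - Polynomial.X, Polynomial.monic_X_pow_sub (by simp), by
          simp [sq, hz]⟩
        obtain ⟨c, hc⟩ := h z hint
        have hinj := IsFractionRing.injective A (FractionRing A)
        have hcc : c * (1 - c) = 0 := hinj (by rw [map_mul, map_sub, map_one, map_zero, hc, mul_sub, mul_one, hz, sub_self])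
        have hspec : F c * F (a + b) = F a := by
          rw [show F c = z from hc]; exact IsLocalization.mk'_spec _ _ _
        rw [← map_mul] at hspec
        have hspec' : c * (a + b) = a := hinj hspec
        rcases IsLocalRing.isUnit_or_isUnit_one_sub_self c with hu | hu
        · have : c = 1 := (sub_eq_zero.1 ((hu.mul_right_eq_zero).1 hcc)).symm
          rw [this, one_mul, add_eq_left] at hspec'
          exact hbP (hspec' ▸ P.zero_mem)
        · have : c = 0 := (hu.mul_left_eq_zero).1 hcc
          rw [this, zero_mul] at hspec'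
          obtain ⟨Q, hQ, hQP⟩ : ∃ Q ∈ minimalPrimes A, Q ≠ P := by push_neg at h1; exact h1
          exact ha Q ((hT Q).2 ⟨hQP, hQ⟩) (hspec' ▸ Q.zero_mem)
    refine ⟨hdom, ?_⟩
    haveI : IsIntegrallyClosed A := (isIntegrallyClosed_iff (FractionRing A)).2 fun {z} hz => h z hz
    have hnf : ¬ IsField A := fun hf => by
      rw [ringKrullDim_eq_zero_of_isField hf] at hdim; exact zero_ne_one hdim
    haveI : Ring.KrullDimLE 1 A := Ring.krullDimLE_iff.2 hdim.le
    haveI : Ring.DimensionLEOne A := ⟨fun {p} hp0 hp => by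
      exact (Ring.krullDimLE_one_iff_of_isPrime_bot (R := A)).1 ‹_› p hp0 hp⟩
    have hd : IsDedekindDomain A := { }
    exact ((IsDiscreteValuationRing.TFAE A hnf).out 0 2).2 hd
  · rintro ⟨hdom, hdvr⟩ z hz
    exact IsIntegrallyClosed.isIntegral_iff.1 hz

end Groth.Agent.S7653
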