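import Groth.Statements.S7658
import Groth.Agent.VarietyLib.AffineNhd

set_option autoImplicit false
set_option backward.isDefEq.respectTransparency.types false
universe u
open CategoryTheory CategoryTheory.Limits AlgebraicGeometry
open Variety Groth.Agent Groth.Agent.VarietyLib

namespace Groth.Agent.S7658

/-- A separated morphism of schemes f : X → Y such that X has an open covering on whose members f
restricts to open immersions, and such that no two distinct generic points of irreducible components
of X have the same image under f, is an open immersion. -/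
theorem result {X Y : Scheme.{u}}
    (f : X ⟶ Y) [IsSeparated f]
    (hloc : ∀ x : X, ∃ U : X.Opens, x ∈ U ∧ IsOpenImmersion (U.ι ≫ f))
    (hinj : ∀ ξ ξ' : X, closure ({ξ} : Set X) ∈ irreducibleComponents (X : Type u) → closure ({ξ'} : Set X) ∈ irreducibleComponents (X : Type u) →
      f.base ξ = f.base ξ' → ξ = ξ') :
    IsOpenImmersion f := by
  have hst : ∀ x : X, IsIso (f.stalkMap x) := by
    intro x
    obtain ⟨U, hxU, hU⟩ := hloc x
    have h1 : IsIso ((U.ι ≫ f).stalkMap ⟨x, hxU⟩) := inferInstance
    rw [Scheme.Hom.stalkMap_comp] at h1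
    exact @IsIso.of_isIso_comp_right _ _ _ _ _ (f.stalkMap _) (U.ι.stalkMap (⟨x, hxU⟩ : U.toScheme)) (inferInstanceAs (IsIso (U.ι.stalkMap (⟨x, hxU⟩ : U.toScheme)))) h1
  have hopen : IsOpenMap f.base := by
    intro O hO
    rw [isOpen_iff_forall_mem_open]
    rintro _ ⟨x, hx, rfl⟩
    obtain ⟨U, hxU, hU⟩ := hloc x
    refine ⟨(U.ι ≫ f) '' (U.ι ⁻¹' O), ?_, (U.ι ≫ f).isOpenEmbedding.isOpenMap _ (hO.preimage U.ι.continuous), ⟨x, hxU⟩, hx, rfl⟩
    rintro _ ⟨u, hu, rfl⟩
    exact ⟨U.ι u, hu, rfl⟩
  exact IsOpenImmersion.of_isIso_stalkMap f (Topology.IsOpenEmbedding.of_continuous_injective_isOpenMap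
    f.continuous (fun a b h => eq_of_isIso_stalkMap f hinj (hst a) (hst b) h) hopen)

end Groth.Agent.S7658
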