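import Groth.Statements.S7659
import Groth.Agent.Misc15.GenericPoints
import Groth.Agent.Misc15.SpreadIso

set_option autoImplicit false
set_option backward.isDefEq.respectTransparency.types false
universe u
open CategoryTheory CategoryTheory.Limits AlgebraicGeometry
open Variety Groth.Agent Groth.Agent.Misc15

namespace Groth.Agent.S7659

/-- Let f : X → S be a morphism of schemes and x a point with image s such that O_{S,s} → O_{X,x} is an
isomorphism, S is reduced with finitely many irreducible components, and f is locally of finite
type. Then f restricted to some open neighbourhood of x is an open immersion. (The published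
statement assumes f of finite type; this row assumes only that f is locally of finite type.) -/
theorem result {X S : Scheme.{u}} (f : X ⟶ S)
    [LocallyOfFiniteType f] [IsReduced S] (hS : (irreducibleComponents (S : Type u)).Finite)
    (x : X) (hx : IsIso (f.stalkMap x)) :
    ∃ U : X.Opens, x ∈ U ∧ IsOpenImmersion (U.ι ≫ f) := by
  have := hx
  have hg : S.IsGermInjectiveAt (f x) := isGermInjectiveAt_of_finite hS _
  have h2 := spread_out_of_isGermInjective' (X := S) (Y := X) (x := f x) (𝟙 S) f
    (Spec.map (inv (f.stalkMap x)) ≫ X.fromSpecStalk x) (by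
      rw [Category.assoc, ← Scheme.SpecMap_stalkMap_fromSpecStalk, ← Spec.map_comp_assoc, IsIso.hom_inv_id,
        Spec.map_id, Category.id_comp, Category.comp_id])
  obtain ⟨U, hxU, V, g, hg', -, hgι⟩ := spread_out_isIso_of_exists f (𝟙 S) (x := x) (y := f x) rfl (f.stalkMap x)
    ⟨⊤, trivial, (⊤ : X.Opens).ι ≫ f, by
      rw [← Category.assoc, Scheme.Opens.fromSpecStalkOfMem_ι, Scheme.SpecMap_stalkMap_fromSpecStalk],
      by rw [Category.assoc, Category.comp_id]⟩
    h2
  refine ⟨U, hxU, ?_⟩
  rw [Category.comp_id] at hgι
  rw [← hgι]
  infer_instance

end Groth.Agent.S7659
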