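import Groth.Statements.S7687
import Groth.Agent.VarietyLib.DimOneGlue

set_option autoImplicit false
universe u
open CategoryTheory CategoryTheory.Limits AlgebraicGeometry
open Variety

namespace Groth.Agent.S7687


/-- Let K be a field and A, B ⊆ K Noetherian semi-local domains of dimension one with fraction field K
such that A ⊗ B → K is surjective, and R = A ∩ B. Then Spec A and Spec B each map to Spec R by an
open immersion, Spec R is the union of the two images, and the natural map A ⊗_R B → K is an
isomorphism. -/
theorem result (K : Type u) [Field K]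
    (A : Subring K) [IsFractionRing A K] (B : Subring K) [IsFractionRing B K] [IsNoetherianRing A] [IsNoetherianRing B]
    (hdimA : ringKrullDim A = 1) (hdimB : ringKrullDim B = 1)
    (hslA : Finite (MaximalSpectrum A)) (hslB : Finite (MaximalSpectrum B)) (hgen : A ⊔ B = ⊤) :
    IsOpenImmersion (Spec.map (CommRingCat.ofHom (Subring.inclusion (inf_le_left : A ⊓ B ≤ A)))) ∧
      IsOpenImmersion (Spec.map (CommRingCat.ofHom (Subring.inclusion (inf_le_right : A ⊓ B ≤ B)))) ∧
      Set.range (Spec.map (CommRingCat.ofHom (Subring.inclusion (inf_le_left : A ⊓ B ≤ A)))).base ∪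
        Set.range (Spec.map (CommRingCat.ofHom (Subring.inclusion (inf_le_right : A ⊓ B ≤ B)))).base = Set.univ ∧
      IsPushout (CommRingCat.ofHom (Subring.inclusion (inf_le_left : A ⊓ B ≤ A)))
        (CommRingCat.ofHom (Subring.inclusion (inf_le_right : A ⊓ B ≤ B)))
        (CommRingCat.ofHom A.subtype) (CommRingCat.ofHom B.subtype) := by
  let S : Bool → Subring K := fun b => cond b A B
  have : ∀ b, IsNoetherianRing (S b) := fun b => by cases b <;> simp only [S, cond] <;> infer_instance
  have : ∀ b, IsFractionRing (S b) K := fun b => by cases b <;> simp only [S, cond] <;> infer_instance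
  have hdim : ∀ b, ringKrullDim (S b) = 1 := fun b => by cases b <;> assumption
  have hsl : ∀ b, Finite (MaximalSpectrum (S b)) := fun b => by cases b <;> assumption
  obtain ⟨g⟩ := Groth.Agent.VarietyLib.DimOne.exists_glueData (K := K) Bool S hdim hsl fun i j hij => by
    cases i <;> cases j <;> first | exact absurd rfl hij | exact hgen | (rw [sup_comm]; exact hgen)
  have hle : ∀ b, A ⊓ B ≤ S b := fun b => by cases b <;> simp [S]
  have hmem : ∀ z : K, (∀ b, z ∈ S b) → z ∈ A ⊓ B := fun z h => ⟨h true, h false⟩
  refine ⟨(g.openImmersion hle hmem hdim true).1, (g.openImmersion hle hmem hdim false).1, ?_, ?_⟩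
  · have h := g.range_union hle hmem hdim
    refine Set.eq_univ_of_forall fun p => ?_
    obtain ⟨b, hb⟩ := Set.mem_iUnion.1 (h.ge (Set.mem_univ p))
    cases b
    exacts [Or.inr hb, Or.inl hb]
  · letI := (Subring.inclusion (inf_le_left : A ⊓ B ≤ A)).toAlgebra
    let t : ↥(A ⊓ B) := ⟨g.t true, g.t_mem hmem true⟩
    have := Groth.Agent.VarietyLib.DimOne.isLocalizationAway_of_exists_pow (A ⊓ B) A inf_le_left t
      (g.unit true) (g.exists_pow hle hmem hdim true)
    have hJ := g.jac true false (by decide)
    have ht0 : g.t true ≠ 0 := fun h0 => (g.unit true).ne_zero (Subtype.ext h0)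
    have hB : IsLocalization.Away (Subring.inclusion (inf_le_right : A ⊓ B ≤ B) t) K := by
      refine IsLocalization.Away.mk _ (isUnit_iff_ne_zero.2 ht0) (fun z => ?_)
        fun a b hab => ⟨0, by simpa using Subtype.ext hab⟩
      obtain ⟨N, hN⟩ := Groth.Agent.VarietyLib.DimOne.exists_pow_mem B hdimB
        (Groth.Agent.VarietyLib.DimOne.inJac_of_mem_jacobson B hdimB _ hJ) z
      exact ⟨N, ⟨_, hN N le_rfl⟩, mul_comm _ _⟩
    have : IsLocalization ((Submonoid.powers t).map (Subring.inclusion (inf_le_right : A ⊓ B ≤ B))) K := by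
      rw [Submonoid.map_powers]; exact hB
    exact (CommRingCat.isPushout_of_isLocalization (R := ↥(A ⊓ B)) (S := B) (Rₘ := A) (Sₘ := K)
      (Subring.inclusion inf_le_right) A.subtype rfl (Submonoid.powers t)).flip

end Groth.Agent.S7687
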