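import Groth.Statements.S7664
import Groth.Agent.VarietyLib.DimOneGlue
import Groth.Agent.S7687

set_option autoImplicit false
universe u
open CategoryTheory CategoryTheory.Limits AlgebraicGeometry
open Variety

namespace Groth.Agent.S7664

/-- Let K be a field, A ⊆ K a Noetherian semi-local domain of dimension one and B ⊆ K a discrete
valuation ring, both with fraction field K, and R = A ∩ B. (a) If some unit of A does not lie in R,
then Spec A and Spec B each map to Spec R by an open immersion, Spec R is the union of the two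
images, and the natural map A ⊗_R B → K is an isomorphism. (b) If every unit of A lies in R, then B
dominates the local ring of A at one of its maximal ideals (A ⊆ B and the maximal ideal of B
contracts to a maximal ideal of A) and A ⊗ B → K is not surjective. -/
theorem result (K : Type u) [Field K]
    (A : Subring K) [IsFractionRing A K] [IsNoetherianRing A] (hdim : ringKrullDim A = 1) (hsl : Finite (MaximalSpectrum A))
    (B : ValuationSubring K) [IsDiscreteValuationRing B] :
    ((∃ u : A, IsUnit u ∧ (u : K) ∉ B) →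
      IsOpenImmersion (Spec.map (CommRingCat.ofHom (Subring.inclusion (inf_le_left : A ⊓ B.toSubring ≤ A)))) ∧
      IsOpenImmersion (Spec.map (CommRingCat.ofHom (Subring.inclusion (inf_le_right : A ⊓ B.toSubring ≤ B.toSubring)))) ∧
      Set.range (Spec.map (CommRingCat.ofHom (Subring.inclusion (inf_le_left : A ⊓ B.toSubring ≤ A)))).base ∪
        Set.range (Spec.map (CommRingCat.ofHom (Subring.inclusion (inf_le_right : A ⊓ B.toSubring ≤ B.toSubring)))).base = Set.univ ∧
      IsPushout (CommRingCat.ofHom (Subring.inclusion (inf_le_left : A ⊓ B.toSubring ≤ A)))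
        (CommRingCat.ofHom (Subring.inclusion (inf_le_right : A ⊓ B.toSubring ≤ B.toSubring)))
        (CommRingCat.ofHom A.subtype) (CommRingCat.ofHom B.toSubring.subtype)) ∧
    ((∀ u : A, IsUnit u → (u : K) ∈ B) →
      (∃ h : A ≤ B.toSubring,
        (Ideal.comap (Subring.inclusion h) (IsLocalRing.maximalIdeal B)).IsMaximal) ∧ A ⊔ B.toSubring ≠ ⊤) := by
  have hBd : ringKrullDim B.toSubring = 1 :=
    IsPrincipalIdealRing.ringKrullDim_eq_one B (IsDiscreteValuationRing.not_isField B)
  have : IsNoetherianRing B.toSubring := (inferInstance : IsNoetherianRing B)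
  have : IsFractionRing B.toSubring K := (inferInstance : IsFractionRing B K)
  have hBsl : Finite (MaximalSpectrum B.toSubring) := by
    have : Subsingleton (MaximalSpectrum B) := ⟨fun P Q => MaximalSpectrum.ext
      ((IsLocalRing.eq_maximalIdeal P.isMaximal).trans (IsLocalRing.eq_maximalIdeal Q.isMaximal).symm)⟩
    exact (inferInstance : Finite (MaximalSpectrum B))
  have htop : ∀ z ∈ A, z ∉ B → A ⊔ B.toSubring = ⊤ := by
    intro z hzA hzB
    have hJ : Groth.Agent.VarietyLib.DimOne.InJac B.toSubring z⁻¹ := by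
      obtain ⟨hi, hm⟩ := ValuationSubring.mem_nonunits_iff_exists_mem_maximalIdeal.1
        ((ValuationSubring.inv_mem_nonunits_iff B).2 (Or.inr hzB))
      exact Groth.Agent.VarietyLib.DimOne.inJac_of_mem_jacobson B.toSubring hBd ⟨z⁻¹, hi⟩
        (IsLocalRing.maximalIdeal_le_jacobson (R := B) ⊥ hm)
    have hz0 : z ≠ 0 := fun h => hzB (h ▸ B.zero_mem)
    refine eq_top_iff.2 fun w _ => ?_
    obtain ⟨N, hN⟩ := Groth.Agent.VarietyLib.DimOne.exists_pow_mem B.toSubring hBd hJ w
    have : w = z ^ N * (z⁻¹ ^ N * w) := by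
      rw [← mul_assoc, ← mul_pow, mul_inv_cancel₀ hz0, one_pow, one_mul]
    rw [this]
    exact Subring.mul_mem _ (Subring.pow_mem _ ((le_sup_left : A ≤ _) hzA) N)
      ((le_sup_right : B.toSubring ≤ _) (hN N le_rfl))
  refine ⟨fun ⟨u, _, hu⟩ => Groth.Agent.S7687.result K A B.toSubring hdim hBd hsl hBsl
    (htop u u.2 hu), fun hall => ?_⟩
  have hAB : A ≤ B.toSubring := by
    intro z hz
    by_contra hzB
    obtain ⟨t, ⟨htA, htu⟩, htB⟩ := Groth.Agent.VarietyLib.DimOne.exists_unit_jacobson A hdim hsl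
      (fun _ : Unit => B.toSubring) (fun _ => hBd) (fun _ => hBsl) (fun _ => htop z hz hzB)
    obtain ⟨htBm, htJ⟩ := htB ()
    obtain ⟨v, hv⟩ := isUnit_iff_exists_inv.1 htu
    have hvB : (v : K) ∈ B := hall v (isUnit_iff_exists_inv.2 ⟨⟨t, htA⟩, by rw [mul_comm]; exact hv⟩)
    have hvK : t * (v : K) = 1 := congrArg Subtype.val hv
    have hu : IsUnit (⟨t, htBm⟩ : B.toSubring) :=
      isUnit_iff_exists_inv.2 ⟨⟨v, hvB⟩, Subtype.ext hvK⟩
    exact (IsLocalRing.maximalIdeal.isMaximal B).ne_top (Ideal.eq_top_of_isUnit_mem _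
      (Ideal.mem_sInf.1 htJ ⟨bot_le, IsLocalRing.maximalIdeal.isMaximal B⟩) hu)
  have hBt : B ≠ ⊤ := fun h => IsDiscreteValuationRing.not_isField B
    ⟨⟨0, 1, zero_ne_one⟩, mul_comm, fun {a} ha =>
      ⟨⟨(a : K)⁻¹, (SetLike.ext_iff.1 h _).2 (ValuationSubring.mem_top _)⟩,
        Subtype.ext (mul_inv_cancel₀ fun h => ha (Subtype.ext h))⟩⟩
  refine ⟨⟨hAB, ?_⟩, fun h => hBt (ValuationSubring.toSubring_injective
    (top_le_iff.1 (h ▸ sup_le hAB le_rfl)))⟩
  obtain ⟨b, hb0, hb⟩ := Groth.Agent.VarietyLib.DimOne.exists_nonzero_center A B hAB hBt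
  obtain ⟨hbB, hbm⟩ := ValuationSubring.mem_nonunits_iff_exists_mem_maximalIdeal.1 hb
  have := Groth.Agent.VarietyLib.DimOne.dimLEOne A hdim
  refine Ring.DimensionLEOne.maximalOfPrime (fun h => hb0 ?_) (Ideal.comap_isPrime _ _)
  have hbP : b ∈ Ideal.comap (Subring.inclusion hAB) (IsLocalRing.maximalIdeal B) := hbm
  rw [h, Submodule.mem_bot] at hbP
  exact hbP

end Groth.Agent.S7664
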