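import Groth.Statements.S7665
import Groth.Agent.VarietyLib.DimOneGlue

set_option autoImplicit false
universe u
open CategoryTheory CategoryTheory.Limits AlgebraicGeometry
open Variety

namespace Groth.Agent.S7665

/-- Let K be a field and A_1, …, A_r ⊆ K (r ≥ 1) Noetherian semi-local rings of dimension one with
fraction field K, and assume A_i and A_j generate K as a ring whenever i ≠ j. Then A = A_1 ∩ … ∩ A_r
is a Noetherian semi-local domain of dimension one with fraction field K contained in every A_i,
each Spec A_i → Spec A is an open immersion, Spec A is the union of their images, and every closed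
point of Spec A belongs to the image of exactly one Spec A_i. (The published statement asserts only
that some such subring A exists; this row takes A to be the intersection A_1 ∩ … ∩ A_r.) -/
theorem result (K : Type u) [Field K] (r : ℕ) (hr : 1 ≤ r)
    (A : Fin r → Subring K) [∀ i, IsNoetherianRing (A i)] [∀ i, IsFractionRing (A i) K]
    (hdim : ∀ i, ringKrullDim (A i) = 1) (hsl : ∀ i, Finite (MaximalSpectrum (A i)))
    (hgen : ∀ i j, i ≠ j → A i ⊔ A j = ⊤) :
    IsNoetherianRing ↥(⨅ i, A i) ∧ ringKrullDim ↥(⨅ i, A i) = 1 ∧ Finite (MaximalSpectrum ↥(⨅ i, A i)) ∧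
      IsFractionRing ↥(⨅ i, A i) K ∧
      (∀ i, IsOpenImmersion (Spec.map (CommRingCat.ofHom (Subring.inclusion (iInf_le A i))))) ∧
      (⋃ i, Set.range (Spec.map (CommRingCat.ofHom (Subring.inclusion (iInf_le A i)))).base) = Set.univ ∧
      (∀ m : PrimeSpectrum ↥(⨅ i, A i), m.asIdeal.IsMaximal →
        ∃! i, m ∈ Set.range (Spec.map (CommRingCat.ofHom (Subring.inclusion (iInf_le A i)))).base) := by
  have hle : ∀ i, (⨅ i, A i) ≤ A i := iInf_le A
  have hmem : ∀ z : K, (∀ i, z ∈ A i) → z ∈ ⨅ i, A i := fun z h => Subring.mem_iInf.2 h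
  have : Nonempty (Fin r) := ⟨⟨0, hr⟩⟩
  obtain ⟨g⟩ := Groth.Agent.VarietyLib.DimOne.exists_glueData (Fin r) A hdim hsl hgen
  refine ⟨g.isNoetherianRing hle hmem hdim, g.ringKrullDim_eq hle hmem hdim,
    g.finite_maximalSpectrum hle hmem hdim hsl, g.isFractionRing hle hmem hdim,
    fun i => (g.openImmersion hle hmem hdim i).1, g.range_union hle hmem hdim, fun m hm => ?_⟩
  obtain ⟨i, hi⟩ := Set.mem_iUnion.1 ((g.range_union hle hmem hdim).ge (Set.mem_univ m))
  refine ⟨i, hi, fun j hj => ?_⟩
  by_contra hne
  replace hj : m ∈ Set.range (Spec.map (CommRingCat.ofHom (Subring.inclusion (hle j)))).base := hj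
  rw [(g.openImmersion hle hmem hdim j).2] at hj
  rw [(g.openImmersion hle hmem hdim i).2] at hi
  exact hi (g.mem_closed_point hle hmem hdim m hm j i hne hj)

end Groth.Agent.S7665
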