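import Groth.Statements.S7666

set_option autoImplicit false
universe u
open CategoryTheory CategoryTheory.Limits AlgebraicGeometry
open Variety

namespace Groth.Agent.S7666

/-- Let A be a one-dimensional Noetherian local ring and L = ∏ A_p, the product over the minimal primes
of A. If a_1, a_2 ∈ m_A have the same image in L, then a_1 and a_2 have equal n-th powers for some
positive integer n. -/
theorem result (A : Type u) [CommRing A]
    [IsLocalRing A] [IsNoetherianRing A] (hdim : ringKrullDim A = 1)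
    (a₁ a₂ : A) (h₁ : a₁ ∈ IsLocalRing.maximalIdeal A) (h₂ : a₂ ∈ IsLocalRing.maximalIdeal A)
    (heq : ∀ p : {p : PrimeSpectrum A // p.asIdeal ∈ minimalPrimes A},
      algebraMap A (Localization.AtPrime p.1.asIdeal) a₁ = algebraMap A (Localization.AtPrime p.1.asIdeal) a₂) :
    ∃ n : ℕ, 0 < n ∧ a₁ ^ n = a₂ ^ n := by
  classical
  have hzero : ∀ p : {p : PrimeSpectrum A // p.asIdeal ∈ minimalPrimes A},
      ∃ c : A, c ∉ p.1.asIdeal ∧ c * a₁ = c * a₂ := fun p => by
    obtain ⟨c, hc⟩ := (IsLocalization.eq_iff_exists p.1.asIdeal.primeCompl _).1 (heq p)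
    exact ⟨c, c.2, hc⟩
  choose c hc hce using hzero
  let J : Ideal A := Submodule.colon (⊥ : Submodule A A) {a₁ - a₂}
  have hrad : IsLocalRing.maximalIdeal A ≤ J.radical := by
    rw [Ideal.radical_eq_sInf]
    refine le_sInf fun q ⟨hq, hqp⟩ => ?_
    have : Ring.KrullDimLE 1 A := Ring.krullDimLE_iff.mpr hdim.le
    rcases Ring.krullDimLE_one_iff.1 this q hqp with hmin | hmax
    · exfalso
      refine hc ⟨⟨q, hqp⟩, hmin⟩ (hq ?_)
      simp [J, Submodule.mem_colon_singleton, mul_sub, hce]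
    · exact (IsLocalRing.eq_maximalIdeal hmax).ge
  obtain ⟨N, hN⟩ := Ideal.exists_pow_le_of_le_radical_of_fg hrad (IsNoetherian.noetherian _)
  refine ⟨N + 1, N.succ_pos, ?_⟩
  rw [← sub_eq_zero, ← geom_sum₂_mul]
  have hmem : (∑ i ∈ Finset.range (N + 1), a₁ ^ i * a₂ ^ (N + 1 - 1 - i)) ∈ IsLocalRing.maximalIdeal A ^ N := by
    refine Ideal.sum_mem _ fun i hi => ?_
    have := Ideal.mul_mem_mul (Ideal.pow_mem_pow h₁ i) (Ideal.pow_mem_pow h₂ (N + 1 - 1 - i))
    rwa [← pow_add, show i + (N + 1 - 1 - i) = N by simp at hi; omega] at this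
  simpa [J, Submodule.mem_colon_singleton] using hN hmem

end Groth.Agent.S7666
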