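import Groth.Statements.S7667

set_option autoImplicit false
universe u
open CategoryTheory CategoryTheory.Limits AlgebraicGeometry
open Variety

namespace Groth.Agent.S7667

theorem exists_pow_smul_mem_range (A : Type u) [CommRing A] [IsLocalRing A] [IsNoetherianRing A]
    (hdim : ringKrullDim A ≤ 1)
    (l : ∀ p : {p : PrimeSpectrum A // p.asIdeal ∈ minimalPrimes A}, Localization.AtPrime p.1.asIdeal) :
    ∃ N : ℕ, ∀ x ∈ IsLocalRing.maximalIdeal A ^ N,
      algebraMap A (∀ p : {p : PrimeSpectrum A // p.asIdeal ∈ minimalPrimes A}, Localization.AtPrime p.1.asIdeal) x * l ∈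
        (algebraMap A (∀ p : {p : PrimeSpectrum A // p.asIdeal ∈ minimalPrimes A}, Localization.AtPrime p.1.asIdeal)).range := by
  classical
  set φ := algebraMap A (∀ p : {p : PrimeSpectrum A // p.asIdeal ∈ minimalPrimes A}, Localization.AtPrime p.1.asIdeal)
  have : Finite (minimalPrimes A) := (minimalPrimes.finite_of_isNoetherianRing A).to_subtype
  have : Finite {p : PrimeSpectrum A // p.asIdeal ∈ minimalPrimes A} :=
    Finite.of_injective (fun p : {p : PrimeSpectrum A // p.asIdeal ∈ minimalPrimes A} => (⟨p.1.asIdeal, p.2⟩ : minimalPrimes A))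
      (fun a b h => Subtype.ext (PrimeSpectrum.ext (congrArg Subtype.val h)))
  have := Fintype.ofFinite {p : PrimeSpectrum A // p.asIdeal ∈ minimalPrimes A}
  let C : Ideal A :=
    { carrier := {x | φ x * l ∈ φ.range}
      add_mem' := fun {x y} hx hy => by simpa [add_mul] using φ.range.add_mem hx hy
      zero_mem' := ⟨0, by simp⟩
      smul_mem' := fun c x hx => by
        simpa [mul_assoc] using mul_mem (φ.mem_range_self c) hx }
  have hrad : IsLocalRing.maximalIdeal A ≤ C.radical := by
    rw [Ideal.radical_eq_sInf]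
    refine le_sInf fun q ⟨hq, hqp⟩ => ?_
    rcases Ring.krullDimLE_one_iff.1 (Ring.krullDimLE_iff.mpr hdim) q hqp with hmin | hmax
    · exfalso
      let p : {p : PrimeSpectrum A // p.asIdeal ∈ minimalPrimes A} := ⟨⟨q, hqp⟩, hmin⟩
      obtain ⟨b, s, hbs⟩ := IsLocalization.exists_mk'_eq p.1.asIdeal.primeCompl (l p)
      have he : ∀ r : {p : PrimeSpectrum A // p.asIdeal ∈ minimalPrimes A}, ∃ e : A, e ∉ q ∧ (r ≠ p → e ∈ r.1.asIdeal) := by
        intro r
        rcases eq_or_ne r p with rfl | hr
        · exact ⟨1, hqp.one_notMem, by simp⟩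
        · have : ¬ r.1.asIdeal ≤ q := fun h => hr (Subtype.ext (PrimeSpectrum.ext
            (le_antisymm h (hmin.2 ⟨r.1.isPrime, bot_le⟩ h))))
          obtain ⟨e, he, he'⟩ := SetLike.not_le_iff_exists.1 this
          exact ⟨e, he', fun _ => he⟩
      choose e he₁ he₂ using he
      have hnil : ∀ r : {p : PrimeSpectrum A // p.asIdeal ∈ minimalPrimes A}, r ≠ p →
          IsNilpotent (algebraMap A (Localization.AtPrime r.1.asIdeal) (∏ i, e i)) := by
        intro r hr
        have := IsLocalization.AtPrime.ringKrullDim_eq_height r.1.asIdeal (Localization.AtPrime r.1.asIdeal)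
        have h0 : r.1.asIdeal.height = 0 := Ideal.height_eq_zero_iff.mpr r.2
        have : Ring.KrullDimLE 0 (Localization.AtPrime r.1.asIdeal) := Ring.krullDimLE_iff.mpr (by rw [this, h0]; simp)
        refine (Ring.KrullDimLE.isNilpotent_iff_mem_maximalIdeal).mpr ?_
        exact (IsLocalization.AtPrime.to_map_mem_maximal_iff _ r.1.asIdeal _).mpr
          (Ideal.prod_mem (s := Finset.univ) r.1.asIdeal (Finset.mem_univ r) (he₂ r hr))
      choose M hM using hnil
      let M' : ℕ := ∑ r, if h : r ≠ p then M r h else 0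
      have hm : (∏ i, e i) ^ M' * (s : A) ∈ C := by
        refine (?_ : φ _ * l ∈ φ.range)
        refine ⟨(∏ i, e i) ^ M' * b, funext fun r => ?_⟩
        rcases eq_or_ne r p with rfl | hr
        · show algebraMap A (Localization.AtPrime p.1.asIdeal) _ =
            algebraMap A (Localization.AtPrime p.1.asIdeal) _ * l p
          show algebraMap A (Localization.AtPrime p.1.asIdeal) (((∏ i, e i) ^ M') * b) =
            algebraMap A (Localization.AtPrime p.1.asIdeal) (((∏ i, e i) ^ M') * (s : A)) * l p
          rw [← hbs, map_mul, map_mul, mul_assoc, IsLocalization.mk'_spec' (Localization.AtPrime p.1.asIdeal)]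
        · show algebraMap A (Localization.AtPrime r.1.asIdeal) _ =
            algebraMap A (Localization.AtPrime r.1.asIdeal) _ * l r
          have hle : M r hr ≤ M' := le_trans (by simp [hr]) (Finset.single_le_sum (fun i _ => Nat.zero_le _) (Finset.mem_univ r))
          have hz : algebraMap A (Localization.AtPrime r.1.asIdeal) ((∏ i, e i) ^ M') = 0 := by
            rw [map_pow]; exact pow_eq_zero_of_le hle (hM r hr)
          show algebraMap A (Localization.AtPrime r.1.asIdeal) (((∏ i, e i) ^ M') * b) =
            algebraMap A (Localization.AtPrime r.1.asIdeal) (((∏ i, e i) ^ M') * (s : A)) * l r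
          rw [map_mul, map_mul, hz]; simp
      rcases hqp.mem_or_mem (hq hm) with h | h
      · exact Finset.prod_induction e (· ∉ q) (fun a b ha hb => fun h => (hqp.mem_or_mem h).elim ha hb)
          hqp.one_notMem (fun i _ => he₁ i) (hqp.mem_of_pow_mem _ h)
      · exact s.2 h
    · exact (IsLocalRing.eq_maximalIdeal hmax).ge
  obtain ⟨N, hN⟩ := Ideal.exists_pow_le_of_le_radical_of_fg hrad (IsNoetherian.noetherian _)
  exact ⟨N, fun x hx => hN hx⟩

/-- Let A be a one-dimensional Noetherian local ring, L the product of the localizations A_p over its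
minimal primes p, and I the intersection of those primes (the nilradical of A). If f ∈ L equals i +
a with a in the maximal ideal of A and i ∈ I·L, then for some positive integer n, f^n belongs to the
subring of L obtained as the image of the structure map from A. -/
theorem result (A : Type u) [CommRing A]
    [IsLocalRing A] [IsNoetherianRing A] (hdim : ringKrullDim A = 1)
    (a : A) (ha : a ∈ IsLocalRing.maximalIdeal A)
    (i : ∀ p : {p : PrimeSpectrum A // p.asIdeal ∈ minimalPrimes A}, Localization.AtPrime p.1.asIdeal)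
    (hi : i ∈ (nilradical A).map (algebraMap A (∀ p : {p : PrimeSpectrum A // p.asIdeal ∈ minimalPrimes A}, Localization.AtPrime p.1.asIdeal))) :
    ∃ n : ℕ, 0 < n ∧ (i + algebraMap A (∀ p : {p : PrimeSpectrum A // p.asIdeal ∈ minimalPrimes A}, Localization.AtPrime p.1.asIdeal) a) ^ n ∈
      (algebraMap A (∀ p : {p : PrimeSpectrum A // p.asIdeal ∈ minimalPrimes A}, Localization.AtPrime p.1.asIdeal)).range := by
  classical
  set φ := algebraMap A (∀ p : {p : PrimeSpectrum A // p.asIdeal ∈ minimalPrimes A}, Localization.AtPrime p.1.asIdeal)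
  obtain ⟨K, hK⟩ : IsNilpotent i := by
    refine mem_nilradical.1 (Ideal.map_le_iff_le_comap.2 (fun x hx => ?_) hi)
    exact mem_nilradical.2 ((mem_nilradical.1 hx).map φ)
  choose N hN using fun j : ℕ => exists_pow_smul_mem_range A hdim.le (i ^ j)
  let N' := (Finset.range K).sup N
  refine ⟨K + N' + 1, by omega, ?_⟩
  rw [add_pow]
  refine sum_mem fun j hj => ?_
  rcases le_or_gt K j with hle | hlt
  · rw [pow_eq_zero_of_le hle hK]; simp
  · refine mul_mem ?_ (natCast_mem _ _)
    rw [mul_comm, ← map_pow]
    refine hN j _ (Ideal.pow_le_pow_right ?_ (Ideal.pow_mem_pow ha _))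
    have : N j ≤ N' := Finset.le_sup (Finset.mem_range.2 hlt)
    omega

end Groth.Agent.S7667
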