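import Groth.Statements.S7668

set_option autoImplicit false
universe u
open CategoryTheory CategoryTheory.Limits AlgebraicGeometry
open Variety

namespace Groth.Agent.S7668

/-- Let A be a ring, p_1, …, p_r primes of A and S = A ∖ ⋃ p_i. Then S is a multiplicative subset, S⁻¹A
is semi-local, and contraction to A is a bijection from the maximal ideals of S⁻¹A onto the maximal
elements of {p_1, …, p_r}. -/
theorem result (A : Type u) [CommRing A]
    (r : ℕ) (p : Fin r → PrimeSpectrum A) :
    Finite (MaximalSpectrum (Localization (⨅ i, (p i).asIdeal.primeCompl))) ∧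
      Set.BijOn (fun m : Ideal (Localization (⨅ i, (p i).asIdeal.primeCompl)) =>
          m.comap (algebraMap A (Localization (⨅ i, (p i).asIdeal.primeCompl))))
        {m | m.IsMaximal}
        {q | q ∈ Set.range (fun i => (p i).asIdeal) ∧
          ∀ j, q ≤ (p j).asIdeal → q = (p j).asIdeal} := by
  classical
  set S : Submonoid A := ⨅ i, (p i).asIdeal.primeCompl
  set L := Localization S
  have hmemS : ∀ x : A, x ∈ S ↔ ∀ i, x ∉ (p i).asIdeal := fun x => by simp [S, Submonoid.mem_iInf]
  have hdisj : ∀ i, Disjoint (S : Set A) ((p i).asIdeal : Set A) := fun i =>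
    Set.disjoint_left.mpr fun x hx hx' => (hmemS x).1 hx i hx'
  have hsub : ∀ q : Ideal A, Disjoint (S : Set A) (q : Set A) → ∃ i, q ≤ (p i).asIdeal := by
    intro q hq
    have : (q : Set A) ⊆ ⋃ i ∈ (↑(Finset.univ : Finset (Fin r)) : Set (Fin r)), ((p i).asIdeal : Set A) := by
      intro x hx
      by_contra h
      exact Set.disjoint_left.mp hq ((hmemS x).2 fun i hi => h (Set.mem_iUnion₂.mpr ⟨i, by simp, hi⟩)) hx
    rcases Nat.eq_zero_or_pos r with rfl | hr
    · have h0 := this q.zero_mem; simp at h0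
    obtain ⟨i, -, hi⟩ := (Ideal.subset_union_prime (f := fun i => (p i).asIdeal) (s := (Finset.univ : Finset (Fin r)))
      ⟨0, hr⟩ ⟨0, hr⟩ (fun i _ _ _ => (p i).isPrime)).1 this
    exact ⟨i, hi⟩
  have hcm : ∀ m : Ideal L, m.IsPrime → (m.comap (algebraMap A L)).map (algebraMap A L) = m := fun m _ =>
    IsLocalization.map_under (S := L) S m
  have key : ∀ m : Ideal L, m.IsMaximal → ∃ i, m.comap (algebraMap A L) = (p i).asIdeal ∧
      ∀ j, m.comap (algebraMap A L) ≤ (p j).asIdeal → m.comap (algebraMap A L) = (p j).asIdeal := by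
    intro m hm
    have h2 := ((IsLocalization.isPrime_iff_isPrime_disjoint S L m).1 hm.isPrime).2
    have hall : ∀ j, m.comap (algebraMap A L) ≤ (p j).asIdeal → m.comap (algebraMap A L) = (p j).asIdeal := by
      intro j hj
      have hP := IsLocalization.isPrime_of_isPrime_disjoint S L _ (p j).isPrime (hdisj j)
      have : m = (p j).asIdeal.map (algebraMap A L) :=
        hm.eq_of_le hP.ne_top (hcm m hm.isPrime ▸ Ideal.map_mono hj)
      rw [this]
      exact IsLocalization.comap_map_of_isPrime_disjoint S L (p j).isPrime (hdisj j)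
    obtain ⟨i, hi⟩ := hsub _ h2
    exact ⟨i, hall i hi, hall⟩
  have hinj : Set.InjOn (fun m : Ideal L => m.comap (algebraMap A L)) {m | m.IsMaximal} := fun a ha b hb hab => by
    rw [← hcm a (Ideal.IsMaximal.isPrime ha), ← hcm b (Ideal.IsMaximal.isPrime hb)]; exact congrArg _ hab
  refine ⟨?_, ⟨fun m hm => ?_, hinj, ?_⟩⟩
  · exact Finite.of_injective (fun m : MaximalSpectrum L =>
      (⟨m.asIdeal.comap (algebraMap A L), (key _ m.isMaximal).imp fun i hi => hi.1.symm⟩ : Set.range fun i => (p i).asIdeal))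
      (fun a b h => MaximalSpectrum.ext (hinj a.isMaximal b.isMaximal (congrArg Subtype.val h)))
  · obtain ⟨i, hi, hall⟩ := key m hm
    exact ⟨⟨i, hi.symm⟩, hall⟩
  · rintro q ⟨⟨i, rfl⟩, hmax⟩
    have hP := IsLocalization.isPrime_of_isPrime_disjoint S L _ (p i).isPrime (hdisj i)
    obtain ⟨m, hm, hle⟩ := Ideal.exists_le_maximal _ hP.ne_top
    refine ⟨m, hm, ?_⟩
    obtain ⟨j, hj, -⟩ := key m hm
    have : (p i).asIdeal ≤ m.comap (algebraMap A L) := Ideal.map_le_iff_le_comap.1 hle
    show m.comap (algebraMap A L) = (p i).asIdeal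
    rw [hj] at this ⊢
    exact (hmax j this).symm

end Groth.Agent.S7668
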