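import Groth.Statements.S7669
import Groth.Agent.VarietyLib.StarGlue
import Groth.Agent.VarietyLib.IsolatedPoint
import Groth.Agent.PicLib.FiniteSetTriv
import Groth.Agent.AmpleLib.GenLocus

set_option autoImplicit false
universe u
open CategoryTheory CategoryTheory.Limits AlgebraicGeometry
open Variety
set_option backward.isDefEq.respectTransparency.types false

namespace Groth.Agent.S7669

open Groth.Agent.VarietyLib Groth.Agent.AmpleLib Groth.Agent.PicLib Groth.Agent.Coherent TopologicalSpace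

variable {X : Scheme.{u}}

theorem exists_isolating (U : X.Opens) (hdisc : DiscreteTopology ↥((U : Set X)ᶜ)) {x : X} (hx : x ∉ U) :
    ∃ W : X.Opens, x ∈ W ∧ ∀ y ∈ W, y ∉ U → y = x := by
  obtain ⟨W, hW, hWeq⟩ := isOpen_induced_iff.1 (isOpen_discrete ({(⟨x, hx⟩ : ↥((U : Set X)ᶜ))} : Set _))
  refine ⟨⟨W, hW⟩, hWeq.superset rfl, fun y hy hyU => ?_⟩
  have h : (⟨y, hyU⟩ : ↥((U : Set X)ᶜ)) = ⟨x, hx⟩ := hWeq.subset hy
  exact congrArg Subtype.val h

theorem isGen_push (U : X.Opens) (N : (↑U : Scheme.{u}).Modules) {T : X.Opens} (hT : T ≤ U)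
    {z : Γ(N, U.ι ⁻¹ᵁ T)} (hz : IsGen N (U.ι ⁻¹ᵁ T) z) :
    IsGen ((Scheme.Modules.pushforward U.ι).obj N) T (show Γ((Scheme.Modules.pushforward U.ι).obj N, T) from z) := by
  intro V hV
  have : IsIso (U.ι.app V) := U.ι.isIso_app V (by rw [Scheme.Opens.opensRange_ι]; exact hV.trans hT)
  exact (hz (U.ι ⁻¹ᵁ V) (U.ι.preimage_mono hV)).comp (ConcreteCategory.bijective_of_isIso (U.ι.app V))

theorem exists_isGen_push (U : X.Opens) (N : (↑U : Scheme.{u}).Modules) {T' : (↑U : Scheme.{u}).Opens}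
    {z : Γ(N, T')} (hz : IsGen N T' z) :
    ∃ g : Γ((Scheme.Modules.pushforward U.ι).obj N, U.ι ''ᵁ T'),
      IsGen ((Scheme.Modules.pushforward U.ι).obj N) (U.ι ''ᵁ T') g := by
  have e : U.ι ⁻¹ᵁ (U.ι ''ᵁ T') ≤ T' := (U.ι.preimage_image_eq T').le
  exact ⟨_, isGen_push U N ((U.ι.image_mono le_top).trans U.ι_image_top.le) (hz.restrict e)⟩

theorem hloc_push (U : X.Opens) (N : (↑U : Scheme.{u}).Modules) (W : X.Opens) :
    Function.Bijective (resM ((Scheme.Modules.pushforward U.ι).obj N) (inf_le_left : W ⊓ U ≤ W)) :=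
  resM_bijective_of_eq N (U.ι.preimage_mono inf_le_left) (le_antisymm (U.ι.preimage_mono inf_le_left)
    (fun y hy => ⟨hy, y.2⟩) |>.symm |> id)

theorem part1 (U : X.Opens) [QuasiCompact U.ι] (hdisc : DiscreteTopology ↥((U : Set X)ᶜ))
    (hloc : ∀ x : X, x ∉ U → IsNoetherianRing (X.presheaf.stalk x) ∧ ringKrullDim (X.presheaf.stalk x) ≤ 1) :
    ∃ (L : X.Modules) (s : Coh.structureModule X ⟶ L), PicF.IsInvertible L ∧ CohB1.genLocus L s = U := by
  classical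
  choose W₀ hW₀ hiso₀ using fun i : {x : X // x ∉ U} => exists_isolating U hdisc i.2
  choose W hW f hxW hWW hWU using fun i : {x : X // x ∉ U} =>
    IsolatedPoint.exists_nbhd U i.2 (W₀ i) (hW₀ i) (hiso₀ i) (hloc i.1 i.2)
  have hiso : ∀ i, ∀ y ∈ W i, y ∉ U → y = i.1 := fun i y hy hyU => hiso₀ i y (hWW i hy) hyU
  have hu : ∀ i, IsUnit (PicLib.res (inf_le_left : W i ⊓ U ≤ W i) (f i)) := fun i => by
    have h := RingedSpace.isUnit_res_basicOpen X.toRingedSpace (f i)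
    have e : W i ⊓ U ≤ X.basicOpen (f i) := (hWU i).le
    rw [← PicLib.res_res (X.basicOpen_le (f i)) e (f i)]
    exact h.map (PicLib.res e)
  let 𝒟 : StarGlue.Data X :=
    { N := Coh.structureModule X
      D := U
      ι := {x : X // x ∉ U}
      U := W
      e := fun i => ((hu i).unit⁻¹ : Γ(X, W i ⊓ U)ˣ).1 • oneSec (W i ⊓ U)
      gen := fun i => (isGen_oneSec _).smul_unit _
      meet := fun i j hij y hy => by_contra fun hyU =>
        hij (Subtype.ext ((hiso i y hy.1 hyU).symm.trans (hiso j y hy.2 hyU)))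
      cover := fun x => (em (x ∈ U)).imp_right fun h => ⟨⟨x, h⟩, hxW _⟩ }
  have hL : PicF.IsInvertible (StarGlue.glue 𝒟) :=
    StarGlue.isInvertible_glue 𝒟 fun x hx => ⟨U, hx, _, isGen_oneSec U⟩
  let val : ∀ y : (⊤ : X.Opens), StarGlue.Val 𝒟 y.1 := fun y =>
    if h : y.1 ∈ U then ((Coh.structureModule X).presheaf.germ U y.1 h (oneSec U), 0)
    else (0, X.presheaf.germ (W ⟨y.1, h⟩) y.1 (hxW ⟨y.1, h⟩) (f ⟨y.1, h⟩))
  have hval : (StarGlue.gluedLoc 𝒟).pred val := by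
    refine ⟨oneSec _, fun i => PicLib.res inf_le_right (f i), fun i x hx hD hU => ?_, fun x hx hD => ?_,
      fun i x hx hU hD => ?_⟩
    · show (Coh.structureModule X).presheaf.germ _ x _ (oneSec _) = _ • (Coh.structureModule X).presheaf.germ
        (W i ⊓ U) x ⟨hU, hD⟩ _
      rw [StarGlue.germ_smul', StarGlue.germ_resO, smul_smul,
        ← StarGlue.germ_resO (inf_le_left : W i ⊓ U ≤ W i) ⟨hU, hD⟩ (f i), ← map_mul, IsUnit.mul_val_inv, map_one,
        one_smul, ← germ_resM (Coh.structureModule X) (le_inf le_top inf_le_right : W i ⊓ U ≤ ⊤ ⊓ U) ⟨hU, hD⟩,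
        resM_oneSec]
    · refine Eq.trans (dif_pos hD) ?_
      refine Prod.ext ?_ rfl
      show _ = (Coh.structureModule X).presheaf.germ (⊤ ⊓ U) x ⟨hx, hD⟩ (oneSec _)
      rw [← resM_oneSec (inf_le_right : ⊤ ⊓ U ≤ U), germ_resM]
    · have hi : i = ⟨x, hD⟩ := Subtype.ext (hiso i x hU hD).symm
      subst hi
      refine Eq.trans (dif_neg hD) ?_
      refine Prod.ext rfl ?_
      exact (StarGlue.germ_resO (inf_le_right : ⊤ ⊓ W ⟨x, hD⟩ ≤ W ⟨x, hD⟩) (x := x) ⟨hx, hU⟩ (f ⟨x, hD⟩)).symm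
  let σ : Γ(StarGlue.glue 𝒟, ⊤) := ⟨val, hval⟩
  refine ⟨StarGlue.glue 𝒟, unitDesc _ σ, hL, ?_⟩
  show glocus (StarGlue.glue 𝒟) σ = U
  refine le_antisymm (fun x hx => by_contra fun hxU => ?_) ?_
  · let i : {x : X // x ∉ U} := ⟨x, hxU⟩
    have h1 := (glocus_inf σ (StarGlue.isGen_chart 𝒟 i)).le ⟨hx, hxW i⟩
    rw [IsGen.coef_eq (r := f i) _ _ ?_] at h1
    · exact hxU ((hWU i).ge h1).2
    refine StarGlue.sec_ext' 𝒟 fun y => ?_
    show X.presheaf.germ (W i) y.1 y.2 (f i) • (StarGlue.chart 𝒟 i).1 ⟨y.1, y.2⟩ = val ⟨y.1, trivial⟩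
    have hs := (StarGlue.exists_chart 𝒟 i).choose_spec
    by_cases hD : y.1 ∈ U
    · refine (congrArg _ (hs.1 y.1 y.2 hD)).trans (Eq.trans ?_ (dif_pos hD).symm)
      refine Prod.ext ?_ (smul_zero _)
      show X.presheaf.germ (W i) y.1 y.2 (f i) • (Coh.structureModule X).presheaf.germ (W i ⊓ U) y.1 ⟨y.2, hD⟩ _ = _
      rw [StarGlue.germ_smul', smul_smul, ← StarGlue.germ_resO (inf_le_left : W i ⊓ U ≤ W i) ⟨y.2, hD⟩ (f i),
        ← map_mul, IsUnit.mul_val_inv, map_one, one_smul, ← resM_oneSec (inf_le_right : W i ⊓ U ≤ U), germ_resM]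
    · have hi : i = ⟨y.1, hD⟩ := Subtype.ext (hiso i y.1 y.2 hD).symm
      refine (congrArg _ (hs.2 y.1 y.2 hD)).trans (Eq.trans ?_ (dif_neg hD).symm)
      refine Prod.ext (smul_zero _) ?_
      show X.presheaf.germ (W i) y.1 y.2 (f i) * 1 = _
      rw [mul_one]
      have key : ∀ (j : {x : X // x ∉ U}) (hj : y.1 ∈ W j), i = j →
          X.presheaf.germ (W i) y.1 y.2 (f i) = X.presheaf.germ (W j) y.1 hj (f j) := by
        rintro j hj rfl; rfl
      exact key ⟨y.1, hD⟩ (hxW ⟨y.1, hD⟩) hi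
  · rw [le_glocus_iff]
    have : resM (StarGlue.glue 𝒟) (le_top : U ≤ ⊤) σ = StarGlue.secD 𝒟 le_rfl (oneSec U) :=
      StarGlue.sec_ext' 𝒟 fun y => by
        rw [StarGlue.secD_val]
        exact dif_pos y.2
    rw [this]
    exact StarGlue.isGen_secD 𝒟 le_rfl (isGen_oneSec U)

theorem part2 (U : X.Opens) [QuasiCompact U.ι] (hdisc : DiscreteTopology ↥((U : Set X)ᶜ))
    (hloc : ∀ x : X, x ∉ U → IsNoetherianRing (X.presheaf.stalk x) ∧ ringKrullDim (X.presheaf.stalk x) ≤ 1)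
    (N : (↑U : Scheme.{u}).Modules) (hN : PicF.IsInvertible N) :
    ∃ L : X.Modules, PicF.IsInvertible L ∧ Nonempty (L.restrict U.ι ≅ N) := by
  classical
  let N' := (Scheme.Modules.pushforward U.ι).obj N
  have key : ∀ i : {x : X // x ∉ U}, ∃ W : X.Opens, i.1 ∈ W ∧ (∀ y ∈ W, y ∉ U → y = i.1) ∧
      ∃ e : Γ(N', W ⊓ U), IsGen N' (W ⊓ U) e := by
    rintro ⟨x, hxU⟩
    obtain ⟨W₀, hxW₀, hiso⟩ := exists_isolating U hdisc hxU
    obtain ⟨W, hW, f, hxW, hWW, hWU⟩ := IsolatedPoint.exists_nbhd U hxU W₀ hxW₀ hiso (hloc x hxU)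
    have hfU : X.basicOpen f ≤ U := hWU.ge.trans inf_le_right
    obtain ⟨T', hZT, -, -, ⟨t⟩⟩ := PicLib.exists_triv_of_finite hN
      ((hW.basicOpen f).preimage_of_isOpenImmersion U.ι (by rw [Scheme.Opens.opensRange_ι]; exact hfU))
      (U.ι ⁻¹' {y : X | y ∈ W ∧ y ∈ U ∧ y ⤳ x})
      ((IsolatedPoint.finite_gen U hxU hW hxW (hloc x hxU)).preimage U.ι.isOpenEmbedding.injective.injOn)
      (fun y hy => hWU.le ⟨hy.1, hy.2.1⟩)
    obtain ⟨z, hz⟩ := exists_isGen_of_iso t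
    obtain ⟨g₀, hg₀⟩ := exists_isGen_push U N hz
    obtain ⟨g, hxg, hgT⟩ := IsolatedPoint.exists_shrink U hW f hxW hWU (U.ι ''ᵁ T') fun y hyW hyU hyx =>
      ⟨⟨y, hyU⟩, hZT (show (⟨y, hyU⟩ : (U : Scheme.{u})).1 ∈ {y : X | y ∈ W ∧ y ∈ U ∧ y ⤳ x} from ⟨hyW, hyU, hyx⟩), rfl⟩
    exact ⟨X.basicOpen g, hxg, fun y hy hyU => hiso y (hWW (X.basicOpen_le g hy)) hyU,
      _, hg₀.restrict hgT⟩
  choose W hxW hiso e he using key
  let 𝒟 : StarGlue.Data X :=
    { N := N'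
      D := U
      ι := {x : X // x ∉ U}
      U := W
      e := e
      gen := he
      meet := fun i j hij y hy => by_contra fun hyU =>
        hij (Subtype.ext ((hiso i y hy.1 hyU).symm.trans (hiso j y hy.2 hyU)))
      cover := fun x => (em (x ∈ U)).imp_right fun h => ⟨⟨x, h⟩, hxW _⟩ }
  refine ⟨StarGlue.glue 𝒟, StarGlue.isInvertible_glue 𝒟 fun x hx => ?_, ?_⟩
  · obtain ⟨T', hT, z, hz⟩ := exists_isGen hN ⟨x, hx⟩
    obtain ⟨g, hg⟩ := exists_isGen_push U N hz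
    exact ⟨U.ι ''ᵁ T', ⟨⟨x, hx⟩, hT, rfl⟩, g, hg⟩
  · have := StarGlue.isIso_restrict_toN 𝒟 (hloc_push U N)
    exact ⟨asIso ((Scheme.Modules.restrictFunctor U.ι).map (StarGlue.toN 𝒟 (hloc_push U N))) ≪≫
      (Scheme.Modules.restrictFunctorAdjCounitIso U.ι).app N⟩


/-- Let X be a scheme and U ⊆ X a retrocompact open such that X ∖ U is discrete and O_{X,x} is
Noetherian of dimension ≤ 1 for every x ∈ X ∖ U. Then (1) there are an invertible module L and a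
global section s with U = X_s, and (2) Pic(X) → Pic(U) is surjective. -/
theorem result (X : Scheme.{u}) (U : X.Opens)
    [QuasiCompact U.ι] (hdisc : DiscreteTopology ↥((U : Set X)ᶜ))
    (hloc : ∀ x : X, x ∉ U → IsNoetherianRing (X.presheaf.stalk x) ∧ ringKrullDim (X.presheaf.stalk x) ≤ 1) :
    (∃ (L : X.Modules) (s : Coh.structureModule X ⟶ L), PicF.IsInvertible L ∧ CohB1.genLocus L s = U) ∧
      ∀ N : (↑U : Scheme.{u}).Modules, PicF.IsInvertible N →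
        ∃ L : X.Modules, PicF.IsInvertible L ∧ Nonempty (L.restrict U.ι ≅ N) := by
  exact ⟨part1 U hdisc hloc, part2 U hdisc hloc⟩

end Groth.Agent.S7669
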