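import Groth.Statements.S7670
import Groth.Agent.VarietyLib.StarGlue
import Groth.Agent.TwistLib.Glue
import Mathlib

set_option autoImplicit false
universe u
open CategoryTheory CategoryTheory.Limits AlgebraicGeometry
open Variety
set_option backward.isDefEq.respectTransparency.types false

namespace Groth.Agent.S7670

open Groth.Agent.VarietyLib Groth.Agent.AmpleLib Groth.Agent.PicLib Groth.Agent.Coherent TopologicalSpace Opposite

variable {X : Scheme.{u}}

theorem bijective_app_of_subset [IsReduced X] (Z : X.IdealSheafData) {V : X.Opens}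
    (hV : (V : Set X) ⊆ Z.support) : Function.Bijective (Z.subschemeι.app V) := by
  have : Surjective (Z.subschemeι ∣_ V) := ⟨fun y => by
    obtain ⟨w, hw⟩ := Z.range_subschemeι.superset (hV y.2)
    refine ⟨⟨w, show Z.subschemeι w ∈ V by rw [hw]; exact y.2⟩, Subtype.ext ?_⟩
    simpa using hw⟩
  have : IsIso (Z.subschemeι ∣_ V) := isIso_of_isClosedImmersion_of_surjective _
  have h1 : IsIso ((Z.subschemeι ∣_ V).app (V.ι ⁻¹ᵁ V)) := inferInstance
  rw [morphismRestrict_app] at h1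
  have : IsIso (Z.subschemeι.app (V.ι ''ᵁ (V.ι ⁻¹ᵁ V))) := @IsIso.of_isIso_comp_right _ _ _ _ _ _ _
    (Functor.map_isIso _ _) h1
  have e : V.ι ''ᵁ (V.ι ⁻¹ᵁ V) = V := by
    ext y
    exact ⟨fun ⟨w, hw, he⟩ => he ▸ w.2, fun hy => ⟨⟨y, hy⟩, hy, rfl⟩⟩
  rw [e] at this
  exact ConcreteCategory.bijective_of_isIso _

theorem subsingleton_empty (M : X.Modules) {V : X.Opens} (hV : ∀ x, x ∉ V) : Subsingleton Γ(M, V) :=
  ⟨fun _ _ => sec_ext_germ M fun x hx => (hV x hx).elim⟩

theorem isGen_empty (M : X.Modules) {V : X.Opens} (hV : ∀ x, x ∉ V) (g : Γ(M, V)) : IsGen M V g := by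
  intro W hW
  have := subsingleton_empty M (V := W) fun x hx => hV x (hW hx)
  refine ⟨fun a b _ => TopCat.Presheaf.section_ext X.sheaf W a b fun x hx => (hV x (hW hx)).elim,
    fun m => ⟨0, Subsingleton.elim _ _⟩⟩

section

variable (k : ℕ) (Z : Fin k → X.IdealSheafData) (L : ∀ i, (Z i).subscheme.Modules)

/-- The direct images. -/
noncomputable abbrev G (j : ULift.{u} (Fin k)) : X.Modules :=
  (Scheme.Modules.pushforward (Z j.down).subschemeι).obj (L j.down)

theorem isGen_family [IsReduced X] {V : X.Opens} (e : Γ(∏ᶜ G k Z L, V)) (g : ∀ i, Γ(L i, (Z i).subschemeι ⁻¹ᵁ V))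
    (hg : ∀ i, IsGen (L i) ((Z i).subschemeι ⁻¹ᵁ V) (g i))
    (he : ∀ j, (Pi.π (G k Z L) j).app V e = g j.down)
    (hV : ∀ y ∈ V, ∃ O : X.Opens, y ∈ O ∧ ∃ i, (O : Set X) ⊆ (Z i).support ∧
      ∀ l, l ≠ i → ∀ z ∈ O, z ∉ (Z l).support) :
    IsGen (∏ᶜ G k Z L) V e := by
  choose O hyO i hOi hOl using hV
  refine isGen_of_cover (fun y : V => V ⊓ O y.1 y.2) (fun y => inf_le_left)
    (fun y hy => Opens.mem_iSup.2 ⟨⟨y, hy⟩, hy, hyO y hy⟩) fun y W hW => ?_
  have hWV : W ≤ V := hW.trans inf_le_left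
  have hπ : ∀ (r : Γ(X, W)) (j : ULift.{u} (Fin k)),
      (Pi.π (G k Z L) j).app W (r • resM _ hW (resM _ (inf_le_left : V ⊓ O y.1 y.2 ≤ V) e)) =
        (Z j.down).subschemeι.app W r •
          resM (L j.down) ((Z j.down).subschemeι.preimage_mono hWV) (g j.down) := fun r j => by
    rw [resM_resM, Scheme.Modules.Hom.app_smul, app_resM, he]
    rfl
  have hbij := ((hg (i y.1 y.2)) ((Z (i y.1 y.2)).subschemeι ⁻¹ᵁ W)
    ((Z (i y.1 y.2)).subschemeι.preimage_mono hWV)).comp (bijective_app_of_subset (Z (i y.1 y.2))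
      (fun z hz => hOi y.1 y.2 (hW hz).2))
  refine ⟨fun r r' h => hbij.1 ?_, fun m => ?_⟩
  · have h' := congrArg ((Pi.π (G k Z L) ⟨i y.1 y.2⟩).app W) h
    simp only [hπ] at h'
    exact h'
  · obtain ⟨r, hr⟩ := hbij.2 ((Pi.π (G k Z L) ⟨i y.1 y.2⟩).app W m)
    refine ⟨r, TwistLib.pi_sections_ext _ fun j => ?_⟩
    rw [hπ]
    by_cases hj : j.down = i y.1 y.2
    · obtain ⟨l⟩ := j
      change l = _ at hj
      subst hj
      exact hr
    · exact (subsingleton_empty (L j.down) (V := (Z j.down).subschemeι ⁻¹ᵁ W) fun z hz =>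
        hOl y.1 y.2 j.down hj _ (hW hz).2 ((Z j.down).range_subschemeι.subset ⟨z, rfl⟩)).elim _ _

end


/-- Let X be a reduced scheme and Z_1, …, Z_n ⊆ X closed subschemes with X = ⋃ Z_i set-theoretically and
Z_i ∩ Z_j discrete for i ≠ j, and let L_i be an invertible module on Z_i. Then there is an
invertible module L on X whose restriction to each Z_i is isomorphic to L_i. (The published
statement also gives, for sections s_i of L_i that do not vanish at the points of Z_i ∩ Z_j, a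
choice of L with a global section restricting to each s_i; this row states only the existence of L.) -/
theorem result (X : Scheme.{u}) [IsReduced X]
    (n : ℕ) (Z : Fin n → X.IdealSheafData)
    (hcov : ⋃ i, ((Z i).support : Set X) = Set.univ)
    (hdisc : ∀ i j, i ≠ j → DiscreteTopology ↥(((Z i).support : Set X) ∩ ((Z j).support : Set X)))
    (L : ∀ i, (Z i).subscheme.Modules) (hL : ∀ i, PicF.IsInvertible (L i)) :
    ∃ M : X.Modules, PicF.IsInvertible M ∧
      ∀ i, Nonempty ((Scheme.Modules.pullback (Z i).subschemeι).obj M ≅ L i) := by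
  classical
  let P : Set X := ⋃ (i : Fin n) (j : Fin n) (_ : i ≠ j), ((Z i).support : Set X) ∩ ((Z j).support : Set X)
  have hsub : ∀ S : Set X, S ⊆ P → IsClosed S := by
    intro S hS
    have hS' : S = ⋃ (i : Fin n) (j : Fin n) (_ : i ≠ j),
        S ∩ (((Z i).support : Set X) ∩ ((Z j).support : Set X)) := by
      ext x
      constructor
      · intro hx
        obtain ⟨i, hi⟩ := Set.mem_iUnion.1 (hS hx)
        obtain ⟨j, hj⟩ := Set.mem_iUnion.1 hi
        obtain ⟨hij, h⟩ := Set.mem_iUnion.1 hj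
        exact Set.mem_iUnion.2 ⟨i, Set.mem_iUnion.2 ⟨j, Set.mem_iUnion.2 ⟨hij, hx, h⟩⟩⟩
      · intro hx
        simp only [Set.mem_iUnion] at hx
        obtain ⟨i, j, hij, hx, -⟩ := hx
        exact hx
    rw [hS']
    refine isClosed_iUnion_of_finite fun i => isClosed_iUnion_of_finite fun j => isClosed_iUnion_of_finite fun hij => ?_
    have := hdisc i j hij
    have hC : IsClosed (((Z i).support : Set X) ∩ ((Z j).support : Set X)) := (Z i).support.2.inter (Z j).support.2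
    have h1 := (hC.isClosedEmbedding_subtypeVal.isClosedMap _ (isClosed_discrete
      (Subtype.val ⁻¹' S : Set ↥(((Z i).support : Set X) ∩ ((Z j).support : Set X)))))
    rwa [Set.image_preimage_eq_inter_range, Subtype.range_coe] at h1
  let D : X.Opens := ⟨Pᶜ, (hsub P subset_rfl).isOpen_compl⟩
  have hD : ∀ y ∈ D, ∃ O : X.Opens, y ∈ O ∧ ∃ i, (O : Set X) ⊆ (Z i).support ∧
      ∀ l, l ≠ i → ∀ z ∈ O, z ∉ (Z l).support := by
    intro y hy
    obtain ⟨i, hi⟩ := Set.mem_iUnion.1 (hcov.superset (Set.mem_univ y))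
    have hothers : ∀ l, l ≠ i → y ∉ (Z l).support := fun l hl h => hy
      (Set.mem_iUnion.2 ⟨l, Set.mem_iUnion.2 ⟨i, Set.mem_iUnion.2 ⟨hl, h, hi⟩⟩⟩)
    refine ⟨⟨(⋃ (l : Fin n) (_ : l ≠ i), ((Z l).support : Set X))ᶜ,
      (isClosed_iUnion_of_finite fun l => isClosed_iUnion_of_finite fun _ => (Z l).support.2).isOpen_compl⟩,
      ?_, i, ?_, ?_⟩
    · intro h
      simp only [Set.mem_iUnion] at h
      obtain ⟨l, hl, h⟩ := h
      exact hothers l hl h
    · intro z hz
      obtain ⟨l, hl⟩ := Set.mem_iUnion.1 (hcov.superset (Set.mem_univ z))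
      by_cases hli : l = i
      · exact hli ▸ hl
      · exact absurd (Set.mem_iUnion.2 ⟨l, Set.mem_iUnion.2 ⟨hli, hl⟩⟩) hz
    · exact fun l hl z hz h => hz (Set.mem_iUnion.2 ⟨l, Set.mem_iUnion.2 ⟨hl, h⟩⟩)
  have key : ∀ x : X, ∃ U : X.Opens, x ∈ U ∧ (∀ y ∈ U, y ∈ P → y = x) ∧
      ∀ i, ∃ g : Γ(L i, (Z i).subschemeι ⁻¹ᵁ U), IsGen (L i) ((Z i).subschemeι ⁻¹ᵁ U) g := by
    intro x
    have hone : ∀ i, ∃ U : X.Opens, x ∈ U ∧ ∃ g : Γ(L i, (Z i).subschemeι ⁻¹ᵁ U),
        IsGen (L i) ((Z i).subschemeι ⁻¹ᵁ U) g := fun i => by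
      by_cases hx : x ∈ (Z i).support
      · obtain ⟨z, rfl⟩ := (Z i).range_subschemeι.superset hx
        obtain ⟨T, hzT, g, hg⟩ := exists_isGen (hL i) z
        obtain ⟨T', hT', hTT'⟩ := (Z i).subschemeι.isEmbedding.isInducing.isOpen_iff.1 T.2
        have hzT' : (Z i).subschemeι z ∈ T' := hTT'.superset hzT
        have hle : (Z i).subschemeι ⁻¹ᵁ ⟨T', hT'⟩ ≤ T := fun w hw => hTT'.subset hw
        exact ⟨⟨T', hT'⟩, hzT', _, hg.restrict hle⟩
      · refine ⟨⟨((Z i).support : Set X)ᶜ, (Z i).support.2.isOpen_compl⟩, hx, 0,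
          isGen_empty _ (fun w hw => (show (Z i).subschemeι w ∉ (Z i).support from hw) ((Z i).range_subschemeι.subset ⟨w, rfl⟩)) _⟩
    choose U hxU g hg using hone
    let U₀ : X.Opens := ⟨(P \ {x})ᶜ, (hsub _ Set.sdiff_subset).isOpen_compl⟩
    refine ⟨Finset.univ.inf U ⊓ U₀, ⟨?_, fun h => h.2 rfl⟩, fun y hy hyP => by_contra fun hne => hy.2 ⟨hyP, hne⟩,
      fun i => ⟨_, (hg i).restrict ((Z i).subschemeι.preimage_mono
        (inf_le_left.trans (Finset.inf_le (Finset.mem_univ i))))⟩⟩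
    rw [SetLike.mem_coe, ← SetLike.mem_coe, Opens.coe_finset_inf]
    simpa using hxU
  choose U hxU hUP g hg using key
  let π := fun j => Pi.π (G n Z L) j
  choose e he using fun x => TwistLib.pi_sections_surj (G n Z L) (W := U x ⊓ D)
    fun j => resM (G n Z L j) (inf_le_left : U x ⊓ D ≤ U x) (g x j.down)
  let 𝒟 : StarGlue.Data X :=
    { N := ∏ᶜ G n Z L
      D := D
      ι := X
      U := U
      e := e
      gen := fun x => isGen_family n Z L (e x) (fun i => resM (L i) ((Z i).subschemeι.preimage_mono inf_le_left) (g x i))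
        (fun i => (hg x i).restrict _) (fun j => he x j) (fun y hy => hD y hy.2)
      meet := fun a b hab y hy hyP => hab ((hUP a y hy.1 hyP).symm.trans (hUP b y hy.2 hyP))
      cover := fun x => Or.inr ⟨x, hxU x⟩ }
  have hM : PicF.IsInvertible (StarGlue.glue 𝒟) :=
    StarGlue.isInvertible_glue 𝒟 fun x hx => ⟨U x ⊓ D, ⟨hxU x, hx⟩, e x, 𝒟.gen x⟩
  refine ⟨StarGlue.glue 𝒟, hM, fun i => ?_⟩
  let ι := (Z i).subschemeι
  have hcovU : iSup U = ⊤ := top_le_iff.1 fun y _ => Opens.mem_iSup.2 ⟨y, hxU y⟩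
  obtain ⟨ψ, hψ⟩ := exists_hom_of_gen U hcovU (fun x => StarGlue.chart 𝒟 x) (fun x => StarGlue.isGen_chart 𝒟 x)
    (fun x => (show Γ(G n Z L ⟨i⟩, U x) from g x i)) (by
      intro a b W ha hb c hc
      by_cases hab : a = b
      · subst hab
        have h1 := ((StarGlue.isGen_chart 𝒟 a) W ha).1 (a₁ := c) (a₂ := 1) (by simpa using hc.symm)
        rw [h1, one_smul]
      have hW : W ≤ D := (le_inf ha hb).trans (𝒟.meet a b hab)
      have e1 : ∀ (x : X) (hx : W ≤ U x),
          resM (StarGlue.glue 𝒟) hx (StarGlue.chart 𝒟 x) = StarGlue.secD 𝒟 hW (resM 𝒟.N (le_inf hx hW) (e x)) :=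
        fun x hx => by
          rw [← StarGlue.resM_secD 𝒟 (le_inf hx hW) inf_le_right, ← StarGlue.resM_chart, resM_resM]
      rw [e1 a ha, e1 b hb, ← StarGlue.secD_smul] at hc
      have h2 := congrArg ((π ⟨i⟩).app W) ((StarGlue.secD_bijective 𝒟 hW).1 hc)
      rw [Scheme.Modules.Hom.app_smul, app_resM, app_resM, he, he, resM_resM, resM_resM] at h2
      exact h2)
  let adj := Scheme.Modules.pullbackPushforwardAdjunction ι
  let φ := (adj.homEquiv _ _).symm ψ
  have hφ : ∀ x, φ.app (ι ⁻¹ᵁ U x) (pullSec ι (StarGlue.chart 𝒟 x)) = g x i := fun x => by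
    have h := congrArg (fun t : StarGlue.glue 𝒟 ⟶ G n Z L ⟨i⟩ => t.app (U x) (StarGlue.chart 𝒟 x))
      ((adj.homEquiv_unit _ _ φ).symm.trans ((adj.homEquiv _ _).apply_symm_apply ψ))
    exact h.trans (hψ x)
  have : IsIso φ := by
    refine isIso_of_gens φ (fun x => ι ⁻¹ᵁ U x) ?_ (fun x => pullSec ι (StarGlue.chart 𝒟 x))
      (fun x => isGen_pullSec ι (StarGlue.isGen_chart 𝒟 x) hM) fun x => ?_
    · exact top_le_iff.1 fun z _ => Opens.mem_iSup.2 ⟨ι z, hxU _⟩
    · rw [hφ x]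
      exact hg x i
  exact ⟨asIso φ⟩

end Groth.Agent.S7670
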