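import Groth.Statements.S7674
import Groth.Agent.CommAlg4.SmoothInter
import Groth.Agent.DimLib.Components
-- import your own Groth.Agent.* helpers here

set_option autoImplicit false
universe u
open CategoryTheory CategoryTheory.Limits AlgebraicGeometry
open Variety

namespace Groth.Agent.S7674

/-- Let k be a field, n ≥ 0, and X, Y ⊆ A^n_k closed subsets which are equidimensional of dimensions r
and s. Then each irreducible component Z of the intersection X ∩ Y satisfies dim Z ≥ r + s − n. -/
theorem result (k : Type u) [Field k] (n r s : ℕ)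
    (X Y : Set ↥(𝔸(ULift.{u} (Fin n); Spec (CommRingCat.of k)))) (hX : IsClosed X) (hY : IsClosed Y)
    (hXr : ∀ Z ∈ irreducibleComponents X, topologicalKrullDim Z = r)
    (hYs : ∀ Z ∈ irreducibleComponents Y, topologicalKrullDim Z = s)
    (Z : Set ↥(X ∩ Y)) (hZ : Z ∈ irreducibleComponents ↥(X ∩ Y)) :
    ((r + s : ℕ) : WithBot ℕ∞) ≤ topologicalKrullDim Z + (n : WithBot ℕ∞) := by
  classical
  let σ := ULift.{u} (Fin n)
  let f : 𝔸(σ; Spec (CommRingCat.of k)) ⟶ Spec (CommRingCat.of k) := 𝔸(σ; Spec (CommRingCat.of k)) ↘ _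
  have e : f = (AffineSpace.SpecIso σ (CommRingCat.of k)).hom ≫
      Spec.map (CommRingCat.ofHom MvPolynomial.C) := by
    rw [← AffineSpace.SpecIso_inv_over (n := σ) (CommRingCat.of k), Iso.hom_inv_id_assoc]
  have : Smooth (Spec.map (CommRingCat.ofHom (MvPolynomial.C : k →+* MvPolynomial σ k))) :=
    (HasRingHomProperty.Spec_iff (P := @Smooth)).2
      (RingHom.smooth_algebraMap.2 (⟨inferInstance, inferInstance⟩ : Algebra.Smooth k (MvPolynomial σ k)))
  have hsm : Smooth f := by rw [e]; infer_instance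
  have hN : ∀ a, DimLib.ptDim f a ≤ n := fun a => by
    have h1 := DimLib.ptDim_le_topologicalKrullDim f a
    rw [(AffineSpace.SpecIso σ (CommRingCat.of k)).hom.homeomorph.isHomeomorph.topologicalKrullDim_eq] at h1
    change _ ≤ topologicalKrullDim (PrimeSpectrum (MvPolynomial σ k)) at h1
    rw [PrimeSpectrum.topologicalKrullDim_eq_ringKrullDim, MvPolynomial.ringKrullDim_of_isNoetherianRing,
      ringKrullDim_eq_zero_of_field, zero_add, Nat.card_eq_fintype_card, Fintype.card_ulift, Fintype.card_fin] at h1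
    exact_mod_cast h1
  refine (DimLib.forall_components_subset_iff f (hX.inter hY).isLocallyClosed
    (fun D => ((r + s : ℕ) : WithBot ℕ∞) ≤ D + n)).2 ?_ Z hZ
  intro z hz hzmax
  have hXr' := (DimLib.forall_components_subset_iff f hX.isLocallyClosed (fun D => D = r)).1 hXr
  have hYs' := (DimLib.forall_components_subset_iff f hY.isLocallyClosed (fun D => D = s)).1 hYs
  obtain ⟨x, hxX, hxz, hxmax⟩ := CommAlg4.exists_maximal_of_mem f n hN hz.1
  obtain ⟨y, hyY, hyz, hymax⟩ := CommAlg4.exists_maximal_of_mem f n hN hz.2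
  have hxr : DimLib.ptDim f x = r := by exact_mod_cast hXr' x hxX hxmax
  have hys : DimLib.ptDim f y = s := by exact_mod_cast hYs' y hyY hymax
  have key := CommAlg4.ptDim_add_le_of_smooth f n hN hxz hyz
    (fun w hxw hyw hwz => (hzmax w ⟨hxw.mem_closed hX hxX, hyw.mem_closed hY hyY⟩ hwz).symm)
  rw [hxr, hys] at key
  exact_mod_cast key


end Groth.Agent.S7674
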