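import Groth.Statements.S7675
import Groth.Agent.DimLib.ProjDim
import Groth.Agent.DimLib.Tensor

set_option autoImplicit false
set_option backward.isDefEq.respectTransparency.types false
universe u
open CategoryTheory CategoryTheory.Limits AlgebraicGeometry
open Variety Groth.Agent

namespace Groth.Agent.S7675

/-- Krull's bound in an affine component. -/
theorem krull_bound (k : Type u) [Field k] (T : Type u) [CommRing T] [Algebra k T] [Algebra.FiniteType k T]
    (P Q : Ideal T) [P.IsPrime] [Q.IsPrime] (hPQ : P ≤ Q) (E : Finset T) (hDQ : Ideal.span (E : Set T) ≤ Q)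
    (hQmin : ∀ J : Ideal T, J.IsPrime → Ideal.span (E : Set T) ≤ J → J ≤ Q → Q ≤ J) (a b c N : ℕ) (hE : E.card ≤ N)
    (hdimP : ringKrullDim (T ⧸ P) = ((a + b : ℕ) : WithBot ℕ∞)) (hdimQ : ringKrullDim (T ⧸ Q) = (c : WithBot ℕ∞)) :
    a + b ≤ c + N := by
  classical
  have : IsNoetherianRing T := Algebra.FiniteType.isNoetherianRing k T
  let Qb : Ideal (T ⧸ P) := Q.map (Ideal.Quotient.mk P)
  have hQbp : Qb.IsPrime :=
    Ideal.map_isPrime_of_surjective Ideal.Quotient.mk_surjective (by rw [Ideal.mk_ker]; exact hPQ)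
  have hcQ : Qb.comap (Ideal.Quotient.mk P) = Q := by
    rw [Ideal.comap_map_of_surjective _ Ideal.Quotient.mk_surjective, ← RingHom.ker_eq_comap_bot,
      Ideal.mk_ker, sup_eq_left.2 hPQ]
  have hmin : Qb ∈ (Ideal.span ((E.image (Ideal.Quotient.mk P) : Finset (T ⧸ P)) : Set (T ⧸ P))).minimalPrimes := by
    rw [Finset.coe_image, ← Ideal.map_span]
    refine ⟨⟨hQbp, Ideal.map_mono hDQ⟩, fun J hJ hJle => ?_⟩
    exact Ideal.map_le_of_le_comap (hQmin _ (hJ.1.comap _) (Ideal.map_le_iff_le_comap.1 hJ.2)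
      (hcQ ▸ Ideal.comap_mono hJle))
  have hht : Qb.height ≤ (N : ℕ∞) := (Ideal.height_le_card_of_mem_minimalPrimes_span_finset hmin).trans (by
    exact_mod_cast Finset.card_image_le.trans hE)
  have hsum := DimLib.height_add_ringKrullDim_quotient (k := k) (A := T ⧸ P) Qb
  rw [hdimP, ringKrullDim_eq_of_ringEquiv (DoubleQuot.quotQuotEquivQuotOfLE hPQ), hdimQ] at hsum
  obtain ⟨t, ht⟩ := ENat.ne_top_iff_exists.1 (ne_top_of_le_ne_top (ENat.natCast_ne_top _) hht)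
  rw [← ht] at hsum hht
  have hsum' : t + c = a + b := by exact_mod_cast hsum
  have : t ≤ N := by exact_mod_cast hht
  omega

open TensorProduct in
/-- The diagonal trick in a finite type algebra. -/
theorem dim_minimalPrime_sup (k : Type u) [Field k] (S : Type u) [CommRing S] [Algebra k S] [Algebra.FiniteType k S]
    {N : ℕ} (g : Fin N → S) (hg : Algebra.adjoin k (Set.range g) = ⊤) (p q Q' : Ideal S) [hp : p.IsPrime] [hq : q.IsPrime]
    [hQ'p : Q'.IsPrime] (hQ' : Q' ∈ (p ⊔ q).minimalPrimes) (hpQ : p ≤ Q') (hqQ : q ≤ Q') (a b c : ℕ)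
    (ha : ringKrullDim (S ⧸ p) = a) (hb : ringKrullDim (S ⧸ q) = b) (hc : ringKrullDim (S ⧸ Q') = c) :
    a + b ≤ c + N := by
  classical
  let r := g
  let T := (S ⧸ p) ⊗[k] (S ⧸ q)
  let i1 : S →ₐ[k] T := (Algebra.TensorProduct.includeLeft : (S ⧸ p) →ₐ[k] T).comp (Ideal.Quotient.mkₐ k p)
  let i2 : S →ₐ[k] T := (Algebra.TensorProduct.includeRight : (S ⧸ q) →ₐ[k] T).comp (Ideal.Quotient.mkₐ k q)
  let E : Finset T := Finset.univ.image fun i => i1 (g i) - i2 (g i)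
  let μ : T →ₐ[k] S ⧸ Q' := Algebra.TensorProduct.lift (Ideal.Quotient.factorₐ k hpQ) (Ideal.Quotient.factorₐ k hqQ) fun _ _ => .all _ _
  have hμ1 : ∀ a, μ (i1 a) = Ideal.Quotient.mk Q' a := fun a => by
    show μ (Ideal.Quotient.mk p a ⊗ₜ[k] (1 : S ⧸ q)) = _
    rw [Algebra.TensorProduct.lift_tmul, map_one, mul_one]; rfl
  have hμ2 : ∀ a, μ (i2 a) = Ideal.Quotient.mk Q' a := fun a => by
    show μ ((1 : S ⧸ p) ⊗ₜ[k] Ideal.Quotient.mk q a) = _
    rw [Algebra.TensorProduct.lift_tmul, map_one, one_mul]; rfl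
  let D : Ideal T := Ideal.span (E : Set T)
  have hdiff : ∀ a, i1 a - i2 a ∈ D := by
    have h : (Ideal.Quotient.mkₐ k D).comp i1 = (Ideal.Quotient.mkₐ k D).comp i2 :=
      AlgHom.ext_of_adjoin_eq_top hg fun x hx => by
        obtain ⟨i, rfl⟩ := hx
        exact Ideal.Quotient.eq.2 (Ideal.subset_span (by
          simp only [E, Finset.coe_image, Finset.coe_univ, Set.image_univ]; exact ⟨i, rfl⟩))
    exact fun a => Ideal.Quotient.eq.1 (AlgHom.congr_fun h a)
  have hrep : ∀ t : T, ∃ a, t - i2 a ∈ D := by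
    intro t
    induction t using TensorProduct.induction_on with
    | zero => exact ⟨0, by simp⟩
    | tmul u v =>
      obtain ⟨a, rfl⟩ := Ideal.Quotient.mk_surjective u
      obtain ⟨b, rfl⟩ := Ideal.Quotient.mk_surjective v
      refine ⟨a * b, ?_⟩
      have : (Ideal.Quotient.mk p a ⊗ₜ[k] Ideal.Quotient.mk q b : T) = i1 a * i2 b := by
        show _ = (Ideal.Quotient.mk p a ⊗ₜ[k] (1 : S ⧸ q)) * ((1 : S ⧸ p) ⊗ₜ[k] Ideal.Quotient.mk q b)
        rw [Algebra.TensorProduct.tmul_mul_tmul, mul_one, one_mul]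
      rw [this, map_mul, ← sub_mul]
      exact Ideal.mul_mem_right _ _ (hdiff a)
    | add u v hu hv =>
      obtain ⟨a, ha⟩ := hu
      obtain ⟨b, hb⟩ := hv
      exact ⟨a + b, by rw [map_add, add_sub_add_comm]; exact add_mem ha hb⟩
  have hμs : Function.Surjective μ := fun z => by
    obtain ⟨a, rfl⟩ := Ideal.Quotient.mk_surjective z
    exact ⟨i2 a, hμ2 a⟩
  let Q : Ideal T := RingHom.ker μ
  have hQp : Q.IsPrime := RingHom.ker_isPrime _
  have hDQ : D ≤ Q := Ideal.span_le.2 fun e he => by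
    obtain ⟨i, -, rfl⟩ := Finset.mem_image.1 he
    show μ (i1 (g i) - i2 (g i)) = 0
    rw [map_sub, hμ1, hμ2, sub_self]
  have hQmin : ∀ J : Ideal T, J.IsPrime → D ≤ J → J ≤ Q → Q ≤ J := by
    intro J hJ hDJ hJQ
    let J' : Ideal S := J.comap i2
    have h1 : p ⊔ q ≤ J' := sup_le (fun a ha => by
        have h0 : i1 a = 0 := by
          show (Ideal.Quotient.mk p a ⊗ₜ[k] (1 : S ⧸ q)) = 0
          rw [Ideal.Quotient.eq_zero_iff_mem.2 ha, TensorProduct.zero_tmul]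
        have := hDJ (hdiff a)
        rw [h0, zero_sub, neg_mem_iff] at this
        exact this)
      (fun a ha => by
        show i2 a ∈ J
        rw [show i2 a = 0 from by
          show ((1 : S ⧸ p) ⊗ₜ[k] Ideal.Quotient.mk q a) = 0
          rw [Ideal.Quotient.eq_zero_iff_mem.2 ha, TensorProduct.tmul_zero]]
        exact zero_mem _)
    have h2 : Q' ≤ J' := hQ'.2 ⟨Ideal.comap_isPrime i2 J, h1⟩ fun a ha => by
      have := hJQ (show i2 a ∈ J from ha)
      rw [RingHom.mem_ker, hμ2, Ideal.Quotient.eq_zero_iff_mem] at this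
      exact this
    intro t ht
    obtain ⟨a, ha⟩ := hrep t
    have hta : μ (t - i2 a) = 0 := hDQ ha
    have haQ : a ∈ Q' := by
      rw [map_sub, show μ t = 0 from ht, zero_sub, neg_eq_zero, hμ2, Ideal.Quotient.eq_zero_iff_mem] at hta
      exact hta
    have := add_mem (hDJ ha) (show i2 a ∈ J from h2 haQ)
    rwa [sub_add_cancel] at this
  have : Algebra.FiniteType k T := Algebra.FiniteType.trans (S := S ⧸ p) inferInstance inferInstance
  obtain ⟨P, hP, hPQ⟩ := Ideal.exists_minimalPrimes_le (I := (⊥ : Ideal T)) (J := Q) bot_le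
  have hPp : P.IsPrime := hP.1.1
  have hdimP : ringKrullDim (T ⧸ P) = ((a + b : ℕ) : WithBot ℕ∞) := by
    rw [DimLib.minimalPrime_tensor_domain k (S ⧸ p) (S ⧸ q) hP, ha, hb]
    push_cast; rfl
  have hdimQ : ringKrullDim (T ⧸ Q) = (c : WithBot ℕ∞) :=
    (ringKrullDim_eq_of_ringEquiv (RingHom.quotientKerEquivOfSurjective (f := μ.toRingHom) hμs)).trans hc
  refine krull_bound k T P Q hPQ E hDQ hQmin a b c N ?_ hdimP hdimQ
  exact Finset.card_image_le.trans (by simp)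

theorem exists_prime_inter (k : Type u) [Field k] (n : ℕ) (p q : Ideal (MvPolynomial (Fin (n + 1)) k))
    [hp : p.IsPrime] [hq : q.IsPrime] (hh : (p ⊔ q).IsHomogeneous (CohB1.polyGrading n k))
    (hp0 : p ≤ DimLib.PN.m0 n k) (hq0 : q ≤ DimLib.PN.m0 n k) :
    ∃ Q : Ideal (MvPolynomial (Fin (n + 1)) k), Q.IsPrime ∧ Q.IsHomogeneous (CohB1.polyGrading n k) ∧
      p ≤ Q ∧ q ≤ Q ∧ DimLib.PN.cdim p + DimLib.PN.cdim q ≤ DimLib.PN.cdim Q + (n + 1) := by
  have hm0 : (DimLib.PN.m0 n k).IsPrime := DimLib.PN.m0_isPrime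
  obtain ⟨Q', hQ', -⟩ := Ideal.exists_minimalPrimes_le (I := p ⊔ q) (J := DimLib.PN.m0 n k) (sup_le hp0 hq0)
  have hQ'p : Q'.IsPrime := hQ'.1.1
  exact ⟨Q', hQ'p, DimLib.PN.isHomogeneous_of_mem_minimalPrimes hh hQ', le_sup_left.trans hQ'.1.2,
    le_sup_right.trans hQ'.1.2, dim_minimalPrime_sup k _ MvPolynomial.X MvPolynomial.adjoin_range_X p q Q' hQ'
      (le_sup_left.trans hQ'.1.2) (le_sup_right.trans hQ'.1.2) _ _ _
      (DimLib.PN.cdim_eq hp) (DimLib.PN.cdim_eq hq) (DimLib.PN.cdim_eq hQ'p)⟩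

/-- Let k be a field, n ≥ 0 and X, Y ⊆ P^n_k nonempty closed subsets of dimensions r and s with r + s ≥
n. Then X ∩ Y is nonempty and dim(X ∩ Y) ≥ r + s − n. -/
theorem result (k : Type u) [Field k] (n r s : ℕ)
    (X Y : Set ↥(CohB1.ProjSpace n k)) (hX : IsClosed X) (hY : IsClosed Y)
    (hXne : X.Nonempty) (hYne : Y.Nonempty)
    (hXr : topologicalKrullDim X = r) (hYs : topologicalKrullDim Y = s) (hrs : n ≤ r + s) :
    (X ∩ Y).Nonempty ∧ ((r + s : ℕ) : WithBot ℕ∞) ≤ topologicalKrullDim ↥(X ∩ Y) + (n : WithBot ℕ∞) := by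
  classical
  let π := CohB1.ProjSpace.toSpec n k
  have hmax : ∀ (Z : Set ↥(CohB1.ProjSpace n k)), IsClosed Z → ∀ d : ℕ, topologicalKrullDim Z = d →
      ∃ z ∈ Z, DimLib.ptDim π z = d := by
    intro Z hZ d hd
    rw [DimLib.topologicalKrullDim_closed_eq_iSup π hZ] at hd
    by_contra hc
    push Not at hc
    rcases Nat.eq_zero_or_pos d with rfl | hd0
    · rcases isEmpty_or_nonempty Z with h | h
      · rw [iSup_of_empty] at hd; exact absurd hd (by simp)
      · obtain ⟨a⟩ := h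
        have h1 := (le_iSup (fun a : Z => (DimLib.ptDim π a.1 : WithBot ℕ∞)) a).trans hd.le
        exact hc a.1 a.2 (Nat.le_zero.1 (by exact_mod_cast h1))
    have hle : (⨆ a : Z, (DimLib.ptDim π a.1 : WithBot ℕ∞)) ≤ ((d - 1 : ℕ) : WithBot ℕ∞) := iSup_le fun a => by
      have h1 := (le_iSup (fun a : Z => (DimLib.ptDim π a.1 : WithBot ℕ∞)) a).trans hd.le
      have h2 : DimLib.ptDim π a.1 ≤ d := by exact_mod_cast h1
      have := hc a.1 a.2
      exact_mod_cast (show DimLib.ptDim π a.1 ≤ d - 1 by omega)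
    rw [hd] at hle
    have : d ≤ d - 1 := by exact_mod_cast hle
    omega
  obtain ⟨x, hxX, hx⟩ := hmax X hX r hXr
  obtain ⟨y, hyY, hy⟩ := hmax Y hY s hYs
  obtain ⟨x, rfl⟩ : ∃ x' : ProjectiveSpectrum (CohB1.polyGrading n k), DimLib.PN.pt x' = x := ⟨x, rfl⟩
  obtain ⟨y, rfl⟩ : ∃ y' : ProjectiveSpectrum (CohB1.polyGrading n k), DimLib.PN.pt y' = y := ⟨y, rfl⟩
  have := x.isPrime
  have := y.isPrime
  obtain ⟨Q, hQp, hQh, hxQ, hyQ, hdim⟩ := exists_prime_inter k n x.asHomogeneousIdeal.toIdeal y.asHomogeneousIdeal.toIdeal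
    (x.asHomogeneousIdeal.isHomogeneous.sup y.asHomogeneousIdeal.isHomogeneous)
    (DimLib.PN.le_m0 x.isPrime x.asHomogeneousIdeal.isHomogeneous) (DimLib.PN.le_m0 y.isPrime y.asHomogeneousIdeal.isHomogeneous)
  have hx1 := DimLib.PN.ptDim_add_one x
  have hy1 := DimLib.PN.ptDim_add_one y
  simp only [π, DimLib.PN.pt] at hx hy hx1 hy1
  have hne : Q ≠ DimLib.PN.m0 n k := fun e => by
    rw [e, DimLib.PN.cdim_m0] at hdim; omega
  obtain ⟨z, rfl⟩ := DimLib.PN.exists_point hQp hQh hne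
  have hzX : DimLib.PN.pt z ∈ X := ((DimLib.PN.specializes_iff x z).2 hxQ).mem_closed hX hxX
  have hzY : DimLib.PN.pt z ∈ Y := ((DimLib.PN.specializes_iff y z).2 hyQ).mem_closed hY hyY
  refine ⟨⟨_, hzX, hzY⟩, ?_⟩
  have hz1 := DimLib.PN.ptDim_add_one z
  rw [DimLib.topologicalKrullDim_closed_eq_iSup π (hX.inter hY)]
  refine le_trans ?_ (add_le_add (le_iSup (fun a : ↥(X ∩ Y) => (DimLib.ptDim π a.1 : WithBot ℕ∞)) ⟨DimLib.PN.pt z, hzX, hzY⟩) le_rfl)
  simp only [π, DimLib.PN.pt] at hz1 ⊢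
  exact_mod_cast (show r + s ≤ DimLib.ptDim (CohB1.ProjSpace.toSpec n k) z + n by omega)

end Groth.Agent.S7675
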