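import Groth.Statements.S7676
import Groth.Agent.HypLib.CompCoord
import Groth.Agent.HypLib.LinForm
import Groth.Agent.UPLib.SecKernel
import Groth.Agent.Coherent.ProjSpaceFinite
import Groth.Agent.PnEmb.Criterion

set_option autoImplicit false
set_option backward.isDefEq.respectTransparency.types false
set_option maxHeartbeats 2000000
universe u
open CategoryTheory CategoryTheory.Limits AlgebraicGeometry
open Variety

namespace Groth.Agent.S7676

open Groth.Agent Groth.Agent.Coherent Groth.Agent.PicLib Groth.Agent.AmpleLib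

/-- Let k be a field, n ≥ 1 and i : H → P^n_k a hyperplane, the zero scheme of a nonzero section of
O(1). Then there is an isomorphism φ : P^{n-1}_k → H under which i^*O(1) pulls back to O(1).
(Indexed here with P^{n+1} and P^n.) -/
theorem result (k : Type u) [Field k] (n : ℕ)
    (s : Coh.structureModule (CohB1.ProjSpace (n + 1) k) ⟶ Twist.twistProjSpace (n + 1) k 1) (hs : s ≠ 0) :
    ∃ φ : CohB1.ProjSpace n k ≅ (PicF2.zeroScheme _ s).subscheme,
      Nonempty ((Scheme.Modules.pullback (φ.hom ≫ (PicF2.zeroScheme _ s).subschemeι)).obj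
          (Twist.twistProjSpace (n + 1) k 1) ≅ Twist.twistProjSpace n k 1) := by
  classical
  let O1 := Twist.twistProjSpace (n + 1) k 1
  let O0 := Twist.twistProjSpace n k 1
  have hL := HypLib.isInvertible_one (R := k) (n + 1)
  have hL0 := HypLib.isInvertible_one (R := k) n
  obtain ⟨c, hc⟩ := HypLib.exists_lsec (n + 1) s
  obtain ⟨j, hj⟩ : ∃ j, c j ≠ 0 := by
    by_contra! h
    refine hs ?_
    rw [← unitDesc_unitVal s, ← unitDesc_unitVal (0 : Coh.structureModule (CohB1.ProjSpace (n + 1) k) ⟶ O1), hc,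
      show c = 0 from funext h]
    congr 1
    have hz := (HypLib.lsec_add (R := k) (n + 1) 0 0).symm
    rw [add_zero] at hz
    exact (add_eq_left.1 hz).trans rfl
  let ι := (PicF2.zeroScheme O1 s).subschemeι
  let q₀ := CohB1.ProjSpace.toSpec n k
  let q₁ := CohB1.ProjSpace.toSpec (n + 1) k
  let b : Fin (n + 1) → k := fun m => c (j.succAbove m) / c j
  have hb : ∀ m, c j * b m = c (j.succAbove m) := fun m => mul_div_cancel₀ _ hj
  -- the inclusion of the hyperplane
  let sj : Γ(O0, ⊤) := -∑ m, ProjUP.toGlobal q₀ (b m) • (show Γ(O0, ⊤) from ProjUP.coord n k m)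
  let sec : Fin (n + 2) → ProjUP.Γm O0 := Fin.insertNth j sj (ProjUP.coord n k)
  have hsec : ∀ m, sec (j.succAbove m) = ProjUP.coord n k m := fun m => Fin.insertNth_apply_succAbove j _ _ m
  have hsecj : sec j = sj := Fin.insertNth_apply_same j _ _
  obtain ⟨r, hr, τ, hτ⟩ := UPLib.exists_hom_projSpace (n + 1) q₀ hL0 sec (fun x => by
    obtain ⟨m, hm⟩ := UPLib.exists_degOne_projSpace (R := CommRingCat.of k) n x
    refine ⟨j.succAbove m, ?_⟩
    rw [hsec]
    exact (UPLib.glocus_sec (𝒜 := CohB1.polyGrading n k) (HypLib.hgen n) (MvPolynomial.isHomogeneous_X k m)).ge hm)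
  have h0 : ProjUP.pullSec r O1 (HypLib.lsec (n + 1) c) = 0 := by
    rw [HypLib.pullSec_lsec, hr]
    apply ((ConcreteCategory.bijective_of_isIso (τ.hom.app ⊤)).1)
    rw [map_sum, map_zero]
    simp only [Scheme.Modules.Hom.app_smul, hτ]
    rw [Fin.sum_univ_succAbove _ j, hsecj]
    simp only [hsec]
    show ProjUP.toGlobal q₀ (c j) • (-∑ m, ProjUP.toGlobal q₀ (b m) • _) + _ = (0 : Γ(O0, ⊤))
    rw [smul_neg, Finset.smul_sum, neg_add_eq_zero]
    refine Finset.sum_congr rfl fun m _ => ?_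
    rw [smul_smul, ← map_mul, hb]
  have : IsProper q₀ := Coherent.isProper_projSpace_toSpec n k
  have : IsProper q₁ := Coherent.isProper_projSpace_toSpec (n + 1) k
  have : IsProper r := by
    have : IsProper (r ≫ q₁) := by rw [hr]; infer_instance
    exact IsProper.of_comp r q₁
  have hker : ι.ker ≤ r.ker := by
    rw [Scheme.IdealSheafData.ker_subschemeι]
    exact HypLib.zeroScheme_le_ker r hL s ((congrArg (ProjUP.pullSec r O1) hc).trans h0)
  let φ := IsClosedImmersion.lift ι r hker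
  have hφ : φ ≫ ι = r := IsClosedImmersion.lift_fac ι r hker
  -- the projection from the point
  let qH := ι ≫ q₁
  let L := (Scheme.Modules.pullback ι).obj O1
  have hLH : PicF.IsInvertible L := PicLoc.isInvertible_pullback ι hL
  let t : Fin (n + 2) → Γ(L, ⊤) := fun i => ProjUP.pullSec ι O1 (ProjUP.coord (n + 1) k i)
  have hz : (ProjUP.pullSec ι O1 (HypLib.lsec (n + 1) c) : Γ(L, ⊤)) = 0 :=
    (congrArg (ProjUP.pullSec ι O1) hc).symm.trans (HypLib.pullSec_subschemeι hL s)
  have hrel : ∑ i, ProjUP.toGlobal qH (c i) • t i = 0 := by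
    rw [← hz, HypLib.pullSec_lsec]
  have htj : t j = -∑ m, ProjUP.toGlobal qH (b m) • t (j.succAbove m) := by
    rw [eq_neg_iff_add_eq_zero]
    apply ((IsUnit.mk0 _ hj).map (ProjUP.toGlobal qH)).smul_left_cancel.1
    rw [smul_zero, smul_add, Finset.smul_sum]
    refine Eq.trans ?_ hrel
    rw [Fin.sum_univ_succAbove _ j]
    congr 1
    refine Finset.sum_congr rfl fun m _ => ?_
    rw [smul_smul, ← map_mul, hb]
  obtain ⟨ψ, hψ, σ, hσ⟩ := UPLib.exists_hom_projSpace n qH hLH (fun m => t (j.succAbove m)) (fun x => by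
    by_contra! hx
    have hmem : ∀ m, (MvPolynomial.X (j.succAbove m) : MvPolynomial (Fin (n + 2)) k) ∈
        (ι x).asHomogeneousIdeal.toIdeal := fun m => by
      by_contra hm
      exact hx m ((UPLib.preimage_basicOpen_eq (𝒜 := CohB1.polyGrading (n + 1) k) (HypLib.hgen (n + 1)) ι
        (MvPolynomial.isHomogeneous_X k (j.succAbove m))).ge hm)
    have hlin : UPLib.linForm (n + 1) c ∈ (ι x).asHomogeneousIdeal.toIdeal := by
      by_contra hm
      have h := (UPLib.preimage_basicOpen_eq (𝒜 := CohB1.polyGrading (n + 1) k) (HypLib.hgen (n + 1)) ι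
        (UPLib.linForm_mem (n + 1) c)).ge hm
      have h' : x ∈ glocus L (0 : Γ(L, ⊤)) := by
        rw [← hz]
        exact h
      rw [HypLib.glocus_zero hLH] at h'
      exact h'
    obtain ⟨i, hi⟩ := UPLib.exists_degOne_projSpace (R := CommRingCat.of k) (n + 1) (ι x)
    refine hi ?_
    rcases Fin.eq_self_or_eq_succAbove j i with rfl | ⟨m, rfl⟩
    · rw [UPLib.linForm, Module.Basis.constr_apply_fintype, Fin.sum_univ_succAbove _ i,
        Submodule.add_mem_iff_left _ (sum_mem fun m _ => Submodule.smul_of_tower_mem _ _ (hmem m))] at hlin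
      have hu : IsUnit (MvPolynomial.C (σ := Fin (n + 2)) (c i)) := (IsUnit.mk0 _ hj).map _
      rw [MvPolynomial.smul_eq_C_mul] at hlin
      exact (Ideal.unit_mul_mem_iff_mem _ hu).1 hlin
    · exact hmem m)
  have hcompψ : ψ ≫ r = ι := by
    obtain ⟨e, he⟩ := RelVALib.exists_compIso ψ r (ψ ≫ r) rfl O1
    let θ := e ≪≫ (Scheme.Modules.pullback ψ).mapIso τ ≪≫ σ
    refine UPLib.eq_of_iso_projSpace (n + 1) (by rw [Category.assoc, hr]; exact hψ) θ fun i => ?_
    have h1 : e.hom.app ⊤ (ProjUP.pullSec (ψ ≫ r) O1 (ProjUP.coord (n + 1) k i)) =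
        PicLib.pullSec ψ (U := ⊤) (ProjUP.pullSec r O1 (ProjUP.coord (n + 1) k i)) :=
      (he ⊤ _ le_rfl).trans (resM_self _ _ _)
    show σ.hom.app ⊤ (((Scheme.Modules.pullback ψ).map τ.hom).app ⊤ (e.hom.app ⊤ _)) = _
    rw [h1]
    refine (congrArg _ ((AmpleLib.pullback_map_app_pullSec ψ τ.hom _).trans (congrArg _ (hτ i)))).trans ?_
    show σ.hom.app ⊤ (PicLib.pullSec ψ (U := ⊤) (sec i)) = t i
    rcases Fin.eq_self_or_eq_succAbove j i with rfl | ⟨m, rfl⟩
    · rw [hsecj, htj]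
      show σ.hom.app ⊤ ((((Scheme.Modules.pullbackPushforwardAdjunction ψ).unit.app O0).app ⊤)
        (-∑ m, ProjUP.toGlobal q₀ (b m) • (show Γ(O0, ⊤) from ProjUP.coord n k m))) = _
      rw [map_neg, map_sum]
      refine (map_neg (σ.hom.app ⊤).hom _).trans (congrArg Neg.neg ((map_sum (σ.hom.app ⊤).hom _ _).trans
        (Finset.sum_congr rfl fun m _ => ?_)))
      refine ((congrArg _ (PicLib.pullSec_smul ψ (U := ⊤) _ _)).trans (Scheme.Modules.Hom.app_smul _ _ _)).trans ?_
      refine congrArg₂ (· • ·) ?_ (hσ m)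
      rw [← hψ]
      rfl
    · rw [hsec]
      exact hσ m
  have h2 : ψ ≫ φ = 𝟙 _ := by
    rw [← cancel_mono ι, Category.assoc, hφ, Category.id_comp, hcompψ]
  have h1 : φ ≫ ψ = 𝟙 _ := by
    obtain ⟨θ, hθ⟩ := HypLib.exists_iso_of_fac φ ι r hφ O1 τ
    obtain ⟨Θ, hΘ⟩ := HypLib.exists_iso_comp φ ψ O0 σ θ
    obtain ⟨J, hJ⟩ := HypLib.exists_iso_id O0
    refine UPLib.eq_of_iso_projSpace n
      (by rw [Category.assoc, hψ, Category.id_comp, ← Category.assoc, hφ]; exact hr) (Θ ≪≫ J) fun m => ?_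
    have e1 := hΘ (ProjUP.coord n k m)
    have e2 : σ.hom.app ⊤ (PicLib.pullSec ψ (U := ⊤) (ProjUP.coord n k m)) = t (j.succAbove m) := hσ m
    have e3 := hθ (ProjUP.coord (n + 1) k (j.succAbove m))
    have e4 : τ.hom.app ⊤ (PicLib.pullSec r (U := ⊤) (ProjUP.coord (n + 1) k (j.succAbove m))) =
        ProjUP.coord n k m := (hτ _).trans (hsec m)
    show J.hom.app ⊤ (Θ.hom.app ⊤ (ProjUP.pullSec (φ ≫ ψ) O0 (ProjUP.coord n k m))) = _
    refine (congrArg (fun z => J.hom.app ⊤ z)
      (((e1.trans (congrArg (fun z => θ.hom.app ⊤ (PicLib.pullSec φ (U := ⊤) z)) e2)).trans e3).trans e4)).trans ?_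
    exact hJ _
  exact ⟨⟨φ, ψ, h1, h2⟩, ⟨(Scheme.Modules.pullbackCongr hφ).app O1 ≪≫ τ⟩⟩

end Groth.Agent.S7676
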