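import Groth.Statements.S7677
import Groth.Agent.SerreDual.ExtShProj
import Groth.Agent.Coherent.Serre.Vanishing

set_option autoImplicit false
universe u
open CategoryTheory CategoryTheory.Limits AlgebraicGeometry
open Variety
open Groth.Agent Groth.Agent.Coherent Groth.Agent.SerreDual

namespace Groth.Agent.S7677

/-- Let k be a field, n ≥ 0 and F a coherent module on P^n_k with Hilbert polynomial P, i.e. χ(P^n_k,
F(d)) = P(d) for all d. Then P(d) = dim_k H^0(P^n_k, F(d)) for all d ≫ 0. -/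
theorem result (k : Type u) [Field k] (n : ℕ)
    (F : (CohB1.ProjSpace n k).Modules) (hF : Coh.IsCoh F) (P : Polynomial ℚ)
    (hP : ∀ d : ℤ, (Curv2.euler k (CohB1.ProjSpace n k)
      (CohB1.tensorMod F (Twist.twistProjSpace n k d)) : ℚ) = P.eval (d : ℚ)) :
    ∃ d₀ : ℤ, ∀ d : ℤ, d₀ ≤ d →
      P.eval (d : ℚ) = (Module.finrank k (Coh.HH (CohB1.ProjSpace n k)
        (CohB1.tensorMod F (Twist.twistProjSpace n k d)) 0) : ℚ) := by
  haveI : IsProper ((CohB1.ProjSpace n k) ↘ Spec (CommRingCat.of k)) := isProper_projSpace_toSpec n k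
  obtain ⟨n₀, hn₀⟩ := Groth.Agent.Coherent.Serre.exists_subsingleton_HH_twist k
    (isAmple_projSpace_one n k) F hF
  refine ⟨n₀, fun d hd => ?_⟩
  obtain ⟨m, rfl⟩ : ∃ m : ℕ, d = m := ⟨d.toNat, by omega⟩
  obtain ⟨et⟩ := TwistLib.nonempty_twist_pow_iso (exists_degree_one n k) m
  let et' : Twist.twistProjSpace n k (m : ℤ) ≅ CohB1.tensorPow (Twist.twistProjSpace n k 1) m := et
  have h : Curv2.euler k (CohB1.ProjSpace n k) (CohB1.tensorMod F (Twist.twistProjSpace n k (m : ℤ))) =
      (Module.finrank k (Coh.HH (CohB1.ProjSpace n k)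
        (CohB1.tensorMod F (Twist.twistProjSpace n k (m : ℤ))) 0) : ℤ) := by
    unfold Curv2.euler
    rw [finsum_eq_single _ 0 fun i hi => ?_]
    · simp
    · haveI : Subsingleton (Coh.HH (CohB1.ProjSpace n k)
          (CohB1.tensorMod F (Twist.twistProjSpace n k (m : ℤ))) i) :=
        Coherent.Serre.HH_subsingleton_of_iso k (AmpleLib.tensorIso (Iso.refl F) et').symm i
          (hn₀ m (by omega) i (Nat.pos_of_ne_zero hi))
      simp [Module.finrank_zero_of_subsingleton]
  rw [← hP, h]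
  push_cast
  rfl

end Groth.Agent.S7677
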