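import Groth.Statements.S7678
import Groth.Agent.S1541

set_option autoImplicit false
universe u
open CategoryTheory CategoryTheory.Limits AlgebraicGeometry
open Variety
open Groth.Agent
open scoped TensorProduct
attribute [local instance] Curv2.stalkAlgebra

namespace Groth.Agent.S7678

/-- The field `k` as an algebra over itself by Frobenius. -/
def Fr (k : Type u) [Field k] (p : ℕ) [Fact p.Prime] [CharP k p] : Type u := k

noncomputable instance (k : Type u) [Field k] (p : ℕ) [Fact p.Prime] [CharP k p] : Field (Fr k p) :=
  inferInstanceAs (Field k)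

noncomputable instance (k : Type u) [Field k] (p : ℕ) [Fact p.Prime] [CharP k p] : Algebra k (Fr k p) :=
  (frobenius k p : k →+* Fr k p).toAlgebra

/-- The identity `k → Fr k p`, which is additive and multiplicative. -/
def toFr (k : Type u) [Field k] (p : ℕ) [Fact p.Prime] [CharP k p] : k →+* Fr k p := RingHom.id k

theorem algebraMap_Fr (k : Type u) [Field k] (p : ℕ) [Fact p.Prime] [CharP k p] (c : k) :
    algebraMap k (Fr k p) c = toFr k p c ^ p := rfl

/-- Coefficients of a tensor on an independent family. -/
theorem tmul_sum_eq_zero (k S : Type u) [Field k] [CommRing S] [Algebra k S] (L : Type u) [Field L] [Algebra k L]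
    {ι : Type u} {s : ι → S} (hs : LinearIndependent k s) (t : Finset ι) (r : ι → L)
    (h : ∑ i ∈ t, r i ⊗ₜ[k] s i = 0) : ∀ i ∈ t, r i = 0 := by
  classical
  have hs' := hs.linearIndepOn_id
  let B := Module.Basis.extend hs'
  have hB : ∀ i, ∃ e, B e = s i ∧ (e : S) = s i := fun i =>
    ⟨⟨s i, hs'.subset_extend _ ⟨i, rfl⟩⟩, Module.Basis.extend_apply_self _ _, rfl⟩
  choose e he he' using hB
  intro i hi
  have h2 := congrArg (fun z => (Algebra.TensorProduct.basis L B).repr z (e i)) h
  simp only [map_sum, map_zero, Finsupp.zero_apply, Finsupp.finsetSum_apply,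
    Algebra.TensorProduct.basis_repr_tmul] at h2
  rw [Finset.sum_eq_single_of_mem i hi] at h2
  · simpa [← he i] using h2
  · intro j _ hji
    have hne : e j ≠ e i := fun heq => hji (hs.injective (by rw [← he' j, heq, he' i]))
    simp [← he j, hne]

/-- Mac Lane's criterion for algebras: reducedness of the Frobenius twist gives geometric reducedness. -/
theorem isGeometricallyReduced_of_frobenius (k : Type u) [Field k] (p : ℕ) [Fact p.Prime] [CharP k p]
    (S : Type u) [CommRing S] [Algebra k S] [_root_.IsReduced (Fr k p ⊗[k] S)] :
    Algebra.IsGeometricallyReduced k S := by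
  classical
  have hp : p.Prime := Fact.out
  cases subsingleton_or_nontrivial S with
  | inl h =>
    rw [Algebra.isGeometricallyReduced_field_iff]
    haveI : Subsingleton (AlgebraicClosure k ⊗[k] S) := inferInstance
    exact ⟨fun x _ => Subsingleton.elim _ _⟩
  | inr h =>
    haveI : CharP S p := charP_of_injective_algebraMap (algebraMap k S).injective p
    haveI : CharP (Fr k p ⊗[k] S) p :=
      charP_of_injective_ringHom (f := (Algebra.TensorProduct.includeRight : S →ₐ[k] Fr k p ⊗[k] S).toRingHom)
        (Algebra.TensorProduct.includeRight_injective (RingHom.injective _)) p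
    have hML : ∀ {ι : Type u} (s : ι → S), LinearIndependent k s → LinearIndependent k fun i => s i ^ p := by
      intro ι s hs
      rw [linearIndependent_iff']
      intro t c hc i hi
      let x : Fr k p ⊗[k] S := ∑ j ∈ t, toFr k p (c j) ⊗ₜ[k] s j
      have hxp : x ^ p = 0 := by
        rw [sum_pow_char]
        calc ∑ j ∈ t, (toFr k p (c j) ⊗ₜ[k] s j) ^ p = ∑ j ∈ t, (1 : Fr k p) ⊗ₜ[k] (c j • s j ^ p) := by
              refine Finset.sum_congr rfl fun j _ => ?_
              rw [Algebra.TensorProduct.tmul_pow, ← algebraMap_Fr, Algebra.algebraMap_eq_smul_one,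
                TensorProduct.smul_tmul]
          _ = 0 := by rw [← TensorProduct.tmul_sum, hc, TensorProduct.tmul_zero]
      have h0 := tmul_sum_eq_zero k S (Fr k p) hs t _ (IsReduced.eq_zero _ ⟨p, hxp⟩) i hi
      exact (toFr k p).injective (h0.trans (map_zero _).symm)
    rw [Algebra.isGeometricallyReduced_field_iff]
    let Ω := AlgebraicClosure k
    haveI : CharP (Ω ⊗[k] S) p :=
      charP_of_injective_ringHom (f := (Algebra.TensorProduct.includeRight : S →ₐ[k] Ω ⊗[k] S).toRingHom)
        (Algebra.TensorProduct.includeRight_injective (RingHom.injective _)) p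
    rw [isReduced_iff_pow_one_lt p hp.one_lt]
    intro x hx
    let β := Module.Basis.ofVectorSpace k S
    let B := Algebra.TensorProduct.basis Ω β
    have hx' : x = ∑ j ∈ (B.repr x).support, B.repr x j ⊗ₜ[k] β j := by
      conv_lhs => rw [← B.linearCombination_repr x]
      rw [Finsupp.linearCombination_apply, Finsupp.sum]
      refine Finset.sum_congr rfl fun j _ => ?_
      simp only [B, Algebra.TensorProduct.basis_apply, TensorProduct.smul_tmul', smul_eq_mul, mul_one]
    have h1 : ∑ j ∈ (B.repr x).support, ((B.repr x j) ^ p) ⊗ₜ[k] ((β j) ^ p) = 0 := by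
      rw [← hx]
      conv_rhs => rw [hx', sum_pow_char]
      exact Finset.sum_congr rfl fun j _ => by rw [Algebra.TensorProduct.tmul_pow]
    have h2 := tmul_sum_eq_zero k S Ω (hML _ β.linearIndependent) _ _ h1
    refine B.repr.injective ?_
    rw [map_zero]
    ext j
    by_contra hne
    exact hne (eq_zero_of_pow_eq_zero (h2 j (Finsupp.mem_support_iff.2 hne)))


/-- For a field k of positive characteristic p and a k-scheme X, the base change of X along the p-th
power map of k is a reduced scheme exactly when X is geometrically reduced over k. -/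
theorem result (k : Type u) [Field k] (X : Scheme.{u}) [X.Over (Spec (CommRingCat.of k))]
    (p : ℕ) [Fact p.Prime] [CharP k p] :
    GeometricallyReduced (X ↘ (Spec (CommRingCat.of k))) ↔
      IsReduced ↑(pullback (X ↘ (Spec (CommRingCat.of k))) (Spec.map (CommRingCat.ofHom (frobenius k p)))) := by
  let q := X ↘ Spec (CommRingCat.of k)
  constructor
  · intro h
    exact GeometricallyReduced.geometrically_isReduced (f := q) (Spec.map (CommRingCat.ofHom (frobenius k p)))
      _ _ (IsPullback.of_hasPullback _ _)
  · intro h
    haveI : IsReduced (Curv2.bc k X (Fr k p)) := h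
    have hx : ∀ x : X, Algebra.IsGeometricallyReduced k (X.presheaf.stalk x) := fun x => by
      haveI : _root_.IsReduced (X.presheaf.stalk x ⊗[k] Fr k p) := by
        refine isReduced_ofLocalizationMaximal _ fun P hP => ?_
        obtain ⟨e⟩ := VarietyLib.nonempty_stalk_bcLoc_equiv k X (Fr k p) x ⟨P, hP.isPrime⟩
        exact isReduced_of_injective e.symm.toRingHom e.symm.injective
      haveI : _root_.IsReduced (Fr k p ⊗[k] X.presheaf.stalk x) :=
        isReduced_of_injective (Algebra.TensorProduct.comm k (Fr k p) (X.presheaf.stalk x))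
          (Algebra.TensorProduct.comm k (Fr k p) (X.presheaf.stalk x)).injective
      exact isGeometricallyReduced_of_frobenius k p _
    refine ⟨geometrically_iff_of_commRing_of_isClosedUnderIsomorphisms.2 fun K _ _ => ?_⟩
    haveI : ∀ z : Curv2.bc k X K, _root_.IsReduced ((Curv2.bc k X K).presheaf.stalk z) := fun z =>
      haveI := hx (Curv2.bcFst k X K z)
      S1541.isReduced_stalk_of_geomReduced k X _ K z specializes_rfl
    exact isReduced_of_isReduced_stalk (X := Curv2.bc k X K)

end Groth.Agent.S7678
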