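import Groth.Statements.S7680
import Groth.Agent.VarietyLib.NegTwist
import Mathlib

set_option autoImplicit false
universe u
open CategoryTheory CategoryTheory.Limits AlgebraicGeometry
open Variety

namespace Groth.Agent.S7680

open Groth.Agent.AmpleLib Groth.Agent.PicLib Groth.Agent.Coherent Groth.Agent.VarietyLib TopologicalSpace Polynomial
open Groth.Agent.VarietyLib.NegTwist (val act IsMulBy)

variable {X : Scheme.{u}} {M : X.Modules}

theorem isMulBy_unique (hM : PicF.IsInvertible M) {D l m : ℕ} {a : CohB1.tensorPow M D ⟶ Coh.structureModule X}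
    {ψ ψ' : CohB1.tensorPow M l ⟶ CohB1.tensorPow M m} (h : IsMulBy a ψ) (h' : IsMulBy a ψ') : ψ = ψ' :=
  NegTwist.hom_ext_pow hM fun U g => (h U g).trans (h' U g).symm

theorem val_smul_gen {D : ℕ} (a : CohB1.tensorPow M D ⟶ Coh.structureModule X) {U : X.Opens} (g : Γ(M, U))
    (r : Γ(X, U)) : val a (r • g) = r ^ D * val a g := by
  unfold val
  rw [powSec_smul]
  exact a.app_smul (U := U) _ _

theorem isUnit_val_iff {D : ℕ} (a : CohB1.tensorPow M D ⟶ Coh.structureModule X) {U U' : X.Opens}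
    {g : Γ(M, U)} {g' : Γ(M, U')} (hg : IsGen M U g) (hg' : IsGen M U' g') {x : X} (hx : x ∈ U) (hx' : x ∈ U') :
    IsUnit (X.presheaf.germ U x hx (val a g)) ↔ IsUnit (X.presheaf.germ U' x hx' (val a g')) := by
  let W := U ⊓ U'
  have hxW : x ∈ W := ⟨hx, hx'⟩
  have hgW := hg.restrict (inf_le_left : W ≤ U)
  have hgW' := hg'.restrict (inf_le_right : W ≤ U')
  have hu := hgW'.isUnit_coef hgW
  have e := hgW'.coef_spec le_rfl (resM M (inf_le_left : W ≤ U) g)
  rw [resM_self] at e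
  have h1 := congrArg (val a) e.symm
  rw [val_smul_gen, NegTwist.val_resM, NegTwist.val_resM] at h1
  rw [← X.presheaf.germ_res_apply (homOfLE (inf_le_left : W ≤ U)) x hxW, h1, map_mul, map_pow,
    X.presheaf.germ_res_apply (homOfLE (inf_le_right : W ≤ U')) x hxW, IsUnit.mul_iff]
  exact and_iff_right ((hu.map _).pow D)

section Chain

variable {k : Type u} [Field k] [X.Over (Spec (CommRingCat.of k))] (F : X.Modules)

/-- The cohomology of the twists along an arithmetic progression. -/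
abbrev W (M : X.Modules) (mm : ℕ → ℕ) (j : ℕ) : Type u :=
  HA (baseHom k X) (CohB1.tensorMod F (CohB1.tensorPow M (mm j))) (⊤ : X.Opens) 1

variable (mm : ℕ → ℕ) (ψ : ∀ j, CohB1.tensorPow M (mm (j + 1)) ⟶ CohB1.tensorPow M (mm j))

/-- Iterated multiplication down to the base. -/
noncomputable def pi : (j : ℕ) → (W (k := k) F M mm j →ₗ[k] W (k := k) F M mm 0)
  | 0 => LinearMap.id
  | j + 1 => (pi j).comp (act (baseHom k X) F (ψ j) 1)

/-- Acting as `Q` after pushing down to the base. -/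
def Good {D : ℕ} (a : CohB1.tensorPow M D ⟶ Coh.structureModule X) (n : ℕ)
    (Q : Module.End k (W (k := k) F M mm 0)) : Prop :=
  ∀ j l : ℕ, l = j + n → ∀ θ : CohB1.tensorPow M (mm l) ⟶ CohB1.tensorPow M (mm j), IsMulBy a θ →
    ∀ x, pi F mm ψ j (act (baseHom k X) F θ 1 x) = Q (pi F mm ψ l x)

variable {F mm ψ}

theorem good_one (hM : PicF.IsInvertible M) {D : ℕ} {a : CohB1.tensorPow M D ⟶ Coh.structureModule X}
    (ha : ∀ (U : X.Opens) (g : Γ(M, U)), val a g = 1) : Good (k := k) F mm ψ a 0 1 := by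
  intro j l hl θ hθ x
  obtain rfl : l = j := hl
  have e : θ = 𝟙 _ := NegTwist.hom_ext_pow hM fun U g => by rw [hθ, ha, one_smul]; rfl
  subst e
  have e2 : AmpleLib.tensorMap (𝟙 F) (𝟙 (CohB1.tensorPow M (mm l))) = 𝟙 _ :=
    AmpleLib.hom_ext fun U a b => by rw [tensorMap_tmul]; rfl
  show pi F mm ψ l (postA _ _ ⊤ 1 x) = _
  rw [e2, postA_id]
  rfl

theorem good_mul (hM : PicF.IsInvertible M) {D₁ D₂ D n₁ n₂ n : ℕ} (hn : n = n₁ + n₂)
    (hm : ∀ j, mm (j + n₁) = mm j + D₁) (hm₂ : ∀ j, mm (j + n₂) = mm j + D₂)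
    {a : CohB1.tensorPow M D₁ ⟶ Coh.structureModule X} {b : CohB1.tensorPow M D₂ ⟶ Coh.structureModule X}
    {c : CohB1.tensorPow M D ⟶ Coh.structureModule X}
    (hc : ∀ (U : X.Opens) (g : Γ(M, U)), val c g = val a g * val b g)
    {Qa Qb : Module.End k (W (k := k) F M mm 0)} (ha : Good F mm ψ a n₁ Qa) (hb : Good F mm ψ b n₂ Qb) :
    Good F mm ψ c n (Qa * Qb) := by
  intro j l hl θ hθ x
  obtain ⟨ψa, hψa⟩ := NegTwist.exists_mulBy hM a (hm j)
  obtain ⟨ψb, hψb⟩ := NegTwist.exists_mulBy hM b (l := mm l) (m := mm (j + n₁))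
    (by rw [hl, hn, ← add_assoc, hm₂])
  rw [NegTwist.act_mul hM hc hψa hψb hθ, ha j _ rfl ψa hψa,
    hb (j + n₁) l (by rw [hl, hn, add_assoc]) ψb hψb]
  rfl

theorem good_smul (hM : PicF.IsInvertible M) {D n : ℕ} (hm : ∀ j, mm (j + n) = mm j + D)
    {a : CohB1.tensorPow M D ⟶ Coh.structureModule X}
    {Qa : Module.End k (W (k := k) F M mm 0)} (ha : Good F mm ψ a n Qa) (c : k) :
    Good F mm ψ (a ≫ Formal.smulMod k _ c) n (c • Qa) := by
  intro j l hl θ hθ x
  obtain ⟨ψa, hψa⟩ := NegTwist.exists_mulBy hM a (l := mm l) (m := mm j) (by rw [hl, hm])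
  rw [isMulBy_unique hM hθ (NegTwist.isMulBy_smulMod hψa c), NegTwist.act_smulMod, map_smul,
    ha j l hl ψa hψa]
  rfl

theorem good_sum (hM : PicF.IsInvertible M) {D n : ℕ} (hm : ∀ j, mm (j + n) = mm j + D) {ι : Type*}
    (s : Finset ι) (a : ι → (CohB1.tensorPow M D ⟶ Coh.structureModule X))
    (Q : ι → Module.End k (W (k := k) F M mm 0)) (h : ∀ i ∈ s, Good F mm ψ (a i) n (Q i)) :
    Good F mm ψ (∑ i ∈ s, a i) n (∑ i ∈ s, Q i) := by
  classical
  induction s using Finset.induction with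
  | empty =>
    intro j l hl θ hθ x
    have : θ = 0 := NegTwist.hom_ext_pow hM fun U g => by
      rw [hθ, Finset.sum_empty]
      show (0 : Γ(X, U)) • _ = (0 : Γ(CohB1.tensorPow M (mm j), U))
      rw [zero_smul]
    have e2 : AmpleLib.tensorMap (𝟙 F) (0 : CohB1.tensorPow M (mm l) ⟶ CohB1.tensorPow M (mm j)) = 0 :=
      AmpleLib.hom_ext fun U a b => by
        rw [tensorMap_tmul]
        refine Eq.trans ?_ (rfl : (0 : Γ(CohB1.tensorMod F (CohB1.tensorPow M (mm j)), U)) = _)
        exact ((congrArg (fun z => tmul z _) rfl).trans (tmul_smul_right (0 : Γ(X, U)) a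
          (0 : Γ(CohB1.tensorPow M (mm j), U)) |> fun h => by rw [zero_smul, zero_smul] at h; exact h))
    subst this
    show pi F mm ψ j (postA _ _ ⊤ 1 x) = _
    rw [e2, postA_zero, map_zero, Finset.sum_empty]
    rfl
  | insert i s hi ih =>
    intro j l hl θ hθ x
    obtain ⟨ψ₁, hψ₁⟩ := NegTwist.exists_mulBy hM (a i) (l := mm l) (m := mm j) (by rw [hl, hm])
    obtain ⟨ψ₂, hψ₂⟩ := NegTwist.exists_mulBy hM (∑ i ∈ s, a i) (l := mm l) (m := mm j) (by rw [hl, hm])
    rw [Finset.sum_insert hi] at hθ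
    rw [isMulBy_unique hM hθ (NegTwist.isMulBy_add hψ₁ hψ₂), NegTwist.act_add, map_add,
      h i (Finset.mem_insert_self _ _) j l hl ψ₁ hψ₁,
      ih (fun i' hi' => h i' (Finset.mem_insert_of_mem hi')) j l hl ψ₂ hψ₂, Finset.sum_insert hi]
    rfl

end Chain

theorem val_sum {D : ℕ} {ι : Type*} (s : Finset ι) (a : ι → (CohB1.tensorPow M D ⟶ Coh.structureModule X))
    {U : X.Opens} (g : Γ(M, U)) : val (∑ i ∈ s, a i) g = ∑ i ∈ s, val (a i) g :=
  map_sum (AddMonoidHom.mk' (fun b => val b g) fun a b => NegTwist.val_add a b g) a s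

theorem not_closed_of_ass [IsLocallyNoetherian X] {F : X.Modules} (hF : Coh.IsCoh F)
    (hdepth : ∀ x : X, IsClosed ({x} : Set X) → 2 ≤ _root_.LocCoh.depth (X.presheaf.stalk x) (F.presheaf.stalk x))
    {x : X} (hx : x ∈ AssSch.Ass F) : ¬ IsClosed ({x} : Set X) := by
  intro hc
  haveI := AssSch12.finite_stalk hF x
  haveI : Nontrivial (F.presheaf.stalk x) := by
    rw [← not_subsingleton_iff_nontrivial]
    intro hs
    exact (associatedPrimes.eq_empty_of_subsingleton (R := X.presheaf.stalk x) (M := F.presheaf.stalk x)).le hx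
  exact CAlgH3.one_le_depth_iff.1 (le_trans (by norm_num) (hdepth x hc)) hx

/-- Let X be proper over a field k, L an ample invertible module and F a coherent module with depth(F_x)
≥ 2 for every closed point x. Then H^1(X, F ⊗ L^{⊗m}) = 0 for m ≪ 0; negative powers of L are
written as powers of an inverse M of L. -/
theorem result (k : Type u) [Field k] (X : Scheme.{u}) [X.Over (Spec (CommRingCat.of k))] [IsProper (X ↘ (Spec (CommRingCat.of k)))]
    (L : X.Modules) (hL : CohB1.IsAmple L) (M : X.Modules) (hM : ClSub.IsInverseOf L M)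
    (F : X.Modules) (hF : Coh.IsCoh F)
    (hdepth : ∀ x : X, IsClosed ({x} : Set X) → 2 ≤ LocCoh.depth (X.presheaf.stalk x) (F.presheaf.stalk x)) :
    ∃ m₀ : ℕ, ∀ m : ℕ, m₀ ≤ m →
      Subsingleton (Coh.HH X (CohB1.tensorMod F (CohB1.tensorPow M m)) 1) := by
  classical
  obtain ⟨e⟩ := hM
  have hLi : PicF.IsInvertible L := hL.1
  have hMi := Groth.Agent.S7679.isInvertible_inverse hLi e
  haveI : IsLocallyNoetherian X := LocallyOfFiniteType.isLocallyNoetherian (X ↘ Spec (CommRingCat.of k))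
  haveI : CompactSpace X := QuasiCompact.compactSpace_of_compactSpace (X ↘ Spec (CommRingCat.of k))
  haveI := hF.1
  obtain ⟨d₁, hd₁, b₁, hb₁A, -, hb₁aff⟩ := exists_affine_glocus_finite (U := ⊤) hL (AssSch.Ass F)
    (AssSch12.finite_ass F hF) (fun x _ => trivial)
  have hspec : ∀ x : AssSch.Ass F, ∃ z, x.1 ⤳ z ∧ z ∉ glocus _ b₁ := by
    intro x
    by_contra hc
    push_neg at hc
    refine not_closed_of_ass hF hdepth x.2 (Groth.Agent.S7679.isClosed_of_closure_subset_affine k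
      (X ↘ Spec (CommRingCat.of k)) hb₁aff fun z hz => hc z (specializes_iff_mem_closure.2 hz))
  choose z hxz hz using hspec
  haveI := (AssSch12.finite_ass F hF).to_subtype
  obtain ⟨d₂, hd₂, b₂, hb₂A, -, -⟩ := exists_affine_glocus_finite (U := ⊤) hL (Set.range z)
    (Set.finite_range z) (fun x _ => trivial)
  obtain ⟨a₁, ha₁⟩ := NegTwist.exists_hom_of_glocus hLi hMi e b₁
  obtain ⟨a₂, ha₂⟩ := NegTwist.exists_hom_of_glocus hLi hMi e b₂
  obtain ⟨d, hd⟩ : ∃ d, d = d₂ * d₁ := ⟨_, rfl⟩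
  obtain ⟨s, hs⟩ := NegTwist.exists_pow hMi a₁ d₂ d hd
  obtain ⟨t, ht⟩ := NegTwist.exists_pow hMi a₂ d₁ d (hd.trans (mul_comm _ _))
  have hdpos : 0 < d := hd ▸ Nat.mul_pos hd₂ hd₁
  have hsreg : ∀ (U : X.Opens) (g : Γ(M, U)), IsGen M U g → ∀ x (hx : x ∈ U), x ∈ AssSch.Ass F →
      IsUnit (X.presheaf.germ U x hx (val s g)) := fun U g hg x hx hxa => by
    rw [hs, map_pow]; exact ((ha₁ U g hg x hx).2 (hb₁A hxa)).pow _
  obtain ⟨ms, hms⟩ := NegTwist.act_injective (k := k) hL hMi ⟨e⟩ hF hdepth s hsreg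
  have hfin : ∀ l, Module.Finite k (HA (baseHom k X) (CohB1.tensorMod F (CohB1.tensorPow M l)) (⊤ : X.Opens) 1) :=
    fun l => finCoh_of_isProper (X ↘ Spec (CommRingCat.of k)) _ (EulerLib.isCoh_twist (isInvertible_tensorPow hMi l) hF) 1
  suffices hres : ∀ r, ∃ j₀, ∀ j, j₀ ≤ j →
      Subsingleton (HA (baseHom k X) (CohB1.tensorMod F (CohB1.tensorPow M (r + j * d))) (⊤ : X.Opens) 1) by
    choose j₀ hj₀ using hres
    refine ⟨d * ((Finset.range d).sup j₀ + 1), fun n hn => ?_⟩
    have hj : j₀ (n % d) ≤ n / d := by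
      refine (Finset.le_sup (Finset.mem_range.2 (Nat.mod_lt _ hdpos))).trans ((Nat.le_div_iff_mul_le hdpos).2 ?_)
      rw [mul_comm]
      exact le_trans (Nat.mul_le_mul_left d (Nat.le_succ _)) hn
    have h := hj₀ (n % d) (n / d) hj
    rw [mul_comm, Nat.mod_add_div] at h
    exact (HHA (A := k) (CohB1.tensorMod F (CohB1.tensorPow M n)) 1).toEquiv.subsingleton
  intro r
  let m₀ : ℕ → ℕ := fun j => r + (ms + j) * d
  have hm₀ : ∀ j, m₀ (j + 1) = m₀ j + d := fun j => by simp only [m₀]; ring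
  have hge : ∀ j, ms ≤ m₀ j := fun j => by
    have : ms * 1 ≤ (ms + j) * d := Nat.mul_le_mul (Nat.le_add_right _ _) hdpos
    simp only [m₀]; omega
  choose σ hσ using fun j => NegTwist.exists_mulBy hMi s (hm₀ j)
  have hinj : ∀ j, Function.Injective (act (baseHom k X) F (σ j) 1) := fun j =>
    hms _ (hge j) (hm₀ j) _ (hσ j)
  let v : ℕ → ℕ := fun j =>
    Module.finrank k (HA (baseHom k X) (CohB1.tensorMod F (CohB1.tensorPow M (m₀ j))) (⊤ : X.Opens) 1)
  have hv : Antitone v := antitone_nat_of_succ_le fun j => by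
    haveI := hfin (m₀ j)
    exact LinearMap.finrank_le_finrank_of_injective (hinj j)
  let j₁ := Function.argmin v
  have hconst : ∀ j, j₁ ≤ j → v j = v j₁ := fun j hj => le_antisymm (hv hj) (Function.argmin_le v j)
  -- the stable progression
  let mm : ℕ → ℕ := fun j => r + (ms + j₁ + j) * d
  have hmm : ∀ j n, mm (j + n) = mm j + n * d := fun j n => by simp only [mm]; ring
  have hmm1 : ∀ j, mm (j + 1) = mm j + d := fun j => by rw [hmm, one_mul]
  choose ψs hψs using fun j => NegTwist.exists_mulBy hMi s (hmm1 j)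
  choose ψt hψt using fun j => NegTwist.exists_mulBy hMi t (hmm1 j)
  have hge' : ∀ j, ms ≤ mm j := fun j => by
    have := hge (j₁ + j); simp only [m₀, mm] at *; rw [add_assoc ms j₁ j]; exact this
  have hSbij : ∀ j, Function.Bijective (act (baseHom k X) F (ψs j) 1) := fun j => by
    haveI := hfin (mm j)
    haveI := hfin (mm (j + 1))
    have h1 := hms _ (hge' j) (hmm1 j) _ (hψs j)
    refine ⟨h1, (LinearMap.injective_iff_surjective_of_finrank_eq_finrank ?_).1 h1⟩
    have e1 : mm (j + 1) = m₀ (j₁ + (j + 1)) := by simp only [mm, m₀]; ring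
    have e2 : mm j = m₀ (j₁ + j) := by simp only [mm, m₀]; ring
    have := (hconst _ (Nat.le_add_right j₁ (j + 1))).trans (hconst _ (Nat.le_add_right j₁ j)).symm
    simp only [v] at this
    rw [← e1, ← e2] at this
    exact this
  have hπbij : ∀ j, Function.Bijective (pi (k := k) F mm ψs j) := fun j => by
    induction j with
    | zero => exact Function.bijective_id
    | succ j ih => exact ih.comp (hSbij j)
  haveI := hfin (mm 0)
  let S0 := LinearEquiv.ofBijective _ (hSbij 0)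
  let E : Module.End k (W (k := k) F M mm 0) :=
    (act (baseHom k X) F (ψt 0) 1).comp S0.symm.toLinearMap
  have hgs : Good (k := k) F mm ψs s 1 1 := fun j l hl θ hθ x => by
    subst hl
    rw [isMulBy_unique hMi hθ (hψs j)]
    rfl
  have hgt : Good (k := k) F mm ψs t 1 E := by
    intro j
    induction j with
    | zero =>
      intro l hl θ hθ x
      subst hl
      rw [isMulBy_unique hMi hθ (hψt 0)]
      show act _ F (ψt 0) 1 x = act _ F (ψt 0) 1 (S0.symm (S0 x))
      rw [S0.symm_apply_apply]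
    | succ j ih =>
      intro l hl θ hθ x
      subst hl
      rw [isMulBy_unique hMi hθ (hψt (j + 1))]
      show pi F mm ψs j (act _ F (ψs j) 1 (act _ F (ψt (j + 1)) 1 x)) = _
      rw [NegTwist.act_comp_eq hMi (hψs j) (hψt (j + 1)) (hψs (j + 1)) (hψt j), ih _ rfl _ (hψt j)]
      rfl
  let p := E.charpoly
  have hp : p.Monic := E.charpoly_monic
  let n := p.natDegree
  have hpowG : ∀ {Q : Module.End k (W (k := k) F M mm 0)} {a : CohB1.tensorPow M d ⟶ Coh.structureModule X},
      Good (k := k) F mm ψs a 1 Q → ∀ i, ∃ c : CohB1.tensorPow M (i * d) ⟶ Coh.structureModule X,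
        (∀ (U : X.Opens) (g : Γ(M, U)), val c g = val a g ^ i) ∧ Good F mm ψs c i (Q ^ i) := by
    intro Q a hQ i
    induction i with
    | zero =>
      obtain ⟨c, hc⟩ := NegTwist.exists_pow hMi a 0 (0 * d) rfl
      exact ⟨c, hc, by rw [pow_zero]; exact good_one hMi fun U g => by rw [hc, pow_zero]⟩
    | succ i ih =>
      obtain ⟨c, hc, hcG⟩ := ih
      obtain ⟨c', hc'⟩ := NegTwist.exists_mul hMi c a (Nat.succ_mul i d)
      refine ⟨c', fun U g => by rw [hc', hc, pow_succ], ?_⟩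
      rw [pow_succ]
      exact good_mul hMi rfl (fun j => hmm j i) (fun j => hmm1 j) hc' hcG hQ
  choose ti hti htiG using hpowG hgt
  choose si hsi hsiG using hpowG hgs
  have hmono : ∀ i ∈ Finset.range (n + 1), ∃ c : CohB1.tensorPow M (n * d) ⟶ Coh.structureModule X,
      (∀ (U : X.Opens) (g : Γ(M, U)), val c g = val t g ^ i * val s g ^ (n - i)) ∧
        Good F mm ψs c n (E ^ i) := fun i hi => by
    have hin : i ≤ n := Nat.lt_succ_iff.1 (Finset.mem_range.1 hi)
    obtain ⟨c, hc⟩ := NegTwist.exists_mul hMi (ti i) (si (n - i)) (D := n * d)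
      (by rw [← add_mul, Nat.add_sub_cancel' hin])
    refine ⟨c, fun U g => by rw [hc, hti, hsi], ?_⟩
    have := good_mul hMi (Nat.add_sub_cancel' hin).symm (fun j => hmm j i) (fun j => hmm j (n - i)) hc
      (htiG i) (hsiG (n - i))
    rwa [one_pow, mul_one] at this
  choose! mi hmi hmiG using hmono
  let U₀ : CohB1.tensorPow M (n * d) ⟶ Coh.structureModule X :=
    ∑ i ∈ Finset.range (n + 1), mi i ≫ Formal.smulMod k _ (p.coeff i)
  have hUG : Good F mm ψs U₀ n (0 : Module.End k (W (k := k) F M mm 0)) := by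
    have h := good_sum (ψ := ψs) hMi (fun j => hmm j n) (Finset.range (n + 1))
      (fun i => mi i ≫ Formal.smulMod k _ (p.coeff i)) (fun i => p.coeff i • E ^ i)
      (fun i hi => good_smul hMi (fun j => hmm j n) (hmiG i hi) _)
    rw [← Polynomial.aeval_eq_sum_range, LinearMap.aeval_self_charpoly] at h
    exact h
  have hUreg : ∀ (U : X.Opens) (g : Γ(M, U)), IsGen M U g → ∀ x (hx : x ∈ U), x ∈ AssSch.Ass F →
      IsUnit (X.presheaf.germ U x hx (val U₀ g)) := by
    intro U g hg x hx hxa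
    let z₀ := z ⟨x, hxa⟩
    obtain ⟨U', hzU', g', hg'⟩ := exists_isGen hMi z₀
    have hxU' : x ∈ U' := (hxz ⟨x, hxa⟩).mem_open U'.isOpen hzU'
    rw [isUnit_val_iff U₀ hg hg' hx hxU', ← X.mem_basicOpen _ x hxU']
    refine (hxz ⟨x, hxa⟩).mem_open (X.basicOpen _).isOpen ((X.mem_basicOpen _ z₀ hzU').2 ?_)
    let G := (X.presheaf.germ U' z₀ hzU').hom
    have hgs' : G (val s g') ∈ IsLocalRing.maximalIdeal (X.presheaf.stalk z₀) := by
      rw [hs, map_pow]
      refine Ideal.pow_mem_of_mem _ ((IsLocalRing.mem_maximalIdeal _).2 fun hu => ?_) _ hd₂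
      exact hz ⟨x, hxa⟩ ((ha₁ U' g' hg' z₀ hzU').1 hu)
    have hgt' : IsUnit (G (val t g')) := by
      rw [ht, map_pow]
      exact ((ha₂ U' g' hg' z₀ hzU').2 (hb₂A ⟨_, rfl⟩)).pow _
    show IsUnit (G (val U₀ g'))
    rw [val_sum, map_sum, Finset.sum_range_succ]
    have hlast : G (val (mi n ≫ Formal.smulMod k _ (p.coeff n)) g') = G (val t g') ^ n := by
      rw [NegTwist.val_smulMod, map_mul, hmi n (Finset.self_mem_range_succ n), map_mul, Nat.sub_self,
        pow_zero, map_one, mul_one, map_pow, show p.coeff n = 1 from hp.coeff_natDegree, map_one]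
      refine Eq.trans (congrArg (fun q => G q * _) (map_one (Coh.resTop X (Opposite.op U')))) ?_
      erw [map_one, one_mul]
    rw [hlast]
    have hrest : ∑ i ∈ Finset.range n, G (val (mi i ≫ Formal.smulMod k _ (p.coeff i)) g') ∈
        IsLocalRing.maximalIdeal (X.presheaf.stalk z₀) := by
      refine Ideal.sum_mem _ fun i hi => ?_
      have hi' := Finset.mem_range.1 hi
      rw [NegTwist.val_smulMod, map_mul, hmi i (Finset.mem_range.2 (Nat.lt_succ_of_lt hi')), map_mul, map_pow,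
        map_pow]
      exact Ideal.mul_mem_left _ _ (Ideal.mul_mem_left _ _ (Ideal.pow_mem_of_mem _ hgs' _ (Nat.sub_pos_of_lt hi')))
    by_contra hn
    rw [← mem_nonunits_iff, ← IsLocalRing.mem_maximalIdeal] at hn
    have h := (IsLocalRing.maximalIdeal (X.presheaf.stalk z₀)).sub_mem hn hrest
    rw [add_sub_cancel_left] at h
    exact (IsLocalRing.mem_maximalIdeal _).1 h (hgt'.pow n)
  obtain ⟨mu, hmu⟩ := NegTwist.act_injective (k := k) hL hMi ⟨e⟩ hF hdepth U₀ hUreg
  have hzero : Subsingleton (W (k := k) F M mm 0) := by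
    have hj : mu ≤ mm mu := by
      have : mu * 1 ≤ (ms + j₁ + mu) * d := Nat.mul_le_mul (Nat.le_add_left _ _) hdpos
      simp only [mm]; omega
    obtain ⟨θ, hθ⟩ := NegTwist.exists_mulBy hMi U₀ (hmm mu n)
    have h1 := hmu _ hj (hmm mu n) θ hθ
    have h2 : ∀ x, x = (0 : W (k := k) F M mm (mu + n)) := fun x => by
      refine h1 ((hπbij mu).1 ?_)
      rw [hUG mu _ rfl θ hθ x, map_zero, map_zero]
      rfl
    haveI : Subsingleton (W (k := k) F M mm (mu + n)) := ⟨fun a b => (h2 a).trans (h2 b).symm⟩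
    exact (hπbij (mu + n)).2.subsingleton
  refine ⟨ms + j₁, fun j hj => ?_⟩
  obtain ⟨i, rfl⟩ := Nat.exists_eq_add_of_le hj
  exact (hπbij i).1.subsingleton

end Groth.Agent.S7680
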