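import Groth.Statements.S7681
import Groth.Agent.S7680
import Groth.Agent.VarietyLib.Dual
import Groth.Agent.ZeroSchLib.Basic
import Groth.Agent.Coherent.Affineness
import Groth.Agent.CAlgH3.Depth
import Mathlib

set_option autoImplicit false
universe u
open CategoryTheory CategoryTheory.Limits AlgebraicGeometry
open Variety
set_option backward.isDefEq.respectTransparency.types false

namespace Groth.Agent.S7681

open Groth.Agent.AmpleLib Groth.Agent.PicLib Groth.Agent.Coherent TopologicalSpace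

variable {X : Scheme.{u}}

/-- In degree one vanishing, a section on an intersection is a difference. -/
theorem exists_sub_of_subsingleton (F : X.Modules) {U V : X.Opens} (h : U ⊔ V = ⊤)
    (hH : Subsingleton (Coh.HH X F 1)) (w : Γ(F, U ⊓ V)) :
    ∃ (a : Γ(F, U)) (b : Γ(F, V)), resM F inf_le_left a - resM F (inf_le_right : U ⊓ V ≤ V) b = w := by
  have h1 : Subsingleton (Sheaf.H' (Coh.toAb F) 1 (⊤ : X.Opens)) := (HHTopEquiv F 1).symm.subsingleton
  have h2 : Subsingleton (Sheaf.H' (Coh.toAb F) (0 + 1) (U ⊔ V)) := (H'Congr (Coh.toAb F) 1 h).subsingleton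
  obtain ⟨a, b, hab⟩ := exists_of_deltaH_eq_zero (X := X.toTopCat) (F := Coh.toAb F) (U := U) (V := V)
    (w := (secH (X := X.toTopCat) (Coh.toAb F) (U ⊓ V)).symm w) (h2.elim _ _)
  refine ⟨secH (X := X.toTopCat) (Coh.toAb F) U a, secH (X := X.toTopCat) (Coh.toAb F) V b, ?_⟩
  have e := congrArg (secH (X := X.toTopCat) (Coh.toAb F) (U ⊓ V)) hab
  rw [map_sub, AddEquiv.apply_symm_apply, secH_resH, secH_resH] at e
  exact e

theorem germ_eq_of_resM {U V : X.Opens} {z : X} (h : V ≤ U) (hz : z ∈ V) (a : Γ(Coh.structureModule X, U)) :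
    X.presheaf.germ V z hz (show Γ(X, V) from resM (Coh.structureModule X) h a) =
      X.presheaf.germ U z (h hz) (show Γ(X, U) from a) :=
  TopCat.Presheaf.germ_res_apply X.presheaf (homOfLE h) z hz a

variable {L M : X.Modules}

/-- Multiplication by a section of `L` on an inverse of `L`. -/
noncomputable def mulS (e : CohB1.tensorMod L M ≅ Coh.structureModule X) (s : Coh.structureModule X ⟶ L) :
    M ⟶ Coh.structureModule X :=
  (tensorComm M (Coh.structureModule X) ≪≫ unitTensorIso M).inv ≫ AmpleLib.tensorMap (𝟙 M) s ≫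
    (tensorComm M L ≪≫ e).hom

/-- Multiplication by powers of a section. -/
noncomputable def mulPow (τ : M ⟶ Coh.structureModule X) :
    (j : ℕ) → (CohB1.tensorPow M j ⟶ Coh.structureModule X)
  | 0 => 𝟙 _
  | j + 1 => AmpleLib.tensorMap (mulPow τ j) τ ≫ (unitTensorIso (Coh.structureModule X)).hom

theorem mulPow_powSec (τ : M ⟶ Coh.structureModule X) {U : X.Opens} (g : Γ(M, U)) :
    ∀ j, (show Γ(X, U) from (mulPow τ j).app U (powSec g j)) = (show Γ(X, U) from τ.app U g) ^ j
  | 0 => (pow_zero _).symm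
  | j + 1 => by
    show (show Γ(X, U) from (unitTensorIso (Coh.structureModule X)).hom.app U
      ((AmpleLib.tensorMap (mulPow τ j) τ).app U (tmul (powSec g j) g))) = _
    rw [tensorMap_tmul, pow_succ, ← mulPow_powSec τ g j]
    exact Bilin.desc_tmul _ _ _ _

variable (e : CohB1.tensorMod L M ≅ Coh.structureModule X) (s : Coh.structureModule X ⟶ L)

theorem mulS_app {U : X.Opens} (m : Γ(M, U)) :
    (mulS e s).app U m = (tensorComm M L ≪≫ e).hom.app U (tmul m (unitVal s U)) := by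
  let r := tensorComm M (Coh.structureModule X) ≪≫ unitTensorIso M
  have h1 : r.hom.app U (tmul m (oneSec U)) = m := by
    show (unitBilin M).desc.app U ((tensorSwap M (Coh.structureModule X)).app U (tmul m _)) = _
    refine (congrArg ((unitBilin M).desc.app U) (Bilin.desc_tmul _ U m _)).trans ?_
    exact (Bilin.desc_tmul _ U _ m).trans (one_smul _ m)
  have h2 : r.inv.app U m = tmul m (oneSec U) := by
    conv_lhs => rw [← h1]
    rw [← ConcreteCategory.comp_apply, ← Scheme.Modules.Hom.comp_app, r.hom_inv_id]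
    rfl
  show (tensorComm M L ≪≫ e).hom.app U ((AmpleLib.tensorMap (𝟙 M) s).app U (r.inv.app U m)) = _
  rw [h2, tensorMap_tmul]
  rfl

theorem exists_mulS_eq_one :
    ∃ m : Γ(M, CohB1.genLocus L s),
      (mulS e s).app (CohB1.genLocus L s) m = oneSec (CohB1.genLocus L s) := by
  let D := CohB1.genLocus L s
  have hg : IsGen L D (unitVal s D) := isGen_genLocus s
  let e' := tensorComm M L ≪≫ e
  obtain ⟨m, hm⟩ := (bijective_tmul_gen (M := M) hg D le_rfl).2 (e'.inv.app D (oneSec D))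
  simp only [resM_self] at hm
  refine ⟨m, ?_⟩
  rw [mulS_app, hm, ← ConcreteCategory.comp_apply, ← Scheme.Modules.Hom.comp_app, e'.inv_hom_id]
  rfl

theorem not_isUnit_mulS (hL : PicF.IsInvertible L) {U : X.Opens} {z : X} (hz : z ∈ U)
    (hzD : z ∉ CohB1.genLocus L s) (m : Γ(M, U)) :
    ¬ IsUnit (X.presheaf.germ U z hz (show Γ(X, U) from (mulS e s).app U m)) := by
  obtain ⟨W, hzW, g, hg⟩ := exists_isGen hL z
  let W' := U ⊓ W
  have hzW' : z ∈ W' := ⟨hz, hzW⟩
  have hg' := hg.restrict (inf_le_right : W' ≤ W)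
  rw [← germ_eq_of_resM (inf_le_left : W' ≤ U) hzW']
  have hb : z ∉ X.basicOpen (hg'.coef le_rfl (unitVal s W')) := fun h => hzD (by
    rw [← genLocus_inf_eq_basicOpen s hg'] at h
    exact h.1)
  intro hu
  apply hb
  rw [Scheme.mem_basicOpen X _ z hzW']
  have h1 : resM (Coh.structureModule X) (inf_le_left : W' ≤ U) ((mulS e s).app U m) =
      hg'.coef le_rfl (unitVal s W') •
        (tensorComm M L ≪≫ e).hom.app W' (tmul (resM M inf_le_left m) (resM L inf_le_right g)) := by
    rw [← app_resM, mulS_app, ← Scheme.Modules.Hom.app_smul, ← tmul_smul_right]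
    conv_lhs => rw [← hg'.coef_spec le_rfl (unitVal s W'), resM_self]
  rw [show (show Γ(X, W') from resM (Coh.structureModule X) (inf_le_left : W' ≤ U) ((mulS e s).app U m)) =
    hg'.coef le_rfl (unitVal s W') * _ from h1, map_mul] at hu
  exact (IsUnit.mul_iff.1 hu).1

theorem not_isUnit_mulPow (hL : PicF.IsInvertible L) (hM : PicF.IsInvertible M) {U : X.Opens} {z : X}
    (hz : z ∈ U) (hzD : z ∉ CohB1.genLocus L s) {j : ℕ} (hj : 0 < j) (a : Γ(CohB1.tensorPow M j, U)) :
    ¬ IsUnit (X.presheaf.germ U z hz (show Γ(X, U) from (mulPow (mulS e s) j).app U a)) := by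
  obtain ⟨W, hzW, g, hg⟩ := exists_isGen hM z
  let W' := U ⊓ W
  have hzW' : z ∈ W' := ⟨hz, hzW⟩
  have hg' := hg.restrict (inf_le_right : W' ≤ W)
  have hp := isGen_powSec hg' j
  rw [← germ_eq_of_resM (inf_le_left : W' ≤ U) hzW']
  have h1 : resM (Coh.structureModule X) (inf_le_left : W' ≤ U) ((mulPow (mulS e s) j).app U a) =
      hp.coef le_rfl (resM _ inf_le_left a) •
        (mulPow (mulS e s) j).app W' (powSec (resM M inf_le_right g) j) := by
    rw [← app_resM, ← Scheme.Modules.Hom.app_smul]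
    conv_lhs => rw [← hp.coef_spec le_rfl (resM _ inf_le_left a), resM_self]
  intro hu
  rw [show (show Γ(X, W') from resM (Coh.structureModule X) (inf_le_left : W' ≤ U)
      ((mulPow (mulS e s) j).app U a)) =
    hp.coef le_rfl (resM _ inf_le_left a) *
      (show Γ(X, W') from (mulPow (mulS e s) j).app W' (powSec (resM M inf_le_right g) j)) from h1,
    map_mul, mulPow_powSec, map_pow] at hu
  exact not_isUnit_mulS e s hL hzW' hzD _ ((isUnit_pow_iff hj.ne').1 (IsUnit.mul_iff.1 hu).2)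

/-- Global functions of a connected proper scheme over a field are units or nilpotent. -/
theorem isUnit_or_isNilpotent_gamma (k : Type u) [Field k] [X.Over (Spec (CommRingCat.of k))]
    [IsProper (X ↘ (Spec (CommRingCat.of k)))] [ConnectedSpace X] (g : Γ(X, ⊤)) :
    IsUnit g ∨ IsNilpotent g := by
  let φ : k →+* Γ(X, ⊤) := Coh.toGlobal (X ↘ Spec (CommRingCat.of k))
  let : Algebra k Γ(X, ⊤) := φ.toAlgebra
  have : IsLocallyNoetherian X :=
    LocallyOfFiniteType.isLocallyNoetherian (X ↘ (Spec (CommRingCat.of k)))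
  have : Module.Finite k (HA φ (Coh.structureModule X) (⊤ : X.Opens) 0) :=
    finCoh_of_isProper (X ↘ Spec (CommRingCat.of k)) _ (isCoh_structureModule X) 0
  have hfin : Module.Finite k (GA φ (Coh.structureModule X)) := Module.Finite.equiv (secA φ _)
  let eq : GA φ (Coh.structureModule X) ≃ₗ[k] Γ(X, ⊤) :=
    { toFun := fun r => (show Γ(X, ⊤) from r)
      invFun := fun r => (show Γ(X, ⊤) from r)
      map_add' := fun _ _ => rfl
      map_smul' := fun _ _ => rfl
      left_inv := fun _ => rfl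
      right_inv := fun _ => rfl }
  have : Module.Finite k Γ(X, ⊤) := Module.Finite.equiv eq
  have : IsArtinianRing Γ(X, ⊤) := IsArtinianRing.of_finite k Γ(X, ⊤)
  obtain ⟨n, y, hy⟩ := IsArtinian.exists_pow_succ_smul_dvd (M := Γ(X, ⊤)) g (1 : Γ(X, ⊤))
  have hy' : g ^ (n + 1) * y = g ^ n := by simpa using hy
  have hmul : ∀ i, g ^ (n + i) * y ^ i = g ^ n := by
    intro i
    induction i with
    | zero => simp
    | succ i ih =>
      calc g ^ (n + (i + 1)) * y ^ (i + 1) = g ^ i * y ^ i * (g ^ (n + 1) * y) := by ring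
        _ = g ^ (n + i) * y ^ i := by rw [hy']; ring
        _ = g ^ n := ih
  let E : Γ(X, ⊤) := g ^ n * y ^ n
  have hE : E * (1 - E) = 0 := by
    have : E * E = E := by
      calc E * E = g ^ (n + n) * y ^ n * y ^ n := by ring
        _ = E := by rw [hmul n]
    rw [mul_sub, mul_one, this, sub_self]
  have hcov : ∀ x : X, x ∈ X.basicOpen E ∨ x ∈ X.basicOpen (1 - E) := fun x => by
    rw [Scheme.mem_basicOpen X _ x (Set.mem_univ x), Scheme.mem_basicOpen X _ x (Set.mem_univ x)]
    refine IsLocalRing.isUnit_or_isUnit_of_add_one ?_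
    rw [← map_add, add_sub_cancel, map_one]
  have hdisj : ∀ x : X, x ∈ X.basicOpen E → x ∉ X.basicOpen (1 - E) := fun x h h' => by
    have : x ∈ X.basicOpen E ⊓ X.basicOpen (1 - E) := ⟨h, h'⟩
    rw [← Scheme.basicOpen_mul, hE, Scheme.basicOpen_zero] at this
    exact this
  have hclopen : IsClopen (X.basicOpen E : Set X) := by
    refine ⟨⟨?_⟩, (X.basicOpen E).2⟩
    rw [show (X.basicOpen E : Set X)ᶜ = X.basicOpen (1 - E) from Set.ext fun x =>
      ⟨fun h => (hcov x).resolve_left h, fun h h' => hdisj x h' h⟩]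
    exact (X.basicOpen (1 - E)).2
  have hunit : ∀ F : Γ(X, ⊤), (∀ x : X, x ∈ X.basicOpen F) → IsUnit F := fun F hF =>
    RingedSpace.isUnit_of_isUnit_germ X.toRingedSpace ⊤ F fun x hx =>
      (Scheme.mem_basicOpen X F x hx).1 (hF x)
  rcases isClopen_iff.1 hclopen with h | h
  · refine Or.inr ⟨n, ?_⟩
    have hu : IsUnit (1 - E) := hunit _ fun x =>
      (hcov x).resolve_left fun hx => (Set.eq_empty_iff_forall_notMem.1 h) x hx
    have hE0 : E = 0 := hu.mul_left_eq_zero.1 hE
    calc g ^ n = g ^ (n + n) * y ^ n := (hmul n).symm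
      _ = g ^ n * E := by ring
      _ = 0 := by rw [hE0, mul_zero]
  · have hu : IsUnit E := hunit _ fun x => Set.eq_univ_iff_forall.1 h x
    rcases Nat.eq_zero_or_pos n with rfl | hn
    · exact Or.inl (IsUnit.of_mul_eq_one y (by simpa using hy'))
    · exact Or.inl ((isUnit_pow_iff hn.ne').1 (IsUnit.mul_iff.1 hu).1)

theorem false_of_affine (k : Type u) [Field k] [X.Over (Spec (CommRingCat.of k))]
    [IsProper (X ↘ (Spec (CommRingCat.of k)))] [ConnectedSpace X] [IsAffine X]
    (hdepth : ∀ x : X, IsClosed ({x} : Set X) → 2 ≤ LocCoh.depth (X.presheaf.stalk x) (X.presheaf.stalk x)) :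
    False := by
  have : IsLocallyNoetherian X :=
    LocallyOfFiniteType.isLocallyNoetherian (X ↘ (Spec (CommRingCat.of k)))
  have : CompactSpace X := isCompact_univ_iff.1 (isAffineOpen_top X).isCompact
  obtain ⟨x, -, hx⟩ := IsClosed.exists_closed_singleton (isClosed_univ (X := X)) Set.univ_nonempty
  have hd := hdepth x hx
  obtain ⟨r, hr, hreg⟩ := CAlgH3.exists_regular_of_one_le_depth (R := X.presheaf.stalk x)
    (M := X.presheaf.stalk x) (le_trans one_le_two hd)
  have hU := isAffineOpen_top X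
  let := TopCat.Presheaf.algebra_section_stalk X.presheaf (⟨x, trivial⟩ : (⊤ : X.Opens))
  have := hU.isLocalization_stalk ⟨x, trivial⟩
  obtain ⟨⟨a, t⟩, hat⟩ := IsLocalization.surj (M := (hU.primeIdealOf ⟨x, trivial⟩).asIdeal.primeCompl)
    (R := Γ(X, ⊤)) r
  have ht : IsUnit (algebraMap Γ(X, ⊤) (X.presheaf.stalk x) t) := IsLocalization.map_units _ t
  rcases isUnit_or_isNilpotent_gamma k a with ha | ha
  · exact (IsLocalRing.mem_maximalIdeal r).1 hr (isUnit_of_mul_isUnit_left (hat ▸ ha.map _))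
  · have hn : IsNilpotent r := by
      have h1 : IsNilpotent (r * algebraMap Γ(X, ⊤) (X.presheaf.stalk x) t) := hat ▸ ha.map _
      have h2 := (Commute.all (r * algebraMap Γ(X, ⊤) (X.presheaf.stalk x) t) (↑ht.unit⁻¹)).isNilpotent_mul_right h1
      rwa [mul_assoc, IsUnit.mul_val_inv, mul_one] at h2
    obtain ⟨n, hn⟩ := hn
    exact one_ne_zero ((IsSMulRegular.pow n hreg) (show r ^ n • (1 : X.presheaf.stalk x) = r ^ n • 0 by
      rw [hn, zero_smul, zero_smul]))


/-- Let X be proper over a field k, L ample invertible and s ∈ Γ(X, L) a regular section; assume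
depth(O_{X,x}) ≥ 2 for every closed point x and X connected. Then the zero scheme Z(s) is connected. -/
theorem result (k : Type u) [Field k] (X : Scheme.{u}) [X.Over (Spec (CommRingCat.of k))] [IsProper (X ↘ (Spec (CommRingCat.of k)))]
    [ConnectedSpace X] (L : X.Modules) (hL : CohB1.IsAmple L)
    (s : Coh.structureModule X ⟶ L) (hs : Mono s)
    (hdepth : ∀ x : X, IsClosed ({x} : Set X) → 2 ≤ LocCoh.depth (X.presheaf.stalk x) (X.presheaf.stalk x)) :
    ConnectedSpace ↥(PicF2.zeroScheme L s).subscheme := by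
  have hLi := hL.1
  have : IsLocallyNoetherian X :=
    LocallyOfFiniteType.isLocallyNoetherian (X ↘ (Spec (CommRingCat.of k)))
  let Z := PicF2.zeroScheme L s
  let D := CohB1.genLocus L s
  have hsupp : (Z.support : Set X) = (D : Set X)ᶜ := by
    ext z
    obtain ⟨W, hzW, g, hg⟩ := exists_isGen hLi z
    obtain ⟨V, hV, hzV, hVW⟩ := exists_isAffineOpen_mem_and_subset hzW
    have hg' := hg.restrict (show V ≤ W from hVW)
    have h1 : z ∈ (Z.support : Set X) ↔ z ∈ X.zeroLocus (U := V) (Z.ideal ⟨V, hV⟩ : Set Γ(X, V)) :=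
      ⟨fun h => ((Z.coe_support_inter ⟨V, hV⟩).subset ⟨h, hzV⟩).1,
        fun h => ((Z.coe_support_inter ⟨V, hV⟩).superset ⟨h, hzV⟩).1⟩
    rw [h1, ZeroSchLib.zeroScheme_ideal_eq_span s hLi ⟨V, hV⟩ hg', Scheme.zeroLocus_span,
      Scheme.zeroLocus_singleton, ← genLocus_inf_eq_basicOpen s hg']
    exact ⟨fun h h' => h ⟨h', hzV⟩, fun h h' => h h'.1⟩
  suffices hZ : _root_.IsConnected (Z.support : Set X) by
    rw [← Z.range_subschemeι] at hZ
    exact connectedSpace_iff_univ.2 ⟨by
      obtain ⟨z, w, rfl⟩ := hZ.1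
      exact ⟨w, trivial⟩,
      Z.subschemeι.isEmbedding.isInducing.isPreconnected_image.1 (Set.image_univ ▸ hZ.2)⟩
  refine ⟨?_, ?_⟩
  · by_contra hne
    rw [Set.not_nonempty_iff_eq_empty, hsupp, Set.compl_empty_iff] at hne
    have hD : D = ⊤ := Opens.ext hne
    have hgen : IsGen L (⊤ : X.Opens) (unitVal s ⊤) := by
      rw [← hD]
      exact isGen_genLocus s
    obtain ⟨x⟩ := (inferInstance : Nonempty X)
    obtain ⟨n, t, hxt, haff⟩ := hL.2.2 x
    have hbo := genLocus_inf_eq_basicOpen t (isGen_powSec hgen (n + 1))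
    rw [inf_top_eq] at hbo
    rw [hbo] at hxt haff
    rcases isUnit_or_isNilpotent_gamma k ((isGen_powSec hgen (n + 1)).coef le_rfl (unitVal t ⊤)) with h | h
    · rw [Scheme.basicOpen_of_isUnit X h] at haff
      have : IsAffine (⊤ : X.Opens).toScheme := haff
      have : IsAffine X := IsAffine.of_isIso X.topIso.inv
      exact false_of_affine k hdepth
    · rw [Scheme.mem_basicOpen X _ x (Set.mem_univ x)] at hxt
      exact (h.map (X.presheaf.germ ⊤ x trivial).hom).not_isUnit hxt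
  rw [isPreconnected_closed_iff]
  intro t₁ t₂ ht₁ ht₂ hsub ⟨z₁, hz₁, hz₁t⟩ ⟨z₂, hz₂, hz₂t⟩
  by_contra hne
  rw [Set.not_nonempty_iff_eq_empty] at hne
  have hclosed : IsClosed (Z.support : Set X) := Z.support.2
  let U₁ : X.Opens := ⟨((Z.support : Set X) ∩ t₂)ᶜ, (hclosed.inter ht₂).isOpen_compl⟩
  let U₂ : X.Opens := ⟨((Z.support : Set X) ∩ t₁)ᶜ, (hclosed.inter ht₁).isOpen_compl⟩
  have hU : U₁ ⊔ U₂ = ⊤ := eq_top_iff.2 fun x _ => by
    by_cases hx : x ∈ (Z.support : Set X) ∩ t₂
    · exact Or.inr fun hx' => (Set.eq_empty_iff_forall_notMem.1 hne x) ⟨hx.1, hx'.2, hx.2⟩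
    · exact Or.inl hx
  have hI : U₁ ⊓ U₂ ≤ D := fun x hx => by
    by_contra hxD
    have hxS : x ∈ (Z.support : Set X) := hsupp.superset hxD
    rcases hsub hxS with h | h
    · exact hx.2 ⟨hxS, h⟩
    · exact hx.1 ⟨hxS, h⟩
  obtain ⟨M, hM⟩ := VarietyLib.exists_isInverseOf hLi
  obtain ⟨e⟩ := hM
  have hMi := S7679.isInvertible_inverse hLi e
  obtain ⟨m₀, hm₀⟩ := S7680.result k X L hL M ⟨e⟩ (Coh.structureModule X) (isCoh_structureModule X) (fun x hx => by
    refine (hdepth x hx).trans_eq (CAlgH3.depth_congr (LinearEquiv.ofBijective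
      (LinearMap.toSpanSingleton (X.presheaf.stalk x) _
        ((Coh.structureModule X).presheaf.germ ⊤ x trivial (oneSec ⊤)))
      (VarietyLib.gen_germ_bijective (isGen_oneSec ⊤) (p := x) trivial))))
  let m := m₀ + 1
  have hH := hm₀ m (Nat.le_succ m₀)
  let u := unitTensorIso (CohB1.tensorPow M m)
  let τ : CohB1.tensorMod (Coh.structureModule X) (CohB1.tensorPow M m) ⟶ Coh.structureModule X :=
    u.hom ≫ mulPow (mulS e s) m
  obtain ⟨μ, hμ⟩ := exists_mulS_eq_one e s
  let w := u.inv.app (U₁ ⊓ U₂) (powSec (resM M hI μ) m)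
  have hw : τ.app (U₁ ⊓ U₂) w = oneSec (U₁ ⊓ U₂) := by
    show (mulPow (mulS e s) m).app _ (u.hom.app _ (u.inv.app _ (powSec (resM M hI μ) m))) = _
    rw [← ConcreteCategory.comp_apply (u.inv.app _) (u.hom.app _), ← Scheme.Modules.Hom.comp_app,
      u.inv_hom_id]
    show (show Γ(X, U₁ ⊓ U₂) from (mulPow (mulS e s) m).app _ (powSec (resM M hI μ) m)) = 1
    rw [mulPow_powSec, app_resM, hμ, resM_oneSec]
    exact one_pow m
  obtain ⟨a, b, hab⟩ := exists_sub_of_subsingleton _ hU hH w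
  obtain ⟨g, hg₁, hg₂⟩ := exists_glue (Coh.structureModule X) hU (τ.app U₁ a) (τ.app U₂ b + oneSec U₂) (by
    rw [← app_resM, map_add, ← app_resM, resM_oneSec, ← hw, ← hab, map_sub]
    abel)
  have hval : ∀ (U : X.Opens) (z : X) (hz : z ∈ U) (c : Γ(CohB1.tensorMod (Coh.structureModule X)
      (CohB1.tensorPow M m), U)), z ∉ D → ¬ IsUnit (X.presheaf.germ U z hz (show Γ(X, U) from τ.app U c)) :=
    fun U z hz c hzD => not_isUnit_mulPow e s hLi hMi hz hzD (Nat.succ_pos m₀) _
  have hz₁U : z₁ ∈ U₁ := fun h => (Set.eq_empty_iff_forall_notMem.1 hne z₁) ⟨hz₁, hz₁t, h.2⟩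
  have hz₂U : z₂ ∈ U₂ := fun h => (Set.eq_empty_iff_forall_notMem.1 hne z₂) ⟨hz₂, h.2, hz₂t⟩
  rcases isUnit_or_isNilpotent_gamma k (show Γ(X, ⊤) from g) with h | h
  · refine hval U₁ z₁ hz₁U a (hsupp.subset hz₁) ?_
    rw [← hg₁, germ_eq_of_resM (le_top : U₁ ≤ ⊤) hz₁U]
    exact h.map _
  · refine hval U₂ z₂ hz₂U b (hsupp.subset hz₂) ?_
    have h2 : IsNilpotent (X.presheaf.germ U₂ z₂ hz₂U
        ((show Γ(X, U₂) from τ.app U₂ b) + 1)) := by
      rw [show ((show Γ(X, U₂) from τ.app U₂ b) + 1) =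
        (show Γ(X, U₂) from resM (Coh.structureModule X) (le_top : U₂ ≤ ⊤) g) from hg₂.symm,
        germ_eq_of_resM (le_top : U₂ ≤ ⊤) hz₂U]
      exact h.map (X.presheaf.germ ⊤ z₂ trivial).hom
    have h3 := h2.isUnit_sub_one
    rw [map_add, map_one, add_sub_cancel_right] at h3
    exact h3

end Groth.Agent.S7681
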