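import Groth.Statements.S7682
import Groth.Agent.VarietyLib.PullDegree
import Groth.Agent.Props12.KerReduced
import Groth.Agent.CurveRR24.Section

set_option autoImplicit false
universe u
open CategoryTheory CategoryTheory.Limits AlgebraicGeometry
open Variety
open Groth.Agent

namespace Groth.Agent.S7682

/-- Let f : Y → X be a morphism of proper schemes over a field k, Z ⊆ Y an integral closed subscheme of
dimension d and L_1, …, L_d invertible modules on X. Then (f^*L_1 ⋯ f^*L_d · Z) = deg(Z → f(Z)) ·
(L_1 ⋯ L_d · f(Z)), f(Z) being the scheme-theoretic image and deg the degree of the function field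
extension, read as 0 when dim f(Z) < d (equivalently when that extension is infinite). Both
intersection numbers are the n_1⋯n_d-coefficients of the polynomials computing the corresponding
Euler characteristics. -/
theorem result (k : Type u) [Field k] (X Y : Scheme.{u})
    [X.Over (Spec (CommRingCat.of k))] [Y.Over (Spec (CommRingCat.of k))]
    [IsProper (X ↘ (Spec (CommRingCat.of k)))] [IsProper (Y ↘ (Spec (CommRingCat.of k)))]
    (f : Y ⟶ X) (hf : f ≫ (X ↘ (Spec (CommRingCat.of k))) = Y ↘ (Spec (CommRingCat.of k)))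
    (Z : Y.IdealSheafData) [IsIntegral Z.subscheme] (d : ℕ)
    (hZ : topologicalKrullDim (Z.support : Set Y) = d)
    (L : Fin d → X.Modules) (hL : ∀ i, PicF.IsInvertible (L i))
    (PY PX : MvPolynomial (Fin d) ℚ)
    (hPY : ∀ n : Fin d → ℕ, (Curv2.euler k Y (Curv2.tensorPows (ClSub.quotMod Z) d (fun i => (Scheme.Modules.pullback f).obj (L i)) n) : ℚ) = MvPolynomial.eval (fun i => (n i : ℚ)) PY)
    (hPX : ∀ n : Fin d → ℕ, (Curv2.euler k X (Curv2.tensorPows (ClSub.quotMod (Z.subschemeι ≫ f).ker) d L n) : ℚ) = MvPolynomial.eval (fun i => (n i : ℚ)) PX) :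
    MvPolynomial.coeff (Finsupp.equivFunOnFinite.symm fun _ : Fin d => 1) PY =
      ((Z.subschemeι ≫ f).residueDegree (genericPoint Z.subscheme) : ℚ) *
        MvPolynomial.coeff (Finsupp.equivFunOnFinite.symm fun _ : Fin d => 1) PX := by
  classical
  haveI := EulerLib.isNoetherian_of_proper (X := X) k
  haveI := EulerLib.isNoetherian_of_proper (X := Y) k
  let h := Z.subschemeι ≫ f
  let η := genericPoint Z.subscheme
  letI : Z.subscheme.Over (Spec (CommRingCat.of k)) := ⟨Z.subschemeι ≫ (Y ↘ Spec (CommRingCat.of k))⟩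
  haveI : IsProper (Z.subscheme ↘ Spec (CommRingCat.of k)) :=
    inferInstanceAs (IsProper (Z.subschemeι ≫ (Y ↘ Spec (CommRingCat.of k))))
  have hh : h ≫ (X ↘ Spec (CommRingCat.of k)) = Z.subscheme ↘ Spec (CommRingCat.of k) := by
    rw [Category.assoc, hf]; rfl
  haveI : IsProper h := by
    haveI : IsProper (h ≫ (X ↘ Spec (CommRingCat.of k))) := by rw [hh]; infer_instance
    exact IsProper.of_comp h (X ↘ Spec (CommRingCat.of k))
  have hdim : topologicalKrullDim Z.subscheme = (d : WithBot ℕ∞) := by
    rw [← hZ, ← Z.range_subschemeι]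
    exact IsHomeomorph.topologicalKrullDim_eq _ Z.subschemeι.isClosedEmbedding.isEmbedding.toHomeomorph.isHomeomorph
  have hker : h.ker = AssSch12.clI (h η) := by
    rw [Props12.ker_eq_vanishingIdeal]
    refine congrArg _ (TopologicalSpace.Closeds.ext ?_)
    show closure (Set.range h) = closure {h η}
    refine (closure_minimal ?_ isClosed_closure).antisymm (closure_mono (Set.singleton_subset_iff.2 ⟨η, rfl⟩))
    rintro _ ⟨z, rfl⟩
    exact specializes_iff_mem_closure.1 (((genericPoint_spec Z.subscheme).specializes trivial).map h.continuous)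
  haveI := EulerLib.isNoetherian_of_proper (X := Z.subscheme) k
  let c := fun i => EulerLib.InvCl.mk (L i) (hL i)
  have hY := VarietyLib.coeff_eq_interDeg k (CurveRR24.isCoh_quotMod Z)
    ((EulerLib.dim_mono (CurveRR24.support_quotMod_subset Z)).trans hZ.le)
    (fun i => (Scheme.Modules.pullback f).obj (L i)) (fun i => PicLoc.isInvertible_pullback f (hL i)) PY hPY
  have hsX : topologicalKrullDim (CohB1.support (ClSub.quotMod h.ker)) ≤ (d : WithBot ℕ∞) := by
    refine (EulerLib.dim_mono (CurveRR24.support_quotMod_subset _)).trans ?_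
    rw [hker]
    show topologicalKrullDim ((AssSch12.clI (h η)).support : Set X) ≤ _
    rw [Scheme.IdealSheafData.coe_support_vanishingIdeal]
    show topologicalKrullDim (closure ({h η} : Set X)) ≤ _
    haveI : LocallyOfFiniteType (h ≫ (X ↘ Spec (CommRingCat.of k))) := by rw [hh]; infer_instance
    rw [DimLib.topologicalKrullDim_eq_ptDim_of_isGenericPoint (X ↘ Spec (CommRingCat.of k)) isGenericPoint_closure]
    refine (WithBot.coe_le_coe.2 (ENat.coe_le_coe.2 (DimLib.ptDim_apply_le (X ↘ Spec (CommRingCat.of k)) h η))).trans ?_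
    have h1 := DimLib.topologicalKrullDim_eq_ptDim_of_isGenericPoint (h ≫ (X ↘ Spec (CommRingCat.of k)))
      (genericPoint_spec Z.subscheme)
    rw [IsHomeomorph.topologicalKrullDim_eq _ (Homeomorph.Set.univ _).isHomeomorph, hdim] at h1
    exact h1.ge
  have hX := VarietyLib.coeff_eq_interDeg k (CurveRR24.isCoh_quotMod h.ker) hsX L hL PX hPX
  have key := VarietyLib.interDeg_pull k h hh hdim c
  have hcomp : ∀ x : EulerLib.InvCl X, VarietyLib.pullHom Z.subschemeι (VarietyLib.pullHom f x) = VarietyLib.pullHom h x := fun x => by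
    obtain ⟨M, hM, rfl⟩ := EulerLib.InvCl.exists_rep x
    exact Quotient.sound ⟨(Scheme.Modules.pullbackComp Z.subschemeι f).app M⟩
  have hpush : ∀ x : EulerLib.InvCl Y, EulerLib.chiCl k (ClSub.quotMod Z) x =
      EulerLib.chiCl k (Coh.structureModule Z.subscheme) (VarietyLib.pullHom Z.subschemeι x) := fun x =>
    VarietyLib.chiCl_push k Z.subschemeι rfl (Coherent.isCoh_structureModule _) x
  have hleft : EulerLib.interDeg (fun i => VarietyLib.pullHom f (c i)) (EulerLib.chiCl k (ClSub.quotMod Z)) =
      EulerLib.interDeg (fun i => VarietyLib.pullHom h (c i)) (EulerLib.chiCl k (Coh.structureModule Z.subscheme)) := by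
    rw [funext hpush, ← VarietyLib.interDeg_monoidHom]
    simp only [hcomp]
  rw [hY, hX, show EulerLib.chiCl k (ClSub.quotMod h.ker) = EulerLib.chiCl k (AssSch12.clM (h η)) from by rw [hker]]
  show ((EulerLib.interDeg (fun i => VarietyLib.pullHom f (c i)) (EulerLib.chiCl k (ClSub.quotMod Z)) : ℤ) : ℚ) = _
  rw [hleft, key]
  push_cast
  rfl

end Groth.Agent.S7682
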