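import Groth.Statements.S7684
import Groth.Agent.CAlgMisc2.KrullAkizuki
import Groth.Agent.NormalizationLib.Basic
import Groth.Agent.FlatMorWeight.GeomPoints
import Groth.Agent.H8Lim.BiratNormal

set_option autoImplicit false
set_option backward.isDefEq.respectTransparency.types false
universe u
open CategoryTheory CategoryTheory.Limits AlgebraicGeometry
open Variety
open scoped TensorProduct

namespace Groth.Agent.S7684

theorem tdim_eq_krullDim {α : Type*} [TopologicalSpace α] [QuasiSober α] [T0Space α] :
    topologicalKrullDim α = @Order.krullDim α (specializationOrder α).toPreorder :=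
  let _ : PartialOrder α := specializationOrder α
  Order.krullDim_eq_of_orderIso irreducibleSetEquivPoints

theorem le_tdim {α : Type*} [TopologicalSpace α] [QuasiSober α] [T0Space α] {n : ℕ} (f : Fin (n + 1) → α)
    (hm : ∀ i j, i < j → f j ⤳ f i) (hi : Function.Injective f) : (n : WithBot ℕ∞) ≤ topologicalKrullDim α := by
  let _ : PartialOrder α := specializationOrder α
  rw [tdim_eq_krullDim]
  exact Order.LTSeries.length_le_krullDim (LTSeries.mk n f fun i j h => lt_of_le_of_ne (hm i j h) fun e => h.ne (hi e))

theorem isClosed_singleton_of_ne {X : Scheme.{u}} [IsIntegral X] (hdim : topologicalKrullDim X = 1)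
    {x : X} (hx : x ≠ genericPoint X) : IsClosed ({x} : Set X) := by
  refine isClosed_of_closure_subset fun x' hx' => ?_
  by_contra hne
  have hne : x' ≠ x := hne
  have hsp : x ⤳ x' := specializes_iff_mem_closure.2 hx'
  have hne2 : x' ≠ genericPoint X := fun e => hx ((e ▸ hsp).antisymm (genericPoint_specializes x)).eq
  have := le_tdim (n := 2) ![x', x, genericPoint X] (fun i j hij => by
    fin_cases i <;> fin_cases j <;> simp at hij ⊢ <;>
      first | exact hsp | exact genericPoint_specializes _) (fun i j => by
    fin_cases i <;> fin_cases j <;> simp [hne, hne.symm, hne2, hne2.symm, hx, Ne.symm hx])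
  rw [hdim] at this
  exact absurd this (by decide)

/-- Over a one-dimensional Noetherian domain, an integral closure in the fraction field is Noetherian and quasi-finite. -/
theorem quasiFinite_sub (A K : Type u) [CommRing A] [IsDomain A] [IsNoetherianRing A] [Ring.KrullDimLE 1 A]
    [Field K] [Algebra A K] [IsFractionRing A K] (C : Subalgebra A K) :
    Algebra.QuasiFinite A C ∧ IsNoetherianRing C := by
  refine ⟨⟨fun P hP => ?_⟩, Groth.Agent.CAlgMisc2.isNoetherianRing_of_between (R := A) K K C Subtype.val_injective⟩
  let ι : C →ₐ[A] TensorProduct A P.ResidueField C := Algebra.TensorProduct.includeRight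
  suffices h : ∃ s : Finset C, ∀ c : C, ι c ∈ Submodule.span P.ResidueField (ι '' (s : Set C)) by
    obtain ⟨s, hs⟩ := h
    classical
    refine ⟨⟨s.image ι, top_unique fun t _ => ?_⟩⟩
    rw [Finset.coe_image]
    induction t using TensorProduct.induction_on with
    | zero => exact zero_mem _
    | tmul r c =>
      have : r ⊗ₜ[A] c = r • ι c := by
        show _ = r • ((1 : P.ResidueField) ⊗ₜ[A] c)
        rw [TensorProduct.smul_tmul', smul_eq_mul, mul_one]
      rw [this]; exact Submodule.smul_mem _ _ (hs c)
    | add a b ha hb => exact add_mem (ha trivial) (hb trivial)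
  have hker : ∀ a ∈ P, algebraMap A P.ResidueField a = 0 := fun a ha => Ideal.algebraMap_residueField_eq_zero.2 ha
  by_cases hP0 : P = ⊥
  · refine ⟨{1}, fun c => ?_⟩
    obtain ⟨⟨b, a⟩, hab⟩ := IsLocalization.surj (nonZeroDivisors A) (c : K)
    have ha : algebraMap A P.ResidueField a ≠ 0 := fun h => nonZeroDivisors.ne_zero a.2 (by
      rw [← Ideal.mem_bot, ← hP0]; exact Ideal.algebraMap_residueField_eq_zero.1 h)
    have e : (a : A) • c = b • (1 : C) := Subtype.ext (by
      show (a : A) • (c : K) = b • (1 : K)
      rw [Algebra.smul_def, Algebra.smul_def, mul_one, mul_comm]; exact hab)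
    have e2 := congrArg ι e
    rw [map_smul, map_smul, ← IsScalarTower.algebraMap_smul P.ResidueField (a : A),
      ← IsScalarTower.algebraMap_smul P.ResidueField b] at e2
    refine (Submodule.smul_mem_iff _ ha).1 ?_
    rw [e2]
    exact Submodule.smul_mem _ _ (Submodule.subset_span ⟨1, by simp, rfl⟩)
  · obtain ⟨x, hxP, hx0⟩ := Submodule.exists_mem_ne_zero_of_ne_bot hP0
    have := Groth.Agent.CAlgMisc2.finite_quot (R := A) K K C Subtype.val_injective x hx0
    obtain ⟨s, hs⟩ := (inferInstance : Module.Finite A (C ⧸ (Ideal.span {x} • ⊤ : Submodule A C))).fg_top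
    classical
    choose l hl using fun q : C ⧸ (Ideal.span {x} • ⊤ : Submodule A C) => Submodule.Quotient.mk_surjective _ q
    refine ⟨s.image l, fun c => ?_⟩
    let M := (Submodule.span P.ResidueField (ι '' ((s.image l : Finset C) : Set C))).restrictScalars A
    have hx : (Ideal.span {x} • ⊤ : Submodule A C) ≤ M.comap ι.toLinearMap := by
      rw [Submodule.ideal_span_singleton_smul]
      rintro _ ⟨d, -, rfl⟩
      show ι (x • d) ∈ M
      rw [map_smul, ← IsScalarTower.algebraMap_smul P.ResidueField x, hker x hxP, zero_smul]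
      exact zero_mem _
    have : Submodule.mkQ (Ideal.span {x} • ⊤ : Submodule A C) c ∈
        (M.comap ι.toLinearMap).map (Submodule.mkQ (Ideal.span {x} • ⊤ : Submodule A C)) := by
      refine ((Submodule.span_le).2 ?_) (hs.ge (trivial : Submodule.mkQ (Ideal.span {x} • ⊤ : Submodule A C) c ∈ (⊤ : Submodule A (C ⧸ (Ideal.span {x} • ⊤ : Submodule A C)))))
      intro q hq
      exact ⟨l q, Submodule.subset_span ⟨l q, Finset.mem_image_of_mem _ hq, rfl⟩, hl q⟩
    obtain ⟨d, hd, hdc⟩ := this
    have := hx ((Submodule.Quotient.eq _).1 hdc)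
    have h2 := sub_mem hd this
    rwa [sub_sub_cancel] at h2

variable (X : Scheme.{u}) [IsIntegral X] [IsLocallyNoetherian X]
    [QuasiCompact (X.fromSpecStalk (genericPoint X))] [QuasiSeparated (X.fromSpecStalk (genericPoint X))]

theorem chart (hdim : topologicalKrullDim X = 1) (U : X.Opens) (hU : IsAffineOpen U) [Nonempty U] :
    ((Curv2.normalizationι X).app U).hom.QuasiFinite ∧
      IsNoetherianRing Γ(Curv2.normalization X, Curv2.normalizationι X ⁻¹ᵁ U) := by
  have : IsNoetherianRing Γ(X, U) := IsLocallyNoetherian.component_noetherian ⟨U, hU⟩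
  have := functionField_isFractionRing_of_isAffineOpen X U hU
  have : Ring.KrullDimLE 1 Γ(X, U) := Ring.KrullDimLE.mk₁ fun I hI => by
    let z := hU.fromSpec ⟨I, hI⟩
    by_cases hz : z = genericPoint X
    · left
      rw [IsDomain.minimalPrimes_eq_singleton_bot]
      have hηU : genericPoint X ∈ U := hz ▸ hU.range_fromSpec.le ⟨_, rfl⟩
      have h1 : (⟨I, hI⟩ : PrimeSpectrum Γ(X, U)) = hU.primeIdealOf ⟨genericPoint X, hηU⟩ :=
        hU.fromSpec.isOpenEmbedding.injective (by rw [hU.fromSpec_primeIdealOf]; exact hz)
      rw [Set.mem_singleton_iff, show I = (hU.primeIdealOf ⟨genericPoint X, hηU⟩).asIdeal from congrArg PrimeSpectrum.asIdeal h1,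
        hU.primeIdealOf_genericPoint, genericPoint_eq_bot_of_affine]
      rfl
    · right
      refine (PrimeSpectrum.isClosed_singleton_iff_isMaximal (⟨I, hI⟩ : PrimeSpectrum Γ(X, U))).1 ?_
      have h := (isClosed_singleton_of_ne hdim hz).preimage hU.fromSpec.continuous
      convert! h using 1
      ext Q
      exact ⟨fun h => congrArg hU.fromSpec h, fun h => hU.fromSpec.isOpenEmbedding.injective h⟩
  let φ : X.functionField →+* X.functionField := RingHom.id _
  have hg : X.fromSpecStalk (genericPoint X) =
      Spec.map (CommRingCat.ofHom φ) ≫ X.fromSpecStalk (genericPoint X) := by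
    rw [show CommRingCat.ofHom φ = 𝟙 _ from rfl, Spec.map_id, Category.id_comp]
  let C := integralClosure Γ(X, U) X.functionField
  obtain ⟨hqf, hN⟩ := quasiFinite_sub Γ(X, U) X.functionField C
  let N := Groth.Agent.NormalizationLib.normToK φ _ hg U hU
  let θ : Γ(Curv2.normalization X, Curv2.normalizationι X ⁻¹ᵁ U) →+* C :=
    N.hom.codRestrict C.toSubring
      fun v ↦ (Groth.Agent.NormalizationLib.mem_range_normToK φ _ hg U hU _).mp ⟨v, rfl⟩
  have hθ : Function.Bijective θ :=
    ⟨fun a b h ↦ Groth.Agent.NormalizationLib.injective_normToK φ _ hg U hU (congrArg Subtype.val h), fun y ↦ by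
      obtain ⟨v, hv⟩ := (Groth.Agent.NormalizationLib.mem_range_normToK φ _ hg U hU _).mpr y.2
      exact ⟨v, Subtype.ext hv⟩⟩
  let e := RingEquiv.ofBijective θ hθ
  refine ⟨?_, isNoetherianRing_of_ringEquiv C e.symm⟩
  have h : ((Curv2.normalizationι X).app U).hom = e.symm.toRingHom.comp (algebraMap Γ(X, U) C) := by
    ext a
    refine e.injective ?_
    show _ = e (e.symm (algebraMap Γ(X, U) C a))
    rw [e.apply_symm_apply]
    exact Subtype.ext (Groth.Agent.NormalizationLib.normToK_fromNormalization φ _ hg U hU a)
  rw [h]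
  exact (RingHom.QuasiFinite.of_finite (RingHom.Finite.of_surjective _ e.symm.surjective)).comp (RingHom.quasiFinite_algebraMap.2 hqf)


/-- For an integral scheme: let X be an integral locally Noetherian scheme of dimension one and ν : X^ν
→ X its normalization. Then ν has finite fibres and finite residue field extensions, and X^ν is a
locally Noetherian scheme whose nonempty affine opens are spectra of Dedekind domains. (The
published statement is for any locally Noetherian X of dimension one, with X^ν → X_red, and also
says that ν is integral, surjective and birational, that X^ν is normal and that its stalks are the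
integral closures of those of X; here X is integral, and those clauses, which hold for the
normalization of every integral scheme, are not restated.) -/
theorem result (X : Scheme.{u}) [IsIntegral X] [IsLocallyNoetherian X]
    [QuasiCompact (X.fromSpecStalk (genericPoint X))] [QuasiSeparated (X.fromSpecStalk (genericPoint X))]
    (hdim : topologicalKrullDim X = 1) :
    (∀ x : X, Finite {x' : ↥(Curv2.normalization X) // (Curv2.normalizationι X).base x' = x}) ∧
      (∀ x' : ↥(Curv2.normalization X),
        letI := ((Curv2.normalizationι X).residueFieldMap x').hom.toAlgebra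
        Module.Finite (X.residueField ((Curv2.normalizationι X).base x')) ((Curv2.normalization X).residueField x')) ∧
      IsLocallyNoetherian (Curv2.normalization X) ∧
      (∀ U : (Curv2.normalization X).affineOpens, ((U : (Curv2.normalization X).Opens) : Set ↥(Curv2.normalization X)).Nonempty →
        IsDedekindDomain Γ(Curv2.normalization X, (U : (Curv2.normalization X).Opens))) := by
  classical
  let ν := Curv2.normalizationι X
  let φ : X.functionField →+* X.functionField := RingHom.id _
  have hg : X.fromSpecStalk (genericPoint X) =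
      Spec.map (CommRingCat.ofHom φ) ≫ X.fromSpecStalk (genericPoint X) := by
    rw [show CommRingCat.ofHom φ = 𝟙 _ from rfl, Spec.map_id, Category.id_comp]
  have : IsIntegral (Curv2.normalization X) :=
    inferInstanceAs (IsIntegral (X.fromSpecStalk (genericPoint X)).normalization)
  have : IsAffineHom ν := inferInstanceAs (IsAffineHom (X.fromSpecStalk (genericPoint X)).fromNormalization)
  have : IsIntegralHom ν := inferInstanceAs (IsIntegralHom (X.fromSpecStalk (genericPoint X)).fromNormalization)
  have hU : ∀ z : ↥(Curv2.normalization X), ∃ U : X.affineOpens, ν z ∈ U.1 := fun z => by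
    obtain ⟨_, ⟨U, hU, rfl⟩, hzU, -⟩ :=
      X.isBasis_affineOpens.exists_subset_of_mem_open (Set.mem_univ (ν z)) isOpen_univ
    exact ⟨⟨U, hU⟩, hzU⟩
  choose U hzU using hU
  have hne : ∀ z, Nonempty (U z).1 := fun z => ⟨⟨_, hzU z⟩⟩
  have hcov : TopologicalSpace.IsOpenCover (fun z => ν ⁻¹ᵁ (U z).1) :=
    TopologicalSpace.IsOpenCover.mk (eq_top_iff.2 fun z _ => TopologicalSpace.Opens.mem_iSup.2 ⟨z, hzU z⟩)
  have hch := fun z => haveI := hne z; chart X hdim (U z).1 (U z).2
  have : LocallyQuasiFinite ν := by
    refine IsZariskiLocalAtSource.of_openCover (P := @LocallyQuasiFinite)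
      ((Curv2.normalization X).openCoverOfIsOpenCover _ hcov) fun z => ?_
    show LocallyQuasiFinite ((ν ⁻¹ᵁ (U z).1).ι ≫ ν)
    have hW : IsAffineOpen (ν ⁻¹ᵁ (U z).1) := (U z).2.preimage ν
    have : LocallyQuasiFinite (Spec.map (ν.app (U z).1)) := by
      rw [HasRingHomProperty.Spec_iff (P := @LocallyQuasiFinite)]; exact (hch z).1
    rw [← hW.isoSpec_hom_fromSpec_assoc ν, ← IsAffineOpen.SpecMap_appLE_fromSpec ν (U z).2 hW le_rfl,
      ← Scheme.Hom.app_eq_appLE]
    infer_instance
  have hN : IsLocallyNoetherian (Curv2.normalization X) :=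
    isLocallyNoetherian_of_affine_cover (S := fun z => ⟨_, (U z).2.preimage ν⟩) hcov.iSup_eq_top fun z => (hch z).2
  refine ⟨fun x => ?_, fun x' => ?_, hN, fun V hV => ?_⟩
  · exact (ν.finite_preimage_singleton x).to_subtype
  · exact Groth.Agent.FlatMorWeight.residueFieldMap_finite ν x'
  · have hVn : Nonempty (V : (Curv2.normalization X).Opens) := by
      obtain ⟨v, hv⟩ := hV; exact ⟨⟨v, hv⟩⟩
    have : IsNoetherianRing Γ(Curv2.normalization X, V.1) := IsLocallyNoetherian.component_noetherian V
    have : Nonempty V.1 := hVn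
    have hnor := Groth.Agent.NormalizationLib.isNormal φ _ hg
    have : IsIntegrallyClosed Γ(Curv2.normalization X, V.1) :=
      @Groth.Agent.H8Lim.isIntegrallyClosed_of_isAffineOpen _ _ (fun y => (hnor y).2) V.1 V.2 (by
        obtain ⟨v, hv⟩ := hV; exact ⟨⟨v, hv⟩⟩)
    have : Ring.DimensionLEOne Γ(Curv2.normalization X, V.1) := ⟨fun {q} hq0 hq => by
      refine (PrimeSpectrum.isClosed_singleton_iff_isMaximal (⟨q, hq⟩ : PrimeSpectrum _)).1 ?_
      let z := V.2.fromSpec ⟨q, hq⟩
      have hz : z ≠ genericPoint (Curv2.normalization X) := fun h => hq0 (by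
        have hηV : genericPoint (Curv2.normalization X) ∈ V.1 := h ▸ V.2.range_fromSpec.le ⟨_, rfl⟩
        have h1 : (⟨q, hq⟩ : PrimeSpectrum _) = V.2.primeIdealOf ⟨_, hηV⟩ :=
          V.2.fromSpec.isOpenEmbedding.injective (by rw [V.2.fromSpec_primeIdealOf]; exact h)
        rw [show q = (V.2.primeIdealOf ⟨_, hηV⟩).asIdeal from congrArg PrimeSpectrum.asIdeal h1,
          V.2.primeIdealOf_genericPoint, genericPoint_eq_bot_of_affine]
        rfl)
      have hcl : IsClosed ({z} : Set ↥(Curv2.normalization X)) := by
        have hνz : ν z ≠ genericPoint X := fun h => hz (by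
          have := (Groth.Agent.NormalizationLib.preimage_genericPoint φ _ hg).le (show z ∈ _ from h)
          exact this)
        have hfib : IsClosed (ν ⁻¹' {ν z}) := (isClosed_singleton_of_ne hdim hνz).preimage ν.continuous
        refine isClosed_of_closure_subset fun z' hz' => ?_
        have hz'f : z' ∈ ν ⁻¹' {ν z} :=
          hfib.closure_subset_iff.2 (Set.singleton_subset_iff.2 rfl) hz'
        have hd := ν.isDiscrete_preimage_singleton (ν z)
        exact (hd.eq_of_specializes (a := z) (b := z') (specializes_iff_mem_closure.2 hz') rfl hz'f).symm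
      convert! hcl.preimage V.2.fromSpec.continuous using 1
      ext Q
      exact ⟨fun h => congrArg V.2.fromSpec h, fun h => V.2.fromSpec.isOpenEmbedding.injective h⟩⟩
    exact { }

end Groth.Agent.S7684
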