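import Groth.Statements.S7686
import Groth.Agent.VarietyLib.InterCoeff
import Groth.Agent.VarietyLib.MultFormula
import Groth.Agent.CurveRR24.Sky

set_option autoImplicit false
universe u
open CategoryTheory CategoryTheory.Limits AlgebraicGeometry
open Variety
open Groth.Agent

namespace Groth.Agent.S7686

/-- Let X be proper over a field k, Z ⊆ X a closed subscheme of dimension d with irreducible components
Z_i of dimension d (reduced induced structure, generic points ξ_i, multiplicities m_i = length of
O_{Z,ξ_i} over O_{X,ξ_i}) and L_1, …, L_d invertible modules. Then (L_1 ⋯ L_d · Z) = Σ m_i (L_1 ⋯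
L_d · Z_i). Intersection numbers are the n_1⋯n_d-coefficients of the polynomials computing the Euler
characteristics; the sum is written over all points ξ whose closure has dimension d (other terms
vanish). -/
theorem result (k : Type u) [Field k] (X : Scheme.{u}) [X.Over (Spec (CommRingCat.of k))] [IsProper (X ↘ (Spec (CommRingCat.of k)))]
    (D : X.IdealSheafData) (d : ℕ) (hD : topologicalKrullDim (D.support : Set X) = d)
    (L : Fin d → X.Modules) (hL : ∀ i, PicF.IsInvertible (L i)) (P : MvPolynomial (Fin d) ℚ)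
    (hP : ∀ n : Fin d → ℕ, (Curv2.euler k X (Curv2.tensorPows (ClSub.quotMod D) d L n) : ℚ) = MvPolynomial.eval (fun i => (n i : ℚ)) P)
    (Q : X → MvPolynomial (Fin d) ℚ)
    (hQ : ∀ ξ : X, topologicalKrullDim (closure ({ξ} : Set X)) = (d : WithBot ℕ∞) →
      ∀ n : Fin d → ℕ, (Curv2.euler k X (Curv2.tensorPows (ClSub.quotMod (Scheme.IdealSheafData.vanishingIdeal (⟨closure ({ξ} : Set X), isClosed_closure⟩ : TopologicalSpace.Closeds X))) d L n) : ℚ) = MvPolynomial.eval (fun i => (n i : ℚ)) (Q ξ)) :
    MvPolynomial.coeff (Finsupp.equivFunOnFinite.symm fun _ : Fin d => 1) P =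
      ∑ᶠ ξ : X, (if topologicalKrullDim (closure ({ξ} : Set X)) = (d : WithBot ℕ∞) then
        ((Module.length (X.presheaf.stalk ξ) ((ClSub.quotMod D).presheaf.stalk ξ)).toNat : ℚ) *
          MvPolynomial.coeff (Finsupp.equivFunOnFinite.symm fun _ : Fin d => 1) (Q ξ) else 0) := by
  classical
  haveI : IsNoetherian X := EulerLib.isNoetherian_of_proper (X := X) k
  have hc : Coh.IsCoh (ClSub.quotMod D) := CurveRR24.isCoh_quotMod D
  have hsub := CurveRR24.support_quotMod_subset D
  have hs : topologicalKrullDim (CohB1.support (ClSub.quotMod D)) ≤ (d : WithBot ℕ∞) :=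
    (EulerLib.dim_mono hsub).trans hD.le
  let S := (VarietyLib.finite_top_points D.support.2 hD.le).toFinset
  let c := fun i => EulerLib.InvCl.mk (L i) (hL i)
  have key := VarietyLib.eq_sum_mult (ψ := fun M => (EulerLib.interDeg c (EulerLib.chiCl k M) : ℚ)) (d := d)
    (fun {M N} e => by rw [EulerLib.chiCl_congr k e])
    (fun T hT h₁ h₂ h₃ => by rw [EulerLib.chiCl_additive k T hT h₁ h₂ h₃, EulerLib.interDeg_add_fun]; push_cast; rfl)
    (fun M hM hlt => by rw [EulerLib.interDeg_eq_zero _ (EulerLib.finDeg_chiCl k hM hlt)]; simp)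
    hc hs S (fun ξ hξ h => (Set.Finite.mem_toFinset _).2 ⟨hsub hξ, h⟩)
    (fun ξ hξ => ((Set.Finite.mem_toFinset _).1 hξ).2)
  rw [VarietyLib.coeff_eq_interDeg k hc hs L hL P hP, key, finsum_eq_sum_of_support_subset _ (s := S) ?_]
  · refine Finset.sum_congr rfl fun ξ hξ => ?_
    have hξd := ((Set.Finite.mem_toFinset _).1 hξ).2
    rw [if_pos hξd, nsmul_eq_mul]
    congr 1
    have hq : Coh.IsCoh (ClSub.quotMod (Scheme.IdealSheafData.vanishingIdeal
        (⟨closure ({ξ} : Set X), isClosed_closure⟩ : TopologicalSpace.Closeds X))) := CurveRR24.isCoh_quotMod _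
    have hqs : topologicalKrullDim (CohB1.support (ClSub.quotMod (Scheme.IdealSheafData.vanishingIdeal
        (⟨closure ({ξ} : Set X), isClosed_closure⟩ : TopologicalSpace.Closeds X)))) ≤ (d : WithBot ℕ∞) :=
      (EulerLib.dim_mono (EulerLib.support_clM_subset ξ)).trans hξd.le
    exact (VarietyLib.coeff_eq_interDeg k hq hqs L hL (Q ξ) (hQ ξ hξd)).symm
  · intro ξ hξ
    rw [Function.mem_support] at hξ
    by_contra hS
    refine hξ ?_
    split_ifs with h
    · have : ξ ∉ CohB1.support (ClSub.quotMod D) := fun hm => hS ((Set.Finite.mem_toFinset _).2 ⟨hsub hm, h⟩)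
      have h0 := VarietyLib.mult_eq_zero this
      rw [VarietyLib.mult] at h0
      rw [h0]; simp
    · rfl

end Groth.Agent.S7686
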