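import Groth.Statements.S8280
import Groth.Agent.ProjLib.RelProjOpen
import Groth.Agent.ProjLib.MapLocal

set_option autoImplicit false
universe u
open CategoryTheory CategoryTheory.Limits AlgebraicGeometry Opposite TopologicalSpace
open scoped HomogeneousIdeal
open EGA2

namespace Groth.Agent.S8280

/-- Let (f_α) be global sections of the quasi-coherent positively graded O_Y-algebra 𝒮, homogeneous of
positive degrees, such that the ideal they generate contains all 𝒮_n from some degree on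
(affine-locally). Then the opens X_{f_α} of Proj(𝒮) (characterised chartwise by the basic opens
D_+(f_α|U)) cover Proj(𝒮). (The published hypothesis fixes one degree, valid over all of Y, from
which on the f_α generate; this row asks for such a degree over each affine open separately, which
is all the proof, carried out one affine open at a time, uses.) -/
theorem result {Y P : Scheme.{u}} (𝒮 : RelProj.QCGrAlg Y) (p : P ⟶ Y)
    (chart : ∀ (U : Y.Opens) (hU : IsAffineOpen U), (((p ⁻¹ᵁ U : P.Opens) : Scheme.{u}) ≅ Proj (𝒮.deg U hU)))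
    (hP : RelProj.IsRelProj 𝒮 p chart) {ι : Type u} (d : ι → ℕ) (hd : ∀ a, 0 < d a)
    (f : ι → 𝒮.presheaf.obj (op ⊤))
    (hf : ∀ (a : ι) (U : Y.Opens) (hU : IsAffineOpen U), (𝒮.presheaf.map (homOfLE le_top).op).hom (f a) ∈ 𝒮.deg U hU (d a))
    (hgen : ∀ (U : Y.Opens) (hU : IsAffineOpen U), ∃ n₀ : ℕ, ∀ n, n₀ ≤ n →
      (𝒮.deg U hU n : Set (𝒮.presheaf.obj (op U))) ⊆
        (Ideal.span (Set.range fun a => (𝒮.presheaf.map (homOfLE (le_top : U ≤ ⊤)).op).hom (f a)) :
          Set (𝒮.presheaf.obj (op U))))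
    (X : ι → P.Opens)
    (hX : ∀ (a : ι) (U : Y.Opens) (hU : IsAffineOpen U),
      X a ⊓ p ⁻¹ᵁ U =
        (p ⁻¹ᵁ U).ι ''ᵁ ((chart U hU).hom ⁻¹ᵁ
          Proj.basicOpen (𝒮.deg U hU) ((𝒮.presheaf.map (homOfLE le_top).op).hom (f a)))) :
    ⨆ a, X a = ⊤ := by
  refine eq_top_iff.mpr fun x _ => ?_
  obtain ⟨_, ⟨U, hU', rfl⟩, hxU, -⟩ :=
    Y.isBasis_affineOpens.exists_subset_of_mem_open (Set.mem_univ (p x)) isOpen_univ
  have hU : IsAffineOpen U := hU'
  let q : ProjectiveSpectrum (𝒮.deg U hU) := (chart U hU).hom ⟨x, hxU⟩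
  obtain ⟨a, ha⟩ : ∃ a, (𝒮.presheaf.map (homOfLE (le_top : U ≤ ⊤)).op).hom (f a) ∉
      q.asHomogeneousIdeal.toIdeal := by
    by_contra! hall
    obtain ⟨n₀, hn₀⟩ := hgen U hU
    refine q.not_irrelevant_le ((HomogeneousIdeal.toIdeal_irrelevant_le _).mpr fun e he t ht => ?_)
    refine q.isPrime.mem_of_pow_mem (n₀ + 1) ?_
    have h1 : t ^ (n₀ + 1) ∈ 𝒮.deg U hU ((n₀ + 1) * e) := by
      simpa [mul_comm] using SetLike.pow_mem_graded (A := 𝒮.deg U hU) (n₀ + 1) (show t ∈ 𝒮.deg U hU e from ht)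
    exact (Ideal.span_le.mpr (Set.range_subset_iff.mpr hall)) (hn₀ _ (by nlinarith) h1)
  refine Opens.mem_iSup.mpr ⟨a, ((hX a U hU).ge ?_).1⟩
  exact ⟨⟨x, hxU⟩, ha, rfl⟩

end Groth.Agent.S8280
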