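import Groth.Statements.S8282
import Groth.Agent.ProjLib.PConeLemmas
import Mathlib

set_option autoImplicit false
set_option backward.isDefEq.respectTransparency.types false
universe u
open CategoryTheory CategoryTheory.Limits AlgebraicGeometry
open EGA2 HomogeneousLocalization

namespace Groth.Agent.S8282

section
variable {R A B : Type u} [CommRing R] [CommRing A] [Algebra R A] {𝒜 : ℕ → Submodule R A} [GradedAlgebra 𝒜]
  [CommRing B] [Algebra R B] {ℬ : ℕ → Submodule R B} [GradedAlgebra ℬ] (φ : 𝒜 →+*ᵍ ℬ)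

theorem surjective_awayMap (p : (PCone.dom φ : Scheme.{u}) ⟶ Proj 𝒜)
    (hp : ∀ (d : ℕ) (f : A) (hd : 0 < d) (hf : f ∈ 𝒜 d), PCone.chart φ hf hd ≫ p =
      Spec.map (CommRingCat.ofHom (Away.map φ f)) ≫ Proj.awayι 𝒜 f hf hd)
    [IsIso p] {d : ℕ} {f : A} (hf : f ∈ 𝒜 d) (hd : 0 < d) :
    Function.Surjective (Away.map φ f) := by
  have := ProjLib.chart_isOpenImmersion φ hf hd
  have hr : Set.range (PCone.chart φ hf hd ≫ p) = Set.range (Proj.awayι 𝒜 f hf hd) := by
    have h1 : ((PCone.chart φ hf hd).opensRange : Set ↥(PCone.dom φ : Scheme.{u})) =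
        p ⁻¹' (Proj.basicOpen 𝒜 f : Set ↥(Proj 𝒜)) := by
      rw [← ProjLib.preimage_basicOpen_of_chart φ p hp hf hd]; rfl
    rw [← Scheme.Hom.coe_opensRange (Proj.awayι 𝒜 f hf hd), Proj.opensRange_awayι,
      ← Set.image_preimage_eq (Proj.basicOpen 𝒜 f : Set ↥(Proj 𝒜)) p.surjective, ← h1]
    exact Set.range_comp p (PCone.chart φ hf hd)
  have e : (IsOpenImmersion.isoOfRangeEq (PCone.chart φ hf hd ≫ p) (Proj.awayι 𝒜 f hf hd) hr).hom =
      Spec.map (CommRingCat.ofHom (Away.map φ f)) := by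
    rw [← cancel_mono (Proj.awayι 𝒜 f hf hd), IsOpenImmersion.isoOfRangeEq_hom_fac, hp]
  have hi : IsIso (Spec.map (CommRingCat.ofHom (Away.map φ f))) := e ▸ inferInstance
  have : IsIso (Scheme.Spec.map (CommRingCat.ofHom (Away.map φ f)).op) := hi
  have : IsIso (CommRingCat.ofHom (Away.map φ f)).op := isIso_of_reflects_iso _ Scheme.Spec
  have : IsIso (CommRingCat.ofHom (Away.map φ f)) := isIso_of_op _
  exact (ConcreteCategory.bijective_of_isIso (CommRingCat.ofHom (Away.map φ f))).2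

theorem exists_pow_mul_mem_range (p : (PCone.dom φ : Scheme.{u}) ⟶ Proj 𝒜)
    (hp : ∀ (d : ℕ) (f : A) (hd : 0 < d) (hf : f ∈ 𝒜 d), PCone.chart φ hf hd ≫ p =
      Spec.map (CommRingCat.ofHom (Away.map φ f)) ≫ Proj.awayι 𝒜 f hf hd)
    [IsIso p] {f : A} (hf : f ∈ 𝒜 1) {d : ℕ} {t : B} (ht : t ∈ ℬ d) :
    ∃ N, φ f ^ N * t ∈ φ.toRingHom.range := by
  obtain ⟨z, hz⟩ := surjective_awayMap φ p hp hf one_pos
    (Away.mk ℬ (GradedFunLike.map_mem φ hf) d t (by rwa [smul_eq_mul, mul_one]))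
  obtain ⟨n, a, ha, rfl⟩ := Away.mk_surjective 𝒜 hf z
  rw [Away.map_mk] at hz
  have h := congrArg HomogeneousLocalization.val hz
  rw [Away.val_mk, Away.val_mk, Localization.mk_eq_mk_iff, Localization.r_iff_exists] at h
  obtain ⟨⟨c, m, rfl⟩, hc⟩ := h
  refine ⟨m + n, f ^ (m + d) * a, ?_⟩
  simp only at hc
  show φ (f ^ (m + d) * a) = _
  rw [map_mul, map_pow, pow_add, pow_add, mul_assoc, mul_assoc]
  exact hc

theorem mem_image_of_mem_range {n : ℕ} {y : B} (hy : y ∈ ℬ n) (h : y ∈ φ.toRingHom.range) :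
    ∃ a ∈ 𝒜 n, φ a = y := by
  obtain ⟨b, rfl⟩ := h
  refine ⟨DirectSum.decompose 𝒜 b n, Subtype.prop _, ?_⟩
  rw [GradedRingHom.map_directSumDecompose]
  exact DirectSum.decompose_of_mem_same ℬ hy

theorem mem_radical (hdom : PCone.dom φ = ⊤) (hgen : ∀ n : ℕ, 1 ≤ n → 𝒜 n = 𝒜 1 ^ n)
    {d : ℕ} (hd : 0 < d) {t : B} (ht : t ∈ ℬ d) :
    t ∈ (Ideal.span (φ '' (𝒜 1 : Set A))).radical := by
  have hJ : (Ideal.span (φ '' (𝒜 1 : Set A))).IsHomogeneous ℬ :=
    Ideal.homogeneous_span ℬ _ (by rintro _ ⟨a, ha, rfl⟩; exact ⟨1, GradedFunLike.map_mem φ ha⟩)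
  rw [hJ.radical_eq, Submodule.mem_sInf]
  rintro P ⟨hP, hle, hPp⟩
  by_contra htP
  have hirr : ¬ HomogeneousIdeal.irrelevant ℬ ≤ ⟨P, hP⟩ := fun h => htP <| h <| by
    rw [HomogeneousIdeal.mem_irrelevant_iff, GradedRing.proj_apply]
    exact DirectSum.decompose_of_mem_ne ℬ ht hd.ne'
  let x : ProjectiveSpectrum ℬ := ⟨⟨P, hP⟩, hPp, hirr⟩
  have hx : (x : ↥(Proj ℬ)) ∈ PCone.dom φ := by rw [hdom]; trivial
  obtain ⟨⟨f, e, he, hf⟩, hfx⟩ := TopologicalSpace.Opens.mem_iSup.1 hx
  refine hfx (?_ : φ f ∈ P)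
  rw [hgen e he] at hf
  have key : ∀ m : ℕ, ∀ g ∈ 𝒜 1 ^ (m + 1), φ g ∈ P := fun m g hg => by
    rw [pow_succ] at hg
    refine Submodule.mul_induction_on hg (fun a _ b hb => ?_) (fun a b ha hb => ?_)
    · rw [map_mul]; exact Ideal.mul_mem_left P _ (hle (Ideal.subset_span ⟨b, hb, rfl⟩))
    · rw [map_add]; exact P.add_mem ha hb
  obtain ⟨m, rfl⟩ := Nat.exists_eq_add_of_le he
  exact key m f (by rwa [add_comm] at hf)

end

/-- Let T be a positively graded ring which is a T_0-algebra of finite type, and T' = ⊕_n T_1^n → T the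
injective graded homomorphism from the subalgebra generated by T_1 (T' presented as a graded ring
with φ : T' → T injective, bijective in degrees 0 and 1, and T'_n = (T'_1)^n for n ≥ 1). If the
morphism of homogeneous spectra induced by φ is everywhere defined (its domain G(φ) is the whole of
Proj T) and is an isomorphism onto Proj T', then there is n₀ with T_n = T_1^n for all n ≥ n₀. -/
theorem result {R A B : Type u} [CommRing R] [CommRing A] [Algebra R A]
    (𝒜 : ℕ → Submodule R A) [GradedAlgebra 𝒜] [CommRing B] [Algebra R B] (ℬ : ℕ → Submodule R B) [GradedAlgebra ℬ]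
    [Algebra.FiniteType (ℬ 0) B] (φ : 𝒜 →+*ᵍ ℬ) (hφ : Function.Injective φ)
    (h0 : Set.BijOn φ (𝒜 0) (ℬ 0)) (h1 : Set.BijOn φ (𝒜 1) (ℬ 1))
    (hgen : ∀ n : ℕ, 1 ≤ n → 𝒜 n = 𝒜 1 ^ n)
    (hdom : PCone.dom φ = ⊤)
    (p : (PCone.dom φ : Scheme.{u}) ⟶ Proj 𝒜)
    (hp : ∀ (d : ℕ) (f : A) (hd : 0 < d) (hf : f ∈ 𝒜 d),
      PCone.chart φ hf hd ≫ p =
        Spec.map (CommRingCat.ofHom (HomogeneousLocalization.Away.map φ f)) ≫ Proj.awayι 𝒜 f hf hd)
    [IsIso p] :
    ∃ n₀ : ℕ, ∀ n : ℕ, n₀ ≤ n → ℬ n = ℬ 1 ^ n := by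
  classical
  -- positive-degree homogeneous generators
  obtain ⟨G, hG⟩ := Algebra.FiniteType.out (R := ℬ 0) (A := B)
  let s : Finset B := G.biUnion fun g => ((DirectSum.decompose ℬ g).support.filter (0 < ·)).image
    fun i => (DirectSum.decompose ℬ g i : B)
  have hs : Algebra.adjoin (ℬ 0) (s : Set B) = ⊤ := by
    rw [eq_top_iff, ← hG]
    refine Algebra.adjoin_le fun g hg => ?_
    rw [← DirectSum.sum_support_decompose ℬ g]
    refine Subalgebra.sum_mem _ fun i hi => ?_
    obtain rfl | hi0 := Nat.eq_zero_or_pos i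
    · exact Subalgebra.algebraMap_mem _ (DirectSum.decompose ℬ g 0)
    · refine Algebra.subset_adjoin ?_
      simp only [s, Finset.coe_biUnion, Set.mem_iUnion, Finset.coe_image, Finset.coe_filter, Set.mem_image]
      exact ⟨g, hg, i, ⟨hi, hi0⟩, rfl⟩
  have hsd : ∀ t : s, ∃ d, 0 < d ∧ t.1 ∈ ℬ d := by
    rintro ⟨t, ht⟩
    simp only [s, Finset.mem_biUnion, Finset.mem_image, Finset.mem_filter] at ht
    obtain ⟨g, -, i, ⟨-, hi⟩, rfl⟩ := ht
    exact ⟨i, hi, (DirectSum.decompose ℬ g i).2⟩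
  choose dg hdg hsdg using hsd
  have hdeg : ∀ e : s → ℕ, ∏ t, t.1 ^ e t ∈ ℬ (∑ t, e t * dg t) := fun e =>
    SetLike.prod_mem_graded (A := ℬ) (i := fun t => e t * dg t) (g := fun t => t.1 ^ e t)
      fun t _ => by rw [← smul_eq_mul]; exact SetLike.pow_mem_graded _ (hsdg t)
  -- degree n elements are combinations of monomials of degree n
  have hspan : ∀ n, ∀ x ∈ ℬ n, x ∈ Submodule.span (ℬ 0)
      {y | ∃ e : s → ℕ, ∑ t, e t * dg t = n ∧ y = ∏ t, t.1 ^ e t} := by
    intro n x hx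
    have hx' : x ∈ Submodule.span (ℬ 0) (Submonoid.closure (s : Set B) : Set B) := by
      rw [← Algebra.adjoin_eq_span, hs]; trivial
    rw [show x = (DirectSum.decompose ℬ x n : B) from (DirectSum.decompose_of_mem_same ℬ hx).symm]
    clear hx
    induction hx' using Submodule.span_induction with
    | mem y hy =>
      obtain ⟨e, rfl⟩ := Submonoid.mem_closure_finset'.1 hy
      obtain he | he := eq_or_ne (∑ t, e t * dg t) n
      · subst he
        rw [DirectSum.decompose_of_mem_same ℬ (hdeg e)]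
        exact Submodule.subset_span ⟨e, rfl, rfl⟩
      · rw [DirectSum.decompose_of_mem_ne ℬ (hdeg e) he]
        exact Submodule.zero_mem _
    | zero => simp
    | add y z _ _ hy hz => simpa using Submodule.add_mem _ hy hz
    | smul c y _ hy =>
      have : (DirectSum.decompose ℬ (c • y) n : B) = c • (DirectSum.decompose ℬ y n : B) := by
        rw [Algebra.smul_def, Algebra.smul_def]
        exact DirectSum.coe_decompose_mul_of_left_mem_zero ℬ c.2
      rw [this]
      exact Submodule.smul_mem _ _ hy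
  -- finitely many elements of degree one
  have hk : ∀ t : s, ∃ k : ℕ, ∃ F : Finset B, (F : Set B) ⊆ φ '' (𝒜 1 : Set A) ∧
      t.1 ^ k ∈ Ideal.span (F : Set B) := fun t => by
    obtain ⟨k, hk⟩ := mem_radical φ hdom hgen (hdg t) (hsdg t)
    exact ⟨k, Submodule.mem_span_finite_of_mem_span hk⟩
  choose k F hF hkF using hk
  let FA : Finset B := Finset.univ.biUnion F
  have hFA : ∀ b ∈ FA, ∃ a ∈ 𝒜 1, φ a = b := fun b hb => by
    simp only [FA, Finset.mem_biUnion] at hb
    obtain ⟨t, -, hb⟩ := hb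
    exact hF t hb
  have hFA1 : ∀ b ∈ FA, b ∈ ℬ 1 := fun b hb => by
    obtain ⟨a, ha, rfl⟩ := hFA b hb
    exact GradedFunLike.map_mem φ ha
  let n₁ := ∑ t, k t * dg t
  -- above n₁ everything is divisible by FA
  have hdiv : ∀ n, n₁ ≤ n → ∀ x ∈ ℬ (n + 1), ∃ y : FA → B, (∀ f, y f ∈ ℬ n) ∧
      x = ∑ f, f.1 * y f := by
    intro n hn x hx
    have hxI : x ∈ Ideal.span (FA : Set B) := by
      refine (Submodule.span_le.2 ?_ : Submodule.span (ℬ 0) _ ≤
        (Ideal.span (FA : Set B)).restrictScalars (ℬ 0)) (hspan (n + 1) x hx)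
      rintro _ ⟨e, he, rfl⟩
      obtain ⟨t, ht⟩ : ∃ t, k t ≤ e t := by
        by_contra! h
        have : ∑ t, e t * dg t ≤ n₁ :=
          Finset.sum_le_sum fun t _ => Nat.mul_le_mul_right _ (h t).le
        omega
      show ∏ t, t.1 ^ e t ∈ Ideal.span (FA : Set B)
      refine Ideal.mem_of_dvd _ (dvd_trans (pow_dvd_pow _ ht) (Finset.dvd_prod_of_mem _ (Finset.mem_univ t)))
        (Ideal.span_mono (Finset.coe_subset.2 (Finset.subset_biUnion_of_mem F (Finset.mem_univ t))) (hkF t))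
    obtain ⟨c, hc⟩ := Submodule.mem_span_finset'.1 hxI
    refine ⟨fun f => DirectSum.decompose ℬ (c f) n, fun f => Subtype.prop _, ?_⟩
    have := congrArg (fun z => ((DirectSum.decompose ℬ z (n + 1)) : B)) hc
    simp only [DirectSum.decompose_sum, DirectSum.sum_apply, AddSubmonoidClass.coe_finsetSum] at this
    rw [← DirectSum.decompose_of_mem_same ℬ hx, ← this]
    refine Finset.sum_congr rfl fun f _ => ?_
    dsimp only
    rw [smul_eq_mul, DirectSum.coe_decompose_mul_of_right_mem_of_le ℬ (hFA1 _ f.2) (by omega),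
      Nat.add_sub_cancel, mul_comm]
  let S := φ.toRingHom.range
  have hB0 : ∀ c : ℬ 0, (c : B) ∈ S := fun c => by
    obtain ⟨a, -, ha⟩ := h0.surjOn c.2
    exact ⟨a, ha⟩
  have hFS : ∀ f : FA, f.1 ∈ S := fun f => by
    obtain ⟨a, -, ha⟩ := hFA _ f.2
    exact ⟨a, ha⟩
  -- a uniform power in degree n₁
  let M : Set B := {y | ∃ e : s → ℕ, ∑ t, e t * dg t = n₁ ∧ y = ∏ t, t.1 ^ e t}
  have hM : M.Finite := by
    refine ((Set.Finite.pi (t := fun _ : s => Set.Iic n₁) fun _ => Set.finite_Iic _).image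
      fun e => ∏ t, t.1 ^ e t).subset ?_
    rintro _ ⟨e, he, rfl⟩
    refine ⟨e, fun t _ => ?_, rfl⟩
    have h := Finset.single_le_sum (f := fun t => e t * dg t) (fun _ _ => Nat.zero_le _) (Finset.mem_univ t)
    have := Nat.le_mul_of_pos_right (e t) (hdg t)
    simp only [Set.mem_Iic]; omega
  have hNfy : ∀ (f : FA) (y : hM.toFinset), ∃ N, f.1 ^ N * y.1 ∈ S := fun f y => by
    obtain ⟨a, ha, hfa⟩ := hFA _ f.2
    obtain ⟨e, he, hy⟩ := hM.mem_toFinset.1 y.2
    rw [← hfa, hy]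
    exact exists_pow_mul_mem_range φ p hp ha (hdeg e)
  choose Nf hNf using hNfy
  let N := ∑ f, ∑ y, Nf f y
  have hN : ∀ f : FA, ∀ n, n₁ ≤ n → ∀ x ∈ ℬ n, f.1 ^ N * x ∈ S := by
    intro f n hn
    induction n, hn using Nat.le_induction with
    | base =>
      intro x hx
      refine Submodule.span_induction (p := fun x _ => f.1 ^ N * x ∈ S) ?_ (by simp [S.zero_mem])
        (fun a b _ _ ha hb => by rw [mul_add]; exact S.add_mem ha hb)
        (fun c a _ ha => by rw [Algebra.smul_def, mul_left_comm]; exact S.mul_mem (hB0 c) ha)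
        (hspan n₁ x hx)
      intro y hy
      obtain ⟨r, hr⟩ := Nat.exists_eq_add_of_le
        ((Finset.single_le_sum (f := fun y => Nf f y) (fun _ _ => Nat.zero_le _)
          (Finset.mem_univ (⟨y, hM.mem_toFinset.2 hy⟩ : hM.toFinset))).trans
          (Finset.single_le_sum (f := fun f => ∑ y, Nf f y) (fun _ _ => Nat.zero_le _) (Finset.mem_univ f)))
      show f.1 ^ N * y ∈ S
      rw [show N = _ from hr, pow_add, mul_right_comm]
      exact S.mul_mem (hNf f ⟨y, _⟩) (pow_mem (hFS f) r)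
    | succ n hn ih =>
      intro x hx
      obtain ⟨y, hy, rfl⟩ := hdiv n hn x hx
      rw [Finset.mul_sum]
      exact S.sum_mem fun g _ => by rw [mul_left_comm]; exact S.mul_mem (hFS g) (ih _ (hy g))
  have hD : ∀ (D : ℕ) (e : FA → ℕ), ∑ f, (N - e f) ≤ D → ∀ n, n₁ + D + 1 ≤ n →
      ∀ x ∈ ℬ n, (∏ f, f.1 ^ e f) * x ∈ S := by
    intro D
    induction D with
    | zero =>
      intro e he n hn x hx
      obtain ⟨m, rfl⟩ := Nat.exists_eq_add_of_le (show 1 ≤ n by omega)
      rw [add_comm] at hx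
      obtain ⟨y, hy, rfl⟩ := hdiv m (by omega) x hx
      rw [Finset.mul_sum]
      refine S.sum_mem fun g _ => ?_
      rw [mul_left_comm]
      refine S.mul_mem (hFS g) ?_
      have hg : N ≤ e g := by
        have := Finset.single_le_sum (f := fun f => N - e f) (fun _ _ => Nat.zero_le _) (Finset.mem_univ g)
        omega
      obtain ⟨r, hr⟩ := Nat.exists_eq_add_of_le hg
      rw [← Finset.mul_prod_erase _ _ (Finset.mem_univ g), hr, pow_add,
        show g.1 ^ N * g.1 ^ r * (∏ f ∈ Finset.univ.erase g, f.1 ^ e f) * y g =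
          (g.1 ^ r * ∏ f ∈ Finset.univ.erase g, f.1 ^ e f) * (g.1 ^ N * y g) by ring]
      exact S.mul_mem (S.mul_mem (pow_mem (hFS g) r) (S.prod_mem fun f _ => pow_mem (hFS f) _))
        (hN g m (by omega) _ (hy g))
    | succ D ih =>
      intro e he n hn x hx
      obtain ⟨m, rfl⟩ := Nat.exists_eq_add_of_le (show 1 ≤ n by omega)
      rw [add_comm] at hx
      obtain ⟨y, hy, rfl⟩ := hdiv m (by omega) x hx
      rw [Finset.mul_sum]
      refine S.sum_mem fun g _ => ?_
      by_cases hg : N ≤ e g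
      · obtain ⟨r, hr⟩ := Nat.exists_eq_add_of_le hg
        rw [← Finset.mul_prod_erase _ _ (Finset.mem_univ g), hr, pow_add,
          show g.1 ^ N * g.1 ^ r * (∏ f ∈ Finset.univ.erase g, f.1 ^ e f) * (g.1 * y g) =
            (g.1 ^ r * g.1 * ∏ f ∈ Finset.univ.erase g, f.1 ^ e f) * (g.1 ^ N * y g) by ring]
        exact S.mul_mem (S.mul_mem (S.mul_mem (pow_mem (hFS g) r) (hFS g))
          (S.prod_mem fun f _ => pow_mem (hFS f) _)) (hN g m (by omega) _ (hy g))
      · have h := ih (Function.update e g (e g + 1)) ?_ m (by omega) (y g) (hy g)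
        · have hprod : (∏ f, f.1 ^ Function.update e g (e g + 1) f) = (∏ f, f.1 ^ e f) * g.1 := by
            rw [← Finset.mul_prod_erase _ _ (Finset.mem_univ g),
              ← Finset.mul_prod_erase _ (fun f : FA => f.1 ^ e f) (Finset.mem_univ g),
              Function.update_self, pow_succ,
              Finset.prod_congr rfl (g := fun f : FA => f.1 ^ e f) fun f hf => by
                rw [Function.update_of_ne (Finset.ne_of_mem_erase hf)]]
            ring
          rw [hprod, mul_assoc] at h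
          exact h
        · rw [← Finset.add_sum_erase _ _ (Finset.mem_univ g), Function.update_self,
            Finset.sum_congr rfl (g := fun f : FA => N - e f) fun f hf => by
              rw [Function.update_of_ne (Finset.ne_of_mem_erase hf)]]
          rw [← Finset.add_sum_erase _ _ (Finset.mem_univ g)] at he
          omega
  refine ⟨n₁ + (∑ _f : FA, N) + 1, fun n hn => le_antisymm (fun x hx => ?_) ?_⟩
  · have hxS : x ∈ S := by simpa using hD _ (fun _ => 0) (by simp) n hn x hx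
    obtain ⟨a, ha, rfl⟩ := mem_image_of_mem_range φ hx hxS
    rw [hgen n (by omega)] at ha
    have key : ∀ m : ℕ, ∀ g ∈ 𝒜 1 ^ (m + 1), φ g ∈ ℬ 1 ^ (m + 1) := by
      intro m
      induction m with
      | zero => intro g hg; rw [pow_one] at hg ⊢; exact GradedFunLike.map_mem φ hg
      | succ m ih =>
        intro g hg
        rw [pow_succ] at hg ⊢
        refine Submodule.mul_induction_on hg (fun a ha b hb => ?_) (fun a b ha hb => ?_)
        · rw [map_mul]; exact Submodule.mul_mem_mul (ih a ha) (GradedFunLike.map_mem φ hb)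
        · rw [map_add]; exact Submodule.add_mem _ ha hb
    obtain ⟨m, rfl⟩ := Nat.exists_eq_add_of_le (show 1 ≤ n by omega)
    rw [add_comm] at ha ⊢
    exact key m a ha
  · intro x hx
    have key : ∀ m : ℕ, ∀ g ∈ ℬ 1 ^ (m + 1), g ∈ ℬ (m + 1) := by
      intro m
      induction m with
      | zero => intro g hg; rwa [pow_one] at hg
      | succ m ih =>
        intro g hg
        rw [pow_succ] at hg
        refine Submodule.mul_induction_on hg (fun a ha b hb => ?_) (fun a b ha hb => Submodule.add_mem _ ha hb)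
        exact SetLike.mul_mem_graded (ih a ha) hb
    obtain ⟨m, rfl⟩ := Nat.exists_eq_add_of_le (show 1 ≤ n by omega)
    rw [add_comm] at hx ⊢
    exact key m x hx

end Groth.Agent.S8282
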