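import Groth.Statements.S8283
import Groth.Agent.SectionLib.FibreDVR

set_option autoImplicit false
universe u
open CategoryTheory CategoryTheory.Limits AlgebraicGeometry Opposite TopologicalSpace
open EGA2

namespace Groth.Agent.S8283

/-- Let π : V → X be locally of finite type and j : X → V a section of π that is a closed immersion with
invertible ideal sheaf. Then for every x ∈ X the local ring at j(x) of the fibre π⁻¹(π(j(x))) =
π⁻¹(x) is a regular local ring of dimension one, i.e. a discrete valuation ring (so j(x) lies on a
single irreducible component of the fibre; the completion of that local ring is then a power-series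
ring in one variable over the residue field of x). (The published statement assumes π of finite
type; this row assumes only that π is locally of finite type, which is all the proof uses: it needs
no more than the Noetherian property of the local rings of the fibre.) -/
theorem result {X V : Scheme.{u}} (π : V ⟶ X) [LocallyOfFiniteType π]
    (j : X ⟶ V) [IsClosedImmersion j] (hj : j ≫ π = 𝟙 X) (hJ : BlowUp.IsEffCartierIdeal j.ker) (x : X) :
    ∃ _ : IsDomain ((π.fiber (π.base (j.base x))).presheaf.stalk (π.asFiber (j.base x))),
      IsDiscreteValuationRing ((π.fiber (π.base (j.base x))).presheaf.stalk (π.asFiber (j.base x))) := by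
  obtain ⟨U, hxU, f, hf, hJU⟩ := hJ (j.base x)
  obtain ⟨hker, hnzd⟩ := Groth.Agent.SectionLib.ker_stalkMap_of_ideal_eq j x U hxU f hf hJU
  obtain ⟨ψ, hψ, hψk⟩ := Groth.Agent.SectionLib.exists_fibre_quotient π (j.base x)
  have : IsOpenImmersion (j ≫ π) := hj ▸ inferInstance
  have hbij : Function.Bijective ((j ≫ π).stalkMap x).hom :=
    (ConcreteCategory.isIso_iff_bijective _).mp inferInstance
  rw [Scheme.Hom.stalkMap_comp] at hbij
  have : LocallyOfFiniteType (π.fiberToSpecResidueField (π.base (j.base x))) :=
    MorphismProperty.pullback_snd _ _ inferInstance
  have : IsLocallyNoetherian (π.fiber (π.base (j.base x))) :=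
    LocallyOfFiniteType.isLocallyNoetherian (π.fiberToSpecResidueField (π.base (j.base x)))
  exact Groth.Agent.SectionLib.isDVR_quotient (π.stalkMap (j.base x)).hom (j.stalkMap x).hom _
    hbij hker hnzd ψ hψ hψk

end Groth.Agent.S8283
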