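import Groth.Statements.S8297
import Groth.Agent.RelConeLib.Infinity

set_option autoImplicit false
universe u
open CategoryTheory CategoryTheory.Limits AlgebraicGeometry Opposite TopologicalSpace
open scoped HomogeneousIdeal
noncomputable section
open EGA2

namespace Groth.Agent.S8297

/-- The relation i(C) = Ĉ − j(X): let 𝒮 be a quasi-coherent positively graded O_Y-algebra with 𝒮_0 =
O_Y, Ŝ = 𝒮[z] (given through a graded homomorphism ι : 𝒮 → Ŝ and a global section z of degree one,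
the map 𝒮(U)[X] → Ŝ(U), X ↦ z, being bijective over every affine open U), C = Spec(𝒮) the affine
cone, Ĉ = Proj(Ŝ) the projective cone and X = Proj(𝒮), each relative homogeneous spectrum given with
its charts; let i : C → Ĉ be the canonical open immersion (chartwise Spec of Ŝ(U)_(z) → 𝒮(U), z ↦ 1,
followed by the inclusion of D_+(z)), θ : Ŝ → 𝒮 the graded retraction of ι sending z to 0, and j : X
→ Ĉ the morphism chartwise induced by θ (the immersion of the locus at infinity). Then the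
underlying set of the image of i is the complement of the image of j. -/
theorem result {Y PC P : Scheme.{u}} (𝒮 𝒮h : RelProj.QCGrAlg Y) (h0 : RelCone.StrZeroBij 𝒮)
    (ι : 𝒮.toQCAlg ⟶ 𝒮h.toQCAlg) (z : 𝒮h.presheaf.obj (op ⊤)) (hz : RelCone.IsPolyOver 𝒮 𝒮h ι z)
    (pC : PC ⟶ Y)
    (chartC : ∀ (U : Y.Opens) (hU : IsAffineOpen U), (((pC ⁻¹ᵁ U : PC.Opens) : Scheme.{u}) ≅ Proj (𝒮h.deg U hU)))
    (hPC : RelProj.IsRelProj 𝒮h pC chartC)
    (i : 𝒮.toQCAlg.spec ⟶ PC) (hi : RelCone.IsConeImm 𝒮 hz pC chartC i)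
    (θ : 𝒮h.toQCAlg ⟶ 𝒮.toQCAlg) (hθ : RelProj.IsGradedHom θ) (hιθ : ι ≫ θ = 𝟙 _)
    (hθz : (θ.hom.app (op ⊤)).hom z = 0)
    (hirr : ∀ (U : Y.Opens) (hU : IsAffineOpen U),
      (𝒮.deg U hU)₊ ≤ ((𝒮h.deg U hU)₊).map (RelProj.gradedHomAt θ hθ U hU))
    (p : P ⟶ Y)
    (chart : ∀ (U : Y.Opens) (hU : IsAffineOpen U), (((p ⁻¹ᵁ U : P.Opens) : Scheme.{u}) ≅ Proj (𝒮.deg U hU)))
    (hP : RelProj.IsRelProj 𝒮 p chart) (j : P ⟶ PC) (hj : RelProj.IsRelProjMap θ hθ hirr chartC chart j) :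
    Set.range i.base = (Set.range j.base)ᶜ := by
  have hrule : ∀ (U : Y.Opens) (hU : IsAffineOpen U)
      (q : HomogeneousLocalization.Away (𝒮h.deg U hU) (RelConeLib.zAt 𝒮h z U))
      (k : ℕ) (x : 𝒮.presheaf.obj (op U)), x ∈ 𝒮.deg U hU k →
        q.val = Localization.mk ((ι.hom.app (op U)).hom x)
          ⟨RelConeLib.zAt 𝒮h z U ^ k, pow_mem (Submonoid.mem_powers (RelConeLib.zAt 𝒮h z U)) k⟩ →
        (CommRingCat.ofHom (hz.awayZToBase U hU)).hom q = x := fun U hU q k x _ hq ↦ by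
    rw [CommRingCat.hom_ofHom, hz.awayZToBase_of_val U hU q _ k hq, hz.evalOne_ι]
  have hjp : j ≫ pC = p := ProjLib.relProjMap_comp θ hθ hirr hPC hP hj
  have hθU : ∀ (U : Y.Opens) (a : 𝒮.presheaf.obj (op U)),
      (θ.hom.app (op U)).hom ((ι.hom.app (op U)).hom a) = a := fun U a ↦
    ConcreteCategory.congr_hom (congrArg (fun f : 𝒮.toQCAlg ⟶ 𝒮.toQCAlg ↦ f.hom.app (op U)) hιθ) a
  have hθzU : ∀ (U : Y.Opens), (θ.hom.app (op U)).hom (RelConeLib.zAt 𝒮h z U) = 0 := fun U ↦ by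
    have := ConcreteCategory.congr_hom (θ.hom.naturality (homOfLE (le_top : U ≤ ⊤)).op) z
    simp only [ConcreteCategory.comp_apply] at this
    exact this.trans ((congrArg _ hθz).trans (map_zero _))
  ext c
  obtain ⟨⟨U, hU'⟩, hc⟩ := RelSpecLib.affineOpens_cover (pC c)
  have hU : IsAffineOpen U := hU'
  obtain ⟨y, rfl⟩ := RelConeLib.exists_emb_eq 𝒮h pC chartC U hU c hc
  rw [RelConeLib.mem_range_coneImm_iff 𝒮 𝒮h ι hz.graded z hz.deg_z hz.bij pC chartC
    (fun U hU ↦ CommRingCat.ofHom (hz.awayZToBase U hU)) hrule hPC i hi U hU y, Set.mem_compl_iff]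
  have hcomp : RelProj.emb p chart U hU ≫ j =
      Proj.map (RelProj.gradedHomAt θ hθ U hU) (hirr U hU) ≫ RelProj.emb pC chartC U hU := by
    rw [RelProj.emb, Category.assoc, hj U hU, Iso.inv_hom_id_assoc]
    rfl
  have hr := RelConeLib.mem_range_map_retr_iff (RelProj.gradedHomAt ι hz.graded U hU)
    (RelProj.gradedHomAt θ hθ U hU) (hθU U) (hθzU U) (hz.bij U hU).2 (hirr U hU) y
  rw [Proj.mem_basicOpen]
  refine not_congr (hr.symm.trans ⟨?_, ?_⟩)
  · rintro ⟨x, rfl⟩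
    exact ⟨RelProj.emb p chart U hU x, by
      rw [← Scheme.Hom.comp_apply, hcomp, Scheme.Hom.comp_apply]⟩
  · rintro ⟨w, hw⟩
    have hw' : p w ∈ U := by
      rw [← hjp, Scheme.Hom.comp_apply, hw]
      exact RelConeLib.emb_mem 𝒮h pC chartC U hU y
    obtain ⟨x, rfl⟩ := RelConeLib.exists_emb_eq 𝒮 p chart U hU w hw'
    refine ⟨x, (RelProj.emb pC chartC U hU).isOpenEmbedding.injective ?_⟩
    rw [← hw, ← Scheme.Hom.comp_apply _ j, hcomp, Scheme.Hom.comp_apply]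

end Groth.Agent.S8297
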