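import Groth.Statements.S8298
import Groth.Agent.RelConeLib.Infinity

set_option autoImplicit false
universe u
open CategoryTheory CategoryTheory.Limits AlgebraicGeometry Opposite TopologicalSpace
open scoped HomogeneousIdeal
noncomputable section
open EGA2

namespace Groth.Agent.S8298

/-- The pointed projective cone: let 𝒮 be a quasi-coherent positively graded O_Y-algebra with 𝒮_0 = O_Y,
aug its augmentation and ε : Y → C = Spec(𝒮) the vertex section; let Ŝ = 𝒮[z] (given through a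
graded homomorphism ι : 𝒮 → Ŝ and a degree-one global section z, polynomial over every affine open),
Ĉ = Proj(Ŝ) its relative homogeneous spectrum with charts, and i : C → Ĉ the canonical open
immersion. Then the open subset of Ĉ which is the union, over the affine opens U of Y, of the chart
images of the opens of Proj Ŝ(U) where the morphism induced by ι(U) : 𝒮(U) → Ŝ(U) is defined (the
complement of V_+ of the ideal generated by ι(𝒮(U)_+)) has underlying set exactly the complement of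
i(ε(Y)): the pointed projective cone Ê is Ĉ minus its vertex section. -/
theorem result {Y PC : Scheme.{u}} (𝒮 𝒮h : RelProj.QCGrAlg Y) (h0 : RelCone.StrZeroBij 𝒮)
    (ι : 𝒮.toQCAlg ⟶ 𝒮h.toQCAlg) (z : 𝒮h.presheaf.obj (op ⊤)) (hz : RelCone.IsPolyOver 𝒮 𝒮h ι z)
    (pC : PC ⟶ Y)
    (chartC : ∀ (U : Y.Opens) (hU : IsAffineOpen U), (((pC ⁻¹ᵁ U : PC.Opens) : Scheme.{u}) ≅ Proj (𝒮h.deg U hU)))
    (hPC : RelProj.IsRelProj 𝒮h pC chartC)
    (aug : 𝒮.toQCAlg ⟶ RelSpec.QCAlg.unit Y) (haug : RelCone.IsAugmentation 𝒮 aug)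
    (ε : Y ⟶ 𝒮.toQCAlg.spec) (hε : RelCone.IsVertex 𝒮 aug ε)
    (i : 𝒮.toQCAlg.spec ⟶ PC) (hi : RelCone.IsConeImm 𝒮 hz pC chartC i) :
    ((RelCone.pointedProjCone 𝒮 hz pC chartC : PC.Opens) : Set PC) = (Set.range (ε ≫ i).base)ᶜ := by
  have hrule : ∀ (U : Y.Opens) (hU : IsAffineOpen U)
      (q : HomogeneousLocalization.Away (𝒮h.deg U hU) (RelConeLib.zAt 𝒮h z U))
      (k : ℕ) (x : 𝒮.presheaf.obj (op U)), x ∈ 𝒮.deg U hU k →
        q.val = Localization.mk ((ι.hom.app (op U)).hom x)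
          ⟨RelConeLib.zAt 𝒮h z U ^ k, pow_mem (Submonoid.mem_powers (RelConeLib.zAt 𝒮h z U)) k⟩ →
        (CommRingCat.ofHom (hz.awayZToBase U hU)).hom q = x := fun U hU q k x _ hq ↦ by
    rw [CommRingCat.hom_ofHom, hz.awayZToBase_of_val U hU q _ k hq, hz.evalOne_ι]
  have hover : i ≫ pC = 𝒮.toQCAlg.π := RelConeLib.coneImm_over 𝒮 𝒮h ι hz.graded z hz.deg_z hz.bij
    pC chartC (fun U hU ↦ CommRingCat.ofHom (hz.awayZToBase U hU)) hrule hPC i hi
  have hinj : Function.Injective i.base :=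
    (RelConeLib.isOpenImmersion_coneImm 𝒮 𝒮h ι hz.graded z hz.deg_z hz.bij
      pC chartC (fun U hU ↦ CommRingCat.ofHom (hz.awayZToBase U hU)) hrule hPC i hi).base_open.injective
  have hpc := RelConeLib.pointedCone_eq_compl_range 𝒮 h0 aug haug ε hε
  have hval : ∀ (U : Y.Opens) (hU : IsAffineOpen U) (q : Spec (𝒮.presheaf.obj (op U))),
      i (𝒮.toQCAlg.ι U hU q) = RelProj.emb pC chartC U hU
        (Proj.awayι (𝒮h.deg U hU) (RelConeLib.zAt 𝒮h z U) (hz.deg_z U hU) one_pos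
          (Spec.map (CommRingCat.ofHom (hz.awayZToBase U hU)) q)) := fun U hU q ↦ by
    rw [← Scheme.Hom.comp_apply, hi U hU]
    rfl
  have hrange : ∀ (U : Y.Opens) (hU : IsAffineOpen U) (q : Spec (𝒮.presheaf.obj (op U))),
      𝒮.toQCAlg.ι U hU q ∈ Set.range ε.base ↔ ((𝒮.deg U hU)₊).toIdeal ≤ q.asIdeal := by
    intro U hU q
    have := Set.ext_iff.mp hpc (𝒮.toQCAlg.ι U hU q)
    rw [SetLike.mem_coe, RelConeLib.mem_pointedCone_iff, RelConeLib.mem_vertexCompl_iff,
      Set.mem_compl_iff] at this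
    exact (not_iff_not.mp this).symm
  ext c
  rw [SetLike.mem_coe, Set.mem_compl_iff]
  constructor
  · rintro hc ⟨s, hs⟩
    obtain ⟨⟨U, hU'⟩, y, hy, rfl⟩ := Opens.mem_iSup.mp hc
    have hU : IsAffineOpen U := hU'
    have hs' : i (ε s) = RelProj.emb pC chartC U hU y := hs
    have hπ : 𝒮.toQCAlg.π (ε s) ∈ U := by
      rw [← hover, Scheme.Hom.comp_apply, hs']
      exact RelConeLib.emb_mem 𝒮h pC chartC U hU y
    obtain ⟨q, hq⟩ := RelSpecLib.exists_chart_eq _ hU _ hπ
    have hle := (hrange U hU q).mp ⟨s, hq.symm⟩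
    rw [← hq, hval U hU q] at hs'
    have hyeq := (RelProj.emb pC chartC U hU).isOpenEmbedding.injective hs'
    subst hyeq
    have hy' := (RelCone.mem_domOpen _ _).mp hy
    obtain ⟨a, ha, hay⟩ := hy'
    apply hay
    have key : ((𝒮.deg U hU)₊).toIdeal ≤
        (Proj.awayι (𝒮h.deg U hU) (RelConeLib.zAt 𝒮h z U) (hz.deg_z U hU) one_pos
          (Spec.map (CommRingCat.ofHom (hz.awayZToBase U hU)) q)).asHomogeneousIdeal.toIdeal.comap
            (RelProj.gradedHomAt ι hz.graded U hU).toRingHom :=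
      ProjLib.irrelevant_le_of_homogeneous (𝒮.deg U hU) fun n hn b hb ↦
        (RelConeLib.mem_coneImm_point_iff (RelProj.gradedHomAt ι hz.graded U hU) (hz.deg_z U hU)
          (CommRingCat.ofHom (hz.awayZToBase U hU)) (hrule U hU) q hn hb).mpr
          (hle (ProjLib.mem_irrelevant_of_pos _ hn hb))
    exact key ha
  · intro hc
    obtain ⟨⟨U, hU'⟩, hU''⟩ := RelSpecLib.affineOpens_cover (pC c)
    have hU : IsAffineOpen U := hU'
    obtain ⟨y, rfl⟩ := RelConeLib.exists_emb_eq 𝒮h pC chartC U hU c hU''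
    refine Opens.mem_iSup.mpr ⟨⟨U, hU'⟩, y, ?_, rfl⟩
    by_contra hdom
    have hall : ∀ a ∈ ((𝒮.deg U hU)₊).toIdeal,
        RelProj.gradedHomAt ι hz.graded U hU a ∈ y.asHomogeneousIdeal := by
      intro a ha
      by_contra h
      exact hdom ((RelCone.mem_domOpen _ _).mpr ⟨a, ha, h⟩)
    have hzy : y ∈ Proj.basicOpen (𝒮h.deg U hU) (RelConeLib.zAt 𝒮h z U) := by
      rw [Proj.mem_basicOpen]
      intro hzy
      apply y.not_irrelevant_le
      refine ProjLib.irrelevant_le_of_homogeneous (𝒮h.deg U hU) fun n hn w hw ↦ ?_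
      obtain ⟨x, hx, rfl⟩ := RelConeLib.exists_decomp (RelProj.gradedHomAt ι hz.graded U hU)
        (hz.deg_z U hU) (hz.bij U hU) hw
      refine sum_mem fun k hk ↦ ?_
      rcases k.eq_zero_or_pos with rfl | hk'
      · exact Ideal.mul_mem_left _ _
          (Ideal.pow_mem_of_mem _ hzy _ (by omega))
      · exact Ideal.mul_mem_right _ _ (hall _ (ProjLib.mem_irrelevant_of_pos _ hk' (hx k)))
    rw [← Proj.opensRange_awayι (𝒮h.deg U hU) (RelConeLib.zAt 𝒮h z U) (hz.deg_z U hU) one_pos] at hzy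
    obtain ⟨w, rfl⟩ := hzy
    have := RelConeLib.isIso_θ 𝒮 𝒮h ι hz.graded z hz.deg_z hz.bij
      (fun U hU ↦ CommRingCat.ofHom (hz.awayZToBase U hU)) hrule U hU
    obtain ⟨q, rfl⟩ := (Spec.map (CommRingCat.ofHom (hz.awayZToBase U hU))).surjective w
    have hle : ((𝒮.deg U hU)₊).toIdeal ≤ q.asIdeal :=
      ProjLib.irrelevant_le_of_homogeneous (𝒮.deg U hU) fun n hn b hb ↦
        (RelConeLib.mem_coneImm_point_iff (RelProj.gradedHomAt ι hz.graded U hU) (hz.deg_z U hU)
          (CommRingCat.ofHom (hz.awayZToBase U hU)) (hrule U hU) q hn hb).mp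
          (hall b (ProjLib.mem_irrelevant_of_pos _ hn hb))
    obtain ⟨s, hs⟩ := (hrange U hU q).mpr hle
    exact hc ⟨s, (congrArg i.base hs).trans (hval U hU q)⟩

end Groth.Agent.S8298
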