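import Groth.Statements.S8301
import Groth.Agent.RelVALib.DirImgFull
import Groth.Agent.CohExch.IsoCrit

set_option autoImplicit false
set_option backward.isDefEq.respectTransparency.types false
set_option maxHeartbeats 1000000
universe u
open CategoryTheory CategoryTheory.Limits AlgebraicGeometry Opposite TopologicalSpace
noncomputable section
open EGA2
open Groth.Agent.Coherent Groth.Agent.RelVALib Groth.Agent.PicLib Groth.Agent.EGA43.InjFibre

namespace Groth.Agent.S8301

variable {X S : Scheme.{u}} (f : X ⟶ S) [IsAffineHom f] (M : AMod (RelSpec.QCAlg.directImage f))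

/-- The underlying module over the structure sheaf. -/
abbrev M₀ : S.Modules := (AMod.toOS (RelSpec.QCAlg.directImage f)).obj M

/-- The action of functions on the preimage. -/
@[reducible] def bmod (U : S.Opens) : Module Γ(X, f ⁻¹ᵁ U) Γ(M₀ f M, U) :=
  inferInstanceAs (Module ((AMod.ringSheaf (RelSpec.QCAlg.directImage f)).obj.obj (op U)) (M.val.obj (op U)))

attribute [local instance] bmod

theorem resM_bsmul {U V : S.Opens} (h : V ≤ U) (b : Γ(X, f ⁻¹ᵁ U)) (m : Γ(M₀ f M, U)) :
    resM (M₀ f M) h (b • m) =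
      (X.presheaf.map (homOfLE ((Opens.map f.base).map (homOfLE h)).le).op).hom b • resM (M₀ f M) h m :=
  PresheafOfModules.map_smul M.val (homOfLE h).op b m

theorem algebraMap_smul' (U : S.Opens) (r : Γ(S, U)) (m : Γ(M₀ f M, U)) :
    (f.appLE U (f ⁻¹ᵁ U) le_rfl).hom r • m = r • m := by
  rw [← Scheme.Hom.app_eq_appLE]
  rfl

/-- The pull-back of the module. -/
abbrev P₀ : X.Modules := (Scheme.Modules.pullback f).obj (M₀ f M)

theorem exists_act (hM : Coh.IsQCoh (M₀ f M)) (U : S.Opens) (hU : IsAffineOpen U) :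
    ∃ a : Γ(P₀ f M, f ⁻¹ᵁ U) →ₗ[Γ(X, f ⁻¹ᵁ U)] Γ(M₀ f M, U),
      (∀ m, a (pullSec f m) = m) ∧
      ∀ (p : Γ(P₀ f M, f ⁻¹ᵁ U) → Prop), p 0 → (∀ x y, p x → p y → p (x + y)) →
        (∀ (b : Γ(X, f ⁻¹ᵁ U)) x, p x → p (b • x)) → (∀ m, p (pullSec f m)) → ∀ z, p z := by
  let _ := (f.appLE U (f ⁻¹ᵁ U) le_rfl).hom.toAlgebra
  let _ := Module.compHom Γ(P₀ f M, f ⁻¹ᵁ U) (f.appLE U (f ⁻¹ᵁ U) le_rfl).hom
  have : IsScalarTower Γ(S, U) Γ(X, f ⁻¹ᵁ U) Γ(P₀ f M, f ⁻¹ᵁ U) :=
    IsScalarTower.of_algebraMap_smul fun _ _ => rfl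
  have : IsScalarTower Γ(S, U) Γ(X, f ⁻¹ᵁ U) Γ(M₀ f M, U) :=
    IsScalarTower.of_algebraMap_smul (algebraMap_smul' f M U)
  obtain ⟨μ, hb, hμ⟩ := pullMap_isBaseChange f hU (hU.preimage f) le_rfl (M := M₀ f M)
  have hμ' : ∀ m, μ m = pullSec f m := fun m => by rw [hμ, pullMap_eq_resM_pullSec, resM_self]
  refine ⟨hb.lift LinearMap.id, fun m => ?_, fun p h0 hadd hsmul hgen z => ?_⟩
  · rw [← hμ']; exact hb.lift_eq LinearMap.id m
  · induction z using hb.inductionOn with
    | zero => exact h0
    | tmul m => rw [hμ']; exact hgen m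
    | smul r n hn => exact hsmul r n hn
    | add a b ha hb => exact hadd a b ha hb

/-- Existence of the module attached to a quasi-coherent module over a quasi-coherent algebra: for the
algebra A(X) = f_*O_X of a scheme X affine over S: let f : X → S be an affine morphism. Every module
M over the sheaf of rings f_*O_X which is quasi-coherent as an O_S-module is, up to an isomorphism
of f_*O_X-modules, the direct image f_*F of a quasi-coherent O_X-module F (f_*F carrying its natural
f_*O_X-module structure). (Every quasi-coherent O_S-algebra B is of this form with X = Spec(B); the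
published statement is phrased for such B.) -/
theorem result {X S : Scheme.{u}} (f : X ⟶ S) [IsAffineHom f]
    (M : AMod (RelSpec.QCAlg.directImage f))
    (hM : Coh.IsQCoh ((AMod.toOS (RelSpec.QCAlg.directImage f)).obj M)) :
    ∃ F : X.Modules, Coh.IsQCoh F ∧ Nonempty ((AMod.dirImg f).obj F ≅ M) := by
  let P := P₀ f M
  have hP : Coh.IsQCoh P := isQCoh_pullback f _
  have hPp : Coh.IsQCoh ((Scheme.Modules.pushforward f).obj P) := Coherent.isQCoh_push f P
  choose act hact hgen using exists_act f M hM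
  obtain ⟨a, ha⟩ := exists_hom_of_affine ((Scheme.Modules.pushforward f).obj P) (M₀ f M)
    (fun U hU => (act U hU).toAddMonoidHom)
    (fun U hU r x => ((act U hU).map_smul (f.app U r) x).trans rfl)
    (fun U V hU hV h x => by
      refine hgen U hU
        (fun x => act V hV (resM P ((Opens.map f.base).map (homOfLE h)).le x) = resM (M₀ f M) h (act U hU x))
        ?_ ?_ ?_ ?_ x
      · simp
      · intro x y hx hy; simp only [map_add, hx, hy]
      · intro b x hx
        rw [resM_smul, map_smul, map_smul, hx, resM_bsmul]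
      · intro m
        rw [resM_pullSec, hact, hact])
  let t : (Scheme.Modules.pullback f).obj (kernel a) ⟶ P :=
    ((Scheme.Modules.pullbackPushforwardAdjunction f).homEquiv _ _).symm (kernel.ι a)
  have hK : Coh.IsQCoh (kernel a) := Coherent.isQCoh_kernel a
  have hfK : Coh.IsQCoh ((Scheme.Modules.pullback f).obj (kernel a)) := isQCoh_pullback f _
  let π : P ⟶ cokernel t := cokernel.π t
  have hF : Coh.IsQCoh (cokernel t) := Coherent.isQCoh_cokernel t
  have htk : ∀ (U : S.Opens) (k : Γ(kernel a, U)), t.app (f ⁻¹ᵁ U) (pullSec f k) = (kernel.ι a).app U k :=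
    fun U k => PicLib.homEquiv_symm_app_pullSec f (kernel.ι a) k
  -- modulo relations every section comes from `M`
  have hC : ∀ (U : S.Opens) (hU : IsAffineOpen U) (y : Γ(P, f ⁻¹ᵁ U)),
      π.app (f ⁻¹ᵁ U) y = π.app (f ⁻¹ᵁ U) (pullSec f (act U hU y)) := by
    intro U hU y
    obtain ⟨k, hk⟩ := Coherent.kernel_sections_exact a (U := U) (y - pullSec f (act U hU y) : Γ(P, f ⁻¹ᵁ U))
      ((ha U hU _).trans (by
        show act U hU _ = 0
        rw [map_sub, hact, sub_self]))
    rw [← sub_eq_zero, ← map_sub, ← hk, ← htk]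
    exact ConcreteCategory.congr_hom
      (congrArg (fun g : (Scheme.Modules.pullback f).obj (kernel a) ⟶ cokernel t => g.app (f ⁻¹ᵁ U))
        (cokernel.condition t)) _
  have hinj : ∀ (U : S.Opens) (hU : IsAffineOpen U) (y : Γ(P, f ⁻¹ᵁ U)),
      π.app (f ⁻¹ᵁ U) y = 0 → act U hU y = 0 := by
    intro U hU y hy
    obtain ⟨y', hy'⟩ := Coherent.kernel_sections_exact π y hy
    have : Coh.IsQCoh (kernel π) := Coherent.isQCoh_kernel π
    let T : ShortComplex X.Modules := ShortComplex.mk (kernel.ι (Abelian.factorThruImage t))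
      (Abelian.factorThruImage t) (kernel.condition _)
    have : Coh.IsQCoh T.X₁ := Coherent.isQCoh_kernel (Abelian.factorThruImage t)
    have hT : T.ShortExact := { exact := T.exact_of_f_is_kernel (kernelIsKernel _) }
    obtain ⟨w, hw⟩ := Coherent.sections_surjective (S := T) hT (hU.preimage f) y'
    have hwy : t.app (f ⁻¹ᵁ U) w = y := by
      rw [← hy', ← hw]
      exact (ConcreteCategory.congr_hom
        (congrArg (fun g : (Scheme.Modules.pullback f).obj (kernel a) ⟶ P => g.app (f ⁻¹ᵁ U))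
          (Abelian.image.fac t)) w).symm
    rw [← hwy]
    let _ := (f.appLE U (f ⁻¹ᵁ U) le_rfl).hom.toAlgebra
    let _ := Module.compHom Γ((Scheme.Modules.pullback f).obj (kernel a), f ⁻¹ᵁ U)
      (f.appLE U (f ⁻¹ᵁ U) le_rfl).hom
    have : IsScalarTower Γ(S, U) Γ(X, f ⁻¹ᵁ U) Γ((Scheme.Modules.pullback f).obj (kernel a), f ⁻¹ᵁ U) :=
      IsScalarTower.of_algebraMap_smul fun _ _ => rfl
    obtain ⟨μ, hb, hμ⟩ := pullMap_isBaseChange f hU (hU.preimage f) le_rfl (M := kernel a)
    clear hwy hw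
    induction w using hb.inductionOn with
    | zero => rw [map_zero, map_zero]
    | tmul k =>
      rw [hμ, pullMap_eq_resM_pullSec, resM_self, htk]
      exact (ha U hU _).symm.trans (Coherent.kernel_ι_app_zero a U k)
    | smul r n hn => rw [Scheme.Modules.Hom.app_smul, map_smul, hn, smul_zero]
    | add b c hb hc => rw [map_add, map_add, hb, hc, add_zero]
  let e : M₀ f M ⟶ (Scheme.Modules.pushforward f).obj (cokernel t) :=
    (Scheme.Modules.pullbackPushforwardAdjunction f).unit.app (M₀ f M) ≫ (Scheme.Modules.pushforward f).map π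
  have he : ∀ (U : S.Opens) (m : Γ(M₀ f M, U)), e.app U m = π.app (f ⁻¹ᵁ U) (pullSec f m) := fun _ _ => rfl
  have hlinA : ∀ (U : S.Opens) (_ : IsAffineOpen U) (b : Γ(X, f ⁻¹ᵁ U)) (m : Γ(M₀ f M, U)),
      π.app (f ⁻¹ᵁ U) (pullSec f (b • m)) = b • π.app (f ⁻¹ᵁ U) (pullSec f m) := by
    intro U hU b m
    rw [← Scheme.Modules.Hom.app_smul, hC U hU (b • pullSec f m), map_smul, hact]
  have hlin : ∀ (U : S.Opens) (b : Γ(X, f ⁻¹ᵁ U)) (m : Γ(M₀ f M, U)),
      π.app (f ⁻¹ᵁ U) (pullSec f (b • m)) = b • π.app (f ⁻¹ᵁ U) (pullSec f m) := by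
    intro U b m
    refine AmpleLib.sec_ext (cokernel t) _ _ fun x hx => ?_
    obtain ⟨V, hV, hxV, hVU⟩ := exists_isAffineOpen_mem_and_subset (x := f x) (U := U) hx
    refine ⟨f ⁻¹ᵁ V, ((Opens.map f.base).map (homOfLE hVU)).le, hxV, ?_⟩
    have hr : ∀ m : Γ(M₀ f M, U), resM (cokernel t) ((Opens.map f.base).map (homOfLE hVU)).le
        (π.app (f ⁻¹ᵁ U) (pullSec f m)) = π.app (f ⁻¹ᵁ V) (pullSec f (resM (M₀ f M) hVU m)) := fun m => by
      rw [← app_resM, resM_pullSec]
    rw [resM_smul, hr, hr, resM_bsmul, hlinA V hV]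
  let E : M ⟶ (AMod.dirImg f).obj (cokernel t) :=
    ⟨PresheafOfModules.homMk ((SheafOfModules.toSheaf _).map e).hom fun U r m => hlin U.unop r m⟩
  have heiso : IsIso e := by
    have := Coherent.isQCoh_push f (cokernel t)
    refine CohExch.isIso_of_bijective_affine_cover e fun x => ?_
    obtain ⟨U, hU, hxU, -⟩ := exists_isAffineOpen_mem_and_subset (x := x) (U := ⊤) trivial
    refine ⟨U, hU, hxU, (injective_iff_map_eq_zero _).2 fun m hm => ?_, fun y => ?_⟩
    · have h := hinj U hU _ ((he U m).symm.trans hm)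
      rwa [hact] at h
    · let T : ShortComplex X.Modules := ShortComplex.mk (kernel.ι π) π (kernel.condition π)
      have : Coh.IsQCoh T.X₁ := Coherent.isQCoh_kernel π
      have hT : T.ShortExact := { exact := T.exact_of_f_is_kernel (kernelIsKernel _) }
      obtain ⟨z, hz⟩ := Coherent.sections_surjective (S := T) hT (hU.preimage f) y
      exact ⟨act U hU z, (he U _).trans ((hC U hU z).symm.trans hz)⟩
  have he' : IsIso ((SheafOfModules.toSheaf S.ringCatSheaf).map e) :=
    ⟨(SheafOfModules.toSheaf S.ringCatSheaf).map heiso.out.choose,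
      ((SheafOfModules.toSheaf S.ringCatSheaf).map_comp _ _).symm.trans
        ((congrArg (SheafOfModules.toSheaf S.ringCatSheaf).map heiso.out.choose_spec.1).trans
          ((SheafOfModules.toSheaf S.ringCatSheaf).map_id _)),
      ((SheafOfModules.toSheaf S.ringCatSheaf).map_comp _ _).symm.trans
        ((congrArg (SheafOfModules.toSheaf S.ringCatSheaf).map heiso.out.choose_spec.2).trans
          ((SheafOfModules.toSheaf S.ringCatSheaf).map_id _))⟩
  have : IsIso ((SheafOfModules.toSheaf (AMod.ringSheaf (RelSpec.QCAlg.directImage f))).map E) :=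
    he'
  have := isIso_of_reflects_iso E (SheafOfModules.toSheaf (AMod.ringSheaf (RelSpec.QCAlg.directImage f)))
  exact ⟨cokernel t, hF, ⟨(asIso E).symm⟩⟩

end Groth.Agent.S8301
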