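import Groth.Statements.S8303
import Groth.Agent.HTop16.LocGen
import Groth.Agent.Coherent.FiniteType
-- import your own Groth.Agent.* helpers here

set_option autoImplicit false
set_option backward.isDefEq.respectTransparency.types false
universe u
open CategoryTheory CategoryTheory.Limits AlgebraicGeometry Opposite TopologicalSpace
noncomputable section
open EGA2
open Groth.Agent.Coherent

namespace Groth.Agent.S8303

/-- For the algebra f_*O_X of a scheme X affine over S: let f : X → S be an affine morphism and F a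
quasi-coherent O_X-module. Then F is of finite type (locally on X generated by finitely many
sections) if and only if the direct image f_*F is of finite type as a module over the sheaf of rings
f_*O_X (locally on S generated by finitely many sections over f_*O_X). -/
theorem result {X S : Scheme.{u}} (f : X ⟶ S) [IsAffineHom f]
    (F : X.Modules) (hF : Coh.IsQCoh F) :
    SheafOfModules.IsFiniteType.{u} (R := X.ringCatSheaf) F ↔
      SheafOfModules.IsFiniteType.{u} (R := AMod.ringSheaf (RelSpec.QCAlg.directImage f)) ((AMod.dirImg f).obj F) := by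
  haveI : Coh.IsQCoh F := hF
  let O' : Sheaf (Opens.grothendieckTopology S.carrier) CommRingCat.{u} :=
    ⟨(RelSpec.QCAlg.directImage f).presheaf, (RelSpec.QCAlg.directImage f).isSheaf⟩
  let M : ModSite.Mod O' := (AMod.dirImg f).obj F
  refine Iff.trans ?_ (HTop16.LocGen.isFiniteType_iff_ft M).symm
  constructor
  · intro h x
    obtain ⟨V, hV, hxV, -⟩ := exists_isAffineOpen_mem_and_subset (x := x) (U := (⊤ : S.Opens)) trivial
    have hfin := ((Coherent.isCoh_iff_finite_sections F).1 (⟨hF, h⟩ : Coh.IsCoh F)).2 _ (hV.preimage f)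
    obtain ⟨n, g, hg⟩ := hfin.exists_fin
    refine ⟨V, n, g, hxV, HTop16.LocGen.spans_of_comb (M := M) g fun W i b y hy => ?_⟩
    obtain ⟨r, hrW, hyr⟩ := hV.exists_basicOpen_le ⟨y, hy⟩ (i hy)
    let b' : Γ(F, f ⁻¹ᵁ W) := b
    have hD : f ⁻¹ᵁ (S.basicOpen r) = X.basicOpen (f.app V r) := Scheme.preimage_basicOpen f r
    have hDW : X.basicOpen (f.app V r) ≤ f ⁻¹ᵁ W := hD ▸ (fun z hz => hrW hz)
    obtain ⟨m, t, ht⟩ := Coherent.qcoh_exists_pow_smul (hV.preimage f) F (f.app V r) (resM F hDW b')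
    obtain ⟨v, hv⟩ := (Coherent.isUnit_res_pow (f.app V r) (X.basicOpen_le _) le_rfl m).exists_left_inv
    obtain ⟨c, rfl⟩ := (Submodule.mem_span_range_iff_exists_fun Γ(X, f ⁻¹ᵁ V)).1
      (hg.ge (Submodule.mem_top (x := t)))
    refine ⟨S.basicOpen r, hrW, hyr, fun k => X.presheaf.map (homOfLE hD.le).op
      (v * X.presheaf.map (homOfLE (X.basicOpen_le (f.app V r))).op (c k)), ?_⟩
    have h1 := congrArg (fun z => resM F hD.le (v • z)) ht
    simp only [smul_smul, hv, one_smul, map_sum, Finset.smul_sum, resM_smul, resM_resM] at h1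
    exact h1
  · intro h
    refine Coherent.isFT_of_locallyFinGen (fun x => ?_)
    obtain ⟨U, n, s, hxU, hs⟩ := h (f x)
    refine ⟨f ⁻¹ᵁ U, ULift.{u} (Fin n), inferInstance, fun k => s k.down, hxU, ?_⟩
    intro W hW a y hy
    obtain ⟨V, hV, hyV, hVU⟩ := exists_isAffineOpen_mem_and_subset (x := f y) (U := U) (hW hy)
    obtain ⟨g, hgW, hyg⟩ := (hV.preimage f).exists_basicOpen_le (V := W ⊓ f ⁻¹ᵁ V) ⟨y, ⟨hy, hyV⟩⟩ hyV
    obtain ⟨m, t, ht⟩ := Coherent.qcoh_exists_pow_smul (hV.preimage f) F g (resM F (hgW.trans inf_le_left) a)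
    obtain ⟨W2, j, hyW2, c, hc⟩ := HTop16.LocGen.exists_comb_fintype (M := M) s (V := V) hVU t (f y) hyV
      (by rw [hs (f y) (hVU hyV)]; trivial)
    obtain ⟨v, hv⟩ := (Coherent.isUnit_res_pow (W := X.basicOpen g ⊓ f ⁻¹ᵁ W2) g (inf_le_left.trans (X.basicOpen_le g))
      inf_le_left m).exists_left_inv
    refine ⟨X.basicOpen g ⊓ f ⁻¹ᵁ W2, inf_le_left.trans (hgW.trans inf_le_left), ⟨hyg, hyW2⟩,
      fun k => v * X.presheaf.map (homOfLE (inf_le_right : X.basicOpen g ⊓ f ⁻¹ᵁ W2 ≤ f ⁻¹ᵁ W2)).op (c k.down), ?_⟩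
    have h1 := congrArg (resM F (inf_le_left : X.basicOpen g ⊓ f ⁻¹ᵁ W2 ≤ X.basicOpen g)) ht
    have h2 := congrArg (resM F (inf_le_right : X.basicOpen g ⊓ f ⁻¹ᵁ W2 ≤ f ⁻¹ᵁ W2))
      (show ∑ k, (show Γ(X, f ⁻¹ᵁ W2) from c k) • resM F (show f ⁻¹ᵁ W2 ≤ f ⁻¹ᵁ U from fun z hz => hVU (j hz))
        (show Γ(F, f ⁻¹ᵁ U) from s k) = resM F (show f ⁻¹ᵁ W2 ≤ f ⁻¹ᵁ V from fun z hz => j hz) t from hc)
    simp only [map_sum, resM_smul, resM_resM] at h1 h2
    rw [← ConcreteCategory.comp_apply, ← X.presheaf.map_comp, ← op_comp, homOfLE_comp] at h1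
    rw [← h2] at h1
    have h3 := congrArg (v • ·) h1
    simp only [smul_smul, hv, one_smul, Finset.smul_sum] at h3
    refine h3.symm.trans ?_
    exact Fintype.sum_equiv Equiv.ulift.symm _ _ fun k => rfl

end Groth.Agent.S8303
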