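import Groth.Statements.S8304
import Groth.Agent.RelVALib.PushoutLocal
import Groth.Agent.RelVALib.UPProp

set_option autoImplicit false
set_option backward.isDefEq.respectTransparency.types false
universe u
open CategoryTheory CategoryTheory.Limits AlgebraicGeometry Opposite TopologicalSpace
open scoped HomogeneousIdeal
noncomputable section
open EGA2

namespace Groth.Agent.S8304

/-- At the level of graded algebras: let E be a quasi-coherent O_Y-module and 𝒮 = Sym(E) its graded
symmetric algebra (j : E → 𝒮 landing in degree one), and let Ŝ = 𝒮[z] be given through a graded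
homomorphism ι : 𝒮 → Ŝ and a global section z of degree one with 𝒮(U)[X] → Ŝ(U), X ↦ z, bijective
over every affine open U. If k : O_Y → Ŝ is a module homomorphism sending the unit section to z over
every open, then Ŝ together with the map E ⊕ O_Y → Ŝ whose components are j followed by ι, and k, is
the graded symmetric algebra of E ⊕ O_Y. Consequently the projective cone of V(E) = Spec(Sym E),
which is Proj(Ŝ), is the projective bundle P(E ⊕ O_Y), and its locus at infinity Proj(𝒮) is P(E). -/
theorem result {Y : Scheme.{u}} (E : Y.Modules) (hE : Coh.IsQCoh E)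
    (𝒮 𝒮h : RelProj.QCGrAlg Y) (j : E ⟶ 𝒮.toModule) (hS : RelProj.IsGrSymAlg E 𝒮 j)
    (ι : 𝒮.toQCAlg ⟶ 𝒮h.toQCAlg) (z : 𝒮h.presheaf.obj (op ⊤)) (hz : RelCone.IsPolyOver 𝒮 𝒮h ι z)
    (k : Coh.structureModule Y ⟶ 𝒮h.toModule)
    (hk : ∀ U : Y.Opens, (k.app U) (1 : Γ(Y, U)) = RelCone.restrictTop 𝒮h z U) :
    RelProj.IsGrSymAlg (E ⊞ Coh.structureModule Y) 𝒮h
      (biprod.desc (j ≫ RelSpec.QCAlg.Hom.toModuleMap ι) k) := by
  refine ⟨fun B φ => ?_, fun U hU x => ?_⟩
  · obtain ⟨ψ₀, hψ₀, hψ₀u⟩ := hS.1 B (biprod.inl ≫ φ)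
    let φk : Coh.structureModule Y ⟶ B.toModule := biprod.inr ≫ φ
    let b : ∀ U : Y.Opens, B.presheaf.obj (op U) := fun U => φk.app U (1 : Γ(Y, U))
    have hb : ∀ {U V : Y.Opens} (h : V ≤ U), (B.presheaf.map (homOfLE h).op).hom (b U) = b V := by
      intro U V h
      exact (ConcreteCategory.congr_hom (φk.mapPresheaf.naturality (homOfLE h).op) (1 : Γ(Y, U))).symm.trans
        (congrArg (φk.app V) (map_one (Y.presheaf.map (homOfLE h).op).hom))
    let D : ∀ U : Y.affineOpens, 𝒮h.presheaf.obj (op U.1) ⟶ B.presheaf.obj (op U.1) := fun U =>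
      CommRingCat.ofHom ((Polynomial.eval₂RingHom (ψ₀.hom.app (op U.1)).hom (b U.1)).comp
        (hz.polyEquiv U.1 U.2).symm.toRingHom)
    have hDι : ∀ (U : Y.affineOpens) (a : 𝒮.presheaf.obj (op U.1)),
        D U ((ι.hom.app (op U.1)).hom a) = ψ₀.hom.app (op U.1) a := by
      intro U a
      have e : hz.polyEquiv U.1 U.2 (Polynomial.C a) = (ι.hom.app (op U.1)).hom a := by
        rw [RelCone.IsPolyOver.polyEquiv_apply, Polynomial.eval₂_C]
      show Polynomial.eval₂ _ _ ((hz.polyEquiv U.1 U.2).symm _) = _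
      rw [← e, RingEquiv.symm_apply_apply, Polynomial.eval₂_C]
    have hDz : ∀ U : Y.affineOpens, D U (RelCone.restrictTop 𝒮h z U.1) = b U.1 := by
      intro U
      have e : hz.polyEquiv U.1 U.2 Polynomial.X = RelCone.restrictTop 𝒮h z U.1 := by
        rw [RelCone.IsPolyOver.polyEquiv_apply, Polynomial.eval₂_X]
      show Polynomial.eval₂ _ _ ((hz.polyEquiv U.1 U.2).symm _) = _
      rw [← e, RingEquiv.symm_apply_apply, Polynomial.eval₂_X]
    -- ring maps out of an affine piece are determined on ι and z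
    have hext : ∀ (U : Y.affineOpens) {T : Type u} [CommRing T] (g g' : 𝒮h.presheaf.obj (op U.1) →+* T),
        (∀ a, g ((ι.hom.app (op U.1)).hom a) = g' ((ι.hom.app (op U.1)).hom a)) →
        g (RelCone.restrictTop 𝒮h z U.1) = g' (RelCone.restrictTop 𝒮h z U.1) → g = g' := by
      intro U T _ g g' h1 h2
      have h : g.comp (hz.polyEquiv U.1 U.2).toRingHom = g'.comp (hz.polyEquiv U.1 U.2).toRingHom := by
        refine Polynomial.ringHom_ext (fun a => ?_) ?_
        · show g (hz.polyEquiv U.1 U.2 (Polynomial.C a)) = g' (hz.polyEquiv U.1 U.2 (Polynomial.C a))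
          rw [RelCone.IsPolyOver.polyEquiv_apply, Polynomial.eval₂_C]
          exact h1 a
        · show g (hz.polyEquiv U.1 U.2 Polynomial.X) = g' (hz.polyEquiv U.1 U.2 Polynomial.X)
          rw [RelCone.IsPolyOver.polyEquiv_apply, Polynomial.eval₂_X]
          exact h2
      exact RingHom.ext fun x => by
        obtain ⟨p, rfl⟩ := (hz.polyEquiv U.1 U.2).surjective x
        exact RingHom.congr_fun h p
    let B₀ := fun U : Y.affineOpens => (U : Y.Opens)
    let α : (inducedFunctor B₀).op ⋙ 𝒮h.presheaf ⟶ (inducedFunctor B₀).op ⋙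
        (⟨B.presheaf, B.isSheaf⟩ : TopCat.Sheaf CommRingCat.{u} Y.carrier).1 :=
      { app := fun U => D U.unop
        naturality := fun U V i => by
          let h : V.unop.1 ≤ U.unop.1 := leOfHom i.unop.hom
          refine CommRingCat.hom_ext (hext U.unop ((𝒮h.presheaf.map (homOfLE h).op ≫ D V.unop).hom)
            ((D U.unop ≫ B.presheaf.map (homOfLE h).op).hom) (fun a => ?_) ?_)
          · show D V.unop (𝒮h.presheaf.map (homOfLE h).op ((ι.hom.app (op U.unop.1)).hom a)) =
              B.presheaf.map (homOfLE h).op (D U.unop ((ι.hom.app (op U.unop.1)).hom a))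
            rw [show 𝒮h.presheaf.map (homOfLE h).op ((ι.hom.app (op U.unop.1)).hom a) =
              (ι.hom.app (op V.unop.1)).hom (𝒮.presheaf.map (homOfLE h).op a) from
                (ConcreteCategory.congr_hom (ι.hom.naturality (homOfLE h).op) a).symm, hDι, hDι]
            exact ConcreteCategory.congr_hom (ψ₀.hom.naturality (homOfLE h).op) a
          · show D V.unop (𝒮h.presheaf.map (homOfLE h).op (RelCone.restrictTop 𝒮h z U.unop.1)) =
              B.presheaf.map (homOfLE h).op (D U.unop (RelCone.restrictTop 𝒮h z U.unop.1))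
            rw [hDz, show 𝒮h.presheaf.map (homOfLE h).op (RelCone.restrictTop 𝒮h z U.unop.1) =
              RelCone.restrictTop 𝒮h z V.unop.1 from ?_, hDz, hb h]
            show _ = (𝒮h.presheaf.map (homOfLE le_top).op).hom z
            rw [← CategoryTheory.comp_apply, ← Functor.map_comp]
            rfl }
    let d₀ := TopCat.Sheaf.restrictHomEquivHom 𝒮h.presheaf _ RelVALib.isBasis_range_affineOpens α
    have hd : ∀ U : Y.affineOpens, d₀.app (op (U : Y.Opens)) = D U := fun U =>
      TopCat.Sheaf.extend_hom_app 𝒮h.presheaf _ RelVALib.isBasis_range_affineOpens α U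
    have hinl : ι.hom ≫ d₀ = ψ₀.hom :=
      TopCat.Sheaf.hom_ext 𝒮.presheaf ⟨B.presheaf, B.isSheaf⟩ RelVALib.isBasis_range_affineOpens fun U => by
        rw [NatTrans.comp_app, hd]
        exact CommRingCat.hom_ext (RingHom.ext (hDι U))
    have hcomm : 𝒮h.str ≫ d₀ = B.str := by
      rw [← ι.comm, Category.assoc, hinl, ψ₀.comm]
    let ψ : 𝒮h.toQCAlg ⟶ B := ⟨d₀, hcomm⟩
    have hinl' : ι ≫ ψ = ψ₀ := RelSpec.QCAlg.hom_ext hinl
    refine ⟨ψ, ?_, fun ψ' hψ' => ?_⟩
    · refine biprod.hom_ext' _ _ ?_ ?_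
      · rw [biprod.inl_desc_assoc, Category.assoc, ← hψ₀]
        rw [← hinl']
        congr 1
      · rw [biprod.inr_desc_assoc]
        refine RelVALib.hom_ext_affine _ _ fun U hU r => ?_
        have key : ∀ (M : Y.Modules) (g : Coh.structureModule Y ⟶ M),
            g.app U r = (show Γ(Y, U) from r) • g.app U (1 : Γ(Y, U)) := fun M g => by
          rw [← Scheme.Modules.Hom.app_smul]
          exact congrArg _ (mul_one (show Γ(Y, U) from r)).symm
        rw [key _ (k ≫ RelSpec.QCAlg.Hom.toModuleMap ψ), key _ (biprod.inr ≫ φ)]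
        congr 1
        show d₀.app (op U) (k.app U (1 : Γ(Y, U))) = b U
        rw [hk, hd ⟨U, hU⟩]
        exact hDz ⟨U, hU⟩
    · have h1 : ι ≫ ψ' = ψ₀ := hψ₀u _ (by
        show j ≫ RelSpec.QCAlg.Hom.toModuleMap (ι ≫ ψ') = biprod.inl ≫ φ
        rw [← hψ', biprod.inl_desc_assoc, Category.assoc]
        congr 1)
      refine RelVALib.qcAlg_hom_ext fun U => CommRingCat.hom_ext (hext U _ _ (fun a => ?_) ?_)
      · exact (ConcreteCategory.congr_hom (NatTrans.congr_app (congrArg RelSpec.QCAlg.Hom.hom h1) (op U.1)) a).trans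
          (ConcreteCategory.congr_hom (NatTrans.congr_app (congrArg RelSpec.QCAlg.Hom.hom hinl') (op U.1)) a).symm
      · rw [show ψ.hom.app (op U.1) = D U from hd U, hDz U, ← hk U.1]
        exact congrArg (fun g : Coh.structureModule Y ⟶ B.toModule => g.app U.1 (1 : Γ(Y, U.1)))
          ((biprod.inr_desc_assoc _ _ _).symm.trans (congrArg (biprod.inr ≫ ·) hψ'))
  · let i₁ : E ⟶ E ⊞ Coh.structureModule Y := biprod.inl
    let i₂ : Coh.structureModule Y ⟶ E ⊞ Coh.structureModule Y := biprod.inr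
    let p₁ : E ⊞ Coh.structureModule Y ⟶ E := biprod.fst
    let p₂ : E ⊞ Coh.structureModule Y ⟶ Coh.structureModule Y := biprod.snd
    have hx : x = i₁.app U (p₁.app U x) + i₂.app U (p₂.app U x) :=
      congrArg (fun g : E ⊞ Coh.structureModule Y ⟶ E ⊞ Coh.structureModule Y => g.app U x) biprod.total.symm
    rw [hx, map_add]
    refine AddSubgroup.add_mem _ ?_ ?_
    · rw [show (biprod.desc (j ≫ RelSpec.QCAlg.Hom.toModuleMap ι) k).app U (i₁.app U (p₁.app U x)) =
        (ι.hom.app (op U)).hom (j.app U (p₁.app U x)) from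
          congrArg (fun g : E ⟶ 𝒮h.toModule => g.app U (p₁.app U x)) (biprod.inl_desc _ _)]
      exact hz.graded U hU 1 _ (hS.2 U hU _)
    · rw [show (biprod.desc (j ≫ RelSpec.QCAlg.Hom.toModuleMap ι) k).app U (i₂.app U (p₂.app U x)) =
        k.app U (p₂.app U x) from
          congrArg (fun g : Coh.structureModule Y ⟶ 𝒮h.toModule => g.app U (p₂.app U x)) (biprod.inr_desc _ _)]
      generalize p₂.app U x = r
      have e : k.app U r = (show Γ(Y, U) from r) • k.app U (1 : Γ(Y, U)) := by
        rw [← Scheme.Modules.Hom.app_smul]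
        exact congrArg _ (mul_one (show Γ(Y, U) from r)).symm
      rw [e, hk]
      exact SetLike.mul_mem_graded (A := 𝒮h.deg U hU) (𝒮h.str_mem U hU r) (hz.deg_z U hU)

end Groth.Agent.S8304
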