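import Groth.Statements.S8306
import Mathlib
import Groth.Agent.Coherent.QcohOps
import Groth.Agent.Coherent.FiniteType

set_option autoImplicit false
universe u
open CategoryTheory CategoryTheory.Limits AlgebraicGeometry Opposite TopologicalSpace
noncomputable section
open EGA2

namespace Groth.Agent.S8306

/-- Exactness: in the form it takes for the direct image: let f : X → S be an affine morphism and v : F
→ G an epimorphism between quasi-coherent O_X-modules. Then the direct image f_*(v) : f_*F → f_*G, a
homomorphism of modules over the direct-image algebra f_*O_X, is again an epimorphism. (The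
published statement says that the module on X attached to a quasi-coherent f_*O_X-module is an exact
functor of that module; since this functor is inverse to the direct image on quasi-coherent modules
and the direct image is left exact, its exactness amounts to the direct image preserving
epimorphisms between quasi-coherent modules.) -/
theorem result {X S : Scheme.{u}} (f : X ⟶ S) [IsAffineHom f]
    (F G : X.Modules) (hF : Coh.IsQCoh F) (hG : Coh.IsQCoh G) (v : F ⟶ G) [Epi v] :
    Epi ((AMod.dirImg f).map v) := by
  have := Coherent.isQCoh_kernel v
  let T : ShortComplex X.Modules := ShortComplex.mk (kernel.ι v) v (kernel.condition v)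
  have hT : T.ShortExact := { exact := T.exact_of_f_is_kernel (kernelIsKernel v) }
  have he : Epi ((Scheme.Modules.pushforward f).map v) := by
    refine Coherent.epi_of_locally_surjective _ fun W a y hy ↦ ?_
    obtain ⟨V, hV, hyV, hVW⟩ := exists_isAffineOpen_mem_and_subset (x := y) (U := W) hy
    refine ⟨V, hVW, hyV, ?_⟩
    exact Coherent.sections_surjective (S := T) hT (hV.preimage f) _
  have : (AMod.toOS (RelSpec.QCAlg.directImage f)).Faithful :=
    ⟨fun {M N g g'} h ↦ (SheafOfModules.toSheaf (AMod.ringSheaf (RelSpec.QCAlg.directImage f))).map_injective
      (congrArg (SheafOfModules.toSheaf S.ringCatSheaf).map h :)⟩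
  exact (AMod.toOS (RelSpec.QCAlg.directImage f)).epi_of_epi_map he

end Groth.Agent.S8306
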