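import Groth.Statements.S8308
import Groth.Agent.RelConeLib.Retraction

set_option autoImplicit false
universe u
open CategoryTheory CategoryTheory.Limits AlgebraicGeometry Opposite TopologicalSpace
open scoped HomogeneousIdeal
noncomputable section
open EGA2

namespace Groth.Agent.S8308

/-- The canonical retraction of the pointed projective cone: let 𝒮 be a quasi-coherent positively graded
O_Y-algebra with 𝒮_0 = O_Y, Ŝ = 𝒮[z] (given through a graded homomorphism ι : 𝒮 → Ŝ and a global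
section z of degree one, polynomial over every affine open), X = Proj(𝒮) and Ĉ = Proj(Ŝ) the
relative homogeneous spectra with their charts, and Ê ⊆ Ĉ the pointed projective cone. There is
exactly one morphism p : Ê → X such that for every affine open U of Y and every f ∈ 𝒮(U) homogeneous
of positive degree, on the affine piece Spec Ŝ(U)_(ι f) of Ê (the standard open D_+(ι f) of Proj
Ŝ(U) carried into Ĉ by the chart) p is Spec of the canonical homomorphism 𝒮(U)_(f) → Ŝ(U)_(ι f)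
followed by the standard open D_+(f) of Proj 𝒮(U) and the chart of X. Every such p is affine and
surjective, lies over Y, and is a retraction of the immersion at infinity: if j : X → Ĉ is the
morphism chartwise induced by the graded retraction θ : Ŝ → 𝒮 of ι with θ(z) = 0, then j factors
through Ê and the factorisation followed by p is the identity of X. -/
theorem result {Y PC P : Scheme.{u}} (𝒮 𝒮h : RelProj.QCGrAlg Y) (h0 : RelCone.StrZeroBij 𝒮)
    (ι : 𝒮.toQCAlg ⟶ 𝒮h.toQCAlg) (z : 𝒮h.presheaf.obj (op ⊤)) (hz : RelCone.IsPolyOver 𝒮 𝒮h ι z)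
    (pC : PC ⟶ Y)
    (chartC : ∀ (U : Y.Opens) (hU : IsAffineOpen U), (((pC ⁻¹ᵁ U : PC.Opens) : Scheme.{u}) ≅ Proj (𝒮h.deg U hU)))
    (hPC : RelProj.IsRelProj 𝒮h pC chartC)
    (p : P ⟶ Y)
    (chart : ∀ (U : Y.Opens) (hU : IsAffineOpen U), (((p ⁻¹ᵁ U : P.Opens) : Scheme.{u}) ≅ Proj (𝒮.deg U hU)))
    (hP : RelProj.IsRelProj 𝒮 p chart) :
    (∃! r : ((RelCone.pointedProjCone 𝒮 hz pC chartC : PC.Opens) : Scheme.{u}) ⟶ P,
      (∀ (U : Y.Opens) (hU : IsAffineOpen U) (d : ℕ) (hd : 0 < d) (f : 𝒮.presheaf.obj (op U)) (hf : f ∈ 𝒮.deg U hU d)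
        (g : Spec (CommRingCat.of (HomogeneousLocalization.Away (𝒮h.deg U hU) ((RelProj.gradedHomAt ι hz.graded U hU) f))) ⟶
          ((RelCone.pointedProjCone 𝒮 hz pC chartC : PC.Opens) : Scheme.{u})),
        g ≫ (RelCone.pointedProjCone 𝒮 hz pC chartC).ι =
            Proj.awayι (𝒮h.deg U hU) ((RelProj.gradedHomAt ι hz.graded U hU) f) ((RelProj.gradedHomAt ι hz.graded U hU).2 hf) hd ≫
              RelProj.emb pC chartC U hU →
          g ≫ r =
            Spec.map (CommRingCat.ofHom (HomogeneousLocalization.Away.map (RelProj.gradedHomAt ι hz.graded U hU) f)) ≫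
              Proj.awayι (𝒮.deg U hU) f hf hd ≫ RelProj.emb p chart U hU)) ∧
    ∀ r : ((RelCone.pointedProjCone 𝒮 hz pC chartC : PC.Opens) : Scheme.{u}) ⟶ P,
      (∀ (U : Y.Opens) (hU : IsAffineOpen U) (d : ℕ) (hd : 0 < d) (f : 𝒮.presheaf.obj (op U)) (hf : f ∈ 𝒮.deg U hU d)
        (g : Spec (CommRingCat.of (HomogeneousLocalization.Away (𝒮h.deg U hU) ((RelProj.gradedHomAt ι hz.graded U hU) f))) ⟶
          ((RelCone.pointedProjCone 𝒮 hz pC chartC : PC.Opens) : Scheme.{u})),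
        g ≫ (RelCone.pointedProjCone 𝒮 hz pC chartC).ι =
            Proj.awayι (𝒮h.deg U hU) ((RelProj.gradedHomAt ι hz.graded U hU) f) ((RelProj.gradedHomAt ι hz.graded U hU).2 hf) hd ≫
              RelProj.emb pC chartC U hU →
          g ≫ r =
            Spec.map (CommRingCat.ofHom (HomogeneousLocalization.Away.map (RelProj.gradedHomAt ι hz.graded U hU) f)) ≫
              Proj.awayι (𝒮.deg U hU) f hf hd ≫ RelProj.emb p chart U hU) →
      IsAffineHom r ∧ Function.Surjective r.base ∧ r ≫ p = (RelCone.pointedProjCone 𝒮 hz pC chartC).ι ≫ pC ∧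
        ∀ (θ : 𝒮h.toQCAlg ⟶ 𝒮.toQCAlg) (hθ : RelProj.IsGradedHom θ), ι ≫ θ = 𝟙 _ →
          (θ.hom.app (op ⊤)).hom z = 0 →
          ∀ (hirr : ∀ (U : Y.Opens) (hU : IsAffineOpen U),
              (𝒮.deg U hU)₊ ≤ ((𝒮h.deg U hU)₊).map (RelProj.gradedHomAt θ hθ U hU))
            (j : P ⟶ PC), RelProj.IsRelProjMap θ hθ hirr chartC chart j →
            ∀ j' : P ⟶ ((RelCone.pointedProjCone 𝒮 hz pC chartC : PC.Opens) : Scheme.{u}), j' ≫ (RelCone.pointedProjCone 𝒮 hz pC chartC).ι = j → j' ≫ r = 𝟙 P := by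
  refine ⟨⟨RelConeLib.retr 𝒮 𝒮h ι z hz pC chartC hPC p chart hP,
    RelConeLib.isRetr_retr 𝒮 𝒮h ι z hz pC chartC hPC p chart hP,
    fun r hr ↦ RelConeLib.eq_retr 𝒮 𝒮h ι z hz pC chartC hPC p chart hP r hr⟩, fun r hr ↦ ?_⟩
  obtain rfl := RelConeLib.eq_retr 𝒮 𝒮h ι z hz pC chartC hPC p chart hP r hr
  refine ⟨RelConeLib.isAffineHom_retr 𝒮 𝒮h ι z hz pC chartC hPC p chart hP,
    RelConeLib.surjective_retr 𝒮 𝒮h ι z hz pC chartC hPC p chart hP,
    RelConeLib.retr_comp 𝒮 𝒮h ι z hz pC chartC hPC p chart hP, ?_⟩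
  intro θ hθ hιθ _ hirr j hj j' hj'
  refine ProjLib.hom_ext_affine p fun U hU ↦ ?_
  have hθU : ∀ a, RelProj.gradedHomAt θ hθ U hU (RelConeLib.ιAt 𝒮 𝒮h ι z hz U hU a) = a := fun a ↦
    ConcreteCategory.congr_hom (congrArg (fun f : 𝒮.toQCAlg ⟶ 𝒮.toQCAlg ↦ f.hom.app (op U)) hιθ) a
  let jU : Proj (𝒮.deg U hU) ⟶ (RelCone.domOpen (RelConeLib.ιAt 𝒮 𝒮h ι z hz U hU)).toScheme :=
    IsOpenImmersion.lift (RelCone.domOpen (RelConeLib.ιAt 𝒮 𝒮h ι z hz U hU)).ι
      (Proj.map (RelProj.gradedHomAt θ hθ U hU) (hirr U hU))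
      (by rw [Scheme.Opens.range_ι]; exact ProjLib.range_map_retr_subset _ _ hθU _)
  have hjU : jU ≫ (RelCone.domOpen (RelConeLib.ιAt 𝒮 𝒮h ι z hz U hU)).ι =
      Proj.map (RelProj.gradedHomAt θ hθ U hU) (hirr U hU) := IsOpenImmersion.lift_fac _ _ _
  have h1 : (p ⁻¹ᵁ U).ι ≫ j' = (chart U hU).hom ≫ jU ≫ RelConeLib.domEmb 𝒮 𝒮h ι z hz pC chartC U hU := by
    rw [← cancel_mono (RelCone.pointedProjCone 𝒮 hz pC chartC).ι, Category.assoc, hj', hj U hU]
    simp only [Category.assoc]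
    erw [RelConeLib.domEmb_ι]
    rw [reassoc_of% hjU]
    rfl
  rw [reassoc_of% h1, RelConeLib.domEmb_retr, reassoc_of% (ProjLib.retr_comp_domMap _ _ hθU _ jU hjU),
    RelProj.emb, Iso.hom_inv_id_assoc, Category.comp_id]

end Groth.Agent.S8308
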