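import Groth.Statements.S8319
import Groth.Agent.ConeC13.Radicial

set_option autoImplicit false
set_option linter.style.haveILetI false
set_option backward.isDefEq.respectTransparency.types false
set_option maxHeartbeats 1000000
universe u
open CategoryTheory CategoryTheory.Limits AlgebraicGeometry Opposite TopologicalSpace
open scoped HomogeneousIdeal
noncomputable section
open EGA2

namespace Groth.Agent.S8319

/-- Let p : X → Y be a proper morphism with p^♯ : O_Y → p_*O_X an isomorphism, L an invertible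
O_X-module ample relative to p, V = V(L) = Spec(Sym L) with projection π and zero section j0 (the
vertex section), C a scheme over Y (structure morphism g) with a section ε and a Y-morphism q : V →
C with j0 ≫ q = p ≫ ε; let C' = Spec(𝒮') with 𝒮' = ⊕_{n≥0} p_*(L^{⊗n}) = (p∘π)_*O_V (the relative
spectrum over Y of the direct-image algebra of p∘π) and q' : V → C' the canonical Y-morphism (the
one corresponding to the identity of (p∘π)_*O_V under the universal property of the relative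
spectrum); suppose moreover that q is proper and that the restriction of q to V0 = V − j0(X) is an
open immersion whose image is exactly C − ε(Y). Then every morphism u : C' → C over Y with q = q' ≫
u is universally closed, surjective and radicial (universally injective), and its restriction to the
open complement of q'(j0(X)) — the vertex section of C' — is an open immersion whose image is
exactly C − ε(Y). -/
theorem result {X Y C : Scheme.{u}} (p : X ⟶ Y) [IsProper p] (hθ : IsIso p.c)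
    (L : X.Modules) (hL : PicF.IsInvertible L) (hLq : Coh.IsQCoh L) (hamp : RelAmple.IsRelAmple p L)
    (𝒜 : RelProj.QCGrAlg X) (jL : L ⟶ 𝒜.toModule) (hA : RelProj.IsGrSymAlg L 𝒜 jL) (h0 : RelCone.StrZeroBij 𝒜)
    (aug : 𝒜.toQCAlg ⟶ RelSpec.QCAlg.unit X) (haug : RelCone.IsAugmentation 𝒜 aug)
    (j0 : X ⟶ 𝒜.toQCAlg.spec) (hj0 : RelCone.IsVertex 𝒜 aug j0)
    (g : C ⟶ Y) (ε : Y ⟶ C) (hε : ε ≫ g = 𝟙 Y) (q : 𝒜.toQCAlg.spec ⟶ C)
    (hqg : q ≫ g = 𝒜.toQCAlg.π ≫ p) (hjq : j0 ≫ q = p ≫ ε)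
    (q' : 𝒜.toQCAlg.spec ⟶ (RelSpec.QCAlg.directImage (𝒜.toQCAlg.π ≫ p)).spec)
    (hq'π : q' ≫ (RelSpec.QCAlg.directImage (𝒜.toQCAlg.π ≫ p)).π = 𝒜.toQCAlg.π ≫ p)
    (hq' : AffAlg.algHom (RelSpec.QCAlg.directImage (𝒜.toQCAlg.π ≫ p)).π (𝒜.toQCAlg.π ≫ p) q' hq'π = (RelSpec.QCAlg.directImage (𝒜.toQCAlg.π ≫ p)).gammaMap)
    [IsProper q] (V0 : 𝒜.toQCAlg.spec.Opens) (hV0 : (V0 : Set 𝒜.toQCAlg.spec) = (Set.range j0.base)ᶜ)
    (hqo : IsOpenImmersion (V0.ι ≫ q)) (hqr : Set.range (V0.ι ≫ q).base = (Set.range ε.base)ᶜ)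
    (u : (RelSpec.QCAlg.directImage (𝒜.toQCAlg.π ≫ p)).spec ⟶ C) (hug : u ≫ g = (RelSpec.QCAlg.directImage (𝒜.toQCAlg.π ≫ p)).π) (hu : q' ≫ u = q) :
    UniversallyClosed u ∧ Function.Surjective u.base ∧ UniversallyInjective u ∧
      ∀ W : (RelSpec.QCAlg.directImage (𝒜.toQCAlg.π ≫ p)).spec.Opens, (W : Set (RelSpec.QCAlg.directImage (𝒜.toQCAlg.π ≫ p)).spec) = (q'.base '' Set.range j0.base)ᶜ →
        IsOpenImmersion (W.ι ≫ u) ∧ Set.range (W.ι ≫ u).base = (Set.range ε.base)ᶜ := by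
  haveI := hLq
  haveI := hqo
  obtain ⟨happ, hpr, hs', hq0, hfib, hopen⟩ := ConeC13.contraction_props p hθ hL hamp hA haug hj0 q' hq'π hq'
  haveI := hpr
  obtain ⟨ho, hor⟩ := hopen V0 hV0
  haveI := ho
  haveI : Surjective q' := ⟨hs'⟩
  have hp : ∀ U : Y.Opens, IsIso (p.app U) := fun U => inferInstanceAs (IsIso (p.c.app (Opposite.op U)))
  have hps := ConeC13.surjective_of_app p p.isClosedMap hp
  obtain ⟨ε', hε', -⟩ := ConeC13.exists_factor p p.isClosedMap hp (j0 ≫ q') fun x x' e => by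
    rw [Scheme.Hom.comp_apply, Scheme.Hom.comp_apply]; exact hq0 x x' e
  have hε'π : ε' ≫ (RelSpec.QCAlg.directImage (𝒜.toQCAlg.π ≫ p)).π = 𝟙 Y :=
    ConeC13.hom_ext_of_app p hps hp (by
      rw [← Category.assoc, hε', Category.assoc, hq'π, ← Category.assoc, hj0.comp_π, Category.id_comp, Category.comp_id])
  have hε'u : ε' ≫ u = ε := ConeC13.hom_ext_of_app p hps hp (by
    rw [← Category.assoc, hε', Category.assoc, hu, hjq])
  haveI : IsClosedImmersion ε' :=
    haveI : IsClosedImmersion (ε' ≫ (RelSpec.QCAlg.directImage (𝒜.toQCAlg.π ≫ p)).π) := by rw [hε'π]; infer_instance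
    IsClosedImmersion.of_comp ε' (RelSpec.QCAlg.directImage (𝒜.toQCAlg.π ≫ p)).π
  have hεr : Set.range ε' = q'.base '' Set.range j0.base := by
    ext z
    constructor
    · rintro ⟨y, rfl⟩
      obtain ⟨x, rfl⟩ := hps y
      exact ⟨j0 x, ⟨x, rfl⟩, by rw [← Scheme.Hom.comp_apply p, hε', Scheme.Hom.comp_apply]⟩
    · rintro ⟨_, ⟨x, rfl⟩, rfl⟩
      exact ⟨p x, by rw [← Scheme.Hom.comp_apply, hε', Scheme.Hom.comp_apply]⟩
  let W₀ := (V0.ι ≫ q').opensRange
  have hW₀ : (W₀ : Set _) = (q'.base '' Set.range j0.base)ᶜ := hor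
  have hmain : ∀ W : (RelSpec.QCAlg.directImage (𝒜.toQCAlg.π ≫ p)).spec.Opens,
      (W : Set (RelSpec.QCAlg.directImage (𝒜.toQCAlg.π ≫ p)).spec) = (q'.base '' Set.range j0.base)ᶜ →
      IsOpenImmersion (W.ι ≫ u) ∧ Set.range (W.ι ≫ u).base = (Set.range ε.base)ᶜ := by
    intro W hW
    obtain rfl : W = W₀ := Opens.ext (hW.trans hW₀.symm)
    have e : (V0.ι ≫ q').isoOpensRange.inv ≫ V0.ι ≫ q = W₀.ι ≫ u := by
      rw [← Scheme.Hom.isoOpensRange_inv_comp (V0.ι ≫ q'), Category.assoc, Category.assoc, hu]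
    rw [← e]
    refine ⟨inferInstance, ?_⟩
    rw [← hqr, Scheme.Hom.comp_base, TopCat.coe_comp, Function.Surjective.range_comp]
    exact (V0.ι ≫ q').isoOpensRange.inv.homeomorph.surjective
  obtain ⟨hWo, hWr⟩ := hmain W₀ hW₀
  haveI := hWo
  have hqu : IsProper (q' ≫ u) := hu ▸ inferInstance
  haveI : UniversallyClosed (q' ≫ u) := hqu.toUniversallyClosed
  refine ⟨UniversallyClosed.of_comp_surjective q' u, fun c => ?_, ?_, hmain⟩
  · by_cases hc : c ∈ Set.range ε.base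
    · obtain ⟨y, rfl⟩ := hc
      exact ⟨ε' y, by rw [← Scheme.Hom.comp_apply, hε'u]⟩
    · obtain ⟨w, rfl⟩ := hWr.ge hc
      exact ⟨_, rfl⟩
  · haveI : Mono (ε' ≫ u) := hε'u.symm ▸ (SplitMono.mono ⟨g, hε⟩)
    refine ConeC13.universallyInjective_of_strata u W₀ ε' ?_ ?_
    · rw [hW₀, compl_compl, hεr]
    · rw [hε'u, Set.eq_empty_iff_forall_notMem]
      exact fun c hc => hWr.le hc.1 hc.2

end Groth.Agent.S8319
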