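import Groth.Statements.S8320
import Groth.Agent.S8319
import Groth.Agent.ConeC13.Compare
import Groth.Agent.RelVALib.Contract
import Groth.Agent.NormalExtLib.Basic
-- import your own Groth.Agent.* helpers here

set_option autoImplicit false
set_option backward.isDefEq.respectTransparency.types false
set_option linter.style.haveILetI false
set_option maxHeartbeats 1000000
universe u
open CategoryTheory CategoryTheory.Limits AlgebraicGeometry Opposite TopologicalSpace
open scoped HomogeneousIdeal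
noncomputable section
open EGA2

namespace Groth.Agent.S8320


section

open Groth.Agent.Coherent Groth.Agent.PicLib Groth.Agent.RelVALib

variable {X : Scheme.{u}} {L : X.Modules} {𝒜 : RelProj.QCGrAlg X} {jL : L ⟶ 𝒜.toModule}
  {aug : 𝒜.toQCAlg ⟶ RelSpec.QCAlg.unit X} {j0 : X ⟶ 𝒜.toQCAlg.spec}

/-- The symmetric algebra of an invertible module on an integral scheme has domains of sections. -/
theorem isDomain_sections [IsIntegral X] [Coh.IsQCoh L] (hA : RelSpec.IsSymAlg L 𝒜.toQCAlg jL) {U : X.Opens}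
    (hU : IsAffineOpen U) [Nonempty U] {g : Γ(L, U)} (hg : IsGen L U g) :
    IsDomain (𝒜.presheaf.obj (Opposite.op U)) ∧ (show 𝒜.presheaf.obj (Opposite.op U) from jL.app U g) ≠ 0 := by
  obtain ⟨ψ, h0, h1⟩ := SymAlgLib.exists_sectionsHom hA hU (Polynomial.C (R := Γ(X, U)))
    (AddMonoidHom.mk' (fun m => Polynomial.C (hg.coef le_rfl m) * Polynomial.X)
      fun a b => by rw [hg.coef_add, map_add, add_mul])
    (fun r m => by
      show Polynomial.C (hg.coef le_rfl (r • m)) * Polynomial.X = Polynomial.C r * (Polynomial.C (hg.coef le_rfl m) * Polynomial.X)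
      rw [hg.coef_smul, map_mul, mul_assoc])
  let φ : Polynomial Γ(X, U) →+* 𝒜.presheaf.obj (Opposite.op U) :=
    Polynomial.eval₂RingHom (𝒜.str.app (Opposite.op U)).hom (show 𝒜.presheaf.obj (Opposite.op U) from jL.app U g)
  have hid : φ.comp ψ = RingHom.id _ := by
    refine SymAlgLib.sectionsHom_ext hA hU (fun r => ?_) fun m => ?_
    · show φ (ψ (𝒜.str.app (Opposite.op U) r)) = 𝒜.str.app (Opposite.op U) r
      erw [h0 r]
      exact Polynomial.eval₂_C _ _
    · show φ (ψ (jL.app U m)) = jL.app U m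
      erw [h1 m]
      show φ (Polynomial.C (hg.coef le_rfl m) * Polynomial.X) = _
      rw [map_mul]
      simp only [φ, Polynomial.coe_eval₂RingHom, Polynomial.eval₂_C, Polynomial.eval₂_X]
      have h := hg.coef_spec le_rfl m
      rw [resM_self] at h
      conv_rhs => rw [← h, Scheme.Modules.Hom.app_smul]
      rfl
  have hinj : Function.Injective ψ := fun a b h => by
    simpa using (RingHom.congr_fun hid a).symm.trans ((congrArg φ h).trans (RingHom.congr_fun hid b))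
  refine ⟨hinj.isDomain ψ, fun hz => ?_⟩
  have hX : ψ (jL.app U g) = Polynomial.X := by
    erw [h1 g]
    show Polynomial.C (hg.coef le_rfl g) * Polynomial.X = Polynomial.X
    have hc : hg.coef le_rfl g = 1 := hg.coef_eq le_rfl (by rw [resM_self, one_smul])
    rw [hc, map_one, one_mul]
  exact Polynomial.X_ne_zero (hX.symm.trans ((congrArg ψ hz).trans (map_zero ψ)))

/-- The total space of an invertible module on an integral scheme is integral. -/
theorem isIntegral_spec [IsIntegral X] [Coh.IsQCoh L] (hL : PicF.IsInvertible L)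
    (hA : RelProj.IsGrSymAlg L 𝒜 jL) (haug : RelCone.IsAugmentation 𝒜 aug) (hj0 : RelCone.IsVertex 𝒜 aug j0) :
    IsIntegral 𝒜.toQCAlg.spec ∧ ∃ v, v ∉ Set.range j0.base := by
  have hgen : ∀ x : X, ∃ (U : X.Opens) (_ : IsAffineOpen U) (g : Γ(L, U)), x ∈ U ∧ IsGen L U g := fun x => by
    obtain ⟨U₀, hx₀, g₀, hg₀⟩ := exists_isGen hL x
    obtain ⟨U, hU, hxU, hle⟩ := exists_isAffineOpen_mem_and_subset (X := X) (x := x) (U := U₀) hx₀
    exact ⟨U, hU, resM L hle g₀, hxU, hg₀.restrict hle⟩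
  choose U hU g hx hg using hgen
  have hdom : ∀ x, IsDomain (𝒜.presheaf.obj (Opposite.op (U x))) ∧
      (show 𝒜.presheaf.obj (Opposite.op (U x)) from jL.app (U x) (g x)) ≠ 0 := fun x =>
    haveI : Nonempty (U x) := ⟨⟨x, hx x⟩⟩
    isDomain_sections hA.1 (hU x) (hg x)
  have hchart : ∀ z, ∃ P, 𝒜.toQCAlg.ι (U (𝒜.toQCAlg.π z)) (hU _) P = z := fun z => by
    obtain ⟨P, hP⟩ := RelSpecLib.exists_chart_eq 𝒜.toQCAlg (hU (𝒜.toQCAlg.π z)) z (hx _)
    exact ⟨P, hP⟩
  haveI : ∀ z, _root_.IsReduced (𝒜.toQCAlg.spec.presheaf.stalk z) := fun z => by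
    obtain ⟨P, hP⟩ := hchart z
    haveI := (hdom (𝒜.toQCAlg.π z)).1
    rw [← hP]
    exact isReduced_of_injective ((𝒜.toQCAlg.ι (U (𝒜.toQCAlg.π z)) (hU _)).stalkMap P).hom
      (ConcreteCategory.bijective_of_isIso _).1
  haveI : IsReduced 𝒜.toQCAlg.spec := isReduced_of_isReduced_stalk _
  haveI : PreirreducibleSpace 𝒜.toQCAlg.spec := by
    refine ⟨fun O₁ O₂ hO₁ hO₂ h₁ h₂ => ?_⟩
    obtain ⟨a, -, ha⟩ := h₁
    obtain ⟨b, -, hb⟩ := h₂
    have hirr : ∀ x, IsPreirreducible ((𝒜.toQCAlg.π ⁻¹ᵁ U x : 𝒜.toQCAlg.spec.Opens) : Set 𝒜.toQCAlg.spec) := fun x => by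
      haveI := (hdom x).1
      rw [𝒜.toQCAlg.π_preimage (U x) (hU x), Scheme.Hom.coe_opensRange, ← Set.image_univ]
      exact PreirreducibleSpace.isPreirreducible_univ.image _
        (𝒜.toQCAlg.ι (U x) (hU x)).continuous.continuousOn
    let x₁ := 𝒜.toQCAlg.π a
    let x₂ := 𝒜.toQCAlg.π b
    obtain ⟨y, hy₁, hy₂⟩ : ∃ y, y ∈ U x₁ ∧ y ∈ U x₂ :=
      ⟨genericPoint X, (genericPoint_specializes x₁).mem_open (U x₁).isOpen (hx _),
        (genericPoint_specializes x₂).mem_open (U x₂).isOpen (hx _)⟩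
    have hjy : 𝒜.toQCAlg.π (j0 y) = y := by rw [← Scheme.Hom.comp_apply, hj0.comp_π]; rfl
    have hc₁ : j0 y ∈ 𝒜.toQCAlg.π ⁻¹ᵁ U x₁ := by show 𝒜.toQCAlg.π (j0 y) ∈ U x₁; rw [hjy]; exact hy₁
    have hc₂ : j0 y ∈ 𝒜.toQCAlg.π ⁻¹ᵁ U x₂ := by show 𝒜.toQCAlg.π (j0 y) ∈ U x₂; rw [hjy]; exact hy₂
    obtain ⟨z, hzU, hzO, hzU₂⟩ := hirr x₁ O₁ _ hO₁ (𝒜.toQCAlg.π ⁻¹ᵁ U x₂).isOpen ⟨a, hx _, ha⟩ ⟨_, hc₁, hc₂⟩
    obtain ⟨w, -, hwO₁, hwO₂⟩ := hirr x₂ O₁ O₂ hO₁ hO₂ ⟨z, hzU₂, hzO⟩ ⟨b, hx _, hb⟩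
    exact ⟨w, trivial, hwO₁, hwO₂⟩
  let x₀ := genericPoint X
  haveI := (hdom x₀).1
  let P₀ : Spec (𝒜.presheaf.obj (Opposite.op (U x₀))) := ⟨⊥, Ideal.isPrime_bot⟩
  haveI : IrreducibleSpace 𝒜.toQCAlg.spec := { toNonempty := ⟨j0 x₀⟩ }
  refine ⟨isIntegral_of_irreducibleSpace_of_isReduced _, 𝒜.toQCAlg.ι (U x₀) (hU x₀) P₀, fun h => ?_⟩
  exact (hdom x₀).2 ((mem_compl_vertex_iff hA haug hj0 (hU x₀) (hg x₀) P₀).1 h)

end


/-- Let p : X → Y be a proper morphism with p^♯ : O_Y → p_*O_X an isomorphism, L an invertible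
O_X-module ample relative to p, V = V(L) = Spec(Sym L) with projection π and zero section j0 (the
vertex section), C a scheme over Y (structure morphism g) with a section ε and a Y-morphism q : V →
C with j0 ≫ q = p ≫ ε; let C' = Spec(𝒮') with 𝒮' = ⊕_{n≥0} p_*(L^{⊗n}) = (p∘π)_*O_V (the relative
spectrum over Y of the direct-image algebra of p∘π) and q' : V → C' the canonical Y-morphism (the
one corresponding to the identity of (p∘π)_*O_V under the universal property of the relative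
spectrum); suppose moreover that X is integral, that C is normal (all its local rings are integrally
closed domains), that q is proper and that the restriction of q to V0 = V − j0(X) is an open
immersion with image exactly C − ε(Y). Then every morphism u : C' → C over Y with q = q' ≫ u is an
isomorphism. (The published statement assumes only the commutativity j0 ≫ q = p ≫ ε; this row also
assumes q proper and q restricted to V − j0(X) an open immersion onto C − ε(Y), without which the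
conclusion fails: for C = Y, ε the identity and q the structure morphism of V, the morphism u is the
structure morphism C' → Y, which is not an isomorphism in general (X the projective line over a
field k, Y = C = Spec k, L of degree one: C' is the affine plane).) -/
theorem result {X Y C : Scheme.{u}} (p : X ⟶ Y) [IsProper p] (hθ : IsIso p.c)
    (L : X.Modules) (hL : PicF.IsInvertible L) (hLq : Coh.IsQCoh L) (hamp : RelAmple.IsRelAmple p L)
    (𝒜 : RelProj.QCGrAlg X) (jL : L ⟶ 𝒜.toModule) (hA : RelProj.IsGrSymAlg L 𝒜 jL) (h0 : RelCone.StrZeroBij 𝒜)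
    (aug : 𝒜.toQCAlg ⟶ RelSpec.QCAlg.unit X) (haug : RelCone.IsAugmentation 𝒜 aug)
    (j0 : X ⟶ 𝒜.toQCAlg.spec) (hj0 : RelCone.IsVertex 𝒜 aug j0)
    (g : C ⟶ Y) (ε : Y ⟶ C) (hε : ε ≫ g = 𝟙 Y) (q : 𝒜.toQCAlg.spec ⟶ C)
    (hqg : q ≫ g = 𝒜.toQCAlg.π ≫ p) (hjq : j0 ≫ q = p ≫ ε)
    (q' : 𝒜.toQCAlg.spec ⟶ (RelSpec.QCAlg.directImage (𝒜.toQCAlg.π ≫ p)).spec)
    (hq'π : q' ≫ (RelSpec.QCAlg.directImage (𝒜.toQCAlg.π ≫ p)).π = 𝒜.toQCAlg.π ≫ p)
    (hq' : AffAlg.algHom (RelSpec.QCAlg.directImage (𝒜.toQCAlg.π ≫ p)).π (𝒜.toQCAlg.π ≫ p) q' hq'π = (RelSpec.QCAlg.directImage (𝒜.toQCAlg.π ≫ p)).gammaMap)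
    [IsIntegral X] (hC : Pi1.IsNormalScheme C)
    [IsProper q] (V0 : 𝒜.toQCAlg.spec.Opens) (hV0 : (V0 : Set 𝒜.toQCAlg.spec) = (Set.range j0.base)ᶜ)
    (hqo : IsOpenImmersion (V0.ι ≫ q)) (hqr : Set.range (V0.ι ≫ q).base = (Set.range ε.base)ᶜ)
    (u : (RelSpec.QCAlg.directImage (𝒜.toQCAlg.π ≫ p)).spec ⟶ C) (hug : u ≫ g = (RelSpec.QCAlg.directImage (𝒜.toQCAlg.π ≫ p)).π) (hu : q' ≫ u = q) :
    IsIso u := by
  haveI := hLq
  haveI := hqo
  obtain ⟨huc, hus, hui, hopen'⟩ := S8319.result p hθ L hL hLq hamp 𝒜 jL hA h0 aug haug j0 hj0 g ε hε q hqg hjq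
    q' hq'π hq' V0 hV0 hqo hqr u hug hu
  obtain ⟨happ, hpr, hs', -, -, -⟩ := ConeC13.contraction_props p hθ hL hamp hA haug hj0 q' hq'π hq'
  obtain ⟨hVint, v, hv⟩ := isIntegral_spec hL hA haug hj0
  haveI := hVint
  haveI := huc
  haveI := hui
  -- the target is integral
  have hqs : Function.Surjective q.base := fun c => by
    obtain ⟨z, hz⟩ := hus c
    obtain ⟨w, rfl⟩ := hs' z
    exact ⟨w, by rw [← hu]; exact hz⟩
  haveI : IrreducibleSpace C := Function.Surjective.irreducibleSpace (f := q.base) q.continuous hqs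
  haveI : ∀ c : C, _root_.IsReduced (C.presheaf.stalk c) := fun c => by
    haveI := (hC c).1
    infer_instance
  haveI : IsReduced C := isReduced_of_isReduced_stalk C
  haveI : IsIntegral C := isIntegral_of_irreducibleSpace_of_isReduced C
  -- the source is integral
  haveI : IrreducibleSpace (RelSpec.QCAlg.directImage (𝒜.toQCAlg.π ≫ p)).spec :=
    Function.Surjective.irreducibleSpace (f := q'.base) q'.continuous hs'
  haveI : IsReduced (RelSpec.QCAlg.directImage (𝒜.toQCAlg.π ≫ p)).spec := ⟨fun W => by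
    haveI := happ W
    exact isReduced_of_injective (q'.app W).hom (ConcreteCategory.bijective_of_isIso (q'.app W)).1⟩
  haveI : IsIntegral (RelSpec.QCAlg.directImage (𝒜.toQCAlg.π ≫ p)).spec :=
    isIntegral_of_irreducibleSpace_of_isReduced _
  -- integrality of the morphism
  have hinj : Function.Injective u := u.injective
  have hcl : Topology.IsClosedEmbedding u :=
    Topology.IsClosedEmbedding.of_continuous_injective_isClosedMap u.continuous hinj u.isClosedMap
  haveI : IsAffineHom u := isAffineHom_of_isInducing u hcl.isInducing hcl.isClosed_range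
  haveI : IsIntegralHom u := IsIntegralHom.iff_universallyClosed_and_isAffineHom.2 ⟨inferInstance, inferInstance⟩
  let U₀ := (V0.ι ≫ q).opensRange
  have hv0 : v ∈ V0 := by
    show v ∈ (V0 : Set 𝒜.toQCAlg.spec)
    rw [hV0]
    exact hv
  refine NormalExtLib.isIso_of_rational_section u hC U₀
    (U₀.isOpen.dense ⟨(V0.ι ≫ q) ⟨v, hv0⟩, ⟨_, rfl⟩⟩) ((V0.ι ≫ q).isoOpensRange.inv ≫ V0.ι ≫ q') ?_
  rw [Category.assoc, Category.assoc, hu]
  exact Scheme.Hom.isoOpensRange_inv_comp (V0.ι ≫ q)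

end Groth.Agent.S8320
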