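import Groth.Statements.S8334
import Groth.Agent.RelVALib.CounitEpiRel
import Groth.Agent.RelVALib.FTQuotient
import Groth.Agent.CubeS27.Basic
import Groth.Agent.EulerLib.Degree
import Groth.Agent.EulerLib.Twist
import Groth.Agent.Coherent.TensorQcoh
import Groth.Agent.ProjLib.RelProjBasics
-- import your own Groth.Agent.* helpers here

set_option autoImplicit false
set_option backward.isDefEq.respectTransparency.types false
universe u
open CategoryTheory CategoryTheory.Limits AlgebraicGeometry Opposite TopologicalSpace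
open scoped HomogeneousIdeal
noncomputable section
open EGA2

namespace Groth.Agent.S8334

/-- Let Y be a quasi-compact separated scheme, or a scheme with Noetherian underlying space, 𝒮 a
quasi-coherent positively graded O_Y-algebra generated by 𝒮_1 with 𝒮_1 of finite type, p : P =
Proj(𝒮) → Y, and F a quasi-coherent O_P-module of finite type. Then there is n₀ such that for every
n ≥ n₀, F is a quotient of (p^*G)(−n) = p^*(G) ⊗ O_P(−n) for some quasi-coherent O_Y-module G of
finite type (which may vary with n), O_P(−n) being given through its chartwise identifications. -/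
theorem result {Y P : Scheme.{u}} (𝒮 : RelProj.QCGrAlg Y) (p : P ⟶ Y)
    (chart : ∀ (U : Y.Opens) (hU : IsAffineOpen U), (((p ⁻¹ᵁ U : P.Opens) : Scheme.{u}) ≅ Proj (𝒮.deg U hU)))
    (hP : RelProj.IsRelProj 𝒮 p chart)
    (hY : (CompactSpace Y ∧ Y.IsSeparated) ∨ NoetherianSpace Y) (hgen : 𝒮.IsGenDegOne)
    (hft : 𝒮.IsFTDeg 1) (F : P.Modules) (hFq : Coh.IsQCoh F) (hFt : CohB1.IsFT F) :
    ∃ n₀ : ℤ, ∀ (n : ℤ), n₀ ≤ n → ∀ (L : P.Modules)
      (lam : ∀ (U : Y.Opens) (hU : IsAffineOpen U),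
      L ⟶ (Scheme.Modules.pushforward (RelProj.emb p chart U hU)).obj (GrTwist.twist (𝒮.deg U hU) (-n))),
      RelProj.IsRelTwist 𝒮 p chart (-n) L lam →
        ∃ (G : Y.Modules) (π : CohB1.tensorMod ((Scheme.Modules.pullback p).obj G) L ⟶ F),
          Coh.IsQCoh G ∧ CohB1.IsFT G ∧ Epi π := by
  classical
  obtain ⟨hYc, hYq⟩ : CompactSpace Y ∧ QuasiSeparatedSpace Y := by
    rcases hY with ⟨h, h'⟩ | h
    · exact ⟨h, inferInstance⟩
    · exact ⟨inferInstance, ⟨fun U V _ _ _ _ => NoetherianSpace.isCompact _⟩⟩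
  haveI : IsSeparated p := Agent.ProjLib.isSeparated_relProj hP
  haveI : QuasiCompact p := quasiCompact_iff_forall_isAffineOpen.2 fun U hU => by
    haveI := (Agent.RelVALib.isAmple_chart_twist_one hgen hft U hU).2.1
    exact isCompact_iff_compactSpace.2 ((chart U hU).inv.homeomorph.compactSpace)
  obtain ⟨t, k₀, hcov, hgg⟩ := Agent.RelVALib.exists_gg_cover (p := p) (chart := chart) hgen hft F hFq hFt
  refine ⟨k₀, fun n hn L lam hL => ?_⟩
  obtain ⟨k, rfl⟩ := Int.eq_ofNat_of_zero_le ((Int.natCast_nonneg k₀).trans hn)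
  have hLi := Agent.TwistLib.G.isInvertible_relTwist hgen hL
  obtain ⟨M, hM, hMe⟩ := Agent.PicLib.PicM.exists_eq_of (Agent.PicLib.PicM.of hLi)⁻¹
  obtain ⟨eML⟩ : Nonempty (CohB1.tensorMod M L ≅ Coh.structureModule P) :=
    (Agent.PicLib.PicM.of_eq_one_iff (Agent.AmpleLib.isInvertible_tensorMod hM hLi)).1
      (by rw [← Agent.PicLib.PicM.of_mul hM hLi, ← hMe, inv_mul_cancel])
  have hchart : ∀ (U : Y.Opens) (hU : IsAffineOpen U),
      Nonempty ((Scheme.Modules.pullback (RelProj.emb p chart U hU)).obj M ≅ GrTwist.twist (𝒮.deg U hU) (k : ℤ)) := by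
    intro U hU
    have hcov := Agent.RelVALib.degOneCov hgen U hU
    let e := RelProj.emb p chart U hU
    obtain ⟨φ⟩ := Agent.RelVALib.nonempty_chartIso hgen hL U hU
    obtain ⟨a⟩ := Agent.AmpleLib.exists_pullTensorIso e hM hLi
    obtain ⟨b⟩ := Agent.AmpleLib.exists_pullStructureIso e
    obtain ⟨c⟩ := Agent.TwistLib.G.nonempty_tensor_twist_iso hcov (show (k : ℤ) + -k = 0 by ring)
    obtain ⟨d⟩ := Agent.TwistLib.G.nonempty_twist_zero_iso (𝒜 := 𝒮.deg U hU)
    exact Agent.PicLib.PicM.exists_iso_of_tensor_iso (PicLoc.isInvertible_pullback e hM)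
      (Agent.TwistLib.G.isInvertible_twist hcov _) (Agent.TwistLib.G.isInvertible_twist hcov (-(k : ℤ)))
      (Agent.AmpleLib.tensorIso (Iso.refl _) φ.symm ≪≫ a.symm ≪≫
        (Scheme.Modules.pullback e).mapIso eML ≪≫ b ≪≫ d.symm ≪≫ c.symm)
  haveI := hFq
  haveI := Agent.AmpleLib.isQCoh_of_isInvertible hM
  haveI := Agent.Coherent.isQCoh_tensorMod F M
  obtain ⟨G, φ, hG, hGt, hφ⟩ := Agent.RelVALib.exists_epi_pullback_of_gg p (CohB1.tensorMod F M)
    (Agent.Coherent.isFT_tensorMod F M hFt (Agent.PicLib.isCoh_of_isInvertible hM).2) t hcov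
    (fun V hV => hgg k (by exact_mod_cast hn) M hM hchart V hV)
  obtain ⟨α⟩ := Agent.EulerLib.exists_assocIso' F hM hLi
  haveI := hφ
  haveI := Agent.EulerLib.epi_tensorMap hLi φ
  let ψ : CohB1.tensorMod F (CohB1.tensorMod M L) ≅ F :=
    Agent.AmpleLib.tensorIso (Iso.refl F) eML ≪≫ Agent.AmpleLib.tensorComm _ _ ≪≫ Agent.AmpleLib.unitTensorIso F
  exact ⟨G, Agent.AmpleLib.tensorMap φ (𝟙 L) ≫ (α ≪≫ ψ).hom, hG, hGt, epi_comp _ _⟩

end Groth.Agent.S8334
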