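import Groth.Statements.S8335
import Groth.Agent.TwistLib.G.BaseChangeRel15

set_option backward.isDefEq.respectTransparency.types false
-- import your own Groth.Agent.* helpers here

set_option autoImplicit false
universe u
open CategoryTheory CategoryTheory.Limits AlgebraicGeometry Opposite TopologicalSpace
open scoped HomogeneousIdeal
noncomputable section
open EGA2

namespace Groth.Agent.S8335

/-- Let ψ : Y' → Y be a morphism, 𝒮 a quasi-coherent positively graded O_Y-algebra and 𝒮' = ψ^*𝒮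
(presented through a graded ψ-morphism 𝒮 → ψ_*𝒮' with pushout squares over affine opens), X =
Proj(𝒮), X' = Proj(𝒮') = X ×_Y Y' with projection g : X' → X (chartwise induced by 𝒮(U) → 𝒮'(U')).
Then for every integer n the inverse image g^*(O_X(n)) is isomorphic to O_{X'}(n), both twisting
sheaves being given through their chartwise identifications (existence of an isomorphism only; the
published identification O_{X'}(n) = O_X(n) ⊗_Y O_{Y'} is canonical). -/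
theorem result {Y Y' P P' : Scheme.{u}} (ψ : Y' ⟶ Y) (𝒮 : RelProj.QCGrAlg Y)
    (𝒮' : RelProj.QCGrAlg Y') (u : 𝒮.presheaf ⟶ ψ.base _* 𝒮'.presheaf)
    (hu : 𝒮.str ≫ u = ψ.c ≫ (TopCat.Presheaf.pushforward CommRingCat.{u} ψ.base).map 𝒮'.str)
    (φ : ∀ (U : Y.Opens) (hU : IsAffineOpen U) (U' : Y'.Opens) (hU' : IsAffineOpen U') (_ : U' ≤ ψ ⁻¹ᵁ U),
      𝒮.deg U hU →+*ᵍ 𝒮'.deg U' hU')
    (hφ : ∀ (U : Y.Opens) (hU : IsAffineOpen U) (U' : Y'.Opens) (hU' : IsAffineOpen U') (hle : U' ≤ ψ ⁻¹ᵁ U),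
      (φ U hU U' hU' hle).toRingHom =
        ((u.app (op U) : 𝒮.presheaf.obj (op U) ⟶ 𝒮'.presheaf.obj (op (ψ ⁻¹ᵁ U))) ≫
          𝒮'.presheaf.map (homOfLE hle).op).hom)
    (hpo : ∀ (U : Y.Opens) (hU : IsAffineOpen U) (U' : Y'.Opens) (hU' : IsAffineOpen U') (hle : U' ≤ ψ ⁻¹ᵁ U),
      IsPushout (ψ.appLE U U' hle) (𝒮.str.app (op U)) (𝒮'.str.app (op U'))
        ((u.app (op U) : 𝒮.presheaf.obj (op U) ⟶ 𝒮'.presheaf.obj (op (ψ ⁻¹ᵁ U))) ≫
          𝒮'.presheaf.map (homOfLE hle).op))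
    (hirr : ∀ (U : Y.Opens) (hU : IsAffineOpen U) (U' : Y'.Opens) (hU' : IsAffineOpen U') (hle : U' ≤ ψ ⁻¹ᵁ U),
      (𝒮'.deg U' hU')₊ ≤ ((𝒮.deg U hU)₊).map (φ U hU U' hU' hle))
    (p : P ⟶ Y)
    (chart : ∀ (U : Y.Opens) (hU : IsAffineOpen U), (((p ⁻¹ᵁ U : P.Opens) : Scheme.{u}) ≅ Proj (𝒮.deg U hU)))
    (hP : RelProj.IsRelProj 𝒮 p chart) (p' : P' ⟶ Y')
    (chart' : ∀ (U' : Y'.Opens) (hU' : IsAffineOpen U'), (((p' ⁻¹ᵁ U' : P'.Opens) : Scheme.{u}) ≅ Proj (𝒮'.deg U' hU')))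
    (hP' : RelProj.IsRelProj 𝒮' p' chart') (g : P' ⟶ P)
    (hg : ∀ (U : Y.Opens) (hU : IsAffineOpen U) (U' : Y'.Opens) (hU' : IsAffineOpen U') (hle : U' ≤ ψ ⁻¹ᵁ U),
      (p' ⁻¹ᵁ U').ι ≫ g =
        (chart' U' hU').hom ≫ Proj.map (φ U hU U' hU' hle) (hirr U hU U' hU' hle) ≫ RelProj.emb p chart U hU)
    (n : ℤ) (L : P.Modules)
    (lam : ∀ (U : Y.Opens) (hU : IsAffineOpen U),
      L ⟶ (Scheme.Modules.pushforward (RelProj.emb p chart U hU)).obj (GrTwist.twist (𝒮.deg U hU) n))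
    (hL : RelProj.IsRelTwist 𝒮 p chart n L lam) (L' : P'.Modules)
    (lam' : ∀ (U' : Y'.Opens) (hU' : IsAffineOpen U'),
      L' ⟶ (Scheme.Modules.pushforward (RelProj.emb p' chart' U' hU')).obj (GrTwist.twist (𝒮'.deg U' hU') n))
    (hL' : RelProj.IsRelTwist 𝒮' p' chart' n L' lam') :
    Nonempty ((Scheme.Modules.pullback g).obj L ≅ L') := by
  refine Groth.Agent.TwistLib.G.nonempty_pullback_iso ψ hP hP' φ hirr ?_ g ?_
    (fun U hU => lam U hU ≫ (Groth.Agent.TwistLib.G.twistChartIso p chart n U hU).hom)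
    (Groth.Agent.TwistLib.G.isRelTilde_of_isRelTwist hL)
    (fun U' hU' => lam' U' hU' ≫ (Groth.Agent.TwistLib.G.twistChartIso p' chart' n U' hU').hom)
    (Groth.Agent.TwistLib.G.isRelTilde_of_isRelTwist hL') ?_
  · intro U hU U' hU' hle D hD D' hD' hle' i i' x
    have e1 : ∀ y, φ D hD D' hD' hle' y =
        (𝒮'.presheaf.map (homOfLE hle').op).hom ((u.app (op D)).hom y) :=
      fun y => DFunLike.congr_fun (hφ D hD D' hD' hle') y
    have e2 : φ U hU U' hU' hle x = (𝒮'.presheaf.map (homOfLE hle).op).hom ((u.app (op U)).hom x) :=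
      DFunLike.congr_fun (hφ U hU U' hU' hle) x
    rw [e1, e2]
    show (𝒮'.presheaf.map (homOfLE hle').op).hom ((u.app (op D)).hom ((𝒮.presheaf.map (homOfLE i).op).hom x)) =
      (𝒮'.presheaf.map (homOfLE i').op).hom ((𝒮'.presheaf.map (homOfLE hle).op).hom ((u.app (op U)).hom x))
    have en : (u.app (op D)).hom ((𝒮.presheaf.map (homOfLE i).op).hom x) =
        (𝒮'.presheaf.map (homOfLE (ψ.preimage_mono i)).op).hom ((u.app (op U)).hom x) :=
      ConcreteCategory.congr_hom (u.naturality (homOfLE i).op) x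
    rw [en]
    refine Eq.trans ?_ (ConcreteCategory.congr_hom (𝒮'.presheaf.map_comp (homOfLE hle).op (homOfLE i').op) _)
    exact (ConcreteCategory.congr_hom
      (𝒮'.presheaf.map_comp (homOfLE (ψ.preimage_mono i)).op (homOfLE hle').op) _).symm
  · intro U hU U' hU' hle
    show _ = ((chart' U' hU').inv ≫ (p' ⁻¹ᵁ U').ι) ≫ g
    rw [Category.assoc, hg U hU U' hU' hle, Iso.inv_hom_id_assoc]
  · intro k
    have e : CommRingCat.ofHom ((φ k.U k.hU k.U' k.hU' k.hle).toRingHom :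
        𝒮.presheaf.obj (op k.U) →+* 𝒮'.presheaf.obj (op k.U')) =
      (u.app (op k.U) : 𝒮.presheaf.obj (op k.U) ⟶ 𝒮'.presheaf.obj (op (ψ ⁻¹ᵁ k.U))) ≫
        𝒮'.presheaf.map (homOfLE k.hle).op := by
      ext1
      exact hφ k.U k.hU k.U' k.hU' k.hle
    rw [e]
    exact hpo k.U k.hU k.U' k.hU' k.hle

end Groth.Agent.S8335
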