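import Groth.Statements.S8346
import Groth.Agent.H8Top.General

set_option autoImplicit false
universe u
open ConstrTop

namespace Groth.Agent.S8346

open TopologicalSpace in
/-- Let X be a topological space admitting a basis of open subsets which are retrocompact in X. Then
every locally constructible subset T of X is retrocompact in X. -/
theorem result {X : Type u} [TopologicalSpace X]
    {B : Set (Set X)} (hB : IsTopologicalBasis B) (hBr : ∀ U ∈ B, IsRetrocompact U) {T : Set X}
    (hT : Topology.IsLocallyConstructible T) : IsRetrocompact T := by
  exact H8Top.isRetrocompact_of_isLocallyConstructible hB hBr hT

end Groth.Agent.S8346
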