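import Groth.Statements.S8348
import Mathlib.Algebra.Homology.ShortComplex.HomologicalComplex
import Mathlib.CategoryTheory.Preadditive.Injective.Basic
import Mathlib.Algebra.Homology.ShortComplex.Abelian
-- import your own Groth.Agent.* helpers here

set_option autoImplicit false
set_option linter.style.haveILetI false
universe v u
open CategoryTheory CategoryTheory.Limits
open HomAlg3

namespace Groth.Agent.S8348

/-- Let C be an abelian category and Q a cochain complex of objects of C in degrees 0, 1, 2, ... such
that every Q^i is injective, every homology object H^i(Q) with i ≥ 1 is zero, and every inclusion of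
the cycles Z^i(Q) into Q^i (i ≥ 0) is a split monomorphism. Then Q is an injective object of the
category of cochain complexes of C indexed by the natural numbers. (The published statement is for
the narrower class of complexes with Z^i(Q) = B^i(Q) for every i ≥ 0, which in degree 0, where there
is no incoming differential, forces Z^0(Q) = 0; this row allows a nonzero Z^0(Q), so that it pairs
with the embedding of an arbitrary complex into such a Q. Such a Q is the direct sum of Z^0(Q)
placed in degree 0 and of the two-term complexes with Z^{i+1}(Q) in degrees i and i+1 and the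
identity as differential, and the published argument carries over with Z^i(Q) in place of B^i(Q) as
the first summand of Q^i.) -/
theorem result {C : Type u} [Category.{v} C] [Abelian C]
    (Q : CochainComplex C ℕ) (hinj : ∀ i : ℕ, Injective (Q.X i)) (hac : ∀ i : ℕ, IsZero (Q.homology (i + 1)))
    (hsplit : ∀ i : ℕ, IsSplitMono (Q.iCycles i)) : Injective Q := by
  classical
  have hr : ∀ i, ∃ r : Q.X i ⟶ Q.cycles i, Q.iCycles i ≫ r = 𝟙 _ := fun i => ⟨(hsplit i).exists_splitMono.some.retraction, (hsplit i).exists_splitMono.some.id⟩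
  choose r hr using hr
  haveI hep : ∀ i, Epi (Q.toCycles i (i + 1)) := fun i => by
    have hS : (ShortComplex.mk (Q.toCycles i (i + 1)) (Q.homologyπ (i + 1)) (Q.toCycles_comp_homologyπ _ _)).Exact :=
      ShortComplex.exact_of_g_is_cokernel _ (Q.homologyIsCokernel i (i + 1) (by simp))
    exact hS.epi_f ((hac i).eq_of_tgt _ _)
  have hs : ∀ i, ∃ s : Q.cycles (i + 1) ⟶ Q.X i, s ≫ Q.toCycles i (i + 1) = 𝟙 _ ∧
      𝟙 (Q.X i) = r i ≫ Q.iCycles i + Q.toCycles i (i + 1) ≫ s := fun i => by
    let S := ShortComplex.mk (Q.iCycles i) (Q.toCycles i (i + 1)) (by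
      rw [← cancel_mono (Q.iCycles (i + 1))]
      simp)
    have hS : S.Exact := by
      apply ShortComplex.exact_of_f_is_kernel
      refine Limits.KernelFork.IsLimit.ofι' _ _ fun {W} k hk => ?_
      refine ⟨Q.liftCycles k (i + 1) (by simp) ?_, Q.liftCycles_i _ _ _ _⟩
      rw [← Q.toCycles_i i (i + 1), reassoc_of% hk, Limits.zero_comp]
    let sp := ShortComplex.Splitting.ofExactOfRetraction S hS (r i) (hr i) (hep i)
    exact ⟨sp.s, sp.s_g, sp.id.symm⟩
  choose s hs₁ hs₂ using hs
  haveI hinjZ : ∀ i, Injective (Q.cycles i) := fun i =>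
    haveI := hinj i
    Injective.mk fun g f _ => ⟨Injective.factorThru (g ≫ Q.iCycles i) f ≫ r i, by
      rw [Injective.comp_factorThru_assoc, Category.assoc, hr, Category.comp_id]⟩
  refine ⟨fun {A B} g f hf => ?_⟩
  haveI := hf
  have a : ∀ i, ∃ b : B.X i ⟶ Q.cycles i, f.f i ≫ b = g.f i ≫ r i := fun i =>
    ⟨Injective.factorThru (g.f i ≫ r i) (f.f i), Injective.comp_factorThru _ _⟩
  choose b hb using a
  let h : B ⟶ Q :=
    { f := fun i => b i ≫ Q.iCycles i + B.d i (i + 1) ≫ b (i + 1) ≫ s i
      comm' := fun i j hij => by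
        obtain rfl : i + 1 = j := hij
        simp only [Preadditive.add_comp, Preadditive.comp_add, Category.assoc, HomologicalComplex.iCycles_d, Limits.comp_zero, zero_add, HomologicalComplex.d_comp_d_assoc, Limits.zero_comp, add_zero]
        conv_lhs => rw [← Q.toCycles_i i (i + 1), reassoc_of% (hs₁ i)] }
  refine ⟨h, ?_⟩
  ext i
  have e : g.f i ≫ Q.toCycles i (i + 1) = A.d i (i + 1) ≫ g.f (i + 1) ≫ r (i + 1) := by
    rw [← g.comm_assoc, ← Q.toCycles_i i (i + 1), Category.assoc, hr, Category.comp_id]
  have e2 := congrArg (g.f i ≫ ·) (hs₂ i)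
  simp only [Category.comp_id, Preadditive.comp_add] at e2
  rw [e2, reassoc_of% e]
  show f.f i ≫ (b i ≫ Q.iCycles i + B.d i (i + 1) ≫ b (i + 1) ≫ s i) = _
  rw [Preadditive.comp_add, reassoc_of% (hb i), f.comm_assoc, reassoc_of% (hb (i + 1))]

end Groth.Agent.S8348

#print axioms Groth.Agent.S8348.result
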