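import Groth.Statements.S8349
import Mathlib.Algebra.Homology.ShortComplex.HomologicalComplex
import Mathlib.CategoryTheory.Preadditive.Injective.Basic
import Mathlib.Algebra.Homology.ShortComplex.Abelian
import Mathlib.Algebra.Homology.ShortComplex.ExactFunctor
import Mathlib.CategoryTheory.Abelian.Refinements
-- import your own Groth.Agent.* helpers here

set_option autoImplicit false
set_option backward.isDefEq.respectTransparency false
set_option backward.isDefEq.respectTransparency.types false
set_option linter.style.haveILetI false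
universe v u
open CategoryTheory CategoryTheory.Limits
open HomAlg3

namespace Groth.Agent.S8349

/-- Let C be an abelian category in which every object embeds in an injective object, and let A be a
cochain complex of objects of C in degrees 0, 1, 2, .... Then there are a cochain complex Q, with
every Q^i injective, H^i(Q) = 0 for every i ≥ 1 and every cycle inclusion Z^i(Q) ⟶ Q^i (i ≥ 0) a
split monomorphism, and a monomorphism of complexes A ⟶ Q. (The published statement asks Z^i(Q) =
B^i(Q) for every i ≥ 0; in degree 0, where there is no incoming differential, this makes Z^0(Q) = 0,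
and then no complex with nonzero degree-0 cycles, for instance a nonzero object placed in degree 0,
embeds in such a Q, because the degree-0 component of a chain map into Q factors through Z^0(Q).
This row asks vanishing homology in positive degrees only; the published construction, which embeds
each A^i in an injective I^i and takes Q^i = I^i ⊕ I^{i+1}, proves that version once an injective
I^0 containing A^0 is used in degree 0 as well.) -/
theorem result {C : Type u} [Category.{v} C] [Abelian C]
    [EnoughInjectives C] (A : CochainComplex C ℕ) :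
    ∃ (Q : CochainComplex C ℕ) (f : A ⟶ Q), Mono f ∧ (∀ i : ℕ, Injective (Q.X i)) ∧
      (∀ i : ℕ, IsZero (Q.homology (i + 1))) ∧ ∀ i : ℕ, IsSplitMono (Q.iCycles i) := by
  let I : ℕ → C := fun i => Injective.under (A.X i)
  let δ : ∀ i, I i ⊞ I (i + 1) ⟶ I (i + 1) ⊞ I (i + 1 + 1) := fun i => Limits.biprod.snd ≫ Limits.biprod.inl
  have hδ : ∀ i, δ i ≫ δ (i + 1) = 0 := fun i => by simp [δ]
  let Q : CochainComplex C ℕ := CochainComplex.of (fun i => I i ⊞ I (i + 1)) δ hδ
  have hd : ∀ i, Q.d i (i + 1) = δ i := fun i => CochainComplex.of_d (fun i => I i ⊞ I (i + 1)) δ i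
  let f : A ⟶ Q :=
    { f := fun i => Limits.biprod.lift (Injective.ι (A.X i)) (A.d i (i + 1) ≫ Injective.ι (A.X (i + 1)))
      comm' := fun i j hij => by
        obtain rfl : i + 1 = j := hij
        rw [hd]
        show _ = A.d i (i + 1) ≫ Limits.biprod.lift _ _
        apply Limits.biprod.hom_ext <;> simp [δ] }
  have hsnd : ∀ (i : ℕ) {W : C} (k : W ⟶ I i ⊞ I (i + 1)), k ≫ δ i = 0 → k ≫ Limits.biprod.snd = 0 := fun i W k hk => by
    have e := congrArg (· ≫ Limits.biprod.fst) hk
    simpa [δ] using e
  refine ⟨Q, f, ?_, fun i => ?_, fun i => ?_, fun i => ?_⟩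
  · have : ∀ i, Mono (f.f i) := fun i => by
      haveI : Mono (Limits.biprod.lift (Injective.ι (A.X i)) (A.d i (i + 1) ≫ Injective.ι (A.X (i + 1))) ≫ Limits.biprod.fst) := by
        rw [Limits.biprod.lift_fst]
        infer_instance
      exact mono_of_mono _ Limits.biprod.fst
    exact HomologicalComplex.mono_of_mono_f _ this
  · exact (inferInstance : Injective (Injective.under (A.X i) ⊞ Injective.under (A.X (i + 1))))
  · refine (HomologicalComplex.exactAt_iff_isZero_homology Q (i + 1)).1 ?_
    rw [Q.exactAt_iff' i (i + 1) (i + 1 + 1) (by simp) (by simp)]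
    rw [ShortComplex.exact_iff_exact_up_to_refinements]
    intro W x hx
    have hx' := hsnd (i + 1) x (by rw [← hd (i + 1)]; exact hx)
    refine ⟨W, 𝟙 W, inferInstance, x ≫ Limits.biprod.fst ≫ Limits.biprod.inr, ?_⟩
    show _ = _ ≫ Q.d i (i + 1)
    rw [hd, Category.id_comp]
    apply Limits.biprod.hom_ext
    · show x ≫ Limits.biprod.fst = ((x ≫ Limits.biprod.fst ≫ Limits.biprod.inr) ≫ Limits.biprod.snd ≫ Limits.biprod.inl) ≫ Limits.biprod.fst
      simp
    · show x ≫ Limits.biprod.snd = ((x ≫ Limits.biprod.fst ≫ Limits.biprod.inr) ≫ Limits.biprod.snd ≫ Limits.biprod.inl) ≫ Limits.biprod.snd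
      simp [hx']
  · have hk := hsnd i (Q.iCycles i) (by rw [← hd]; exact Q.iCycles_d _ _)
    refine IsSplitMono.mk' ⟨Limits.biprod.fst ≫ Q.liftCycles (Limits.biprod.inl : I i ⟶ I i ⊞ I (i + 1)) (i + 1) (by simp) (by rw [hd]; simp [δ]), ?_⟩
    rw [← cancel_mono (Q.iCycles i)]
    simp only [Category.assoc, Category.id_comp, HomologicalComplex.liftCycles_i]
    apply Limits.biprod.hom_ext
    · simp
    · simpa using hk.symm

end Groth.Agent.S8349

#print axioms Groth.Agent.S8349.result
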