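import Groth.Statements.S8351
import Groth.Agent.CohDer1.HyperPush.Sections
import Mathlib.Algebra.Homology.DerivedCategory.RightDerivedFunctorPlus
-- import your own Groth.Agent.* helpers here

set_option autoImplicit false
universe u
open CategoryTheory CategoryTheory.Limits TopologicalSpace
open CohCx

namespace Groth.Agent.S8351

/-- For abelian sheaves on topological spaces and a complex bounded below. Let f : X ⟶ Y be a continuous
map and K a bounded below complex of abelian sheaves on X. For every p, the p-th cohomology sheaf of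
the derived direct image R f_*(K) (bounded below right derived functor of f_*, computed with
injective resolutions) is isomorphic to the sheaf associated with the presheaf U ↦ H^p(f⁻¹(U), K) on
Y, where H^p(V, K) denotes hypercohomology (morphisms from the free abelian sheaf on V to K[p] in
the derived category). (The published statement is for modules over arbitrary ringed spaces,
complexes unbounded via Cartan-Eilenberg resolutions, and a canonical isomorphism; here only the
existence of an isomorphism is asserted, and the derived categories are assumed to exist with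
morphism types in the universe of X and Y.) -/
theorem result {X Y : TopCat.{u}} (f : X ⟶ Y)
    [HasDerivedCategory.{u} (CohTop.Ab X)] [HasDerivedCategory.{u} (CohTop.Ab Y)]
    (K : CochainComplex.Plus (CohTop.Ab X)) (p : ℤ) :
    Nonempty ((DerivedCategory.Plus.homologyFunctor (CohTop.Ab Y) p).obj
        ((CohTop.push f).rightDerivedFunctorPlus.obj
          (DerivedCategory.Plus.Qh.obj ((HomotopyCategory.Plus.quotient (CohTop.Ab X)).obj K))) ≅
      (presheafToSheaf (Opens.grothendieckTopology Y) AddCommGrpCat.{u}).obj
        ((Opens.map f).op ⋙ CohCx.HDUPresheaf (DerivedCategory.Q.obj K.obj) p)) := by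
  obtain ⟨n, hn⟩ := (DerivedCategory.Plus.Qh.obj ((HomotopyCategory.Plus.quotient (CohTop.Ab X)).obj K)).property
  haveI := (DerivedCategory.Plus.isGE_ι_obj_iff
    (DerivedCategory.Plus.Qh.obj ((HomotopyCategory.Plus.quotient (CohTop.Ab X)).obj K)) n).1 hn
  obtain ⟨L, _, ⟨e⟩⟩ := DerivedCategory.Plus.exists_injective_nonempty_iso
    (DerivedCategory.Plus.Qh.obj ((HomotopyCategory.Plus.quotient (CohTop.Ab X)).obj K)) n
  let I : CochainComplex (CohTop.Ab X) ℤ :=
    ((InjectiveObject.ι (CohTop.Ab X)).mapHomologicalComplex (ComplexShape.up ℤ)).obj L.obj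
  haveI : I.IsKInjective := inferInstanceAs (CochainComplex.IsKInjective
    (((InjectiveObject.ι (CohTop.Ab X)).mapHomologicalComplex (ComplexShape.up ℤ)).obj L.obj))
  let F : CohTop.Ab X ⥤ CohTop.Ab Y := CohTop.push f
  let FI : CochainComplex (CohTop.Ab Y) ℤ := (F.mapHomologicalComplex (ComplexShape.up ℤ)).obj I
  let e0 : DerivedCategory.Q.obj K.obj ≅ DerivedCategory.Q.obj I :=
    ((DerivedCategory.quotientCompQhIso _).symm.app K.obj) ≪≫ DerivedCategory.Plus.ι.mapIso e.symm ≪≫
      (DerivedCategory.quotientCompQhIso _).app I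
  let K₀ := (HomotopyCategory.Plus.quotient (CohTop.Ab X)).obj
    ((InjectiveObject.ι (CohTop.Ab X)).mapCochainComplexPlus.obj L)
  haveI : IsIso (F.rightDerivedFunctorPlusUnit.app K₀) := inferInstance
  let e1 := (DerivedCategory.Plus.homologyFunctor (CohTop.Ab Y) p).mapIso
    (F.rightDerivedFunctorPlus.mapIso e.symm ≪≫ (asIso (F.rightDerivedFunctorPlusUnit.app K₀)).symm)
  let e2 : (DerivedCategory.homologyFunctor (CohTop.Ab Y) p).obj
      (DerivedCategory.Qh.obj ((F.mapHomotopyCategory (ComplexShape.up ℤ)).obj
        ((HomotopyCategory.quotient _ _).obj I))) ≅ FI.homology p :=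
    (DerivedCategory.homologyFunctor _ p).mapIso
      (DerivedCategory.Qh.mapIso ((F.mapHomotopyCategoryFactors _).app I) ≪≫
        (DerivedCategory.quotientCompQhIso _).app FI) ≪≫
      (DerivedCategory.homologyFunctorFactors (CohTop.Ab Y) p).app FI
  let σ := presheafToSheaf (Opens.grothendieckTopology Y) AddCommGrpCat.{u}
  let W := (Functor.whiskeringLeft _ _ AddCommGrpCat.{u}).obj (Opens.map f).op
  haveI : W.Additive := ⟨fun {_ _ _ _} => rfl⟩
  haveI : σ.Additive := inferInstance
  let eQ : CohCx.HDUPresheaf (DerivedCategory.Q.obj K.obj) p ≅ CohCx.HDUPresheaf (DerivedCategory.Q.obj I) p :=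
    Functor.isoWhiskerLeft _ (preadditiveYoneda.mapIso ((shiftFunctor _ p).mapIso e0))
  let e3 : σ.obj (W.obj (CohCx.HDUPresheaf (DerivedCategory.Q.obj K.obj) p)) ≅
      σ.obj ((Groth.Agent.CohDer1.HyperPush.preCx FI).homology p) :=
    σ.mapIso (W.mapIso (eQ ≪≫ (Groth.Agent.CohDer1.HyperPush.homologyIsoHDUPresheaf I p).symm) ≪≫
      (((Groth.Agent.CohDer1.HyperPush.preCx I).sc p).mapHomologyIso W).symm)
  let G := Groth.Agent.CohDer1.HyperPush.preCx FI
  let e4 : σ.obj (G.homology p) ≅ FI.homology p :=
    ((G.sc p).mapHomologyIso σ).symm ≪≫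
      (HomologicalComplex.homologyFunctor _ (ComplexShape.up ℤ) p).mapIso
        (HomologicalComplex.Hom.isoOfComponents
          (C₁ := (σ.mapHomologicalComplex _).obj G) (C₂ := FI)
          (fun i => (asIso (sheafificationAdjunction (Opens.grothendieckTopology Y) AddCommGrpCat.{u}).counit).app (FI.X i))
          (fun i j _ => ((sheafificationAdjunction (Opens.grothendieckTopology Y) AddCommGrpCat.{u}).counit.naturality
            (FI.d i j)).symm))
  exact ⟨e1 ≪≫ e2 ≪≫ e4.symm ≪≫ e3.symm⟩
end Groth.Agent.S8351
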