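import Groth.Statements.S8352
import Groth.Agent.DCat.MLSeq

set_option autoImplicit false
set_option backward.isDefEq.respectTransparency false
set_option backward.defeqAttrib.useBackward true
universe u
open CategoryTheory CategoryTheory.Limits Opposite
open HomAlg3

namespace Groth.Agent.S8352

open CategoryTheory CategoryTheory.Limits Opposite Groth.Agent.DCat.MLSeq in
lemma key (F : ℕᵒᵖ ⥤ AddCommGrpCat.{u})
    (hF : (F ⋙ forget AddCommGrpCat).IsMittagLeffler) (p : ℕ) (x : F.obj (op p))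
    (hx : ∀ k, ∀ h : p ≤ k, ∃ y, trg F h y = x) :
    x ∈ (limit.π F (op p)).hom.range := by
  obtain ⟨σ, hσ⟩ := exists_section_through (F ⋙ forget AddCommGrpCat) hF nat_cofinal
    ((mem_eventualRange_iff _ x).2 hx)
  obtain ⟨y, hy⟩ := exists_of_section (limit.isLimit F) σ
  exact ⟨y, (hy (op p)).trans hσ⟩

open CategoryTheory CategoryTheory.Limits Opposite in
lemma le_range (F : ℕᵒᵖ ⥤ AddCommGrpCat.{u}) {p k : ℕ} (h : p ≤ k) :
    (limit.π F (op p)).hom.range ≤ (F.map (homOfLE h).op).hom.range := by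
  rintro _ ⟨y, rfl⟩
  exact ⟨(limit.π F (op k)).hom y, by
    show (limit.π F (op k) ≫ F.map (homOfLE h).op).hom y = _
    rw [limit.w]⟩

/-- Category of abelian groups, system indexed by the natural numbers: Let (A_k) be an inverse system of
abelian groups satisfying the Mittag-Leffler condition, A = lim A_k with projections π_p : A ⟶ A_p.
Filter A and each A_k by the kernels of the maps to A_{p-1} (with A_{-1} = 0); the graded piece
gr^p(A) is identified with Im(π_p) ∩ Ker(A_p ⟶ A_{p-1}) and gr^p(A_k), k ≥ p, with Im(A_k ⟶ A_p) ∩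
Ker(A_p ⟶ A_{p-1}), a decreasing family of subgroups of A_p. The statement gr^p(A) ≅ lim_k gr^p(A_k)
then reads: Im(π_0) = ⋂_k Im(A_k ⟶ A_0), and for every p, Im(π_{p+1}) ∩ Ker(A_{p+1} ⟶ A_p) = ⋂_{k ≥
p+1} (Im(A_k ⟶ A_{p+1}) ∩ Ker(A_{p+1} ⟶ A_p)). -/
theorem result (F : ℕᵒᵖ ⥤ AddCommGrpCat.{u})
    (hF : (F ⋙ forget AddCommGrpCat).IsMittagLeffler) :
    (limit.π F (op 0)).hom.range = ⨅ k : ℕ, (F.map (homOfLE (Nat.zero_le k)).op).hom.range ∧
      ∀ p : ℕ, (limit.π F (op (p + 1))).hom.range ⊓ (F.map (homOfLE (Nat.le_succ p)).op).hom.ker =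
        ⨅ (k : ℕ) (hk : p + 1 ≤ k),
          (F.map (homOfLE hk).op).hom.range ⊓ (F.map (homOfLE (Nat.le_succ p)).op).hom.ker := by
  refine ⟨le_antisymm (le_iInf fun k => le_range F _) (fun x hx => ?_), fun p => le_antisymm ?_ ?_⟩
  · simp only [AddSubgroup.mem_iInf] at hx
    exact key F hF 0 x (fun k h => hx k)
  · exact le_iInf₂ fun k hk => inf_le_inf_right _ (le_range F hk)
  · intro x hx
    simp only [AddSubgroup.mem_iInf, AddSubgroup.mem_inf] at hx
    exact ⟨key F hF (p + 1) x (fun k h => (hx k h).1), (hx (p + 1) le_rfl).2⟩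


end Groth.Agent.S8352
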