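import Groth.Statements.S8353
import Mathlib
-- import your own Groth.Agent.* helpers here

set_option autoImplicit false
universe u
open HomAlg3

namespace Groth.Agent.S8353

/-- Let S be a Noetherian ring which is separated and complete for the adic topology of an ideal J, and
let M be an S-module with a decreasing filtration (F^p M)_{p ∈ ℤ} by submodules such that F^p M = M
for some p, J·F^p M ⊆ F^{p+1} M for all p, and ⋂_p F^p M = 0. Then the following are equivalent: (a)
M is a finitely generated S-module and J·F^p M = F^{p+1} M for all large p; (c) every F^p M /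
F^{p+1} M is a finitely generated S-module and, for all large p, the map J ⊗ (F^p M/F^{p+1} M) ⟶
F^{p+1} M/F^{p+2} M is surjective, that is F^{p+1} M = J·F^p M + F^{p+2} M. (The published statement
also lists a third equivalent condition, finite generation of the associated graded module over the
associated graded ring; this row states the equivalence of the other two.) -/
theorem result {S : Type u} [CommRing S] [IsNoetherianRing S]
    (J : Ideal S) [IsAdicComplete J S] {M : Type u} [AddCommGroup M] [Module S M]
    (F : ℤ → Submodule S M) (hF : Antitone F) (hcod : ∃ p₀ : ℤ, F p₀ = ⊤)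
    (hJ : ∀ p : ℤ, J • F p ≤ F (p + 1)) (hsep : ⨅ p : ℤ, F p = ⊥) :
    (Module.Finite S M ∧ ∃ p₁ : ℤ, ∀ p : ℤ, p₁ ≤ p → J • F p = F (p + 1)) ↔
      ((∀ p : ℤ, (Submodule.map (F (p + 1)).mkQ (F p)).FG) ∧
        ∃ p₁ : ℤ, ∀ p : ℤ, p₁ ≤ p → F (p + 1) = J • F p ⊔ F (p + 2)) := by
  classical
  constructor
  · rintro ⟨hfin, p₁, hp⟩
    haveI := hfin
    refine ⟨fun p => (IsNoetherian.noetherian (F p)).map _, p₁, fun p h => ?_⟩
    rw [hp p h, sup_eq_left.mpr (hF (by omega))]
  · rintro ⟨hgr, p₁, hp⟩
    obtain ⟨p₀, hp₀⟩ := hcod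
    set P := max p₁ p₀ with hP
    obtain ⟨G, hG⟩ := hgr P
    have hlift : ∀ g : G, ∃ x ∈ F P, (F (P + 1)).mkQ x = g.1 := fun g => by
      have : g.1 ∈ Submodule.map (F (P + 1)).mkQ (F P) := by
        rw [← hG]; exact Submodule.subset_span g.2
      exact Submodule.mem_map.mp this
    choose x hx hxg using hlift
    let Λ : (G → S) →ₗ[S] M :=
      ∑ g : G, ((LinearMap.proj g : (G → S) →ₗ[S] S).smulRight (x g))
    have hΛ : ∀ c : G → S, Λ c = ∑ g, c g • x g := fun c => by simp [Λ]
    set N₀ : Submodule S M := LinearMap.range Λ with hN₀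
    have hN₀F : N₀ ≤ F P := by
      rintro _ ⟨c, rfl⟩; rw [hΛ]; exact Submodule.sum_mem _ fun g _ => Submodule.smul_mem _ _ (hx g)
    have hxN : ∀ g, x g ∈ N₀ := fun g => ⟨Pi.single g 1, by
      rw [hΛ, Finset.sum_eq_single g] <;> simp +contextual⟩
    -- powers of `J` shift the filtration
    have hpow : ∀ (j : ℕ) (q : ℤ), J ^ j • F q ≤ F (q + j) := by
      intro j
      induction j with
      | zero => intro q; simp
      | succ j ih =>
        intro q
        rw [pow_succ, Submodule.mul_smul]
        refine le_trans (smul_mono_right _ (hJ q)) (le_trans (ih (q + 1)) (le_of_eq ?_))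
        congr 1; push_cast; ring
    -- one step of the approximation
    have hstep : ∀ j : ℕ, F (P + j) ≤ J ^ j • N₀ ⊔ F (P + j + 1) := by
      intro j
      induction j with
      | zero =>
        intro y hy
        rw [Nat.cast_zero, add_zero] at hy
        rw [pow_zero, Ideal.one_eq_top, Submodule.top_smul, Nat.cast_zero, add_zero]
        have : (F (P + 1)).mkQ y ∈ Submodule.map (F (P + 1)).mkQ N₀ := by
          have h1 : Submodule.span S (G : Set (M ⧸ F (P + 1))) ≤ Submodule.map (F (P + 1)).mkQ N₀ :=
            Submodule.span_le.mpr fun g hg => ⟨x ⟨g, hg⟩, hxN _, hxg ⟨g, hg⟩⟩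
          exact h1 (hG ▸ Submodule.mem_map_of_mem hy)
        obtain ⟨z, hz, hzy⟩ := this
        exact Submodule.mem_sup.mpr ⟨z, hz, y - z, (Submodule.Quotient.eq _).mp hzy.symm, by abel⟩
      | succ j ih =>
        push_cast
        rw [← add_assoc, hp (P + j) (by omega)]
        refine sup_le ?_ le_sup_right |>.trans' (le_of_eq (by rw [show P + (j : ℤ) + 2 = P + j + 1 + 1 by ring]))
        refine le_trans (smul_mono_right _ ih) ?_
        rw [Submodule.smul_sup, ← Submodule.mul_smul, ← pow_succ']
        exact sup_le_sup le_rfl (hJ _)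
    have hmemN : ∀ (j : ℕ) (z : M), z ∈ J ^ j • N₀ → ∃ c : G → S, (∀ g, c g ∈ J ^ j) ∧ Λ c = z := by
      intro j z hz
      refine Submodule.smul_induction_on hz ?_ ?_
      · rintro r hr _ ⟨c, rfl⟩
        exact ⟨r • c, fun g => Ideal.mul_mem_right _ _ hr, map_smul Λ r c⟩
      · rintro a b ⟨c, hc, rfl⟩ ⟨d, hd, rfl⟩
        exact ⟨c + d, fun g => Submodule.add_mem _ (hc g) (hd g), map_add Λ c d⟩
    have hΛJ : ∀ (j : ℕ) (c : G → S), (∀ g, c g ∈ J ^ j) → Λ c ∈ J ^ j • N₀ := fun j c hc => by
      rw [hΛ]; exact Submodule.sum_mem _ fun g _ => Submodule.smul_mem_smul (hc g) (hxN g)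
    -- convergence
    have heq : ∀ i : ℕ, F (P + i) = J ^ i • N₀ := by
      intro i
      refine le_antisymm (fun y hy => ?_) (le_trans (smul_mono_right _ hN₀F) (hpow i P))
      have hnext : ∀ (j : ℕ) (z : M), z ∈ F (P + i + j) → ∃ c : G → S,
          (∀ g, c g ∈ J ^ (i + j)) ∧ z - Λ c ∈ F (P + i + j + 1) := by
        intro j z hz
        have hz' : z ∈ F (P + ((i + j : ℕ) : ℤ)) := by push_cast; rw [← add_assoc]; exact hz
        obtain ⟨a, ha, b, hb, rfl⟩ := Submodule.mem_sup.mp (hstep (i + j) hz')
        obtain ⟨c, hc, rfl⟩ := hmemN _ _ ha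
        refine ⟨c, hc, ?_⟩
        rw [add_sub_cancel_left]
        convert hb using 2
        push_cast; ring
      choose nx hnx1 hnx2 using hnext
      let sq : (j : ℕ) → {c : G → S // y - Λ c ∈ F (P + i + j)} := fun j => Nat.rec
        ⟨0, by simpa using hy⟩
        (fun j c => ⟨c.1 + nx j (y - Λ c.1) c.2, by
          rw [map_add, ← sub_sub]
          convert hnx2 j (y - Λ c.1) c.2 using 2
          push_cast; ring⟩) j
      have hdiff : ∀ m n, m ≤ n → ∀ g, (sq n).1 g - (sq m).1 g ∈ J ^ (i + m) := by
        intro m n hmn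
        induction n, hmn using Nat.le_induction with
        | base => intro g; simp
        | succ n hmn ih =>
          intro g
          have e : (sq (n + 1)).1 g = (sq n).1 g + nx n (y - Λ (sq n).1) (sq n).2 g := rfl
          rw [e, add_sub_right_comm]
          exact Submodule.add_mem _ (ih g) (Ideal.pow_le_pow_right (by omega) (hnx1 _ _ _ g))
      have hL : ∀ g, ∃ l : S, ∀ n, (sq n).1 g - l ∈ J ^ n := by
        intro g
        obtain ⟨l, hl⟩ := IsPrecomplete.prec (inferInstance : IsPrecomplete J S) (f := fun n => (sq n).1 g)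
          (fun {m n} hmn => SModEq.sub_mem.mpr (by
            rw [smul_eq_mul, Ideal.mul_top]
            have := Submodule.neg_mem _ (hdiff m n hmn g)
            rw [neg_sub] at this
            exact Ideal.pow_le_pow_right (by omega) this))
        refine ⟨l, fun n => ?_⟩
        have := SModEq.sub_mem.mp (hl n)
        rwa [smul_eq_mul, Ideal.mul_top] at this
      choose l hl using hL
      have hlJ : ∀ g, l g ∈ J ^ i := by
        intro g
        have h1 : (sq i).1 g ∈ J ^ i := by
          have := hdiff 0 i (Nat.zero_le i) g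
          have e : (sq 0).1 g = 0 := rfl
          rwa [e, sub_zero, add_zero] at this
        have := Submodule.sub_mem _ h1 (hl g i)
        rwa [sub_sub_cancel] at this
      have hy0 : y - Λ l = 0 := by
        rw [← Submodule.mem_bot S, ← hsep, Submodule.mem_iInf]
        intro q
        refine hF (show q ≤ P + ((q - P).toNat : ℤ) by omega) ?_
        set j := (q - P).toNat
        have h1 : y - Λ (sq j).1 ∈ F (P + j) := hF (by omega) (sq j).2
        have h2 : Λ ((sq j).1 - l) ∈ F (P + j) :=
          hpow j P (smul_mono_right _ hN₀F (hΛJ j _ fun g => hl g j))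
        have := Submodule.add_mem _ h1 h2
        rwa [map_sub, sub_add_sub_cancel] at this
      rw [sub_eq_zero.mp hy0]
      exact hΛJ i l hlJ
    have hN₀fg : N₀.FG := by
      rw [hN₀, ← Submodule.map_top]; exact (IsNoetherian.noetherian _).map _
    refine ⟨?_, P, fun p hPp => ?_⟩
    · have hfgP : ∀ q : ℕ, (F (P - q)).FG := by
        intro q
        induction q with
        | zero =>
          have := heq 0
          simp only [Nat.cast_zero, add_zero, pow_zero, Ideal.one_eq_top, Submodule.top_smul] at this
          simp only [Nat.cast_zero, sub_zero]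
          rw [this]; exact hN₀fg
        | succ q ih =>
          have h1 := hgr (P - (q + 1))
          rw [show P - ((q : ℤ) + 1) + 1 = P - q by ring] at h1
          push_cast
          refine Submodule.fg_of_fg_map_of_fg_inf_ker (F (P - q)).mkQ h1 ?_
          rw [Submodule.ker_mkQ, inf_eq_right.mpr (hF (by omega))]
          exact ih
      have := hfgP (P - p₀).toNat
      rw [Int.toNat_of_nonneg (by omega), sub_sub_cancel, hp₀] at this
      exact ⟨this⟩
    · obtain ⟨i, rfl⟩ : ∃ i : ℕ, p = P + i := ⟨(p - P).toNat, by omega⟩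
      have := heq (i + 1)
      push_cast at this
      rw [add_assoc, this, heq i, ← Submodule.mul_smul, ← pow_succ']

end Groth.Agent.S8353
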