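import Groth.Statements.S8357
import Groth.Agent.LieSLib.Basic

set_option autoImplicit false
universe u
open CategoryTheory MonObj AlgebraicGeometry
open LieS

namespace Groth.Agent.S8357

/-- For a group scheme G over a scheme S and an affine S-scheme T = Spec B, the map induced on
Lie(G/S)(T) by the n-th power map of G is multiplication by n; that is, for v in Lie(G/S)(T) and an
integer n, the n-th power of v in the group law inherited from G is the rescaling of v by the image
of n in B. -/
theorem result (S : Scheme.{u}) (G : Over S) [GrpObj G] (B : Type u) [CommRing B]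
    (f : Spec (CommRingCat.of B) ⟶ S) (v : LieS.Lie G B f) (n : ℤ) :
    v ^ n = ((n : B) • v : LieS.Lie G B f) := by
  have hv : LieS.zeroSec B f ≫ v.1 = 1 := v.2
  let φ : Multiplicative B →* LieS.Lie G B f :=
    { toFun := fun b => b.toAdd • v
      map_one' := Subtype.ext (LieSLib.scale_zero_comp f G hv)
      map_mul' := fun b c => Subtype.ext (LieSLib.scale_add f G hv b.toAdd c.toAdd) }
  have h1 : φ (Multiplicative.ofAdd 1) = v := Subtype.ext (by
    change LieS.scale B f 1 ≫ v.1 = v.1
    rw [LieSLib.scale_one, Category.id_comp])
  calc v ^ n = φ (Multiplicative.ofAdd 1) ^ n := by rw [h1]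
    _ = φ (Multiplicative.ofAdd 1 ^ n) := (map_zpow φ _ n).symm
    _ = φ (Multiplicative.ofAdd (n : B)) := by rw [← ofAdd_zsmul, zsmul_one]
    _ = (n : B) • v := rfl

end Groth.Agent.S8357
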