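import Groth.Statements.S8358
import Groth.Agent.LieSLib.Basic
import Mathlib.RingTheory.HopfAlgebra.MonoidAlgebra

set_option autoImplicit false
universe u
open CategoryTheory MonObj AlgebraicGeometry
open LieS

namespace Groth.Agent.S8358

section
variable {R A B : Type u} [CommRing R] [CommRing A] [HopfAlgebra R A] [CommRing B] [Algebra R B]

noncomputable abbrev GA (R A : Type u) [CommRing R] [CommRing A] [HopfAlgebra R A] : Over (Spec (CommRingCat.of R)) :=
  (Spec (CommRingCat.of A)).asOver (Spec (CommRingCat.of R))

noncomputable def pa (v : LieS.dpt B (Spec.map (CommRingCat.ofHom (algebraMap R B))) ⟶ GA R A) : A →ₐ[R] DualNumber B :=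
  (Spec.mapMulEquiv.symm ((LieS.dptIso B).inv ≫ v)).ofConv

theorem pa_spec (v : LieS.dpt B (Spec.map (CommRingCat.ofHom (algebraMap R B))) ⟶ GA R A) :
    v = (LieS.dptIso B).hom ≫ Spec.mapMulEquiv (WithConv.toConv (pa v)) := by
  simp [pa]

theorem pa_left (v : LieS.dpt B (Spec.map (CommRingCat.ofHom (algebraMap R B))) ⟶ GA R A) :
    v.left = Spec.map (CommRingCat.ofHom (pa v).toRingHom) := by
  conv_lhs => rw [pa_spec v]
  rw [Over.comp_left]
  exact Category.id_comp _

theorem pa_mul (v w : LieS.dpt B (Spec.map (CommRingCat.ofHom (algebraMap R B))) ⟶ GA R A) :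
    WithConv.toConv (pa (v * w)) = WithConv.toConv (pa v) * WithConv.toConv (pa w) := by
  simp [pa, MonObj.comp_mul]

theorem pa_unit_iff (v : LieS.dpt B (Spec.map (CommRingCat.ofHom (algebraMap R B))) ⟶ GA R A) :
    LieS.zeroSec B (Spec.map (CommRingCat.ofHom (algebraMap R B))) ≫ v = 1 ↔
      ∀ x, (pa v x).fst = algebraMap R B (Coalgebra.counit x) := by
  have h1 : (1 : LieS.pt B (Spec.map (CommRingCat.ofHom (algebraMap R B))) ⟶ GA R A).left =
      Spec.map (CommRingCat.ofHom ((1 : WithConv (A →ₐ[R] B)).ofConv).toRingHom) :=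
    (congrArg CommaMorphism.left (map_one (Spec.mapMulEquiv (R := R) (S := A) (T := B)))).symm
  have h2 : (LieS.zeroSec B (Spec.map (CommRingCat.ofHom (algebraMap R B))) ≫ v).left =
      Spec.map (CommRingCat.ofHom ((TrivSqZeroExt.fstHom B B B).toRingHom.comp (pa v).toRingHom)) := by
    rw [Over.comp_left, pa_left]
    exact LieS.specMap_comp _ _
  constructor
  · intro h x
    have e := Spec.map_injective ((h2.symm.trans (congrArg CommaMorphism.left h)).trans h1)
    have := congrArg (fun k => k.hom x) e
    simpa using this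
  · intro h
    refine Over.OverMorphism.ext (h2.trans (Eq.trans ?_ h1.symm))
    congr 2
    exact RingHom.ext fun x => by simpa using h x

theorem pa_scale (b : B) (v : LieS.dpt B (Spec.map (CommRingCat.ofHom (algebraMap R B))) ⟶ GA R A) (x : A) :
    pa (LieS.scale B _ b ≫ v) x = LieS.scaleHom b (pa v x) := by
  have h : Spec.map (CommRingCat.ofHom (pa (LieS.scale B _ b ≫ v)).toRingHom) =
      Spec.map (CommRingCat.ofHom ((LieS.scaleHom b).comp (pa v).toRingHom)) := by
    rw [← pa_left, Over.comp_left, pa_left]
    exact LieS.specMap_comp _ _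
  exact congrArg (fun k => k.hom x) (Spec.map_injective h)
end

/-- First isomorphism: over an affine base: for a commutative ring R, a commutative group M, the
diagonalisable group D(M) = Spec R[M] over Spec R and a commutative R-algebra B, the group
Lie(D(M))(Spec B) is identified with the additive group Hom(M, B) of group homomorphisms: there is a
multiplicative isomorphism which sends a point v of D(M) with values in B[ε], read as an R-algebra
homomorphism from R[M] to B[ε], to the homomorphism m ↦ (ε-coefficient of the image of m), and which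
carries the rescaling action of b in B to multiplication of homomorphisms by b. -/
theorem result (R : Type u) [CommRing R] (M : Type) [AddCommGroup M]
    (B : Type u) [CommRing B] [Algebra R B] :
    ∃ e : LieS.LieR (Red.diag R M) B ≃* Multiplicative (M →+ B),
      (∀ (v : LieS.LieR (Red.diag R M) B) (m : M),
        Multiplicative.toAdd (e v) m =
          TrivSqZeroExt.snd (((Spec.mapMulEquiv.symm ((LieS.dptIso B).inv ≫ v.1)).ofConv :
            MonoidAlgebra R (Multiplicative M) →ₐ[R] DualNumber B)
            (MonoidAlgebra.single (Multiplicative.ofAdd m) 1))) ∧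
      ∀ (b : B) (v : LieS.LieR (Red.diag R M) B),
        e (b • v) = Multiplicative.ofAdd (b • Multiplicative.toAdd (e v)) := by
  let A := MonoidAlgebra R (Multiplicative M)
  let δ : M → A := fun m => MonoidAlgebra.single (Multiplicative.ofAdd m) 1
  have hδ0 : δ 0 = 1 := rfl
  have hδ : ∀ m n, δ (m + n) = δ m * δ n := fun m n => by
    change (MonoidAlgebra.single _ (1 : R) : A) = MonoidAlgebra.single _ 1 * MonoidAlgebra.single _ 1
    rw [MonoidAlgebra.single_mul_single, _root_.one_mul, ofAdd_add]
  have hfst : ∀ (v : LieS.LieR (Red.diag R M) B) m, (pa v.1 (δ m)).fst = 1 := fun v m => by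
    rw [(pa_unit_iff v.1).mp v.2]
    simp [δ]
  let χ : LieS.LieR (Red.diag R M) B → (M →+ B) := fun v =>
    { toFun := fun m => (pa v.1 (δ m)).snd
      map_zero' := by rw [hδ0, map_one, TrivSqZeroExt.snd_one]
      map_add' := fun m n => by
        rw [hδ, map_mul, DualNumber.snd_mul, hfst, hfst, _root_.one_mul, _root_.mul_one, add_comm] }
  have hinj : Function.Injective χ := fun v w h => by
    refine Subtype.ext ?_
    rw [pa_spec v.1, pa_spec w.1]
    congr 3
    refine MonoidAlgebra.algHom_ext (single_one_left := Subsingleton.elim _ _) fun g => ?_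
    obtain ⟨m, rfl⟩ : ∃ m, Multiplicative.ofAdd m = g := ⟨g.toAdd, rfl⟩
    exact TrivSqZeroExt.ext ((hfst v m).trans (hfst w m).symm) (DFunLike.congr_fun h m)
  have hsurj : Function.Surjective χ := fun c => by
    let mu : Multiplicative M →* DualNumber B :=
      { toFun := fun g => 1 + TrivSqZeroExt.inr (c g.toAdd)
        map_one' := by simp
        map_mul' := fun g g' => by
          refine TrivSqZeroExt.ext ?_ ?_
          · simp
          · simp [add_comm] }
    let a : A →ₐ[R] DualNumber B := MonoidAlgebra.lift R (DualNumber B) (Multiplicative M) mu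
    let v : LieS.dpt B (Spec.map (CommRingCat.ofHom (algebraMap R B))) ⟶ GA R A :=
      (LieS.dptIso B).hom ≫ Spec.mapMulEquiv (WithConv.toConv a)
    have hv : pa v = a := by simp [pa, v]
    refine ⟨⟨v, (pa_unit_iff v).mpr ?_⟩, AddMonoidHom.ext fun m => ?_⟩
    · rw [hv]
      intro x
      refine DFunLike.congr_fun (?_ : (TrivSqZeroExt.fstHom R B B).comp a =
        (Algebra.ofId R B).comp (Bialgebra.counitAlgHom R A)) x
      exact MonoidAlgebra.algHom_ext (single_one_left := Subsingleton.elim _ _) fun g => by
        simp [a, mu, A]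
    · change (pa v (δ m)).snd = c m
      rw [hv]
      change (MonoidAlgebra.lift R (DualNumber B) (Multiplicative M) mu (MonoidAlgebra.single _ 1)).snd = c m
      rw [MonoidAlgebra.lift_single, one_smul]
      simp [mu]
  let e : LieS.LieR (Red.diag R M) B ≃* Multiplicative (M →+ B) :=
    MulEquiv.mk' (Equiv.ofBijective (fun v => Multiplicative.ofAdd (χ v)) ⟨hinj, hsurj⟩) fun v w => by
      refine AddMonoidHom.ext fun m => ?_
      change (pa (v.1 * w.1) (δ m)).snd = (pa v.1 (δ m)).snd + (pa w.1 (δ m)).snd
      have h3 : pa (v.1 * w.1) (δ m) = pa v.1 (δ m) * pa w.1 (δ m) := by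
        have := congrArg (fun k : WithConv (A →ₐ[R] DualNumber B) => k.ofConv (δ m)) (pa_mul v.1 w.1)
        rw [WithConv.ofConv_toConv] at this
        rw [this, AlgHom.convMul_def]
        change Algebra.TensorProduct.lmul' R (Algebra.TensorProduct.map (pa v.1) (pa w.1)
          (Coalgebra.comul (R := R) (δ m))) = _
        rw [show Coalgebra.comul (R := R) (δ m) = δ m ⊗ₜ[R] δ m from by simp [δ, A]]
        rfl
      rw [h3, DualNumber.snd_mul, hfst, hfst, _root_.one_mul, _root_.mul_one, add_comm]
  refine ⟨e, fun v m => rfl, fun b v => congrArg Multiplicative.ofAdd (AddMonoidHom.ext fun m => ?_)⟩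
  change (pa (LieS.scale B _ b ≫ v.1) (δ m)).snd = b * (pa v.1 (δ m)).snd
  rw [pa_scale]
  simp [LieS.scaleHom, TrivSqZeroExt.algebraMap_eq_inl', mul_comm]

end Groth.Agent.S8358
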