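import Groth.Statements.S8359
import Mathlib.AlgebraicGeometry.Group.Affine

set_option autoImplicit false
universe u
open CategoryTheory MonObj AlgebraicGeometry
open Red

namespace Groth.Agent.S8359

open AlgebraicGeometry CategoryTheory MonoidalCategory CartesianMonoidalCategory

noncomputable section

variable {R : Type u} [CommRing R]

/-- `Spec A` as a scheme over `Spec R`. -/
abbrev P (R A : Type u) [CommRing R] [CommRing A] [Algebra R A] : Over (Spec (CommRingCat.of R)) :=
  (Spec (CommRingCat.of A)).asOver (Spec (CommRingCat.of R))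

def sp {A A' : Type u} [CommRing A] [Algebra R A] [CommRing A'] [Algebra R A'] (u : A →ₐ[R] A') : P R A' ⟶ P R A :=
  (Spec.map (CommRingCat.ofHom u.toRingHom)).asOver _

@[simp] theorem sp_left {A A' : Type u} [CommRing A] [Algebra R A] [CommRing A'] [Algebra R A'] (u : A →ₐ[R] A') :
    (sp u).left = Spec.map (CommRingCat.ofHom u.toRingHom) := rfl

theorem sp_comp {A A' A'' : Type u} [CommRing A] [Algebra R A] [CommRing A'] [Algebra R A'] [CommRing A'']
    [Algebra R A''] (u : A →ₐ[R] A') (v : A' →ₐ[R] A'') : sp v ≫ sp u = sp (v.comp u) := by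
  ext1
  exact (Spec.map_comp _ _).symm

theorem exists_alg {A B : Type u} [CommRing A] [Algebra R A] [CommRing B] [Algebra R B] (x : P R A ⟶ P R B) :
    ∃ φ : B →ₐ[R] A, sp φ = x := by
  obtain ⟨φ, hφ⟩ := Spec.map_surjective x.left
  have hw := Over.w x
  rw [← hφ] at hw
  change Spec.map φ ≫ Spec.map _ = Spec.map _ at hw
  rw [← Spec.map_comp] at hw
  refine ⟨⟨φ.hom, fun r => ?_⟩, ?_⟩
  · exact congr($(Spec.map_injective hw) r)
  · ext1; exact hφ

theorem surjective_sp {A A' : Type u} [CommRing A] [Algebra R A] [CommRing A'] [Algebra R A'] (u : A →ₐ[R] A')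
    (hu : Function.Surjective u) (hn : ∀ a, u a = 0 → IsNilpotent a) : Surjective (sp u).left := by
  refine ⟨fun (x : PrimeSpectrum A) => ?_⟩
  have : x ∈ Set.range (PrimeSpectrum.comap u.toRingHom) := by
    rw [range_comap_of_surjective _ _ (by exact hu)]
    intro a ha
    exact nilpotent_iff_mem_prime.mp (hn a ha) _ x.2
  exact this

variable {X : Over (Spec (CommRingCat.of R))} {B : Type u} [CommRing B] [Algebra R B] (j : P R B ⟶ X)

theorem exists_val [IsOpenImmersion j.left] {A : Type u} [CommRing A] [Algebra R A] (x : P R A ⟶ X)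
    (h : Set.range x.left.base ⊆ Set.range j.left.base) : ∃ φ : B →ₐ[R] A, sp φ ≫ j = x := by
  let l := IsOpenImmersion.lift j.left x.left h
  let y : P R A ⟶ P R B := Over.homMk l (by
    show l ≫ _ = _
    rw [← Over.w j, ← Category.assoc, IsOpenImmersion.lift_fac, Over.w x])
  obtain ⟨φ, hφ⟩ := exists_alg y
  refine ⟨φ, ?_⟩
  rw [hφ]
  ext1
  exact IsOpenImmersion.lift_fac _ _ _

theorem val_inj [IsOpenImmersion j.left] {A : Type u} [CommRing A] [Algebra R A] {φ ψ : B →ₐ[R] A}
    (h : sp φ ≫ j = sp ψ ≫ j) : φ = ψ := by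
  have h' := congrArg CommaMorphism.left h
  change (sp φ).left ≫ j.left = (sp ψ).left ≫ j.left at h'
  rw [cancel_mono, sp_left, sp_left] at h'
  exact AlgHom.coe_ringHom_injective (congrArg CommRingCat.Hom.hom (Spec.map_injective h'))

variable [GrpObj X]

/-- The product of two points congruent to the unit modulo a square-zero ideal is computed additively. -/
theorem mul_add_sub [IsOpenImmersion j.left] {A : Type u} [CommRing A] [Algebra R A] (K : Ideal A) (hK : K * K = ⊥)
    (a b e c : B →ₐ[R] A) (he : sp e ≫ j = 1) (hc : sp c ≫ j = (sp a ≫ j) * (sp b ≫ j))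
    (ha : ∀ x, a x - e x ∈ K) (hb : ∀ x, b x - e x ∈ K) (x : B) : c x = a x + b x - e x := by
  have hz : ∀ y z : A, y ∈ K → z ∈ K → y * z = 0 := fun y z hy hz => by
    have := Ideal.mul_mem_mul hy hz
    rwa [hK, Ideal.mem_bot] at this
  let C : Subalgebra R (A × A × A) :=
    { carrier := {p | p.1 - p.2.2 ∈ K ∧ p.2.1 - p.2.2 ∈ K}
      mul_mem' := fun {p q} hp hq => by
        refine ⟨?_, ?_⟩
        · have : p.1 * q.1 - p.2.2 * q.2.2 = p.1 * (q.1 - q.2.2) + q.2.2 * (p.1 - p.2.2) := by ring
          show p.1 * q.1 - p.2.2 * q.2.2 ∈ K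
          rw [this]
          exact K.add_mem (K.mul_mem_left _ hq.1) (K.mul_mem_left _ hp.1)
        · have : p.2.1 * q.2.1 - p.2.2 * q.2.2 = p.2.1 * (q.2.1 - q.2.2) + q.2.2 * (p.2.1 - p.2.2) := by ring
          show p.2.1 * q.2.1 - p.2.2 * q.2.2 ∈ K
          rw [this]
          exact K.add_mem (K.mul_mem_left _ hq.2) (K.mul_mem_left _ hp.2)
      add_mem' := fun {p q} hp hq => by
        refine ⟨?_, ?_⟩
        · show p.1 + q.1 - (p.2.2 + q.2.2) ∈ K
          rw [add_sub_add_comm]; exact K.add_mem hp.1 hq.1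
        · show p.2.1 + q.2.1 - (p.2.2 + q.2.2) ∈ K
          rw [add_sub_add_comm]; exact K.add_mem hp.2 hq.2
      algebraMap_mem' := fun r => by simp }
  let π₁ : C →ₐ[R] A := (AlgHom.fst R A (A × A)).comp C.val
  let π₂ : C →ₐ[R] A := ((AlgHom.fst R A A).comp (AlgHom.snd R A (A × A))).comp C.val
  let π₃ : C →ₐ[R] A := ((AlgHom.snd R A A).comp (AlgHom.snd R A (A × A))).comp C.val
  let add : C →ₐ[R] A :=
    { toFun := fun p => p.1.1 + p.1.2.1 - p.1.2.2
      map_one' := by simp
      map_zero' := by simp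
      map_add' := fun p q => by simp; ring
      map_mul' := fun p q => by
        have h1 := hz _ _ p.2.1 q.2.2
        have h2 := hz _ _ p.2.2 q.2.1
        simp only [Subalgebra.coe_mul, Prod.fst_mul, Prod.snd_mul]
        linear_combination -h1 - h2
      commutes' := fun r => by simp }
  let P' : B →ₐ[R] C := (a.prod (e.prod e)).codRestrict C fun x => ⟨ha x, by simp⟩
  let Q' : B →ₐ[R] C := (e.prod (b.prod e)).codRestrict C fun x => ⟨by simp, hb x⟩
  let z := (sp P' ≫ j) * (sp Q' ≫ j)
  have key : ∀ (f : C →ₐ[R] A), sp f ≫ z = (sp (f.comp P') ≫ j) * (sp (f.comp Q') ≫ j) := fun f => by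
    rw [MonObj.comp_mul, ← Category.assoc, ← Category.assoc, sp_comp, sp_comp]
  have h1 : sp π₁ ≫ z = sp a ≫ j := by
    rw [key, show π₁.comp P' = a from rfl, show π₁.comp Q' = e from rfl, he, _root_.mul_one]
  have h2 : sp π₂ ≫ z = sp b ≫ j := by
    rw [key, show π₂.comp P' = e from rfl, show π₂.comp Q' = b from rfl, he, _root_.one_mul]
  have h3 : sp π₃ ≫ z = sp e ≫ j := by
    rw [key, show π₃.comp P' = e from rfl, show π₃.comp Q' = e from rfl, he, _root_.mul_one]
  have hrange : Set.range z.left.base ⊆ Set.range j.left.base := by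
    have hs : Surjective (sp π₃).left := surjective_sp π₃ (fun y => ⟨⟨(y, y, y), by simp, by simp⟩, rfl⟩) fun p hp => by
      refine ⟨2, Subtype.ext ?_⟩
      change p.1.2.2 = 0 at hp
      have hp1 : p.1.1 ∈ K := by have := p.2.1; rwa [hp, sub_zero] at this
      have hp2 : p.1.2.1 ∈ K := by have := p.2.2; rwa [hp, sub_zero] at this
      simp [pow_two, Prod.ext_iff, hz _ _ hp1 hp1, hz _ _ hp2 hp2, hp]
    rintro _ ⟨w, rfl⟩
    obtain ⟨v, rfl⟩ := hs.surj w
    rw [← Scheme.Hom.comp_apply, ← Over.comp_left, h3, Over.comp_left, Scheme.Hom.comp_apply]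
    exact ⟨_, rfl⟩
  obtain ⟨ω, hω⟩ := exists_val j z hrange
  have hcomp : ∀ (f : C →ₐ[R] A) (φ : B →ₐ[R] A), sp f ≫ z = sp φ ≫ j → φ = f.comp ω := fun f φ h => by
    refine val_inj j ?_
    rw [← h, ← hω, ← Category.assoc, sp_comp]
  have haddP : add.comp P' = a := AlgHom.ext fun y => show a y + e y - e y = a y by ring
  have haddQ : add.comp Q' = b := AlgHom.ext fun y => show e y + b y - e y = b y by ring
  rw [hcomp add c (by rw [key, haddP, haddQ, hc]), hcomp π₁ a h1, hcomp π₂ b h2, hcomp π₃ e h3]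
  rfl

variable (M : Type) [AddCommGroup M]

abbrev A0 (R : Type u) [CommRing R] (M : Type) [AddCommGroup M] : Type u := MonoidAlgebra R (Multiplicative M)

theorem sp_conv {A : Type u} [CommRing A] [Algebra R A] (u v w : A0 R M →ₐ[R] A)
    (h : ∀ m, w (MonoidAlgebra.single m 1) = u (MonoidAlgebra.single m 1) * v (MonoidAlgebra.single m 1)) :
    (sp w : P R A ⟶ Red.diag R M) = @HMul.hMul (P R A ⟶ Red.diag R M) (P R A ⟶ Red.diag R M) (P R A ⟶ Red.diag R M) _ (sp u) (sp v) := by
  have e : WithConv.toConv w = WithConv.toConv u * WithConv.toConv v := by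
    apply WithConv.ofConv_injective
    apply MonoidAlgebra.algHom_ext
    · intro m
      simp only [WithConv.ofConv_toConv, AlgHom.convMul_def, AlgHom.comp_apply, Bialgebra.comulAlgHom_apply,
        MonoidAlgebra.comul_single]
      simpa using h m
    · exact Subsingleton.elim _ _
  exact (congrArg Spec.mapMulEquiv e).trans (map_mul Spec.mapMulEquiv _ _)

/-- One step of the induction: the deviation from the unit improves from `J` to `J * J`. -/
theorem step_coeff [IsOpenImmersion j.left] (f : Red.diag R M ⟶ X) [IsMonHom f] (L : Type u) [CommRing L] [Algebra R L]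
    (J : Ideal L) (α : B →ₐ[R] A0 L M) (ε : B →ₐ[R] L) (hε : sp ε ≫ j = 1)
    (hα : sp α ≫ j = sp ((MonoidAlgebra.lift R _ _ (MonoidAlgebra.of L _) : A0 R M →ₐ[R] A0 L M)) ≫ f)
    (hJ : ∀ b m, (α b - (IsScalarTower.toAlgHom R L (A0 L M)) (ε b)).coeff m ∈ J) :
    ∀ b m, (α b - (IsScalarTower.toAlgHom R L (A0 L M)) (ε b)).coeff m ∈ J * J := by
  classical
  let Q : Type u := L ⧸ (J * J)
  let π : L →ₐ[R] L ⧸ (J * J) := IsScalarTower.toAlgHom R L (L ⧸ (J * J))
  let F : (Multiplicative M →* Multiplicative M × Multiplicative M) →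
      (A0 L M →ₐ[R] MonoidAlgebra (L ⧸ (J * J)) (Multiplicative M × Multiplicative M)) := fun φ =>
    (MonoidAlgebra.mapAlgHom _ π).comp (MonoidAlgebra.mapDomainAlgHom R L φ)
  let K : Ideal (MonoidAlgebra (L ⧸ (J * J)) (Multiplicative M × Multiplicative M)) :=
    J.map (algebraMap L (MonoidAlgebra (L ⧸ (J * J)) (Multiplicative M × Multiplicative M)))
  have hK : K * K = ⊥ := by
    show J.map _ * J.map _ = ⊥
    rw [← Ideal.map_mul, Ideal.map_eq_bot_iff_le_ker]
    intro y hy
    rw [RingHom.mem_ker, IsScalarTower.algebraMap_apply L (L ⧸ (J * J))]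
    show algebraMap (L ⧸ (J * J)) _ (Ideal.Quotient.mk _ y) = 0
    rw [Ideal.Quotient.eq_zero_iff_mem.mpr hy, map_zero]
  let c : L →ₐ[R] A0 L M := IsScalarTower.toAlgHom R L _
  let E : B →ₐ[R] MonoidAlgebra (L ⧸ (J * J)) (Multiplicative M × Multiplicative M) :=
    ((IsScalarTower.toAlgHom R (L ⧸ (J * J)) _).comp π).comp ε
  have hE : sp E ≫ j = 1 := by rw [← sp_comp, Category.assoc, hε, MonObj.comp_one]
  have hFc : ∀ φ b, F φ (c (ε b)) = E b := fun φ b => by
    simp [F, c, E, π, MonoidAlgebra.coe_algebraMap]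
  have hmem : ∀ φ b, F φ (α b) - E b ∈ K := by
    intro φ b
    rw [← hFc φ b, ← map_sub, ← MonoidAlgebra.sum_coeff_single (α b - c (ε b)), Finsupp.sum, map_sum]
    refine K.sum_mem fun m _ => ?_
    have : F φ (MonoidAlgebra.single m ((α b - c (ε b)).coeff m)) =
        algebraMap L _ ((α b - c (ε b)).coeff m) * MonoidAlgebra.single (φ m) 1 := by
      generalize (α b - c (ε b)).coeff m = t
      simp [F, π, MonoidAlgebra.coe_algebraMap, MonoidAlgebra.single_mul_single]
    rw [this]
    exact K.mul_mem_right _ (Ideal.mem_map_of_mem _ (hJ b m))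
  let i₁ : Multiplicative M →* Multiplicative M × Multiplicative M := MonoidHom.inl _ _
  let i₂ : Multiplicative M →* Multiplicative M × Multiplicative M := MonoidHom.inr _ _
  let d : Multiplicative M →* Multiplicative M × Multiplicative M := (MonoidHom.id _).prod (MonoidHom.id _)
  have hprod : sp ((F d).comp α) ≫ j = (sp ((F i₁).comp α) ≫ j) * (sp ((F i₂).comp α) ≫ j) := by
    simp only [← sp_comp, Category.assoc, hα]
    simp only [← Category.assoc, sp_comp]
    rw [← MonObj.mul_comp, ← sp_conv]
    intro m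
    simp [F, π, d, i₁, i₂, MonoidAlgebra.single_mul_single]
  intro b m
  have key := mul_add_sub j K hK _ _ E _ hE hprod (hmem i₁) (hmem i₂) b
  simp only [AlgHom.comp_apply] at key
  have hδ : F d (α b - c (ε b)) = F i₁ (α b - c (ε b)) + F i₂ (α b - c (ε b)) := by
    rw [map_sub, map_sub, map_sub, hFc, hFc, hFc, key]; ring
  change (α b - c (ε b)).coeff m ∈ J * J
  generalize α b - c (ε b) = δ at hδ ⊢
  have hcoeff : ∀ φ : Multiplicative M →* Multiplicative M × Multiplicative M, Function.Injective φ → ∀ m,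
      (F φ δ).coeff (φ m) = Ideal.Quotient.mk _ (δ.coeff m) := fun φ hφ m => by
    simp [F, π, MonoidAlgebra.mapDomain, Finsupp.mapDomain_apply hφ]
  have hzero : ∀ (φ : Multiplicative M →* Multiplicative M × Multiplicative M) (g), g ∉ Set.range φ → (F φ δ).coeff g = 0 :=
    fun φ g hg => by simp [F, π, MonoidAlgebra.mapDomain, Finsupp.mapDomain_notin_range _ _ hg]
  have hd : Function.Injective d := fun a b hab => congrArg Prod.fst hab
  have h' := congrArg (fun y => y.coeff (d m)) hδ
  simp only [MonoidAlgebra.coeff_add, Finsupp.add_apply, hcoeff d hd] at h'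
  apply Ideal.Quotient.eq_zero_iff_mem.mp
  by_cases hm : m = 1
  · subst hm
    have e1 : d 1 = i₁ 1 := by simp
    have e2 : d 1 = i₂ 1 := by simp
    conv_rhs at h' => arg 1; rw [e1, hcoeff i₁ (fun a b hab => congrArg Prod.fst hab)]
    conv_rhs at h' => arg 2; rw [e2, hcoeff i₂ (fun a b hab => congrArg Prod.snd hab)]
    exact left_eq_add.mp h'
  · rw [hzero i₁ _ (by rintro ⟨y, hy⟩; exact hm (congrArg Prod.snd hy).symm),
      hzero i₂ _ (by rintro ⟨y, hy⟩; exact hm (congrArg Prod.fst hy).symm), add_zero] at h'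
    exact h'

end

/-- Over an affine base S = Spec R with S₀ = Spec (R/I) for a nilpotent ideal I: for a commutative group
M, the diagonalisable group D(M) = Spec R[M] over S, a group scheme X locally of finite presentation
over S and a homomorphism f from D(M) to X, if the base change of f to S₀ is the unit homomorphism
then f is the unit homomorphism. (The published statement is over an arbitrary base scheme with S₀
defined by a nilpotent quasi-coherent ideal; this row is its case of an affine base.) -/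
theorem result (R : Type u) [CommRing R] (I : Ideal R) (hI : IsNilpotent I)
    (M : Type) [AddCommGroup M] (X : Over (Spec (CommRingCat.of R))) [GrpObj X]
    [LocallyOfFinitePresentation X.hom] (f : Red.diag R M ⟶ X) [IsMonHom f]
    (h : (Over.pullback (Spec.map (CommRingCat.ofHom (Ideal.Quotient.mk I)))).map f = 1) :
    f = 1 := by
  obtain ⟨n, hn⟩ := hI
  -- topologically `f` is the unit
  let k : R →+* R ⧸ I := Ideal.Quotient.mk I
  let g := Spec.map (CommRingCat.ofHom k)
  have hfst : Limits.pullback.fst (Red.diag R M).hom g ≫ f.left =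
      Limits.pullback.fst (Red.diag R M).hom g ≫ (1 : Red.diag R M ⟶ X).left := by
    rw [← Functor.map_one (Over.pullback g)] at h
    have h' := congrArg (fun q => CommaMorphism.left q ≫ Limits.pullback.fst X.hom g) h
    simp only [Over.pullback_map_left] at h'
    erw [Limits.pullback.lift_fst, Limits.pullback.lift_fst] at h'
    exact h'
  haveI : Surjective g := by
    refine ⟨fun (x : PrimeSpectrum R) => ?_⟩
    have : x ∈ Set.range (PrimeSpectrum.comap k) := by
      rw [range_comap_of_surjective _ _ Ideal.Quotient.mk_surjective]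
      intro a ha
      have hnil : IsNilpotent a := ⟨n, by
        have := Ideal.pow_mem_pow (Ideal.Quotient.eq_zero_iff_mem.mp ha) n
        rwa [hn] at this⟩
      exact nilpotent_iff_mem_prime.mp hnil _ x.2
    exact this
  have hbase : f.left.base = (1 : Red.diag R M ⟶ X).left.base := by
    ext x
    obtain ⟨y, rfl⟩ := (Limits.pullback.fst (Red.diag R M).hom g).surjective x
    exact congr($(hfst).base y)
  -- reduce to basic opens of the base
  have hη : (1 : Red.diag R M ⟶ X).left = (Red.diag R M).hom ≫ η[X].left := by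
    rw [Hom.one_def]
    rfl
  apply Over.OverMorphism.ext
  let p₀ : ∀ x : PrimeSpectrum R, ∃ r : R, r ∉ x.asIdeal ∧ ∃ U : X.left.Opens, IsAffineOpen U ∧
      (PrimeSpectrum.basicOpen r : Set (PrimeSpectrum R)) ⊆ η[X].left.base ⁻¹' (U : Set X.left) := fun x => by
    obtain ⟨U, hU, hxU, -⟩ := TopologicalSpace.Opens.isBasis_iff_nbhd.mp X.left.isBasis_affineOpens
      (TopologicalSpace.Opens.mem_top (η[X].left.base x))
    obtain ⟨_, ⟨r, rfl⟩, hxr, hr⟩ := PrimeSpectrum.isTopologicalBasis_basic_opens.exists_subset_of_mem_open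
      (show x ∈ η[X].left.base ⁻¹' (U : Set X.left) from hxU) (U.2.preimage η[X].left.continuous)
    exact ⟨r, hxr, U, hU, hr⟩
  choose r hr U hU hrU using p₀
  let L : PrimeSpectrum R → Type u := fun x => Localization.Away (r x)
  let emb : ∀ x, A0 R M →ₐ[R] A0 (L x) M := fun x => MonoidAlgebra.lift R _ _ (MonoidAlgebra.of (L x) _)
  have hloc : ∀ x, sp (emb x) ≫ f = sp (emb x) ≫ (1 : Red.diag R M ⟶ X) := by
    intro x
    rw [MonObj.comp_one]
    let B : CommRingCat.{u} := Γ(X.left, U x)
    let ρ := Spec.preimage ((hU x).fromSpec ≫ X.hom)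
    letI : Algebra R B := ρ.hom.toAlgebra
    let j : P R B ⟶ X := Over.homMk (hU x).fromSpec (Spec.map_preimage _).symm
    haveI : IsOpenImmersion j.left := inferInstanceAs (IsOpenImmersion (hU x).fromSpec)
    have hj : Set.range j.left.base = (U x : Set X.left) := (hU x).range_fromSpec
    -- every point factoring through the basic open lands in the chart
    have hone : ∀ (A : Type u) [CommRing A] [Algebra R A] [Algebra (L x) A] [IsScalarTower R (L x) A],
        Set.range (1 : P R A ⟶ X).left.base ⊆ Set.range j.left.base := by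
      intro A _ _ _ _
      rw [hj]
      rintro _ ⟨w, rfl⟩
      have : (1 : P R A ⟶ X).left = (P R A).hom ≫ η[X].left := by rw [Hom.one_def]; rfl
      rw [this, Scheme.Hom.comp_apply]
      refine hrU x ?_
      show r x ∉ (PrimeSpectrum.comap (algebraMap R A) w).asIdeal
      intro hmem
      refine w.2.ne_top (Ideal.eq_top_of_isUnit_mem _ hmem ?_)
      rw [IsScalarTower.algebraMap_apply R (L x) A]
      exact (IsLocalization.Away.algebraMap_isUnit (r x)).map _
    obtain ⟨α, hα⟩ := exists_val j (sp (emb x) ≫ f) (by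
      rintro _ ⟨w, rfl⟩
      refine hone (A0 (L x) M) ⟨w, ?_⟩
      rw [← MonObj.comp_one (sp (emb x)), Over.comp_left, Over.comp_left, Scheme.Hom.comp_apply, Scheme.Hom.comp_apply,
        hbase])
    obtain ⟨ε, hε⟩ := exists_val j (1 : P R (L x) ⟶ X) (hone (L x))
    let c : L x →ₐ[R] A0 (L x) M := IsScalarTower.toAlgHom R (L x) _
    have hεone : sp (c.comp ε) ≫ j = 1 := by rw [← sp_comp, Category.assoc, hε, MonObj.comp_one]
    suffices h0 : α = c.comp ε by rw [← hα, h0, hεone]
    -- congruence modulo `I`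
    let J : Ideal (L x) := I.map (algebraMap R (L x))
    have hbase' : ∀ b m, (α b - c (ε b)).coeff m ∈ J := by
      intro b m
      let Q := L x ⧸ J
      let q : A0 (L x) M →ₐ[R] A0 Q M := MonoidAlgebra.mapAlgHom _ (IsScalarTower.toAlgHom R (L x) Q)
      have hq : sp q ≫ sp (emb x) ≫ f = sp q ≫ sp (emb x) ≫ (1 : Red.diag R M ⟶ X) := by
        ext1
        let kQ : R ⧸ I →+* A0 Q M := (algebraMap Q (A0 Q M)).comp
          (Ideal.quotientMap J (algebraMap R (L x)) Ideal.le_comap_map)
        let l := Limits.pullback.lift (f := (Red.diag R M).hom) (g := g) (sp q ≫ sp (emb x)).left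
          (Spec.map (CommRingCat.ofHom kQ)) ((Over.w (sp q ≫ sp (emb x))).trans (by
            show Spec.map _ = Spec.map _ ≫ Spec.map _
            rw [← Spec.map_comp]
            rfl))
        have := congrArg (l ≫ ·) hfst
        simp only [l, Limits.pullback.lift_fst_assoc] at this
        simp only [← Category.assoc (sp q), Over.comp_left] at this ⊢
        exact this
      rw [← hα, ] at hq
      rw [MonObj.comp_one, ← hεone, ← Category.assoc, ← Category.assoc, sp_comp, sp_comp] at hq
      have := congrArg (fun y => y.coeff m) (AlgHom.congr_fun (val_inj j hq) b)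
      simp only [AlgHom.comp_apply] at this
      change Ideal.Quotient.mk J ((α b).coeff m) = Ideal.Quotient.mk J ((c (ε b)).coeff m) at this
      rw [MonoidAlgebra.coeff_sub, Finsupp.sub_apply]
      exact Ideal.Quotient.eq.mp this
    have step : ∀ N : ℕ, (∀ b m, (α b - c (ε b)).coeff m ∈ J ^ N) → ∀ b m, (α b - c (ε b)).coeff m ∈ J ^ N * J ^ N :=
      fun N hN => step_coeff j M f (L x) (J ^ N) α ε hε hα hN
    have hall : ∀ i, ∀ b m, (α b - c (ε b)).coeff m ∈ J ^ (2 ^ i) := fun i => by
      induction i with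
      | zero => simpa using hbase'
      | succ i ih => intro b m; rw [pow_succ, mul_two, pow_add]; exact step _ ih b m
    have hJn : J ^ (2 ^ n) = ⊥ := by
      have h1 : J ^ n = ⊥ := by rw [← Ideal.map_pow, hn]; exact Ideal.map_bot
      rw [eq_bot_iff]
      exact (Ideal.pow_le_pow_right Nat.lt_two_pow_self.le).trans h1.le
    refine AlgHom.ext fun b => sub_eq_zero.mp (MonoidAlgebra.ext (Finsupp.ext fun m => ?_))
    have := hall n b m
    rw [hJn, Ideal.mem_bot] at this
    simpa using this
  let 𝒰 := (Spec (CommRingCat.of (A0 R M))).openCoverOfIsOpenCover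
    (fun x : PrimeSpectrum R => PrimeSpectrum.basicOpen (algebraMap R (A0 R M) (r x))) (by
      refine TopologicalSpace.IsOpenCover.mk (eq_top_iff.2 fun y _ => TopologicalSpace.Opens.mem_iSup.2
        ⟨PrimeSpectrum.comap (algebraMap R (A0 R M)) y, ?_⟩)
      exact hr (PrimeSpectrum.comap (algebraMap R (A0 R M)) y))
  refine Scheme.Cover.hom_ext 𝒰 _ _ fun x => ?_
  show Scheme.Opens.ι (X := Spec (CommRingCat.of (A0 R M))) (PrimeSpectrum.basicOpen (algebraMap R (A0 R M) (r x))) ≫ f.left = _
  obtain ⟨l, hl⟩ : ∃ l, l ≫ (sp (emb x)).left =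
      Scheme.Opens.ι (X := Spec (CommRingCat.of (A0 R M))) (PrimeSpectrum.basicOpen (algebraMap R (A0 R M) (r x))) := by
    let D := Localization.Away (algebraMap R (A0 R M) (r x))
    let τ : A0 (L x) M →+* D := MonoidAlgebra.liftNCRingHom
      (IsLocalization.Away.lift (S := L x) (r x) (g := (algebraMap (A0 R M) D).comp (algebraMap R (A0 R M)))
        (IsLocalization.Away.algebraMap_isUnit (S := D) (algebraMap R (A0 R M) (r x))))
      ((algebraMap (A0 R M) D).toMonoidHom.comp (MonoidAlgebra.of R _)) (fun _ _ => mul_comm _ _)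
    have hτ : τ.comp (emb x).toRingHom = algebraMap (A0 R M) D := by
      refine MonoidAlgebra.ringHom_ext (fun a => ?_) (fun m => ?_)
      · simp [τ, emb, L, IsLocalization.Away.lift_eq, ← MonoidAlgebra.one_def, MonoidAlgebra.liftNC_single, MonoidAlgebra.liftNCRingHom, Algebra.smul_def, MonoidAlgebra.coe_algebraMap, MonoidAlgebra.single_mul_single]
        exact IsLocalization.Away.lift_eq (r x) _ a
      · simp [τ, emb, MonoidAlgebra.liftNC_single, MonoidAlgebra.liftNCRingHom]
    refine ⟨(basicOpenIsoSpecAway (R := CommRingCat.of (A0 R M)) (algebraMap R (A0 R M) (r x))).hom ≫ Spec.map (CommRingCat.ofHom τ), ?_⟩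
    rw [sp_left, Category.assoc]
    erw [← Spec.map_comp, ← CommRingCat.ofHom_comp, hτ, ← Iso.eq_inv_comp]
    exact (IsOpenImmersion.isoOfRangeEq_inv_fac _ _ _).symm
  have := congrArg CommaMorphism.left (hloc x)
  change (sp (emb x)).left ≫ f.left = (sp (emb x)).left ≫ (1 : Red.diag R M ⟶ X).left at this
  exact (congrArg (· ≫ f.left) hl.symm).trans ((Category.assoc _ _ _).trans ((congrArg (l ≫ ·) this).trans
    ((Category.assoc _ _ _).symm.trans (congrArg (· ≫ (1 : Red.diag R M ⟶ X).left) hl))))

end Groth.Agent.S8359
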