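import Groth.Statements.S8360
import Groth.Agent.SGA3Power26.HomLiftMult

set_option autoImplicit false
set_option linter.style.haveILetI false
set_option backward.isDefEq.respectTransparency.types false
universe u
open CategoryTheory MonObj AlgebraicGeometry
open Red

namespace Groth.Agent.S8360

/-- Over the affine base S = Spec R with S₀ = Spec (R/I) for a nilpotent ideal I, for a commutative
group M, the diagonalisable group D(M) = Spec R[M] over S and a group scheme X smooth over S, every
homomorphism of S₀-group schemes from D(M) ×_S S₀ to X ×_S S₀ is the base change of a homomorphism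
of S-group schemes from D(M) to X. -/
theorem result (R : Type u) [CommRing R] (I : Ideal R)
    (hI : IsNilpotent I) (M : Type) [AddCommGroup M] (X : Over (Spec (CommRingCat.of R))) [GrpObj X]
    [Smooth X.hom]
    (f₀ : Red.bc (Spec.map (CommRingCat.ofHom (Ideal.Quotient.mk I))) (Red.diag R M) ⟶ Red.bc (Spec.map (CommRingCat.ofHom (Ideal.Quotient.mk I))) X) [IsMonHom f₀] :
    ∃ f : Red.diag R M ⟶ X, IsMonHom f ∧ (Over.pullback (Spec.map (CommRingCat.ofHom (Ideal.Quotient.mk I)))).map f = f₀ := by
  haveI : IsNilpotent I := hI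
  have hH : SGA3Power26.HomLiftMult.IsMT (Red.diag R M) := by
    refine ⟨Spec (CommRingCat.of R), 𝟙 _, inferInstance, inferInstance, fun V hV => ⟨V, hV.isCompact, by simp⟩,
      fun s => ⟨⊤, trivial, M, inferInstance, ?_⟩⟩
    let g : (⊤ : (Spec (CommRingCat.of R)).Opens).toScheme ⟶ Spec (CommRingCat.of R) := (⊤ : (Spec (CommRingCat.of R)).Opens).ι ≫ 𝟙 _
    obtain ⟨e⟩ := IsoTriv.SchemeSpec.nonempty_DS R M
    obtain ⟨j⟩ := IsoTriv.SchemeSpec.nonempty_bc_congr g e
    let β := SGA3cLib.GrpBC.bcCongr (Limits.IsTerminal.from specULiftZIsTerminal (Spec (CommRingCat.of R))) g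
      (Limits.IsTerminal.from specULiftZIsTerminal _) (specULiftZIsTerminal.hom_ext _ _)
    obtain ⟨h₁, -⟩ := SGA3cLib.GrpBC.isMonHom_app β (Red.diag (ULift.{u} ℤ) M)
    let b : Red.bc g (Red.DS (Spec (CommRingCat.of R)) M) ≅ Red.DS _ M := β.app (Red.diag (ULift.{u} ℤ) M)
    haveI : IsMonHom b.hom := h₁
    exact ⟨j.symm ≪≫ Grp.mkIso' b⟩
  exact SGA3Power26.HomLiftMult.exists_lift f₀ hI hH

end Groth.Agent.S8360
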