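import Groth.Statements.S8361
import Groth.Agent.LieSLib.Basic

set_option autoImplicit false
universe u
open CategoryTheory MonObj AlgebraicGeometry
open LieS

namespace Groth.Agent.S8361

/-- Uniqueness of the bracket: for a group scheme G over a scheme S and an affine S-scheme T = Spec B:
an element of Lie(G/S)(T) is determined by its pull-back along the coordinate-multiplying map from
the iterated dual numbers over T to the dual numbers over T; in particular the bracket of x and y,
the element whose pull-back is the commutator of x read in the second dual coordinate with y read in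
the first, is unique when it exists. -/
theorem result (S : Scheme.{u}) (G : Over S) [GrpObj G] (B : Type u) [CommRing B]
    (f : Spec (CommRingCat.of B) ⟶ S) (x y z z' : LieS.Lie G B f)
    (h : LieS.IsBracket G B f x y z) (h' : LieS.IsBracket G B f x y z') : z = z' := by
  have e : LieS.mulMap B f ≫ z.1 = LieS.mulMap B f ≫ z'.1 := by
    unfold LieS.IsBracket at h h'
    rw [h, h']
  have e' : (LieS.mulMap B f).left ≫ z.1.left = (LieS.mulMap B f).left ≫ z'.1.left :=
    congrArg CommaMorphism.left e
  obtain ⟨z, hz⟩ := z
  obtain ⟨z', hz'⟩ := z'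
  refine Subtype.ext (Over.OverMorphism.ext ?_)
  refine LieSLib.hom_eq_of_injective (D := DualNumber B) (E := LieS.D2 B) (Z := G.left) (g := z.left) (h := z'.left) (LieS.mulHom B) ?_ ?_ ?_
  · intro a b hab
    have h₁ := congrArg (fun w : LieS.D2 B => w.fst.fst) hab
    have h₂ := congrArg (fun w : LieS.D2 B => w.snd.snd) hab
    simp [LieS.mulHom, LieS.toD2, TrivSqZeroExt.algebraMap_eq_inl'] at h₁ h₂
    exact TrivSqZeroExt.ext h₁ h₂
  · intro p
    obtain ⟨q, rfl⟩ := LieSLib.comap_fstHom_surjective p
    refine ⟨PrimeSpectrum.comap (((TrivSqZeroExt.fstHom B B B).toRingHom).comp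
      (TrivSqZeroExt.fstHom (DualNumber B) (DualNumber B) (DualNumber B)).toRingHom) q, ?_⟩
    rw [← PrimeSpectrum.comap_comp_apply]
    congr 1
    exact RingHom.ext fun x => by simp [LieS.mulHom, LieS.toD2, TrivSqZeroExt.algebraMap_eq_inl']
  · exact e'

end Groth.Agent.S8361
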