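import Groth.Statements.S8364
import Groth.Agent.RootDat.Weyl

set_option autoImplicit false
universe u
open SGA3

namespace Groth.Agent.S8364

/-- For a commutative ring R, an ideal J of R of square zero, a smooth R-algebra A and the extended
ideal I = J·A, every R-algebra automorphism of A/I lifts to an R-algebra automorphism of A. (The
published statement concerns the automorphism functor of a smooth affine S-scheme E and affine test
schemes Y; this row is the case Y = S = Spec R, E = Spec A, which gives the general one after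
replacing R by the ring of Y.) -/
theorem result (R A : Type u) [CommRing R] [CommRing A] [Algebra R A]
    [Algebra.Smooth R A] (J : Ideal R) (hJ : J * J = ⊥)
    (φ₀ : (A ⧸ Ideal.map (algebraMap R A) J) ≃ₐ[R] (A ⧸ Ideal.map (algebraMap R A) J)) :
    ∃ φ : A ≃ₐ[R] A,
      (Ideal.Quotient.mkₐ R (Ideal.map (algebraMap R A) J)).comp φ.toAlgHom =
        φ₀.toAlgHom.comp (Ideal.Quotient.mkₐ R (Ideal.map (algebraMap R A) J)) := by
  let I := Ideal.map (algebraMap R A) J
  have hI : I = Ideal.map (algebraMap R A) J := rfl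
  have hI2 : IsNilpotent I := ⟨2, by rw [pow_two, hI, ← Ideal.map_mul, hJ, Ideal.map_bot]; rfl⟩
  let φ := Algebra.FormallySmooth.lift I hI2 (φ₀.toAlgHom.comp (Ideal.Quotient.mkₐ R I))
  let ψ := Algebra.FormallySmooth.lift I hI2 (φ₀.symm.toAlgHom.comp (Ideal.Quotient.mkₐ R I))
  have hφ : ∀ a, Ideal.Quotient.mk I (φ a) = φ₀ (Ideal.Quotient.mk I a) :=
    Algebra.FormallySmooth.mk_lift I hI2 _
  have hψ : ∀ a, Ideal.Quotient.mk I (ψ a) = φ₀.symm (Ideal.Quotient.mk I a) :=
    Algebra.FormallySmooth.mk_lift I hI2 _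
  have bij : ∀ e : A →ₐ[R] A, (∀ a, Ideal.Quotient.mk I (e a) = Ideal.Quotient.mk I a) →
      Function.Bijective e := by
    intro e he
    have hδ : ∀ a, e a - a ∈ I := fun a => Ideal.Quotient.eq.mp (he a)
    have hfix : ∀ x ∈ I, e x = x := by
      intro x hx
      refine Submodule.span_induction ?_ (map_zero e) (fun x y _ _ hx hy => by rw [map_add, hx, hy]) ?_ hx
      · rintro _ ⟨j, -, rfl⟩; exact e.commutes j
      · intro r x hx hex
        rw [smul_eq_mul, map_mul, hex]
        have : (e r - r) * x ∈ I * I := Ideal.mul_mem_mul (hδ r) hx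
        rw [hI, ← Ideal.map_mul, hJ, Ideal.map_bot, Ideal.mem_bot, sub_mul, sub_eq_zero] at this
        exact this
    refine ⟨fun a b h => ?_, fun a => ⟨a + a - e a, ?_⟩⟩
    · have hab : a - b ∈ I := Ideal.Quotient.eq.mp (by rw [← he a, h, he])
      have := hfix _ hab
      rw [map_sub, h, sub_self] at this
      exact sub_eq_zero.mp this.symm
    · have := hfix _ (hδ a)
      rw [map_sub] at this
      rw [map_sub, map_add]
      linear_combination -this
  have h1 := bij (φ.comp ψ) fun a => by rw [AlgHom.comp_apply, hφ, hψ, AlgEquiv.apply_symm_apply]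
  have h2 := bij (ψ.comp φ) fun a => by rw [AlgHom.comp_apply, hψ, hφ, AlgEquiv.symm_apply_apply]
  rw [AlgHom.coe_comp] at h1 h2
  refine ⟨AlgEquiv.ofBijective φ ⟨h2.1.of_comp, h1.2.of_comp⟩, AlgHom.ext fun a => hφ a⟩

end Groth.Agent.S8364
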