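import Groth.Statements.S8365
import Groth.Agent.LieSLib.Basic

set_option autoImplicit false
universe u
open CategoryTheory MonObj AlgebraicGeometry
open LieS

namespace Groth.Agent.S8365

/-- For a monoid scheme X over a scheme S (an associative unital monoid object in S-schemes) and an
affine S-scheme T = Spec B, a point of X with values in the dual numbers over T is invertible if and
only if its restriction along the zero section ε = 0 is invertible in X(T); in particular every such
point restricting to the unit section is invertible. (The published statement is for monoid-valued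
functors satisfying a tangent-space exactness condition, which every representable functor
satisfies, and its special case where the restriction is the unit section allows unital composition
laws that need not be associative; this row treats monoid schemes only.) -/
theorem result (S : Scheme.{u}) (X : Over S) [MonObj X] (B : Type u) [CommRing B]
    (f : Spec (CommRingCat.of B) ⟶ S) (v : LieS.dpt B f ⟶ X) :
    IsUnit v ↔ IsUnit (LieS.zeroSec B f ≫ v) := by
  let zh : (LieS.dpt B f ⟶ X) →* (LieS.pt B f ⟶ X) :=
    { toFun := fun a => LieS.zeroSec B f ≫ a
      map_one' := MonObj.comp_one _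
      map_mul' := fun a b => MonObj.comp_mul _ a b }
  constructor
  · exact fun h => h.map zh
  · intro h
    obtain ⟨w, hw⟩ := h
    let ph : (LieS.pt B f ⟶ X) →* (LieS.dpt B f ⟶ X) :=
      { toFun := fun a => LieS.proj B f ≫ a
        map_one' := MonObj.comp_one _
        map_mul' := fun a b => MonObj.comp_mul _ a b }
    let t : (LieS.dpt B f ⟶ X)ˣ := Units.map ph w⁻¹
    have hz : LieS.zeroSec B f ≫ (v * (t : LieS.dpt B f ⟶ X)) = 1 := by
      change zh (v * ph ↑w⁻¹) = 1
      rw [map_mul]
      change (LieS.zeroSec B f ≫ v) * (LieS.zeroSec B f ≫ LieS.proj B f ≫ ↑w⁻¹) = 1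
      rw [← Category.assoc (LieS.zeroSec B f) (LieS.proj B f), LieS.zeroSec_proj, Category.id_comp, ← hw, Units.mul_inv]
    obtain ⟨h₁, h₂⟩ := LieSLib.mul_scale_neg_one f X hz
    exact (Units.isUnit_mul_units v t).mp ⟨⟨_, _, h₁, h₂⟩, rfl⟩

end Groth.Agent.S8365
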