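import Groth.Statements.S8366
import Groth.Agent.SGA3Power26.FlatThickIso

set_option autoImplicit false
set_option linter.style.haveILetI false
set_option backward.isDefEq.respectTransparency.types false
universe u
open CategoryTheory MonoidalCategory MonObj AlgebraicGeometry
open SGA3 CartesianMonoidalCategory CategoryTheory.Limits Groth.Agent Groth.Agent.SGA3Power26

namespace Groth.Agent.S8366

/-- Over an affine base S = Spec R with S₀ = Spec (R/I) for a nilpotent ideal I: let X be an S-scheme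
which is flat and either quasi-compact or locally of finite presentation over S, and P : X ×_S X → X
a composition law. If P is associative and its base change to S₀ is the multiplication of some
group-scheme structure on X ×_S S₀, then P is the multiplication of a group-scheme structure on X.
(The published statement is over an arbitrary base scheme with S₀ defined by a nilpotent
quasi-coherent ideal; this row is its case of an affine base.) -/
theorem result (R : Type u) [CommRing R] (I : Ideal R)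
    (hI : IsNilpotent I) (X : Over (Spec (CommRingCat.of R))) [Flat X.hom]
    (hX : QuasiCompact X.hom ∨ LocallyOfFinitePresentation X.hom) (P : X ⊗ X ⟶ X)
    (hassoc : (P ▷ X) ≫ P = (α_ X X X).hom ≫ (X ◁ P) ≫ P)
    (h0 : ∃ _ : GrpObj ((Over.pullback (Spec.map (CommRingCat.ofHom (Ideal.Quotient.mk I)))).obj X),
      μ[(Over.pullback (Spec.map (CommRingCat.ofHom (Ideal.Quotient.mk I)))).obj X] =
        Functor.LaxMonoidal.μ (Over.pullback (Spec.map (CommRingCat.ofHom (Ideal.Quotient.mk I)))) X X ≫ (Over.pullback (Spec.map (CommRingCat.ofHom (Ideal.Quotient.mk I)))).map P) :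
    ∃ _ : GrpObj X, μ[X] = P := by
  obtain ⟨G0, hμ⟩ := h0
  let q := HomLiftMult.thick I
  let F := Over.pullback q
  haveI : Flat (X ⊗ X).hom := inferInstanceAs (Flat (pullback.fst X.hom X.hom ≫ X.hom))
  -- `P` on points
  let m : ∀ {T : Over (Spec (CommRingCat.of R))}, (T ⟶ X) → (T ⟶ X) → (T ⟶ X) := fun a b => lift a b ≫ P
  have hm : ∀ {T T' : Over (Spec (CommRingCat.of R))} (f : T' ⟶ T) (a b : T ⟶ X),
      f ≫ m a b = m (f ≫ a) (f ≫ b) := fun f a b => by
    simp only [m, ← Category.assoc, comp_lift]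
  have hass : ∀ {T : Over (Spec (CommRingCat.of R))} (a b c : T ⟶ X), m (m a b) c = m a (m b c) := fun a b c => by
    have h := congrArg (lift (lift a b) c ≫ ·) hassoc
    simpa [m] using h
  have hpt : ∀ {T : Over (Spec (CommRingCat.of R))} (p : T ⟶ MultSubLift.PQ I) (a b : T ⟶ X),
      MultSubLift.ptA p (m a b) = MultSubLift.ptA p a * MultSubLift.ptA p b := by
    intro T p a b
    show MultSubLift.ptA p (lift a b ≫ P) = lift (MultSubLift.ptA p a) (MultSubLift.ptA p b) ≫ μ[F.obj X]
    rw [MultSubLift.ptA_comp, hμ, ← Category.assoc (lift _ _)]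
    congr 1
    have e : lift (MultSubLift.ptA p a) (MultSubLift.ptA p b) =
        MultSubLift.ptA p (lift a b) ≫ Functor.OplaxMonoidal.δ F X X := by
      apply CartesianMonoidalCategory.hom_ext
      · rw [lift_fst, Category.assoc, Functor.OplaxMonoidal.δ_fst, ← MultSubLift.ptA_comp, lift_fst]
      · rw [lift_snd, Category.assoc, Functor.OplaxMonoidal.δ_snd, ← MultSubLift.ptA_comp, lift_snd]
    rw [e, Category.assoc, Functor.Monoidal.δ_μ, Category.comp_id]
  -- the two shears
  let σ : X ⊗ X ⟶ X ⊗ X := lift (fst X X) P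
  let τ : X ⊗ X ⟶ X ⊗ X := lift P (snd X X)
  have hσ : ∀ {T : Over (Spec (CommRingCat.of R))} (a b : T ⟶ X), lift a b ≫ σ = lift a (m a b) := fun a b => by
    simp [σ, m]
  have hτ : ∀ {T : Over (Spec (CommRingCat.of R))} (a b : T ⟶ X), lift a b ≫ τ = lift (m a b) b := fun a b => by
    simp [τ, m]
  have hsplit : ∀ {T : Over (Spec (CommRingCat.of R))} (z : T ⟶ X ⊗ X), z = lift (z ≫ fst X X) (z ≫ snd X X) :=
    fun z => by simp
  haveI : IsIso σ := FlatThickIso.isIso_of_bijPts hI σ fun T p => by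
    refine ⟨fun z z' e => ?_, fun c => ?_⟩
    · have e' : z ≫ σ = z' ≫ σ := e
      rw [hsplit z, hsplit z', hσ, hσ] at e'
      have e1 := congrArg (· ≫ fst X X) e'
      have e2 := congrArg (· ≫ snd X X) e'
      simp only [lift_fst, lift_snd] at e1 e2
      rw [hsplit z, hsplit z', ← e1]
      congr 1
      apply (MultSubLift.ptA_bijective p X).injective
      have e3 := congrArg (MultSubLift.ptA p) e2
      rwa [hpt, hpt, e1, mul_right_inj] at e3
    · obtain ⟨b, hb⟩ := (MultSubLift.ptA_bijective p X).surjective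
        ((MultSubLift.ptA p (c ≫ fst X X))⁻¹ * MultSubLift.ptA p (c ≫ snd X X))
      refine ⟨lift (c ≫ fst X X) b, ?_⟩
      show _ ≫ σ = c
      rw [hσ, hsplit c]
      simp only [lift_fst]
      congr 1
      apply (MultSubLift.ptA_bijective p X).injective
      try simp only [lift_snd]
      rw [hpt, hb, mul_inv_cancel_left]
  haveI : IsIso τ := FlatThickIso.isIso_of_bijPts hI τ fun T p => by
    refine ⟨fun z z' e => ?_, fun c => ?_⟩
    · have e' : z ≫ τ = z' ≫ τ := e
      rw [hsplit z, hsplit z', hτ, hτ] at e'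
      have e1 := congrArg (· ≫ fst X X) e'
      have e2 := congrArg (· ≫ snd X X) e'
      simp only [lift_fst, lift_snd] at e1 e2
      rw [hsplit z, hsplit z', ← e2]
      congr 1
      apply (MultSubLift.ptA_bijective p X).injective
      have e3 := congrArg (MultSubLift.ptA p) e1
      rwa [hpt, hpt, e2, mul_left_inj] at e3
    · obtain ⟨a, ha⟩ := (MultSubLift.ptA_bijective p X).surjective
        (MultSubLift.ptA p (c ≫ fst X X) * (MultSubLift.ptA p (c ≫ snd X X))⁻¹)
      refine ⟨lift a (c ≫ snd X X), ?_⟩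
      show _ ≫ τ = c
      rw [hτ, hsplit c]
      simp only [lift_snd]
      congr 1
      apply (MultSubLift.ptA_bijective p X).injective
      try simp only [lift_fst]
      rw [hpt, ha, inv_mul_cancel_right]
  have canL : ∀ {T : Over (Spec (CommRingCat.of R))} (a b b' : T ⟶ X), m a b = m a b' → b = b' := fun a b b' e => by
    have h : lift a b ≫ σ = lift a b' ≫ σ := by rw [hσ, hσ, e]
    simpa using congrArg (· ≫ snd X X) ((cancel_mono σ).1 h)
  have canR : ∀ {T : Over (Spec (CommRingCat.of R))} (a a' b : T ⟶ X), m a b = m a' b → a = a' := fun a a' b e => by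
    have h : lift a b ≫ τ = lift a' b ≫ τ := by rw [hτ, hτ, e]
    simpa using congrArg (· ≫ fst X X) ((cancel_mono τ).1 h)
  have divR : ∀ {T : Over (Spec (CommRingCat.of R))} (b c : T ⟶ X), ∃ a, m a b = c := fun b c => by
    obtain ⟨z, hz⟩ : ∃ z, z ≫ τ = lift c b := ⟨lift c b ≫ inv τ, by simp⟩
    rw [hsplit z, hτ] at hz
    refine ⟨z ≫ fst X X, ?_⟩
    have e1 := congrArg (· ≫ fst X X) hz
    have e2 := congrArg (· ≫ snd X X) hz
    simp only [lift_fst, lift_snd] at e1 e2
    rwa [e2] at e1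
  -- the unit
  let ε : X ⟶ X := (lift (𝟙 X) (𝟙 X) ≫ inv σ) ≫ snd X X
  have hε0 : m (𝟙 X) ε = 𝟙 X := by
    have h : lift (𝟙 X) (𝟙 X) = ((lift (𝟙 X) (𝟙 X) ≫ inv σ)) ≫ σ := by simp
    rw [hsplit (lift (𝟙 X) (𝟙 X) ≫ inv σ), hσ] at h
    have e1 := congrArg (· ≫ fst X X) h
    have e2 := congrArg (· ≫ snd X X) h
    simp only [lift_fst, lift_snd] at e1 e2
    rw [← e1] at e2
    exact e2.symm
  have hεr : ∀ {T : Over (Spec (CommRingCat.of R))} (a : T ⟶ X), m a (a ≫ ε) = a := fun a => by
    have h := congrArg (a ≫ ·) hε0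
    simpa [hm] using h
  have hεconst : ∀ {T : Over (Spec (CommRingCat.of R))} (a b : T ⟶ X), a ≫ ε = b ≫ ε := fun a b => by
    obtain ⟨c, hc⟩ := divR a b
    refine canL b _ _ ?_
    rw [hεr b]
    conv_lhs => rw [← hc]
    rw [hass, hεr a, hc]
  haveI : Surjective X.hom := ⟨fun s => by
    haveI : Surjective q := ⟨fun x => by
      obtain ⟨k, hk⟩ := hI
      have : (x : PrimeSpectrum R) ∈ Set.range (PrimeSpectrum.comap (Ideal.Quotient.mk I)) := by
        rw [range_comap_of_surjective _ _ Ideal.Quotient.mk_surjective, Ideal.mk_ker]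
        exact fun r hr => nilradical_le_prime _ (⟨k, by simpa [hk] using Ideal.pow_mem_pow hr k⟩ : IsNilpotent r)
      exact this⟩
    obtain ⟨t, rfl⟩ := q.surjective s
    refine ⟨pullback.fst X.hom q (η[F.obj X].left t), ?_⟩
    rw [← Scheme.Hom.comp_apply, pullback.condition, Scheme.Hom.comp_apply]
    congr 1
    rw [← Scheme.Hom.comp_apply]
    exact congrArg (fun g : (𝟙_ (Over (Spec (CommRingCat.of (R ⧸ I))))).left ⟶ Spec (CommRingCat.of (R ⧸ I)) => g t) (Over.w η[F.obj X])⟩
  haveI : EffectiveEpi X.hom := by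
    rcases hX with h | h <;> infer_instance
  obtain ⟨e₀, he₀⟩ : ∃ e₀, X.hom ≫ e₀ = ε.left := ⟨_, EffectiveEpi.fac X.hom ε.left fun {Z} g₁ g₂ hg =>
    congrArg CommaMorphism.left (hεconst (Over.homMk g₁ rfl : Over.mk (g₁ ≫ X.hom) ⟶ X) (Over.homMk g₂ hg.symm))⟩
  have he₁ : e₀ ≫ X.hom = 𝟙 _ := by
    rw [← cancel_epi X.hom, reassoc_of% he₀, Over.w ε, Category.comp_id]
  let e : 𝟙_ (Over (Spec (CommRingCat.of R))) ⟶ X := Over.homMk e₀ he₁
  have he : ∀ {T : Over (Spec (CommRingCat.of R))} (a : T ⟶ X), toUnit T ≫ e = a ≫ ε := fun a => by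
    rw [show ε = toUnit X ≫ e from Over.OverMorphism.ext he₀.symm, ← Category.assoc, comp_toUnit]
  have hεl : ∀ {T : Over (Spec (CommRingCat.of R))} (a : T ⟶ X), m (a ≫ ε) a = a := fun a =>
    canL a _ _ (by rw [← hass, hεr])
  -- the inverse
  let iv : X ⟶ X := (lift (𝟙 X) ε ≫ inv σ) ≫ snd X X
  have hivr : m (𝟙 X) iv = ε := by
    have h : lift (𝟙 X) ε = ((lift (𝟙 X) ε ≫ inv σ)) ≫ σ := by simp
    rw [hsplit (lift (𝟙 X) ε ≫ inv σ), hσ] at h
    have e1 := congrArg (· ≫ fst X X) h
    have e2 := congrArg (· ≫ snd X X) h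
    simp only [lift_fst, lift_snd] at e1 e2
    rw [← e1] at e2
    exact e2.symm
  have hivl : m iv (𝟙 X) = ε := canL (𝟙 X) _ _ (by
    rw [← hass, hivr, hε0]
    simpa using hεl (𝟙 X))
  refine ⟨{ one := e, mul := P, one_mul := ?_, mul_one := ?_, mul_assoc := hassoc,
            inv := iv, left_inv := ?_, right_inv := ?_ }, rfl⟩
  · have h := hεl (snd (𝟙_ (Over (Spec (CommRingCat.of R)))) X)
    rw [← he, toUnit_unique (toUnit _) (fst (𝟙_ (Over (Spec (CommRingCat.of R)))) X), leftUnitor_hom] at *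
    rw [← h]
    simp only [m]
    congr 1
  · have h := hεr (fst X (𝟙_ (Over (Spec (CommRingCat.of R)))))
    rw [← he, toUnit_unique (toUnit _) (snd X (𝟙_ (Over (Spec (CommRingCat.of R))))), rightUnitor_hom] at *
    rw [← h]
    simp only [m]
    congr 1
  · exact hivl.trans ((he (𝟙 X)).trans (Category.id_comp ε)).symm
  · exact hivr.trans ((he (𝟙 X)).trans (Category.id_comp ε)).symm

end Groth.Agent.S8366
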