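import Groth.Statements.S8367
import Groth.Agent.S8656
import Groth.Agent.S8894
import Groth.Agent.S8905
import Groth.Agent.CohDer1.GroupSyntomic
import Groth.Agent.Synt15.LCIBridge

set_option autoImplicit false
set_option linter.style.haveILetI false
set_option backward.isDefEq.respectTransparency.types false
universe u
open CategoryTheory MonObj AlgebraicGeometry
open SGA3

namespace Groth.Agent.S8367

/-- For a scheme S, a group scheme X smooth over S and a sub-group-scheme Y of X (a homomorphism of
S-group schemes from Y to X which is an immersion) with Y flat and locally of finite presentation
over S, the immersion of Y in X is regular: each point of Y has an affine open neighbourhood in X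
over which the immersion is closed and cut out by a regular sequence. (The published statement
concludes that Y is a local complete intersection in X, in the Koszul sense; this row states the
stronger conclusion that the immersion is regular, which is what the printed proof establishes.) -/
theorem result (S : Scheme.{u}) (X Y : Over S) [GrpObj X] [GrpObj Y]
    [Smooth X.hom] [Flat Y.hom] [LocallyOfFinitePresentation Y.hom] (i : Y ⟶ X) [IsMonHom i]
    [IsImmersion i.left] :
    RegImm.IsRegularImmersion .regular i.left := by
  have hs := Groth.Agent.CohDer1.GroupSyntomic.isSyntomicMor Y
  have hk : ∀ y : Y.left, Synt.IsKoszulAt Y.hom y := fun y =>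
    Groth.Agent.Synt15.isKoszulAt_of_isKoszulPt _ (Groth.Agent.Synt15.isKoszulPt_of_isSyntomicAt _ (hs y))
  have h1 := Groth.Agent.S8656.result Y.hom hk X.hom i.left (Over.w i)
  obtain ⟨-, h2, h3⟩ := Groth.Agent.S8905.result i.left
  exact (Groth.Agent.S8894.result X.hom i.left ⟨h3 (h2 h1), by rw [Over.w]; infer_instance⟩).1

end Groth.Agent.S8367
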