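import Groth.Statements.S8369
import Mathlib

set_option autoImplicit false
universe u v
open SGA3

namespace Groth.Agent.S8369

/-- Let A be a commutative ring, J a nilpotent ideal, N ⊆ M A-modules with M/N flat over A. If elements
of N have images generating the image of N in M/JM, then they generate N. (The published statement
takes finitely many elements; this row allows an arbitrary set, which the same argument permits.) -/
theorem result (A : Type u) [CommRing A] (J : Ideal A) (hJ : IsNilpotent J)
    (M : Type v) [AddCommGroup M] [Module A M] (N : Submodule A M) [Module.Flat A (M ⧸ N)] (s : Set M)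
    (hs : s ⊆ N)
    (hgen : (Submodule.span A s).map (J • (⊤ : Submodule A M)).mkQ = N.map (J • (⊤ : Submodule A M)).mkQ) :
    Submodule.span A s = N := by
  obtain ⟨n, hn⟩ := hJ
  set S := Submodule.span A s
  have hSN : S ≤ N := Submodule.span_le.mpr hs
  have hint : N ⊓ J • ⊤ ≤ J • N := by
    rintro x ⟨hxN, hxJ⟩
    obtain ⟨c, hc⟩ := (Submodule.mem_ideal_smul_span_iff_exists_sum J (_root_.id : M → M) x).mp
      (by simpa using hxJ)
    obtain ⟨hcJ, hcx⟩ := hc
    have h0 : ∑ m : c.support, c m.1 • N.mkQ m.1 = 0 := by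
      rw [Finset.sum_coe_sort c.support (fun m => c m • N.mkQ m)]
      simp only [← map_smul, ← map_sum]
      rw [Submodule.mkQ_apply, Submodule.Quotient.mk_eq_zero]
      have hcx' : ∑ m ∈ c.support, c m • m = x := hcx
      rw [hcx']; exact hxN
    obtain ⟨k, a, y, hy, ha⟩ := Module.Flat.isTrivialRelation_of_sum_smul_eq_zero h0
    choose z hz using fun j => Submodule.mkQ_surjective N (y j)
    have hmem : ∀ m : c.support, m.1 - ∑ j, a m j • z j ∈ N := fun m => by
      rw [← Submodule.Quotient.mk_eq_zero, ← Submodule.mkQ_apply, map_sub, map_sum, show N.mkQ m.1 = _ from hy m]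
      simp [map_smul, ← hz]
    have hx : x = ∑ m : c.support, c m.1 • (m.1 - ∑ j, a m j • z j) := by
      simp only [smul_sub, Finset.sum_sub_distrib, Finset.smul_sum, smul_smul]
      rw [Finset.sum_comm, Finset.sum_coe_sort c.support (fun m => c m • m)]
      simp only [← Finset.sum_smul, ha, zero_smul, Finset.sum_const_zero, sub_zero]
      exact hcx.symm
    rw [hx]
    exact Submodule.sum_mem _ fun m _ => Submodule.smul_mem_smul (hcJ _) (hmem m)
  have h1 : N ≤ S ⊔ J • N := by
    intro x hx
    have h2 : (J • (⊤ : Submodule A M)).mkQ x ∈ S.map (J • (⊤ : Submodule A M)).mkQ :=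
      hgen ▸ Submodule.mem_map_of_mem hx
    obtain ⟨y, hy, hyx⟩ := h2
    have h3 : x - y ∈ J • (⊤ : Submodule A M) := (Submodule.Quotient.eq _).mp hyx.symm
    rw [show x = y + (x - y) by abel]
    exact Submodule.add_mem_sup hy (hint ⟨sub_mem hx (hSN hy), h3⟩)
  have h2 : ∀ m : ℕ, N ≤ S ⊔ (J ^ m) • N := by
    intro m
    induction m with
    | zero => rw [pow_zero, Submodule.one_smul]; exact le_sup_right
    | succ m ih =>
      refine ih.trans (sup_le le_sup_left ?_)
      calc (J ^ m) • N ≤ (J ^ m) • (S ⊔ J • N) := Submodule.smul_mono le_rfl h1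
        _ = (J ^ m) • S ⊔ (J ^ (m + 1)) • N := by rw [Submodule.smul_sup, ← Submodule.smul_assoc, smul_eq_mul, ← pow_succ]
        _ ≤ _ := sup_le_sup_right Submodule.smul_le_right _
  refine le_antisymm hSN ?_
  have := h2 n
  rwa [hn, show (0 : Ideal A) = ⊥ from rfl, Submodule.bot_smul, sup_bot_eq] at this

end Groth.Agent.S8369
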