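import Groth.Statements.S8370
import Groth.Agent.LieSLib.Basic
import Mathlib.AlgebraicGeometry.Cover.Open

set_option autoImplicit false
universe u
open CategoryTheory MonObj AlgebraicGeometry
open LieS

namespace Groth.Agent.S8370

/-- For a group scheme G over a scheme S (the group law of the Lie algebra functor of a group scheme is
commutative, which the published statement assumes), a sub-group-scheme K of G given by a
monomorphic homomorphism i, and an affine S-scheme T = Spec B: an element x of Lie(G/S)(T) belongs
to the Lie algebra of the centraliser of K, i.e. the point x of G with values in the dual numbers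
I_T commutes with every point of K with values in any scheme over I_T, if and only if x is fixed by
the adjoint action of every point of K with values in an affine scheme T' = Spec B' over T (acting
on the restriction of x to T'). -/
theorem result (S : Scheme.{u}) (G K : Over S) [GrpObj G] [GrpObj K] (i : K ⟶ G)
    [IsMonHom i] [Mono i] (B : Type u) [CommRing B] (f : Spec (CommRingCat.of B) ⟶ S) (x : LieS.Lie G B f) :
    (∀ (X' : Over S) (y : X' ⟶ LieS.dpt B f) (h : X' ⟶ K), (y ≫ x.1) * (h ≫ i) = (h ≫ i) * (y ≫ x.1)) ↔
    (∀ (B' : Type u) [CommRing B'] (h : B →+* B')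
      (k : LieS.pt B' (Spec.map (CommRingCat.ofHom h) ≫ f) ⟶ K),
      LieS.Ad G B' (Spec.map (CommRingCat.ofHom h) ≫ f) (k ≫ i) (LieS.pull G f h x) = LieS.pull G f h x) := by
  constructor
  · intro H B' _ h k
    have hp : LieS.pull G f h x = ⟨LieS.dptMap f h ≫ x.1, (LieS.pull G f h x).2⟩ := rfl
    have := H _ (LieS.dptMap f h) (LieS.proj B' (Spec.map (CommRingCat.ofHom h) ≫ f) ≫ k)
    rw [Category.assoc] at this
    refine Subtype.ext ?_
    change (LieS.proj B' _ ≫ k ≫ i) * (LieS.dptMap f h ≫ x.1) * (LieS.proj B' _ ≫ k ≫ i)⁻¹ = LieS.dptMap f h ≫ x.1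
    rw [← this, _root_.mul_assoc, _root_.mul_inv_cancel, _root_.mul_one]
  · intro H X' y h
    refine Over.OverMorphism.ext (Scheme.Cover.hom_ext X'.left.affineOpenCover.openCover _ _ fun a => ?_)
    change X'.left.affineOpenCover.f a ≫ _ = X'.left.affineOpenCover.f a ≫ _
    generalize X'.left.affineOpenCover.f a = jl
    generalize X'.left.affineOpenCover.X a = C at jl ⊢
    let φc := Spec.preimage (jl ≫ y.left)
    let φ : DualNumber B →+* C := φc.hom
    let h0 : B →+* C := φ.comp (algebraMap B (DualNumber B))
    have hφ : Spec.map (CommRingCat.ofHom φ) = jl ≫ y.left := Spec.map_preimage _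
    have hstr : Spec.map (CommRingCat.ofHom h0) ≫ f = jl ≫ X'.hom := by
      rw [← Over.w y]
      change _ = jl ≫ y.left ≫ Spec.map _ ≫ f
      rw [← Category.assoc jl, ← hφ]
      erw [← Category.assoc]
      exact congrArg (· ≫ f) (LieS.specMap_comp _ _).symm
    let T := LieS.pt (C : Type u) (Spec.map (CommRingCat.ofHom h0) ≫ f)
    let j : T ⟶ X' := Over.homMk jl hstr.symm
    let c : C := φ DualNumber.eps
    have hc : c * c = 0 := by rw [← map_mul, DualNumber.eps_mul_eps, map_zero]
    let s : T ⟶ LieS.dpt (C : Type u) (Spec.map (CommRingCat.ofHom h0) ≫ f) :=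
      Over.homMk (Spec.map (CommRingCat.ofHom (LieS.dualHom (RingHom.id C) c hc))) (by
        change Spec.map _ ≫ Spec.map _ ≫ _ = _
        rw [← Category.assoc, LieS.specMap_comp, LieS.dualHom_comp_algebraMap, CommRingCat.ofHom_id]
        erw [Spec.map_id]
        exact Category.id_comp _)
    have hs : s ≫ LieS.proj (C : Type u) _ = 𝟙 T := by
      refine Over.OverMorphism.ext ?_
      change Spec.map _ ≫ Spec.map _ = 𝟙 _
      rw [LieS.specMap_comp, LieS.dualHom_comp_algebraMap, CommRingCat.ofHom_id]
      exact Spec.map_id _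
    have hy : s ≫ LieS.dptMap f h0 = j ≫ y := by
      refine Over.OverMorphism.ext ?_
      change Spec.map _ ≫ Spec.map _ = jl ≫ y.left
      rw [LieS.specMap_comp, ← hφ]
      congr 2
      refine RingHom.ext fun w => ?_
      have hw : w = algebraMap B (DualNumber B) w.fst + algebraMap B (DualNumber B) w.snd * DualNumber.eps := by
        ext <;> simp [TrivSqZeroExt.algebraMap_eq_inl']
      conv_rhs => rw [hw, map_add, map_mul]
      simp [LieS.bcHom, h0, c, TrivSqZeroExt.algebraMap_eq_inl']
    have hk := congrArg Subtype.val (H (C : Type u) h0 (j ≫ h))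
    change (LieS.proj (C : Type u) _ ≫ (j ≫ h) ≫ i) * (LieS.dptMap f h0 ≫ x.1) *
      (LieS.proj (C : Type u) _ ≫ (j ≫ h) ≫ i)⁻¹ = LieS.dptMap f h0 ≫ x.1 at hk
    rw [mul_inv_eq_iff_eq_mul] at hk
    have key := congrArg (fun k => s ≫ k) hk
    simp only [MonObj.comp_mul] at key
    simp only [← Category.assoc, hs, hy, Category.id_comp] at key
    have goal : j ≫ ((y ≫ x.1) * (h ≫ i)) = j ≫ ((h ≫ i) * (y ≫ x.1)) := by
      rw [MonObj.comp_mul, MonObj.comp_mul]
      simp only [← Category.assoc]
      exact key.symm
    exact congrArg CommaMorphism.left goal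

end Groth.Agent.S8370
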