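import Groth.Statements.S8371
import Groth.Agent.LieSLib.Basic

set_option autoImplicit false
universe u
open CategoryTheory MonObj AlgebraicGeometry
open LieS

namespace Groth.Agent.S8371

/-- The sequence of Lie algebras, with M = O_S: if 1 → G' → G → G'' → 1 is a sequence of homomorphisms
of group schemes over a scheme S which is exact on points with values in every S-scheme, then for
every affine S-scheme T = Spec B the derived morphisms give an exact sequence 1 → Lie(G'/S)(T) →
Lie(G/S)(T) → Lie(G''/S)(T) → 1: the first is injective, the second surjective, and the kernel of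
the second is the image of the first. -/
theorem result (S : Scheme.{u}) (G' G G'' : Over S) [GrpObj G'] [GrpObj G] [GrpObj G'']
    (i : G' ⟶ G) [IsMonHom i] (q : G ⟶ G'') [IsMonHom q]
    (hex : ∀ T : Over S, Function.Injective (fun a : T ⟶ G' => a ≫ i) ∧
      Function.Surjective (fun b : T ⟶ G => b ≫ q) ∧ ∀ b : T ⟶ G, b ≫ q = 1 ↔ ∃ a : T ⟶ G', a ≫ i = b)
    (B : Type u) [CommRing B] (f : Spec (CommRingCat.of B) ⟶ S) :
    Function.Injective (LieS.map B f i) ∧ Function.Surjective (LieS.map B f q) ∧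
      ∀ v : LieS.Lie G B f, LieS.map B f q v = 1 ↔ ∃ w : LieS.Lie G' B f, LieS.map B f i w = v := by
  refine ⟨fun a b hab => Subtype.ext ((hex _).1 (congrArg Subtype.val hab)), fun w => ?_, fun v => ⟨fun hv => ?_, ?_⟩⟩
  · obtain ⟨b, hb⟩ := (hex (LieS.dpt B f)).2.1 w.1
    let c : LieS.pt B f ⟶ G := LieS.zeroSec B f ≫ b
    refine ⟨⟨b * (LieS.proj B f ≫ c)⁻¹, ?_⟩, Subtype.ext ?_⟩
    · change LieS.res G B f (b * (LieS.proj B f ≫ c)⁻¹) = 1
      rw [map_mul, map_inv, LieS.res_apply, LieS.res_apply, ← Category.assoc (LieS.zeroSec B f) (LieS.proj B f),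
        LieS.zeroSec_proj, Category.id_comp, mul_inv_cancel]
    · change (b * (LieS.proj B f ≫ c)⁻¹) ≫ q = w.1
      have hc : (LieS.proj B f ≫ c) ≫ q = 1 := by
        rw [Category.assoc]
        change LieS.proj B f ≫ (LieS.zeroSec B f ≫ b) ≫ q = 1
        rw [Category.assoc, show b ≫ q = w.1 from hb, show LieS.zeroSec B f ≫ w.1 = 1 from w.2, MonObj.comp_one]
      change IsMonHom.monoidHom q (LieS.dpt B f) (b * (LieS.proj B f ≫ c)⁻¹) = w.1
      rw [map_mul, map_inv]
      change (b ≫ q) * ((LieS.proj B f ≫ c) ≫ q)⁻¹ = w.1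
      rw [hc, inv_one, _root_.mul_one]
      exact hb
  · obtain ⟨a, ha⟩ := ((hex (LieS.dpt B f)).2.2 v.1).mp (congrArg Subtype.val hv)
    refine ⟨⟨a, (hex (LieS.pt B f)).1 ?_⟩, Subtype.ext ha⟩
    change (LieS.zeroSec B f ≫ a) ≫ i = (1 : LieS.pt B f ⟶ G') ≫ i
    rw [Category.assoc, ha, show LieS.zeroSec B f ≫ v.1 = 1 from v.2]
    exact (map_one (IsMonHom.monoidHom i (LieS.pt B f))).symm
  · rintro ⟨w, rfl⟩
    exact Subtype.ext (((hex (LieS.dpt B f)).2.2 _).mpr ⟨w.1, rfl⟩)

end Groth.Agent.S8371
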