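import Groth.Statements.S8372
import Groth.Agent.CartanRel26.Descent

set_option autoImplicit false
set_option linter.style.haveILetI false
set_option backward.isDefEq.respectTransparency.types false
universe u
open scoped TensorProduct
open SGA3t2b

namespace Groth.Agent.S8372

/-- Over an affine base Spec A: let L be a Lie algebra over the commutative ring A which is a finitely
generated projective A-module, and a an element of L which is quasi-regular (its image in every
fibre κ(p) ⊗ L is a regular element). Then every Cartan subalgebra of L relative to A (locally a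
direct summand, with nilpotent self-normalizing fibres) which contains a is the Engel subalgebra
Nil(a, L) of elements killed by a power of ad(a); and a lies in some relative Cartan subalgebra (a
is regular) if and only if the quotient module of L by Nil(a, L) is projective and ad(a) induces a
bijection of that quotient (injective and surjective modulo Nil(a, L)). -/
theorem result {A : Type u} [CommRing A] {L : Type u} [LieRing L]
    [LieAlgebra A L] [Module.Finite A L] [Module.Projective A L] (a : L) (ha : SGA3t2b.IsQuasiRegular A L a) :
    (∀ H : LieSubalgebra A L, SGA3t2b.IsCartanRel H → a ∈ H → H = LieSubalgebra.engel A a) ∧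
    ((∃ H : LieSubalgebra A L, SGA3t2b.IsCartanRel H ∧ a ∈ H) ↔
      (Module.Projective A (L ⧸ (LieSubalgebra.engel A a).toSubmodule) ∧
        (∀ z : L, ⁅a, z⁆ ∈ LieSubalgebra.engel A a → z ∈ LieSubalgebra.engel A a) ∧
        (∀ y : L, ∃ z : L, ⁅a, z⁆ - y ∈ LieSubalgebra.engel A a))) := by
  refine ⟨fun H hH haH => CartanRel26.eq_engel H hH haH ha, ?_, ?_⟩
  · rintro ⟨H, hH, haH⟩
    have hW : H.toSubmodule ≤ H.toSubmodule.comap (LieAlgebra.ad A L a) := fun y hy =>
      H.lie_mem haH hy
    obtain ⟨hinj, hsur⟩ := CartanRel26.bijective_mapQ H hH haH hW ha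
    rw [← CartanRel26.eq_engel H hH haH ha]
    refine ⟨hH.1, fun z hz => ?_, fun y => ?_⟩
    · refine (Submodule.Quotient.mk_eq_zero H.toSubmodule).1 (hinj ?_)
      rw [map_zero]
      exact (Submodule.Quotient.mk_eq_zero H.toSubmodule).2 hz
    · obtain ⟨w, hw⟩ := hsur (H.toSubmodule.mkQ y)
      obtain ⟨z, rfl⟩ := H.toSubmodule.mkQ_surjective w
      exact ⟨z, (Submodule.Quotient.eq H.toSubmodule).1 hw⟩
  · rintro ⟨hproj, -, hsur⟩
    exact ⟨_, CartanRel26.isCartanRel_engel a ha hproj hsur, LieSubalgebra.self_mem_engel A a⟩

end Groth.Agent.S8372
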