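import Groth.Statements.S8373
import Groth.Agent.CartanRel26.Descent

set_option autoImplicit false
set_option linter.style.haveILetI false
set_option backward.isDefEq.respectTransparency.types false
universe u
open scoped TensorProduct
open SGA3t2b

namespace Groth.Agent.S8373

/-- Over an affine base Spec A: let L be a Lie algebra over A which is a finitely generated projective
A-module, H a Cartan subalgebra of L relative to A, a an element of H which is quasi-regular in L,
and u an automorphism of the Lie algebra L over A. Then u(H) = H if and only if u(a) ∈ H. -/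
theorem result {A : Type u} [CommRing A] {L : Type u} [LieRing L]
    [LieAlgebra A L] [Module.Finite A L] [Module.Projective A L]
    (H : LieSubalgebra A L) (hH : SGA3t2b.IsCartanRel H) (a : L) (haH : a ∈ H)
    (ha : SGA3t2b.IsQuasiRegular A L a) (u : L ≃ₗ⁅A⁆ L) :
    H.map u.toLieHom = H ↔ u a ∈ H := by
  refine ⟨fun h => h ▸ ⟨a, haH, rfl⟩, fun h => ?_⟩
  have hua : SGA3t2b.IsQuasiRegular A L (u a) := fun p => by
    let e := u.toLinearEquiv.baseChange A p.asIdeal.ResidueField L L
    have he : ∀ x y, e ⁅x, y⁆ = ⁅e x, e y⁆ := fun x y => by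
      induction x using TensorProduct.induction_on with
      | zero => simp
      | add x x' hx hx' => simp [hx, hx']
      | tmul c x =>
        induction y using TensorProduct.induction_on with
        | zero => simp
        | add y y' hy hy' => simp [hy, hy']
        | tmul d y => simp [e, LieAlgebra.ExtendScalars.bracket_tmul]; exact congrArg _ (u.map_lie x y)
    have := (CartanRel26.isRegular_equiv_iff _ e he _).2 (ha p)
    simpa [e] using this
  have h1 := CartanRel26.eq_engel H hH haH ha
  have h2 := CartanRel26.eq_engel H hH h hua
  have key : ∀ (k : ℕ) (y : L), u (((LieAlgebra.ad A L a) ^ k) y) =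
      ((LieAlgebra.ad A L (u a)) ^ k) (u y) := by
    intro k
    induction k with
    | zero => simp
    | succ k ih => intro y; rw [pow_succ, Module.End.mul_apply, ih, pow_succ, Module.End.mul_apply]; exact congrArg _ (u.map_lie a y)
  ext z
  constructor
  · rintro ⟨y, hy, rfl⟩
    rw [SetLike.mem_coe, LieSubalgebra.mem_toSubmodule, h1, LieSubalgebra.mem_engel_iff] at hy
    obtain ⟨k, hk⟩ := hy
    rw [h2, LieSubalgebra.mem_engel_iff]
    exact ⟨k, by rw [← map_zero u, ← hk, key]; rfl⟩
  · intro hz
    rw [h2, LieSubalgebra.mem_engel_iff] at hz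
    obtain ⟨k, hk⟩ := hz
    refine ⟨u.symm z, ?_, by simp⟩
    rw [SetLike.mem_coe, LieSubalgebra.mem_toSubmodule, h1, LieSubalgebra.mem_engel_iff]
    refine ⟨k, u.injective ?_⟩
    change u (((LieAlgebra.ad A L a) ^ k) (u.symm z)) = u 0
    rw [key, u.apply_symm_apply, hk]
    exact (map_zero u.toLinearEquiv).symm

end Groth.Agent.S8373
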