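import Groth.Statements.S8374
import Groth.Agent.CartanRel26.Descent
import Groth.Agent.LieNilp26.Basic

set_option autoImplicit false
set_option linter.style.haveILetI false
set_option backward.isDefEq.respectTransparency.types false
universe u
open scoped TensorProduct
open SGA3t2b

namespace Groth.Agent.S8374

/-- Over an affine base Spec A: let L be a Lie algebra over A which is a finitely generated projective
A-module, H a Cartan subalgebra of L relative to A, and p a prime of A whose residue field is
infinite. Then there are f ∈ A with f ∉ p and an element a ∈ H such that a is a regular element of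
every fibre κ(q) ⊗ L with f ∉ q, H is contained in the Engel subalgebra Nil(a, L), and every element
of Nil(a, L) is carried into H by some power of f; that is, over the basic open set D(f) the section
a is regular and H coincides with Nil(a, L). (The published statement gives a regular section of H
over some open neighbourhood of p; this row takes a global element of H and a basic open
neighbourhood D(f), which is equivalent over an affine base because multiplying by a function
invertible on D(f) does not change regularity.) -/
theorem result {A : Type u} [CommRing A] {L : Type u} [LieRing L]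
    [LieAlgebra A L] [Module.Finite A L] [Module.Projective A L]
    (H : LieSubalgebra A L) (hH : SGA3t2b.IsCartanRel H) (p : PrimeSpectrum A)
    (hp : Infinite p.asIdeal.ResidueField) :
    ∃ f : A, f ∉ p.asIdeal ∧ ∃ a : L, a ∈ H ∧
      (∀ q : PrimeSpectrum A, f ∉ q.asIdeal →
        LieAlgebra.IsRegular q.asIdeal.ResidueField ((1 : q.asIdeal.ResidueField) ⊗ₜ[A] a)) ∧
      H ≤ LieSubalgebra.engel A a ∧
      ∀ y : L, y ∈ LieSubalgebra.engel A a → ∃ n : ℕ, f ^ n • y ∈ H := by
  let K := p.asIdeal.ResidueField
  haveI : Infinite K := hp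
  haveI hn := (hH.2 p).1
  let Hp : LieSubalgebra K (K ⊗[A] L) := (CartanRel26.fibreHom H K).range
  have hHp : Hp.toSubmodule = SGA3t2b.fibreSubmodule p H := rfl
  haveI : Hp.IsCartanSubalgebra :=
    { nilpotent := (CartanRel26.fibreHom H K).surjective_rangeRestrict.lieAlgebra_isNilpotent
      self_normalizing := by
        refine le_antisymm (fun x hx => ?_) (LieSubalgebra.le_normalizer _)
        rw [LieSubalgebra.mem_normalizer_iff] at hx
        exact (hH.2 p).2.1 x hx }
  obtain ⟨x, hx, hxr⟩ := CartanRel26.exists_isRegular_mem K Hp (hH.2 p).2.2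
  obtain ⟨w, rfl⟩ := hx
  obtain ⟨c, h, rfl⟩ := LieNilp26.exists_eq_smul_one_tmul (A := A) p.asIdeal H w
  have hap : LieAlgebra.IsRegular K ((1 : K) ⊗ₜ[A] (h : L)) ∨
      LieAlgebra.IsRegular K ((1 : K) ⊗ₜ[A] (0 : L)) := by
    have e : CartanRel26.fibreHom H K (c • ((1 : K) ⊗ₜ[A] h)) = c • ((1 : K) ⊗ₜ[A] (h : L)) := by
      rw [map_smul]; rfl
    change LieAlgebra.IsRegular K (CartanRel26.fibreHom H K (c • ((1 : K) ⊗ₜ[A] h))) at hxr
    rw [e] at hxr
    by_cases hc : c = 0
    · right; simpa [hc] using hxr
    · left
      have := CartanRel26.isRegular_smul K hxr (inv_ne_zero hc)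
      rwa [inv_smul_smul₀ hc] at this
  obtain ⟨a, haH, har⟩ : ∃ a ∈ H, LieAlgebra.IsRegular K ((1 : K) ⊗ₜ[A] a) :=
    hap.elim (fun h' => ⟨h, h.2, h'⟩) (fun h' => ⟨0, H.zero_mem, h'⟩)
  obtain ⟨f, hf, hreg⟩ := CartanRel26.exists_nhd_isRegular p
    (CartanRel26.exists_nhd_of_isLocallyConstant _ (CartanRel26.isLocallyConstant_rankAt H hH) p) a har
  exact ⟨f, hf, a, haH, hreg, CartanRel26.le_engel H hH haH,
    fun y hy => CartanRel26.exists_pow_smul_mem H hH haH f hreg hy⟩

end Groth.Agent.S8374
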