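import Groth.Statements.S8376
import Groth.Agent.CartanRel26.Descent
import Groth.Agent.LieNilp26.Basic

set_option autoImplicit false
set_option linter.style.haveILetI false
set_option backward.isDefEq.respectTransparency.types false
universe u
open scoped TensorProduct
open SGA3t2b

namespace Groth.Agent.S8376

/-- Over an affine base Spec A: let L be a Lie algebra over A which is a finitely generated projective
A-module satisfying condition (C₂): the nilpotent rank of the fibres κ(p) ⊗ L is locally constant on
Spec A and, for every A-algebra A', every quasi-regular element of A' ⊗ L is regular (lies in a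
relative Cartan subalgebra). Then for every prime p such that κ(p) ⊗ L has a regular element
(automatic when κ(p) is infinite) there is f ∉ p such that the Lie algebra A_f ⊗ L over the
localisation A_f has a Cartan subalgebra relative to A_f. -/
theorem result {A : Type u} [CommRing A] {L : Type u} [LieRing L]
    [LieAlgebra A L] [Module.Finite A L] [Module.Projective A L]
    (hC2 : ((∀ p : PrimeSpectrum A, ∃ f : A, f ∉ p.asIdeal ∧ ∀ q : PrimeSpectrum A, f ∉ q.asIdeal →
        LieAlgebra.rank q.asIdeal.ResidueField (q.asIdeal.ResidueField ⊗[A] L) =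
          LieAlgebra.rank p.asIdeal.ResidueField (p.asIdeal.ResidueField ⊗[A] L)) ∧
      ∀ (A' : Type u) [CommRing A'] [Algebra A A'] (a' : A' ⊗[A] L),
        SGA3t2b.IsQuasiRegular A' (A' ⊗[A] L) a' → SGA3t2b.IsRegularRel A' (A' ⊗[A] L) a'))
    (p : PrimeSpectrum A)
    (hp : ∃ x : p.asIdeal.ResidueField ⊗[A] L, LieAlgebra.IsRegular p.asIdeal.ResidueField x) :
    ∃ f : A, f ∉ p.asIdeal ∧
      ∃ H : LieSubalgebra (Localization.Away f) (Localization.Away f ⊗[A] L), SGA3t2b.IsCartanRel H := by
  obtain ⟨x, hx⟩ := hp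
  obtain ⟨c, a₁, rfl⟩ := LieNilp26.exists_eq_smul_one_tmul (A := A) p.asIdeal L x
  obtain ⟨a, ha⟩ : ∃ a : L, LieAlgebra.IsRegular p.asIdeal.ResidueField
      ((1 : p.asIdeal.ResidueField) ⊗ₜ[A] a) := by
    by_cases hc : c = 0
    · exact ⟨0, by simpa [hc] using hx⟩
    · have := CartanRel26.isRegular_smul _ hx (inv_ne_zero hc)
      rw [inv_smul_smul₀ hc] at this
      exact ⟨a₁, this⟩
  obtain ⟨f, hf, hreg⟩ := CartanRel26.exists_nhd_isRegular p (hC2.1 p) a ha
  refine ⟨f, hf, ?_⟩
  have hqr : SGA3t2b.IsQuasiRegular (Localization.Away f) (Localization.Away f ⊗[A] L)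
      ((1 : Localization.Away f) ⊗ₜ[A] a) := fun Q => by
    rw [CartanRel26.isRegular_baseChange_fibre_iff]
    refine hreg _ fun hmem => ?_
    exact Q.2.ne_top (Ideal.eq_top_of_isUnit_mem _ hmem
      (IsLocalization.Away.algebraMap_isUnit (S := Localization.Away f) f))
  obtain ⟨-, H, hH, -⟩ := hC2.2 _ _ hqr
  exact ⟨H, hH⟩

end Groth.Agent.S8376
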