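import Groth.Statements.S8377
import Groth.Agent.CartanRel26.Descent
import Groth.Agent.LieNilp26.Basic
import Mathlib.RingTheory.Etale.Pi
import Mathlib.RingTheory.Flat.FaithfullyFlat.Algebra
import Mathlib.RingTheory.Etale.Weakly

set_option autoImplicit false
set_option linter.style.haveILetI false
set_option backward.isDefEq.respectTransparency.types false
universe u
open scoped TensorProduct
open SGA3t2b

namespace Groth.Agent.S8377

/-- Let L be a Lie algebra over the commutative ring A which is a finitely generated projective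
A-module. Suppose that the nilpotent rank of the fibres κ(p) ⊗ L is locally constant on Spec A, that
for every A-algebra A' every quasi-regular element of A' ⊗ L is regular (condition (C₂)), and that
every fibre κ(p) ⊗ L has a regular element (automatic when every residue field of A is infinite).
Then L acquires a relative Cartan subalgebra after a faithfully flat etale base change A → A'
(condition (C′₁)). (The published implication (C₂) ⇒ (C′₁) is over an arbitrary base and has no
hypothesis on regular elements of the fibres; this row is over an affine base and assumes every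
fibre has a regular element, the case in which the published argument, through the existence of a
Cartan subalgebra Zariski-locally near each such point, is complete.) -/
theorem result {A : Type u} [CommRing A] {L : Type u} [LieRing L]
    [LieAlgebra A L] [Module.Finite A L] [Module.Projective A L]
    (hC2 : ((∀ p : PrimeSpectrum A, ∃ f : A, f ∉ p.asIdeal ∧ ∀ q : PrimeSpectrum A, f ∉ q.asIdeal →
        LieAlgebra.rank q.asIdeal.ResidueField (q.asIdeal.ResidueField ⊗[A] L) =
          LieAlgebra.rank p.asIdeal.ResidueField (p.asIdeal.ResidueField ⊗[A] L)) ∧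
      ∀ (A' : Type u) [CommRing A'] [Algebra A A'] (a' : A' ⊗[A] L),
        SGA3t2b.IsQuasiRegular A' (A' ⊗[A] L) a' → SGA3t2b.IsRegularRel A' (A' ⊗[A] L) a'))
    (hreg : ∀ p : PrimeSpectrum A, ∃ x : p.asIdeal.ResidueField ⊗[A] L, LieAlgebra.IsRegular p.asIdeal.ResidueField x) :
    ∃ (A' : Type u) (_ : CommRing A') (_ : Algebra A A'), Algebra.Etale A A' ∧ Module.FaithfullyFlat A A' ∧
        ∃ H : LieSubalgebra A' (A' ⊗[A] L), SGA3t2b.IsCartanRel H := by
  have h1 : ∀ p : PrimeSpectrum A, ∃ fa : A × L, fa.1 ∉ p.asIdeal ∧ ∀ q : PrimeSpectrum A,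
      fa.1 ∉ q.asIdeal → LieAlgebra.IsRegular q.asIdeal.ResidueField
        ((1 : q.asIdeal.ResidueField) ⊗ₜ[A] fa.2) := fun p => by
    obtain ⟨x, hx⟩ := hreg p
    obtain ⟨c, a₁, rfl⟩ := LieNilp26.exists_eq_smul_one_tmul (A := A) p.asIdeal L x
    obtain ⟨a, ha⟩ : ∃ a : L, LieAlgebra.IsRegular p.asIdeal.ResidueField
        ((1 : p.asIdeal.ResidueField) ⊗ₜ[A] a) := by
      by_cases hc : c = 0
      · exact ⟨0, by simpa [hc] using hx⟩
      · have := CartanRel26.isRegular_smul _ hx (inv_ne_zero hc)
        rw [inv_smul_smul₀ hc] at this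
        exact ⟨a₁, this⟩
    obtain ⟨f, hf, hr⟩ := CartanRel26.exists_nhd_isRegular p (hC2.1 p) a ha
    exact ⟨(f, a), hf, hr⟩
  choose fa hf hr using h1
  obtain ⟨t, ht⟩ := (isCompact_univ (X := PrimeSpectrum A)).elim_finite_subcover
    (fun p => (PrimeSpectrum.basicOpen (fa p).1 : Set (PrimeSpectrum A)))
    (fun p => (PrimeSpectrum.basicOpen _).isOpen) (fun p _ => Set.mem_iUnion.2 ⟨p, hf p⟩)
  classical
  let B := ∀ i : t, Localization.Away (fa i.1).1
  haveI : ∀ i : t, Algebra.Etale A (Localization.Away (fa i.1).1) := fun i =>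
    Algebra.Etale.of_isLocalizationAway (fa i.1).1
  have hB : Algebra.Etale A B := inferInstance
  haveI : Module.Flat A B := inferInstance
  haveI hff : Module.FaithfullyFlat A B := by
    refine Module.FaithfullyFlat.of_comap_surjective fun q => ?_
    obtain ⟨p, hp, hq⟩ := Set.mem_iUnion₂.1 (ht (Set.mem_univ q))
    obtain ⟨Q, hQ⟩ : q ∈ Set.range (PrimeSpectrum.comap (algebraMap A (Localization.Away (fa p).1))) := by
      rw [PrimeSpectrum.localization_away_comap_range _ (fa p).1]; exact hq
    refine ⟨PrimeSpectrum.comap (Pi.evalRingHom (fun i : t => Localization.Away (fa i.1).1) ⟨p, hp⟩) Q, ?_⟩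
    rw [← PrimeSpectrum.comap_comp_apply]
    exact hQ
  refine ⟨B, inferInstance, inferInstance, hB, hff, ?_⟩
  let a' : B ⊗[A] L := ∑ i : t, (Pi.single i 1 : B) ⊗ₜ[A] (fa i.1).2
  have hqr : SGA3t2b.IsQuasiRegular B (B ⊗[A] L) a' := fun Q => by
    obtain ⟨i, hi⟩ : ∃ i : t, (Pi.single i 1 : B) ∉ Q.asIdeal := by
      by_contra! hall
      refine Q.2.ne_top ((Ideal.eq_top_iff_one _).2 ?_)
      rw [show (1 : B) = ∑ i : t, Pi.single i 1 by
        exact (Finset.univ_sum_single (1 : B)).symm]
      exact Ideal.sum_mem _ fun i _ => hall i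
    have hzero : ∀ j, j ≠ i → algebraMap B Q.asIdeal.ResidueField (Pi.single j 1) = 0 := fun j hj => by
      refine Ideal.algebraMap_residueField_eq_zero.2 ((Q.2.mem_or_mem ?_).resolve_left hi)
      have : (Pi.single i 1 : B) * Pi.single j 1 = 0 := by
        funext k; by_cases hk : k = i
        · subst hk; simp [hj.symm]
        · simp [hk]
      rw [this]; exact Q.asIdeal.zero_mem
    have hone : algebraMap B Q.asIdeal.ResidueField (Pi.single i 1) = 1 := by
      have h0 : algebraMap B Q.asIdeal.ResidueField (Pi.single i 1) ≠ 0 := fun h =>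
        hi (Ideal.algebraMap_residueField_eq_zero.1 h)
      refine mul_left_cancel₀ h0 ?_
      rw [mul_one, ← map_mul, ← Pi.single_mul, one_mul]
    have e : (1 : Q.asIdeal.ResidueField) ⊗ₜ[B] a' =
        (1 : Q.asIdeal.ResidueField) ⊗ₜ[B] ((1 : B) ⊗ₜ[A] (fa i.1).2) := by
      have hs : ∀ j : t, (Pi.single j 1 : B) ⊗ₜ[A] (fa j.1).2 =
          (Pi.single j 1 : B) • ((1 : B) ⊗ₜ[A] (fa j.1).2) := fun j => by
        rw [TensorProduct.smul_tmul', smul_eq_mul, mul_one]
      have key : ∀ (b : B) (x : B ⊗[A] L), (1 : Q.asIdeal.ResidueField) ⊗ₜ[B] (b • x) =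
          algebraMap B Q.asIdeal.ResidueField b ⊗ₜ[B] x := fun b x => by
        rw [← TensorProduct.smul_tmul, Algebra.smul_def, mul_one]
      simp only [a', TensorProduct.tmul_sum, hs]
      rw [Finset.sum_congr rfl fun j _ => key _ _,
        Finset.sum_eq_single i (fun j _ hj => by rw [hzero j hj, TensorProduct.zero_tmul]) (by simp),
        hone]
    rw [e, CartanRel26.isRegular_baseChange_fibre_iff]
    refine hr i.1 _ fun hmem => ?_
    have hu : (algebraMap A B (fa i.1).1) i ∈ (Q.asIdeal.map (Pi.evalRingHom _ i)) :=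
      Ideal.mem_map_of_mem (Pi.evalRingHom (fun j : t => Localization.Away (fa j.1).1) i) hmem
    have hunit : IsUnit (algebraMap A (Localization.Away (fa i.1).1) (fa i.1).1) :=
      IsLocalization.Away.algebraMap_isUnit _
    obtain ⟨v, hv⟩ := hunit.exists_right_inv
    refine hi ?_
    have : (Pi.single i 1 : B) = algebraMap A B (fa i.1).1 * Pi.single i v := by
      rw [← Pi.single_mul_right, Pi.algebraMap_apply, hv]
    rw [this]
    exact Ideal.mul_mem_right _ _ hmem
  obtain ⟨-, H, hH, -⟩ := hC2.2 _ _ hqr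
  exact ⟨H, hH⟩

end Groth.Agent.S8377
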