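import Groth.Statements.S8378
import Groth.Agent.CartanRel26.Descent

set_option autoImplicit false
set_option linter.style.haveILetI false
set_option backward.isDefEq.respectTransparency.types false
universe u
open scoped TensorProduct
open SGA3t2b

namespace Groth.Agent.S8378

/-- Over an affine base Spec A: let L be a Lie algebra over A which is a finitely generated projective
A-module. If for some faithfully flat A-algebra A' the Lie algebra A' ⊗ L has a Cartan subalgebra
relative to A' (condition (C₁)), then the nilpotent rank of the fibres κ(p) ⊗ L is a locally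
constant function of p ∈ Spec A (condition (C₀)). -/
theorem result {A : Type u} [CommRing A] {L : Type u} [LieRing L]
    [LieAlgebra A L] [Module.Finite A L] [Module.Projective A L]
    (hC1 : ∃ (A' : Type u) (_ : CommRing A') (_ : Algebra A A'), Module.FaithfullyFlat A A' ∧
        ∃ H : LieSubalgebra A' (A' ⊗[A] L), SGA3t2b.IsCartanRel H) :
    ∀ p : PrimeSpectrum A, ∃ f : A, f ∉ p.asIdeal ∧ ∀ q : PrimeSpectrum A, f ∉ q.asIdeal →
        LieAlgebra.rank q.asIdeal.ResidueField (q.asIdeal.ResidueField ⊗[A] L) =
          LieAlgebra.rank p.asIdeal.ResidueField (p.asIdeal.ResidueField ⊗[A] L) := by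
  obtain ⟨A', _, _, hff, H, hH⟩ := hC1
  haveI : Module.FaithfullyFlat A A' := hff
  intro p
  refine CartanRel26.exists_nhd_of_isLocallyConstant (CartanRel26.rankAt (A := A) L) ?_ p
  refine CartanRel26.isLocallyConstant_of_comap (A := A) _ A' ?_
  convert! CartanRel26.isLocallyConstant_rankAt H hH using 1
  exact funext fun Q => (CartanRel26.rankAt_baseChange A' Q).symm

end Groth.Agent.S8378
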