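import Groth.Statements.S8383
import Mathlib.LinearAlgebra.Matrix.NonsingularInverse
import Mathlib.LinearAlgebra.Dual.Lemmas
import Mathlib.LinearAlgebra.Matrix.Determinant.Basic
import Mathlib.RingTheory.TensorProduct.Free

set_option autoImplicit false
universe u
open scoped TensorProduct
open SGA3t2b

namespace Groth.Agent.S8383

/-- Let k be a finite field with algebraic closure K, V a finite-dimensional vector space over k, and
θ₁, …, θₙ a basis of the dual of the K-vector space K ⊗ V. Then there is x ∈ V with θᵢ(1 ⊗ x) ≠ 0
for every i. -/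
theorem result (k : Type u) [Field k] [Finite k]
    (V : Type u) [AddCommGroup V] [Module k V] [Module.Finite k V] {ι : Type} [Fintype ι]
    (θ : Module.Basis ι (AlgebraicClosure k) (Module.Dual (AlgebraicClosure k) (AlgebraicClosure k ⊗[k] V))) :
    ∃ x : V, ∀ i : ι, θ i ((1 : AlgebraicClosure k) ⊗ₜ[k] x) ≠ 0 := by
  classical
  let K := AlgebraicClosure k
  have hcard : Module.finrank k V = Fintype.card ι := by
    rw [← Module.finrank_eq_card_basis θ, Subspace.dual_finrank_eq, Module.finrank_baseChange]
  let b : Module.Basis ι k V := (Module.finBasisOfFinrankEq k V hcard).reindex (Fintype.equivFin ι).symm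
  let bK := Algebra.TensorProduct.basis K b
  have hbK : ∀ j, bK j = (1 : K) ⊗ₜ[k] b j := fun j => Algebra.TensorProduct.basis_apply b j
  let M : Matrix ι ι K := Matrix.of fun i j => θ i (bK j)
  have hM : M.det ≠ 0 := by
    intro h
    obtain ⟨v, hv, hv0⟩ := Matrix.exists_vecMul_eq_zero_iff.mpr h
    refine hv (funext fun i => ?_)
    refine Fintype.linearIndependent_iff.mp θ.linearIndependent v (bK.ext fun j => ?_) i
    simpa [M, Matrix.vecMul, dotProduct] using congrFun hv0 j
  have key : ∀ s : Finset ι, ∃ π : ι → (K →ₗ[k] k),
      (Matrix.of fun i j => if i ∈ s then algebraMap k K (π i (M i j)) else M i j).det ≠ 0 := by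
    intro s
    induction s using Finset.induction_on with
    | empty =>
      refine ⟨fun _ => 0, ?_⟩
      simp only [Finset.notMem_empty, if_false]
      exact hM
    | @insert a s ha ih =>
      obtain ⟨π, hπ⟩ := ih
      set N : Matrix ι ι K := Matrix.of fun i j => if i ∈ s then algebraMap k K (π i (M i j)) else M i j with hNdef
      suffices ∃ p : K →ₗ[k] k, (N.updateRow a fun j => algebraMap k K (p (M a j))).det ≠ 0 by
        obtain ⟨p, hp⟩ := this
        refine ⟨Function.update π a p, ?_⟩
        convert hp using 2
        ext i j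
        by_cases hi : i = a
        · subst hi; simp
        · simp [hi, hNdef, Matrix.updateRow_ne, Function.update_of_ne]
      by_contra! hall
      let E := Submodule.span k (Set.range (M a))
      have : Module.Finite k E := Module.Finite.span_of_finite k (Set.finite_range _)
      let bE := Module.finBasis k E
      have hmem : ∀ j, M a j ∈ E := fun j => Submodule.subset_span ⟨j, rfl⟩
      choose P hP using fun t => LinearMap.exists_extend (bE.coord t)
      have hrow : M a = ∑ t, (bE t : K) • fun j => algebraMap k K (P t (M a j)) := by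
        funext j
        have e := congrArg (Subtype.val) (bE.sum_repr ⟨M a j, hmem j⟩)
        simp only [AddSubmonoidClass.coe_finsetSum, Submodule.coe_smul] at e
        rw [Finset.sum_apply]
        refine e.symm.trans (Finset.sum_congr rfl fun t _ => ?_)
        have h1 : P t (M a j) = bE.repr ⟨M a j, hmem j⟩ t := DFunLike.congr_fun (hP t) ⟨M a j, hmem j⟩
        rw [Pi.smul_apply, h1, smul_eq_mul, Algebra.smul_def, mul_comm]
      have hN : N.updateRow a (M a) = N := by
        conv_rhs => rw [← N.updateRow_eq_self a]
        congr 1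
        funext j
        simp [hNdef, ha]
      apply hπ
      rw [← hN, hrow]
      let L : (ι → K) →ₗ[K] K := Matrix.detRowAlternating.toMultilinearMap.toLinearMap N a
      have hL : ∀ v, L v = (N.updateRow a v).det := fun v => rfl
      rw [← hL, map_sum]
      refine Finset.sum_eq_zero fun t _ => ?_
      rw [map_smul, hL, hall, smul_zero]
  obtain ⟨π, hπ⟩ := key Finset.univ
  let Q : Matrix ι ι k := Matrix.of fun i j => π i (M i j)
  have hQ : IsUnit Q.det := by
    rw [isUnit_iff_ne_zero]
    intro h
    apply hπ
    have : (Matrix.of fun i j => if i ∈ (Finset.univ : Finset ι) then algebraMap k K (π i (M i j)) else M i j) = (algebraMap k K).mapMatrix Q := by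
      ext i j; simp [Q]
    rw [this, ← RingHom.map_det, h, map_zero]
  let c : ι → k := Q⁻¹.mulVec fun _ => 1
  refine ⟨∑ j, c j • b j, fun i h => ?_⟩
  have h1 : θ i ((1 : K) ⊗ₜ[k] (∑ j, c j • b j)) = ∑ j, c j • M i j := by
    simp only [TensorProduct.tmul_sum, TensorProduct.tmul_smul, ← hbK, map_sum, LinearMap.map_smul_of_tower]
    rfl
  have h2 := congrArg (π i) (h1.symm.trans h)
  have h3 : (Q.mulVec c) i = 1 := by
    simp [c, Matrix.mulVec_mulVec, Matrix.mul_nonsing_inv _ hQ]
  apply one_ne_zero (α := k)
  rw [← h3, ← map_zero (π i), ← h2, map_sum]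
  exact Finset.sum_congr rfl fun j _ => by simp [Q, mul_comm]

end Groth.Agent.S8383
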