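import Groth.Statements.S8384
import Mathlib.RingTheory.AdicCompletion.RingHom
import Mathlib.AlgebraicGeometry.Stalk
import Mathlib.AlgebraicGeometry.AffineScheme

set_option autoImplicit false
universe u
open CategoryTheory MonoidalCategory CartesianMonoidalCategory MonObj GrpObj AlgebraicGeometry
open SGA3x

namespace Groth.Agent.S8384

/-- Let A be a local ring, separated and complete for the topology defined by its maximal ideal m, S =
Spec A and Sₙ = Spec(A/mⁿ). Then for every scheme X the canonical map Hom(S, X) → lim Hom(Sₙ, X) is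
bijective: two morphisms S → X that agree on every Sₙ are equal, and every family of morphisms Sₙ →
X compatible with the closed immersions Sₙ → Sₙ₊₁ is induced by a morphism S → X. -/
theorem result (A : Type u) [CommRing A] [IsLocalRing A]
    [IsAdicComplete (IsLocalRing.maximalIdeal A) A] (X : Scheme.{u}) :
    (∀ f g : (Spec (CommRingCat.of A)) ⟶ X,
      (∀ n : ℕ, (Spec.map (CommRingCat.ofHom (Ideal.Quotient.mk ((IsLocalRing.maximalIdeal A) ^ n)))) ≫ f = (Spec.map (CommRingCat.ofHom (Ideal.Quotient.mk ((IsLocalRing.maximalIdeal A) ^ n)))) ≫ g) → f = g) ∧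
    (∀ u : (n : ℕ) → (Spec (CommRingCat.of (A ⧸ (IsLocalRing.maximalIdeal A) ^ n)) ⟶ X),
      (∀ n : ℕ, (Spec.map (CommRingCat.ofHom (Ideal.Quotient.factor
          (Ideal.pow_le_pow_right (I := (IsLocalRing.maximalIdeal A)) (Nat.le_succ n))))) ≫ u (n + 1) = u n) →
      ∃ f : (Spec (CommRingCat.of A)) ⟶ X, ∀ n : ℕ, (Spec.map (CommRingCat.ofHom (Ideal.Quotient.mk ((IsLocalRing.maximalIdeal A) ^ n)))) ≫ f = u n) := by
  set m := IsLocalRing.maximalIdeal A
  let q : (n : ℕ) → Spec (CommRingCat.of (A ⧸ m ^ n)) ⟶ Spec (CommRingCat.of A) := fun n =>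
    Spec.map (CommRingCat.ofHom (Ideal.Quotient.mk (m ^ n)))
  have hq : ∀ n (y : ↥(Spec (CommRingCat.of (A ⧸ m ^ n)))), (q n).base y = IsLocalRing.closedPoint A := by
    intro n y
    refine PrimeSpectrum.ext ?_
    change Ideal.comap (Ideal.Quotient.mk (m ^ n)) y.asIdeal = m
    have hp : (Ideal.comap (Ideal.Quotient.mk (m ^ n)) y.asIdeal).IsPrime := Ideal.IsPrime.comap (hK := y.isPrime) _
    refine le_antisymm (IsLocalRing.le_maximalIdeal hp.ne_top) (fun a ha => hp.mem_of_pow_mem n ?_)
    rw [Ideal.mem_comap, Ideal.Quotient.eq_zero_iff_mem.mpr (Ideal.pow_mem_pow ha n)]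
    exact y.asIdeal.zero_mem
  have : Nontrivial (A ⧸ m ^ 1) := Ideal.Quotient.nontrivial_iff.mpr (by
    rw [pow_one]; exact (IsLocalRing.maximalIdeal.isMaximal A).ne_top)
  obtain ⟨y₁⟩ : Nonempty ↥(Spec (CommRingCat.of (A ⧸ m ^ 1))) :=
    inferInstanceAs (Nonempty (PrimeSpectrum (A ⧸ m ^ 1)))
  constructor
  · intro f g h
    obtain ⟨_, ⟨V, hV, rfl⟩, hfV, -⟩ := X.isBasis_affineOpens.exists_subset_of_mem_open
      (Set.mem_univ (f.base (IsLocalRing.closedPoint A))) isOpen_univ
    have := hV.isOpenImmersion_fromSpec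
    have hgx : g.base (IsLocalRing.closedPoint A) = f.base (IsLocalRing.closedPoint A) := by
      have := congrArg (fun t : Spec (CommRingCat.of (A ⧸ m ^ 1)) ⟶ X => t.base y₁) (h 1)
      simp only [Scheme.Hom.comp_base, TopCat.comp_app] at this
      have e := hq 1 y₁
      simp only [q] at e
      rw [e] at this
      exact this.symm
    have hr : ∀ k : Spec (CommRingCat.of A) ⟶ X, k.base (IsLocalRing.closedPoint A) ∈ V →
        Set.range k.base ⊆ Set.range hV.fromSpec.base := by
      intro k hk
      rw [hV.range_fromSpec]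
      rintro _ ⟨y, rfl⟩
      have := Scheme.preimage_eq_top_of_closedPoint_mem k hk
      exact (this.symm ▸ trivial : y ∈ k ⁻¹ᵁ V)
    let f' := IsOpenImmersion.lift hV.fromSpec f (hr f hfV)
    let g' := IsOpenImmersion.lift hV.fromSpec g (hr g (hgx.symm ▸ hfV))
    suffices hfg : Spec.preimage f' = Spec.preimage g' by
      rw [← IsOpenImmersion.lift_fac hV.fromSpec f (hr f hfV),
        ← IsOpenImmersion.lift_fac hV.fromSpec g (hr g (hgx.symm ▸ hfV))]
      change f' ≫ _ = g' ≫ _
      rw [← Spec.map_preimage f', ← Spec.map_preimage g', hfg]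
    refine CommRingCat.hom_ext (RingHom.ext fun a => (IsHausdorff.eq_iff_smodEq (I := m)).mpr fun n => ?_)
    have h1 : q n ≫ f' = q n ≫ g' := by
      rw [← cancel_mono hV.fromSpec, Category.assoc, Category.assoc, IsOpenImmersion.lift_fac,
        IsOpenImmersion.lift_fac]
      exact h n
    rw [← Spec.map_preimage f', ← Spec.map_preimage g', ← Spec.map_comp, ← Spec.map_comp] at h1
    rw [SModEq.sub_mem, smul_eq_mul, Ideal.mul_top, ← Ideal.Quotient.eq]
    exact RingHom.congr_fun (congrArg CommRingCat.Hom.hom (Spec.map_injective h1)) a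
  · intro u hu
    have hu1 : ∀ n, ∀ y : ↥(Spec (CommRingCat.of (A ⧸ m ^ n))), (u n).base y = (u 1).base y₁ := by
      have step : ∀ n, n ≠ 0 → ∀ y : ↥(Spec (CommRingCat.of (A ⧸ m ^ n))), ∀ y' : ↥(Spec (CommRingCat.of (A ⧸ m ^ n))),
          y = y' := by
        intro n _ y y'
        have := (hq n y).trans (hq n y').symm
        exact (PrimeSpectrum.comap_injective_of_surjective _ Ideal.Quotient.mk_surjective) this
      intro n
      induction n with
      | zero =>
        intro y
        have : Subsingleton (A ⧸ m ^ 0) := Ideal.Quotient.subsingleton_iff.mpr (by rw [pow_zero, Ideal.one_eq_top])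
        exact (IsEmpty.false (α := PrimeSpectrum (A ⧸ m ^ 0)) y).elim
      | succ n ih =>
        intro y
        rcases Nat.eq_zero_or_pos n with rfl | hn
        · rw [step 1 one_ne_zero y y₁]
        · have : Nontrivial (A ⧸ m ^ n) := Ideal.Quotient.nontrivial_iff.mpr fun ht =>
            (IsLocalRing.maximalIdeal.isMaximal A).ne_top (top_unique (ht ▸ Ideal.pow_le_self hn.ne'))
          obtain ⟨z⟩ : Nonempty ↥(Spec (CommRingCat.of (A ⧸ m ^ n))) :=
            inferInstanceAs (Nonempty (PrimeSpectrum (A ⧸ m ^ n)))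
          rw [← ih z, ← hu n, Scheme.Hom.comp_base, TopCat.comp_app]
          exact congrArg _ (step _ (Nat.succ_ne_zero n) _ _)
    obtain ⟨_, ⟨V, hV, rfl⟩, hxV, -⟩ := X.isBasis_affineOpens.exists_subset_of_mem_open
      (Set.mem_univ ((u 1).base y₁)) isOpen_univ
    have := hV.isOpenImmersion_fromSpec
    have hr : ∀ n, Set.range (u n).base ⊆ Set.range hV.fromSpec.base := by
      intro n
      rw [hV.range_fromSpec]
      rintro _ ⟨y, rfl⟩
      rw [hu1 n y]
      exact hxV
    let g := fun n => IsOpenImmersion.lift hV.fromSpec (u n) (hr n)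
    let φ : (n : ℕ) → Γ(X, V) →+* A ⧸ m ^ n := fun n => (Spec.preimage (g n)).hom
    have hsucc : ∀ n, (Ideal.Quotient.factor (Ideal.pow_le_pow_right (I := m) (Nat.le_succ n))).comp (φ (n + 1)) = φ n := by
      intro n
      have h1 : Spec.map (CommRingCat.ofHom (Ideal.Quotient.factor (Ideal.pow_le_pow_right (I := m) (Nat.le_succ n)))) ≫
          g (n + 1) = g n := by
        rw [← cancel_mono hV.fromSpec, Category.assoc, IsOpenImmersion.lift_fac, IsOpenImmersion.lift_fac]
        exact hu n
      rw [← Spec.map_preimage (g n), ← Spec.map_preimage (g (n + 1)), ← Spec.map_comp] at h1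
      exact congrArg CommRingCat.Hom.hom (Spec.map_injective h1)
    have hcomp : ∀ {i j : ℕ} (hle : i ≤ j), (Ideal.Quotient.factorPow m hle).comp (φ j) = φ i := by
      intro i j hle
      induction j, hle using Nat.le_induction with
      | base =>
        refine RingHom.ext fun x => ?_
        obtain ⟨b, hb⟩ := Ideal.Quotient.mk_surjective (φ i x)
        rw [RingHom.comp_apply, ← hb]
        rfl
      | succ j hle ih =>
        rw [← ih, ← hsucc j, ← RingHom.comp_assoc]
        congr 1
        exact Ideal.Quotient.ringHom_ext (RingHom.ext fun x => by simp)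
    refine ⟨Spec.map (CommRingCat.ofHom (IsAdicComplete.liftRingHom m φ hcomp)) ≫ hV.fromSpec, fun n => ?_⟩
    rw [← Category.assoc, ← Spec.map_comp, ← CommRingCat.ofHom_comp, IsAdicComplete.mk_comp_liftRingHom]
    change Spec.map (Spec.preimage (g n)) ≫ _ = _
    rw [Spec.map_preimage, IsOpenImmersion.lift_fac]

end Groth.Agent.S8384
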