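import Groth.Statements.S8388
import Groth.Agent.SGA3Power26.AvgComplete
import Groth.Agent.SGA3Power26.MultSubLift

set_option autoImplicit false
set_option linter.style.haveILetI false
set_option backward.isDefEq.respectTransparency.types false
universe u
open CategoryTheory MonoidalCategory CartesianMonoidalCategory MonObj GrpObj AlgebraicGeometry
open SGA3x Groth.Agent Groth.Agent.SGA3Power26

namespace Groth.Agent.S8388

/-- Let A be a complete Noetherian local ring with residue field k, S = Spec A, S₀ = Spec k the closed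
point, M an S-group scheme finite over S and of multiplicative type, and G an S-group scheme smooth
over S. Then every homomorphism of S₀-groups u₀ : M₀ → G₀ between the closed fibres is the
restriction of a homomorphism of S-groups u : M → G; and if u, u′ : M → G are homomorphisms with the
same restriction to S₀, there is g ∈ G(S) restricting to the unit of G(S₀) with u′ = int(g) ∘ u. -/
theorem result (A : Type u) [CommRing A]
    [IsLocalRing A] [IsNoetherianRing A] [IsAdicComplete (IsLocalRing.maximalIdeal A) A]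
    (M : Over (Spec (CommRingCat.of A))) [GrpObj M] [IsFinite M.hom] (hM : SGA3x.IsMultTypeFT M)
    (G : Over (Spec (CommRingCat.of A))) [GrpObj G] [Smooth G.hom] :
    (∀ (u₀ : Red.bc (Spec.map (CommRingCat.ofHom (Ideal.Quotient.mk (IsLocalRing.maximalIdeal A)))) M ⟶ Red.bc (Spec.map (CommRingCat.ofHom (Ideal.Quotient.mk (IsLocalRing.maximalIdeal A)))) G) [IsMonHom u₀],
      ∃ u : M ⟶ G, IsMonHom u ∧ (Over.pullback (Spec.map (CommRingCat.ofHom (Ideal.Quotient.mk (IsLocalRing.maximalIdeal A))))).map u = u₀) ∧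
    (∀ (u u' : M ⟶ G) [IsMonHom u] [IsMonHom u'],
      (Over.pullback (Spec.map (CommRingCat.ofHom (Ideal.Quotient.mk (IsLocalRing.maximalIdeal A))))).map u = (Over.pullback (Spec.map (CommRingCat.ofHom (Ideal.Quotient.mk (IsLocalRing.maximalIdeal A))))).map u' →
      ∃ g : 𝟙_ (Over (Spec (CommRingCat.of A))) ⟶ G,
        (Over.pullback (Spec.map (CommRingCat.ofHom (Ideal.Quotient.mk (IsLocalRing.maximalIdeal A))))).map g = toUnit _ ≫ η[Red.bc (Spec.map (CommRingCat.ofHom (Ideal.Quotient.mk (IsLocalRing.maximalIdeal A)))) G] ∧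
        ∀ (X : Over (Spec (CommRingCat.of A))) (x : X ⟶ M), x ≫ u' = (toUnit X ≫ g) * (x ≫ u) * (toUnit X ≫ g)⁻¹) := by
  have hfin : ∀ (B : Type u) [CommRing B] [Algebra A B], (M ≅ CoactBr.sp A B) → Module.Finite A B := fun B _ _ i => by
    haveI : IsIso i.inv.left := inferInstanceAs (IsIso ((Over.forget _).map i.inv))
    have h1 : IsFinite (CoactBr.sp A B).hom := by rw [← Over.w i.inv]; infer_instance
    have h2 : IsFinite (Spec.map (CommRingCat.ofHom (algebraMap A B))) := h1
    rw [IsFinite.SpecMap_iff] at h2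
    exact RingHom.finite_algebraMap.1 h2
  refine ⟨fun u₀ _ => ?_, fun u u' _ _ huu' => ?_⟩
  · refine HomLiftMult.exists_lift_of (J := IsLocalRing.maximalIdeal A) u₀ (HomLiftMult.isMT_of_multTypeFT hM)
      (fun B _ _ e a _ => ?_) (fun B _ _ _ e P hP hPinv w hw => ?_)
    · haveI := hfin B e
      have key : ∀ I : Ideal A, I = IsLocalRing.maximalIdeal A ^ 1 →
          ∀ b : CoactBr.sp A (B ⧸ AvgPoints.JJ I B) ⟶ G, ∃ w : CoactBr.sp A B ⟶ G,
            CoactBr.pt (Ideal.Quotient.mkₐ A (AvgPoints.JJ I B)) ≫ w = b := by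
        rintro I rfl b
        exact AvgPoints.exists_lift_level 1 one_ne_zero b
      exact key _ (pow_one _).symm a
    · haveI := hfin B e
      exact AvgPoints.exists_hom_complete P hP hPinv w hw
  · obtain ⟨B, _, _, hft, hmt, ⟨eG⟩⟩ := IsoTriv.SchemeBridge.exists_hopf M hM
    let e : M ≅ CoactBr.sp A B := (Grp.forget _).mapIso eG
    haveI : IsMonHom e.inv := eG.inv.hom.isMonHom_hom
    haveI := hfin B e
    haveI := IsoTriv.isCocomm_of_isMultType hmt
    obtain ⟨P, hP, hPinv⟩ := IsoTriv.exists_integral_of_cover (IsoTriv.hasCover_of_isMultType hmt)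
    obtain ⟨g, hg, hconj⟩ := AvgPoints.exists_conj_complete P hP hPinv (e.inv ≫ u) (e.inv ≫ u') fun D _ _ hD x => by
      rw [← Category.assoc, ← Category.assoc]
      exact MultSubLift.comp_eq_of_map_eq (J := IsLocalRing.maximalIdeal A) huu' (Over.homMk
        (Spec.map (CommRingCat.ofHom (Ideal.Quotient.lift _ (algebraMap A D) fun r hr => hD hr))) (by
          show Spec.map _ ≫ Spec.map _ = Spec.map _
          rw [← Spec.map_comp, ← CommRingCat.ofHom_comp, Ideal.Quotient.lift_comp_mk])) _
    refine ⟨g, ?_, fun X x => ?_⟩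
    · rw [← Hom.one_def]
      refine Eq.trans ?_ (_root_.map_one (Functor.homMonoidHom (Over.pullback _)))
      refine MultSubLift.map_eq_of_forall (J := IsLocalRing.maximalIdeal A) fun X p x => ?_
      rw [MonObj.comp_one, toUnit_unique x (p ≫ toUnit _), Category.assoc]
      exact (congrArg (p ≫ ·) (hg (A ⧸ IsLocalRing.maximalIdeal A) fun r hr =>
        Ideal.Quotient.eq_zero_iff_mem.2 hr)).trans (MonObj.comp_one p)
    · have h := congrArg ((x ≫ e.hom) ≫ ·) hconj
      simpa only [MonObj.comp_mul, GrpObj.comp_inv, comp_toUnit_assoc, Category.assoc, Iso.hom_inv_id_assoc] using h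

end Groth.Agent.S8388
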