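import Groth.Statements.S8389
import Groth.Agent.SGA3Power26.CompleteLift
import Groth.Agent.Coherent.CohBC.PushStructureIso

set_option autoImplicit false
set_option linter.style.haveILetI false
set_option backward.isDefEq.respectTransparency.types false
universe u
open CategoryTheory MonoidalCategory CartesianMonoidalCategory MonObj GrpObj AlgebraicGeometry
open SGA3x

namespace Groth.Agent.S8389

/-- Let A be a complete Noetherian local ring with residue field k, S = Spec A, S₀ = Spec k the closed
point, M an S-group scheme of multiplicative type which is smooth and finite over S, G an S-group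
scheme flat and of finite type over S, and u₀ : M₀ → G₀ a central homomorphism between the closed
fibres. Then u₀ is the restriction of exactly one homomorphism u : M → G; and u is central when the
fibres of G are connected. -/
theorem result (A : Type u) [CommRing A]
    [IsLocalRing A] [IsNoetherianRing A] [IsAdicComplete (IsLocalRing.maximalIdeal A) A]
    (M : Over (Spec (CommRingCat.of A))) [GrpObj M] [IsFinite M.hom] [Smooth M.hom] (hM : SGA3x.IsMultTypeFT M)
    (G : Over (Spec (CommRingCat.of A))) [GrpObj G] [Flat G.hom] [QuasiCompact G.hom] [LocallyOfFiniteType G.hom]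
    (u₀ : Red.bc (Spec.map (CommRingCat.ofHom (Ideal.Quotient.mk (IsLocalRing.maximalIdeal A)))) M ⟶ Red.bc (Spec.map (CommRingCat.ofHom (Ideal.Quotient.mk (IsLocalRing.maximalIdeal A)))) G) [IsMonHom u₀]
    (hc₀ : ∀ (X : Over _) (x : X ⟶ Red.bc (Spec.map (CommRingCat.ofHom (Ideal.Quotient.mk (IsLocalRing.maximalIdeal A)))) M) (g : X ⟶ Red.bc (Spec.map (CommRingCat.ofHom (Ideal.Quotient.mk (IsLocalRing.maximalIdeal A)))) G), (x ≫ u₀) * g = g * (x ≫ u₀)) :
    (∃ u : M ⟶ G, IsMonHom u ∧ (Over.pullback (Spec.map (CommRingCat.ofHom (Ideal.Quotient.mk (IsLocalRing.maximalIdeal A))))).map u = u₀ ∧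
      ∀ u' : M ⟶ G, IsMonHom u' → (Over.pullback (Spec.map (CommRingCat.ofHom (Ideal.Quotient.mk (IsLocalRing.maximalIdeal A))))).map u' = u₀ → u' = u) ∧
    ((∀ s : (Spec (CommRingCat.of A)), _root_.IsConnected (G.hom.base ⁻¹' {s})) →
      ∀ u : M ⟶ G, IsMonHom u → (Over.pullback (Spec.map (CommRingCat.ofHom (Ideal.Quotient.mk (IsLocalRing.maximalIdeal A))))).map u = u₀ →
        ∀ (X : Over (Spec (CommRingCat.of A))) (x : X ⟶ M) (g : X ⟶ G), (x ≫ u) * g = g * (x ≫ u)) := by
  haveI : LocallyOfFinitePresentation G.hom :=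
    Coherent.CohBC.locallyOfFinitePresentation_of_isLocallyNoetherian G.hom
  refine ⟨SGA3Power26.existsUnique_complete_lift u₀ hc₀ hM, fun hconn u hu hu₀ X x g => ?_⟩
  haveI := hu
  have hconn' : ∀ t, ConnectedSpace ↥(Limits.pullback G.hom ((Spec (CommRingCat.of A)).fromSpecResidueField t)) := fun t => by
    haveI : ConnectedSpace ↥(G.hom.base ⁻¹' {t}) := isConnected_iff_connectedSpace.1 (hconn t)
    exact (G.hom.fiberHomeo t).symm.surjective.connectedSpace (G.hom.fiberHomeo t).symm.continuous
  obtain ⟨U, hU, hc⟩ := SGA3cLib.CentralOpen.exists_open_central u hconn' hM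
  have htop : U = ⊤ := top_unique fun t _ => by
    refine (IsLocalRing.specializes_closedPoint t).mem_open U.2 ((hU _).2 fun Y p g' h' => ?_)
    refine ((SGA3Power26.commute_near u₀ hc₀ hM u hu₀ (X := Y) (fun y => ?_) h' g').eq).symm
    rw [← Over.w p]
    exact Set.eq_of_mem_singleton ((Spec (CommRingCat.of A)).range_fromSpecResidueField (IsLocalRing.closedPoint A) ▸ ⟨_, rfl⟩)
  subst htop
  exact (hc X (Over.homMk (X.hom ≫ (Spec (CommRingCat.of A)).topIso.inv) (by simp)) g x).symm

end Groth.Agent.S8389
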