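import Groth.Statements.S8400
import Groth.Agent.LieNoTorus26.Bridge
import Groth.Agent.ConjConst26.RedCentre
import Groth.Agent.AlgGrpLib.LieSmooth
import Groth.Agent.AlgGrpLib.MultTypeTorus
import Groth.Agent.AlgGrpLib.TorusUnipotent
import Groth.Agent.Cochar26.FibreChar
import Groth.Agent.S5247
import Groth.Agent.S5427
import Mathlib.Algebra.Lie.Nilpotent

set_option autoImplicit false
universe u
open CategoryTheory MonoidalCategory CartesianMonoidalCategory MonObj GrpObj AlgebraicGeometry
open SGA3x

namespace Groth.Agent.S8400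

set_option backward.isDefEq.respectTransparency.types false
set_option linter.style.haveILetI false
set_option maxHeartbeats 400000
set_option synthInstance.maxHeartbeats 200000

open Groth.Agent Groth.Agent.LieNoTorus26

variable {k : Type u} [Field k]

/-- A trivial spectrum has bijective structure map. -/
theorem algebraMap_bijective_of_isIso (B : Type u) [CommRing B] [Algebra k B] (h : IsIso (CoactBr.sp k B).hom) :
    Function.Bijective (algebraMap k B) := by
  haveI : IsIso (Spec.map (CommRingCat.ofHom (algebraMap k B))) := h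
  haveI : IsIso (Scheme.Spec.map (CommRingCat.ofHom (algebraMap k B)).op) :=
    inferInstanceAs (IsIso (Spec.map (CommRingCat.ofHom (algebraMap k B))))
  have := isIso_of_fully_faithful Scheme.Spec (CommRingCat.ofHom (algebraMap k B)).op
  exact (ConcreteCategory.isIso_iff_bijective _).1 (isIso_of_op (CommRingCat.ofHom (algebraMap k B)))

/-- A nontrivial diagonalisable group is not trivial. -/
theorem subsingleton_of_isIso_DS (N : Type) [AddCommGroup N] (h : IsIso (Red.DS (Spec (CommRingCat.of k)) N).hom) :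
    Subsingleton N := by
  obtain ⟨d, -⟩ := HopfLib.SpPoints.exists_dsIso (k := k) N
  haveI : IsIso d.hom.left := inferInstanceAs (IsIso ((Over.forget _).map d.hom))
  haveI := h
  have h' : IsIso (CoactBr.sp k (MonoidAlgebra k (Multiplicative N))).hom := by
    rw [← Over.w d.hom]
    infer_instance
  have hb := algebraMap_bijective_of_isIso _ h'
  refine subsingleton_of_forall_eq 0 fun n => ?_
  obtain ⟨r, hr⟩ := hb.2 (MonoidAlgebra.single (Multiplicative.ofAdd n) 1)
  rw [MonoidAlgebra.coe_algebraMap, Function.comp_apply] at hr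
  rcases MonoidAlgebra.single_inj.1 hr with ⟨h1, -⟩ | ⟨-, h2⟩
  · exact Multiplicative.ofAdd.injective h1.symm
  · exact absurd h2 one_ne_zero

/-- Over an algebraically closed field a torus is trivial or contains a nontrivial diagonalisable subgroup
whose characters embed in the field. -/
theorem exists_small_sub [IsAlgClosed k] (T : Over (Spec (CommRingCat.of k))) [GrpObj T] (hT : Red.IsTorus T)
    (hne : ¬ IsIso T.hom) :
    ∃ (N : Type) (_ : AddCommGroup N) (_ : AddGroup.FG N) (c : N →+ k) (i : Red.DS (Spec (CommRingCat.of k)) N ⟶ T),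
      IsMonHom i ∧ Mono i ∧ Nontrivial N ∧ Function.Injective c := by
  obtain ⟨M, _, hM, ⟨E⟩⟩ := ConjConst26.RedCentre.exists_split_algClosed T (MultExt26.isMultTypeFT_of_torus T hT)
  haveI := hM
  let e : T ≅ Red.DS (Spec (CommRingCat.of k)) M := (Grp.forget _).mapIso E
  haveI : IsMonHom e.hom := E.hom.hom.isMonHom_hom
  haveI : IsMonHom e.inv := E.inv.hom.isMonHom_hom
  obtain ⟨A, _, _, iA, hiA, -, -, hdom, -⟩ := AlgGrpLib.TorusUnip.exists_split_hopf T hT
  haveI := hiA; haveI := hdom
  haveI : IsIso iA.left := inferInstanceAs (IsIso ((Over.forget _).map iA))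
  haveI : IsIso e.hom.left := inferInstanceAs (IsIso ((Over.forget _).map e.hom))
  haveI : IsIntegral (HopfQuot.spec (k := k) A).left := (affine_isIntegral_iff (CommRingCat.of A)).2 inferInstance
  haveI : Nonempty ↥(Red.DS (Spec (CommRingCat.of k)) M).left :=
    ⟨(iA.left ≫ e.hom.left).base (Classical.arbitrary _)⟩
  haveI : IsIntegral (Red.DS (Spec (CommRingCat.of k)) M).left :=
    isIntegral_of_isOpenImmersion (inv (iA.left ≫ e.hom.left))
  haveI : Module.Finite ℤ M := Module.Finite.iff_addGroup_fg.2 hM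
  haveI : Module.IsTorsionFree ℤ M := by
    refine Module.IsTorsionFree.of_smul_eq_zero fun z m hzm => ?_
    by_contra hne'
    push_neg at hne'
    refine hne'.2 (AlgGrpLib.MultTypeTorus.eq_zero_of_nsmul (Ω := k) (Int.natAbs_pos.2 hne'.1) ?_)
    rcases Int.natAbs_eq z with hz | hz
    · rw [← natCast_zsmul, ← hz, hzm]
    · rw [← natCast_zsmul, show ((z.natAbs : ℕ) : ℤ) = -z by omega, neg_smul, hzm, neg_zero]
  haveI : Module.Free ℤ M := Module.free_of_finite_type_torsion_free'
  rcases subsingleton_or_nontrivial M with hs | hn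
  · refine absurd ?_ hne
    obtain ⟨d, -⟩ := HopfLib.SpPoints.exists_dsIso (k := k) M
    haveI : IsIso d.inv.left := inferInstanceAs (IsIso ((Over.forget _).map d.inv))
    have hb : Function.Bijective (algebraMap k (MonoidAlgebra k (Multiplicative M))) :=
      (MonoidAlgebra.uniqueAlgEquiv k (Multiplicative M) (A := k)).symm.bijective
    haveI : IsIso (CommRingCat.ofHom (algebraMap k (MonoidAlgebra k (Multiplicative M)))) :=
      (ConcreteCategory.isIso_iff_bijective _).2 hb
    have h' : IsIso (CoactBr.sp k (MonoidAlgebra k (Multiplicative M))).hom :=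
      inferInstanceAs (IsIso (Spec.map (CommRingCat.ofHom (algebraMap k (MonoidAlgebra k (Multiplicative M))))))
    rw [← Over.w (e.hom ≫ d.inv)]
    haveI : IsIso (e.hom ≫ d.inv).left := inferInstanceAs (IsIso (e.hom.left ≫ d.inv.left))
    infer_instance
  · let b := Module.finBasis ℤ M
    have hpos : 0 < Module.finrank ℤ M := Module.finrank_pos
    let φ : M →+ ZMod (ringChar k) :=
      (Int.castAddHom (ZMod (ringChar k))).comp (b.coord ⟨0, hpos⟩).toAddMonoidHom
    have hφ : Function.Surjective φ := fun z => by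
      obtain ⟨t, ht⟩ := ZMod.intCast_surjective z
      exact ⟨t • b ⟨0, hpos⟩, by simp [φ, ht]⟩
    have hne1 : ringChar k ≠ 1 := CharP.ringChar_ne_one
    haveI : Mono (Red.DSmap (Spec (CommRingCat.of k)) φ).left := SGA3cLib.MultHomLocus.mono_of_surjective φ hφ _
    haveI : Mono (Red.DSmap (Spec (CommRingCat.of k)) φ) := Over.mono_of_mono_left _
    haveI : IsMonHom (Red.DSmap (Spec (CommRingCat.of k)) φ) := S5427.isMonHom_DSmap φ
    haveI : Nontrivial (ZMod (ringChar k)) := ZMod.nontrivial_iff.2 hne1
    exact ⟨ZMod (ringChar k), inferInstance, AddGroup.fg_of_surjective (f := φ) hφ,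
      (ZMod.castHom dvd_rfl k).toAddMonoidHom, Red.DSmap _ φ ≫ e.inv, inferInstance, inferInstance, inferInstance,
      ZMod.castHom_injective k⟩

/-- A homomorphism carries a bracket to a bracket. -/
theorem isBracket_map {S : Scheme.{u}} {G H : Over S} [GrpObj G] [GrpObj H] (φ : G ⟶ H) [IsMonHom φ] (B : Type u)
    [CommRing B] (f : Spec (CommRingCat.of B) ⟶ S) {x y z : LieS.Lie G B f} (h : LieS.IsBracket G B f x y z) :
    LieS.IsBracket H B f (LieS.map B f φ x) (LieS.map B f φ y) (LieS.map B f φ z) := by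
  have h' := congrArg (fun t => t ≫ φ) h
  simp only [MonObj.mul_comp, GrpObj.inv_comp, Category.assoc] at h'
  exact h'

/-- The derivation of an element of a model. -/
noncomputable def Φ {A : Type u} [CommRing A] [HopfAlgebra k A] {G : Over (Spec (CommRingCat.of k))} [GrpObj G]
    (φ : G ⟶ CoactBr.sp k A) [IsMonHom φ] {L : Type u} [LieRing L] [LieAlgebra k L] (m : LieS.Model G k (f₀ k) L) (l : L) :
    WithConv (A →ₗ[k] k) :=
  der (LieS.map k (f₀ k) φ (m.e (Multiplicative.ofAdd l))).1

theorem Φ_lie {A : Type u} [CommRing A] [HopfAlgebra k A] {G : Over (Spec (CommRingCat.of k))} [GrpObj G]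
    (φ : G ⟶ CoactBr.sp k A) [IsMonHom φ] {L : Type u} [LieRing L] [LieAlgebra k L] (m : LieS.Model G k (f₀ k) L) (a b : L) :
    Φ φ m ⁅a, b⁆ = adD (Φ φ m a) (Φ φ m b) :=
  der_bracket _ _ _ (isBracket_map φ k (f₀ k) (m.e_lie a b))

theorem Φ_iterate {A : Type u} [CommRing A] [HopfAlgebra k A] {G : Over (Spec (CommRingCat.of k))} [GrpObj G]
    (φ : G ⟶ CoactBr.sp k A) [IsMonHom φ] {L : Type u} [LieRing L] [LieAlgebra k L] (m : LieS.Model G k (f₀ k) L) (a b : L) :
    ∀ n : ℕ, (adD (Φ φ m a))^[n] (Φ φ m b) = Φ φ m ((LieModule.toEnd k L L a)^[n] b) := by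
  intro n
  induction n with
  | zero => rfl
  | succ n ih => rw [Function.iterate_succ_apply', Function.iterate_succ_apply', ih, LieModule.toEnd_apply_apply, Φ_lie]

/-- A diagonalisable subgroup with characters embedded in the field is central. -/
theorem commute_of_lie_nilpotent [IsAlgClosed k] (G : Over (Spec (CommRingCat.of k))) [GrpObj G] [Smooth G.hom]
    [IsAffine G.left] [ConnectedSpace ↥G.left] (L : Type u) [LieRing L] [LieAlgebra k L]
    (m : LieS.Model G k (f₀ k) L) (hL : LieRing.IsNilpotent L) {N : Type} [AddCommGroup N] [AddGroup.FG N] (c : N →+ k)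
    (hc : Function.Injective c) (i : Red.DS (Spec (CommRingCat.of k)) N ⟶ G) [IsMonHom i]
    (X : Over (Spec (CommRingCat.of k))) (x : X ⟶ Red.DS (Spec (CommRingCat.of k)) N) (g : X ⟶ G) :
    (x ≫ i) * g = g * (x ≫ i) := by
  classical
  obtain ⟨A, _, _, ⟨E⟩⟩ := IsoTriv.SchemeSpec.exists_spec G
  let e : G ≅ CoactBr.sp k A := (Grp.forget _).mapIso E
  haveI : IsMonHom e.hom := E.hom.hom.isMonHom_hom
  haveI : IsMonHom e.inv := E.inv.hom.isMonHom_hom
  obtain ⟨d, hd⟩ := HopfLib.SpPoints.exists_dsIso (k := k) N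
  haveI := hd
  let u : CoactBr.sp k (MonoidAlgebra k (Multiplicative N)) ⟶ CoactBr.sp k A := d.hom ≫ i ≫ e.hom
  haveI : IsMonHom u := inferInstanceAs (IsMonHom (d.hom ≫ i ≫ e.hom))
  haveI : IsAffineHom G.hom := inferInstance
  obtain ⟨Z, _, z, hz, hci, hZs⟩ := S5247.result (Red.DS (Spec (CommRingCat.of k)) N) G
    (Cochar26.isMultTypeFT_DS _ N) inferInstance inferInstance i
  obtain ⟨hzh, hzm, hzp⟩ := hz
  haveI := hzh; haveI := hzm; haveI := hci; haveI := hZs
  have hsurj : Function.Surjective (LieS.map k (f₀ k) z) := by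
    intro p
    obtain ⟨n, hn⟩ := (LieModule.isNilpotent_iff k L L).1 hL
    let D : LieS.Lie G k (f₀ k) := LieS.map k (f₀ k) e.inv (infPt u c)
    let a : L := Multiplicative.toAdd (m.e.symm D)
    let b : L := Multiplicative.toAdd (m.e.symm p)
    have ha : LieS.map k (f₀ k) e.hom (m.e (Multiplicative.ofAdd a)) = infPt u c := by
      refine Subtype.ext ?_
      rw [show m.e (Multiplicative.ofAdd a) = D from m.e.apply_symm_apply D]
      show ((infPt u c).1 ≫ e.inv) ≫ e.hom = (infPt u c).1
      rw [Category.assoc, Iso.inv_hom_id, Category.comp_id]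
    have hb : m.e (Multiplicative.ofAdd b) = p := m.e.apply_symm_apply p
    have h0 : (LieModule.toEnd k L L a)^[n] b = 0 := by
      have := LieModule.iterate_toEnd_mem_lowerCentralSeries k L L a b n
      rw [hn] at this
      exact (LieSubmodule.mem_bot _).1 this
    have h00 : Φ e.hom m (0 : L) = 0 := by
      have := Φ_lie e.hom m (0 : L) 0
      rw [lie_zero] at this
      rw [this, adD, sub_self]
    have h1 : (adD (der (infPt u c).1))^[n] (der (LieS.map k (f₀ k) e.hom p).1) = 0 := by
      have h2 := Φ_iterate e.hom m a b n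
      rw [h0, h00, Φ, Φ, ha, hb] at h2
      exact h2
    have h3 := commute_of_nilpotent u c hc _ h1
    obtain ⟨q, hq⟩ := (hzp _ p.1).2 (fun X' y h => by
      have h4 : (y ≫ p.1 ≫ e.hom) * ((h ≫ d.inv) ≫ u) = ((h ≫ d.inv) ≫ u) * (y ≫ p.1 ≫ e.hom) :=
        h3 X' y (h ≫ d.inv)
      simp only [u, Category.assoc, Iso.inv_hom_id_assoc] at h4
      rw [← cancel_mono e.hom, MonObj.mul_comp, MonObj.mul_comp, Category.assoc, Category.assoc]
      exact h4)
    refine ⟨⟨q, ?_⟩, Subtype.ext hq⟩
    rw [LieS.mem_Lie_iff, ← cancel_mono z, Category.assoc, hq, MonObj.one_comp]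
    exact (LieS.mem_Lie_iff G k (f₀ k) p.1).1 p.2
  haveI : IsSeparated Z.hom := by rw [← Over.w z]; infer_instance
  haveI : Smooth z.left := AlgGrpLib.LieSmooth.smooth_of_lie_surjective z hsurj
  haveI : IsReduced G.left := AbSchLib.isReduced_of_smooth G.hom
  haveI : Surjective z.left := by
    have h1 : IsClopen (Set.range z.left.base) :=
      ⟨hci.isClosedEmbedding.isClosed_range, z.left.isOpenMap.isOpen_range⟩
    have h2 : (Set.range z.left.base).Nonempty :=
      ⟨z.left.base ((1 : 𝟙_ (Over (Spec (CommRingCat.of k))) ⟶ Z).left.base (IsLocalRing.closedPoint k)), _, rfl⟩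
    exact ⟨Set.range_eq_univ.1 (IsClopen.eq_univ h1 h2)⟩
  haveI : IsIso ((Over.forget _).map z) := isIso_of_isClosedImmersion_of_surjective z.left
  haveI : IsIso z := isIso_of_reflects_iso z (Over.forget _)
  exact ((hzp X g).1 ⟨g ≫ inv z, by rw [Category.assoc, IsIso.inv_hom_id, Category.comp_id]⟩ X (𝟙 X) x |> fun h => by
    rw [Category.id_comp] at h; exact h.symm)

/-- Let G be a smooth, connected, affine algebraic group over an algebraically closed field k whose
reductive centre is trivial (every central subgroup scheme of multiplicative type is trivial), and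
suppose the Lie algebra of G is nilpotent. Then the maximal tori of G are trivial: G contains no
non-trivial subtorus. (The published statement concludes that G is unipotent, i.e. has a composition
series with quotients isomorphic to 𝔾_a; this row concludes only that G contains no non-trivial
subtorus.) -/
theorem result (k : Type u) [Field k] [IsAlgClosed k]
    (G : Over (Spec (CommRingCat.of k))) [GrpObj G] [Smooth G.hom] [QuasiCompact G.hom] [IsAffine G.left] [ConnectedSpace ↥G.left]
    (hZ : ∀ (Z : Over (Spec (CommRingCat.of k))) [GrpObj Z] (z : Z ⟶ G) [IsMonHom z] [Mono z], SGA3x.IsMultTypeFT Z →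
      (∀ (X : Over (Spec (CommRingCat.of k))) (x : X ⟶ Z) (g : X ⟶ G), (x ≫ z) * g = g * (x ≫ z)) → Red.IsTrivialGrp Z)
    (L : Type u) [LieRing L] [LieAlgebra k L] (m : LieS.Model G k (Spec.map (CommRingCat.ofHom (algebraMap k k))) L) (hL : LieRing.IsNilpotent L) :
    Red.HasNoSubtorus k G := by
  intro T _ j _ _ hT
  by_contra hne
  obtain ⟨N, _, hN, c, i, hi, him, hnt, hc⟩ := exists_small_sub T hT hne
  haveI := hN; haveI := hi; haveI := him
  have hcen := commute_of_lie_nilpotent G L m hL c hc (i ≫ j)
  have := hZ (Red.DS (Spec (CommRingCat.of k)) N) (i ≫ j) (Cochar26.isMultTypeFT_DS _ N) hcen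
  exact not_subsingleton N (subsingleton_of_isIso_DS N this)

end Groth.Agent.S8400
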