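import Groth.Statements.S8405
import Groth.Agent.S3027
import Groth.Agent.AlgGrpAbel26.Main
import Groth.Agent.AlgSpLib.FppfSource

set_option autoImplicit false
set_option linter.style.haveILetI false
set_option backward.isDefEq.respectTransparency.types false
universe u
open CategoryTheory MonoidalCategory CartesianMonoidalCategory MonObj GrpObj AlgebraicGeometry
open SGA3x

namespace Groth.Agent.S8405

/-- Let G be a connected algebraic group (a group scheme of finite type) over a field k, z : Z → G the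
centre of G and q : G → Q a morphism representing the fppf quotient G/Z. Then Q is an affine scheme.
(The published statement allows any subgroup of finite index in the centre; this row takes Z to be
the centre itself.) -/
theorem result (k : Type u) [Field k]
    (G : Over (Spec (CommRingCat.of k))) [GrpObj G] [QuasiCompact G.hom] [LocallyOfFiniteType G.hom] [ConnectedSpace ↥G.left]
    (Z : Over (Spec (CommRingCat.of k))) [GrpObj Z] (z : Z ⟶ G) (hZ : Red.IsCentre z)
    (Q : Over (Spec (CommRingCat.of k))) (q : G ⟶ Q) (hq : RedSub.IsQuotient z q) : IsAffine Q.left := by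
  obtain ⟨Z', _, i, hi, -, hZ', Q', _, q', hq', hAff, hQl, hQf, hQs, hker⟩ := Groth.Agent.S3027.result k G
  obtain ⟨hzh, hzm, hzpt⟩ := hZ
  haveI := hzh
  haveI := hzm
  haveI := hq'
  haveI := hAff
  haveI := hQl
  haveI := hQf
  haveI := hQs
  obtain ⟨hs, hf, hl, sq⟩ := hq
  haveI := hs
  haveI := hf
  haveI := hl
  haveI : LocallyOfFinitePresentation G.hom := LocallyOfFinitePresentation.iff_locallyOfFiniteType.2 inferInstance
  haveI : LocallyOfFinitePresentation Q.hom :=
    Groth.Agent.AlgSpLib.lfp_of_comp_fppf q.left Q.hom (by rw [Over.w q]; infer_instance)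
  haveI : LocallyOfFiniteType Q.hom := inferInstance
  haveI : QuasiCompact q.left := Groth.Agent.AlgGrpLib.quasiCompact_left q
  haveI : QuasiCompact q'.left := Groth.Agent.AlgGrpLib.quasiCompact_left q'
  have hsame : ∀ (T : Over (Spec (CommRingCat.of k))) (g : T ⟶ G),
      (∃ a : T ⟶ Z, a ≫ z = g) ↔ ∃ a : T ⟶ Z', a ≫ i = g := fun T g => by
    rw [hzpt, hZ']
    simp only [Category.comp_id]
  have hzq : z ≫ q' = 1 := by
    obtain ⟨a, ha⟩ := (hsame Z z).1 ⟨𝟙 Z, Category.id_comp z⟩
    rw [← ha, Category.assoc, Groth.Agent.AlgGrpLib.kernel_comp hker, MonObj.comp_one]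
  have hμ : ∀ (W : Over (Spec (CommRingCat.of k))) (r : W ⟶ G ⊗ Z),
      r ≫ (G ◁ z) ≫ μ[G] = (r ≫ fst G Z) * (r ≫ snd G Z ≫ z) := fun W r => by
    rw [← MonObj.comp_mul]
    rfl
  obtain ⟨r, hr⟩ := Groth.Agent.AlgGrpAbel26.exists_desc q q' (fun W a b hab => by
    obtain ⟨l, hl1, hl2⟩ := sq.exists_lift a b hab
    rw [← hl2, hμ, hl1, MonObj.mul_comp, Category.assoc, Category.assoc, hzq]
    simp only [MonObj.comp_one, _root_.mul_one])
  obtain ⟨r', hr'⟩ := Groth.Agent.AlgGrpAbel26.exists_desc q' q (fun W a b hab => by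
    obtain ⟨n, hn⟩ := Groth.Agent.AlgGrpLib.exists_lift_kernel hker (g := a⁻¹ * b)
      (by rw [MonObj.mul_comp, GrpObj.inv_comp, hab, inv_mul_cancel])
    obtain ⟨m, hm⟩ := (hsame W (a⁻¹ * b)).2 ⟨n, hn⟩
    have h := congrArg (lift a m ≫ ·) sq.w
    simp only [lift_fst_assoc] at h
    rw [h, ← Category.assoc (f := lift a m), hμ, lift_fst, lift_snd_assoc, hm, mul_inv_cancel_left])
  haveI := Groth.Agent.AlgGrpAbel26.epi_of_cover q
  haveI := Groth.Agent.AlgGrpAbel26.epi_of_cover q'
  haveI : IsIso r := ⟨r', by rw [← cancel_epi q, reassoc_of% hr, hr', Category.comp_id],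
    by rw [← cancel_epi q', reassoc_of% hr', hr, Category.comp_id]⟩
  haveI : IsIso r.left := inferInstanceAs (IsIso ((Over.forget _).map r))
  exact IsAffine.of_isIso r.left

end Groth.Agent.S8405
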