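import Groth.Statements.S8410
import Groth.Agent.SGA3cLib.CentralPreimage

set_option autoImplicit false
set_option linter.style.haveILetI false
set_option backward.isDefEq.respectTransparency.types false
universe u
open CategoryTheory MonoidalCategory CartesianMonoidalCategory MonObj GrpObj AlgebraicGeometry
open SGA3x

namespace Groth.Agent.S8410

/-- Let G be an S-group scheme, smooth and affine over S with connected fibres, Z a reductive centre of
G (central, of multiplicative type, and universal after every base change for central homomorphisms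
from groups of multiplicative type and finite type), and q : G → G′ a homomorphism representing the
quotient G/Z. Then the unit subgroup is a reductive centre of G′: for every S′ → S, every central
homomorphism H → G′ ×_S S′ from an S′-group H of multiplicative type and of finite type is trivial.
(The published item b) first asserts that G/Z is representable; this row takes a representing
homomorphism q as given and states its second assertion.) -/
theorem result (S : Scheme.{u}) (G : Over S) [GrpObj G]
    [Smooth G.hom] [IsAffineHom G.hom] (hconn : ∀ s : S, _root_.IsConnected (G.hom.base ⁻¹' {s}))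
    (Z : Over S) [GrpObj Z] (z : Z ⟶ G) (hZ : (IsMonHom z ∧ Mono z ∧ SGA3x.IsMultTypeFT Z ∧
      (∀ (X : Over S) (x : X ⟶ Z) (g : X ⟶ G), (x ≫ z) * g = g * (x ≫ z)) ∧
      ∀ (S' : Scheme.{u}) (f : S' ⟶ S) (H : Over S') [GrpObj H] (v : H ⟶ Red.bc f G) [IsMonHom v],
        SGA3x.IsMultTypeFT H →
        (∀ (X : Over S') (x : X ⟶ H) (g : X ⟶ Red.bc f G), (x ≫ v) * g = g * (x ≫ v)) →
        ∃ w : H ⟶ Red.bc f Z, w ≫ (Over.pullback f).map z = v))
    (G' : Over S) [GrpObj G'] (q : G ⟶ G') [IsMonHom q] (hq : RedSub.IsQuotient z q)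
    (S' : Scheme.{u}) (f : S' ⟶ S) (H : Over S') [GrpObj H] (v : H ⟶ Red.bc f G') [IsMonHom v]
    (hH : SGA3x.IsMultTypeFT H)
    (hv : ∀ (X : Over S') (x : X ⟶ H) (g : X ⟶ Red.bc f G'), (x ≫ v) * g = g * (x ≫ v)) :
    v = 1 := by
  obtain ⟨hzm, hzmono, hzmt, hzc, hzu⟩ := hZ
  haveI := hzm
  haveI := hzmono
  let F := Over.pullback f
  have hq' : RedSub.IsQuotient (F.map z) (F.map q) :=
    ⟨MorphismProperty.of_isPullback (P := @Surjective) (Groth.Agent.SGA3UnitSec.isPullback_map_left f q) hq.1,
      MorphismProperty.of_isPullback (P := @Flat) (Groth.Agent.SGA3UnitSec.isPullback_map_left f q) hq.2.1,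
      MorphismProperty.of_isPullback (P := @LocallyOfFinitePresentation) (Groth.Agent.SGA3UnitSec.isPullback_map_left f q) hq.2.2.1,
      ((Groth.Agent.GrpLim26.isPullback_act_iff f z (F.map q)).2 (hq.2.2.2.flip.map F)).flip⟩
  haveI : Smooth (Red.bc f G).hom := MorphismProperty.pullback_snd (P := @Smooth) _ _ inferInstance
  haveI : IsAffineHom (Red.bc f G).hom := MorphismProperty.pullback_snd (P := @IsAffineHom) _ _ inferInstance
  have hconn' : ∀ s : S', ConnectedSpace ↥(Limits.pullback (Red.bc f G).hom (S'.fromSpecResidueField s)) := fun s => by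
    haveI := Groth.Agent.SGA3cLib.NormalMultCentral.connectedSpace_bc G
      (fun t => Groth.Agent.IsoTriv.ExtensionComm.connectedSpace_fibre (hconn t)) (S'.fromSpecResidueField s ≫ f)
    exact (Limits.pullbackLeftPullbackSndIso G.hom f (S'.fromSpecResidueField s)).hom.homeomorph.connectedSpace_iff.mpr this
  have hzc' : ∀ (X : Over S') (x : X ⟶ Red.bc f Z) (g : X ⟶ Red.bc f G),
      (x ≫ F.map z) * g = g * (x ≫ F.map z) := fun X x g => by
    obtain ⟨x, rfl⟩ := (Groth.Agent.SGA3cLib.BCPoints.pt f Z X).surjective x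
    obtain ⟨g, rfl⟩ := (Groth.Agent.SGA3cLib.BCPoints.pt f G X).surjective g
    rw [← Groth.Agent.SGA3cLib.BCPoints.pt_comp, ← Groth.Agent.SGA3cLib.BCPoints.pt_mul,
      ← Groth.Agent.SGA3cLib.BCPoints.pt_mul, hzc]
  obtain ⟨P, instP, i', p, hi', hp, hw, hPm, hPc⟩ := Groth.Agent.SGA3cLib.CentralPreimage.exists_preimage hconn'
    (F.map z) (Groth.Agent.SGA3cLib.CentralDescent.isMultTypeFT_bc f Z hzmt) hzc' (F.map q) hq' v hH hv
  haveI := hi'
  haveI := hp
  obtain ⟨w, hw'⟩ := hzu S' f P i' hPm hPc
  have hzq : z ≫ q = 1 := by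
    have := (Groth.Agent.SGA3cLib.CentralPreimage.isKernel_of_isQuotient z q hq).w
    rw [this, Hom.one_def]
  rw [← cancel_epi p, ← hw, ← hw', Category.assoc, ← F.map_comp, hzq, MonObj.comp_one, Functor.map_one, MonObj.comp_one]

end Groth.Agent.S8410
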