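import Groth.Statements.S8412
import Groth.Agent.ConjConst26.CartanSub

set_option autoImplicit false
set_option backward.isDefEq.respectTransparency.types false
universe u
open CategoryTheory MonoidalCategory CartesianMonoidalCategory MonObj GrpObj AlgebraicGeometry
open SGA3x

namespace Groth.Agent.S8412

/-- Let G be an S-group scheme, smooth and of finite presentation over S with connected fibres, and i :
H → G a monomorphism of S-groups with H smooth over S, such that every geometric fibre H_s̄ is
connected and contains a Cartan subgroup of G_s̄ (has the same reductive and nilpotent ranks). Then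
a subgroup scheme C of H is a Cartan subgroup of H if and only if it is a Cartan subgroup of G. -/
theorem result (S : Scheme.{u}) (G : Over S) [GrpObj G]
    [Smooth G.hom] [QuasiCompact G.hom] [QuasiSeparated G.hom] (hconn : ∀ s : S, _root_.IsConnected (G.hom.base ⁻¹' {s}))
    (H : Over S) [GrpObj H] [Smooth H.hom] (i : H ⟶ G) [IsMonHom i] [Mono i]
    (hHconn : ∀ s : S, ConnectedSpace ↥(Red.geomFibre s H).left)
    (hHC : ∀ s : S, ∃ (C' : Over (Spec (CommRingCat.of (AlgebraicClosure (S.residueField s))))) (_ : GrpObj C')
      (c' : C' ⟶ Red.geomFibre s H), SGA3x.IsCartanOver _ (c' ≫ (Over.pullback (Red.geomPt s)).map i))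
    (C : Over S) [GrpObj C] (c : C ⟶ H) :
    SGA3x.IsCartan c ↔ SGA3x.IsCartan (c ≫ i) := by
  have hfib : ∀ s : S, SGA3x.IsCartanOver (AlgebraicClosure (S.residueField s)) ((Over.pullback (Red.geomPt s)).map c) ↔
      SGA3x.IsCartanOver (AlgebraicClosure (S.residueField s)) ((Over.pullback (Red.geomPt s)).map (c ≫ i)) := fun s => by
    obtain ⟨C', _, c', hC'⟩ := hHC s
    haveI := hHconn s
    haveI : Smooth (Red.geomFibre s H).hom := MorphismProperty.pullback_snd (P := @Smooth) _ _ inferInstance
    haveI : IsMonHom ((Over.pullback (Red.geomPt s)).map i) := inferInstanceAs (IsMonHom ((Over.pullback _).map i))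
    haveI : (Over.pullback (Red.geomPt s)).IsRightAdjoint := (Over.mapPullbackAdj _).isRightAdjoint
    rw [Functor.map_comp]
    exact Groth.Agent.ConjConst26.CartanSub.isCartanOver_iff _ c' hC' _
  constructor
  · rintro ⟨h1, h2, h3, h4⟩
    haveI := h1; haveI := h2
    exact ⟨inferInstance, mono_comp _ _, h3, fun s => (hfib s).1 (h4 s)⟩
  · rintro ⟨h1, h2, h3, h4⟩
    haveI := h1; haveI := h2
    haveI : Mono c := mono_of_mono c i
    refine ⟨Groth.Agent.SGA3cLib.BCPoints.isMonHom_of_mul c fun X x y => ?_, inferInstance, h3, fun s => (hfib s).2 (h4 s)⟩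
    rw [← cancel_mono i, Category.assoc, MonObj.mul_comp, MonObj.mul_comp, Category.assoc, Category.assoc]

end Groth.Agent.S8412
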