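import Groth.Statements.S8414
import Groth.Agent.GrpQ26.Preimage
import Groth.Agent.FlatMor12.FibreFlat

set_option autoImplicit false
set_option linter.style.haveILetI false
set_option backward.isDefEq.respectTransparency.types false
universe u
open CategoryTheory MonoidalCategory CartesianMonoidalCategory MonObj GrpObj AlgebraicGeometry
open SGA3x

namespace Groth.Agent.S8414

/-- Let G, G′ be S-group schemes flat and of finite presentation over S, u : G → G′ a homomorphism which
is faithfully flat, and C′ a subgroup scheme of G′ of finite presentation over S whose inverse image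
C = u⁻¹(C′) is smooth over S (resp. has connected fibres). Then for every subgroup scheme H′ of G′
of finite presentation over S containing C′ and smooth over S (resp. with connected fibres), the
inverse image u⁻¹(H′) is smooth over S (resp. has connected fibres). -/
theorem result (S : Scheme.{u}) (G G' : Over S) [GrpObj G] [GrpObj G']
    [Flat G.hom] [QuasiCompact G.hom] [QuasiSeparated G.hom] [LocallyOfFinitePresentation G.hom]
    [Flat G'.hom] [QuasiCompact G'.hom] [QuasiSeparated G'.hom] [LocallyOfFinitePresentation G'.hom]
    (u : G ⟶ G') [IsMonHom u] [Flat u.left] [Surjective u.left]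
    (C' : Over S) [GrpObj C'] (c' : C' ⟶ G') [IsMonHom c'] [Mono c']
    [QuasiCompact C'.hom] [QuasiSeparated C'.hom] [LocallyOfFinitePresentation C'.hom]
    (H' : Over S) [GrpObj H'] (h' : H' ⟶ G') [IsMonHom h'] [Mono h']
    [QuasiCompact H'.hom] [QuasiSeparated H'.hom] [LocallyOfFinitePresentation H'.hom]
    (hle : ∃ f : C' ⟶ H', f ≫ h' = c') :
    (Smooth (Limits.pullback c' u).hom → Smooth H'.hom → Smooth (Limits.pullback h' u).hom) ∧
    ((∀ s : S, _root_.IsConnected ((Limits.pullback c' u).hom.base ⁻¹' {s})) →
      (∀ s : S, _root_.IsConnected (H'.hom.base ⁻¹' {s})) →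
      ∀ s : S, _root_.IsConnected ((Limits.pullback h' u).hom.base ⁻¹' {s})) := by
  obtain ⟨f, hf⟩ := hle
  have key : ∀ s : S,
      (Smooth (Over.hom ((Over.pullback (S.fromSpecResidueField s)).obj (Limits.pullback c' u))) → Smooth (Over.hom ((Over.pullback (S.fromSpecResidueField s)).obj H')) →
        Smooth (Over.hom ((Over.pullback (S.fromSpecResidueField s)).obj (Limits.pullback h' u)))) ∧
      (ConnectedSpace ↥((Over.pullback (S.fromSpecResidueField s)).obj (Limits.pullback c' u)).left →
        ConnectedSpace ↥((Over.pullback (S.fromSpecResidueField s)).obj H').left →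
        ConnectedSpace ↥((Over.pullback (S.fromSpecResidueField s)).obj (Limits.pullback h' u)).left) := by
    intro s
    let g := S.fromSpecResidueField s
    let F := Over.pullback g
    have hlft : ∀ (Z : Over S) [LocallyOfFinitePresentation Z.hom], LocallyOfFiniteType (Red.bc g Z).hom := fun Z _ =>
      MorphismProperty.pullback_snd (P := @LocallyOfFiniteType) _ _ inferInstance
    have hqc : ∀ (Z : Over S) [QuasiCompact Z.hom], QuasiCompact (Red.bc g Z).hom := fun Z _ =>
      MorphismProperty.pullback_snd (P := @QuasiCompact) _ _ inferInstance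
    haveI := hlft G; haveI := hlft G'; haveI := hlft C'; haveI := hlft H'
    haveI := hqc G; haveI := hqc C'; haveI := hqc H'
    haveI : Flat (F.map u).left := MorphismProperty.of_isPullback (Groth.Agent.SGA3UnitSec.isPullback_map_left g u) ‹_›
    haveI : Surjective (F.map u).left := MorphismProperty.of_isPullback (Groth.Agent.SGA3UnitSec.isPullback_map_left g u) ‹_›
    obtain ⟨h1, h2⟩ := Groth.Agent.GrpQ26.preimage_subgroup (k := S.residueField s) (F.map u) (F.map c') (F.map h') (F.map f)
      (by rw [← F.map_comp, hf])
    let eC := Limits.PreservesPullback.iso F c' u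
    let eX := Limits.PreservesPullback.iso F h' u
    haveI : IsIso eC.inv.left := inferInstanceAs (IsIso ((Over.forget _).map eC.inv))
    haveI : IsIso eX.hom.left := inferInstanceAs (IsIso ((Over.forget _).map eX.hom))
    refine ⟨fun hC hH => ?_, fun hC hH => ?_⟩
    · haveI := hC
      haveI : Smooth (Limits.pullback (F.map c') (F.map u)).hom := by rw [← Over.w eC.inv]; infer_instance
      haveI := h1 inferInstance hH
      rw [← Over.w eX.hom]; infer_instance
    · haveI : ConnectedSpace ↥((Over.forget _).obj (F.obj (Limits.pullback c' u))) := hC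
      haveI : ConnectedSpace ↥(Limits.pullback (F.map c') (F.map u)).left :=
        ((Over.forget _).mapIso eC).hom.homeomorph.surjective.connectedSpace ((Over.forget _).mapIso eC).hom.homeomorph.continuous
      haveI : ConnectedSpace ↥((Over.forget _).obj (Limits.pullback (F.map h') (F.map u))) := h2 inferInstance hH
      exact ((Over.forget _).mapIso eX).inv.homeomorph.surjective.connectedSpace ((Over.forget _).mapIso eX).inv.homeomorph.continuous
  refine ⟨fun hC hH => ?_, fun hC hH s => ?_⟩
  · haveI := hC
    haveI := hH
    have hpu := (IsPullback.of_hasPullback h' u).map (Over.forget S)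
    have hlfp : LocallyOfFinitePresentation u.left := by
      haveI : LocallyOfFinitePresentation (u.left ≫ G'.hom) := by rw [Over.w u]; infer_instance
      exact Groth.Agent.FlatMor12.lfp_of_comp u.left G'.hom
    haveI : Flat (Limits.pullback.fst h' u).left := MorphismProperty.of_isPullback (P := @Flat) hpu.flip ‹_›
    haveI : LocallyOfFinitePresentation (Limits.pullback.fst h' u).left :=
      MorphismProperty.of_isPullback (P := @LocallyOfFinitePresentation) hpu.flip hlfp
    haveI : Flat (Limits.pullback h' u).hom := by rw [← Over.w (Limits.pullback.fst h' u)]; infer_instance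
    haveI : LocallyOfFinitePresentation (Limits.pullback h' u).hom := by rw [← Over.w (Limits.pullback.fst h' u)]; infer_instance
    refine Smooth.of_smooth_fiberToSpecResidueField _ fun s => ?_
    exact (key s).1 (MorphismProperty.pullback_snd _ _ hC) (MorphismProperty.pullback_snd _ _ hH)
  · have conn : ∀ (Z : Over S), _root_.IsConnected (Z.hom.base ⁻¹' {s}) ↔
        ConnectedSpace ↥((Over.pullback (S.fromSpecResidueField s)).obj Z).left := fun Z =>
      isConnected_iff_connectedSpace.trans (Z.hom.fiberHomeo s).connectedSpace_iff.symm
    exact (conn _).2 ((key s).2 ((conn _).1 (hC s)) ((conn _).1 (hH s)))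

end Groth.Agent.S8414
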