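import Groth.Statements.S8416
import Groth.Agent.IsoTriv.FixedSmooth
import Groth.Agent.IsoTriv.SchemeLocal
import Groth.Agent.IsoTriv.MultBasic
import Groth.Agent.SGA3cLib.MTTransporter
import Groth.Agent.SGA3cLib.CentralFib

set_option autoImplicit false
universe u
open CategoryTheory MonoidalCategory CartesianMonoidalCategory MonObj GrpObj AlgebraicGeometry
open SGA3x

namespace Groth.Agent.S8416

open CategoryTheory.Limits
open Groth.Agent.IsoTriv Groth.Agent.SGA3cLib CoactBr Groth.Agent.HopfLib.SpPoints
open scoped TensorProduct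

theorem lfp_fixed {S : Scheme.{u}} {G X : Over S} [GrpObj G] (hG : MTTransporter.IsMTS G) [IsSeparated X.hom]
    [LocallyOfFiniteType X.hom] (a : AlgGrp.Action G X) {F : Scheme.{u}} (f : F ⟶ X.left) [IsClosedImmersion f]
    (hF : ∀ (T : Over S) (x : T ⟶ X), (∃ y : T.left ⟶ F, y ≫ f = x.left) ↔
        ∀ (T' : Over S) (t : T' ⟶ T) (g : T' ⟶ G), lift g (t ≫ x) ≫ a.act = t ≫ x) :
    LocallyOfFinitePresentation f := by
  let φ : G ⊗ X ⟶ X := a.act
  let ψ : G ⊗ X ⟶ X := snd G X
  let Δ : X ⟶ X ⊗ X := lift (𝟙 X) (𝟙 X)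
  have hΔ : Δ.left = pullback.diagonal X.hom := by
    apply pullback.hom_ext
    · rw [pullback.diagonal_fst]; exact congrArg (fun t : X ⟶ X => t.left) (lift_fst (𝟙 X) (𝟙 X))
    · rw [pullback.diagonal_snd]; exact congrArg (fun t : X ⟶ X => t.left) (lift_snd (𝟙 X) (𝟙 X))
  haveI : IsClosedImmersion Δ.left := by rw [hΔ]; exact IsSeparated.isClosedImmersion_diagonal
  haveI : LocallyOfFinitePresentation Δ.left := by
    rw [hΔ]; exact H8Lim.locallyOfFinitePresentation_diagonal X.hom
  let k : pullback (lift φ ψ).left Δ.left ⟶ (G ⊗ X).left := pullback.fst _ _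
  haveI : IsClosedImmersion k := MorphismProperty.pullback_fst (P := @IsClosedImmersion) _ _ inferInstance
  haveI : LocallyOfFinitePresentation k :=
    MorphismProperty.pullback_fst (P := @LocallyOfFinitePresentation) _ _ inferInstance
  obtain ⟨T, t, ht, hT, htfp⟩ := WeilRes.exists_closedImmersion (snd G X).left k
    (S5356.essentiallyFree_baseChange G.hom X.hom (MultEssFree.essentiallyFree G hG))
  haveI := MTTransporter.quasiCompact_of_mult G hG
  haveI : QuasiCompact (snd G X).left := inferInstanceAs (QuasiCompact (pullback.snd G.hom X.hom))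
  haveI := htfp inferInstance inferInstance
  haveI := ht
  have key : ∀ (Y : Over S) (x : Y ⟶ X), (∃ z : Y.left ⟶ T, z ≫ t = x.left) ↔ ∃ y : Y.left ⟶ F, y ≫ f = x.left := by
    intro Y x
    have hsq : IsPullback (G ◁ x).left (snd G Y).left (snd G X).left x.left := by
      refine IsPullback.of_right (h₁₂ := (fst G X).left) (v₁₃ := G.hom) (h₂₂ := X.hom) ?_
        (congrArg CommaMorphism.left (whiskerLeft_snd G x)) (IsPullback.of_hasPullback G.hom X.hom)
      rw [show (G ◁ x).left ≫ (fst G X).left = (fst G Y).left from congrArg CommaMorphism.left (whiskerLeft_fst G x),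
        Over.w x]
      exact IsPullback.of_hasPullback G.hom Y.hom
    have h1 : WeilRes.Factors (snd G X).left k Y.left x.left ↔ (G ◁ x) ≫ φ = (G ◁ x) ≫ ψ := by
      constructor
      · rintro ⟨l, hl⟩
        let l' := hsq.isoPullback.hom ≫ l ≫ pullback.snd (lift φ ψ).left Δ.left
        have hl' : l' ≫ Δ.left = ((G ◁ x) ≫ lift φ ψ).left := by
          change l' ≫ Δ.left = (G ◁ x).left ≫ (lift φ ψ).left
          simp only [l', Category.assoc, ← pullback.condition]
          change hsq.isoPullback.hom ≫ l ≫ k ≫ (lift φ ψ).left = _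
          rw [reassoc_of% hl, IsPullback.isoPullback_hom_fst_assoc]
        let x' : G ⊗ Y ⟶ X := Over.homMk l' (by
          rw [← Over.w Δ, ← Category.assoc, hl']; exact Over.w ((G ◁ x) ≫ lift φ ψ))
        have hx' : x' ≫ Δ = (G ◁ x) ≫ lift φ ψ := Over.OverMorphism.ext hl'
        have e1 := congrArg (· ≫ fst X X) hx'
        have e2 := congrArg (· ≫ snd X X) hx'
        simp [Δ] at e1 e2
        rw [← e1, ← e2]
      · intro he
        have hx' : ((G ◁ x) ≫ φ) ≫ Δ = (G ◁ x) ≫ lift φ ψ := by
          simp only [Δ, comp_lift, Category.comp_id, he]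
        refine ⟨hsq.isoPullback.inv ≫ pullback.lift (G ◁ x).left ((G ◁ x) ≫ φ).left
          (congrArg CommaMorphism.left hx'.symm), ?_⟩
        rw [Category.assoc, pullback.lift_fst, IsPullback.isoPullback_inv_fst]
    rw [← hT, h1, hF Y x]
    constructor
    · intro he T' u g
      have := congrArg (fun q => lift g u ≫ q) he
      simp only [φ, ψ, ← Category.assoc, lift_whiskerLeft, lift_snd] at this
      exact this
    · intro hc
      have := hc (G ⊗ Y) (snd G Y) (fst G Y)
      have hlw : lift (fst G Y) (snd G Y ≫ x) = G ◁ x := by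
        apply CartesianMonoidalCategory.hom_ext <;> simp
      rw [hlw] at this
      simpa [φ, ψ] using this
  obtain ⟨u, hu⟩ := (key (Over.mk (t ≫ X.hom)) (Over.homMk t rfl)).mp ⟨𝟙 _, Category.id_comp _⟩
  obtain ⟨v, hv⟩ := (key (Over.mk (f ≫ X.hom)) (Over.homMk f rfl)).mpr ⟨𝟙 _, Category.id_comp _⟩
  change T ⟶ F at u
  change F ⟶ T at v
  change u ≫ f = t at hu
  change v ≫ t = f at hv
  haveI : IsIso v := ⟨u, by rw [← cancel_mono f, Category.assoc, hu, hv, Category.id_comp],
    by rw [← cancel_mono t, Category.assoc, hv, hu, Category.id_comp]⟩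
  rw [← hv]
  infer_instance

/-- Let G be an S-group scheme of multiplicative type and of finite type acting on an S-scheme X which
is smooth, separated and of finite presentation over S, and suppose that the functor of fixed points
X^G (T-points x of X with g · x_{T′} = x_{T′} for every T′ → T and every T′-point g of G) is
represented by a closed subscheme F of X. Then F is smooth over S. (The published statement, for
groups admitting a composition series of which groups of multiplicative type are one case, also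
asserts that X^G is represented by a closed subscheme of X of finite presentation over S; this row
takes the representing closed subscheme as given and states its smoothness.) -/
theorem result (S : Scheme.{u}) (G : Over S) [GrpObj G]
    (hG : SGA3x.IsMultTypeFT G) (X : Over S) [Smooth X.hom] [QuasiCompact X.hom] [IsSeparated X.hom]
    (a : AlgGrp.Action G X) (F : Scheme.{u}) (f : F ⟶ X.left) (hf : IsClosedImmersion f)
    (hF : ∀ (T : Over S) (x : T ⟶ X), (∃ y : T.left ⟶ F, y ≫ f = x.left) ↔
        ∀ (T' : Over S) (t : T' ⟶ T) (g : T' ⟶ G), lift g (t ≫ x) ≫ a.act = t ≫ x) :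
    Smooth (f ≫ X.hom) := by
  haveI := hf
  haveI : LocallyOfFiniteType X.hom := inferInstance
  have hGl := CentralFib.locally_of_multTypeFT hG
  haveI := lfp_fixed hGl a f hF
  haveI := SchemeBridge.isAffineHom_of_multTypeFT G hG
  have hch : ∀ x : X.left, ∃ (V : S.Opens) (W : X.left.Opens), IsAffineOpen V ∧ IsAffineOpen W ∧ x ∈ W ∧ W ≤ X.hom ⁻¹ᵁ V := by
    intro x
    obtain ⟨V, hV, hxV, -⟩ := exists_isAffineOpen_mem_and_subset (U := (⊤ : S.Opens)) (x := X.hom.base x) trivial
    obtain ⟨W, hW, hxW, hle⟩ := exists_isAffineOpen_mem_and_subset (U := X.hom ⁻¹ᵁ V) (x := x) hxV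
    exact ⟨V, W, hV, hW, hxW, hle⟩
  choose V W hV hW hmem hle using hch
  have hcov : TopologicalSpace.IsOpenCover W :=
    TopologicalSpace.IsOpenCover.mk (eq_top_iff.2 fun x _ => TopologicalSpace.Opens.mem_iSup.2 ⟨x, hmem x⟩)
  refine IsZariskiLocalAtSource.of_openCover (P := @Smooth)
    (Precoverage.ZeroHypercover.pullback₁ f (X.left.openCoverOfIsOpenCover W hcov)) fun (i : X.left) => ?_
  let R : Type u := Γ(S, V i)
  let C : Type u := Γ(X.left, W i)
  letI : Algebra R C := (X.hom.appLE (V i) (W i) (hle i)).hom.toAlgebra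
  let g : Spec (CommRingCat.of R) ⟶ S := (hV i).fromSpec
  let j : Spec (CommRingCat.of C) ⟶ X.left := (hW i).fromSpec
  have hj : j ≫ X.hom = str R C ≫ g := ((hV i).SpecMap_appLE_fromSpec X.hom (hW i) (hle i)).symm
  have hsm : Algebra.Smooth R C := X.hom.smooth_appLE (hV i) (hW i) (hle i)
  let p : pullback f (W i).ι ⟶ Spec (CommRingCat.of C) := pullback.snd f (W i).ι ≫ (hW i).isoSpec.hom
  haveI : IsClosedImmersion p := inferInstance
  haveI : LocallyOfFinitePresentation p := inferInstance
  have hp : p ≫ j = pullback.fst f (W i).ι ≫ f := by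
    rw [Category.assoc, show (hW i).isoSpec.hom ≫ (hW i).fromSpec = (W i).ι by
      rw [IsAffineOpen.fromSpec, Iso.hom_inv_id_assoc], pullback.condition]
  obtain ⟨c, ε, hε⟩ := IsClosedImmersion.Spec_iff.mp ‹IsClosedImmersion p›
  haveI : LocallyOfFinitePresentation (Spec.map (CommRingCat.ofHom (Ideal.Quotient.mk c))) := by
    rw [show Spec.map (CommRingCat.ofHom (Ideal.Quotient.mk c)) = ε.inv ≫ p by rw [hε, Iso.inv_hom_id_assoc]]
    infer_instance
  haveI : IsAffineHom (Red.bc g G).hom := MorphismProperty.pullback_snd (P := @IsAffineHom) _ _ ‹_›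
  haveI : IsAffine (Red.bc g G).left := isAffine_of_isAffineHom (Red.bc g G).hom
  obtain ⟨B, _, _, ⟨e⟩⟩ := SchemeSpec.exists_spec (R := R) (Red.bc g G)
  obtain ⟨-, hm⟩ := SchemeLocal.isMultType_of_bc G hG g e
  have := isCocomm_of_isMultType hm
  obtain ⟨P, hP1, hP⟩ := exists_integral_of_cover (hasCover_of_isMultType hm)
  have hfs : Algebra.FormallySmooth R (C ⧸ c) := by
    haveI : Algebra.FormallySmooth R C := hsm.formallySmooth
    refine FixedSmooth.formallySmooth g e a j hj c P hP1 hP fun E _ _ x => ?_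
    rw [← hF]
    constructor
    · intro hx
      refine ⟨Spec.map (CommRingCat.ofHom (Ideal.Quotient.lift c x.toRingHom hx)) ≫ ε.inv ≫ pullback.fst f (W i).ι, ?_⟩
      show (_ ≫ _ ≫ _) ≫ f = Spec.map (CommRingCat.ofHom x.toRingHom) ≫ j
      rw [Category.assoc, Category.assoc, ← hp, hε, Category.assoc, Iso.inv_hom_id_assoc, ← Spec.map_comp_assoc,
        ← CommRingCat.ofHom_comp, Ideal.Quotient.lift_comp_mk]
    · rintro ⟨y, hy⟩
      change y ≫ f = Spec.map (CommRingCat.ofHom x.toRingHom) ≫ j at hy
      let l : Spec (CommRingCat.of E) ⟶ pullback f (W i).ι :=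
        pullback.lift y (Spec.map (CommRingCat.ofHom x.toRingHom) ≫ (hW i).isoSpec.inv) (by
          rw [hy, Category.assoc, show (hW i).isoSpec.inv ≫ (W i).ι = j from rfl])
      have hl : l ≫ p = Spec.map (CommRingCat.ofHom x.toRingHom) := by
        simp only [p, l]
        erw [pullback.lift_snd_assoc, Category.assoc, Iso.inv_hom_id, Category.comp_id]
      intro z hz
      have h2 : CommRingCat.ofHom (Ideal.Quotient.mk c) ≫ Spec.preimage (l ≫ ε.hom) = CommRingCat.ofHom x.toRingHom := by
        apply Spec.map_injective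
        rw [Spec.map_comp, Spec.map_preimage, Category.assoc, ← hε, hl]
      have h3 : (Spec.preimage (l ≫ ε.hom)).hom (Ideal.Quotient.mk c z) = x z := congr($h2 z)
      rw [RingHom.mem_ker, ← h3, Ideal.Quotient.eq_zero_iff_mem.mpr hz, map_zero]
  have hfp : Algebra.FinitePresentation R (C ⧸ c) := by
    haveI : LocallyOfFinitePresentation (Spec.map (CommRingCat.ofHom (algebraMap R C))) := by
      rw [LocallyOfFinitePresentation.SpecMap_iff, CommRingCat.hom_ofHom, RingHom.finitePresentation_algebraMap]
      exact hsm.finitePresentation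
    have h : LocallyOfFinitePresentation (Spec.map (CommRingCat.ofHom (algebraMap R (C ⧸ c)))) := by
      rw [IsScalarTower.algebraMap_eq R C (C ⧸ c), CommRingCat.ofHom_comp, Spec.map_comp]
      exact MorphismProperty.comp_mem (W := @LocallyOfFinitePresentation) _ _ ‹_› ‹_›
    rw [LocallyOfFinitePresentation.SpecMap_iff, CommRingCat.hom_ofHom, RingHom.finitePresentation_algebraMap] at h
    exact h
  haveI : Algebra.Smooth R (C ⧸ c) := ⟨hfs, hfp⟩
  haveI : Smooth (str R (C ⧸ c)) := by
    show Smooth (Spec.map _)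
    rw [HasRingHomProperty.Spec_iff (P := @Smooth), CommRingCat.hom_ofHom, RingHom.smooth_algebraMap]
    infer_instance
  show Smooth (pullback.fst f (W i).ι ≫ f ≫ X.hom)
  rw [← reassoc_of% hp, hε, Category.assoc, hj, ← Category.assoc (Spec.map _)]
  rw [show Spec.map (CommRingCat.ofHom (Ideal.Quotient.mk c)) ≫ str R C = str R (C ⧸ c) from
    (Spec.map_comp _ _).symm]
  infer_instance

end Groth.Agent.S8416
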