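import Groth.Statements.S8424
import Groth.Agent.Luna12.SolvNorm
import Groth.Agent.CentConn12.NormCartan
-- import your own Groth.Agent.* helpers here

set_option autoImplicit false
set_option backward.isDefEq.respectTransparency false
set_option backward.isDefEq.respectTransparency.types false
open CategoryTheory.Limits
universe u
open CategoryTheory MonoidalCategory CartesianMonoidalCategory MonObj GrpObj AlgebraicGeometry
open SGA3x

namespace Groth.Agent.S8424

/-- Let G be a smooth algebraic group (not necessarily affine) over an algebraically closed field k, B a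
Borel subgroup of G, C a Cartan subgroup of B and N the normalizer of C in G. Then N ∩ B = C: a
point of G with values in a k-scheme factors through N and through B if and only if it factors
through C. -/
theorem result (k : Type u) [Field k] [IsAlgClosed k]
    (G : Over (Spec (CommRingCat.of k))) [GrpObj G] [Smooth G.hom] [QuasiCompact G.hom]
    (B : Over (Spec (CommRingCat.of k))) [GrpObj B] (b : B ⟶ G) (hB : Red.IsBorelOver k b)
    (C : Over (Spec (CommRingCat.of k))) [GrpObj C] (c : C ⟶ B) (hC : SGA3x.IsCartanOver k c)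
    (N : Over (Spec (CommRingCat.of k))) [GrpObj N] (n : N ⟶ G) (hN : Red.IsNormalizerOf (c ≫ b) n)
    (X : Over (Spec (CommRingCat.of k))) (g : X ⟶ G) :
    ((∃ x : X ⟶ N, x ≫ n = g) ∧ (∃ y : X ⟶ B, y ≫ b = g)) ↔ ∃ z : X ⟶ C, z ≫ c ≫ b = g := by
  obtain ⟨hb, hbcl, hbsm, hbconn, hbsolv, -⟩ := hB
  obtain ⟨hc, hcm, T, gT, i, hT, hCi⟩ := hC
  letI := gT
  haveI := hb; haveI := hbcl; haveI := hbsm; haveI := hbconn; haveI := hc; haveI := hcm
  haveI : Mono b := Over.mono_of_mono_left b
  haveI : QuasiCompact B.hom := by rw [← Over.w b]; infer_instance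
  haveI := hT.1
  constructor
  · rintro ⟨⟨x, hx⟩, y, hy⟩
    have hn := (hN.2.2 X g).1 ⟨x, hx⟩
    have hny : Groth.Agent.CentConn12.NormPt c y := by
      intro X' w h
      obtain ⟨⟨h₁, e₁⟩, h₂, e₂⟩ := hn X' w h
      refine ⟨⟨h₁, ?_⟩, h₂, ?_⟩
      · rw [← cancel_mono b]
        simpa only [MonObj.mul_comp, GrpObj.inv_comp, Category.assoc, hy] using e₁
      · rw [← cancel_mono b]
        simpa only [MonObj.mul_comp, GrpObj.inv_comp, Category.assoc, hy] using e₂
    have hni := Groth.Agent.CentConn12.normPt_torus hT hCi y hny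
    obtain ⟨z, hz⟩ := (hCi.2.2 X y).2 (Groth.Agent.Luna12.commute_of_norm hbsolv hT.2.2.1 i y
      fun X' w h => (hni X' w h).1)
    exact ⟨z, by rw [← Category.assoc, hz, hy]⟩
  · rintro ⟨z, rfl⟩
    refine ⟨(hN.2.2 X _).2 fun X' w h => ⟨⟨(w ≫ z) * h * (w ≫ z)⁻¹, ?_⟩, ⟨(w ≫ z)⁻¹ * h * (w ≫ z), ?_⟩⟩,
      z ≫ c, Category.assoc _ _ _⟩
    · simp only [MonObj.mul_comp, GrpObj.inv_comp, Category.assoc]
    · simp only [MonObj.mul_comp, GrpObj.inv_comp, Category.assoc]


end Groth.Agent.S8424
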