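import Groth.Statements.S8426
import Groth.Agent.SGA3Power26.MultSubLift
import Groth.Agent.SGA3Power26.AvgHomNil
import Groth.Agent.CAlgH.FlatFormallySmooth
import Groth.Agent.VarietyLib.FiniteClosedCover
import Mathlib.AlgebraicGeometry.Pullbacks

set_option autoImplicit false
set_option linter.style.haveILetI false
set_option backward.isDefEq.respectTransparency.types false
universe u
open CategoryTheory MonoidalCategory CartesianMonoidalCategory MonObj GrpObj AlgebraicGeometry
open SGA3x CartesianMonoidalCategory CategoryTheory.Limits Groth.Agent Groth.Agent.SGA3Power26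
open scoped TensorProduct

namespace Groth.Agent.S8426

/-- Let S = Spec A be affine, S₀ = Spec(A/J) the closed subscheme defined by an ideal J of square zero,
G an S-group scheme and H₀ a subgroup scheme of G₀ = G ×_S S₀ (a monomorphic homomorphism H₀ → G₀
which is an immersion) which is smooth and of finite type over S₀ and of multiplicative type. Then G
has a subgroup scheme of multiplicative type (again an immersion) lifting H₀ if and only if G has a
subscheme H′, flat over S, lifting H₀ (H′ ×_S S₀ = H₀ as subschemes of G₀). -/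
theorem result (A : Type u) [CommRing A] (J : Ideal A) (hJ : J ^ 2 = ⊥)
    (G : Over (Spec (CommRingCat.of A))) [GrpObj G]
    (H₀ : Over (Spec (CommRingCat.of (A ⧸ J)))) [GrpObj H₀] (j₀ : H₀ ⟶ Red.bc (Spec.map (CommRingCat.ofHom (Ideal.Quotient.mk J))) G) [IsMonHom j₀] [Mono j₀]
    (hj₀ : IsImmersion j₀.left) [Smooth H₀.hom] [QuasiCompact H₀.hom] (hm₀ : SGA3x.IsMultTypeFT H₀) :
    (∃ (H : Over (Spec (CommRingCat.of A))) (_ : GrpObj H) (j : H ⟶ G), IsMonHom j ∧ Mono j ∧ IsImmersion j.left ∧ SGA3x.IsMultTypeFT H ∧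
      ∃ e : Red.bc (Spec.map (CommRingCat.ofHom (Ideal.Quotient.mk J))) H ≅ H₀, e.hom ≫ j₀ = (Over.pullback (Spec.map (CommRingCat.ofHom (Ideal.Quotient.mk J)))).map j) ↔
    (∃ (H' : Scheme.{u}) (h' : H' ⟶ G.left), IsImmersion h' ∧ Flat (h' ≫ G.hom) ∧
      ∃ e : Limits.pullback h' (Limits.pullback.fst G.hom (Spec.map (CommRingCat.ofHom (Ideal.Quotient.mk J)))) ≅ H₀.left,
        e.hom ≫ j₀.left = Limits.pullback.snd h' (Limits.pullback.fst G.hom (Spec.map (CommRingCat.ofHom (Ideal.Quotient.mk J))))) := by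
  let q := HomLiftMult.thick J
  have hnil : IsNilpotent J := ⟨2, hJ⟩
  haveI : LocallyOfFiniteType H₀.hom := inferInstance
  constructor
  · rintro ⟨H, _, j, hjm, -, hji, hH, φ, hφ⟩
    haveI := hji
    refine ⟨H.left, j.left, hji, ?_, ?_⟩
    · rw [Over.w j]; exact SGA3cLib.HomGroup.flat_of_multTypeFT H hH
    have sq : IsPullback (pullback.fst H.hom q) ((Over.pullback q).map j).left j.left (pullback.fst G.hom q) := by
      refine IsPullback.of_bot (v₂₁ := pullback.snd G.hom q) (v₂₂ := G.hom) (h₃₁ := q) ?_ ?_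
        (IsPullback.of_hasPullback G.hom q)
      · have e1 : ((Over.pullback q).map j).left ≫ pullback.snd G.hom q = pullback.snd H.hom q :=
          pullback.lift_snd _ _ _
        rw [e1, Over.w j]
        exact IsPullback.of_hasPullback H.hom q
      · exact (pullback.lift_fst _ _ _).symm
    refine ⟨sq.isoPullback.symm ≪≫ (Over.forget _).mapIso φ, ?_⟩
    show (sq.isoPullback.inv ≫ φ.hom.left) ≫ j₀.left = _
    rw [Category.assoc, ← Over.comp_left, hφ]
    exact sq.isoPullback_inv_snd
  rintro ⟨H', h', himm, hfl, eP, heP⟩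
  haveI := himm
  haveI := hfl
  haveI := hj₀
  have hH₀ := HomLiftMult.isMT_of_multTypeFT hm₀
  obtain ⟨H, _, hH, hlft, φ, hφ⟩ := MultSubLift.exists_abstract_lift J hnil H₀ hH₀
  haveI := hlft
  haveI := HomLiftMult.isAffineHom_of_isMT H₀ hH₀
  haveI : IsAffine H₀.left := isAffine_of_isAffineHom H₀.hom
  haveI : IsClosedImmersion q := IsClosedImmersion.spec_of_surjective _ Ideal.Quotient.mk_surjective
  haveI : Surjective q := ⟨fun x => by
    have : (x : PrimeSpectrum A) ∈ Set.range (PrimeSpectrum.comap (Ideal.Quotient.mk J)) := by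
      rw [range_comap_of_surjective _ _ Ideal.Quotient.mk_surjective, Ideal.mk_ker]
      exact fun r hr => nilradical_le_prime _ (⟨2, by simpa [hJ] using Ideal.pow_mem_pow hr 2⟩ : IsNilpotent r)
    exact this⟩
  haveI : IsAffine H' := by
    let i := pullback.fst h' (pullback.fst G.hom q)
    haveI : IsClosedImmersion (pullback.fst G.hom q) := MorphismProperty.pullback_fst G.hom q inferInstance
    haveI : Surjective (pullback.fst G.hom q) := MorphismProperty.pullback_fst G.hom q inferInstance
    haveI : IsClosedImmersion i := MorphismProperty.pullback_fst h' _ inferInstance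
    haveI : Surjective i := MorphismProperty.pullback_fst h' _ inferInstance
    haveI : IsAffine (pullback h' (pullback.fst G.hom q)) := IsAffine.of_isIso eP.hom
    exact VarietyLib.isAffine_of_surjective_closedImmersion i i.surjective
  let C : Type u := Γ(H', ⊤)
  letI : Algebra A C := (Spec.preimage (H'.isoSpec.inv ≫ h' ≫ G.hom)).hom.toAlgebra
  have hC : H'.isoSpec.inv ≫ h' ≫ G.hom = Spec.map (CommRingCat.ofHom (algebraMap A C)) := (Spec.map_preimage _).symm
  haveI : Module.Flat A C := by
    have h1 : Flat (Spec.map (CommRingCat.ofHom (algebraMap A C))) := by rw [← hC]; infer_instance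
    rwa [HasRingHomProperty.Spec_iff (P := @Flat), CommRingCat.hom_ofHom, RingHom.flat_algebraMap_iff] at h1
  have hfs : Algebra.FormallySmooth A C := by
    have h1 : Smooth (pullback.snd (h' ≫ G.hom) q) := by
      have e1 : pullback.snd (h' ≫ G.hom) q =
          ((pullbackRightPullbackFstIso G.hom q h').inv ≫ eP.hom) ≫ H₀.hom := by
        rw [Category.assoc, Iso.eq_inv_comp, pullbackRightPullbackFstIso_hom_snd, ← Over.w j₀, reassoc_of% heP]
        rfl
      rw [e1]; infer_instance
    have h2 : Smooth (pullback.fst q (Spec.map (CommRingCat.ofHom (algebraMap A C)))) := by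
      let κ : pullback q (Spec.map (CommRingCat.ofHom (algebraMap A C))) ⟶ pullback q (h' ≫ G.hom) :=
        pullback.map _ _ _ _ (𝟙 _) H'.isoSpec.inv (𝟙 _) (by simp) (by rw [Category.comp_id, hC])
      have e2 : pullback.fst q (Spec.map (CommRingCat.ofHom (algebraMap A C))) =
          (κ ≫ (pullbackSymmetry q (h' ≫ G.hom)).hom) ≫ pullback.snd (h' ≫ G.hom) q := by
        rw [Category.assoc, pullbackSymmetry_hom_comp_snd]
        exact ((pullback.lift_fst _ _ _).trans (Category.comp_id _)).symm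
      rw [e2]; infer_instance
    have h3 : Smooth (Spec.map (CommRingCat.ofHom (algebraMap (A ⧸ J) ((A ⧸ J) ⊗[A] C)))) := by
      have e3 : Spec.map (CommRingCat.ofHom (algebraMap (A ⧸ J) ((A ⧸ J) ⊗[A] C))) =
          (pullbackSpecIso A (A ⧸ J) C).inv ≫ pullback.fst q (Spec.map (CommRingCat.ofHom (algebraMap A C))) :=
        (pullbackSpecIso_inv_fst A (A ⧸ J) C).symm
      rw [e3]; infer_instance
    rw [HasRingHomProperty.Spec_iff (P := @Smooth), CommRingCat.hom_ofHom, RingHom.smooth_algebraMap] at h3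
    haveI : Algebra.FormallySmooth (A ⧸ J) ((A ⧸ J) ⊗[A] C) := h3.formallySmooth
    refine CAlgH.formallySmooth_of_flat_of_nilpotent (R' := A ⧸ J) (Ideal.Quotient.mk J) Ideal.Quotient.mk_surjective
      (by rw [Ideal.mk_ker]; exact hnil)
      (Algebra.TensorProduct.includeRight : C →ₐ[A] (A ⧸ J) ⊗[A] C).toRingHom
      (TensorProduct.mk_surjective A C (A ⧸ J) Ideal.Quotient.mk_surjective) ?_ ?_
    · exact (Algebra.TensorProduct.includeRight : C →ₐ[A] (A ⧸ J) ⊗[A] C).comp_algebraMap
    · intro x hx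
      have h0 : (TensorProduct.quotTensorEquivQuotSMul C J) ((Ideal.Quotient.mk J 1) ⊗ₜ[A] x) = 0 := by
        rw [show (Ideal.Quotient.mk J 1) ⊗ₜ[A] x = 0 from hx, map_zero]
      rw [TensorProduct.quotTensorEquivQuotSMul_mk_tmul, one_smul, Submodule.Quotient.mk_eq_zero,
        Ideal.smul_top_eq_map, Submodule.restrictScalars_mem] at h0
      rw [Ideal.mk_ker]
      exact h0
  have hlift : ∀ (B : Type u) [CommRing B] [HopfAlgebra A B] (a : CoactBr.sp A (B ⧸ AvgPoints.JJ J B) ⟶ G),
      (∃ y, y ≫ (φ.hom ≫ j₀).left ≫ pullback.fst G.hom q = a.left) →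
      ∃ w : CoactBr.sp A B ⟶ G, CoactBr.pt (Ideal.Quotient.mkₐ A (AvgPoints.JJ J B)) ≫ w = a := by
    rintro B _ _ a ⟨y, hy⟩
    let b := y ≫ φ.hom.left ≫ eP.inv ≫ pullback.fst h' (pullback.fst G.hom q)
    have hb : b ≫ h' = a.left := by
      rw [← hy, Over.comp_left]
      simp only [b, Category.assoc]
      rw [pullback.condition, ← heP, Category.assoc, Iso.inv_hom_id_assoc]
    obtain ⟨β, hβ⟩ := Spec.map_surjective (R := CommRingCat.of C) (b ≫ H'.isoSpec.hom)
    have hcomm : CommRingCat.ofHom (algebraMap A C) ≫ β = CommRingCat.ofHom (algebraMap A (B ⧸ AvgPoints.JJ J B)) := by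
      apply Spec.map_injective
      rw [Spec.map_comp, hβ, ← hC, Category.assoc, Iso.hom_inv_id_assoc]
      exact (Category.assoc _ _ _).symm.trans ((congrArg (· ≫ G.hom) hb).trans (Over.w a))
    let βa : C →ₐ[A] B ⧸ AvgPoints.JJ J B := { β.hom with commutes' := fun r => congr($hcomm r) }
    haveI := hfs
    obtain ⟨x, hx⟩ := Algebra.FormallySmooth.comp_surjective A C (AvgPoints.JJ J B)
      (by show Ideal.map _ J ^ 2 = ⊥; rw [← Ideal.map_pow, hJ, Ideal.map_bot]) βa
    refine ⟨Over.homMk (Spec.map (CommRingCat.ofHom x.toRingHom) ≫ H'.isoSpec.inv ≫ h') ?_, ?_⟩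
    · show (_ ≫ _ ≫ _) ≫ G.hom = Spec.map _
      rw [Category.assoc, Category.assoc, hC, ← Spec.map_comp, ← CommRingCat.ofHom_comp]
      congr 2
      exact x.comp_algebraMap
    apply Over.OverMorphism.ext
    show Spec.map _ ≫ Spec.map _ ≫ H'.isoSpec.inv ≫ h' = a.left
    rw [← Category.assoc, ← Spec.map_comp, ← hb]
    have e4 : CommRingCat.ofHom x.toRingHom ≫ CommRingCat.ofHom (Ideal.Quotient.mkₐ A (AvgPoints.JJ J B)).toRingHom = β := by
      refine CommRingCat.hom_ext ?_
      exact congrArg (fun t : C →ₐ[A] B ⧸ AvgPoints.JJ J B => t.toRingHom) hx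
    refine Eq.trans (congrArg (fun t => Spec.map t ≫ H'.isoSpec.inv ≫ h') e4) ?_
    rw [hβ, Category.assoc, Iso.hom_inv_id_assoc]
    rfl
  obtain ⟨j, hj, hj'⟩ := HomLiftMult.exists_lift_of (φ.hom ≫ j₀) (HomLiftMult.isMT_of_multTypeFT hH)
    (fun B _ _ _ a ha => hlift B a ha) (fun B _ _ _ _ P hP hPinv w hw => by
      have hJJ : AvgPoints.JJ (J ^ 2) B = ⊥ := by show Ideal.map _ (J ^ 2) = ⊥; rw [hJ, Ideal.map_bot]
      obtain ⟨u, hu, hu'⟩ := AvgPoints.exists_step_of_lift P hP hPinv J (fun a => by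
        let v : B ⧸ AvgPoints.JJ (J ^ 2) B →ₐ[A] B := Ideal.Quotient.liftₐ _ (AlgHom.id A B) fun z hz => by
          rw [hJJ, Ideal.mem_bot] at hz; exact hz
        refine ⟨CoactBr.pt v ≫ a, ?_⟩
        rw [← Category.assoc, ← CoactBr.pt_comp, show (Ideal.Quotient.mkₐ A _).comp v = AlgHom.id A _ from
          AlgHom.ext fun z => by obtain ⟨z, rfl⟩ := Ideal.Quotient.mk_surjective z; rfl, CoactBr.pt_id,
          Category.id_comp]) w hw
      refine ⟨u, SGA3cLib.BCPoints.isMonHom_of_mul u fun Y x y => ?_, hu'⟩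
      have h1 : (fst (CoactBr.sp A B) (CoactBr.sp A B) * snd (CoactBr.sp A B) (CoactBr.sp A B)) ≫ u =
          (fst (CoactBr.sp A B) (CoactBr.sp A B) ≫ u) * (snd (CoactBr.sp A B) (CoactBr.sp A B) ≫ u) := by
        haveI := Misc15.AffinePoints.isIso_Q (R := A) B B
        rw [← cancel_epi (Misc15.AffinePoints.Q (R := A) B B)]
        simp only [MonObj.comp_mul, ← Category.assoc]
        exact hu _ (by rw [hJ]; exact bot_le) _ _
      have h2 := congrArg (lift x y ≫ ·) h1
      simp only [← Category.assoc, MonObj.comp_mul, lift_fst, lift_snd] at h2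
      exact h2)
  haveI : IsImmersion ((Over.pullback q).map j).left := by rw [hj', Over.comp_left]; infer_instance
  haveI := MultSubLift.isImmersion_of_map J hnil j
  exact ⟨H, inferInstance, j, hj, SGA3cLib.SubgroupConj.mono_of_isImmersion j, inferInstance, hH, φ, hj'.symm⟩

end Groth.Agent.S8426
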