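import Groth.Statements.S8431
import Groth.Agent.TorusConnLib.Connected
import Groth.Agent.SGA3cLib.TrivLocus
import Groth.Agent.SGA3cLib.CentralDescent
import Groth.Agent.SGA3xLib.SepFibre
import Groth.Agent.RedQuotLib.Criterion
import Groth.Agent.SGA3cLib.TorusBasic

set_option backward.isDefEq.respectTransparency.types false
set_option linter.style.haveILetI false

set_option autoImplicit false
universe u
open CategoryTheory MonoidalCategory CartesianMonoidalCategory MonObj GrpObj AlgebraicGeometry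
open SGA3x

namespace Groth.Agent.S8431

open Groth.Agent.SGA3cLib

theorem comm_central {Γ : Type*} [Group Γ] (g h u v : Γ) (cu : ∀ x, u * x = x * u) (cv : ∀ x, v * x = x * v) :
    g * u * (h * v) * (g * u)⁻¹ * (h * v)⁻¹ = g * h * g⁻¹ * h⁻¹ := by
  have e1 : u * (h * v) * u⁻¹ = h * v := by rw [cu, mul_inv_cancel_right]
  have e2 : v * g⁻¹ * v⁻¹ = g⁻¹ := by rw [cv, mul_inv_cancel_right]
  calc g * u * (h * v) * (g * u)⁻¹ * (h * v)⁻¹
      = g * (u * (h * v) * u⁻¹) * g⁻¹ * (h * v)⁻¹ := by group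
    _ = g * (h * v) * g⁻¹ * (h * v)⁻¹ := by rw [e1]
    _ = g * h * (v * g⁻¹ * v⁻¹) * h⁻¹ := by group
    _ = g * h * g⁻¹ * h⁻¹ := by rw [e2]

/-- A pairing of a torus over a field with values in a separated group, additive in the second variable and
trivial at the unit in the first, is trivial. -/
theorem pairing_trivial {k : Type u} [Field k] {T G : Over (Spec (CommRingCat.of k))} [GrpObj T] [GrpObj G]
    [IsSeparated G.hom] [LocallyOfFiniteType G.hom] (hT : Red.IsTorus T) (c : T ⊗ T ⟶ G)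
    (hmul : ∀ (X : Over (Spec (CommRingCat.of k))) (a b b' : X ⟶ T),
      lift a (b * b') ≫ c = (lift a b ≫ c) * (lift a b' ≫ c))
    (hone : ∀ (X : Over (Spec (CommRingCat.of k))) (b : X ⟶ T), lift 1 b ≫ c = 1) : c = 1 := by
  let π := T.hom
  haveI : ConnectedSpace T.left := TorusConnLib.connectedSpace T hT
  have hMT : SGA3x.IsMultTypeFT T := by
    obtain ⟨S', f, hfl, hs, hq, hU⟩ := hT
    refine ⟨S', f, hfl, hs, hq, fun s' => ?_⟩
    obtain ⟨U, hU, r, he⟩ := hU s'
    exact ⟨U, hU, Fin r → ℤ, inferInstance, inferInstance, he⟩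
  let τ : ∀ X : Over T.left, (Over.map π).obj X ⟶ T := fun X => Over.homMk X.hom rfl
  let H := Red.bc π T
  let ε : (Over.map π).obj H ⟶ T := (BCPoints.pt π T H).symm (𝟙 _)
  let u : H ⟶ Red.bc π G := BCPoints.pt π G H (lift (τ H) ε ≫ c)
  have hu : ∀ (X : Over T.left) (a : (Over.map π).obj X ⟶ T),
      BCPoints.pt π T X a ≫ u = BCPoints.pt π G X (lift (τ X) a ≫ c) := by
    intro X a
    show _ ≫ BCPoints.pt π G H _ = _
    rw [← BCPoints.pt_map_comp, ← Category.assoc, comp_lift]
    have h1 : (Over.map π).map (BCPoints.pt π T X a) ≫ ε = a := (BCPoints.pt π T X).injective (by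
      rw [BCPoints.pt_map_comp, Equiv.apply_symm_apply, Category.comp_id])
    have h2 : (Over.map π).map (BCPoints.pt π T X a) ≫ τ H = τ X :=
      Over.OverMorphism.ext (Over.w (BCPoints.pt π T X a))
    rw [h1, h2]
  haveI : IsMonHom u := BCPoints.isMonHom_of_mul u fun X x y => by
    obtain ⟨a, rfl⟩ := (BCPoints.pt π T X).surjective x
    obtain ⟨b, rfl⟩ := (BCPoints.pt π T X).surjective y
    rw [← BCPoints.pt_mul, hu, hu, hu, hmul, BCPoints.pt_mul]
  haveI : IsSeparated (Red.bc π G).hom := inferInstanceAs (IsSeparated (Limits.pullback.snd G.hom π))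
  haveI : LocallyOfFiniteType (Red.bc π G).hom :=
    inferInstanceAs (LocallyOfFiniteType (Limits.pullback.snd G.hom π))
  obtain ⟨U, hUc, hU, hUt⟩ := TrivLocus.exists_clopen u (Or.inr inferInstance) (CentralDescent.isMultTypeFT_bc π T hMT)
  have he : ∀ x, η[T].left.base x ∈ U := by
    intro x
    rw [hU, ← TrivLocus.triv_field]
    intro X p a
    obtain ⟨a', rfl⟩ := (BCPoints.pt π T X).surjective a
    have h1 : τ X = 1 := by
      rw [Hom.one_def]
      refine Over.OverMorphism.ext ?_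
      show X.hom = (toUnit ((Over.map π).obj X)).left ≫ η[T].left
      have h2 : p.left ≫ η[T].left = X.hom := Over.w p
      rw [← h2]
      congr 1
      have h3 : η[T].left ≫ π = 𝟙 _ := Over.w η[T]
      show p.left = X.hom ≫ π
      rw [← h2, Category.assoc, h3]
      exact (Category.comp_id _).symm
    rw [hu, h1, hone]
    exact map_one (MonoidHom.mk' (BCPoints.pt π G X) (BCPoints.pt_mul π))
  have huniv : (U : Set T.left) = Set.univ :=
    IsClopen.eq_univ ⟨hUc, U.2⟩ ⟨_, he (default : PrimeSpectrum k)⟩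
  have hall : ∀ (X : Over T.left) (a : (Over.map π).obj X ⟶ T), lift (τ X) a ≫ c = 1 := by
    intro X a
    have hr : Set.range X.hom ⊆ Set.range U.ι := by rw [Scheme.Opens.range_ι, huniv]; exact Set.subset_univ _
    have h1 := hUt X (Over.homMk (IsOpenImmersion.lift U.ι X.hom hr) (IsOpenImmersion.lift_fac _ _ _))
      (BCPoints.pt π T X a)
    rw [hu] at h1
    exact (BCPoints.pt π G X).injective (h1.trans (map_one (MonoidHom.mk' (BCPoints.pt π G X) (BCPoints.pt_mul π))).symm)
  let Y := T ⊗ T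
  let X : Over T.left := Over.mk (fst T T).left
  let κ : Y ⟶ (Over.map π).obj X := Over.homMk (𝟙 _) ((Category.id_comp _).trans (Over.w (fst T T)))
  let κ' : (Over.map π).obj X ⟶ Y := Over.homMk (𝟙 _) ((Category.id_comp _).trans (Over.w (fst T T)).symm)
  have hκ : κ ≫ κ' = 𝟙 Y := Over.OverMorphism.ext (Category.id_comp _)
  have h1 := κ ≫= hall X (κ' ≫ snd T T)
  rw [MonObj.comp_one, ← Category.assoc, comp_lift, reassoc_of% hκ,
    show κ ≫ τ X = fst T T from Over.OverMorphism.ext (Category.id_comp _), lift_fst_snd, Category.id_comp] at h1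
  exact h1

/-- Let G be an algebraic group over a field k and Z a central algebraic subgroup such that G′ = G/Z is
a torus. Then G is commutative. Here q : G → G′ is a homomorphism representing the fppf quotient of
G by Z, and G′ is a k-torus. -/
theorem result (k : Type u) [Field k]
    (G : Over (Spec (CommRingCat.of k))) [GrpObj G] [QuasiCompact G.hom] [LocallyOfFiniteType G.hom]
    (Z : Over (Spec (CommRingCat.of k))) [GrpObj Z] (z : Z ⟶ G) [IsMonHom z] [Mono z]
    (hz : ∀ (X : Over (Spec (CommRingCat.of k))) (x : X ⟶ Z) (g : X ⟶ G), (x ≫ z) * g = g * (x ≫ z))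
    (G' : Over (Spec (CommRingCat.of k))) [GrpObj G'] (q : G ⟶ G') [IsMonHom q] (hq : RedSub.IsQuotient z q) (hT : Red.IsTorus G') :
    ∀ (X : Over (Spec (CommRingCat.of k))) (g h : X ⟶ G), g * h = h * g := by
  haveI : IsSeparated G.hom := SGA3xLib.isSeparated_of_grpObj G
  have hcov : RedQuotLib.IsFppfCov q := RedQuotLib.IsFppfCov.of_isQuotient hq
  haveI hG'c : ∀ (X : Over (Spec (CommRingCat.of k))) (a b : X ⟶ G'), a * b = b * a := fun X a b =>
    SGA3cLib.torus_mul_comm hT a b
  have hker : ∀ {X : Over (Spec (CommRingCat.of k))} (a : X ⟶ G), a ≫ q = 1 → ∃ h : X ⟶ Z, a = h ≫ z := by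
    intro X a ha
    have h1 : (1 : X ⟶ G) ≫ q = a ≫ q := by rw [MonObj.one_comp, ha]
    obtain ⟨h, hh⟩ := (RedQuotLib.comp_eq_iff hq 1 a).1 h1
    exact ⟨h, hh.trans (_root_.one_mul _)⟩
  let com : G ⊗ G ⟶ G := fst G G * snd G G * (fst G G)⁻¹ * (snd G G)⁻¹
  have hcom : ∀ {X : Over (Spec (CommRingCat.of k))} (g h : X ⟶ G), lift g h ≫ com = g * h * g⁻¹ * h⁻¹ := by
    intro X g h
    simp only [com, MonObj.comp_mul, GrpObj.comp_inv, lift_fst, lift_snd]
  have hqq := hcov.tensor hcov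
  obtain ⟨c, hc⟩ := hqq.exists_desc com (fun {W} a b hab => by
    rw [← lift_comp_fst_snd a, ← lift_comp_fst_snd b, hcom, hcom]
    have h1 := congrArg (fun f => f ≫ fst G' G') hab
    have h2 := congrArg (fun f => f ≫ snd G' G') hab
    simp only [Category.assoc, tensorHom_fst, tensorHom_snd] at h1 h2
    simp only [← Category.assoc] at h1 h2
    obtain ⟨u, hu⟩ := (RedQuotLib.comp_eq_iff hq _ _).1 h1
    obtain ⟨v, hv⟩ := (RedQuotLib.comp_eq_iff hq _ _).1 h2
    rw [hu, hv]
    set g := a ≫ fst G G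
    set h := a ≫ snd G G
    have c1 : ∀ x, (u ≫ z) * x = x * (u ≫ z) := hz W u
    have c2 : ∀ x, (v ≫ z) * x = x * (v ≫ z) := hz W v
    exact (comm_central g h (u ≫ z) (v ≫ z) c1 c2).symm)
  have hval : ∀ {X : Over (Spec (CommRingCat.of k))} (g h : X ⟶ G),
      lift (g ≫ q) (h ≫ q) ≫ c = g * h * g⁻¹ * h⁻¹ := by
    intro X g h
    rw [← lift_map, Category.assoc, hc, hcom]
  have hmul : ∀ (X : Over (Spec (CommRingCat.of k))) (a b b' : X ⟶ G'),
      lift a (b * b') ≫ c = (lift a b ≫ c) * (lift a b' ≫ c) := by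
    suffices h : lift (fst G' (G' ⊗ G')) ((snd G' (G' ⊗ G') ≫ fst G' G') * (snd G' (G' ⊗ G') ≫ snd G' G')) ≫ c =
        (lift (fst G' (G' ⊗ G')) (snd G' (G' ⊗ G') ≫ fst G' G') ≫ c) *
          (lift (fst G' (G' ⊗ G')) (snd G' (G' ⊗ G') ≫ snd G' G') ≫ c) by
      intro X a b b'
      have := lift a (lift b b') ≫= h
      simpa only [← Category.assoc, comp_lift, MonObj.comp_mul, lift_fst, lift_snd, lift_snd_assoc] using this
    haveI := (hcov.tensor hqq).epi
    rw [← cancel_epi (q ⊗ₘ (q ⊗ₘ q)), MonObj.comp_mul, ← Category.assoc, ← Category.assoc, ← Category.assoc,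
      comp_lift, comp_lift, comp_lift, MonObj.comp_mul]
    simp only [tensorHom_fst, tensorHom_snd_assoc, tensorHom_snd, Category.assoc, tensorHom_fst_assoc]
    simp only [← Category.assoc]
    rw [← MonObj.mul_comp, hval, hval, hval]
    set g := fst G (G ⊗ G)
    set h := snd G (G ⊗ G) ≫ fst G G
    set h' := snd G (G ⊗ G) ≫ snd G G
    obtain ⟨w, hw⟩ := hker (g * h' * g⁻¹ * h'⁻¹) (by
      rw [MonObj.mul_comp, MonObj.mul_comp, MonObj.mul_comp, GrpObj.inv_comp, GrpObj.inv_comp,
        hG'c _ (g ≫ q) (h' ≫ q), _root_.mul_assoc (h' ≫ q), mul_inv_cancel, _root_.mul_one, mul_inv_cancel])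
    calc g * (h * h') * g⁻¹ * (h * h')⁻¹ = (g * h * g⁻¹) * (g * h' * g⁻¹ * h'⁻¹) * h⁻¹ := by group
      _ = (g * h * g⁻¹) * (h⁻¹ * (g * h' * g⁻¹ * h'⁻¹)) := by rw [_root_.mul_assoc, hw, hz _ w h⁻¹]
      _ = (g * h * g⁻¹ * h⁻¹) * (g * h' * g⁻¹ * h'⁻¹) := by group
  have hone : ∀ (X : Over (Spec (CommRingCat.of k))) (b : X ⟶ G'), lift 1 b ≫ c = 1 := by
    suffices h : lift (1 : G' ⟶ G') (𝟙 G') ≫ c = 1 by
      intro X b
      have := b ≫= h
      simpa only [← Category.assoc, comp_lift, MonObj.comp_one, Category.comp_id] using this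
    haveI := hcov.epi
    rw [← cancel_epi q, MonObj.comp_one, ← Category.assoc, comp_lift, MonObj.comp_one, Category.comp_id,
      ← MonObj.one_comp q]
    conv_lhs => enter [1, 2]; rw [← Category.id_comp q]
    rw [hval]
    simp
  have hc1 : c = 1 := pairing_trivial hT c hmul hone
  intro X g h
  have h1 := hval g h
  rw [hc1, MonObj.comp_one, eq_comm, mul_inv_eq_one, mul_inv_eq_iff_eq_mul] at h1
  exact h1

end Groth.Agent.S8431
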