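import Groth.Statements.S8439
import Groth.Agent.SGA3cLib.UnivSubDescent

set_option autoImplicit false
set_option linter.style.haveILetI false
set_option backward.isDefEq.respectTransparency.types false
universe u
open CategoryTheory MonoidalCategory CartesianMonoidalCategory MonObj GrpObj AlgebraicGeometry
open SGA3x

namespace Groth.Agent.S8439

/-- Let G be an S-group scheme of finite presentation over S with affine fibres. If G admits a reductive
centre locally for the faithfully flat quasi-compact topology — after some flat surjective base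
change S′ → S which is an fpqc covering — then G admits a reductive centre. -/
theorem result (S : Scheme.{u}) (G : Over S) [GrpObj G]
    [QuasiCompact G.hom] [QuasiSeparated G.hom] [LocallyOfFinitePresentation G.hom]
    (haff : ∀ s : S, IsAffine (Limits.pullback G.hom (S.fromSpecResidueField s)))
    (h : (∃ (S' : Scheme.{u}) (f : S' ⟶ S), Flat f ∧ Surjective f ∧
      (∀ V : S.Opens, IsAffineOpen V → ∃ W : S'.Opens, IsCompact (W : Set ↥S') ∧ f.base '' (W : Set ↥S') = (V : Set ↥S)) ∧
      ∃ (Z' : Over S') (_ : GrpObj Z') (z' : Z' ⟶ Red.bc f G), (IsMonHom z' ∧ Mono z' ∧ SGA3x.IsMultTypeFT Z' ∧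
      (∀ (X : Over S') (x : X ⟶ Z') (g : X ⟶ (Red.bc f G)), (x ≫ z') * g = g * (x ≫ z')) ∧
      ∀ (S'' : Scheme.{u}) (f' : S'' ⟶ S') (H : Over S'') [GrpObj H] (v : H ⟶ Red.bc f' (Red.bc f G)) [IsMonHom v],
        SGA3x.IsMultTypeFT H →
        (∀ (X : Over S'') (x : X ⟶ H) (g : X ⟶ Red.bc f' (Red.bc f G)), (x ≫ v) * g = g * (x ≫ v)) →
        ∃ w : H ⟶ Red.bc f' Z', w ≫ (Over.pullback f').map z' = v))) :
    ∃ (Z : Over S) (_ : GrpObj Z) (z : Z ⟶ G), (IsMonHom z ∧ Mono z ∧ SGA3x.IsMultTypeFT Z ∧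
      (∀ (X : Over S) (x : X ⟶ Z) (g : X ⟶ G), (x ≫ z) * g = g * (x ≫ z)) ∧
      ∀ (S' : Scheme.{u}) (f : S' ⟶ S) (H : Over S') [GrpObj H] (v : H ⟶ Red.bc f G) [IsMonHom v],
        SGA3x.IsMultTypeFT H →
        (∀ (X : Over S') (x : X ⟶ H) (g : X ⟶ Red.bc f G), (x ≫ v) * g = g * (x ≫ v)) →
        ∃ w : H ⟶ Red.bc f Z, w ≫ (Over.pullback f).map z = v) := by
  obtain ⟨S', f, hfl, hsu, hV, Z', instZ', z', hzm, hzmono, hzmt, hzc, hzu⟩ := h
  haveI := hfl
  haveI := hsu
  haveI := hzm
  haveI := hzmono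
  have hπ := Groth.Agent.SGA3cLib.IsFpqcCov.of_forall f hV
  haveI : Mono z'.left := inferInstance
  obtain ⟨Z, instZ, z, hm, hmono, hmt, φ, hφ⟩ := Groth.Agent.SGA3cLib.UnivSubDescent.exists_desc_sub f z' hzmt hπ
    (fun {T} a b hab v hv => by
      have hc : Limits.pullback.snd f f ≫ f = Limits.pullback.fst f f ≫ f := Limits.pullback.condition.symm
      haveI := Groth.Agent.SGA3cLib.UnivSubDescent.isMonHom_reMap f f (Limits.pullback.snd f f) (Limits.pullback.fst f f) hc z'
      obtain ⟨w, hw⟩ := hzu _ (Limits.pullback.snd f f) (Red.bc (Limits.pullback.fst f f) Z')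
        (Groth.Agent.SGA3cLib.UnivSubDescent.reMap f f (Limits.pullback.snd f f) (Limits.pullback.fst f f) hc z')
        (Groth.Agent.SGA3cLib.CentralDescent.isMultTypeFT_bc _ Z' hzmt)
        (Groth.Agent.SGA3cLib.UnivSubDescent.central_reMap f f _ _ hc z' hzc)
      obtain ⟨h', h1, h2⟩ := Groth.Agent.SGA3cLib.UnivSubDescent.exists_point f f (Limits.pullback.snd f f)
        (Limits.pullback.fst f f) hc z' z' w hw (Limits.pullback.lift a b hab) v (by rw [Limits.pullback.lift_fst, hv])
      exact ⟨h', h1.trans (Limits.pullback.lift_snd _ _ _), h2⟩)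
  haveI := hm
  haveI := hmono
  haveI : Mono z := Over.mono_of_mono_left z
  refine ⟨Z, instZ, z, hm, inferInstance, hmt, fun X x g => ?_, fun T t H _ v _ hH hv => ?_⟩
  · let W : Over S' := Over.mk (Limits.pullback.fst f X.hom)
    let e : (Over.map f).obj W ⟶ X := Over.homMk (Limits.pullback.snd f X.hom) (Limits.pullback.condition.symm)
    haveI : Epi e := by
      have hcov : Groth.Agent.SGA3cLib.HasCovLift (Limits.pullback.snd f X.hom) :=
        ⟨_, _, 𝟙 _, Category.id_comp _, hπ.pullback_snd X.hom⟩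
      haveI := hcov.epi
      haveI : Epi e.left := hcov.epi
      exact Over.epi_of_epi_left e
    rw [← cancel_epi e, MonObj.comp_mul, MonObj.comp_mul]
    apply (Groth.Agent.SGA3cLib.BCPoints.pt f G W).injective
    rw [Groth.Agent.SGA3cLib.BCPoints.pt_mul, Groth.Agent.SGA3cLib.BCPoints.pt_mul, ← Category.assoc e x,
      Groth.Agent.SGA3cLib.BCPoints.pt_comp, ← hφ, ← Category.assoc _ φ.hom]
    exact hzc _ _ _
  · let P := Limits.pullback f t
    let a := Limits.pullback.fst f t
    let b := Limits.pullback.snd f t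
    have hab : a ≫ f = b ≫ t := Limits.pullback.condition
    haveI := Groth.Agent.SGA3cLib.UnivSubDescent.isMonHom_reMap f t a b hab v
    obtain ⟨w, hw⟩ := hzu _ a (Red.bc b H) (Groth.Agent.SGA3cLib.UnivSubDescent.reMap f t a b hab v)
      (Groth.Agent.SGA3cLib.CentralDescent.isMultTypeFT_bc _ H hH)
      (Groth.Agent.SGA3cLib.UnivSubDescent.central_reMap f t a b hab v hv)
    let X : Over S := (Over.map t).obj H
    let x : X ⟶ G := (Groth.Agent.SGA3cLib.BCPoints.pt t G H).symm v
    let W : Over S' := Over.mk (Limits.pullback.fst f X.hom)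
    let y : Limits.pullback f X.hom ⟶ P := Limits.pullback.lift (Limits.pullback.fst f X.hom)
      (Limits.pullback.snd f X.hom ≫ H.hom) (by
        rw [Limits.pullback.condition]
        exact (Category.assoc _ _ _).symm)
    obtain ⟨h', h1, h2⟩ := Groth.Agent.SGA3cLib.UnivSubDescent.exists_point f t a b hab v z' w hw y
      (Limits.pullback.snd f X.hom) (Limits.pullback.lift_snd _ _ _).symm
    let h'' : W ⟶ Z' := Over.homMk h' (h1.trans (Limits.pullback.lift_fst _ _ _))
    let c : (Over.map f).obj W ⟶ Z := (Groth.Agent.SGA3cLib.BCPoints.pt f Z W).symm (h'' ≫ φ.inv)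
    have hc : c.left ≫ z.left = Limits.pullback.snd f X.hom ≫ x.left := by
      have e1 : c ≫ z = (Groth.Agent.SGA3cLib.BCPoints.pt f G W).symm (h'' ≫ z') := by
        apply (Groth.Agent.SGA3cLib.BCPoints.pt f G W).injective
        rw [Groth.Agent.SGA3cLib.BCPoints.pt_comp, Equiv.apply_symm_apply, Equiv.apply_symm_apply, ← hφ, Category.assoc,
          Iso.inv_hom_id_assoc]
      rw [← Over.comp_left, e1, ← Groth.Agent.SGA3cLib.CentralSubDescent.pt_left_fst f G W, Equiv.apply_symm_apply,
        Over.comp_left, Category.assoc]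
      refine h2.trans ?_
      congr 1
    have hcov : Groth.Agent.SGA3cLib.HasCovLift (Limits.pullback.snd f X.hom) :=
      ⟨_, _, 𝟙 _, Category.id_comp _, hπ.pullback_snd X.hom⟩
    haveI := hcov.epi
    obtain ⟨m, hm'⟩ := hcov.exists_desc c.left fun {Q} p q hpq => by
      rw [← cancel_mono z.left, Category.assoc, Category.assoc, hc, ← Category.assoc, hpq, Category.assoc]
    have hmz : m ≫ z.left = x.left := by
      rw [← cancel_epi (Limits.pullback.snd f X.hom), ← Category.assoc, hm', hc]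
    let m' : X ⟶ Z := Over.homMk m (by rw [← Over.w z, ← Category.assoc, hmz, Over.w x])
    refine ⟨Groth.Agent.SGA3cLib.BCPoints.pt t Z H m', ?_⟩
    rw [← Groth.Agent.SGA3cLib.BCPoints.pt_comp, show m' ≫ z = x from Over.OverMorphism.ext hmz, Equiv.apply_symm_apply]

end Groth.Agent.S8439
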