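import Groth.Statements.S8441
import Groth.Agent.RootDat.Basic

set_option autoImplicit false
universe u v w
open SGA3t2b

namespace Groth.Agent.S8441

/-- Let R be a root system with a system of simple roots a₁, …, aₙ and simple reflections rᵢ, and put θᵢ
= rₙ ⋯ rᵢ₊₁(aᵢ). Then the θᵢ form a basis of the group generated by the roots. Stated for a root
pairing over ℤ (Mathlib) with a base whose support is enumerated by Fin n: the θᵢ are ℤ-linearly
independent and their ℤ-span is the ℤ-span of all roots. -/
theorem result {ι : Type u} {M : Type v} {N : Type w} [AddCommGroup M] [Module ℤ M]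
    [AddCommGroup N] [Module ℤ N] (P : RootPairing ι ℤ M N) (b : P.Base) (n : ℕ) (e : Fin n ≃ ↥b.support) :
    LinearIndependent ℤ (fun i : Fin n =>
      ((List.finRange n).filter (fun j => i < j)).foldl (fun x j => P.reflection (e j : ι) x) (P.root (e i : ι))) ∧
    Submodule.span ℤ (Set.range (fun i : Fin n =>
      ((List.finRange n).filter (fun j => i < j)).foldl (fun x j => P.reflection (e j : ι) x) (P.root (e i : ι)))) =
      Submodule.span ℤ (Set.range P.root) := by
  classical
  obtain rfl : ‹Module ℤ M› = AddCommGroup.toIntModule M := Subsingleton.elim _ _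
  obtain rfl : ‹Module ℤ N› = AddCommGroup.toIntModule N := Subsingleton.elim _ _
  set v : Fin n → M := fun i => P.root (e i : ι) with hv
  set θ : Fin n → M := fun i : Fin n => ((List.finRange n).filter (fun j => i < j)).foldl
    (fun x j => P.reflection (e j : ι) x) (P.root (e i : ι)) with hθ
  show LinearIndependent ℤ θ ∧ Submodule.span ℤ (Set.range θ) = _
  have fold : ∀ (L : List (Fin n)) (x : M), ∃ c : Fin n → ℤ, (∀ j, j ∉ L → c j = 0) ∧
      L.foldl (fun x j => P.reflection (e j : ι) x) x = x + ∑ j, c j • v j := by
    intro L
    induction L with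
    | nil => exact fun x => ⟨0, fun _ _ => rfl, by simp⟩
    | cons a L ih =>
      intro x
      obtain ⟨c, hc, he⟩ := ih (P.reflection (e a : ι) x)
      refine ⟨c - Pi.single a (P.coroot' (e a : ι) x), fun j hj => ?_, ?_⟩
      · rw [List.mem_cons, not_or] at hj
        simp [hc j hj.2, Pi.single_eq_of_ne hj.1]
      · rw [List.foldl_cons, he, RootPairing.reflection_apply]
        simp only [Pi.sub_apply, sub_smul, Finset.sum_sub_distrib]
        rw [Finset.sum_eq_single a (f := fun j => Pi.single (M := fun _ => ℤ) a
          (P.coroot' (e a : ι) x) j • v j) (fun j _ hj => by simp [Pi.single_eq_of_ne hj]) (by simp),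
          Pi.single_eq_same]
        simp only [hv]
        abel
  have hT : ∀ i : Fin n, ∃ c : Fin n → ℤ, (∀ j, ¬ i < j → c j = 0) ∧ θ i = v i + ∑ j, c j • v j :=
    fun i => by
      obtain ⟨c, hc, he⟩ := fold ((List.finRange n).filter (fun j => i < j)) (v i)
      exact ⟨c, fun j hj => hc j (by simp [hj]), he⟩
  choose c hc hθc using hT
  have hli : LinearIndependent ℤ v := by
    have h : LinearIndependent ℤ fun j : ↥b.support => P.root (j : ι) := b.linearIndepOn_root
    exact h.comp _ e.injective
  constructor
  · rw [Fintype.linearIndependent_iff] at hli ⊢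
    intro z hz
    have h0 : ∑ j, (z j + ∑ i, z i * c i j) • v j = 0 := by
      rw [← hz]
      simp only [hθc, smul_add, Finset.smul_sum, smul_smul, add_smul, Finset.sum_smul,
        Finset.sum_add_distrib]
      rw [Finset.sum_comm]
    have hco := hli _ h0
    intro i
    induction i using WellFoundedLT.induction with
    | _ i ih =>
      have := hco i
      rwa [Finset.sum_eq_zero fun k _ => by
        by_cases hk : k < i
        · rw [ih k hk, zero_mul]
        · rw [hc k i hk, mul_zero], add_zero] at this
  · refine le_antisymm (Submodule.span_le.mpr ?_) (Submodule.span_le.mpr ?_)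
    · rintro _ ⟨i, rfl⟩
      rw [hθc]
      exact add_mem (Submodule.subset_span ⟨_, rfl⟩)
        (Submodule.sum_mem _ fun j _ => Submodule.smul_mem _ _ (Submodule.subset_span ⟨_, rfl⟩))
    · have hvmem : ∀ i, v i ∈ Submodule.span ℤ (Set.range θ) := by
        intro i
        induction i using WellFoundedGT.induction with
        | _ i ih =>
          rw [show v i = θ i - ∑ j, c i j • v j by rw [hθc, add_sub_cancel_right]]
          refine sub_mem (Submodule.subset_span ⟨i, rfl⟩) (Submodule.sum_mem _ fun j _ => ?_)
          by_cases hj : i < j
          · exact Submodule.smul_mem _ _ (ih j hj)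
          · rw [hc i j hj, zero_smul]; exact zero_mem _
      have hall : ∀ x ∈ AddSubmonoid.closure (P.root '' (↑b.support : Set ι)),
          x ∈ Submodule.span ℤ (Set.range θ) := fun x hx => by
        induction hx using AddSubmonoid.closure_induction with
        | mem x hx =>
          obtain ⟨j, hj, rfl⟩ := hx
          simpa [hv] using hvmem (e.symm ⟨j, hj⟩)
        | zero => exact zero_mem _
        | add x y _ _ hx hy => exact add_mem hx hy
      rintro _ ⟨k, rfl⟩
      rcases b.root_mem_or_neg_mem k with hk | hk
      · exact hall _ hk
      · exact neg_mem_iff.mp (hall _ hk)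

end Groth.Agent.S8441
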