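import Groth.Statements.S8446
import Groth.Agent.S8392
import Groth.Agent.SGA3cLib.BCPoints
import Groth.Agent.SGA3cLib.DiagPoints
import Groth.Agent.SGA3cLib.MonoClosed
import Groth.Agent.MultExt26.GmBase
import Groth.Agent.NeronModel27.GaSmoothBase
import Groth.Agent.AbVarLib.HomFlat
import Groth.Agent.AlgGrpLib.AbelianSubvariety
import Groth.Agent.AbVarLib.AlgClosedIntegral
import Mathlib.RingTheory.TensorProduct.MvPolynomial

set_option autoImplicit false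
universe u
open CategoryTheory MonoidalCategory CartesianMonoidalCategory MonObj GrpObj AlgebraicGeometry CategoryTheory.Limits
open Red

namespace Groth.Agent.S8446

set_option backward.isDefEq.respectTransparency.types false
set_option linter.style.haveILetI false
set_option maxHeartbeats 400000
set_option synthInstance.maxHeartbeats 200000

open CategoryTheory.Limits
open Groth.Agent

noncomputable section

section
attribute [-instance] ULift.module ULift.smulLeft ULift.mulAction ULift.smulZeroClass ULift.distribSMul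
  ULift.distribMulAction ULift.mulDistribMulAction ULift.smulWithZero ULift.mulActionWithZero

open scoped TensorProduct in
theorem connectedSpace_ga (K : Type u) [Field K] : ConnectedSpace ↥(Red.Ga (Spec (CommRingCat.of K))).left := by
  letI := SGA3cLib.algR₀ K
  let A := SymmetricAlgebra (ULift.{u} ℤ) (ULift.{u} ℤ)
  let e : A ≃ₐ[ULift.{u} ℤ] MvPolynomial (Fin 1) (ULift.{u} ℤ) :=
    SymmetricAlgebra.equivMvPolynomial (Module.Basis.singleton (Fin 1) (ULift.{u} ℤ))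
  let e' : K ⊗[ULift.{u} ℤ] A ≃ₐ[K] MvPolynomial (Fin 1) K :=
    (Algebra.TensorProduct.congr AlgEquiv.refl e).trans (MvPolynomial.algebraTensorAlgEquiv (ULift.{u} ℤ) K)
  haveI : IsDomain (K ⊗[ULift.{u} ℤ] A) := e'.toRingEquiv.toMulEquiv.isDomain _
  let φ : (Red.Ga (Spec (CommRingCat.of K))).left ≅ Spec (CommRingCat.of (K ⊗[ULift.{u} ℤ] A)) :=
    pullback.congrHom rfl (specULiftZIsTerminal.hom_ext _
        (Spec.map (CommRingCat.ofHom (algebraMap (ULift.{u} ℤ) K)))) ≪≫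
      pullbackSymmetry _ _ ≪≫ pullbackSpecIso (ULift.{u} ℤ) K A
  exact φ.hom.homeomorph.connectedSpace_iff.mpr inferInstance

end

theorem ga_comm {S : Scheme.{u}} {X : Over S} (x y : X ⟶ Red.Ga S) : x * y = y * x :=
  SGA3cLib.gaFn_injective (by rw [SGA3cLib.gaFn_mul, SGA3cLib.gaFn_mul, add_comm])

theorem hasNoSubtorus_ga (K : Type u) [Field K] : Red.HasNoSubtorus K (Red.Ga (Spec (CommRingCat.of K))) := by
  intro T gT j hj' _ hT
  have hj : j = 1 := @S8392.result _ T gT (MultExt26.isMultTypeFT_of_torus T hT) j hj'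
  haveI : IsMonHom j := hj'
  have h1 : (𝟙 T : T ⟶ T) = 1 := by
    rw [← cancel_mono j, Category.id_comp, hj, MonObj.comp_one]
  refine ⟨(η[T] : 𝟙_ (Over (Spec (CommRingCat.of K))) ⟶ T).left, ?_, ?_⟩
  · have := congrArg CommaMorphism.left h1
    rw [Hom.one_def] at this
    exact this.symm
  · exact Over.w (η[T] : 𝟙_ (Over (Spec (CommRingCat.of K))) ⟶ T)

theorem not_isTrivialGrp_ga (K : Type u) [Field K] : ¬ Red.IsTrivialGrp (Red.Ga (Spec (CommRingCat.of K))) := by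
  intro h
  haveI : IsIso (Red.Ga (Spec (CommRingCat.of K))).hom := h
  let X : Over (Spec (CommRingCat.of K)) := 𝟙_ _
  obtain ⟨x, hx⟩ := SGA3cLib.exists_gaFn (S := Spec (CommRingCat.of K)) (X := X) 1
  have h1 : x = 1 := Over.OverMorphism.ext
    ((cancel_mono (Red.Ga (Spec (CommRingCat.of K))).hom).1 ((Over.w x).trans (Over.w _).symm))
  rw [h1, SGA3cLib.gaFn_one] at hx
  haveI : Nontrivial Γ(X.left, ⊤) := (Scheme.ΓSpecIso (CommRingCat.of K)).commRingCatIsoToRingEquiv.toEquiv.nontrivial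
  exact zero_ne_one hx

/-- Over an algebraically closed field a big cell with commuting unipotent parts contradicts reductivity. -/
theorem false_of_commute (K : Type u) [Field K] [IsAlgClosed K] (G T : Over (Spec (CommRingCat.of K))) [GrpObj G]
    [GrpObj T] (hG : Red.IsReductiveOver K G) (i : T ⟶ G) [IsMonHom i]
    (p m : Red.Ga (Spec (CommRingCat.of K)) ⟶ G) [IsMonHom p] [IsMonHom m] [Mono p]
    (hp : ∀ (X : Over (Spec (CommRingCat.of K))) (t : X ⟶ T) (x : X ⟶ Red.Ga (Spec (CommRingCat.of K))),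
      ∃ x' : X ⟶ Red.Ga (Spec (CommRingCat.of K)), x' ≫ p = (t ≫ i) * (x ≫ p) * (t ≫ i)⁻¹)
    (hm : ∀ (X : Over (Spec (CommRingCat.of K))) (t : X ⟶ T) (x : X ⟶ Red.Ga (Spec (CommRingCat.of K))),
      ∃ x' : X ⟶ Red.Ga (Spec (CommRingCat.of K)), x' ≫ m = (t ≫ i) * (x ≫ m) * (t ≫ i)⁻¹)
    (hcomm : ∀ (X : Over (Spec (CommRingCat.of K))) (x y : X ⟶ Red.Ga (Spec (CommRingCat.of K))),
      (x ≫ p) * (y ≫ m) = (y ≫ m) * (x ≫ p))
    {V : Over (Spec (CommRingCat.of K))} (Ω : V ⟶ G) (hΩ : IsOpenImmersion Ω.left)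
    (hpts : ∀ (X : Over (Spec (CommRingCat.of K))) (g : X ⟶ G), (∃ v : X ⟶ V, v ≫ Ω = g) ↔
      ∃ (a : X ⟶ Red.Ga _) (b : X ⟶ T) (c : X ⟶ Red.Ga _), g = (a ≫ m) * (b ≫ i) * (c ≫ p)) : False := by
  obtain ⟨haff, hsm, hconn, hrad⟩ := hG
  haveI := haff; haveI := hsm; haveI := hconn; haveI := hΩ
  let P : ∀ {X : Over (Spec (CommRingCat.of K))}, (X ⟶ G) → Prop := fun {X} g =>
    ∃ (a : X ⟶ Red.Ga _) (b : X ⟶ T) (c : X ⟶ Red.Ga _), g = (a ≫ m) * (b ≫ i) * (c ≫ p)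
  have hmul : ∀ {X : Over (Spec (CommRingCat.of K))} {g g' : X ⟶ G}, P g → P g' → P (g * g') := by
    rintro X g g' ⟨a, b, c, rfl⟩ ⟨a', b', c', rfl⟩
    obtain ⟨a'', ha⟩ := hm X b a'
    obtain ⟨c'', hc⟩ := hp X b'⁻¹ c
    rw [GrpObj.inv_comp, _root_.inv_inv] at hc
    refine ⟨a * a'', b * b', c'' * c', ?_⟩
    rw [MonObj.mul_comp, MonObj.mul_comp, MonObj.mul_comp, ha, hc]
    have h := hcomm X c a'
    calc (a ≫ m) * (b ≫ i) * (c ≫ p) * ((a' ≫ m) * (b' ≫ i) * (c' ≫ p))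
        = (a ≫ m) * (b ≫ i) * ((c ≫ p) * (a' ≫ m)) * (b' ≫ i) * (c' ≫ p) := by group
      _ = (a ≫ m) * (b ≫ i) * ((a' ≫ m) * (c ≫ p)) * (b' ≫ i) * (c' ≫ p) := by rw [h]
      _ = _ := by group
  have hinv : ∀ {X : Over (Spec (CommRingCat.of K))} {g : X ⟶ G}, P g → P g⁻¹ := by
    rintro X g ⟨a, b, c, rfl⟩
    have h1 : P ((c ≫ p)⁻¹) := ⟨1, 1, c⁻¹, by
      rw [MonObj.one_comp, MonObj.one_comp, GrpObj.inv_comp, _root_.one_mul, _root_.one_mul]⟩
    have h2 : P ((b ≫ i)⁻¹) := ⟨1, b⁻¹, 1, by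
      rw [MonObj.one_comp, MonObj.one_comp, GrpObj.inv_comp, _root_.one_mul, _root_.mul_one]⟩
    have h3 : P ((a ≫ m)⁻¹) := ⟨a⁻¹, 1, 1, by
      rw [MonObj.one_comp, MonObj.one_comp, GrpObj.inv_comp, _root_.mul_one, _root_.mul_one]⟩
    have := hmul (hmul h1 h2) h3
    rwa [show (c ≫ p)⁻¹ * (b ≫ i)⁻¹ * (a ≫ m)⁻¹ = ((a ≫ m) * (b ≫ i) * (c ≫ p))⁻¹ by group] at this
  haveI := AlgGrpLib.AbelianSubvariety.geometricallyConnected_of_connected G
  haveI : GeometricallyIntegral G.hom := AbVarLib.geometricallyIntegral_of_smooth G.hom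
  haveI : Subsingleton ↥(Spec (CommRingCat.of K)) := inferInstanceAs (Subsingleton (PrimeSpectrum K))
  haveI : IsIntegral G.left := GeometricallyIntegral.isIntegral_of_subsingleton G.hom
  haveI : JacobsonSpace G.left := LocallyOfFiniteType.jacobsonSpace G.hom
  let U : G.left.Opens := Ω.left.opensRange
  have hlift : ∀ (g : 𝟙_ (Over (Spec (CommRingCat.of K))) ⟶ G), g.left (IsLocalRing.closedPoint K) ∈ U → P g := by
    intro g hg
    have hr : Set.range g.left ⊆ Set.range Ω.left := by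
      rintro _ ⟨y, rfl⟩
      rw [Subsingleton.elim (α := ↥(Spec (CommRingCat.of K))) y (IsLocalRing.closedPoint K)]
      exact hg
    refine (hpts _ g).1 ⟨Over.homMk (IsOpenImmersion.lift Ω.left g.left hr) ?_,
      Over.OverMorphism.ext (IsOpenImmersion.lift_fac _ _ _)⟩
    rw [← Over.w Ω, IsOpenImmersion.lift_fac_assoc]
    exact Over.w g
  have hmem : ∀ (g : 𝟙_ (Over (Spec (CommRingCat.of K))) ⟶ G), P g → g.left (IsLocalRing.closedPoint K) ∈ U := by
    intro g hg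
    obtain ⟨v, rfl⟩ := (hpts _ g).2 hg
    exact ⟨v.left (IsLocalRing.closedPoint K), rfl⟩
  have huniv : (U : Set G.left) = Set.univ := by
    by_contra hne
    obtain ⟨z, hzU, hz⟩ : ((U : Set G.left)ᶜ ∩ closedPoints G.left).Nonempty :=
      nonempty_inter_closedPoints (Set.nonempty_compl.2 hne) U.2.isClosed_compl.isLocallyClosed
    let g : 𝟙_ (Over (Spec (CommRingCat.of K))) ⟶ G :=
      Over.homMk (pointOfClosedPoint G.hom z hz) (pointOfClosedPoint_comp G.hom z hz)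
    let τ := AbVarLib.translate g
    haveI : IsIso τ.hom.left := inferInstanceAs (IsIso ((Over.forget _).map τ.hom))
    have hne1 : (U : Set G.left).Nonempty :=
      ⟨_, hmem 1 ⟨1, 1, 1, by simp [MonObj.one_comp]⟩⟩
    have hne2 : ((τ.hom.left ⁻¹ᵁ U : G.left.Opens) : Set G.left).Nonempty := by
      obtain ⟨y, hy⟩ := hne1
      obtain ⟨w, rfl⟩ := τ.hom.left.homeomorph.surjective y
      exact ⟨w, hy⟩
    obtain ⟨w₀, hw₀⟩ := nonempty_preirreducible_inter U.2 (τ.hom.left ⁻¹ᵁ U).2 hne1 hne2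
    obtain ⟨w, ⟨hwU, hwτ⟩, hw⟩ := nonempty_inter_closedPoints (Z := (U : Set G.left) ∩ (τ.hom.left ⁻¹ᵁ U : G.left.Opens))
      ⟨w₀, hw₀⟩ (U.2.inter (τ.hom.left ⁻¹ᵁ U).2).isLocallyClosed
    let x : 𝟙_ (Over (Spec (CommRingCat.of K))) ⟶ G :=
      Over.homMk (pointOfClosedPoint G.hom w hw) (pointOfClosedPoint_comp G.hom w hw)
    have hx : x.left (IsLocalRing.closedPoint K) = w := pointOfClosedPoint_apply G.hom w hw _
    have hg : g.left (IsLocalRing.closedPoint K) = z := pointOfClosedPoint_apply G.hom z hz _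
    have hxP : P x := hlift x (hx.symm ▸ hwU)
    have hgxP : P (g * x) := by
      refine hlift _ ?_
      have e : g * x = x ≫ τ.hom := by
        show _ = x ≫ ((toUnit G ≫ g) * 𝟙 G)
        rw [MonObj.comp_mul, Category.comp_id, ← Category.assoc, toUnit_unique (x ≫ toUnit G) (𝟙 _), Category.id_comp]
      rw [e]
      show τ.hom.left (x.left (IsLocalRing.closedPoint K)) ∈ U
      rw [hx]
      exact hwτ
    have hgP : P g := by
      have := hmul hgxP (hinv hxP)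
      rwa [_root_.mul_assoc, mul_inv_cancel, _root_.mul_one] at this
    exact hzU (hg ▸ hmem g hgP)
  haveI : Surjective Ω.left := ⟨Set.range_eq_univ.1 huniv⟩
  haveI : Epi Ω.left.base := (TopCat.epi_iff_surjective _).mpr Ω.left.surjective
  haveI : IsIso Ω.left := IsOpenImmersion.isIso Ω.left
  haveI : IsIso ((Over.forget _).map Ω) := inferInstanceAs (IsIso Ω.left)
  haveI : IsIso Ω := isIso_of_reflects_iso Ω (Over.forget _)
  have hall : ∀ {X : Over (Spec (CommRingCat.of K))} (g : X ⟶ G), P g := fun {X} g =>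
    (hpts X g).1 ⟨g ≫ inv Ω, by rw [Category.assoc, IsIso.inv_hom_id, Category.comp_id]⟩
  haveI : Smooth (Red.Ga (Spec (CommRingCat.of K))).hom := NeronModel27.smooth_ga _
  haveI : IsAffine (Red.Ga (Spec (CommRingCat.of K))).left := NeronModel27.isAffine_ga K
  haveI := connectedSpace_ga K
  have hci : IsClosedImmersion p.left := SGA3cLib.isClosedImmersion_of_mono p
  refine not_isTrivialGrp_ga K (@hrad _ _ p ‹IsMonHom p› hci inferInstance inferInstance ?_ (hasNoSubtorus_ga K))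
  intro X g n
  obtain ⟨a, b, c, rfl⟩ := hall g
  obtain ⟨n', hn'⟩ := hp X b n
  refine ⟨n', ?_⟩
  have hc : (c ≫ p) * (n ≫ p) * (c ≫ p)⁻¹ = n ≫ p := by
    have h : (c * n) ≫ p = (n * c) ≫ p := congrArg (fun q => q ≫ p) (ga_comm c n)
    rw [MonObj.mul_comp, MonObj.mul_comp] at h
    rw [h, mul_inv_cancel_right]
  calc (a ≫ m) * (b ≫ i) * (c ≫ p) * (n ≫ p) * ((a ≫ m) * (b ≫ i) * (c ≫ p))⁻¹
      = (a ≫ m) * ((b ≫ i) * ((c ≫ p) * (n ≫ p) * (c ≫ p)⁻¹) * (b ≫ i)⁻¹) * (a ≫ m)⁻¹ := by group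
    _ = n' ≫ p := by rw [hc, ← hn', ← hcomm, mul_inv_cancel_right]

/-- The points of the big cell. -/
theorem cell_pt {S : Scheme.{u}} {G T E : Over S} [GrpObj G] (i : T ⟶ G) (pp pm : E ⟶ G) {X : Over S}
    (v : X ⟶ (E ⊗ T) ⊗ E) :
    v ≫ (((pm ⊗ₘ i) ⊗ₘ pp) ≫ (μ[G] ▷ G) ≫ μ[G]) =
      ((v ≫ fst _ _ ≫ fst _ _) ≫ pm) * ((v ≫ fst _ _ ≫ snd _ _) ≫ i) * ((v ≫ snd _ _) ≫ pp) := by
  rw [Hom.mul_def, Hom.mul_def]
  conv_lhs => rw [show v = lift (v ≫ fst _ _) (v ≫ snd _ _) by rw [← comp_lift, lift_fst_snd, Category.comp_id]]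
  simp only [Category.assoc, lift_map_assoc, lift_whiskerRight_assoc]
  congr 2
  rw [← Category.assoc v (fst (E ⊗ T) E) (_ ≫ _),
    show v ≫ fst (E ⊗ T) E = lift (v ≫ fst _ _ ≫ fst _ _) (v ≫ fst _ _ ≫ snd _ _) by
      rw [← comp_lift, ← comp_lift, lift_fst_snd, Category.comp_id]]
  simp only [Category.assoc, lift_map_assoc, lift_fst, lift_snd]

/-- Let G be a reductive S-group, i : T ⟶ G a maximal torus, α a character of T non-trivial on every
geometric fibre, and p₊, p₋ : 𝔾_a ⟶ G monomorphisms of groups normalised by T with multipliers α and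
α⁻¹ such that 𝔾_a ×_S T ×_S 𝔾_a ⟶ G, (y, t, x) ↦ p₋(y) i(t) p₊(x), is an open immersion (a rank-one
system: G has semisimple rank 1 and p₊, p₋ trivialise the root groups of α and -α). Then on no
geometric fibre of S do the images of p₊ and p₋ commute: for every s there are points x, y of 𝔾_a
with values in some scheme over the geometric point at s such that p₊(x) p₋(y) ≠ p₋(y) p₊(x). -/
theorem result (S : Scheme.{u}) (G T : Over S) [GrpObj G] [GrpObj T] (i : T ⟶ G) [IsMonHom i] [Mono i] (hG : Red.IsReductive G) (hTm : Red.IsMaximalTorus i)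
    (α : T ⟶ Red.Gm S) [IsMonHom α] (hα : ∀ s : S, (Over.pullback (Red.geomPt s)).map α ≠ 1)
    (pp pm : Red.Ga S ⟶ G) [IsMonHom pp] [Mono pp] [IsMonHom pm] [Mono pm]
    (hpp : ∀ (X : Over S) (t : X ⟶ T) (x : X ⟶ Red.Ga S), ∃ x' : X ⟶ Red.Ga S,
      x' ≫ pp = (t ≫ i) * (x ≫ pp) * (t ≫ i)⁻¹ ∧ Red.gaFn x' = Red.gmFn (t ≫ α) * Red.gaFn x)
    (hpm : ∀ (X : Over S) (t : X ⟶ T) (y : X ⟶ Red.Ga S), ∃ y' : X ⟶ Red.Ga S,
      y' ≫ pm = (t ≫ i) * (y ≫ pm) * (t ≫ i)⁻¹ ∧ Red.gaFn y' * Red.gmFn (t ≫ α) = Red.gaFn y)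
    (hΩ : IsOpenImmersion (((pm ⊗ₘ i) ⊗ₘ pp) ≫ (μ[G] ▷ G) ≫ μ[G]).left) (s : S) :
    ∃ (X : Over (Spec (CommRingCat.of (AlgebraicClosure (S.residueField s)))))
      (x y : X ⟶ Red.bc (Red.geomPt s) (Red.Ga S)),
      (x ≫ (Over.pullback (Red.geomPt s)).map pp) * (y ≫ (Over.pullback (Red.geomPt s)).map pm) ≠
        (y ≫ (Over.pullback (Red.geomPt s)).map pm) * (x ≫ (Over.pullback (Red.geomPt s)).map pp) := by
  by_contra hcon
  push_neg at hcon
  let K := AlgebraicClosure (S.residueField s)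
  let ω : Spec (CommRingCat.of K) ⟶ S := Red.geomPt s
  let F := Over.pullback ω
  let β := SGA3cLib.GrpBC.bcCongr (Limits.IsTerminal.from specULiftZIsTerminal S) ω
    (Limits.IsTerminal.from specULiftZIsTerminal (Spec (CommRingCat.of K))) (specULiftZIsTerminal.hom_ext _ _)
  let c : Red.bc ω (Red.Ga S) ≅ Red.Ga (Spec (CommRingCat.of K)) := β.app Red.GaZ
  haveI hch : IsMonHom c.hom := (SGA3cLib.GrpBC.isMonHom_app β Red.GaZ).1
  haveI : IsMonHom c.inv := inferInstance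
  haveI : (Over.pullback ω).IsRightAdjoint := (Over.mapPullbackAdj ω).isRightAdjoint
  haveI : Mono ((Over.pullback ω).map pp) := inferInstance
  haveI : IsMonHom ((Over.pullback ω).map pp) := inferInstance
  haveI : IsMonHom ((Over.pullback ω).map pm) := inferInstance
  haveI : IsMonHom ((Over.pullback ω).map i) := inferInstance
  let p := c.inv ≫ (Over.pullback ω).map pp
  let m := c.inv ≫ (Over.pullback ω).map pm
  let e := fun (X : Over (Spec (CommRingCat.of K))) => SGA3cLib.BCPoints.pt ω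
  have hnorm : ∀ (q : Red.Ga S ⟶ G), (∀ (X : Over S) (t : X ⟶ T) (x : X ⟶ Red.Ga S),
      ∃ x' : X ⟶ Red.Ga S, x' ≫ q = (t ≫ i) * (x ≫ q) * (t ≫ i)⁻¹) →
      ∀ (X : Over (Spec (CommRingCat.of K))) (t : X ⟶ Red.bc ω T) (x : X ⟶ Red.Ga (Spec (CommRingCat.of K))),
      ∃ x' : X ⟶ Red.Ga (Spec (CommRingCat.of K)), x' ≫ c.inv ≫ (Over.pullback ω).map q =
        (t ≫ (Over.pullback ω).map i) * (x ≫ c.inv ≫ (Over.pullback ω).map q) * (t ≫ (Over.pullback ω).map i)⁻¹ := by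
    intro q hq X t x
    obtain ⟨t₀, rfl⟩ := (SGA3cLib.BCPoints.pt ω T X).surjective t
    obtain ⟨x₀, hx₀⟩ := (SGA3cLib.BCPoints.pt ω (Red.Ga S) X).surjective (x ≫ c.inv)
    obtain ⟨x', hx'⟩ := hq _ t₀ x₀
    refine ⟨SGA3cLib.BCPoints.pt ω (Red.Ga S) X x' ≫ c.hom, ?_⟩
    rw [Category.assoc, Iso.hom_inv_id_assoc, ← Category.assoc x, ← hx₀, ← SGA3cLib.BCPoints.pt_comp,
      ← SGA3cLib.BCPoints.pt_comp, ← SGA3cLib.BCPoints.pt_comp, ← SGA3cLib.BCPoints.pt_inv,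
      ← SGA3cLib.BCPoints.pt_mul, ← SGA3cLib.BCPoints.pt_mul, hx']
  refine false_of_commute K (Red.geomFibre s G) (Red.bc ω T) (hG.2.2 s) ((Over.pullback ω).map i) p m
    (hnorm pp (fun X t x => by obtain ⟨x', h, -⟩ := hpp X t x; exact ⟨x', h⟩))
    (hnorm pm (fun X t x => by obtain ⟨x', h, -⟩ := hpm X t x; exact ⟨x', h⟩))
    (fun X x y => ?_)
    ((Over.pullback ω).map (((pm ⊗ₘ i) ⊗ₘ pp) ≫ (μ[G] ▷ G) ≫ μ[G]))
    (MorphismProperty.baseChange_map (P := @IsOpenImmersion) ω _ hΩ) (fun X g => ?_)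
  · have := hcon X (x ≫ c.inv) (y ≫ c.inv)
    simpa [p, m] using this
  · obtain ⟨g₀, rfl⟩ := (SGA3cLib.BCPoints.pt ω G X).surjective g
    constructor
    · rintro ⟨v, hv⟩
      obtain ⟨v₀, rfl⟩ := (SGA3cLib.BCPoints.pt ω _ X).surjective v
      rw [← SGA3cLib.BCPoints.pt_comp, EmbeddingLike.apply_eq_iff_eq, cell_pt] at hv
      refine ⟨SGA3cLib.BCPoints.pt ω (Red.Ga S) X (v₀ ≫ fst _ _ ≫ fst _ _) ≫ c.hom,
        SGA3cLib.BCPoints.pt ω T X (v₀ ≫ fst _ _ ≫ snd _ _),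
        SGA3cLib.BCPoints.pt ω (Red.Ga S) X (v₀ ≫ snd _ _) ≫ c.hom, ?_⟩
      simp only [p, m, Category.assoc, Iso.hom_inv_id_assoc]
      rw [← SGA3cLib.BCPoints.pt_comp, ← SGA3cLib.BCPoints.pt_comp, ← SGA3cLib.BCPoints.pt_comp,
        ← SGA3cLib.BCPoints.pt_mul, ← SGA3cLib.BCPoints.pt_mul, hv]
    · rintro ⟨a, b, d, h⟩
      obtain ⟨a₀, ha⟩ := (SGA3cLib.BCPoints.pt ω (Red.Ga S) X).surjective (a ≫ c.inv)
      obtain ⟨b₀, rfl⟩ := (SGA3cLib.BCPoints.pt ω T X).surjective b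
      obtain ⟨d₀, hd⟩ := (SGA3cLib.BCPoints.pt ω (Red.Ga S) X).surjective (d ≫ c.inv)
      refine ⟨SGA3cLib.BCPoints.pt ω _ X (lift (lift a₀ b₀) d₀), ?_⟩
      rw [← SGA3cLib.BCPoints.pt_comp, cell_pt, SGA3cLib.BCPoints.pt_mul, SGA3cLib.BCPoints.pt_mul]
      simp only [lift_fst_assoc, lift_fst, lift_snd]
      rw [SGA3cLib.BCPoints.pt_comp, SGA3cLib.BCPoints.pt_comp, SGA3cLib.BCPoints.pt_comp, ha, hd, h]
      simp only [p, m, Category.assoc]

end

end Groth.Agent.S8446
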