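import Groth.Statements.S8447
import Groth.Agent.SGA3cLib.Centralizer
import Groth.Agent.SGA3cLib.TorusBasic
import Groth.Agent.SGA3cLib.CharSurj

set_option autoImplicit false
universe u
open CategoryTheory MonoidalCategory CartesianMonoidalCategory MonObj GrpObj AlgebraicGeometry CategoryTheory.Limits
open Red

namespace Groth.Agent.S8447

open Groth.Agent.SGA3cLib

/-- Let G be a reductive S-group, i : T ⟶ G a maximal torus, α a character of T non-trivial on every
geometric fibre, and p₊, p₋ : 𝔾_a ⟶ G monomorphisms of groups normalised by T with multipliers α and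
α⁻¹ such that 𝔾_a ×_S T ×_S 𝔾_a ⟶ G, (y, t, x) ↦ p₋(y) i(t) p₊(x), is an open immersion (a rank-one
system: G has semisimple rank 1 and p₊, p₋ trivialise the root groups of α and -α). Then the centre
of G is Ker α: a point g of G with values in an S-scheme X commutes with all points of G after every
base change X' ⟶ X if and only if g = i(t) for some X-point t of T with α(t) = 1. (In particular the
centre is a closed subgroup of multiplicative type; only the equality of points is stated.) -/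
theorem result (S : Scheme.{u}) (G T : Over S) [GrpObj G] [GrpObj T] (i : T ⟶ G) [IsMonHom i] [Mono i] (hG : Red.IsReductive G) (hTm : Red.IsMaximalTorus i)
    (α : T ⟶ Red.Gm S) [IsMonHom α] (hα : ∀ s : S, (Over.pullback (Red.geomPt s)).map α ≠ 1)
    (pp pm : Red.Ga S ⟶ G) [IsMonHom pp] [Mono pp] [IsMonHom pm] [Mono pm]
    (hpp : ∀ (X : Over S) (t : X ⟶ T) (x : X ⟶ Red.Ga S), ∃ x' : X ⟶ Red.Ga S,
      x' ≫ pp = (t ≫ i) * (x ≫ pp) * (t ≫ i)⁻¹ ∧ Red.gaFn x' = Red.gmFn (t ≫ α) * Red.gaFn x)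
    (hpm : ∀ (X : Over S) (t : X ⟶ T) (y : X ⟶ Red.Ga S), ∃ y' : X ⟶ Red.Ga S,
      y' ≫ pm = (t ≫ i) * (y ≫ pm) * (t ≫ i)⁻¹ ∧ Red.gaFn y' * Red.gmFn (t ≫ α) = Red.gaFn y)
    (hΩ : IsOpenImmersion (((pm ⊗ₘ i) ⊗ₘ pp) ≫ (μ[G] ▷ G) ≫ μ[G]).left) (X : Over S) (g : X ⟶ G) :
    (∀ (X' : Over S) (x : X' ⟶ X) (k : X' ⟶ G), (x ≫ g) * k = k * (x ≫ g)) ↔
      ∃ t : X ⟶ T, t ≫ i = g ∧ t ≫ α = 1 := by
  have hT : Red.IsTorus T := hTm.2.2.1
  have hcomm : ∀ (X : Over S) (t t' : X ⟶ T), t * t' = t' * t := fun X t t' => torus_mul_comm hT t t'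
  constructor
  · intro hg
    obtain ⟨a, t, b, hab⟩ := exists_cell hΩ g (range_subset_cell_of_central hG hΩ hpp g hg)
    have hQd : a = 1 ∧ b = 1 := by
      rcases subsingleton_or_nontrivial Γ(X.left, ⊤) with hsub | hnt
      · exact ⟨gaFn_injective (Subsingleton.elim _ _), gaFn_injective (Subsingleton.elim _ _)⟩
      let Q : Polynomial Γ(X.left, ⊤) := Polynomial.X ^ 2 - (Polynomial.X + 1)
      have hQ : Q.Monic := Polynomial.monic_X_pow_sub (by rw [← Polynomial.C_1, Polynomial.degree_X_add_C]; decide)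
      have hQn : Q.natDegree ≠ 0 := by
        have : Q.degree = ((2 : ℕ) : WithBot ℕ) := by
          rw [Polynomial.degree_sub_eq_left_of_degree_lt, Polynomial.degree_X_pow]
          rw [Polynomial.degree_X_pow, ← Polynomial.C_1, Polynomial.degree_X_add_C]; decide
        rw [Polynomial.natDegree_eq_of_degree_eq_some this]; exact two_ne_zero
      obtain ⟨X₁, π₁, r, -, hπ₁, hr⟩ := exists_root_cover Q hQ hQn
      simp only [Q, Polynomial.eval₂_sub, Polynomial.eval₂_add, Polynomial.eval₂_X_pow, Polynomial.eval₂_X,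
        Polynomial.eval₂_one] at hr
      obtain ⟨X₂, π₂, s, -, hπ₂, hs⟩ := exists_char_lift α hT hα
        (IsUnit.of_mul_eq_one (r - 1) (by linear_combination hr) : IsUnit r)
      haveI := hπ₁
      haveI := hπ₂
      have hs1 : IsUnit (gmFn (s ≫ α) - 1) := by
        rw [hs, ← map_one π₂.left.appTop.hom, ← map_sub]
        exact (IsUnit.of_mul_eq_one r (by linear_combination hr) : IsUnit (r - 1)).map _
      have hc := hg X₂ (π₂ ≫ π₁) (s ≫ i)
      rw [hab, MonObj.comp_mul, MonObj.comp_mul, ← Category.assoc _ a, ← Category.assoc _ t,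
        ← Category.assoc _ b] at hc
      obtain ⟨ha, hb⟩ := cell_eq_T_of_conj hΩ hpp hpm hcomm s hs1 hc.symm
      exact ⟨(cancel_epi (π₂ ≫ π₁)).mp (ha.trans (MonObj.comp_one _).symm),
        (cancel_epi (π₂ ≫ π₁)).mp (hb.trans (MonObj.comp_one _).symm)⟩
    rw [hQd.1, hQd.2, MonObj.one_comp, MonObj.one_comp, _root_.mul_one, _root_.one_mul] at hab
    refine ⟨t, hab.symm, gmFn_injective ?_⟩
    obtain ⟨e, he⟩ := exists_gaFn (S := S) (X := X) 1
    obtain ⟨e', h1, h2⟩ := hpp X t e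
    have hc := hg X (𝟙 X) (e ≫ pp)
    rw [Category.id_comp, hab] at hc
    rw [hc, mul_inv_cancel_right] at h1
    rw [gaFn_injective (x := e') (y := e) (congrArg gaFn ((cancel_mono pp).mp h1)), he, _root_.mul_one] at h2
    rw [gmFn_one]
    exact h2.symm
  · rintro ⟨t, rfl, ht⟩ X' x k
    rw [← Category.assoc]
    have hα1 : gmFn ((x ≫ t) ≫ α) = 1 := by rw [Category.assoc, ht, MonObj.comp_one, gmFn_one]
    obtain ⟨X'', π, c₁, c₂, -, hπ, hk, hc₁, hc₂⟩ := exists_cell_cover hG hΩ k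
    haveI := hπ
    have hα2 : gmFn ((π ≫ x ≫ t) ≫ α) = 1 := by rw [Category.assoc, gmFn_comp, hα1, map_one]
    have hcell : ∀ c : X'' ⟶ G, Set.range c.left.base ⊆ Set.range (cellHom i pp pm).left.base →
        Commute ((π ≫ x ≫ t) ≫ i) c := by
      intro c hc
      obtain ⟨a, s, b, rfl⟩ := exists_cell hΩ c hc
      obtain ⟨a', ha, ha'⟩ := hpm X'' (π ≫ x ≫ t) a
      obtain ⟨b', hb, hb'⟩ := hpp X'' (π ≫ x ≫ t) b
      rw [hα2, _root_.mul_one] at ha'
      rw [hα2, _root_.one_mul] at hb'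
      rw [gaFn_injective ha'] at ha
      rw [gaFn_injective hb'] at hb
      refine ((?_ : Commute _ _).mul_right ?_).mul_right ?_
      · exact eq_mul_inv_iff_mul_eq.mp ha |>.symm
      · show _ = _
        rw [← MonObj.mul_comp, ← MonObj.mul_comp, hcomm]
      · exact eq_mul_inv_iff_mul_eq.mp hb |>.symm
    refine (cancel_epi π).mp ?_
    rw [MonObj.comp_mul, MonObj.comp_mul, hk, ← Category.assoc π (x ≫ t) i]
    exact ((hcell c₂ hc₂).mul_right (hcell c₁ hc₁).inv_right).eq

end Groth.Agent.S8447
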