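import Groth.Statements.S8451
import Groth.Agent.SGA3cLib.Centralizer
import Groth.Agent.SGA3cLib.TorusBasic

set_option autoImplicit false
universe u
open CategoryTheory MonoidalCategory CartesianMonoidalCategory MonObj GrpObj AlgebraicGeometry CategoryTheory.Limits
open Red

namespace Groth.Agent.S8451

open Groth.Agent.SGA3cLib

/-- Let G be a reductive S-group, i : T ⟶ G a maximal torus, α a character of T non-trivial on every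
geometric fibre, p₊, p₋ : 𝔾_a ⟶ G monomorphisms of groups normalised by T with multipliers α and α⁻¹
whose cell map (y, t, x) ↦ p₋(y) i(t) p₊(x) is an open immersion 𝔾_a ×_S T ×_S 𝔾_a ⟶ G, and α^* :
𝔾_m ⟶ T the coroot: α ∘ α^* is the squaring map and p₊(x) p₋(y) = p₋(y/(1+xy)) · i(α^*(1+xy)) ·
p₊(x/(1+xy)) whenever 1 + xy is invertible (so p₊ and p₋ are dual to each other). Let e₁, em be the
S-points of 𝔾_a with coordinates 1 and -1, u = p₊(e₁) and w₀ = p₊(e₁) p₋(em) p₊(e₁). Let n be a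
non-zero integer. If an S-point w of G satisfies w · i(α^*(z))^n · w⁻¹ = i(α^*(z))^{-n} for all
points z of 𝔾_m (after base change) and w u w⁻¹ = u⁻¹ w u⁻¹, then w = w₀. (The published statement
has the condition (w u)³ = e in place of w u w⁻¹ = u⁻¹ w u⁻¹, and also asserts that w₀ has both
properties. The cube condition does not determine w when the centre of G contains a non-trivial cube
root of unity: for G = GL₂ over a field containing a primitive cube root of unity ζ, the point ζ·w₀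
inverts the coroot and satisfies (ζ w₀ u)³ = e. The published proof uses the conjugation identity
stated here, which is equivalent to (w u)³ = e once w² = i(α^*(-1)).) -/
theorem result (S : Scheme.{u}) (G T : Over S) [GrpObj G] [GrpObj T] (i : T ⟶ G) [IsMonHom i] [Mono i] (hG : Red.IsReductive G) (hTm : Red.IsMaximalTorus i)
    (α : T ⟶ Red.Gm S) [IsMonHom α] (hα : ∀ s : S, (Over.pullback (Red.geomPt s)).map α ≠ 1)
    (pp pm : Red.Ga S ⟶ G) [IsMonHom pp] [Mono pp] [IsMonHom pm] [Mono pm]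
    (hpp : ∀ (X : Over S) (t : X ⟶ T) (x : X ⟶ Red.Ga S), ∃ x' : X ⟶ Red.Ga S,
      x' ≫ pp = (t ≫ i) * (x ≫ pp) * (t ≫ i)⁻¹ ∧ Red.gaFn x' = Red.gmFn (t ≫ α) * Red.gaFn x)
    (hpm : ∀ (X : Over S) (t : X ⟶ T) (y : X ⟶ Red.Ga S), ∃ y' : X ⟶ Red.Ga S,
      y' ≫ pm = (t ≫ i) * (y ≫ pm) * (t ≫ i)⁻¹ ∧ Red.gaFn y' * Red.gmFn (t ≫ α) = Red.gaFn y)
    (hΩ : IsOpenImmersion (((pm ⊗ₘ i) ⊗ₘ pp) ≫ (μ[G] ▷ G) ≫ μ[G]).left)
    (av : Red.Gm S ⟶ T) [IsMonHom av] (h2 : av ≫ α = (𝟙 (Red.Gm S)) ^ 2)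
    (hF : ∀ (X : Over S) (x y : X ⟶ Red.Ga S), IsUnit (1 + Red.gaFn x * Red.gaFn y) →
      ∃ (x' y' : X ⟶ Red.Ga S) (z : X ⟶ Red.Gm S), Red.gmFn z = 1 + Red.gaFn x * Red.gaFn y ∧
        Red.gaFn x' * Red.gmFn z = Red.gaFn x ∧ Red.gaFn y' * Red.gmFn z = Red.gaFn y ∧
        (x ≫ pp) * (y ≫ pm) = (y' ≫ pm) * (z ≫ av ≫ i) * (x' ≫ pp))
    (e₁ em : 𝟙_ (Over S) ⟶ Red.Ga S) (he₁ : Red.gaFn e₁ = 1) (hem : Red.gaFn em = -1)
    (n : ℤ) (hn : n ≠ 0) (w : 𝟙_ (Over S) ⟶ G)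
    (hw : ∀ (X : Over S) (z : X ⟶ Red.Gm S),
      (toUnit X ≫ w) * (((z ≫ av) ^ n) ≫ i) * (toUnit X ≫ w)⁻¹ = ((((z ≫ av) ^ n) ≫ i))⁻¹)
    (hconj : w * (e₁ ≫ pp) * w⁻¹ = (e₁ ≫ pp)⁻¹ * w * (e₁ ≫ pp)⁻¹) :
    w = (e₁ ≫ pp) * (em ≫ pm) * (e₁ ≫ pp) := by
  have H : SL2Rel i α pp pm av := ⟨hpp, hpm, h2, hF⟩
  have hcomm : ∀ (X : Over S) (t t' : X ⟶ T), t * t' = t' * t := fun X t t' => torus_mul_comm hTm.2.2.1 t t'
  have hwX : ∀ (X : Over S), gaFn (toUnit X ≫ em) * gaFn (toUnit X ≫ e₁) = -1 := fun X => by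
    rw [gaFn_comp, gaFn_comp, he₁, hem, map_one, map_neg, map_one, _root_.mul_one]
  have hWX : ∀ (X : Over S), toUnit X ≫ SL2Rel.w pp pm e₁ em = SL2Rel.w pp pm (toUnit X ≫ e₁) (toUnit X ≫ em) := fun X => by
    simp only [SL2Rel.w, MonObj.comp_mul, Category.assoc]
  have hsq : ∀ (X : Over S) (u : X ⟶ Red.Gm S), (u ≫ av) ≫ α ≫ av = (u ≫ av) * (u ≫ av) := by
    intro X u
    rw [← MonObj.mul_comp u u av, ← Category.assoc]
    congr 1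
    refine gmFn_injective ?_
    rw [H.gmFn_av_α, gmFn_mul, pow_two]
  have hgrp : ∀ (X : Over S) (v : X ⟶ T), (v * v)⁻¹ * v = v⁻¹ := fun X v => by group
  have hWs : ∀ (X : Over S) (z : X ⟶ Red.Gm S),
      SL2Rel.w pp pm (toUnit X ≫ e₁) (toUnit X ≫ em) * (((z ≫ av) ^ n) ≫ i) =
        (((z ≫ av) ^ n) ≫ i)⁻¹ * SL2Rel.w pp pm (toUnit X ≫ e₁) (toUnit X ≫ em) := by
    intro X z
    rw [← GrpObj.zpow_comp z n av, H.W_mul_T (hwX X), hsq, hgrp, GrpObj.inv_comp ((z ^ n) ≫ av) i]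
  obtain ⟨t₀, ht₀⟩ := H.exists_T_of_commute hG hΩ hcomm n hn (w * (SL2Rel.w pp pm e₁ em)⁻¹) (fun X y z => by
    rw [toUnit_unique y (toUnit X), MonObj.comp_mul, GrpObj.comp_inv, hWX]
    generalize hV : SL2Rel.w pp pm (toUnit X ≫ e₁) (toUnit X ≫ em) = V
    have h1 := hWs X z
    rw [hV] at h1
    have h2 := hw X z
    generalize ((z ≫ av) ^ n) ≫ i = s at h1 h2
    generalize toUnit X ≫ w = u at h2
    calc u * V⁻¹ * s = u * (V⁻¹ * (s * V) * V⁻¹) := by group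
      _ = u * (V⁻¹ * (s * (V * s)) * s⁻¹ * V⁻¹) := by group
      _ = u * s⁻¹ * V⁻¹ := by rw [h1]; group
      _ = u * s⁻¹ * u⁻¹ * (u * V⁻¹) := by group
      _ = (u * s * u⁻¹)⁻¹ * (u * V⁻¹) := by group
      _ = s * (u * V⁻¹) := by rw [h2]; group)
  have hw0 : gaFn em * gaFn e₁ = -1 := by rw [he₁, hem, _root_.mul_one]
  have hwt : w = (t₀ ≫ i) * SL2Rel.w pp pm e₁ em := by rw [ht₀]; group
  have hWc : SL2Rel.w pp pm e₁ em * (e₁ ≫ pp) * (SL2Rel.w pp pm e₁ em)⁻¹ = em ≫ pm := H.w_conj_self hw0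
  obtain ⟨y, hy, -⟩ := hpm _ t₀ em
  obtain ⟨a', ha', -⟩ := hpp _ t₀ e₁
  have hy' : y ≫ pm = (e₁ ≫ pp)⁻¹ * w * (e₁ ≫ pp)⁻¹ := by
    rw [← hconj, hwt, hy, ← hWc]; group
  have hcell : ((em * y⁻¹) ≫ pm) * ((1 : 𝟙_ (Over S) ⟶ T) ≫ i) * ((e₁⁻¹ * a') ≫ pp) =
      ((1 : 𝟙_ (Over S) ⟶ Red.Ga S) ≫ pm) * (t₀⁻¹ ≫ i) * ((1 : 𝟙_ (Over S) ⟶ Red.Ga S) ≫ pp) := by
    rw [MonObj.one_comp, MonObj.one_comp, MonObj.one_comp, MonObj.mul_comp em y⁻¹ pm,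
      MonObj.mul_comp e₁⁻¹ a' pp, GrpObj.inv_comp y pm, GrpObj.inv_comp e₁ pp, GrpObj.inv_comp t₀ i, hy', ha', hwt]
    simp only [SL2Rel.w]
    group
  obtain ⟨-, ht, -⟩ := cell_unique hΩ hcell
  rw [hwt, inv_eq_one.mp ht.symm, MonObj.one_comp, _root_.one_mul]

end Groth.Agent.S8451
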