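import Groth.Statements.S8452
import Groth.Agent.SGA3cLib.RankOneCompat
import Groth.Agent.SGA3cLib.TorusBasic
import Groth.Agent.SGA3cLib.CharSurj

set_option autoImplicit false
universe u
open CategoryTheory MonoidalCategory CartesianMonoidalCategory MonObj GrpObj AlgebraicGeometry CategoryTheory.Limits
open Red

namespace Groth.Agent.S8452

open Groth.Agent.SGA3cLib

theorem isUnit_global {X : Scheme.{u}} (a : Γ(X, ⊤))
    (h : ∀ z : X, (X.fromSpecResidueField z).appTop a ≠ 0) : IsUnit a := by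
  refine X.toRingedSpace.isUnit_of_isUnit_germ ⊤ a fun z _ => ?_
  by_contra hz
  have hnot : z ∉ X.basicOpen a := fun hm => hz ((Scheme.mem_basicOpen X a z trivial).mp hm)
  apply hnot
  have hu : IsUnit ((X.fromSpecResidueField z).appTop a) := by
    have : IsUnit ((Scheme.ΓSpecIso (X.residueField z)).hom ((X.fromSpecResidueField z).appTop a)) :=
      isUnit_iff_ne_zero.mpr fun h0 => h z ((ConcreteCategory.bijective_of_isIso
        (Scheme.ΓSpecIso (X.residueField z)).hom).1 (h0.trans (map_zero _).symm))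
    exact (isUnit_map_iff _ _).mp this
  have h1 := Scheme.basicOpen_of_isUnit (Spec (X.residueField z)) hu
  have hm : (IsLocalRing.closedPoint (X.residueField z) : Spec (X.residueField z)) ∈
      (X.fromSpecResidueField z) ⁻¹ᵁ X.basicOpen a := by
    rw [Scheme.preimage_basicOpen_top, h1]
    trivial
  have hm' : (X.fromSpecResidueField z).base (IsLocalRing.closedPoint (X.residueField z)) ∈ X.basicOpen a := hm
  rwa [Scheme.fromSpecResidueField_apply] at hm'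

/-- Let (G, T, α, p₊, p₋, α^*) and (G', T', α', p'₊, p'₋, α'^*) be two rank-one systems over S: G
reductive, i : T ⟶ G a maximal torus, α a character of T non-trivial on every geometric fibre, p₊,
p₋ : 𝔾_a ⟶ G monomorphisms normalised by T with multipliers α, α⁻¹ whose cell map (y, t, x) ↦ p₋(y)
i(t) p₊(x) is an open immersion, α^* : 𝔾_m ⟶ T with α ∘ α^* the squaring map and p₊(x) p₋(y) =
p₋(y/(1+xy)) · i(α^*(1+xy)) · p₊(x/(1+xy)) whenever 1 + xy is invertible; likewise for the primed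
data. Let q > 0 be an integer such that x ↦ x^q is additive on all functions of S-schemes. For a
homomorphism f : G ⟶ G' the following are equivalent: (i) f restricted to T factors through a
homomorphism f_T : T ⟶ T' with α' ∘ f_T = α^q and f_T ∘ α^* = (α'^*)^q; (ii) there is an S-point c
of 𝔾_m (it is then unique) with f(p₊(x)) = p'₊(c x^q) and f(p₋(y)) = p'₋(c⁻¹ y^q) for all points x,
y of 𝔾_a. -/
theorem result (S : Scheme.{u}) (G T : Over S) [GrpObj G] [GrpObj T] (i : T ⟶ G) [IsMonHom i] [Mono i] (hG : Red.IsReductive G) (hTm : Red.IsMaximalTorus i)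
    (α : T ⟶ Red.Gm S) [IsMonHom α] (hα : ∀ s : S, (Over.pullback (Red.geomPt s)).map α ≠ 1)
    (pp pm : Red.Ga S ⟶ G) [IsMonHom pp] [Mono pp] [IsMonHom pm] [Mono pm]
    (hpp : ∀ (X : Over S) (t : X ⟶ T) (x : X ⟶ Red.Ga S), ∃ x' : X ⟶ Red.Ga S,
      x' ≫ pp = (t ≫ i) * (x ≫ pp) * (t ≫ i)⁻¹ ∧ Red.gaFn x' = Red.gmFn (t ≫ α) * Red.gaFn x)
    (hpm : ∀ (X : Over S) (t : X ⟶ T) (y : X ⟶ Red.Ga S), ∃ y' : X ⟶ Red.Ga S,
      y' ≫ pm = (t ≫ i) * (y ≫ pm) * (t ≫ i)⁻¹ ∧ Red.gaFn y' * Red.gmFn (t ≫ α) = Red.gaFn y)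
    (hΩ : IsOpenImmersion (((pm ⊗ₘ i) ⊗ₘ pp) ≫ (μ[G] ▷ G) ≫ μ[G]).left)
    (av : Red.Gm S ⟶ T) [IsMonHom av] (h2 : av ≫ α = (𝟙 (Red.Gm S)) ^ 2)
    (hF : ∀ (X : Over S) (x y : X ⟶ Red.Ga S), IsUnit (1 + Red.gaFn x * Red.gaFn y) →
      ∃ (x' y' : X ⟶ Red.Ga S) (z : X ⟶ Red.Gm S), Red.gmFn z = 1 + Red.gaFn x * Red.gaFn y ∧
        Red.gaFn x' * Red.gmFn z = Red.gaFn x ∧ Red.gaFn y' * Red.gmFn z = Red.gaFn y ∧
        (x ≫ pp) * (y ≫ pm) = (y' ≫ pm) * (z ≫ av ≫ i) * (x' ≫ pp))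
    (G' T' : Over S) [GrpObj G'] [GrpObj T'] (i' : T' ⟶ G') [IsMonHom i'] [Mono i'] (hG' : Red.IsReductive G') (hTm' : Red.IsMaximalTorus i')
    (α' : T' ⟶ Red.Gm S) [IsMonHom α'] (hα' : ∀ s : S, (Over.pullback (Red.geomPt s)).map α' ≠ 1)
    (pp' pm' : Red.Ga S ⟶ G') [IsMonHom pp'] [Mono pp'] [IsMonHom pm'] [Mono pm']
    (hpp' : ∀ (X : Over S) (t : X ⟶ T') (x : X ⟶ Red.Ga S), ∃ x' : X ⟶ Red.Ga S,
      x' ≫ pp' = (t ≫ i') * (x ≫ pp') * (t ≫ i')⁻¹ ∧ Red.gaFn x' = Red.gmFn (t ≫ α') * Red.gaFn x)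
    (hpm' : ∀ (X : Over S) (t : X ⟶ T') (y : X ⟶ Red.Ga S), ∃ y' : X ⟶ Red.Ga S,
      y' ≫ pm' = (t ≫ i') * (y ≫ pm') * (t ≫ i')⁻¹ ∧ Red.gaFn y' * Red.gmFn (t ≫ α') = Red.gaFn y)
    (hΩ' : IsOpenImmersion (((pm' ⊗ₘ i') ⊗ₘ pp') ≫ (μ[G'] ▷ G') ≫ μ[G']).left)
    (av' : Red.Gm S ⟶ T') [IsMonHom av'] (h2' : av' ≫ α' = (𝟙 (Red.Gm S)) ^ 2)
    (hF' : ∀ (X : Over S) (x y : X ⟶ Red.Ga S), IsUnit (1 + Red.gaFn x * Red.gaFn y) →
      ∃ (x' y' : X ⟶ Red.Ga S) (z : X ⟶ Red.Gm S), Red.gmFn z = 1 + Red.gaFn x * Red.gaFn y ∧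
        Red.gaFn x' * Red.gmFn z = Red.gaFn x ∧ Red.gaFn y' * Red.gmFn z = Red.gaFn y ∧
        (x ≫ pp') * (y ≫ pm') = (y' ≫ pm') * (z ≫ av' ≫ i') * (x' ≫ pp'))
    (q : ℕ) (hq0 : 0 < q) (hq : ∀ (X : Over S) (a b : Γ(X.left, ⊤)), (a + b) ^ q = a ^ q + b ^ q) (f : G ⟶ G') [IsMonHom f] :
    (∃ fT : T ⟶ T', IsMonHom fT ∧ i ≫ f = fT ≫ i' ∧ fT ≫ α' = α ^ q ∧ av ≫ fT = av' ^ q) ↔
      ∃! c : 𝟙_ (Over S) ⟶ Red.Gm S,
        (∀ (X : Over S) (x y : X ⟶ Red.Ga S), Red.gaFn y = Red.gmFn (toUnit X ≫ c) * Red.gaFn x ^ q →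
          (x ≫ pp) ≫ f = y ≫ pp') ∧
        (∀ (X : Over S) (x y : X ⟶ Red.Ga S), Red.gaFn y * Red.gmFn (toUnit X ≫ c) = Red.gaFn x ^ q →
          (x ≫ pm) ≫ f = y ≫ pm') := by
  have H : SL2Rel i α pp pm av := ⟨hpp, hpm, h2, hF⟩
  have H' : SL2Rel i' α' pp' pm' av' := ⟨hpp', hpm', h2', hF'⟩
  have hT : Red.IsTorus T := hTm.2.2.1
  have hT' : Red.IsTorus T' := hTm'.2.2.1
  haveI := torus_isSeparated hT'
  have hcomm' : ∀ (X : Over S) (t t' : X ⟶ T'), t * t' = t' * t := fun X t t' => torus_mul_comm hT' t t'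
  have hcomm : ∀ (X : Over S) (t t' : X ⟶ T), t * t' = t' * t := fun X t t' => torus_mul_comm hT t t'
  obtain ⟨o, ho⟩ := exists_gaFn (S := S) (X := 𝟙_ (Over S)) 1
  constructor
  · rintro ⟨fT, hfm, hfi, hfα, hfav⟩
    haveI := hfm
    have hconj : ∀ (X : Over S) (s : X ⟶ T), (s ≫ i) ≫ f = (s ≫ fT) ≫ i' := fun X s => by
      rw [Category.assoc, hfi, Category.assoc]
    have hα' : ∀ (X : Over S) (s : X ⟶ T), gmFn ((s ≫ fT) ≫ α') = gmFn (s ≫ α) ^ q := fun X s => by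
      rw [Category.assoc, hfα, MonObj.comp_pow, gmFn_pow]
    have hTor : ∀ (X : Over S) (z : X ⟶ Red.Gm S), (z ≫ av ≫ i) ≫ f = ((z ≫ av') ^ q) ≫ i' := fun X z => by
      rw [← Category.assoc z av i, hconj, Category.assoc z av fT, hfav, MonObj.comp_pow]
    obtain ⟨ν, hν⟩ := exists_coeff hΩ' hpp' hpm' hcomm' q (pp ≫ f) (fun X x x' r hr hx => by
      obtain ⟨X', π, s, hsu, hep, hs⟩ := exists_char_lift α hT hα hr
      refine ⟨X', π, s ≫ fT, hsu, hep, by rw [hα', hs], ?_⟩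
      obtain ⟨x'', h1, h2⟩ := hpp X' s (π ≫ x)
      have he : x'' = π ≫ x' := gaFn_injective (by rw [h2, gaFn_comp π x', hx, map_mul, gaFn_comp π x, hs])
      rw [he] at h1
      have h3 := congrArg (· ≫ f) h1
      simp only [MonObj.mul_comp, GrpObj.inv_comp, hconj] at h3
      simpa only [Category.assoc] using h3)
    have hinv : ∀ {X : Over S} (t : X ⟶ T'), gmFn (t ≫ α'⁻¹) * gmFn (t ≫ α') = 1 := fun t => by
      rw [GrpObj.comp_inv, gmFn_inv_mul]
    obtain ⟨μ', hμ⟩ := exists_coeff (α := α'⁻¹) (isOpenImmersion_cellHom_swap hΩ')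
      (fun X t x => by
        obtain ⟨x', h, h'⟩ := hpm' X t x
        exact ⟨x', h, by linear_combination gmFn (t ≫ α'⁻¹) * h' - gaFn x' * hinv t⟩)
      (fun X t x => by
        obtain ⟨x', h, h'⟩ := hpp' X t x
        exact ⟨x', h, by rw [h']; linear_combination gaFn x * hinv t⟩) hcomm' q (pm ≫ f) (fun X x x' r hr hx => by
        obtain ⟨r', hr'⟩ := hr.exists_left_inv
        obtain ⟨X', π, s, hsu, hep, hs⟩ := exists_char_lift α hT hα (IsUnit.of_mul_eq_one r hr' : IsUnit r')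
        refine ⟨X', π, s ≫ fT, hsu, hep, ?_, ?_⟩
        · refine ((isUnit_gmFn (s ≫ α)).pow q).mul_left_cancel ?_
          have e' := hinv (s ≫ fT)
          rw [hα'] at e'
          rw [_root_.mul_comm, e', ← mul_pow, hs, ← map_mul, hr', map_one, one_pow]
        · obtain ⟨x'', h1, h2⟩ := hpm X' s (π ≫ x)
          rw [hs] at h2
          have hrr : π.left.appTop r' * π.left.appTop r = 1 := by rw [← map_mul, hr', map_one]
          have he : x'' = π ≫ x' := gaFn_injective (by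
            rw [gaFn_comp π x', hx, map_mul, ← gaFn_comp π x]
            linear_combination π.left.appTop r * h2 - gaFn x'' * hrr)
          rw [he] at h1
          have h3 := congrArg (· ≫ f) h1
          simp only [MonObj.mul_comp, GrpObj.inv_comp, hconj] at h3
          simpa only [Category.assoc] using h3)
    have hνu : IsUnit (gaFn ν) := by
      refine isUnit_global _ fun z h0 => ?_
      let K := (𝟙_ (Over S)).left.residueField z
      let k₀ := (𝟙_ (Over S)).left.fromSpecResidueField z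
      let Ω := AlgebraicClosure K
      let b₀ : Spec (CommRingCat.of Ω) ⟶ (𝟙_ (Over S)).left :=
        Spec.map (CommRingCat.ofHom (algebraMap K Ω)) ≫ k₀
      let X : Over S := Over.mk (b₀ ≫ (𝟙_ (Over S)).hom)
      have hν0 : gaFn (toUnit X ≫ ν) = 0 := by
        rw [gaFn_comp, toUnit_unique (toUnit X) (Over.homMk b₀ rfl)]
        show b₀.appTop (gaFn ν) = 0
        rw [Scheme.Hom.comp_appTop, CommRingCat.comp_apply, h0, map_zero]
      have h1 : ∀ x : X ⟶ Red.Ga S, (x ≫ pp) ≫ f = 1 := fun x => by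
        rw [Category.assoc, hν X x 1 (by rw [hν0, gaFn_one, zero_mul]), MonObj.one_comp]
      obtain ⟨o₁, ho₁⟩ := exists_gaFn (S := S) (X := X) 1
      obtain ⟨o₂, ho₂⟩ := exists_gaFn (S := S) (X := X) (-1)
      have hw : gaFn o₂ * gaFn o₁ = -1 := by rw [ho₁, ho₂, _root_.mul_one]
      have h2 : ∀ y : X ⟶ Red.Ga S, (y ≫ pm) ≫ f = 1 := fun y => by
        obtain ⟨ny, hny⟩ := exists_gaFn (S := S) (-gaFn y)
        rw [← H.w_conj_pp (c := ny) (c' := y) hw (by rw [hny, ho₂]; ring)]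
        simp only [MonObj.mul_comp, GrpObj.inv_comp, h1, _root_.mul_one, _root_.one_mul]
        group
      obtain ⟨r, hr, hr1⟩ := exists_unit_pow_ne_one Ω (m := 2 * q) (by omega)
      obtain ⟨u, hu⟩ := exists_gmFn (S := S) (X := X) hr
      obtain ⟨b, hb⟩ := exists_gaFn (S := S) (gmFn u - 1)
      obtain ⟨a', b', u', hu', -, -, he⟩ := hF X o₁ b (by
        rw [ho₁, hb, _root_.one_mul, add_sub_cancel]; exact isUnit_gmFn u)
      have huu : u' = u := gmFn_injective (by rw [hu', ho₁, hb, _root_.one_mul, add_sub_cancel])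
      have he' := congrArg (· ≫ f) he
      simp only [MonObj.mul_comp, h1, h2, hTor, huu, _root_.one_mul, _root_.mul_one] at he'
      have h5 : (u ≫ av') ^ q = 1 := (cancel_mono i').mp (he'.symm.trans (MonObj.one_comp i').symm)
      have h6 := congrArg (fun t => gmFn (t ≫ α')) h5
      simp only [← MonObj.pow_comp u q av', H'.gmFn_av_α, gmFn_pow, hu] at h6
      rw [show (1 : X ⟶ T') ≫ α' = 1 from MonObj.one_comp α', gmFn_one, ← pow_mul, _root_.mul_comm q 2] at h6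
      exact hr1 h6
    obtain ⟨c, hc⟩ := exists_gmFn (S := S) hνu
    have hcX : ∀ X : Over S, gmFn (toUnit X ≫ c) = gaFn (toUnit X ≫ ν) := fun X => by rw [gmFn_comp, gaFn_comp, hc]
    have hνμ : gaFn μ' * gaFn ν = 1 := coeff_mul_eq_one H H' hΩ' hq0 hq f hTor ν μ' hνu hν hμ
    refine ⟨c, ⟨fun X x y hy => ?_, fun X x y hy => ?_⟩, fun c' hc' => ?_⟩
    · rw [Category.assoc]
      exact hν X x y (by rw [hy, hcX])
    · rw [Category.assoc]
      refine hμ X x y ?_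
      have hX : gaFn (toUnit X ≫ μ') * gaFn (toUnit X ≫ ν) = 1 := by
        rw [gaFn_comp, gaFn_comp, ← map_mul, hνμ, map_one]
      rw [← hy, hcX]
      linear_combination -gaFn y * hX
    · have htu : toUnit (𝟙_ (Over S)) = 𝟙 _ := toUnit_unique _ _
      obtain ⟨y', hy'⟩ := exists_gaFn (S := S) (X := 𝟙_ (Over S)) (gmFn c')
      have e1 := hc'.1 _ o y' (by rw [htu, Category.id_comp, ho, one_pow, _root_.mul_one, hy'])
      rw [Category.assoc, hν _ o ν (by rw [htu, Category.id_comp, ho, one_pow, _root_.mul_one])] at e1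
      exact gmFn_injective (by rw [hc, ← hy', (cancel_mono pp').mp e1])
  · rintro ⟨c, ⟨hcp, hcm⟩, -⟩
    have hTor := coroot_of_coeff H H' hq f c hcp hcm
    obtain ⟨fT, hfi⟩ := H'.exists_T_of_commute hG' hΩ' hcomm' (q : ℤ) (by omega) (i ≫ f) (fun X y z => by
      rw [← Category.assoc, zpow_natCast, ← hTor X z, ← MonObj.mul_comp, ← MonObj.mul_comp,
        ← Category.assoc z av i, ← MonObj.mul_comp, ← MonObj.mul_comp, hcomm])
    haveI hfm : IsMonHom fT :=
      { one_hom := (cancel_mono i').mp (by rw [Category.assoc, hfi, IsMonHom.one_hom (f := i'), ← Category.assoc, IsMonHom.one_hom (f := i), IsMonHom.one_hom (f := f)])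
        mul_hom := (cancel_mono i').mp (by
          rw [Category.assoc, hfi, Category.assoc, IsMonHom.mul_hom (f := i'), ← Category.assoc,
            IsMonHom.mul_hom (f := i), Category.assoc, IsMonHom.mul_hom (f := f), MonoidalCategory.tensorHom_comp_tensorHom_assoc,
            MonoidalCategory.tensorHom_comp_tensorHom_assoc, hfi]) }
    refine ⟨fT, hfm, hfi.symm, ?_, ?_⟩
    · refine gmFn_injective ?_
      obtain ⟨e, he⟩ := exists_gaFn (S := S) (X := T) 1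
      obtain ⟨e', h1, h2⟩ := hpp T (𝟙 T) e
      obtain ⟨u, hu⟩ := exists_gaFn (S := S) (gmFn (toUnit T ≫ c))
      obtain ⟨u', hu'⟩ := exists_gaFn (S := S) (gmFn (toUnit T ≫ c) * gaFn e' ^ q)
      obtain ⟨u'', k1, k2⟩ := hpp' T fT u
      have h3 := congrArg (· ≫ f) h1
      simp only [MonObj.mul_comp, GrpObj.inv_comp, Category.id_comp] at h3
      rw [hcp T e' u' hu', hcp T e u (by rw [hu, he, one_pow, _root_.mul_one]), ← hfi, ← k1, cancel_mono] at h3
      rw [h3, k2, hu] at hu'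
      rw [h2, he, Category.id_comp, _root_.mul_one, _root_.mul_comm] at hu'
      rw [gmFn_pow]
      exact (isUnit_gmFn _).mul_left_cancel hu'
    · refine (cancel_mono i').mp ?_
      rw [Category.assoc, hfi, ← Category.assoc]
      have h := hTor _ (𝟙 (Red.Gm S))
      simpa using h

end Groth.Agent.S8452
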