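import Groth.Statements.S8478
import Groth.Agent.SGA3cLib.RankOneHom
import Groth.Agent.SGA3cLib.TorusBasic

set_option autoImplicit false
universe u
open CategoryTheory MonoidalCategory CartesianMonoidalCategory MonObj GrpObj AlgebraicGeometry CategoryTheory.Limits
open Red

namespace Groth.Agent.S8478

open Groth.Agent.SGA3cLib

/-- Let (G, T, α, p₊, p₋, α^*) and (G', T', α', p'₊, p'₋, α'^*) be two rank-one systems over S: G
reductive, i : T ⟶ G a maximal torus, α a character of T non-trivial on every geometric fibre, p₊,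
p₋ : 𝔾_a ⟶ G monomorphisms normalised by T with multipliers α, α⁻¹ whose cell map (y, t, x) ↦ p₋(y)
i(t) p₊(x) is an open immersion, α^* : 𝔾_m ⟶ T with α ∘ α^* the squaring map and p₊(x) p₋(y) =
p₋(y/(1+xy)) · i(α^*(1+xy)) · p₊(x/(1+xy)) whenever 1 + xy is invertible; likewise for the primed
data. Let q > 0 be an integer such that x ↦ x^q is additive on all functions of S-schemes. Let c be
an S-point of 𝔾_m and f : G ⟶ G' a homomorphism with f(p₊(x)) = p'₊(c x^q) for all points x of 𝔾_a.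
Write w(x) = p₊(x) p₋(-x⁻¹) p₊(x) and w'(x) = p'₊(x) p'₋(-x⁻¹) p'₊(x) for points x with invertible
coordinate. Then the following are equivalent: (i) f(i(α^*(z))) = i'(α'^*(z))^q for all points z of
𝔾_m; (ii) f(w(x)) = w'(c x^q) for all x with invertible coordinate; (iii) f(p₋(y)) = p'₋(c⁻¹ y^q)
for all points y. -/
theorem result (S : Scheme.{u}) (G T : Over S) [GrpObj G] [GrpObj T] (i : T ⟶ G) [IsMonHom i] [Mono i] (hG : Red.IsReductive G) (hTm : Red.IsMaximalTorus i)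
    (α : T ⟶ Red.Gm S) [IsMonHom α] (hα : ∀ s : S, (Over.pullback (Red.geomPt s)).map α ≠ 1)
    (pp pm : Red.Ga S ⟶ G) [IsMonHom pp] [Mono pp] [IsMonHom pm] [Mono pm]
    (hpp : ∀ (X : Over S) (t : X ⟶ T) (x : X ⟶ Red.Ga S), ∃ x' : X ⟶ Red.Ga S,
      x' ≫ pp = (t ≫ i) * (x ≫ pp) * (t ≫ i)⁻¹ ∧ Red.gaFn x' = Red.gmFn (t ≫ α) * Red.gaFn x)
    (hpm : ∀ (X : Over S) (t : X ⟶ T) (y : X ⟶ Red.Ga S), ∃ y' : X ⟶ Red.Ga S,
      y' ≫ pm = (t ≫ i) * (y ≫ pm) * (t ≫ i)⁻¹ ∧ Red.gaFn y' * Red.gmFn (t ≫ α) = Red.gaFn y)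
    (hΩ : IsOpenImmersion (((pm ⊗ₘ i) ⊗ₘ pp) ≫ (μ[G] ▷ G) ≫ μ[G]).left)
    (av : Red.Gm S ⟶ T) [IsMonHom av] (h2 : av ≫ α = (𝟙 (Red.Gm S)) ^ 2)
    (hF : ∀ (X : Over S) (x y : X ⟶ Red.Ga S), IsUnit (1 + Red.gaFn x * Red.gaFn y) →
      ∃ (x' y' : X ⟶ Red.Ga S) (z : X ⟶ Red.Gm S), Red.gmFn z = 1 + Red.gaFn x * Red.gaFn y ∧
        Red.gaFn x' * Red.gmFn z = Red.gaFn x ∧ Red.gaFn y' * Red.gmFn z = Red.gaFn y ∧
        (x ≫ pp) * (y ≫ pm) = (y' ≫ pm) * (z ≫ av ≫ i) * (x' ≫ pp))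
    (G' T' : Over S) [GrpObj G'] [GrpObj T'] (i' : T' ⟶ G') [IsMonHom i'] [Mono i'] (hG' : Red.IsReductive G') (hTm' : Red.IsMaximalTorus i')
    (α' : T' ⟶ Red.Gm S) [IsMonHom α'] (hα' : ∀ s : S, (Over.pullback (Red.geomPt s)).map α' ≠ 1)
    (pp' pm' : Red.Ga S ⟶ G') [IsMonHom pp'] [Mono pp'] [IsMonHom pm'] [Mono pm']
    (hpp' : ∀ (X : Over S) (t : X ⟶ T') (x : X ⟶ Red.Ga S), ∃ x' : X ⟶ Red.Ga S,
      x' ≫ pp' = (t ≫ i') * (x ≫ pp') * (t ≫ i')⁻¹ ∧ Red.gaFn x' = Red.gmFn (t ≫ α') * Red.gaFn x)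
    (hpm' : ∀ (X : Over S) (t : X ⟶ T') (y : X ⟶ Red.Ga S), ∃ y' : X ⟶ Red.Ga S,
      y' ≫ pm' = (t ≫ i') * (y ≫ pm') * (t ≫ i')⁻¹ ∧ Red.gaFn y' * Red.gmFn (t ≫ α') = Red.gaFn y)
    (hΩ' : IsOpenImmersion (((pm' ⊗ₘ i') ⊗ₘ pp') ≫ (μ[G'] ▷ G') ≫ μ[G']).left)
    (av' : Red.Gm S ⟶ T') [IsMonHom av'] (h2' : av' ≫ α' = (𝟙 (Red.Gm S)) ^ 2)
    (hF' : ∀ (X : Over S) (x y : X ⟶ Red.Ga S), IsUnit (1 + Red.gaFn x * Red.gaFn y) →
      ∃ (x' y' : X ⟶ Red.Ga S) (z : X ⟶ Red.Gm S), Red.gmFn z = 1 + Red.gaFn x * Red.gaFn y ∧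
        Red.gaFn x' * Red.gmFn z = Red.gaFn x ∧ Red.gaFn y' * Red.gmFn z = Red.gaFn y ∧
        (x ≫ pp') * (y ≫ pm') = (y' ≫ pm') * (z ≫ av' ≫ i') * (x' ≫ pp'))
    (q : ℕ) (hq0 : 0 < q) (hq : ∀ (X : Over S) (a b : Γ(X.left, ⊤)), (a + b) ^ q = a ^ q + b ^ q) (c : 𝟙_ (Over S) ⟶ Red.Gm S) (f : G ⟶ G') [IsMonHom f]
    (hf : ∀ (X : Over S) (x y : X ⟶ Red.Ga S), Red.gaFn y = Red.gmFn (toUnit X ≫ c) * Red.gaFn x ^ q →
      (x ≫ pp) ≫ f = y ≫ pp') :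
    [∀ (X : Over S) (z : X ⟶ Red.Gm S), (z ≫ av ≫ i) ≫ f = ((z ≫ av') ^ q) ≫ i',
      ∀ (X : Over S) (x x' y y' : X ⟶ Red.Ga S), Red.gaFn x' * Red.gaFn x = -1 →
        Red.gaFn y = Red.gmFn (toUnit X ≫ c) * Red.gaFn x ^ q → Red.gaFn y' * Red.gaFn y = -1 →
        ((x ≫ pp) * (x' ≫ pm) * (x ≫ pp)) ≫ f = (y ≫ pp') * (y' ≫ pm') * (y ≫ pp'),
      ∀ (X : Over S) (x y : X ⟶ Red.Ga S), Red.gaFn y * Red.gmFn (toUnit X ≫ c) = Red.gaFn x ^ q →
        (x ≫ pm) ≫ f = y ≫ pm'].TFAE := by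
  have H : SL2Rel i α pp pm av := ⟨hpp, hpm, h2, hF⟩
  have H' : SL2Rel i' α' pp' pm' av' := ⟨hpp', hpm', h2', hF'⟩
  have hcX : ∀ {X' X : Over S} (π : X' ⟶ X), π.left.appTop (gmFn (toUnit X ≫ c)) = gmFn (toUnit X' ≫ c) := by
    intro X' X π
    rw [← gmFn_comp, ← Category.assoc, toUnit_unique (π ≫ toUnit X) (toUnit X')]
  have hm1 : ∀ X : Over S, ((-1 : Γ(X.left, ⊤)) ^ q) = -1 := by
    intro X
    have h := hq X 1 (-1)
    rw [add_neg_cancel, zero_pow hq0.ne', one_pow] at h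
    exact (neg_eq_of_add_eq_zero_right h.symm).symm
  tfae_have 3 → 2 := by
    intro h3 X x x' y y' hx hy hy'
    have e1 := hf X x y hy
    have hxq : gaFn x' ^ q * gaFn x ^ q = -1 := by rw [← mul_pow, hx, hm1]
    have e2 : (x' ≫ pm) ≫ f = y' ≫ pm' := h3 X x' y' (by
      refine (IsUnit.of_mul_eq_one (-gaFn x' ^ q) ?_ : IsUnit (gaFn x ^ q)).mul_left_cancel ?_
      · linear_combination (-(1 : Γ(X.left, ⊤))) * hxq
      · linear_combination hy' - gaFn y' * hy - hxq)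
    rw [MonObj.mul_comp, MonObj.mul_comp, e1, e2]
  tfae_have 2 → 3 := by
    intro h2' X x y hxy
    obtain ⟨o, ho⟩ := exists_gaFn (S := S) (X := X) 1
    obtain ⟨o', ho'⟩ := exists_gaFn (S := S) (X := X) (-1)
    obtain ⟨nx, hnx⟩ := exists_gaFn (S := S) (-gaFn x)
    obtain ⟨u, hu⟩ := exists_gaFn (S := S) (gmFn (toUnit X ≫ c))
    obtain ⟨u', hu'⟩ := exists_gaFn (S := S) (-gmFn (toUnit X ≫ c)⁻¹)
    have hw' : gaFn u' * gaFn u = -1 := by
      rw [hu, hu']; linear_combination -gmFn_inv_mul (toUnit X ≫ c)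
    have hw : gaFn o' * gaFn o = -1 := by rw [ho, ho']; ring
    have e := H.w_conj_pp (c := nx) (c' := x) hw (by rw [hnx, ho']; ring)
    obtain ⟨nu, hnu⟩ := exists_gaFn (S := S) (gmFn (toUnit X ≫ c) * (-gaFn x) ^ q)
    have e' := H'.w_conj_pp (c := nu) (c' := y) hw' (by
      apply (isUnit_gmFn (toUnit X ≫ c)).mul_right_cancel
      rw [hxy, hnu, hu', neg_pow, hm1]
      linear_combination -(gaFn x ^ q * (gmFn (toUnit X ≫ c) * gmFn (toUnit X ≫ c)⁻¹ + 1)) * gmFn_inv_mul (toUnit X ≫ c))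
    have e1 : SL2Rel.w pp pm o o' ≫ f = SL2Rel.w pp' pm' u u' :=
      h2' X o o' u u' hw (by rw [hu, ho, one_pow, _root_.mul_one]) hw'
    have e2 := hf X nx nu (by rw [hnu, hnx])
    rw [← e, MonObj.mul_comp, MonObj.mul_comp, GrpObj.inv_comp, e1, e2, e']
  tfae_have 2 → 1 := by
    intro h2' X z
    obtain ⟨o, ho⟩ := exists_gaFn (S := S) (X := X) 1
    obtain ⟨o', ho'⟩ := exists_gaFn (S := S) (X := X) (-1)
    obtain ⟨u, hu⟩ := exists_gaFn (S := S) (gmFn (toUnit X ≫ c))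
    obtain ⟨u', hu'⟩ := exists_gaFn (S := S) (-gmFn (toUnit X ≫ c)⁻¹)
    obtain ⟨x, hx⟩ := exists_gaFn (S := S) (gmFn z)
    obtain ⟨x', hx'⟩ := exists_gaFn (S := S) (-gmFn z⁻¹)
    obtain ⟨y, hy⟩ := exists_gaFn (S := S) (gmFn (toUnit X ≫ c) * gmFn z ^ q)
    obtain ⟨y', hy'⟩ := exists_gaFn (S := S) (-(gmFn (toUnit X ≫ c)⁻¹ * gmFn z⁻¹ ^ q))
    have hw' : gaFn u' * gaFn u = -1 := by
      rw [hu, hu']; linear_combination -gmFn_inv_mul (toUnit X ≫ c)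
    have hw : gaFn o' * gaFn o = -1 := by rw [ho, ho']; ring
    have hwx : gaFn x' * gaFn x = -1 := by
      rw [hx, hx']; linear_combination -gmFn_inv_mul z
    have hwy : gaFn y' * gaFn y = -1 := by
      rw [hy, hy', neg_mul, _root_.mul_mul_mul_comm, gmFn_inv_mul, ← mul_pow, gmFn_inv_mul, one_pow, _root_.mul_one]
    have s := (H.w_smul hw hwx z (by rw [hx, ho, _root_.mul_one])).1
    have s' := (H'.w_smul hw' hwy (z ^ q) (by rw [hy, hu, gmFn_pow, _root_.mul_comm])).1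
    have e1 : SL2Rel.w pp pm o o' ≫ f = SL2Rel.w pp' pm' u u' :=
      h2' X o o' u u' hw (by rw [hu, ho, one_pow, _root_.mul_one]) hw'
    have e2 : SL2Rel.w pp pm x x' ≫ f = SL2Rel.w pp' pm' y y' :=
      h2' X x x' y y' hwx (by rw [hy, hx]) hwy
    rw [s, MonObj.mul_comp, e1, s'] at e2
    rw [mul_right_cancel e2, ← MonObj.pow_comp z q av', Category.assoc]
  tfae_have 1 → 3 := by
    intro h1
    have hT' : Red.IsTorus T' := hTm'.2.2.1
    haveI := torus_isSeparated hT'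
    have hcomm : ∀ (X : Over S) (t t' : X ⟶ T'), t * t' = t' * t := fun X t t' => torus_mul_comm hT' t t'
    have hinv : ∀ {X : Over S} (t : X ⟶ T'), gmFn (t ≫ α'⁻¹) * gmFn (t ≫ α') = 1 := fun t => by
      rw [GrpObj.comp_inv, gmFn_inv_mul]
    obtain ⟨ν, hν⟩ := exists_coeff (α := α'⁻¹) (isOpenImmersion_cellHom_swap hΩ')
      (fun X t x => by
        obtain ⟨x', h, h'⟩ := hpm' X t x
        exact ⟨x', h, by linear_combination gmFn (t ≫ α'⁻¹) * h' - gaFn x' * hinv t⟩)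
      (fun X t x => by
        obtain ⟨x', h, h'⟩ := hpp' X t x
        exact ⟨x', h, by rw [h']; linear_combination gaFn x * hinv t⟩) hcomm q (pm ≫ f) (fun X x x' r hr hx => by
        obtain ⟨s, hs⟩ := hr.exists_left_inv
        obtain ⟨X', π, z, hsu, hep, hz⟩ := exists_sqrt (S := S) (r := s) (IsUnit.of_mul_eq_one r hs)
        refine ⟨X', π, (z ≫ av') ^ q, hsu, hep, ?_, ?_⟩
        · refine ((isUnit_gmFn z).pow 2 |>.pow q).mul_left_cancel ?_
          have e : gmFn (((z ≫ av') ^ q) ≫ α') = gmFn z ^ (2 * q) := by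
            refine (congrArg gmFn (MonObj.pow_comp (z ≫ av') q α')).trans ?_
            rw [gmFn_pow, H'.gmFn_av_α, pow_mul]
          have e' := hinv ((z ≫ av') ^ q)
          rw [e, pow_mul] at e'
          rw [_root_.mul_comm, e', ← mul_pow, hz, ← map_mul, hs, map_one, one_pow]
        · rw [← h1 X' z, ← GrpObj.inv_comp, ← Category.assoc, ← Category.assoc, ← Category.assoc π x,
            ← Category.assoc (π ≫ x), ← MonObj.mul_comp, ← MonObj.mul_comp]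
          rw [H.conj_h_pm z (x' := π ≫ x') (by
            rw [gaFn_comp π x', hx, map_mul, hz, gaFn_comp π x]
            have hrs : π.left.appTop r * π.left.appTop s = 1 := by
              rw [_root_.mul_comm, ← map_mul, hs, map_one]
            linear_combination (π.left.appTop (gaFn x)) * hrs)])
    -- the coefficient
    obtain ⟨o, ho⟩ := exists_gaFn (S := S) (X := 𝟙_ (Over S)) 1
    have hcν : gaFn ν * gmFn c = 1 := by
      refine eq_one_of_trunc _ q hq0 fun X' π y hy1 hy2 => ?_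
      have hπc : π ≫ c = toUnit X' ≫ c := by rw [toUnit_unique π (toUnit X')]
      have hπν : π ≫ ν = toUnit X' ≫ ν := by rw [toUnit_unique π (toUnit X')]
      rw [map_mul, ← gaFn_comp, ← gmFn_comp, hπc, hπν] at hy2 ⊢
      obtain ⟨a, ha⟩ := exists_gaFn (S := S) (X := X') 1
      obtain ⟨b, hb⟩ := exists_gaFn (S := S) y
      obtain ⟨a', b', z, hz, hza, hzb, he⟩ := hF X' a b (by rw [ha, hb, _root_.one_mul]; exact hy1)
      obtain ⟨A, hA⟩ := exists_gaFn (S := S) (gmFn (toUnit X' ≫ c) * gaFn a ^ q)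
      obtain ⟨A', hA'⟩ := exists_gaFn (S := S) (gmFn (toUnit X' ≫ c) * gaFn a' ^ q)
      obtain ⟨B, hB⟩ := exists_gaFn (S := S) (gaFn (toUnit X' ≫ ν) * gaFn b ^ q)
      obtain ⟨B', hB'⟩ := exists_gaFn (S := S) (gaFn (toUnit X' ≫ ν) * gaFn b' ^ q)
      obtain ⟨A₂, B₂, z₂, hz₂, hza₂, -, he₂⟩ := hF' X' A B (by
        convert hy2 using 1
        rw [hA, hB, ha, hb, one_pow]; ring)
      have he' := congrArg (· ≫ f) he
      simp only [MonObj.mul_comp, hf X' a A hA, hf X' a' A' hA', h1 X' z] at he'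
      rw [Category.assoc b, hν X' b B hB, Category.assoc b', hν X' b' B' hB', he₂, ← Category.assoc z₂] at he'
      obtain ⟨-, ht, hA2⟩ := cell_unique hΩ' he'
      rw [hA2, hA', hA, ha, one_pow, _root_.mul_one] at hza₂
      have h3 : gaFn a' ^ q * gmFn z ^ q = 1 := by rw [← mul_pow, hza, ha, one_pow]
      have h4 : gmFn z₂ = gmFn z ^ q := by
        refine ((isUnit_gmFn (toUnit X' ≫ c)).mul (IsUnit.of_mul_eq_one _ h3)).mul_left_cancel ?_
        rw [hza₂, _root_.mul_assoc, h3, _root_.mul_one]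
      rw [hz₂, hA, hB, hz, hq, ha, hb, one_pow, _root_.one_mul, _root_.mul_one, add_right_inj] at h4
      linear_combination h4
    intro X x y hy
    rw [Category.assoc]
    refine hν X x y ?_
    have hcν' : gaFn (toUnit X ≫ ν) * gmFn (toUnit X ≫ c) = 1 := by
      rw [gaFn_comp, gmFn_comp, ← map_mul, hcν, map_one]
    rw [← hy]
    linear_combination -gaFn y * hcν'
  tfae_finish

end Groth.Agent.S8478
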