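import Groth.Statements.S8457
import Groth.Agent.SGA3cLib.RankOnePresentation
import Groth.Agent.SGA3cLib.TorusBasic

set_option autoImplicit false
universe u
open CategoryTheory MonoidalCategory CartesianMonoidalCategory MonObj GrpObj AlgebraicGeometry CategoryTheory.Limits
open Red

namespace Groth.Agent.S8457

open Groth.Agent.SGA3cLib

/-- Generators and relations for a group of semisimple rank 1: for H an S-group scheme. Let G be a
reductive S-group, i : T ⟶ G a maximal torus, α a character of T non-trivial on every geometric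
fibre, p₊, p₋ : 𝔾_a ⟶ G monomorphisms of groups normalised by T with multipliers α and α⁻¹ whose
cell map (y, t, x) ↦ p₋(y) i(t) p₊(x) is an open immersion 𝔾_a ×_S T ×_S 𝔾_a ⟶ G, and α^* : 𝔾_m ⟶ T
the coroot: α ∘ α^* is the squaring map and p₊(x) p₋(y) = p₋(y/(1+xy)) · i(α^*(1+xy)) · p₊(x/(1+xy))
whenever 1 + xy is invertible (so p₊ and p₋ are dual to each other). Let e₁, em be the S-points of
𝔾_a with coordinates 1, -1 and m the S-point of 𝔾_m with coordinate -1; put u = p₊(e₁) and w =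
p₊(e₁) p₋(em) p₊(e₁). Let H be an S-group scheme, f_T : T ⟶ H and f_α : 𝔾_a ⟶ H homomorphisms and h
an S-point of H. Then there is exactly one homomorphism f : G ⟶ H with f ∘ i = f_T, f ∘ p₊ = f_α and
f(w) = h if and only if: (1) f_T(t) f_α(x) f_T(t)⁻¹ = f_α(α(t) x) for all points t of T and x of
𝔾_a; (2) h f_T(t) h⁻¹ = f_T(t · α^*(α(t))⁻¹) for all points t of T; (3) h² = f_T(α^*(m)); (4) (h ·
f_α(e₁))³ = e. (The published statement allows H to be any fppf sheaf of groups.) -/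
theorem result (S : Scheme.{u}) (G T : Over S) [GrpObj G] [GrpObj T] (i : T ⟶ G) [IsMonHom i] [Mono i] (hG : Red.IsReductive G) (hTm : Red.IsMaximalTorus i)
    (α : T ⟶ Red.Gm S) [IsMonHom α] (hα : ∀ s : S, (Over.pullback (Red.geomPt s)).map α ≠ 1)
    (pp pm : Red.Ga S ⟶ G) [IsMonHom pp] [Mono pp] [IsMonHom pm] [Mono pm]
    (hpp : ∀ (X : Over S) (t : X ⟶ T) (x : X ⟶ Red.Ga S), ∃ x' : X ⟶ Red.Ga S,
      x' ≫ pp = (t ≫ i) * (x ≫ pp) * (t ≫ i)⁻¹ ∧ Red.gaFn x' = Red.gmFn (t ≫ α) * Red.gaFn x)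
    (hpm : ∀ (X : Over S) (t : X ⟶ T) (y : X ⟶ Red.Ga S), ∃ y' : X ⟶ Red.Ga S,
      y' ≫ pm = (t ≫ i) * (y ≫ pm) * (t ≫ i)⁻¹ ∧ Red.gaFn y' * Red.gmFn (t ≫ α) = Red.gaFn y)
    (hΩ : IsOpenImmersion (((pm ⊗ₘ i) ⊗ₘ pp) ≫ (μ[G] ▷ G) ≫ μ[G]).left)
    (av : Red.Gm S ⟶ T) [IsMonHom av] (h2 : av ≫ α = (𝟙 (Red.Gm S)) ^ 2)
    (hF : ∀ (X : Over S) (x y : X ⟶ Red.Ga S), IsUnit (1 + Red.gaFn x * Red.gaFn y) →
      ∃ (x' y' : X ⟶ Red.Ga S) (z : X ⟶ Red.Gm S), Red.gmFn z = 1 + Red.gaFn x * Red.gaFn y ∧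
        Red.gaFn x' * Red.gmFn z = Red.gaFn x ∧ Red.gaFn y' * Red.gmFn z = Red.gaFn y ∧
        (x ≫ pp) * (y ≫ pm) = (y' ≫ pm) * (z ≫ av ≫ i) * (x' ≫ pp))
    (e₁ em : 𝟙_ (Over S) ⟶ Red.Ga S) (he₁ : Red.gaFn e₁ = 1) (hem : Red.gaFn em = -1)
    (m : 𝟙_ (Over S) ⟶ Red.Gm S) (hm : Red.gmFn m = -1)
    (H : Over S) [GrpObj H] (fT : T ⟶ H) [IsMonHom fT] (fα : Red.Ga S ⟶ H) [IsMonHom fα] (h : 𝟙_ (Over S) ⟶ H) :
    (∃! f : G ⟶ H, IsMonHom f ∧ i ≫ f = fT ∧ pp ≫ f = fα ∧ ((e₁ ≫ pp) * (em ≫ pm) * (e₁ ≫ pp)) ≫ f = h) ↔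
      ((∀ (X : Over S) (t : X ⟶ T) (x x' : X ⟶ Red.Ga S), Red.gaFn x' = Red.gmFn (t ≫ α) * Red.gaFn x →
          (t ≫ fT) * (x ≫ fα) * (t ≫ fT)⁻¹ = x' ≫ fα) ∧
        (∀ (X : Over S) (t : X ⟶ T), (toUnit X ≫ h) * (t ≫ fT) * (toUnit X ≫ h)⁻¹ = (t * (t ≫ α ≫ av)⁻¹) ≫ fT) ∧
        h ^ 2 = m ≫ av ≫ fT ∧ (h * (e₁ ≫ fα)) ^ 3 = 1) := by
  obtain ⟨-, -, htor, -⟩ := hTm
  have Hr : SGA3cLib.SL2Rel i α pp pm av := ⟨hpp, hpm, h2, hF⟩
  have hcomm : ∀ (X : Over S) (t t' : X ⟶ T), t * t' = t' * t := fun X t t' =>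
    SGA3cLib.torus_mul_comm htor t t'
  have hee : gaFn em * gaFn e₁ = -1 := by rw [hem, he₁, _root_.mul_one]
  constructor
  · rintro ⟨f, ⟨hf, hfT, hfp, hfw⟩, -⟩
    haveI := hf
    subst hfT hfp hfw
    refine ⟨fun X t x x' hx => ?_, fun X t => ?_, ?_, ?_⟩
    · have := congrArg (· ≫ f) (Hr.conj_pp t hx)
      simp only [MonObj.mul_comp, GrpObj.inv_comp, Category.assoc] at this
      exact this
    · have hw := Hr.w_conj_T (x := toUnit X ≫ e₁) (x' := toUnit X ≫ em)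
        (by rw [gaFn_comp, gaFn_comp, ← map_mul, hee, map_neg, map_one]) t
      rw [show (t ≫ α ≫ av ≫ i)⁻¹ * (t ≫ i) = (t * (t ≫ α ≫ av)⁻¹) ≫ i by
        rw [hcomm X t _, MonObj.mul_comp _ t i, GrpObj.inv_comp]; simp only [Category.assoc]] at hw
      have h' := congrArg (· ≫ f) hw
      simp only [SGA3cLib.SL2Rel.w, MonObj.mul_comp, MonObj.comp_mul, GrpObj.inv_comp, Category.assoc] at h' ⊢
      exact h'
    · have h' := congrArg (· ≫ f) (Hr.w_sq hee m hm)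
      simp only [MonObj.pow_comp, Category.assoc] at h'
      exact h'
    · have h' := congrArg (· ≫ f) (Hr.w_mul_pow_three hee)
      simp only [MonObj.pow_comp, MonObj.mul_comp, MonObj.one_comp, Category.assoc] at h'
      simpa only [MonObj.mul_comp, Category.assoc] using h'
  · rintro ⟨c1, c2, c3, c4⟩
    have hW : SGA3cLib.WeylRelations α av fT fα e₁ m h := ⟨c1, c2, c3, c4⟩
    obtain ⟨f, ⟨hf, hcell⟩, huniq⟩ := SGA3cLib.existsUnique_hom_of_relations Hr hG hΩ fT fα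
      (SGA3cLib.WeylRelations.negRoot fα h) (hW.rankOneRelations he₁ hm h2 hcomm)
    haveI := hf
    have hi : i ≫ f = fT := by
      have := hcell T 1 (𝟙 T) 1
      simpa only [MonObj.one_comp, _root_.one_mul, _root_.mul_one, Category.id_comp] using this
    have hp : pp ≫ f = fα := by
      have := hcell (Ga S) 1 1 (𝟙 _)
      simpa only [MonObj.one_comp, _root_.one_mul, _root_.mul_one, Category.id_comp] using this
    have hm' : pm ≫ f = SGA3cLib.WeylRelations.negRoot fα h := by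
      have := hcell (Ga S) (𝟙 _) 1 1
      simpa only [MonObj.one_comp, _root_.one_mul, _root_.mul_one, Category.id_comp] using this
    refine ⟨f, ⟨hf, hi, hp, ?_⟩, ?_⟩
    · simp only [MonObj.mul_comp, Category.assoc, hp, hm']
      rw [hW.w_formula he₁ hm h2 hcomm e₁ em hee 1 (by rw [gmFn_one, he₁]), MonObj.one_comp, MonObj.one_comp,
        _root_.one_mul, toUnit_unique (toUnit _) (𝟙 _), Category.id_comp]
    · rintro f' ⟨hf', hfT', hfp', hfw'⟩
      haveI := hf'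
      refine huniq f' ⟨hf', fun X a t b => ?_⟩
      obtain ⟨o, ho⟩ := exists_gaFn (S := S) (-gaFn a)
      have hw := Hr.w_conj_pp (x := toUnit X ≫ e₁) (x' := toUnit X ≫ em) (c := o) (c' := a)
        (by rw [gaFn_comp, gaFn_comp, ← map_mul, hee, map_neg, map_one])
        (by rw [ho, gaFn_comp, hem, map_neg, map_one]; ring)
      have ho' : o = a⁻¹ := gaFn_injective (by rw [ho, gaFn_inv])
      have hpm' : (a ≫ pm) ≫ f' = a ≫ SGA3cLib.WeylRelations.negRoot fα h := by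
        rw [← hw, SGA3cLib.WeylRelations.comp_negRoot, ← ho', ← hfw', ← hfp']
        simp only [SGA3cLib.SL2Rel.w, MonObj.mul_comp, MonObj.comp_mul, GrpObj.inv_comp, Category.assoc]
      rw [MonObj.mul_comp _ (b ≫ pp) f', MonObj.mul_comp _ (t ≫ i) f', hpm', Category.assoc, hfT', Category.assoc, hfp']

end Groth.Agent.S8457
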