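import Groth.Statements.S8471
import Mathlib.FieldTheory.RatFunc.Basic
import Mathlib.RingTheory.MvPolynomial.Basic
import Mathlib.FieldTheory.IsAlgClosed.AlgebraicClosure
import Mathlib.RingTheory.Polynomial.UniqueFactorization

set_option autoImplicit false
open Red

namespace Groth.Agent.S8471

open Polynomial

theorem eval₂_div_mul {k K : Type*} [Field k] [Field K] (f : k →+* K) (P : k[X]) (w d : K) (hd : d ≠ 0) {m : ℕ}
    (hm : P.natDegree ≤ m) :
    P.eval₂ f (w / d) * d ^ m = ∑ i ∈ Finset.range (m + 1), f (P.coeff i) * w ^ i * d ^ (m - i) := by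
  rw [Polynomial.eval₂_eq_sum_range' f (Nat.lt_succ_of_le hm), Finset.sum_mul]
  refine Finset.sum_congr rfl fun i hi => ?_
  have : i ≤ m := Nat.lt_succ_iff.mp (Finset.mem_range.mp hi)
  rw [div_pow, ← pow_sub_mul_pow d this]
  field_simp

theorem map_aeval_eq {k R S : Type*} [CommRing k] [CommRing R] [CommRing S] [Algebra k R] (θ : R →+* S) (P : k[X]) (r : R) :
    θ (aeval r P) = P.eval₂ (θ.comp (algebraMap k R)) (θ r) := Polynomial.hom_eval₂ P _ θ r

/-- Let k be a field and F ∈ k(X) a rational function whose denominator does not vanish at 0 and with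
F(0) = 1. Suppose that in the field of fractions L of k[X₀, X₁] one has F(X₀ + X₁ · F(X₀)) = F(X₀) ·
F(X₁) (the functional equation F(x + y F(x)) = F(x) F(y)). Then there is a ∈ k with F = 1 + a X.
(The published statement takes the identity on an open neighbourhood of the origin of 𝔾_a × 𝔾_a on
which all terms are defined; this row takes it as an identity of rational functions in two
variables.) -/
theorem result (k : Type) [Field k] (F : RatFunc k)
    (h0 : F.denom.eval 0 ≠ 0) (h1 : F.num.eval 0 = F.denom.eval 0)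
    (hFE : RatFunc.eval (algebraMap k (FractionRing (MvPolynomial (Fin 2) k)))
        (algebraMap (MvPolynomial (Fin 2) k) (FractionRing (MvPolynomial (Fin 2) k)) (MvPolynomial.X 0) +
          algebraMap (MvPolynomial (Fin 2) k) (FractionRing (MvPolynomial (Fin 2) k)) (MvPolynomial.X 1) *
            RatFunc.eval (algebraMap k (FractionRing (MvPolynomial (Fin 2) k)))
              (algebraMap (MvPolynomial (Fin 2) k) (FractionRing (MvPolynomial (Fin 2) k)) (MvPolynomial.X 0)) F) F =
      RatFunc.eval (algebraMap k (FractionRing (MvPolynomial (Fin 2) k)))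
          (algebraMap (MvPolynomial (Fin 2) k) (FractionRing (MvPolynomial (Fin 2) k)) (MvPolynomial.X 0)) F *
        RatFunc.eval (algebraMap k (FractionRing (MvPolynomial (Fin 2) k)))
          (algebraMap (MvPolynomial (Fin 2) k) (FractionRing (MvPolynomial (Fin 2) k)) (MvPolynomial.X 1)) F) :
    ∃ a : k, F = 1 + RatFunc.C a * RatFunc.X := by
  classical
  let N := F.num
  let D := F.denom
  let A := MvPolynomial (Fin 2) k
  let L := FractionRing A
  have hN0 : N ≠ 0 := fun h => h0 (by rw [← h1]; show N.eval 0 = 0; rw [h, eval_zero])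
  have hD0 : D ≠ 0 := F.denom_ne_zero
  let ι' : A →+* L := algebraMap A L
  have hι : Function.Injective ι' := IsFractionRing.injective A L
  have hinj : ∀ i : Fin 2, Function.Injective (aeval (MvPolynomial.X i : A) : k[X] → A) := fun i => by
    intro p q h
    have h' := congrArg (MvPolynomial.aeval (fun _ : Fin 2 => (Polynomial.X : k[X]))) h
    rwa [← Polynomial.aeval_algHom_apply, ← Polynomial.aeval_algHom_apply, MvPolynomial.aeval_X, aeval_X_left_apply,
      aeval_X_left_apply] at h'
  let Dx : A := aeval (MvPolynomial.X 0 : A) D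
  let Nx : A := aeval (MvPolynomial.X 0 : A) N
  let Dy : A := aeval (MvPolynomial.X 1 : A) D
  let Ny : A := aeval (MvPolynomial.X 1 : A) N
  have hne : ∀ (i : Fin 2) (P : k[X]), P ≠ 0 → aeval (MvPolynomial.X i : A) P ≠ 0 := fun i P hP h =>
    hP (hinj i (h.trans (map_zero _).symm))
  let m := max N.natDegree D.natDegree
  let T : k[X] → A := fun P => ∑ i ∈ Finset.range (m + 1), MvPolynomial.C (P.coeff i) *
    (MvPolynomial.X 0 * Dx + MvPolynomial.X 1 * Nx) ^ i * Dx ^ (m - i)
  have hT : ∀ {K : Type} [Field K] (θ : A →+* K) (P : k[X]), θ Dx ≠ 0 → P.natDegree ≤ m →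
      θ (T P) = P.eval₂ (θ.comp (algebraMap k A)) (θ (MvPolynomial.X 0) + θ (MvPolynomial.X 1) * (θ Nx / θ Dx)) *
        θ Dx ^ m := by
    intro K _ θ P hd hP
    have e : θ (MvPolynomial.X 0) + θ (MvPolynomial.X 1) * (θ Nx / θ Dx) =
        θ (MvPolynomial.X 0 * Dx + MvPolynomial.X 1 * Nx) / θ Dx := by
      rw [map_add, map_mul, map_mul]; field_simp
    rw [e, eval₂_div_mul _ P _ _ hd hP, map_sum]
    refine Finset.sum_congr rfl fun i _ => ?_
    rw [map_mul, map_mul, map_pow, map_pow]
    rfl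
  have key : T N * Dx * Dy = T D * Nx * Ny := by
    apply hι
    have hd : ι' Dx ≠ 0 := (map_ne_zero_iff _ hι).mpr (hne 0 D hD0)
    simp only [map_mul, hT ι' N hd (le_max_left _ _), hT ι' D hd (le_max_right _ _)]
    have hcomp : ι'.comp (algebraMap k A) = algebraMap k L := (IsScalarTower.algebraMap_eq k A L).symm
    have ev : ∀ i : Fin 2, RatFunc.eval (algebraMap k L) (ι' (MvPolynomial.X i)) F =
        ι' (aeval (MvPolynomial.X i : A) N) / ι' (aeval (MvPolynomial.X i : A) D) := fun i => by
      rw [map_aeval_eq, map_aeval_eq, hcomp]; rfl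
    have hFE' : RatFunc.eval (algebraMap k L) (ι' (MvPolynomial.X 0) + ι' (MvPolynomial.X 1) * (ι' Nx / ι' Dx)) F =
        ι' Nx / ι' Dx * (ι' Ny / ι' Dy) := by
      have h := hFE
      rw [ev 0, ev 1] at h
      exact h
    rw [hcomp]
    change _ / _ = _ at hFE'
    have hr : ι' Nx / ι' Dx * (ι' Ny / ι' Dy) ≠ 0 :=
      mul_ne_zero (div_ne_zero ((map_ne_zero_iff _ hι).mpr (hne 0 N hN0)) hd)
        (div_ne_zero ((map_ne_zero_iff _ hι).mpr (hne 1 N hN0)) ((map_ne_zero_iff _ hι).mpr (hne 1 D hD0)))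
    have hdz : D.eval₂ (algebraMap k L) (ι' (MvPolynomial.X 0) + ι' (MvPolynomial.X 1) * (ι' Nx / ι' Dx)) ≠ 0 := fun h => by
      rw [h, div_zero] at hFE'
      exact hr hFE'.symm
    rw [div_mul_div_comm, div_eq_div_iff hdz (mul_ne_zero hd ((map_ne_zero_iff _ hι).mpr (hne 1 D hD0)))] at hFE'
    linear_combination (ι' Dx ^ m) * hFE'
  let kb := AlgebraicClosure k
  let Ω := RatFunc kb
  let ψ : kb[X] →+* Ω := algebraMap kb[X] Ω
  have hψ : Function.Injective ψ := IsFractionRing.injective kb[X] Ω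
  let Nb := N.map (algebraMap k kb)
  let Db := D.map (algebraMap k kb)
  have main : ∀ P : k[X], (P = N ∨ P = D) → P.natDegree ≠ 0 →
      ∃ α β : kb, α ≠ 0 ∧ C α * Nb = (C β - X) * Db := by
    intro P hP hdeg
    obtain ⟨α, hα⟩ : ∃ α : kb, (P.map (algebraMap k kb)).eval α = 0 :=
      IsAlgClosed.exists_root _ (by rw [degree_map]; exact fun h => hdeg (natDegree_eq_zero_iff_degree_le_zero.mpr h.le))
    have hα0 : α ≠ 0 := by
      rintro rfl
      rw [eval_map, eval₂_at_zero] at hα
      have h := (map_eq_zero (algebraMap k kb)).mp hα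
      rw [coeff_zero_eq_eval_zero] at h
      rcases hP with rfl | rfl
      · exact h0 (h1 ▸ h)
      · exact h0 h
    let θ : A →+* Ω := ψ.comp (MvPolynomial.aeval ![(X : kb[X]), C α]).toRingHom
    have hX0 : θ (MvPolynomial.X 0) = ψ X :=
      congrArg ψ ((MvPolynomial.aeval_X _ 0).trans rfl)
    have hX1 : θ (MvPolynomial.X 1) = ψ (C α) :=
      congrArg ψ ((MvPolynomial.aeval_X _ 1).trans rfl)
    have hθk : θ.comp (algebraMap k A) = (ψ.comp C).comp (algebraMap k kb) := by
      ext c
      show ψ (MvPolynomial.aeval ![(X : kb[X]), C α] (algebraMap k A c)) = ψ (C (algebraMap k kb c))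
      rw [AlgHom.commutes]
      rfl
    have hx : ∀ Q : k[X], θ (aeval (MvPolynomial.X 0 : A) Q) = ψ (Q.map (algebraMap k kb)) := fun Q => by
      rw [map_aeval_eq, hθk, hX0, ← eval₂_map, ← hom_eval₂, eval₂_C_X]
    have hy : ∀ Q : k[X], θ (aeval (MvPolynomial.X 1 : A) Q) = ψ (C ((Q.map (algebraMap k kb)).eval α)) := fun Q => by
      rw [map_aeval_eq, hθk, hX1, ← eval₂_map, ← hom_eval₂, eval₂_at_apply]
    have hDb : ψ Db ≠ 0 := (map_ne_zero_iff _ hψ).mpr (Polynomial.map_ne_zero hD0)
    have hd : θ Dx ≠ 0 := by rw [hx]; exact hDb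
    let σ : Ω := ψ X + ψ (C α) * (ψ Nb / ψ Db)
    have hk := congrArg θ key
    simp only [map_mul, hT θ N hd (le_max_left _ _), hT θ D hd (le_max_right _ _)] at hk
    rw [hθk, hX0, hX1, show θ Nx = ψ Nb from hx N, show θ Dx = ψ Db from hx D, show θ Ny = _ from hy N,
      show θ Dy = _ from hy D] at hk
    have hroot : P.eval₂ ((ψ.comp C).comp (algebraMap k kb)) σ = 0 := by
      obtain ⟨a, b, hab⟩ := F.isCoprime_num_denom
      have hab' := congrArg (fun Q : k[X] => (Q.map (algebraMap k kb)).eval α) hab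
      simp only [Polynomial.map_add, Polynomial.map_mul, Polynomial.map_one, eval_add, eval_mul, eval_one] at hab'
      have hNb : ψ Nb ≠ 0 := (map_ne_zero_iff _ hψ).mpr (Polynomial.map_ne_zero hN0)
      have hψC : ∀ c : kb, c ≠ 0 → ψ (C c) ≠ 0 := fun c hc => (map_ne_zero_iff _ hψ).mpr (C_ne_zero.mpr hc)
      rcases hP with rfl | rfl
      · rw [hα, map_zero, map_zero, mul_zero] at hk
        have hDα : Db.eval α ≠ 0 := fun h => by
          rw [show (F.denom.map (algebraMap k kb)).eval α = 0 from h, show (F.num.map (algebraMap k kb)).eval α = 0 from hα] at hab'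
          simp at hab'
        simp only [mul_eq_zero, pow_eq_zero_iff', hDb, hψC _ hDα, false_and, or_false] at hk
        exact hk.resolve_right (hψC _ hDα)
      · rw [hα, map_zero, map_zero, mul_zero] at hk
        have hNα : Nb.eval α ≠ 0 := fun h => by
          rw [show (F.num.map (algebraMap k kb)).eval α = 0 from h, show (F.denom.map (algebraMap k kb)).eval α = 0 from hα] at hab'
          simp at hab'
        have hk := hk.symm
        simp only [mul_eq_zero, pow_eq_zero_iff', hDb, hNb, hψC _ hNα, false_and, or_false] at hk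
        exact hk.resolve_right (hψC _ hNα)
    rw [← eval₂_map, (IsAlgClosed.splits (P.map (algebraMap k kb))).eq_prod_roots, eval₂_mul, eval₂_C, mul_eq_zero] at hroot
    rcases hroot with h | h
    · exact absurd h ((map_ne_zero_iff _ hψ).mpr (C_ne_zero.mpr (leadingCoeff_ne_zero.mpr
        (Polynomial.map_ne_zero (fun hP0 => hdeg (by rw [hP0, natDegree_zero]))))))
    · rw [eval₂_multiset_prod, Multiset.prod_eq_zero_iff, Multiset.map_map, Multiset.mem_map] at h
      obtain ⟨β, -, hβ⟩ := h
      simp only [Function.comp_apply, eval₂_sub, eval₂_X, eval₂_C, RingHom.comp_apply, sub_eq_zero] at hβ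
      refine ⟨α, β, hα0, hψ ?_⟩
      simp only [map_mul, map_sub]
      show ψ (C α) * ψ Nb = (ψ (C β) - ψ X) * ψ Db
      rw [← hβ]
      show _ = (ψ X + ψ (C α) * (ψ Nb / ψ Db) - ψ X) * ψ Db
      rw [add_sub_cancel_left, mul_assoc, div_mul_cancel₀ _ ((map_ne_zero_iff _ hψ).mpr (Polynomial.map_ne_zero hD0) : ψ Db ≠ 0)]
  have hfin : ∀ α β : kb, α ≠ 0 → C α * Nb = (C β - X) * Db → D = 1 ∧ N.natDegree ≤ 1 := by
    intro α β hα he
    have hco : IsCoprime Db Nb := (F.isCoprime_num_denom.map (Polynomial.mapRingHom (algebraMap k kb))).symm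
    have hu : IsUnit Db := by
      refine hco.isUnit_of_dvd' dvd_rfl ((IsUnit.dvd_mul_left (isUnit_C.mpr (isUnit_iff_ne_zero.mpr hα))).mp ?_)
      exact ⟨C β - X, by rw [he]; ring⟩
    have hD1 : D = 1 := by
      refine (Polynomial.Monic.natDegree_eq_zero F.monic_denom).mp ?_
      rw [← natDegree_map (algebraMap k kb)]
      exact natDegree_eq_zero_of_isUnit hu
    refine ⟨hD1, ?_⟩
    rw [← natDegree_map (algebraMap k kb), ← natDegree_C_mul hα]
    show (C α * Nb).natDegree ≤ 1
    rw [he, show Db = 1 by simp [Db, hD1], _root_.mul_one]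
    exact (natDegree_sub_le _ _).trans (by simp)
  have hDN : D = 1 ∧ N.natDegree ≤ 1 := by
    by_cases hD : D.natDegree = 0
    · refine ⟨(Polynomial.Monic.natDegree_eq_zero F.monic_denom).mp hD, ?_⟩
      by_cases hN : N.natDegree = 0
      · omega
      obtain ⟨α, β, hα, he⟩ := main N (Or.inl rfl) hN
      exact (hfin α β hα he).2
    · obtain ⟨α, β, hα, he⟩ := main D (Or.inr rfl) hD
      exact absurd (by rw [(hfin α β hα he).1, natDegree_one]) hD
  refine ⟨N.coeff 1, ?_⟩
  have hc0 : N.coeff 0 = 1 := by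
    rw [coeff_zero_eq_eval_zero]
    show F.num.eval 0 = 1
    rw [h1, show F.denom = 1 from hDN.1, eval_one]
  conv_lhs => rw [← RatFunc.num_div_denom F]
  rw [show F.denom = 1 from hDN.1, map_one, div_one]
  show algebraMap k[X] (RatFunc k) N = _
  conv_lhs => rw [eq_X_add_C_of_natDegree_le_one hDN.2, hc0]
  simp [add_comm, RatFunc.algebraMap_C, RatFunc.algebraMap_X]

end Groth.Agent.S8471
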