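import Groth.Statements.S8473
import Groth.Agent.TorusConnLib.Connected
import Groth.Agent.SGA3cLib.DiagPoints
import Groth.Agent.FlatMorWeight.Comp
import Groth.Agent.FEtLib.EqLocus
import Mathlib.AlgebraicGeometry.AlgClosed.Basic
-- import your own Groth.Agent.* helpers here

set_option autoImplicit false
set_option linter.style.haveILetI false
universe u
open CategoryTheory MonoidalCategory CartesianMonoidalCategory MonObj GrpObj AlgebraicGeometry CategoryTheory.Limits
open Red

namespace Groth.Agent.S8473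

open Groth.Agent.SGA3cLib

set_option backward.isDefEq.respectTransparency.types false

theorem discrete {K : Type u} [Field K] {X : Scheme.{u}} (f : X ⟶ Spec (CommRingCat.of K)) [Etale f] :
    DiscreteTopology X := by
  haveI := FlatMorWeight.locallyQuasiFinite_of_etale f
  refine discreteTopology_iff_isOpen_singleton.2 fun w => ?_
  have h := f.isDiscrete_preimage_singleton (f w)
  have e : f ⁻¹' {f w} = Set.univ :=
    Set.eq_univ_of_forall fun v => Subsingleton.elim (α := PrimeSpectrum K) _ _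
  rw [e] at h
  haveI := isDiscrete_univ_iff.1 h
  exact isOpen_discrete _

variable {K : Type u} [Field K] [IsAlgClosed K]

/-- A point of a discrete étale scheme: morphisms from connected schemes meeting it are constant. -/
theorem eq_const {N X : Over (Spec (CommRingCat.of K))} [Etale N.hom] [ConnectedSpace X.left]
    (n0 : 𝟙_ (Over (Spec (CommRingCat.of K))) ⟶ N) (m : X ⟶ N)
    (e : 𝟙_ (Over (Spec (CommRingCat.of K))) ⟶ X) (he : e ≫ m = n0) : m = toUnit X ≫ n0 := by
  haveI := discrete N.hom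
  have hw : n0.left ≫ N.hom = 𝟙 _ := Over.w n0
  haveI : Etale (n0.left ≫ N.hom) := by rw [hw]; infer_instance
  haveI : Etale n0.left := Etale.of_comp _ N.hom
  haveI : IsSplitMono n0.left := IsSplitMono.mk' ⟨N.hom, hw⟩
  haveI : IsOpenImmersion n0.left := FEtLib.isOpenImmersion_of_etale_universallyInjective _
  have hr : Set.range m.left ⊆ Set.range n0.left := by
    rintro _ ⟨x, rfl⟩
    obtain ⟨p⟩ : Nonempty ↥(Spec (CommRingCat.of K)) := ⟨(default : PrimeSpectrum K)⟩
    refine ⟨p, ?_⟩
    rw [← he, Over.comp_left, Scheme.Hom.comp_apply]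
    exact PreconnectedSpace.constant inferInstance m.left.continuous
  refine Over.OverMorphism.ext ?_
  rw [← IsOpenImmersion.lift_fac n0.left m.left hr, Over.comp_left]
  congr 1
  have := IsOpenImmersion.lift_fac n0.left m.left hr
  have h2 := congrArg (· ≫ N.hom) this
  simp only [Category.assoc, hw, Category.comp_id, Over.w] at h2
  rw [h2]
  rfl

/-- Let k be an algebraically closed field, T a k-torus, α : T ⟶ 𝔾_m a non-trivial character and P the
semi-direct product T ⋉_α 𝔾_a, given as a k-group P with homomorphisms j_T : T ⟶ P and j_U : 𝔾_a ⟶ P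
such that (t, x) ↦ j_T(t) j_U(x) is an isomorphism of schemes T × 𝔾_a ≅ P and j_T(t) j_U(x) j_T(t)⁻¹
= j_U(α(t) x). Let n : N ⟶ P be a normal subgroup scheme which is étale over k and such that N ∩ T
is trivial (a point of N whose image is in j_T(T) is the unit). Then N is the trivial group. -/
theorem result (K : Type u) [Field K] [IsAlgClosed K]
    (T P N : Over (Spec (CommRingCat.of K))) [GrpObj T] [GrpObj P] [GrpObj N] (hT : Red.IsTorus T)
    (α : T ⟶ Red.Gm (Spec (CommRingCat.of K))) [IsMonHom α] (hα : α ≠ 1)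
    (jT : T ⟶ P) [IsMonHom jT] (jU : Red.Ga (Spec (CommRingCat.of K)) ⟶ P) [IsMonHom jU] (hiso : IsIso ((jT ⊗ₘ jU) ≫ μ[P]))
    (hconj : ∀ (X : Over (Spec (CommRingCat.of K))) (t : X ⟶ T) (x x' : X ⟶ Red.Ga (Spec (CommRingCat.of K))), Red.gaFn x' = Red.gmFn (t ≫ α) * Red.gaFn x →
      (t ≫ jT) * (x ≫ jU) * (t ≫ jT)⁻¹ = x' ≫ jU)
    (n : N ⟶ P) [IsMonHom n] [Mono n] (hn : AlgGrp.IsNormalHom n) (het : Etale N.hom)
    (hNT : ∀ (X : Over (Spec (CommRingCat.of K))) (t : X ⟶ T) (m : X ⟶ N), t ≫ jT = m ≫ n → m = 1) :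
    Red.IsTrivialGrp N := by
  classical
  haveI := TorusConnLib.connectedSpace T hT
  haveI := het
  haveI := discrete N.hom
  haveI := hiso
  -- every rational point of N is the unit
  have key : ∀ n0 : 𝟙_ (Over (Spec (CommRingCat.of K))) ⟶ N, n0 = 1 := by
    intro n0
    let iv := inv ((jT ⊗ₘ jU) ≫ μ[P])
    let t0 := n0 ≫ n ≫ iv ≫ fst _ _
    let x0 := n0 ≫ n ≫ iv ≫ snd _ _
    have hd : (t0 ≫ jT) * (x0 ≫ jU) = n0 ≫ n := by
      calc _ = (n0 ≫ n ≫ iv) ≫ (jT ⊗ₘ jU) ≫ μ[P] := by
            rw [Hom.mul_def, ← Category.assoc _ (jT ⊗ₘ jU)]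
            congr 1
            ext <;> simp [t0, x0]
        _ = n0 ≫ n := by simp [iv]
    have hinj : ∀ {X : Over (Spec (CommRingCat.of K))} {t t' : X ⟶ T} {x x' : X ⟶ Red.Ga _},
        (t ≫ jT) * (x ≫ jU) = (t' ≫ jT) * (x' ≫ jU) → x = x' := by
      intro X t t' x x' h
      have h' : lift t x ≫ (jT ⊗ₘ jU) ≫ μ[P] = lift t' x' ≫ (jT ⊗ₘ jU) ≫ μ[P] := by
        simpa [Hom.mul_def] using h
      have := congrArg (· ≫ snd _ _) ((cancel_mono _).mp h')
      simpa using this
    obtain ⟨m, hm⟩ := hn T jT (toUnit T ≫ n0)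
    rw [Category.assoc] at hm
    have he : η[T] ≫ m = n0 := by
      rw [← cancel_mono n, Category.assoc, ← hm, MonObj.comp_mul, MonObj.comp_mul, GrpObj.comp_inv,
        IsMonHom.one_hom, ← Category.assoc η[T] (toUnit T), toUnit_unique (η[T] ≫ toUnit T) (𝟙 _),
        Category.id_comp]
      have h1 : (η[P] : 𝟙_ _ ⟶ P) = 1 := by
        simp [Hom.one_def, toUnit_unique (toUnit (𝟙_ (Over (Spec (CommRingCat.of K))))) (𝟙 _)]
      rw [h1, _root_.one_mul, inv_one, _root_.mul_one]
    have hm' := eq_const n0 m η[T] he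
    have hcomm : jT * (toUnit T ≫ n0 ≫ n) * jT⁻¹ = toUnit T ≫ n0 ≫ n := by
      rw [hm, hm', Category.assoc]
    -- compare the Ga-coordinates
    obtain ⟨x', hx'⟩ := exists_gaFn (S := Spec (CommRingCat.of K)) (Red.gmFn α * Red.gaFn (toUnit T ≫ x0))
    have hc := hconj T (𝟙 T) (toUnit T ≫ x0) x' (by rw [hx', Category.id_comp])
    rw [Category.id_comp] at hc
    have hx : x' = toUnit T ≫ x0 := by
      have h1 : ((𝟙 T * (toUnit T ≫ t0) * (𝟙 T)⁻¹) ≫ jT) * (x' ≫ jU) =
          ((toUnit T ≫ t0) ≫ jT) * ((toUnit T ≫ x0) ≫ jU) := by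
        rw [MonObj.mul_comp, MonObj.mul_comp, GrpObj.inv_comp, Category.id_comp, ← hc]
        simp only [Category.assoc]
        rw [← MonObj.comp_mul (toUnit T) (t0 ≫ jT) (x0 ≫ jU), hd]
        conv_rhs => rw [← hcomm, ← hd, MonObj.comp_mul]
        group
      exact hinj h1
    rw [hx, gaFn_comp] at hx'
    have hx0 : x0 = 1 := by
      rcases eq_or_ne (Red.gaFn x0) 0 with h0 | h0
      · exact gaFn_injective (by rw [h0, gaFn_one])
      · exfalso
        apply hα
        have hu : IsUnit (Red.gaFn x0) := by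
          let hb := (Scheme.ΓSpecIso (CommRingCat.of K)).symm.commRingCatIsoToRingEquiv
          obtain ⟨c, hc⟩ := hb.surjective (Red.gaFn x0)
          rw [← hc] at h0 ⊢
          exact (isUnit_iff_ne_zero.mpr (fun h => h0 (by rw [h, map_zero]))).map hb
        have hu' := hu.map (toUnit T).left.appTop.hom
        refine gmFn_injective (Eq.trans ?_ gmFn_one.symm)
        exact hu'.mul_right_cancel (by rw [_root_.one_mul]; exact hx'.symm)
    refine hNT _ t0 n0 ?_
    rw [← hd, hx0, MonObj.one_comp, _root_.mul_one]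
  -- conclude
  let u : 𝟙_ (Over (Spec (CommRingCat.of K))) ⟶ N := 1
  have hw : u.left ≫ N.hom = 𝟙 _ := Over.w u
  haveI : Etale (u.left ≫ N.hom) := by rw [hw]; infer_instance
  haveI := Etale.of_comp u.left N.hom
  haveI : IsSplitMono u.left := IsSplitMono.mk' ⟨N.hom, hw⟩
  haveI := FEtLib.isOpenImmersion_of_etale_universallyInjective u.left
  haveI : Epi u.left.base := by
    refine (TopCat.epi_iff_surjective _).mpr fun y => ?_
    have hy : IsClosed ({y} : Set N.left) := isClosed_discrete _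
    refine ⟨IsLocalRing.closedPoint K, ?_⟩
    let n0 : 𝟙_ (Over (Spec (CommRingCat.of K))) ⟶ N :=
      Over.homMk (pointOfClosedPoint N.hom y hy) (pointOfClosedPoint_comp _ _ _)
    exact (congrArg (fun z : 𝟙_ (Over (Spec (CommRingCat.of K))) ⟶ N => z.left (IsLocalRing.closedPoint K))
      (key n0)).symm.trans (pointOfClosedPoint_apply N.hom y hy _)
  haveI := IsOpenImmersion.isIso u.left
  change IsIso N.hom
  rw [show N.hom = inv u.left from IsIso.eq_inv_of_hom_inv_id hw]
  infer_instance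

end Groth.Agent.S8473
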