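import Groth.Statements.S8474
import Groth.Agent.SemiMono26.Basic
import Groth.Agent.NeronModel27.GaSmoothBase
-- import your own Groth.Agent.* helpers here

set_option autoImplicit false
set_option linter.style.haveILetI false
set_option backward.isDefEq.respectTransparency.types false
set_option maxHeartbeats 1000000
set_option synthInstance.maxHeartbeats 200000
universe u
open CategoryTheory MonoidalCategory CartesianMonoidalCategory MonObj GrpObj AlgebraicGeometry CategoryTheory.Limits
open Red

namespace Groth.Agent.S8474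

/-- Let G be an S-group scheme of finite presentation over S, T an S-torus, α : T ⟶ 𝔾_m a character
non-trivial on every geometric fibre, and P = T ⋉_α 𝔾_a, given as an S-group P with homomorphisms
j_T : T ⟶ P, j_U : 𝔾_a ⟶ P such that (t, x) ↦ j_T(t) j_U(x) is an isomorphism of schemes T ×_S 𝔾_a ≅
P and j_T(t) j_U(x) j_T(t)⁻¹ = j_U(α(t) x). Let s₀ be a point of S and f : P ⟶ G a homomorphism
whose base change to the fibre at s₀ is a monomorphism and whose restriction j_T ∘ f to T is a
monomorphism. Then there is an open neighbourhood U of s₀ over which f is a monomorphism. -/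
theorem result (S : Scheme.{u}) (G T P : Over S) [GrpObj G] [GrpObj T] [GrpObj P]
    [LocallyOfFinitePresentation G.hom] [QuasiCompact G.hom] [QuasiSeparated G.hom] (hT : Red.IsTorus T)
    (α : T ⟶ Red.Gm S) [IsMonHom α] (hα : ∀ s : S, (Over.pullback (Red.geomPt s)).map α ≠ 1)
    (jT : T ⟶ P) [IsMonHom jT] (jU : Red.Ga S ⟶ P) [IsMonHom jU] (hiso : IsIso ((jT ⊗ₘ jU) ≫ μ[P]))
    (hconj : ∀ (X : Over S) (t : X ⟶ T) (x x' : X ⟶ Red.Ga S), Red.gaFn x' = Red.gmFn (t ≫ α) * Red.gaFn x →
      (t ≫ jT) * (x ≫ jU) * (t ≫ jT)⁻¹ = x' ≫ jU)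
    (s₀ : S) (f : P ⟶ G) [IsMonHom f] [Mono ((Over.pullback (S.fromSpecResidueField s₀)).map f)] [Mono (jT ≫ f)] :
    ∃ U : S.Opens, s₀ ∈ U ∧ Mono ((Over.pullback U.ι).map f) := by
  classical
  haveI := hiso
  let k := SemiMono26.ker f
  haveI : LocallyOfFinitePresentation T.hom :=
    SGA3cLib.TrivLocus.locallyOfFinitePresentation_of_multTypeFT _ (MultExt26.isMultTypeFT_of_torus T hT)
  haveI : IsAffineHom T.hom :=
    IsoTriv.SchemeBridge.isAffineHom_of_multTypeFT T (MultExt26.isMultTypeFT_of_torus T hT)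
  let φ := (jT ⊗ₘ jU) ≫ μ[P]
  haveI : IsIso φ.left := inferInstanceAs (IsIso ((Over.forget S).map φ))
  haveI : Smooth (Red.Ga S).hom := NeronModel27.smooth_ga S
  haveI : IsAffine Red.GaZ.{u}.left := inferInstanceAs (IsAffine (Spec _))
  haveI : IsAffineHom Red.GaZ.{u}.hom := isAffineHom_of_isAffine _
  haveI : IsAffineHom (Red.Ga S).hom := MorphismProperty.pullback_snd _ _ inferInstance
  haveI : IsIso (inv φ).left := inferInstanceAs (IsIso ((Over.forget S).map (inv φ)))
  haveI : IsSeparated P.hom := by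
    rw [← Over.w (inv φ)]
    haveI : IsSeparated (T ⊗ Red.Ga S).hom :=
      inferInstanceAs (IsSeparated (pullback.fst T.hom (Red.Ga S).hom ≫ T.hom))
    infer_instance
  haveI : LocallyOfFiniteType P.hom := by
    rw [← Over.w (inv φ)]
    haveI : LocallyOfFiniteType (T ⊗ Red.Ga S).hom :=
      inferInstanceAs (LocallyOfFiniteType (pullback.fst T.hom (Red.Ga S).hom ≫ T.hom))
    infer_instance
  haveI : IsSplitMono η[G].left := IsSplitMono.mk' ⟨G.hom, Over.w η[G]⟩
  haveI : LocallyOfFiniteType η[G].left := by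
    haveI : LocallyOfFiniteType (η[G].left ≫ G.hom) := by
      rw [show η[G].left ≫ G.hom = 𝟙 S from Over.w η[G]]
      exact MorphismProperty.id_mem @LocallyOfFiniteType S
    exact locallyOfFiniteType_of_comp η[G].left G.hom
  haveI : LocallyOfFiniteType k.hom := by
    show LocallyOfFiniteType (pullback.fst f.left η[G].left ≫ P.hom)
    infer_instance
  haveI : IsSeparated k.hom := by
    show IsSeparated (pullback.fst f.left η[G].left ≫ P.hom)
    infer_instance
  obtain ⟨U, hs, hU⟩ := SemiMono26.exists_open f s₀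
  haveI := hU
  have h := SGA3cLib.MonoNhd.mono_of_kTriv f U.ι (SemiMono26.kTriv f T α jT jU hT hα hconj U)
  haveI := h
  exact ⟨U, hs, Over.mono_of_mono_left _⟩

end Groth.Agent.S8474
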