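import Groth.Statements.S8487
import Groth.Agent.SGA3cLib.Centralizer
import Groth.Agent.SGA3cLib.TorusBasic

set_option autoImplicit false
universe u
open CategoryTheory MonoidalCategory CartesianMonoidalCategory MonObj GrpObj AlgebraicGeometry CategoryTheory.Limits
open Red

namespace Groth.Agent.S8487

open Groth.Agent.SGA3cLib

/-- Let G be a reductive S-group, i : T ⟶ G a maximal torus, α a character of T non-trivial on every
geometric fibre, p₊, p₋ : 𝔾_a ⟶ G monomorphisms of groups normalised by T with multipliers α and α⁻¹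
whose cell map (y, t, x) ↦ p₋(y) i(t) p₊(x) is an open immersion 𝔾_a ×_S T ×_S 𝔾_a ⟶ G, and α^* :
𝔾_m ⟶ T the coroot: α ∘ α^* is the squaring map and p₊(x) p₋(y) = p₋(y/(1+xy)) · i(α^*(1+xy)) ·
p₊(x/(1+xy)) whenever 1 + xy is invertible (so p₊ and p₋ are dual to each other). Let n be a
non-zero integer and w an S-point of G such that w · i(α^*(z))^n · w⁻¹ = i(α^*(z))^{-n} for all
points z of 𝔾_m (after base change). Then w is a point of N^× = Norm_G(T) − T: it normalises T, with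
w i(t) w⁻¹ = i(α^*(α(t)))⁻¹ i(t) for all points t of T, and for no geometric point s̄ of S does
w(s̄) lie in T. (The published statement is an equivalence; this row states only this implication.) -/
theorem result (S : Scheme.{u}) (G T : Over S) [GrpObj G] [GrpObj T] (i : T ⟶ G) [IsMonHom i] [Mono i] (hG : Red.IsReductive G) (hTm : Red.IsMaximalTorus i)
    (α : T ⟶ Red.Gm S) [IsMonHom α] (hα : ∀ s : S, (Over.pullback (Red.geomPt s)).map α ≠ 1)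
    (pp pm : Red.Ga S ⟶ G) [IsMonHom pp] [Mono pp] [IsMonHom pm] [Mono pm]
    (hpp : ∀ (X : Over S) (t : X ⟶ T) (x : X ⟶ Red.Ga S), ∃ x' : X ⟶ Red.Ga S,
      x' ≫ pp = (t ≫ i) * (x ≫ pp) * (t ≫ i)⁻¹ ∧ Red.gaFn x' = Red.gmFn (t ≫ α) * Red.gaFn x)
    (hpm : ∀ (X : Over S) (t : X ⟶ T) (y : X ⟶ Red.Ga S), ∃ y' : X ⟶ Red.Ga S,
      y' ≫ pm = (t ≫ i) * (y ≫ pm) * (t ≫ i)⁻¹ ∧ Red.gaFn y' * Red.gmFn (t ≫ α) = Red.gaFn y)
    (hΩ : IsOpenImmersion (((pm ⊗ₘ i) ⊗ₘ pp) ≫ (μ[G] ▷ G) ≫ μ[G]).left)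
    (av : Red.Gm S ⟶ T) [IsMonHom av] (h2 : av ≫ α = (𝟙 (Red.Gm S)) ^ 2)
    (hF : ∀ (X : Over S) (x y : X ⟶ Red.Ga S), IsUnit (1 + Red.gaFn x * Red.gaFn y) →
      ∃ (x' y' : X ⟶ Red.Ga S) (z : X ⟶ Red.Gm S), Red.gmFn z = 1 + Red.gaFn x * Red.gaFn y ∧
        Red.gaFn x' * Red.gmFn z = Red.gaFn x ∧ Red.gaFn y' * Red.gmFn z = Red.gaFn y ∧
        (x ≫ pp) * (y ≫ pm) = (y' ≫ pm) * (z ≫ av ≫ i) * (x' ≫ pp))
    (n : ℤ) (hn : n ≠ 0) (w : 𝟙_ (Over S) ⟶ G)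
    (hw : ∀ (X : Over S) (z : X ⟶ Red.Gm S),
      (toUnit X ≫ w) * (((z ≫ av) ^ n) ≫ i) * (toUnit X ≫ w)⁻¹ = ((((z ≫ av) ^ n) ≫ i))⁻¹) :
    (∀ (X : Over S) (t : X ⟶ T), (toUnit X ≫ w) * (t ≫ i) * (toUnit X ≫ w)⁻¹ = (t ≫ α ≫ av ≫ i)⁻¹ * (t ≫ i)) ∧
      ∀ s : S, ¬ ∃ t : Over.mk (Red.geomPt s) ⟶ T, t ≫ i = toUnit (Over.mk (Red.geomPt s)) ≫ w := by
  have H : SL2Rel i α pp pm av := ⟨hpp, hpm, h2, hF⟩
  have hcomm : ∀ (X : Over S) (t t' : X ⟶ T), t * t' = t' * t := fun X t t' => torus_mul_comm hTm.2.2.1 t t'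
  obtain ⟨o, ho⟩ := exists_gaFn (S := S) (X := 𝟙_ (Over S)) 1
  obtain ⟨o', ho'⟩ := exists_gaFn (S := S) (X := 𝟙_ (Over S)) (-1)
  have hwX : ∀ (X : Over S), gaFn (toUnit X ≫ o') * gaFn (toUnit X ≫ o) = -1 := fun X => by
    rw [gaFn_comp, gaFn_comp, ho, ho', map_one, map_neg, map_one, _root_.mul_one]
  have hWX : ∀ (X : Over S), toUnit X ≫ SL2Rel.w pp pm o o' = SL2Rel.w pp pm (toUnit X ≫ o) (toUnit X ≫ o') := fun X => by
    simp only [SL2Rel.w, MonObj.comp_mul, Category.assoc]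
  have hsq : ∀ (X : Over S) (u : X ⟶ Red.Gm S), (u ≫ av) ≫ α ≫ av = (u ≫ av) * (u ≫ av) := by
    intro X u
    rw [← MonObj.mul_comp u u av, ← Category.assoc]
    congr 1
    refine gmFn_injective ?_
    rw [H.gmFn_av_α, gmFn_mul, pow_two]
  have hgrp : ∀ (X : Over S) (v : X ⟶ T), (v * v)⁻¹ * v = v⁻¹ := fun X v => by group
  have hWs : ∀ (X : Over S) (z : X ⟶ Red.Gm S),
      SL2Rel.w pp pm (toUnit X ≫ o) (toUnit X ≫ o') * (((z ≫ av) ^ n) ≫ i) =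
        (((z ≫ av) ^ n) ≫ i)⁻¹ * SL2Rel.w pp pm (toUnit X ≫ o) (toUnit X ≫ o') := by
    intro X z
    rw [← GrpObj.zpow_comp z n av, H.W_mul_T (hwX X), hsq, hgrp, GrpObj.inv_comp ((z ^ n) ≫ av) i]
  obtain ⟨t₀, ht₀⟩ := H.exists_T_of_commute hG hΩ hcomm n hn (w * (SL2Rel.w pp pm o o')⁻¹) (fun X y z => by
    rw [toUnit_unique y (toUnit X), MonObj.comp_mul, GrpObj.comp_inv, hWX]
    generalize hV : SL2Rel.w pp pm (toUnit X ≫ o) (toUnit X ≫ o') = V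
    have h1 := hWs X z
    rw [hV] at h1
    have h2 := hw X z
    generalize ((z ≫ av) ^ n) ≫ i = s at h1 h2
    generalize toUnit X ≫ w = u at h2
    calc u * V⁻¹ * s = u * (V⁻¹ * (s * V) * V⁻¹) := by group
      _ = u * (V⁻¹ * (s * (V * s)) * s⁻¹ * V⁻¹) := by group
      _ = u * s⁻¹ * V⁻¹ := by rw [h1]; group
      _ = u * s⁻¹ * u⁻¹ * (u * V⁻¹) := by group
      _ = (u * s * u⁻¹)⁻¹ * (u * V⁻¹) := by group
      _ = s * (u * V⁻¹) := by rw [h2]; group)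
  have hconj : ∀ (X : Over S) (t : X ⟶ T),
      (toUnit X ≫ w) * (t ≫ i) * (toUnit X ≫ w)⁻¹ = (t ≫ α ≫ av ≫ i)⁻¹ * (t ≫ i) := by
    intro X t
    have hw' : w = (t₀ ≫ i) * SL2Rel.w pp pm o o' := by rw [ht₀]; group
    rw [hw', MonObj.comp_mul, hWX, ← Category.assoc]
    calc _ = ((toUnit X ≫ t₀) ≫ i) * (SL2Rel.w pp pm (toUnit X ≫ o) (toUnit X ≫ o') * (t ≫ i) *
          (SL2Rel.w pp pm (toUnit X ≫ o) (toUnit X ≫ o'))⁻¹) * ((toUnit X ≫ t₀) ≫ i)⁻¹ := by group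
      _ = _ := by
        rw [H.w_conj_T (hwX X)]
        simp only [← GrpObj.inv_comp, ← Category.assoc]
        rw [← MonObj.mul_comp _ t i, ← MonObj.mul_comp, ← MonObj.mul_comp, hcomm X (toUnit X ≫ t₀), mul_inv_cancel_right]
  refine ⟨hconj, fun s => ?_⟩
  rintro ⟨t, ht⟩
  obtain ⟨r, hr, hr1⟩ := exists_unit_pow_ne_one (AlgebraicClosure (S.residueField s)) (m := 4 * n.natAbs) (by omega)
  obtain ⟨z, hz⟩ := exists_gmFn (S := S) (X := Over.mk (Red.geomPt s)) hr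
  have h := hw _ z
  rw [← ht, ← MonObj.mul_comp, hcomm _ t, ← GrpObj.inv_comp, ← MonObj.mul_comp, mul_inv_cancel_right,
    ← GrpObj.inv_comp, cancel_mono] at h
  apply hr1
  have h2 : (z ^ n) ≫ av = (z ^ n)⁻¹ ≫ av :=
    (GrpObj.zpow_comp z n av).trans (h.trans ((congrArg Inv.inv (GrpObj.zpow_comp z n av)).symm.trans
      (GrpObj.inv_comp (z ^ n) av).symm))
  have h3 := congrArg (fun q => gmFn (q ≫ α)) h2
  simp only [H.gmFn_av_α] at h3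
  have h4 : gmFn (z ^ n) ^ 4 = 1 := by
    linear_combination gmFn (z ^ n) ^ 2 * h3 + (gmFn (z ^ n)⁻¹ * gmFn (z ^ n) + 1) * gmFn_inv_mul (z ^ n)
  have h5 : (z ^ n) ^ 4 = 1 := gmFn_injective (by rw [gmFn_pow, h4, gmFn_one])
  have h6 : (z ^ 4) ^ n = 1 :=
    ((congrArg (· ^ n) (zpow_natCast z 4)).symm.trans ((_root_.zpow_mul z (4 : ℕ) n).symm.trans
      ((congrArg (z ^ ·) (_root_.mul_comm _ _)).trans ((_root_.zpow_mul z n (4 : ℕ)).trans (zpow_natCast _ 4))))).trans h5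
  have h7 := congrArg gmFn (pow_natAbs_eq_one.mpr h6)
  rwa [gmFn_pow, gmFn_pow, hz, gmFn_one, ← pow_mul] at h7

end Groth.Agent.S8487
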