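import Groth.Statements.S8489
import Groth.Agent.SGA3cLib.CellRigidity
import Groth.Agent.SGA3cLib.CharSurj

set_option autoImplicit false
universe u
open CategoryTheory MonoidalCategory CartesianMonoidalCategory MonObj GrpObj AlgebraicGeometry CategoryTheory.Limits
open Red

namespace Groth.Agent.S8489

open Groth.Agent.SGA3cLib

theorem isUnit_global {X : Scheme.{u}} (a : Γ(X, ⊤))
    (h : ∀ z : X, (X.fromSpecResidueField z).appTop a ≠ 0) : IsUnit a := by
  refine X.toRingedSpace.isUnit_of_isUnit_germ ⊤ a fun z _ => ?_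
  by_contra hz
  have hnot : z ∉ X.basicOpen a := fun hm => hz ((Scheme.mem_basicOpen X a z trivial).mp hm)
  apply hnot
  have hu : IsUnit ((X.fromSpecResidueField z).appTop a) := by
    have : IsUnit ((Scheme.ΓSpecIso (X.residueField z)).hom ((X.fromSpecResidueField z).appTop a)) :=
      isUnit_iff_ne_zero.mpr fun h0 => h z ((ConcreteCategory.bijective_of_isIso
        (Scheme.ΓSpecIso (X.residueField z)).hom).1 (h0.trans (map_zero _).symm))
    exact (isUnit_map_iff _ _).mp this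
  have h1 := Scheme.basicOpen_of_isUnit (Spec (X.residueField z)) hu
  have hm : (IsLocalRing.closedPoint (X.residueField z) : Spec (X.residueField z)) ∈
      (X.fromSpecResidueField z) ⁻¹ᵁ X.basicOpen a := by
    rw [Scheme.preimage_basicOpen_top, h1]
    trivial
  have hm' : (X.fromSpecResidueField z).base (IsLocalRing.closedPoint (X.residueField z)) ∈ X.basicOpen a := hm
  rwa [Scheme.fromSpecResidueField_apply] at hm'

/-- At the level of root homomorphisms. Let G be a reductive S-group, i : T ⟶ G a maximal torus, α a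
character of T non-trivial on every geometric fibre, and p₊, p₋ : 𝔾_a ⟶ G monomorphisms of groups
normalised by T with multipliers α and α⁻¹ such that 𝔾_a ×_S T ×_S 𝔾_a ⟶ G, (y, t, x) ↦ p₋(y) i(t)
p₊(x), is an open immersion (a rank-one system: G has semisimple rank 1 and p₊, p₋ trivialise the
root groups of α and -α). Then every monomorphism of groups p : 𝔾_a ⟶ G normalised by T with
multiplier α is a rescaling of p₊ by a unit: there is exactly one S-point c of 𝔾_m with p(x) = p₊(c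
x) for all points x of 𝔾_a. (The published statement is a bijection between the nowhere-vanishing
sections of the root line bundle and such monomorphisms; this row states it after fixing p₊.) -/
theorem result (S : Scheme.{u}) (G T : Over S) [GrpObj G] [GrpObj T] (i : T ⟶ G) [IsMonHom i] [Mono i] (hG : Red.IsReductive G) (hTm : Red.IsMaximalTorus i)
    (α : T ⟶ Red.Gm S) [IsMonHom α] (hα : ∀ s : S, (Over.pullback (Red.geomPt s)).map α ≠ 1)
    (pp pm : Red.Ga S ⟶ G) [IsMonHom pp] [Mono pp] [IsMonHom pm] [Mono pm]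
    (hpp : ∀ (X : Over S) (t : X ⟶ T) (x : X ⟶ Red.Ga S), ∃ x' : X ⟶ Red.Ga S,
      x' ≫ pp = (t ≫ i) * (x ≫ pp) * (t ≫ i)⁻¹ ∧ Red.gaFn x' = Red.gmFn (t ≫ α) * Red.gaFn x)
    (hpm : ∀ (X : Over S) (t : X ⟶ T) (y : X ⟶ Red.Ga S), ∃ y' : X ⟶ Red.Ga S,
      y' ≫ pm = (t ≫ i) * (y ≫ pm) * (t ≫ i)⁻¹ ∧ Red.gaFn y' * Red.gmFn (t ≫ α) = Red.gaFn y)
    (hΩ : IsOpenImmersion (((pm ⊗ₘ i) ⊗ₘ pp) ≫ (μ[G] ▷ G) ≫ μ[G]).left)
    (p : Red.Ga S ⟶ G) [IsMonHom p] [Mono p]
    (hp : ∀ (X : Over S) (t : X ⟶ T) (x : X ⟶ Red.Ga S), ∃ x' : X ⟶ Red.Ga S,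
      x' ≫ p = (t ≫ i) * (x ≫ p) * (t ≫ i)⁻¹ ∧ Red.gaFn x' = Red.gmFn (t ≫ α) * Red.gaFn x) :
    ∃! c : 𝟙_ (Over S) ⟶ Red.Gm S, ∀ (X : Over S) (x y : X ⟶ Red.Ga S),
      Red.gaFn y = Red.gmFn (toUnit X ≫ c) * Red.gaFn x → x ≫ p = y ≫ pp := by
  have hT : Red.IsTorus T := hTm.2.2.1
  haveI := torus_isSeparated hT
  have hcomm : ∀ (X : Over S) (t t' : X ⟶ T), t * t' = t' * t := fun X t t' => torus_mul_comm hT t t'
  obtain ⟨ν, hν⟩ := exists_coeff hΩ hpp hpm hcomm 1 p (fun X x x' r hr hx => by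
    obtain ⟨X', π, t, hsu, hepi, ht⟩ := exists_char_lift α hT hα hr
    refine ⟨X', π, t, hsu, hepi, by rw [ht, pow_one], ?_⟩
    obtain ⟨x'', h1, h2⟩ := hp X' t (π ≫ x)
    have he : x'' = π ≫ x' := gaFn_injective (by
      rw [h2, gaFn_comp π x', gaFn_comp π x, hx, map_mul, ht])
    rw [← Category.assoc π x p, ← h1, he, Category.assoc])
  simp only [pow_one] at hν
  have hu : IsUnit (gaFn ν) := by
    refine isUnit_global _ fun z h0 => ?_
    let K := (𝟙_ (Over S)).left.residueField z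
    let X : Over S := Over.mk ((𝟙_ (Over S)).left.fromSpecResidueField z ≫ (𝟙_ (Over S)).hom)
    let b : X ⟶ 𝟙_ (Over S) := Over.homMk ((𝟙_ (Over S)).left.fromSpecResidueField z) rfl
    obtain ⟨x, hx⟩ := exists_gaFn (S := S) (X := X) 1
    have h1 : x ≫ p = (1 : X ⟶ Red.Ga S) ≫ pp := hν X x 1 (by
      rw [gaFn_one, gaFn_comp, toUnit_unique (toUnit X) b]
      exact (mul_eq_zero_of_left h0 _).symm)
    rw [MonObj.one_comp, ← MonObj.one_comp (X := X) p] at h1
    have h2 := congrArg gaFn ((cancel_mono p).mp h1)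
    rw [hx, gaFn_one] at h2
    haveI : Nontrivial Γ(X.left, ⊤) :=
      (ConcreteCategory.bijective_of_isIso (Scheme.ΓSpecIso K).inv).1.nontrivial
    exact one_ne_zero h2
  obtain ⟨c, hc⟩ := exists_gmFn (S := S) hu
  have hcX : ∀ X : Over S, gmFn (toUnit X ≫ c) = gaFn (toUnit X ≫ ν) := fun X => by
    rw [gmFn_comp, gaFn_comp, hc]
  refine ⟨c, fun X x y hy => hν X x y (by rw [hy, hcX]), fun c' hc' => ?_⟩
  obtain ⟨e₁, he₁⟩ := exists_gaFn (S := S) (X := 𝟙_ (Over S)) 1
  have htu : toUnit (𝟙_ (Over S)) = 𝟙 _ := toUnit_unique _ _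
  obtain ⟨ν', hν'⟩ := exists_gaFn (S := S) (X := 𝟙_ (Over S)) (gmFn c')
  have h : ν' ≫ pp = ν ≫ pp :=
    (hc' _ e₁ ν' (by rw [htu, Category.id_comp, he₁, _root_.mul_one, hν'])).symm.trans
      (hν _ e₁ ν (by rw [htu, Category.id_comp, he₁, _root_.mul_one]))
  exact gmFn_injective (by rw [hc, ← hν', (cancel_mono pp).mp h])

end Groth.Agent.S8489
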