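import Groth.Statements.S8513
-- import your own Groth.Agent.* helpers here

set_option autoImplicit false
open CategoryTheory MonoidalCategory CartesianMonoidalCategory MonObj GrpObj AlgebraicGeometry
universe u
open Par

namespace Groth.Agent.S8513

/-- (a,b) ↦ p a * (q b)⁻¹ has fibre P ×_G Q over the unit -/
lemma isPullback_div {S : Scheme.{u}} {G P Q I : Over S} [GrpObj G] [GrpObj Q]
    (p : P ⟶ G) (q : Q ⟶ G) [IsMonHom q] (m : I ⟶ P) (m' : I ⟶ Q) (hI : IsPullback m m' p q) :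
    IsPullback (lift m m') (toUnit I) ((P ◁ (ι : Q ⟶ Q)) ≫ (p ⊗ₘ q) ≫ μ[G]) η[G] := by
  have key : ∀ (X : Over S) (a : X ⟶ P) (b : X ⟶ Q),
      lift a b ≫ (P ◁ (ι : Q ⟶ Q)) ≫ (p ⊗ₘ q) ≫ μ[G] = (a ≫ p) * (b ≫ q)⁻¹ := by
    intro X a b
    have hinv : b ≫ (ι : Q ⟶ Q) ≫ q = (b ≫ q)⁻¹ := by
      rw [← Category.assoc, ← Hom.inv_def, GrpObj.inv_comp]
    simp [Hom.mul_def, Hom.inv_def, lift_map_assoc, hinv]
  have w : lift m m' ≫ (P ◁ (ι : Q ⟶ Q)) ≫ (p ⊗ₘ q) ≫ μ[G] = toUnit I ≫ η[G] := by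
    rw [key, hI.w, mul_inv_cancel]
    rfl
  refine IsPullback.of_isLimit' ⟨w⟩ (Limits.PullbackCone.isLimitAux' _ fun s => ?_)
  have e : s.fst = lift (s.fst ≫ fst P Q) (s.fst ≫ snd P Q) := by simp
  have h1 : (s.fst ≫ fst P Q) ≫ p = (s.fst ≫ snd P Q) ≫ q := by
    have c := s.condition
    rw [e, key, toUnit_unique s.snd (toUnit _)] at c
    exact mul_inv_eq_one.mp c
  refine ⟨hI.lift _ _ h1, ?_, toUnit_unique _ _, fun {l} h2 _ => ?_⟩
  · change hI.lift _ _ h1 ≫ lift m m' = s.fst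
    rw [comp_lift, hI.lift_fst, hI.lift_snd]
    exact e.symm
  · change l ≫ lift m m' = s.fst at h2
    apply hI.hom_ext
    · rw [hI.lift_fst, ← h2, Category.assoc, lift_fst]
      all_goals rfl
    · rw [hI.lift_snd, ← h2, Category.assoc, lift_snd]
      all_goals rfl

/-- Let G be a reductive S-group and P, Q two parabolic subgroups of G in transversal position (the
multiplication morphism P ×_S Q ⟶ G is smooth). Then P ∩ Q (a fibre product of P and Q over G) is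
smooth over S. -/
theorem result {S : Scheme.{u}} {G P Q I : Over S} [GrpObj G] [GrpObj P] [GrpObj Q]
    (hG : Red.IsReductive G) (p : P ⟶ G) (q : Q ⟶ G) (hP : Red.IsParabolic p) (hQ : Red.IsParabolic q)
    (htr : Smooth ((p ⊗ₘ q) ≫ μ[G]).left) (m : I ⟶ P) (m' : I ⟶ Q) (hI : IsPullback m m' p q) :
    Smooth I.hom := by
  haveI := hQ.1
  have sq := (isPullback_div p q m m' hI).map (Over.forget S)
  haveI : IsIso (P ◁ (GrpObj.inv : Q ⟶ Q)) := inferInstance
  have hsm : Smooth ((P ◁ (GrpObj.inv : Q ⟶ Q)) ≫ (p ⊗ₘ q) ≫ μ[G]).left := by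
    haveI := htr
    rw [Over.comp_left]
    haveI : IsIso (P ◁ (GrpObj.inv : Q ⟶ Q)).left :=
      inferInstanceAs (IsIso ((Over.forget S).map (P ◁ (GrpObj.inv : Q ⟶ Q))))
    infer_instance
  have h := MorphismProperty.of_isPullback (P := @Smooth) sq hsm
  exact h

end Groth.Agent.S8513
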