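import Groth.Statements.S8517
import Groth.Agent.RootDat.Weyl

set_option autoImplicit false
open CategoryTheory MonoidalCategory CartesianMonoidalCategory MonObj GrpObj AlgebraicGeometry
universe u
open RedSub

namespace Groth.Agent.S8517

open Groth.Agent.RootDat RootD

theorem transport {I X : Type*} [AddCommGroup X] [DecidableEq I] (f : I → X) (σ : I ≃ I) (e : X ≃ₗ[ℤ] X)
    (he : ∀ i, f (σ i) = e (f i)) (D : Finset I) (hli : LinearIndepOn ℤ f D)
    (hcov : ∀ i, f i ∈ AddSubmonoid.closure (f '' D) ∨ -f i ∈ AddSubmonoid.closure (f '' D)) :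
    LinearIndepOn ℤ f (D.image σ : Finset I) ∧
      ∀ i, f i ∈ AddSubmonoid.closure (f '' ((D.image σ : Finset I) : Set I)) ∨
        -f i ∈ AddSubmonoid.closure (f '' ((D.image σ : Finset I) : Set I)) := by
  rw [Finset.coe_image]
  constructor
  · rw [LinearIndepOn, ← linearIndependent_equiv (Equiv.Set.image σ (D : Set I) σ.injective)]
    have h : (fun x : ((σ '' (D : Set I)) : Set I) => f x) ∘ (Equiv.Set.image σ (D : Set I) σ.injective) =
        e.toLinearMap ∘ (fun x : (D : Set I) => f x) := funext fun x => he x.1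
    rw [h]
    exact LinearIndependent.map' hli e.toLinearMap e.ker
  · intro i
    have hmap : ∀ x, x ∈ AddSubmonoid.closure (f '' (D : Set I)) →
        e x ∈ AddSubmonoid.closure (f '' (σ '' (D : Set I))) := fun x hx => by
      induction hx using AddSubmonoid.closure_induction with
      | mem x hx =>
        obtain ⟨j, hj, rfl⟩ := hx
        exact AddSubmonoid.subset_closure ⟨σ j, ⟨j, hj, rfl⟩, he j⟩
      | zero => rw [map_zero]; exact zero_mem _
      | add x y _ _ hx hy => rw [map_add]; exact add_mem hx hy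
    have hi : f i = e (f (σ.symm i)) := by rw [← he, Equiv.apply_symm_apply]
    rcases hcov (σ.symm i) with h | h
    · exact Or.inl (hi ▸ hmap _ h)
    · refine Or.inr ?_
      rw [hi, ← map_neg]
      exact hmap _ h

/-- Let R be the set of roots of a root pairing over ℤ with finitely many roots, and R₁, R₂ two closed
subsets of R (if a, b ∈ Rᵢ and root a + root b is a root c then c ∈ Rᵢ), each containing a system of
positive roots (the positive roots of some base). If R₁ ∪ R₂ = R, then R₁ ∩ (−R₂) (the roots of R₁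
whose negative is a root in R₂) contains a system of positive roots. -/
theorem result {idx M N : Type} [Finite idx] [AddCommGroup M] [AddCommGroup N] (P : RootPairing idx ℤ M N) (R₁ R₂ : Set idx)
    (h₁ : ∀ a b c : idx, a ∈ R₁ → b ∈ R₁ → P.root a + P.root b = P.root c → c ∈ R₁)
    (h₂ : ∀ a b c : idx, a ∈ R₂ → b ∈ R₂ → P.root a + P.root b = P.root c → c ∈ R₂)
    (hb₁ : ∃ b : P.Base, RedSub.posRoots P b ⊆ R₁) (hb₂ : ∃ b : P.Base, RedSub.posRoots P b ⊆ R₂)
    (hunion : R₁ ∪ R₂ = Set.univ) :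
    ∃ b : P.Base, RedSub.posRoots P b ⊆ {a | a ∈ R₁ ∧ ∃ c ∈ R₂, P.root a = -P.root c} := by
  classical
  obtain ⟨b, hb⟩ := hb₁
  obtain ⟨b₂, hb₂⟩ := hb₂
  let T : Set idx := {a | a ∈ R₁ ∧ ∃ c ∈ R₂, P.root a = -P.root c}
  have hT : ∀ a, a ∈ T ↔ a ∈ R₁ ∧ neg P a ∈ R₂ := fun a => by
    refine ⟨fun ⟨h, c, hc, e⟩ => ⟨h, ?_⟩, fun ⟨h, h'⟩ => ⟨h, _, h', by rw [root_neg, _root_.neg_neg]⟩⟩
    have : neg P a = c := P.root.injective (by rw [root_neg, e, _root_.neg_neg])
    rwa [this]
  have hcov₁ : ∀ a, a ∈ R₁ ∨ neg P a ∈ R₁ := fun a =>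
    (b.root_mem_or_neg_mem a).imp (fun h => hb h) fun h => hb (show P.root (neg P a) ∈ _ by rwa [root_neg])
  have hcov₂ : ∀ a, a ∈ R₂ ∨ neg P a ∈ R₂ := fun a =>
    (b₂.root_mem_or_neg_mem a).imp (fun h => hb₂ h) fun h => hb₂ (show P.root (neg P a) ∈ _ by rwa [root_neg])
  have hcov : ∀ a, a ∈ T ∨ neg P a ∈ T := by
    intro a
    rw [hT, hT, RootDat.neg_neg]
    have h1 := hcov₁ a
    have h2 := hcov₂ a
    have h3 : a ∈ R₁ ∨ a ∈ R₂ := Set.eq_univ_iff_forall.mp hunion a
    have h4 : neg P a ∈ R₁ ∨ neg P a ∈ R₂ := Set.eq_univ_iff_forall.mp hunion (neg P a)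
    tauto
  have hcl : IsClosedSub P T := by
    intro i j k hi hj hk
    rw [hT] at *
    exact ⟨h₁ i j k hi.1 hj.1 hk.symm, h₂ _ _ _ hi.2 hj.2 (by rw [root_neg, root_neg, root_neg, hk]; abel)⟩
  have hD : IsSimpleSys P (b.support : Set idx) := ⟨b.linearIndepOn_root, b.root_mem_or_neg_mem⟩
  obtain ⟨g, -, hsub⟩ := exists_smul_subset (Simple.posOf_isPosSys hD) T hcov hcl
  let σ : idx ≃ idx := MulAction.toPerm g
  obtain ⟨hl, hr⟩ := transport P.root σ (DistribMulAction.toLinearEquiv ℤ M g) (fun i => smul_root P g i)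
    b.support b.linearIndepOn_root b.root_mem_or_neg_mem
  obtain ⟨hl', hr'⟩ := transport P.coroot σ (RootPairing.Equiv.coweightEquiv P P g).symm (fun i => by
    rw [LinearEquiv.eq_symm_apply]
    exact coweightMap_coroot P g i) b.support b.linearIndepOn_coroot b.coroot_mem_or_neg_mem
  refine ⟨⟨b.support.image σ, hl, hl', hr, hr'⟩, ?_⟩
  intro a ha
  change a ∈ posOf P ((b.support.image σ : Finset idx) : Set idx) at ha
  rw [Finset.coe_image] at ha
  exact hsub ((posOf_smul g (b.support : Set idx)).subset ha)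

end Groth.Agent.S8517
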