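import Groth.Statements.S8528
import Groth.Agent.EtUnitLib.ConstUnit
import Groth.Agent.Et18.UnibranchComps
import Groth.Agent.Et18.NormalGeneric
import Groth.Agent.S2135
import Groth.Agent.HenselLib.LocalHens
import Groth.Agent.GalEt.Torsion
import Groth.Agent.CdDev9.Push
import Groth.Agent.EtLimit.HMaps

set_option linter.all false
set_option backward.isDefEq.respectTransparency.types false
set_option backward.isDefEq.respectTransparency false
set_option synthInstance.maxHeartbeats 400000
set_option maxHeartbeats 1000000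

set_option autoImplicit false
universe u
open CategoryTheory CategoryTheory.Limits AlgebraicGeometry Opposite
open EtPBC

namespace Groth.Agent.S8528

open Groth.Agent Groth.Agent.Et18 Groth.Agent.EtUnitLib TopologicalSpace CategoryTheory.Abelian

theorem isGeomUnibranch_stalk (X : Scheme.{u})
    (hX : ∀ (x : X) (R : Type u) [CommRing R] [IsLocalRing R] [Algebra (X.presheaf.stalk x) R]
      [IsLocalHom (algebraMap (X.presheaf.stalk x) R)] [Hensel.IsStrictHenselization (X.presheaf.stalk x) R],
      IrreducibleSpace (PrimeSpectrum R)) (x : X) : CAlg2.IsGeomUnibranch (X.presheaf.stalk x) := by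
  haveI := HenselLib.isStrictHenselization_localSH (R := X.presheaf.stalk x)
  let R := HenselLib.LocalSH (X.presheaf.stalk x)
  haveI : IrreducibleSpace (PrimeSpectrum R) := hX x R
  refine (S2135.result (A := X.presheaf.stalk x) (Ash := R)).2 ?_
  let p : PrimeSpectrum R := genericPoint (PrimeSpectrum R)
  have hle : ∀ Q : PrimeSpectrum R, p ≤ Q := fun Q =>
    (PrimeSpectrum.le_iff_specializes _ _).2 (genericPoint_specializes Q)
  refine ⟨p.asIdeal, ⟨⟨p.2, bot_le⟩, fun Q hQ hQp => hle ⟨Q, hQ.1⟩⟩, fun Q hQ => ?_⟩
  exact le_antisymm (hQ.2 ⟨p.2, bot_le⟩ (hle ⟨Q, hQ.1.1⟩)) (hle ⟨Q, hQ.1.1⟩)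

theorem isIso_unit_generic (X : Scheme.{u}) [IrreducibleSpace X]
    (hX : ∀ s : X, CAlg2.IsGeomUnibranch (X.presheaf.stalk s)) (A : AddCommGrpCat.{u + 1}) :
    IsIso ((EtCoh.pullPushAdj (X.fromSpecResidueField (genericPoint X))).unit.app ((cst X).obj A)) := by
  let g := X.fromSpecResidueField (genericPoint X)
  have hη : genericPoint X ∈ Set.range g := by
    rw [Scheme.range_fromSpecResidueField]
    rfl
  suffices IsIso (constPush g A) from isIso_unit_of_isIso_constPush g
  have hgen : ∀ (V : X.Etale) (v : V.left), ∃ a : V.left, V.hom a = genericPoint X ∧ a ⤳ v ∧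
      IsOpen (closure ({a} : Set V.left)) := by
    intro V v
    haveI : Etale V.hom := V.prop
    obtain ⟨a, ⟨hamax, hav⟩, -⟩ := UnibranchComps.existsUnique_maximal hX V.hom v
    obtain ⟨a', ha'a, ha'⟩ := Flat.generalizingMap V.hom (genericPoint_specializes (show X from V.hom a))
    refine ⟨a, (hamax a' ha'a) ▸ ha', hav, ?_⟩
    have h := UnibranchComps.isOpen_component hX V.hom a hamax
    have e : closure ({a} : Set V.left) = {x | a ⤳ x} := Set.ext fun z => specializes_iff_mem_closure.symm
    rw [e]
    exact h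
  choose gen hgen₁ hgen₂ hgen₃ using hgen
  have hpre : ∀ (V : X.Etale) (v : V.left), ∃ y, pr g V y = gen V v := by
    intro V v
    obtain ⟨x, hx⟩ := hη
    obtain ⟨z, hz, -⟩ := Scheme.Pullback.exists_preimage_pullback (f := V.hom) (g := g) (gen V v) x
      ((hgen₁ V v).trans hx.symm)
    exact ⟨z, hz⟩
  choose lift hlift using hpre
  refine isIso_constPush_of_bijective g (fun V f f' hf hf' h => funext fun v => ?_) (fun V h hh => ?_)
  · obtain ⟨O, hO, hvO, hO'⟩ := (IsLocallyConstant.iff_exists_open f).mp hf v
    obtain ⟨O₁, hO₁, hvO₁, hO₁'⟩ := (IsLocallyConstant.iff_exists_open f').mp hf' v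
    rw [← hO' _ ((hgen₂ V v).mem_open hO hvO), ← hO₁' _ ((hgen₂ V v).mem_open hO₁ hvO₁),
      ← hlift V v, h]
  · have : Etale V.hom := V.prop
    have := Groth.Agent.FlatMorWeight.locallyQuasiFinite_of_etale V.hom
    have hdisc : ∀ a b : V.left, V.hom a = genericPoint X → V.hom b = genericPoint X → a ⤳ b → a = b := by
      intro a b ha hb hab
      have := isDiscrete_iff_discreteTopology.mp (V.hom.isDiscrete_preimage_singleton (genericPoint X))
      exact congrArg Subtype.val (((subtype_specializes_iff
        (x := (⟨a, ha⟩ : V.hom ⁻¹' {genericPoint X})) (y := ⟨b, hb⟩)).mpr hab).eq)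
    have huniq : ∀ (v b : V.left), V.hom b = genericPoint X → b ⤳ v → gen V v = b := fun v b hb hbv =>
      hdisc _ _ (hgen₁ V v) hb (specializes_iff_mem_closure.mpr
        (hbv.mem_open (hgen₃ V v) (specializes_iff_mem_closure.mp (hgen₂ V v))))
    have : IsPreimmersion (pr g V) :=
      MorphismProperty.pullback_fst (P := @IsPreimmersion) V.hom g
        (inferInstanceAs (IsPreimmersion (X.fromSpecResidueField (genericPoint X))))
    have hrefl : ∀ a b : ((EtCoh.bc g).obj V).left, pr g V a ⤳ pr g V b → a ⤳ b := fun a b hab =>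
      (pr g V).isEmbedding.isInducing.specializes_iff.mp hab
    refine ⟨fun v => h (lift V v), ?_, fun y => ?_⟩
    · refine (IsLocallyConstant.iff_exists_open _).mpr fun v =>
        ⟨closure {gen V v}, hgen₃ V v, specializes_iff_mem_closure.mp (hgen₂ V v), fun w hw => ?_⟩
      have he : gen V w = gen V v := huniq w _ (hgen₁ V v) (specializes_iff_mem_closure.mpr hw)
      have : lift V w = lift V v := (pr g V).isEmbedding.injective (by rw [hlift, hlift, he])
      rw [this]
    · obtain ⟨O, hO, hyO, hO'⟩ := (IsLocallyConstant.iff_exists_open h).mp hh y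
      refine hO' _ ((hrefl _ _ ?_).mem_open hO hyO)
      rw [hlift]
      exact hgen₂ V _

theorem subsingleton_H1_field (K : Type u) [Field K] (A : AddCommGrpCat.{u + 1}) [IsAddTorsionFree A] :
    Subsingleton (EtCoh.H (Spec (CommRingCat.of K)) ((cst (Spec (CommRingCat.of K))).obj A) 1) := by
  let X := Spec (CommRingCat.of K)
  refine subsingleton_of_forall_eq 0 fun z => ?_
  obtain ⟨m, hm, h0⟩ := isOfFinAddOrder_iff_nsmul_eq_zero.1
    (GalEt.isAddTorsion_H_field K ((cst X).obj A) 1 one_pos z)
  haveI : PreservesColimitsOfSize.{0, 0} (cst X) := (EtCore.constAdj X).leftAdjoint_preservesColimits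
  haveI : PreservesFiniteColimits (cst X) := PreservesColimitsOfSize.preservesFiniteColimits _
  haveI : PreservesBinaryBiproducts (cst X) := preservesBinaryBiproducts_of_preservesBinaryCoproducts _
  haveI : (cst X).Additive := Functor.additive_of_preservesBinaryBiproducts _
  let f : A ⟶ A := m • 𝟙 A
  haveI : Mono f := by
    refine (AddCommGrpCat.mono_iff_injective f).2 fun a b hab => ?_
    have h : ∀ (n : ℕ) (c : A), (n • 𝟙 A : A ⟶ A) c = n • c := fun n c => by
      induction n with
      | zero => simp
      | succ n ih => rw [succ_nsmul, succ_nsmul, ← ih]; rfl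
    exact nsmul_right_injective hm.ne' ((h m a).symm.trans (hab.trans (h m b)))
  let π : A ⟶ cokernel f := cokernel.π f
  have hS : (ShortComplex.mk f π (cokernel.condition f)).ShortExact :=
    { exact := ShortComplex.exact_cokernel _
      mono_f := inferInstance
      epi_g := inferInstanceAs (Epi (cokernel.π f)) }
  have hS' := hS.map_of_exact (cst X)
  have hz : Ext.comp z (Ext.mk₀ ((cst X).map f)) (add_zero 1) = 0 := by
    have e : (cst X).map f = m • 𝟙 ((cst X).obj A) := by
      rw [(cst X).map_nsmul, CategoryTheory.Functor.map_id]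
    rw [e]
    exact (GalEt.comp_nsmul_id _ _ z m).trans h0
  obtain ⟨y, hy⟩ := Ext.covariant_sequence_exact₁ _ hS' z hz (n₀ := 0) rfl
  obtain ⟨g, rfl⟩ := (Ext.mk₀_bijective _ _).2 y
  haveI : Subsingleton (EtCoh.top X).left := inferInstanceAs (Subsingleton X)
  haveI : Nonempty (EtCoh.top X).left := inferInstanceAs (Nonempty X)
  obtain ⟨b, hb⟩ := (NormalGeneric.bijective_cstSec_of_subsingleton (cokernel f) (EtCoh.top X)).2
    (EtLimit.secOf g)
  obtain ⟨a, rfl⟩ := (AddCommGrpCat.epi_iff_surjective π).1 inferInstance b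
  obtain ⟨g', hg'⟩ := EtLimit.exists_secOf (F := (cst X).obj A) (cstSec A (EtCoh.top X) a)
  have hgg : g' ≫ (cst X).map π = g := EtLimit.secOf_injective (by
    refine (TorsionColim.secOf_comp g' ((cst X).map π)).trans ?_
    rw [hg', ← hb]
    exact ConcreteCategory.congr_hom (cstSec_map π (EtCoh.top X)) a)
  rw [← hy, ← hgg, ← Ext.mk₀_comp_mk₀, Ext.comp_assoc_of_second_deg_zero]
  erw [hS'.comp_extClass, Ext.comp_zero]

/-- Let X be an irreducible scheme all of whose strict localizations are irreducible (for every point x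
and every strict henselization R of the local ring at x, Spec R is irreducible; that is, X is
geometrically unibranch), and M a torsion-free abelian group. Then H^1(X, M_X) = 0 for the constant
sheaf M_X on the small etale site. -/
theorem result (X : Scheme.{u}) [IrreducibleSpace X]
    (hX : ∀ (x : X) (R : Type u) [CommRing R] [IsLocalRing R] [Algebra (X.presheaf.stalk x) R]
      [IsLocalHom (algebraMap (X.presheaf.stalk x) R)] [Hensel.IsStrictHenselization (X.presheaf.stalk x) R],
      IrreducibleSpace (PrimeSpectrum R))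
    (M : Type) [AddCommGroup M] [IsAddTorsionFree M] :
    Subsingleton (EtCoh.H X (EtCoh.const X M) 1) := by
  let A := AddCommGrpCat.of (ULift.{u + 1} M)
  haveI : IsAddTorsionFree A := Function.Injective.isAddTorsionFree
    (AddEquiv.ulift : ULift.{u + 1} M ≃+ M).toAddMonoidHom AddEquiv.ulift.injective
  let g := X.fromSpecResidueField (genericPoint X)
  haveI := isIso_unit_generic X (isGeomUnibranch_stalk X hX) A
  let e : (cst X).obj A ≅ (EtCoh.push g).obj ((cst (Spec (X.residueField (genericPoint X)))).obj A) :=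
    asIso ((EtCoh.pullPushAdj g).unit.app ((cst X).obj A)) ≪≫ (EtCoh.push g).mapIso ((EtCore.pullConstIso g).app A)
  exact CdDev9.subsingleton_H_of_iso e.symm 1 (CdDev9.subsingleton_H_push g 0 _
    (subsingleton_H1_field (X.residueField (genericPoint X)) A) fun t r h => absurd h (Nat.succ_ne_zero _))

end Groth.Agent.S8528
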