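import Groth.Statements.S8539
import Groth.Agent.Et18.SHClosedPoint
-- import your own Groth.Agent.* helpers here

set_option autoImplicit false
universe u
open CategoryTheory CategoryTheory.Limits AlgebraicGeometry Opposite
open EtCd

namespace Groth.Agent.S8539

/-- Let X be a scheme of finite type over a field k, x a point of X and A a strict henselization of the
local ring of X at x. Then there are a separably closed field k', a scheme X' of finite type over k'
and a closed point x' of X' such that A is (isomorphic to) a strict henselization of the local ring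
of X' at x': some local algebra structure over that local ring makes A a strict henselization of it. -/
theorem result (k : Type u) [Field k] {X : Scheme.{u}}
    (f : X ⟶ Spec (CommRingCat.of k)) [LocallyOfFiniteType f] [QuasiCompact f] (x : X)
    (A : Type u) [CommRing A] [IsLocalRing A] [Algebra (X.presheaf.stalk x) A]
    [IsLocalHom (algebraMap (X.presheaf.stalk x) A)] [Hensel.IsStrictHenselization (X.presheaf.stalk x) A] :
    ∃ (k' : Type u) (_ : Field k') (_ : IsSepClosed k') (X' : Scheme.{u}) (f' : X' ⟶ Spec (CommRingCat.of k'))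
      (_ : LocallyOfFiniteType f') (_ : QuasiCompact f') (x' : X') (_ : IsClosed ({x'} : Set X'))
      (_ : Algebra (X'.presheaf.stalk x') A) (_ : IsLocalHom (algebraMap (X'.presheaf.stalk x') A)),
      Hensel.IsStrictHenselization (X'.presheaf.stalk x') A := by
  obtain ⟨_, ⟨U, hU, rfl⟩, hxU, -⟩ :=
    X.isBasis_affineOpens.exists_subset_of_mem_open (Set.mem_univ x) isOpen_univ
  have hft := HasRingHomProperty.appLE @LocallyOfFiniteType f inferInstance
    ⟨⊤, isAffineOpen_top _⟩ ⟨U, hU⟩ le_top
  let ψ : k →+* Γ(X, U) :=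
    (f.appLE ⊤ U le_top).hom.comp (Scheme.ΓSpecIso (CommRingCat.of k)).inv.hom
  have hψ : ψ.FiniteType := hft.comp
    (RingHom.FiniteType.of_surjective _ (Scheme.ΓSpecIso (CommRingCat.of k)).symm.commRingCatIsoToRingEquiv.surjective)
  algebraize [ψ]
  letI := X.presheaf.algebra_section_stalk (⟨x, hxU⟩ : ↥U)
  haveI := hU.isLocalization_stalk ⟨x, hxU⟩
  obtain ⟨E, iE, iS, C, iC, iA, iF, χ, hmax, hO⟩ :=
    Groth.Agent.Et18.SHClosed.exists_closed_model (k := k) (B := Γ(X, U)) (R := X.presheaf.stalk x) (A := A)
      (hU.primeIdealOf ⟨x, hxU⟩).asIdeal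
  let x' : Spec (CommRingCat.of C) := ⟨(IsLocalRing.maximalIdeal A).comap χ, hmax.isPrime⟩
  let φ : CommRingCat.of E ⟶ CommRingCat.of C := CommRingCat.ofHom (algebraMap E C)
  haveI : LocallyOfFiniteType (Spec.map φ) :=
    (HasRingHomProperty.Spec_iff (P := @LocallyOfFiniteType)).2 (RingHom.finiteType_algebraMap.2 iF)
  let O := (Spec (CommRingCat.of C)).presheaf.stalk x'
  letI : Algebra C O := StructureSheaf.stalkAlgebra (R := C) x'
  haveI : IsLocalization.AtPrime O ((IsLocalRing.maximalIdeal A).comap χ) :=
    StructureSheaf.IsLocalization.to_stalk C x'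
  have hu : ∀ s : ((IsLocalRing.maximalIdeal A).comap χ).primeCompl, IsUnit (χ s) := fun s => by
    have hs : χ (s : C) ∉ IsLocalRing.maximalIdeal A := s.2
    rwa [IsLocalRing.mem_maximalIdeal, mem_nonunits_iff, not_not] at hs
  let L : O →+* A := IsLocalization.lift (S := O) hu
  letI : Algebra O A := L.toAlgebra
  obtain ⟨hloc, hsh⟩ := hO O (RingHom.ext fun c => IsLocalization.lift_eq hu c)
  exact ⟨E, iE, iS, Spec (CommRingCat.of C), Spec.map φ, inferInstance, inferInstance, x',
    (PrimeSpectrum.isClosed_singleton_iff_isMaximal _).2 hmax, L.toAlgebra, hloc, hsh⟩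

end Groth.Agent.S8539
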