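import Groth.Statements.S8543
import Groth.Agent.Et18.SHClosedPointDVR
-- import your own Groth.Agent.* helpers here

set_option autoImplicit false
universe u
open CategoryTheory CategoryTheory.Limits AlgebraicGeometry Opposite
open EtCd

namespace Groth.Agent.S8543

/-- Let R be a discrete valuation ring, X a scheme of finite type over Spec R, x a point of X over the
closed point of Spec R, and A a strict henselization of the local ring of X at x. Then there are a
strictly henselian discrete valuation ring R' (henselian, with separably closed residue field), a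
scheme X' of finite type over Spec R', a closed point x' of X' over the closed point of Spec R', and
a local algebra structure over the local ring of X' at x' for which A is a strict henselization of
that local ring. -/
theorem result (R : Type u) [CommRing R] [IsDomain R]
    [IsDiscreteValuationRing R] {X : Scheme.{u}} (f : X ⟶ Spec (CommRingCat.of R)) [LocallyOfFiniteType f]
    [QuasiCompact f] (x : X)
    (hx : f.base x = ((IsLocalRing.closedPoint R : PrimeSpectrum R) : ↥(Spec (CommRingCat.of R))))
    (A : Type u) [CommRing A] [IsLocalRing A] [Algebra (X.presheaf.stalk x) A]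
    [IsLocalHom (algebraMap (X.presheaf.stalk x) A)] [Hensel.IsStrictHenselization (X.presheaf.stalk x) A] :
    ∃ (R' : Type u) (_ : CommRing R') (_ : IsDomain R') (_ : IsDiscreteValuationRing R') (_ : HenselianLocalRing R')
      (_ : IsSepClosed (IsLocalRing.ResidueField R'))
      (X' : Scheme.{u}) (f' : X' ⟶ Spec (CommRingCat.of R')) (_ : LocallyOfFiniteType f') (_ : QuasiCompact f')
      (x' : X') (_ : IsClosed ({x'} : Set X'))
      (_ : f'.base x' = ((IsLocalRing.closedPoint R' : PrimeSpectrum R') : ↥(Spec (CommRingCat.of R'))))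
      (_ : Algebra (X'.presheaf.stalk x') A) (_ : IsLocalHom (algebraMap (X'.presheaf.stalk x') A)),
      Hensel.IsStrictHenselization (X'.presheaf.stalk x') A := by
  obtain ⟨_, ⟨U, hU, rfl⟩, hxU, -⟩ :=
    X.isBasis_affineOpens.exists_subset_of_mem_open (Set.mem_univ x) isOpen_univ
  have hft := HasRingHomProperty.appLE @LocallyOfFiniteType f inferInstance
    ⟨⊤, isAffineOpen_top _⟩ ⟨U, hU⟩ le_top
  let ψc : CommRingCat.of R ⟶ Γ(X, U) := (Scheme.ΓSpecIso (CommRingCat.of R)).inv ≫ f.appLE ⊤ U le_top
  let ψ : R →+* Γ(X, U) := ψc.hom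
  have hψ : ψ.FiniteType := hft.comp
    (RingHom.FiniteType.of_surjective _ (Scheme.ΓSpecIso (CommRingCat.of R)).symm.commRingCatIsoToRingEquiv.surjective)
  algebraize [ψ]
  letI := X.presheaf.algebra_section_stalk (⟨x, hxU⟩ : ↥U)
  haveI := hU.isLocalization_stalk ⟨x, hxU⟩
  have hsq : hU.fromSpec ≫ f = Spec.map ψc := by
    rw [← IsAffineOpen.SpecMap_appLE_fromSpec f (isAffineOpen_top _) hU le_top, IsAffineOpen.fromSpec_top,
      Scheme.isoSpec_Spec_inv, ← Spec.map_comp]
  have hP : (hU.primeIdealOf ⟨x, hxU⟩).asIdeal.comap (algebraMap R Γ(X, U)) = IsLocalRing.maximalIdeal R := by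
    have h1 : Spec.map ψc (hU.primeIdealOf ⟨x, hxU⟩) = f.base x :=
      (congrArg (fun g : Spec Γ(X, U) ⟶ Spec (CommRingCat.of R) => g.base (hU.primeIdealOf ⟨x, hxU⟩)) hsq).symm.trans
        (congrArg f.base (hU.fromSpec_primeIdealOf ⟨x, hxU⟩))
    exact congrArg PrimeSpectrum.asIdeal (h1.trans hx)
  obtain ⟨R', iR, iD, iV, iH, iS, C, iC, iA, iF, χ, hmax, hcl, hO⟩ :=
    Groth.Agent.Et18.SHClosedDVR.exists_closed_model (k := R) (B := Γ(X, U)) (R := X.presheaf.stalk x) (A := A)
      (hU.primeIdealOf ⟨x, hxU⟩).asIdeal hP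
  let x' : Spec (CommRingCat.of C) := ⟨(IsLocalRing.maximalIdeal A).comap χ, hmax.isPrime⟩
  let φ : CommRingCat.of R' ⟶ CommRingCat.of C := CommRingCat.ofHom (algebraMap R' C)
  haveI : LocallyOfFiniteType (Spec.map φ) :=
    (HasRingHomProperty.Spec_iff (P := @LocallyOfFiniteType)).2 (RingHom.finiteType_algebraMap.2 iF)
  let O := (Spec (CommRingCat.of C)).presheaf.stalk x'
  letI : Algebra C O := StructureSheaf.stalkAlgebra (R := C) x'
  haveI : IsLocalization.AtPrime O ((IsLocalRing.maximalIdeal A).comap χ) :=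
    StructureSheaf.IsLocalization.to_stalk C x'
  have hu : ∀ s : ((IsLocalRing.maximalIdeal A).comap χ).primeCompl, IsUnit (χ s) := fun s => by
    have hs : χ (s : C) ∉ IsLocalRing.maximalIdeal A := s.2
    rwa [IsLocalRing.mem_maximalIdeal, mem_nonunits_iff, not_not] at hs
  let L : O →+* A := IsLocalization.lift (S := O) hu
  letI : Algebra O A := L.toAlgebra
  obtain ⟨hloc, hsh⟩ := hO O (RingHom.ext fun c => IsLocalization.lift_eq hu c)
  exact ⟨R', iR, iD, iV, iH, iS, Spec (CommRingCat.of C), Spec.map φ, inferInstance, inferInstance, x',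
    (PrimeSpectrum.isClosed_singleton_iff_isMaximal _).2 hmax, PrimeSpectrum.ext hcl, L.toAlgebra, hloc, hsh⟩

end Groth.Agent.S8543
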