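import Groth.Statements.S8544
import Groth.Agent.Et18.FinEtaleRadicial
-- import your own Groth.Agent.* helpers here

set_option autoImplicit false
universe u
open CategoryTheory CategoryTheory.Limits AlgebraicGeometry Opposite
open EtPBC

namespace Groth.Agent.S8544

/-- Let f : X → Y be a surjective morphism locally of finite presentation, with Y quasi-compact and
quasi-separated. Then there are a finite partition of Y by subschemes Y_i of finite presentation
over Y (immersions e_i of finite presentation with pairwise disjoint images covering Y) and, for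
each i, finite surjective morphisms g_i : Y_i'' → Y_i' and h_i : Y_i' → Y_i with h_i etale and g_i
flat, of finite presentation and radicial (universally injective), together with a Y-morphism s_i :
Y_i'' → X, i.e. s_i followed by f equals g_i, h_i, e_i composed. -/
theorem result {X Y : Scheme.{u}} (f : X ⟶ Y) [Surjective f]
    [LocallyOfFinitePresentation f] [CompactSpace Y] [QuasiSeparatedSpace Y] :
    ∃ (m : ℕ) (T T' T'' : Fin m → Scheme.{u}) (e : ∀ i, T i ⟶ Y) (hh : ∀ i, T' i ⟶ T i) (gg : ∀ i, T'' i ⟶ T' i)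
      (s : ∀ i, T'' i ⟶ X),
      (∀ i, IsImmersion (e i) ∧ LocallyOfFinitePresentation (e i) ∧ QuasiCompact (e i)) ∧
      Pairwise (fun i j => Disjoint (Set.range (e i).base) (Set.range (e j).base)) ∧
      (⋃ i, Set.range (e i).base) = Set.univ ∧
      (∀ i, IsFinite (hh i) ∧ Surjective (hh i) ∧ Etale (hh i)) ∧
      (∀ i, IsFinite (gg i) ∧ Surjective (gg i) ∧ Flat (gg i) ∧ LocallyOfFinitePresentation (gg i) ∧
        UniversallyInjective (gg i)) ∧
      ∀ i, s i ≫ f = gg i ≫ hh i ≫ e i := by
  obtain ⟨ι, _, T, e, he, hd, hu, hG⟩ := Groth.Agent.FlatMor12.AffineStrata.exists_disjoint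
    (fun T t => Groth.Agent.Et18.FinEtaleRadicial.Good f T t)
    (fun _ _ a t => Groth.Agent.Et18.FinEtaleRadicial.Good.precomp a t)
    (fun s => Groth.Agent.Et18.FinEtaleRadicial.exists_good f s)
  obtain ⟨m, ⟨eι⟩⟩ := Finite.exists_equiv_fin ι
  choose T' T'' hh gg s hh' hg hs using hG
  refine ⟨m, fun i => T (eι.symm i), fun i => T' (eι.symm i), fun i => T'' (eι.symm i), fun i => e _,
    fun i => hh _, fun i => gg _, fun i => s _, fun i => ⟨(he _).2.1, (he _).2.2.2, (he _).2.2.1⟩,
    fun i j hij => hd _ _ (fun h => hij (eι.symm.injective h)), ?_, fun i => ⟨(hh' _).2.2, (hh' _).2.1, (hh' _).1⟩,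
    fun i => ⟨(hg _).2.2.2.2, (hg _).2.2.1, (hg _).1, (hg _).2.2.2.1, (hg _).2.1⟩, fun i => hs _⟩
  rw [← hu]
  exact eι.symm.surjective.iUnion_comp (fun i => Set.range (e i).base)

end Groth.Agent.S8544
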