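import Groth.Statements.S8545
import Groth.Agent.Et18.StrictLocTrd
-- import your own Groth.Agent.* helpers here

set_option autoImplicit false
universe u
open CategoryTheory CategoryTheory.Limits AlgebraicGeometry Opposite
open EtCd

namespace Groth.Agent.S8545

/-- Let f : X → Y be a morphism of schemes of finite type over a field k, x a point of X with image y,
y₀ a specialization of y in Y, R a strict henselization of the local ring of Y at y₀ with Y' = Spec
R → Y the strict localization and X' = X ×_Y Y' with projection f' : X' → Y', and let x' be a point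
of X' lying over x, with image y' in Y'. Writing δ(x') = dim closure(y') + trdeg(κ(x')/κ(y'))
(closure in Y' = Spec R, so dim closure(y') = dim R/p_{y'}) and d for the dimension of the closure
of a point in X or Y, one has δ(x') = d(x) - d(y₀); stated as δ(x') + d(y₀) = d(x). -/
theorem result (k : Type u) [Field k] {X Y : Scheme.{u}}
    (aX : X ⟶ Spec (CommRingCat.of k)) (aY : Y ⟶ Spec (CommRingCat.of k)) [LocallyOfFiniteType aX] [QuasiCompact aX]
    [LocallyOfFiniteType aY] [QuasiCompact aY] (f : X ⟶ Y) (w : f ≫ aY = aX) (x : X) (y₀ : Y) (hsp : f.base x ⤳ y₀)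
    (R : Type u) [CommRing R] [IsLocalRing R] [Algebra (Y.presheaf.stalk y₀) R]
    [IsLocalHom (algebraMap (Y.presheaf.stalk y₀) R)] [Hensel.IsStrictHenselization (Y.presheaf.stalk y₀) R]
    (x' : ↥(pullback f (Hens2.specOf Y y₀ R))) (hx' : (pullback.fst f (Hens2.specOf Y y₀ R)).base x' = x)
    (a b dx dy : ℕ)
    (ha : ringKrullDim (R ⧸ ((pullback.snd f (Hens2.specOf Y y₀ R)).base x').asIdeal) = a)
    (hb : letI := ((pullback.snd f (Hens2.specOf Y y₀ R)).residueFieldMap x').hom.toAlgebra;
      Algebra.trdeg ((Spec (CommRingCat.of R)).residueField ((pullback.snd f (Hens2.specOf Y y₀ R)).base x'))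
        ((pullback f (Hens2.specOf Y y₀ R)).residueField x') = b)
    (hdx : topologicalKrullDim ↥(closure ({x} : Set X)) = dx)
    (hdy : topologicalKrullDim ↥(closure ({y₀} : Set Y)) = dy) :
    a + b + dy = dx := by
  haveI : LocallyOfFiniteType (f ≫ aY) := w ▸ ‹LocallyOfFiniteType aX›
  let g := Hens2.specOf Y y₀ R
  let y' := (pullback.snd f g).base x'
  subst hx'
  have hA := Et18.StrictLocTrd.isUniversallyCatenary_stalk aY y₀
  haveI : IsLocallyNoetherian Y := LocallyOfFiniteType.isLocallyNoetherian aY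
  -- the point under `y'`
  let φ := CommRingCat.ofHom (algebraMap (Y.presheaf.stalk y₀) R)
  let P : PrimeSpectrum (Y.presheaf.stalk y₀) := Spec.map φ y'
  have hg : g y' = f ((pullback.fst f g).base x') :=
    (congrArg (fun m : pullback f g ⟶ Y => m x') (pullback.condition (f := f) (g := g))).symm
  have hP : EGA43.DimFormula.toPt y₀ P = f ((pullback.fst f g).base x') := hg
  -- `dim R/q = cod (y, y₀)`
  have hcod : EGA43.DimFormula.cod (f ((pullback.fst f g).base x')) y₀ = a := by
    rw [← hP, EGA43.DimFormula.cod_toPt]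
    haveI := EGA43.DimFormula.isLocalRing_quotient P.asIdeal P.isPrime.ne_top
    have h := Et18.SHDim.ringKrullDim_quotient_strictHenselization hA R y'.asIdeal
    rw [ha, show y'.asIdeal.comap (algebraMap (Y.presheaf.stalk y₀) R) = P.asIdeal from rfl,
      EGA43.DimFormula.ringKrullDim_eq_natDim] at h
    exact_mod_cast h.symm
  -- the residue fields
  have hb' : EGA43.DimFormula.trdAt f ((pullback.fst f g).base x') = b := by
    letI := ((pullback.fst f g).residueFieldMap x').hom.toAlgebra
    letI := ((pullback.snd f g).residueFieldMap x').hom.toAlgebra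
    letI := (f.residueFieldMap ((pullback.fst f g).base x')).hom.toAlgebra
    letI := (((pullback.fst f g ≫ f).residueFieldMap x')).hom.toAlgebra
    have h0 := Et18.StrictLocTrd.trdeg_residueFieldMap_specOf_eq_zero y₀ R y'
    have h1 : @Algebra.trdeg (X.residueField ((pullback.fst f g).base x'))
        ((pullback f g).residueField x') _ _
        ((pullback.fst f g).residueFieldMap x').hom.toAlgebra = 0 :=
      nonpos_iff_eq_zero.1 ((Et18.ResComp.trdeg_fst_le f g x').trans h0.le)
    have hfc : ∀ {S T U : Type u} [Field S] [Field T] [Field U] (φ₁ : S →+* T) (φ₂ : T →+* U),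
        @Algebra.trdeg S U _ _ (φ₂.comp φ₁).toAlgebra =
          @Algebra.trdeg S T _ _ φ₁.toAlgebra + @Algebra.trdeg T U _ _ φ₂.toAlgebra := by
      intro S T U _ _ _ φ₁ φ₂
      letI := φ₁.toAlgebra
      letI := φ₂.toAlgebra
      letI := (φ₂.comp φ₁).toAlgebra
      haveI : IsScalarTower S T U := .of_algebraMap_eq' rfl
      exact (trdeg_add_eq S T (A := U)).symm
    have hcg : ∀ {m₁ m₂ : pullback f g ⟶ Y}, m₁ = m₂ →
        @Algebra.trdeg _ _ _ _ (m₁.residueFieldMap x').hom.toAlgebra =
          @Algebra.trdeg _ _ _ _ (m₂.residueFieldMap x').hom.toAlgebra := by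
      intro m₁ m₂ e
      subst e
      rfl
    have h2 := hcg (pullback.condition (f := f) (g := g))
    have hd : ∀ {W V U : Scheme.{u}} (m₁ : W ⟶ V) (m₂ : V ⟶ U) (w : W),
        @Algebra.trdeg _ _ _ _ ((m₁ ≫ m₂).residueFieldMap w).hom.toAlgebra =
          @Algebra.trdeg _ _ _ _ (m₂.residueFieldMap (m₁ w)).hom.toAlgebra +
            @Algebra.trdeg _ _ _ _ (m₁.residueFieldMap w).hom.toAlgebra := by
      intro W V U m₁ m₂ w
      exact (congrArg (fun m : U.residueField (m₂ (m₁ w)) ⟶ W.residueField w =>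
        @Algebra.trdeg _ _ _ _ m.hom.toAlgebra) (Scheme.residueFieldMap_comp m₁ m₂ w)).trans (hfc _ _)
    have h2 := ((hd _ _ _).symm.trans h2).trans (hd _ _ _)
    rw [h1, add_zero, h0, zero_add] at h2
    show (@Algebra.trdeg _ _ _ _ (f.residueFieldMap ((pullback.fst f g).base x')).hom.toAlgebra).toNat = b
    rw [h2, hb]
    exact Cardinal.toNat_natCast b
  -- over the field
  have hdim : ∀ {Z : Scheme.{u}} (aZ : Z ⟶ Spec (CommRingCat.of k)) [LocallyOfFiniteType aZ] (z : Z) (d : ℕ),
      topologicalKrullDim ↥(closure ({z} : Set Z)) = d → DimLib.ptDim aZ z = d := by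
    intro Z aZ _ z d h
    rw [DimLib.topologicalKrullDim_eq_ptDim_of_isGenericPoint aZ isGenericPoint_closure] at h
    exact_mod_cast h
  have hpt : ∀ {Z : Scheme.{u}} (aZ : Z ⟶ Spec (CommRingCat.of k)) [LocallyOfFiniteType aZ] (z : Z),
      EGA43.DimFormula.trdAt aZ z = DimLib.ptDim aZ z := fun aZ _ z => (Et18.StrictLocTrd.ptDim_eq aZ z).symm
  have e1 := EGA43.DimFormula.trdAt_trans f aY ((pullback.fst f g).base x')
  have e2 : EGA43.DimFormula.trdAt (f ≫ aY) ((pullback.fst f g).base x') = dx := by
    subst w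
    rw [hpt]
    exact hdim (f ≫ aY) _ dx hdx
  have e3 := EGA43.DimFormula.eq_formula aY hsp (Et18.StrictLocTrd.isUniversallyCatenary_stalk (𝟙 _) _)
  have e4 : EGA43.DimFormula.cod (aY (f ((pullback.fst f g).base x'))) (aY y₀) = 0 := by
    rw [Subsingleton.elim (α := ↥(Spec (CommRingCat.of k))) (aY (f ((pullback.fst f g).base x'))) (aY y₀)]
    exact EGA43.DimFormula.cod_self _
  rw [e4, zero_add, hcod, hpt aY y₀, hdim aY y₀ dy hdy] at e3
  rw [e2, hb'] at e1
  dsimp only [g] at e1 e3
  omega

end Groth.Agent.S8545
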