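import Groth.Statements.S8547
import Groth.Agent.Et18.SecPullBaseChange
-- import your own Groth.Agent.* helpers here

set_option autoImplicit false
universe u
open CategoryTheory CategoryTheory.Limits AlgebraicGeometry Opposite
open EtBC

namespace Groth.Agent.S8547

/-- Let h : Y → X and p : X̄ → X be morphisms of schemes with X, Y, X̄ quasi-compact and quasi-separated
(p need not be surjective), and Ȳ = Y ×_X X̄ with projections h̄ : Ȳ → X̄ and p_Y : Ȳ → Y. If the
pullback map on global sections Γ(X, F) → Γ(Y, h^*F) is injective for every sheaf of sets F on X and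
the base change morphism h^* p_* F̄ → p_{Y*} h̄^* F̄ is a monomorphism for every sheaf of sets F̄ on
X̄, then Γ(X̄, F̄) → Γ(Ȳ, h̄^*F̄) is injective for every F̄. If the maps for h are bijective and the
base change morphisms are isomorphisms, then the maps for h̄ are bijective. -/
theorem result {X Y Xb Yb : Scheme.{u}} [CompactSpace X]
    [QuasiSeparatedSpace X] [CompactSpace Y] [QuasiSeparatedSpace Y] [CompactSpace Xb] [QuasiSeparatedSpace Xb]
    (h : Y ⟶ X) (p : Xb ⟶ X) (hb : Yb ⟶ Xb) (pY : Yb ⟶ Y) (sq : IsPullback hb pY p h) :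
    ((∀ F : EtDesc.Sh X, Function.Injective (EtDesc.secPull h F)) →
      (∀ Fb : EtDesc.Sh Xb, Mono (EtBC.baseChange0Sh p h pY hb sq.w Fb)) →
      ∀ Fb : EtDesc.Sh Xb, Function.Injective (EtDesc.secPull hb Fb)) ∧
    ((∀ F : EtDesc.Sh X, Function.Bijective (EtDesc.secPull h F)) →
      (∀ Fb : EtDesc.Sh Xb, IsIso (EtBC.baseChange0Sh p h pY hb sq.w Fb)) →
      ∀ Fb : EtDesc.Sh Xb, Function.Bijective (EtDesc.secPull hb Fb)) := by
  have hbij : ∀ {Z : Scheme.{u}} (G : EtDesc.Sh Z) {A B : Z.Etale} (i : A ≅ B),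
      Function.Bijective (G.obj.map i.hom.op) := fun G A B i => (isIso_iff_bijective _).mp inferInstance
  have key := fun (Fb : EtDesc.Sh Xb) s => Groth.Agent.Et18.baseChange0Sh_secPull p h pY hb sq.w Fb s
  have inj : (∀ F : EtDesc.Sh X, Function.Injective (EtDesc.secPull h F)) →
      (∀ Fb : EtDesc.Sh Xb, Mono (EtBC.baseChange0Sh p h pY hb sq.w Fb)) →
      ∀ Fb : EtDesc.Sh Xb, Function.Injective (EtDesc.secPull hb Fb) := fun h1 h2 Fb s t hst => by
    haveI := h2 Fb
    have hm : Mono ((EtBC.baseChange0Sh p h pY hb sq.w Fb).hom.app (op (EtCoh.top Y))) :=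
      inferInstanceAs (Mono ((sheafToPresheaf _ _ ⋙ (evaluation _ _).obj (op (EtCoh.top Y))).map
        (EtBC.baseChange0Sh p h pY hb sq.w Fb)))
    refine (hbij Fb (EtCore.bcTopIso p)).injective (h1 _ ((mono_iff_injective _).mp hm ?_))
    rw [key, key, hst]
  refine ⟨inj, fun h1 h2 Fb => ⟨inj (fun F => (h1 F).injective)
    (fun G => haveI := h2 G; inferInstance) Fb, fun v => ?_⟩⟩
  haveI := h2 Fb
  have hb0 := (isIso_iff_bijective ((EtBC.baseChange0Sh p h pY hb sq.w Fb).hom.app (op (EtCoh.top Y)))).mp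
    (inferInstanceAs (IsIso ((sheafToPresheaf _ _ ⋙ (evaluation _ _).obj (op (EtCoh.top Y))).map
        (EtBC.baseChange0Sh p h pY hb sq.w Fb))))
  obtain ⟨z, hz⟩ := hb0.surjective
    (((EtDesc.pullSh hb).obj Fb).obj.map (EtCore.bcTopIso pY).hom.op v)
  obtain ⟨s', rfl⟩ := (h1 _).surjective z
  obtain ⟨s, rfl⟩ := (hbij Fb (EtCore.bcTopIso p)).surjective s'
  rw [key] at hz
  exact ⟨s, (hbij _ (EtCore.bcTopIso pY)).injective hz⟩

end Groth.Agent.S8547
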