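import Groth.Statements.S8549
import Groth.Agent.Et18.H0Lift.ConsistentBC
import Groth.Agent.Et18.H0Lift.EffectiveFlat
import Groth.Agent.Et18.H0Lift.ConnNoethScheme
import Groth.Agent.Et18.H0Lift.ConnStrictScheme
import Mathlib.AlgebraicGeometry.Morphisms.FlatDescent
-- import your own Groth.Agent.* helpers here

set_option autoImplicit false
universe u
open CategoryTheory CategoryTheory.Limits AlgebraicGeometry Opposite
open EtAcyc

namespace Groth.Agent.S8549

/-- Flat with separable fibres: let g : X → Y be surjective and flat with separable fibres (every base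
change of a fibre of g to a field is a reduced scheme), and assume either that X and Y are locally
Noetherian and g is quasi-compact and quasi-separated or universally open, or that g is locally of
finite presentation. Then g is a morphism of universal effective descent for etale sheaves of sets:
for every base change g₁ : X₁ → Y₁ of g and every sheaf of sets on the small etale site of X₁ with
an isomorphism pr₁^* F' ≅ pr₂^* F' satisfying the cocycle condition, the datum is effective. -/
theorem result {X Y : Scheme.{u}} (g : X ⟶ Y) [Surjective g] [Flat g]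
    (hsep : ∀ (K : Type u) [Field K] (k : Spec (CommRingCat.of K) ⟶ Y), IsReduced (pullback g k))
    (h : (IsLocallyNoetherian X ∧ IsLocallyNoetherian Y ∧ ((QuasiCompact g ∧ QuasiSeparated g) ∨ UniversallyOpen g)) ∨
      LocallyOfFinitePresentation g) :
    ∀ ⦃X₁ Y₁ : Scheme.{u}⦄ (g₁ : X₁ ⟶ Y₁) (b' : X₁ ⟶ X) (b : Y₁ ⟶ Y), IsPullback b' g₁ g b →
      ∀ (F' : EtDesc.Sh X₁)
        (φ : (EtDesc.pullSh (pullback.fst g₁ g₁)).obj F' ≅ (EtDesc.pullSh (pullback.snd g₁ g₁)).obj F'),
        EtDesc.IsCocycle F' φ → EtDesc.IsEffective g₁ F' φ := by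
  intro X₁ Y₁ g₁ b' b sq F' φ hφ
  have : Surjective g₁ := MorphismProperty.of_isPullback (P := @Surjective) sq inferInstance
  have : Flat g₁ := MorphismProperty.of_isPullback (P := @Flat) sq inferInstance
  have hopen : UniversallyOpen g → EtAcyc.IsULocZeroAcyclic g → EtDesc.IsEffective g₁ F' φ := fun _ hg => by
    have : UniversallyOpen g₁ := MorphismProperty.of_isPullback (P := @UniversallyOpen) sq inferInstance
    exact Et18.H0Lift.isEffective_of_consistent φ hφ (Et18.H0Lift.consistent_of_uLocZeroAcyclic φ hφ
      (Et18.H0Lift.isULocZeroAcyclic_of_isPullback hg sq))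
  rcases h with ⟨hX, hY, hq | ho⟩ | hlfp
  · have hg := Et18.H0Lift.isULocZeroAcyclic_of_noetherian g hsep
    obtain ⟨hqc, hqs⟩ := hq
    have : QuasiCompact g₁ := MorphismProperty.of_isPullback (P := @QuasiCompact) sq inferInstance
    have : QuasiSeparated g₁ := MorphismProperty.of_isPullback (P := @QuasiSeparated) sq inferInstance
    exact Et18.H0Lift.isEffective_of_flat φ hφ (Et18.H0Lift.isIso_baseChange0Sh_of_uLocZeroAcyclic
      (IsPullback.of_hasPullback g₁ g₁) (Et18.H0Lift.isULocZeroAcyclic_of_isPullback hg sq) F')
  · exact hopen ho (Et18.H0Lift.isULocZeroAcyclic_of_noetherian g hsep)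
  · exact hopen inferInstance (Et18.H0Lift.isULocZeroAcyclic_of_geomRed g hsep)

end Groth.Agent.S8549
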