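import Groth.Statements.S8554
import Groth.Agent.NonAb.Godement
import Groth.Agent.NonAb.EtaleSieve

set_option autoImplicit false
universe u
open CategoryTheory CategoryTheory.Limits AlgebraicGeometry Opposite
open NonAbH1

namespace Groth.Agent.S8554

/-- Every sheaf of groups F on the small etale site of a scheme X embeds into a sheaf of groups G with
vanishing first non-abelian cohomology on every etale X-scheme: there are G and a morphism u : F ⟶
G, injective on sections over every object of the site, such that for every etale X-scheme U every
torsor under the restriction of G to the induced site over U is trivial, i.e. H¹(U, G) is reduced to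
its base point. (The published statement adds that the first higher direct images of G along any
morphism of schemes then vanish as pointed sheaves; that clause follows from this one and is not
stated here.) -/
theorem result {X : Scheme.{u}}
    (F : Sheaf X.smallEtaleTopology GrpCat.{u + 1}) :
    ∃ (G : Sheaf X.smallEtaleTopology GrpCat.{u + 1}) (φ : F ⟶ G),
      (∀ U : X.Etaleᵒᵖ, Function.Injective (φ.hom.app U)) ∧
      ∀ (U : X.Etale) (P : NonAbH1.Torsor (G.over U)), P.IsTrivial := by
  let K : X → X.Etale ⥤ Type u := fun s => (Scheme.pointSmallEtale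
    ((Scheme.SpecToEquivOfField (SeparableClosure (X.residueField s)) _).symm
      ⟨s, CommRingCat.ofHom (algebraMap (X.residueField s) _)⟩)).fiber
  have : ∀ s, IsCofiltered (K s).Elements := fun s => GrothendieckTopology.Point.isCofiltered _
  have hjs : ∀ p ⦃U : X.Etale⦄ (S : Sieve U), S ∈ X.smallEtaleTopology U → ∀ x : (K p).obj U,
      ∃ (V : X.Etale) (f : V ⟶ U) (_ : S f) (y : (K p).obj V), (K p).map f y = x :=
    fun p U S hS x => GrothendieckTopology.Point.jointly_surjective _ S hS x
  refine ⟨NonAbLib.godement K F.obj X.smallEtaleTopology hjs,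
    ⟨NonAbLib.toGodementPre K F.obj⟩, NonAbLib.toGodementPre_injective K ?_ F,
    fun U P => NonAbLib.isTrivial_torsor_godement K F.obj hjs U P⟩
  intro U S hS
  refine NonAbLib.mem_smallEtale_of_forall fun t => ?_
  have hs₀ : ((Scheme.SpecToEquivOfField (SeparableClosure (X.residueField (U.hom t))) _).symm
      ⟨U.hom t, CommRingCat.ofHom (algebraMap (X.residueField (U.hom t)) _)⟩) default = U.hom t := by
    simp [Scheme.SpecToEquivOfField]
  obtain ⟨x, hx⟩ := Scheme.pointSmallEtaleFiberObjToPreimage_surjective _ hs₀ U ⟨t, rfl⟩
  obtain ⟨V, f, hf, y, hy⟩ := hS (U.hom t) x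
  refine ⟨V, f, (Scheme.pointSmallEtaleFiberObjToPreimage _ hs₀ y).1, hf, ?_⟩
  refine Eq.trans ?_ (congrArg Subtype.val hx)
  rw [← hy]
  rfl

end Groth.Agent.S8554
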