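import Groth.Statements.S8562
import Groth.Agent.NonAb.EtaleSieve

set_option autoImplicit false
universe u
open CategoryTheory CategoryTheory.Limits AlgebraicGeometry Opposite
open NonAbH1

namespace Groth.Agent.S8562

/-- Exactness of the sequence 0 → H¹(Y, f_*F) → H¹(X, F) → H⁰(Y, R¹f_*F) at its middle term, in terms of
torsors: let f : X ⟶ Y be a morphism of schemes, F a sheaf of groups on the small etale site of X,
f_*F its direct image on Y (sections over an etale Y-scheme V are the sections of F over X ×_Y V),
and Q an F-torsor. Then Q is the image of a class in H¹(Y, f_*F), in the sense that there are an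
f_*F-torsor P on Y and a morphism of sheaves of sets from P to the direct image of the sheaf
underlying Q which is equivariant for the actions of f_*F, if and only if the class of Q is locally
trivial over Y: there is a jointly surjective family of etale Y-schemes Y_i such that Q has a
section over every X ×_Y Y_i. -/
theorem result {X Y : Scheme.{u}} (f : X ⟶ Y)
    [EtCoh.BCCont f] (F : Sheaf X.smallEtaleTopology GrpCat.{u + 1}) (Q : NonAbH1.Torsor F) :
    (∃ (P : NonAbH1.Torsor (((EtCoh.bc f).sheafPushforwardContinuous GrpCat.{u + 1}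
        Y.smallEtaleTopology X.smallEtaleTopology).obj F))
      (φ : P.P ⟶ ((EtCoh.bc f).sheafPushforwardContinuous (Type (u + 1))
        Y.smallEtaleTopology X.smallEtaleTopology).obj Q.P),
      ∀ (V : Y.Etaleᵒᵖ) (g : F.obj.obj (op ((EtCoh.bc f).obj V.unop))) (s : P.P.obj.obj V),
        φ.hom.app V (P.smul g s) = Q.smul g (φ.hom.app V s)) ↔
    ∃ (ι : Type u) (V : ι → Y.Etale), EtCoh.Covers V ∧
      ∀ i, Nonempty (Q.P.obj.obj (op ((EtCoh.bc f).obj (V i)))) := by
  constructor
  · rintro ⟨P, φ, hφ⟩
    obtain ⟨S, hS, hS'⟩ := P.isTorsor.2 (EtCoh.top Y)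
    have key := fun y : Y => NonAbLib.exists_mem_of_mem_smallEtale hS y
    choose V g v hg hv using key
    refine ⟨Y, V, fun y => ⟨y, v y, ?_⟩, fun y => (hS' (g y) (hg y)).map (φ.hom.app _)⟩
    have h : (g y).left ≫ (EtCoh.top Y).hom = (V y).hom := MorphismProperty.Over.w (g y)
    rw [← h]
    exact hv y
  · rintro ⟨ι, V, hV, hne⟩
    let P : NonAbH1.GSheaf (((EtCoh.bc f).sheafPushforwardContinuous GrpCat.{u + 1}
        Y.smallEtaleTopology X.smallEtaleTopology).obj F) :=
      { P := ((EtCoh.bc f).sheafPushforwardContinuous (Type (u + 1))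
          Y.smallEtaleTopology X.smallEtaleTopology).obj Q.P
        smul := fun {U} g p => Q.smul g p
        one_smul := fun {U} p => Q.one_smul p
        mul_smul := fun {U} g h p => Q.mul_smul g h p
        map_smul := fun {U W} a g p => Q.map_smul _ g p }
    refine ⟨⟨P, fun U p q => Q.isTorsor.1 _ p q, fun U =>
      ⟨_, NonAbLib.ofObjects_mem_of_covers hV U, ?_⟩⟩, 𝟙 _, fun _ _ _ => rfl⟩
    rintro W g ⟨i, ⟨a⟩⟩
    exact (hne i).map (fun s => Q.P.obj.map ((EtCoh.bc f).map a).op s)

end Groth.Agent.S8562
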