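import Groth.Statements.S8564
import Groth.Agent.SiteCoh.TotallyAcyclic

set_option autoImplicit false
open CategoryTheory CategoryTheory.Limits
universe u
open CohCx

namespace Groth.Agent.S8564aux

open CategoryTheory.Abelian Groth.Agent.SiteCoh Groth.Agent.SiteCoh.Nerve

variable {C : Type u} [SmallCategory C] {J : GrothendieckTopology C} {T : Type u}

/-- Products of totally acyclic sheaves. -/
def IsProd (G : Sheaf J AddCommGrpCat.{u}) : Prop :=
  ∃ F : T → Sheaf J AddCommGrpCat.{u}, (∀ t, CohCx.IsTotallyAcyclic (F t)) ∧ G = ∏ᶜ F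

def IsFree (X : Sheaf J AddCommGrpCat.{u}) : Prop :=
  ∃ K : Sheaf J (Type u), X = (freeSh J).obj K

lemma exists_step (G : Sheaf J AddCommGrpCat.{u}) (hG : IsProd (T := T) G) :
    ∃ (I F' : Sheaf J AddCommGrpCat.{u}) (f : G ⟶ I) (g : I ⟶ F') (w : f ≫ g = 0),
      Injective I ∧ (ShortComplex.mk f g w).ShortExact ∧ IsProd (T := T) F' ∧
      ∀ X, IsFree X → ∀ a : X ⟶ F', ∃ b : X ⟶ I, b ≫ g = a := by
  obtain ⟨F, hF, rfl⟩ := hG
  let f := Limits.Pi.map fun t => (injEmbed (F t)).f
  let g := Limits.Pi.map fun t => (injEmbed (F t)).g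
  have w : f ≫ g = 0 := Pi.hom_ext _ _ fun t => by simp [f, g]
  haveI : ∀ t, Injective (injEmbed (F t)).X₂ := fun t => inferInstanceAs (Injective (Injective.under (F t)))
  haveI : ∀ t, Mono (injEmbed (F t)).f := fun t => (injEmbed_shortExact (F t)).mono_f
  haveI : Mono f := inferInstanceAs (Mono (Limits.Pi.map _))
  have hlift : ∀ X, IsFree X → ∀ a : X ⟶ ∏ᶜ (fun t => (injEmbed (F t)).X₃),
      ∃ b : X ⟶ ∏ᶜ (fun t => (injEmbed (F t)).X₂), b ≫ g = a := by
    rintro X ⟨K, rfl⟩ a
    choose b hb using fun t => exists_comp_eq_of_subsingleton_ext (injEmbed_shortExact (F t))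
      (hF t K 0) (a ≫ Pi.π _ t)
    exact ⟨Pi.lift b, Pi.hom_ext _ _ fun t => by simp [g, hb]⟩
  have hex : (ShortComplex.mk f g w).Exact := by
    refine ShortComplex.exact_of_f_is_kernel _ ((KernelFork.IsLimit.ofι' f w) fun {A} k hk => ?_)
    choose l hl using fun t => show ∃ l, l ≫ (injEmbed (F t)).f = k ≫ Pi.π _ t from
      ⟨(injEmbed_shortExact (F t)).exact.lift (k ≫ Pi.π _ t) (by
        simpa [g] using congrArg (fun m => m ≫ Pi.π _ t) hk), ShortComplex.Exact.lift_f _ _ _⟩
    exact ⟨Pi.lift l, Pi.hom_ext _ _ fun t => by simp [f, hl]⟩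
  haveI : Epi g := by
    let adj := freeShAdj J
    let Q := ∏ᶜ (fun t => (injEmbed (F t)).X₃)
    obtain ⟨b, hb⟩ := hlift _ ⟨_, rfl⟩ (adj.counit.app Q)
    haveI : Epi (b ≫ g) := hb ▸ (inferInstance : Epi (adj.counit.app Q))
    exact epi_of_epi b g
  exact ⟨_, _, f, g, w, inferInstance, { exact := hex },
    ⟨_, fun t K p => subsingleton_ext_X₃ (injEmbed_shortExact (F t)) (p + 1)
      (Ext.subsingleton_of_injective _ _ p) (hF t K (p + 1)), rfl⟩, hlift⟩

theorem main (F : T → Sheaf J AddCommGrpCat.{u}) (hF : ∀ t, CohCx.IsTotallyAcyclic (F t)) :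
    CohCx.IsTotallyAcyclic (∏ᶜ F) := fun K p =>
  subsingleton_ext_of_class _ _ exists_step (X := (freeSh J).obj K) ⟨K, rfl⟩ (F := ∏ᶜ F) ⟨F, hF, rfl⟩ p

end Groth.Agent.S8564aux

namespace Groth.Agent.S8564

/-- Let (F_t) be a family of abelian sheaves on a small site, indexed by a small set, such that each F_t
is totally acyclic, i.e. H^p(K, F_t) = 0 for every sheaf of sets K and every p > 0. Then the product
sheaf of the family is totally acyclic. (The published statement is for modules over a ringed topos;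
this row is the case of abelian sheaves.) -/
theorem result {C : Type u} [SmallCategory C] (J : GrothendieckTopology C)
    {T : Type u} (F : T → Sheaf J AddCommGrpCat.{u}) (hF : ∀ t, CohCx.IsTotallyAcyclic (F t)) :
    CohCx.IsTotallyAcyclic (∏ᶜ F) := by
  exact Groth.Agent.S8564aux.main F hF

end Groth.Agent.S8564
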