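import Mathlib.AlgebraicTopology.SimplicialObject.Homotopy
import Mathlib.CategoryTheory.Limits.Shapes.FiniteLimits
import Groth.Agent.SSet16.CoskHomotopy

set_option autoImplicit false
namespace CategoryTheory
end CategoryTheory
namespace CategoryTheory.Limits
end CategoryTheory.Limits
namespace Opposite
end Opposite
open CategoryTheory CategoryTheory.Limits Opposite
universe v u
namespace Hyper
end Hyper
open Hyper

namespace Groth.Agent.S8565

/-- Let E be a category with finite limits, n a natural number and f, g : X ⟶ X' two morphisms of
simplicial objects of E whose components agree in every degree p < n. Then there is a simplicial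
homotopy between the morphisms cosk_n(f) and cosk_n(g) of n-coskeleta (cosk_n = right Kan extension
of the n-truncation; Mathlib's combinatorial simplicial homotopies). For n = 0 the hypothesis is
empty. -/
theorem result {E : Type u} [Category.{v} E] [HasFiniteLimits E] (n : ℕ)
    [∀ (F : (SimplexCategory.Truncated n)ᵒᵖ ⥤ E), (SimplexCategory.Truncated.inclusion n).op.HasRightKanExtension F]
    {X X' : SimplicialObject E} (f g : X ⟶ X')
    (hfg : ∀ p : ℕ, p < n → f.app (op (SimplexCategory.mk p)) = g.app (op (SimplexCategory.mk p))) :
    Nonempty (SimplicialObject.Homotopy ((SimplicialObject.cosk n).map f) ((SimplicialObject.cosk n).map g)) := by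
  haveI : SimplicialObject.IsCoskeletal ((SimplicialObject.cosk n).obj X') n := by
    rw [SimplicialObject.isCoskeletal_iff_isIso]
    let Y := (SimplicialObject.truncation n).obj X'
    let adj := SimplicialObject.coskAdj (C := E) n
    haveI : IsIso adj.counit := inferInstanceAs (IsIso (SimplicialObject.coskAdj (C := E) n).counit)
    haveI : IsIso ((SimplicialObject.Truncated.cosk n).map (adj.counit.app Y)) := inferInstance
    haveI : IsIso (𝟙 ((SimplicialObject.Truncated.cosk n).obj Y)) := IsIso.id _
    exact IsIso.of_isIso_fac_right (adj.right_triangle_components Y)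
  refine Groth.Agent.SSet16.exists_homotopy _ _ n fun p hp => ?_
  let adj := SimplicialObject.coskAdj (C := E) n
  haveI : IsIso adj.counit := inferInstanceAs (IsIso (SimplicialObject.coskAdj (C := E) n).counit)
  let P : (SimplexCategory.Truncated n)ᵒᵖ := op ⟨SimplexCategory.mk p, le_of_lt hp⟩
  let T := SimplicialObject.truncation (C := E) n
  have key : ∀ h : X ⟶ X', ((SimplicialObject.cosk n).map h).app (op (SimplexCategory.mk p)) ≫
      (adj.counit.app (T.obj X')).app P =
      (adj.counit.app (T.obj X)).app P ≫ h.app (op (SimplexCategory.mk p)) := fun h =>
    NatTrans.congr_app (adj.counit.naturality (T.map h)) P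
  refine (cancel_mono ((adj.counit.app (T.obj X')).app P)).1 ?_
  exact (key f).trans ((congrArg (_ ≫ ·) (hfg p hp)).trans (key g).symm)

end Groth.Agent.S8565
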