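import Groth.Prelude.Def_CohTop
import Mathlib.Topology.Sheaves.Flasque
import Groth.Agent.SiteCoh.CompactPull

set_option autoImplicit false
namespace CategoryTheory
end CategoryTheory
namespace TopologicalSpace
end TopologicalSpace
namespace Opposite
end Opposite
open CategoryTheory TopologicalSpace Opposite
universe u
namespace CohTop
end CohTop
open CohTop

namespace Groth.Agent.S8567

open Groth.Agent.SiteCoh Groth.Agent.SiteCoh.Compact

/-- Let X be a topological space, K ⊆ X a compact subset such that any two distinct points of K have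
disjoint neighbourhoods in X, and F a flasque abelian sheaf on X. Then the inverse image F|K of F on
the subspace K is a soft sheaf: for every closed subset A of K, every section of (F|K)|A over A is
the restriction of a section of F|K over K (the restriction map is the unit of the inverse image /
direct image adjunction for the inclusion A → K, taken on global sections). -/
theorem result {X : TopCat.{u}} {K : Set X} (hK : IsCompact K)
    (hsep : ∀ x ∈ K, ∀ y ∈ K, x ≠ y → ∃ U V : Set X, IsOpen U ∧ IsOpen V ∧ x ∈ U ∧ y ∈ V ∧ Disjoint U V)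
    (F : CohTop.Ab X) [TopCat.Sheaf.IsFlasque F] {A : Set K} (hA : IsClosed A) :
    Function.Surjective
      ((((TopCat.Sheaf.pullbackPushforwardAdjunction AddCommGrpCat.{u}
        (TopCat.ofHom ⟨((↑) : A → K), continuous_subtype_val⟩ : TopCat.of A ⟶ TopCat.of K)).unit.app
        ((CohTop.pull (TopCat.ofHom ⟨((↑) : K → X), continuous_subtype_val⟩ : TopCat.of K ⟶ X)).obj F)).hom.app
        (op ⊤)).hom) := by
  let gK : TopCat.of K ⟶ X := TopCat.ofHom ⟨((↑) : K → X), continuous_subtype_val⟩
  let gA : TopCat.of A ⟶ TopCat.of K := TopCat.ofHom ⟨((↑) : A → K), continuous_subtype_val⟩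
  have hKc : IsCompactSub gK := isCompactSub_incl hK hsep
  have := hKc.compact
  have hsA : Sep (X := TopCat.of K) A := fun (x : K) _ (y : K) _ hne => by
    obtain ⟨U, V, hU, hV, hx, hy, hUV⟩ := hsep x.1 x.2 y.1 y.2 fun e => hne (Subtype.ext e)
    exact ⟨_, _, hU.preimage continuous_subtype_val, hV.preimage continuous_subtype_val, hx, hy,
      hUV.preimage _⟩
  intro τ
  obtain ⟨O, hO, t, ht⟩ := exists_restrTop_eq (g := gA) (isCompactSub_incl hA.isCompact hsA)
    ((CohTop.pull gK).obj F) τ
  obtain ⟨d, hd⟩ := soft_pull hKc F A hA O (fun z hz => hO ⟨z, hz⟩) t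
  refine ⟨d, Eq.trans ?_ ht⟩
  refine TopCat.Presheaf.section_ext ((CohTop.pull gA).obj _) ⊤ _ _ fun z _ => ?_
  refine Eq.trans ?_ (germ_restrTop _ hO t z).symm
  refine Eq.trans ?_ (congrArg (Pull.germMap gA _ z) (hd z.1 z.2))
  exact (Pull.germMap_germ gA ((CohTop.pull gK).obj F) (z := z) (U := ⊤) trivial d).symm

end Groth.Agent.S8567
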