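import Groth.Prelude.Def_SGA4a
import Groth.Agent.Giraud16.Site
import Groth.Agent.S3081
import Groth.Agent.CanonTopos16.Basic
import Mathlib.CategoryTheory.Functor.RegularEpi
import Mathlib.CategoryTheory.Adjunction.Evaluation
import Mathlib.CategoryTheory.Limits.FunctorCategory.EpiMono
import Mathlib.CategoryTheory.Sites.RegularEpi

set_option autoImplicit false
namespace CategoryTheory
end CategoryTheory
open CategoryTheory
universe v u
namespace SGA4
end SGA4
open SGA4

namespace Groth.Agent.S8569

open CategoryTheory.Limits Opposite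

variable {C : Type u} [SmallCategory C] (J : GrothendieckTopology C) (D : Type u) [SmallCategory D]

lemma coproducts : SGA4.HasDisjointUniversalCoproducts.{u + 1, u} (D ⥤ Sheaf J (Type u)) := by
  intro ι X
  let c : Cofan X := Cofan.mk (∐ X) (Sigma.ι X)
  let hc : IsColimit c := coproductIsCoproduct X
  have hev : ∀ d : D, ∃ hcd : IsColimit (((evaluation D (Sheaf J (Type u))).obj d).mapCocone c),
      CoproductDisjoint (fun i => (X i).obj d) ∧
      IsUniversalColimit (((evaluation D (Sheaf J (Type u))).obj d).mapCocone c) := by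
    intro d
    let ev := (evaluation D (Sheaf J (Type u))).obj d
    have hcd : IsColimit (ev.mapCocone c) := isColimitOfPreserves _ hc
    obtain ⟨c₀, hc₀, hdis, huniv⟩ := (Groth.Agent.S3081.result J).1 ι (fun i => (X i).obj d)
    refine ⟨hcd, hdis, ?_⟩
    let iso : Discrete.functor X ⋙ ev ≅ Discrete.functor (fun i => (X i).obj d) :=
      Discrete.natIso fun _ => Iso.refl _
    exact (huniv.precompose_isIso iso.hom).of_iso
      (((IsColimit.precomposeHomEquiv iso c₀).symm hc₀).uniqueUpToIso hcd)
  refine ⟨c, hc, ?_, ?_⟩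
  · have hmono : ∀ i, Mono (c.inj i) := fun i => by
      haveI : ∀ d, Mono ((c.inj i).app d) := fun d => by
        obtain ⟨hcd, hdis, -⟩ := hev d
        exact hdis.mono_inj (c := Cofan.mk (c.pt.obj d) fun i => (c.inj i).app d)
          (isColimitMapCoconeCofanMkEquiv _ _ _ hcd) i
      exact NatTrans.mono_of_mono_app _
    haveI := hmono
    have hI : ∀ {i j : ι}, i ≠ j → ∀ d : D,
        IsInitial ((pullback (c.inj i) (c.inj j)).obj d) := fun {i j} hij d =>
      ((hev d).choose_spec.1.nonempty_isInitial_of_ne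
        (c := Cofan.mk (c.pt.obj d) fun i => (c.inj i).app d)
        (isColimitMapCoconeCofanMkEquiv _ _ _ (hev d).choose) hij _
        (((IsPullback.of_hasPullback (c.inj i) (c.inj j)).app d).isLimit)).some
    exact CoproductDisjoint.of_cofan hc
      (fun {i j} _ => PullbackCone.mk (pullback.fst (c.inj i) (c.inj j)) (pullback.snd (c.inj i) (c.inj j))
        pullback.condition)
      (fun {i j} _ => pullbackIsPullback _ _)
      (fun {i j} hij => IsInitial.ofUniqueHom (fun T =>
        { app := fun d => (hI hij d).to _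
          naturality := fun d d' g => (hI hij d).hom_ext _ _ })
        (fun T m => NatTrans.ext (funext fun d => (hI hij d).hom_ext _ _)))
  · intro F' c' α f w hα hpb
    refine ⟨evaluationJointlyReflectsColimits _ fun d => ?_⟩
    exact ((hev d).choose_spec.2 (((evaluation D (Sheaf J (Type u))).obj d).mapCocone c')
      (Functor.whiskerRight α ((evaluation D (Sheaf J (Type u))).obj d)) (f.app d)
      (by ext ⟨i⟩ : 2; exact congrArg (fun t => NatTrans.app t d) (congrArg (fun t => NatTrans.app t ⟨i⟩) w))
      (NatTrans.Equifibered.of_discrete _) (fun i => (hpb i).app d)).some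

variable {J D}

lemma effective {R A : D ⥤ Sheaf J (Type u)} (p₁ p₂ : R ⟶ A) (h : SGA4.IsEquivRel p₁ p₂) :
    SGA4.IsEffectiveUniversalEquivRel p₁ p₂ := by
  have hd : ∀ d, SGA4.IsEquivRel (p₁.app d) (p₂.app d) := by
    intro d T
    let L := evaluationLeftAdjoint (Sheaf J (Type u)) d
    let adj := evaluationAdjunctionRight (Sheaf J (Type u)) d
    have he : ∀ {F F' : D ⥤ Sheaf J (Type u)} (g : L.obj T ⟶ F) (m : F ⟶ F'),
        adj.homEquiv T F' (g ≫ m) = adj.homEquiv T F g ≫ m.app d := fun g m =>
      adj.homEquiv_naturality_right g m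
    obtain ⟨hinj, hrefl, hsymm, htrans⟩ := h (L.obj T)
    have hrel : ∀ a b : L.obj T ⟶ A, (∃ f : L.obj T ⟶ R, f ≫ p₁ = a ∧ f ≫ p₂ = b) ↔
        ∃ f : T ⟶ R.obj d, f ≫ p₁.app d = adj.homEquiv _ _ a ∧ f ≫ p₂.app d = adj.homEquiv _ _ b := by
      intro a b
      constructor
      · rintro ⟨f, rfl, rfl⟩
        exact ⟨_, (he f p₁).symm, (he f p₂).symm⟩
      · rintro ⟨f, h₁, h₂⟩
        obtain ⟨f, rfl⟩ := (adj.homEquiv T R).surjective f
        exact ⟨f, (adj.homEquiv _ _).injective ((he f p₁).trans h₁),
          (adj.homEquiv _ _).injective ((he f p₂).trans h₂)⟩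
    refine ⟨fun f g e => ?_, fun a => ?_, fun {a b} hab => ?_, fun {a b c} hab hbc => ?_⟩
    · obtain ⟨f, rfl⟩ := (adj.homEquiv T R).surjective f
      obtain ⟨g, rfl⟩ := (adj.homEquiv T R).surjective g
      refine congrArg _ (hinj (Prod.ext ((adj.homEquiv _ _).injective ?_) ((adj.homEquiv _ _).injective ?_)))
      · exact (he f p₁).trans ((congrArg Prod.fst e).trans (he g p₁).symm)
      · exact (he f p₂).trans ((congrArg Prod.snd e).trans (he g p₂).symm)
    · obtain ⟨a, rfl⟩ := (adj.homEquiv T A).surjective a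
      exact (hrel a a).1 (hrefl a)
    · obtain ⟨a, rfl⟩ := (adj.homEquiv T A).surjective a
      obtain ⟨b, rfl⟩ := (adj.homEquiv T A).surjective b
      exact (hrel b a).1 (hsymm ((hrel a b).2 hab))
    · obtain ⟨a, rfl⟩ := (adj.homEquiv T A).surjective a
      obtain ⟨b, rfl⟩ := (adj.homEquiv T A).surjective b
      obtain ⟨c, rfl⟩ := (adj.homEquiv T A).surjective c
      exact (hrel a c).1 (htrans ((hrel a b).2 hab) ((hrel b c).2 hbc))
  have hev := fun d => (Groth.Agent.S3081.result J).2 _ _ _ _ (hd d)
  have hpo := IsPushout.of_hasPushout p₁ p₂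
  set π := pushout.inl p₁ p₂
  choose B π₀ hpb₀ hpo₀ hst₀ using hev
  have hπ : pushout.inr p₁ p₂ = π := by
    refine NatTrans.ext (funext fun d => ?_)
    have e := hpo.app d
    refine e.inr_isoPushout_inv.symm.trans (Eq.trans ?_ e.inl_isoPushout_inv)
    exact congrArg (· ≫ e.isoPushout.inv)
      ((hpo₀ d).inr_isoPushout_hom.symm.trans (hpo₀ d).inl_isoPushout_hom)
  rw [hπ] at hpo
  have hpb : IsPullback p₁ p₂ π π := IsPullback.of_forall_isPullback_app fun d =>
    (hpb₀ d).of_iso (Iso.refl _) (Iso.refl _) (Iso.refl _)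
      ((hpo₀ d).isoPushout ≪≫ (hpo.app d).isoPushout.symm)
      (by simp) (by simp)
      (by simp [(hpo₀ d).inl_isoPushout_hom_assoc, (hpo.app d).inl_isoPushout_inv])
      (by simp [(hpo₀ d).inr_isoPushout_hom_assoc, (hpo.app d).inr_isoPushout_inv])
  refine ⟨_, π, hpb, hpo, fun B' g => ?_⟩
  haveI : ∀ d, Epi ((pullback.snd π g).app d) := fun d => by
    have e := (IsPullback.of_hasPullback π g).app d
    haveI : Sheaf.IsLocallySurjective (π.app d) := by
      rw [Sheaf.isLocallySurjective_iff_epi]
      haveI := hst₀ d (B d) (𝟙 _)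
      haveI : Epi (π₀ d) := by
        have : pullback.fst (π₀ d) (𝟙 (B d)) ≫ π₀ d = pullback.snd (π₀ d) (𝟙 (B d)) := by
          rw [pullback.condition, Category.comp_id]
        exact epi_of_epi_fac this
      rw [← (hpo.app d).inl_isoPushout_inv, ← (hpo₀ d).inl_isoPushout_hom_assoc]
      exact epi_comp _ _
    haveI : Sheaf.IsLocallySurjective ((pullback.snd π g).app d) := by
      refine ⟨fun {U} y => ?_⟩
      refine J.superset_covering ?_ (Presheaf.imageSieve_mem J (π.app d).hom ((g.app d).hom.app (op U) y))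
      rintro V f ⟨a, ha⟩
      obtain ⟨z, -, hz⟩ := ((Types.isPullback_iff _ _ _ _).1 ((e.map (sheafToPresheaf J _)).app (op V))).2.2
        a ((B'.obj d).obj.map f.op y) (ha.trans (NatTrans.naturality_apply (g.app d).hom f.op y).symm)
      exact ⟨z, hz⟩
    infer_instance
  haveI : Epi (pullback.snd π g) := NatTrans.epi_of_epi_app _
  haveI : IsRegularEpi (pullback.snd π g) := IsRegularEpiCategory.regularEpiOfEpi _
  infer_instance

variable (J D) in
lemma isTopos_functor : SGA4.IsTopos.{u + 1, u} (D ⥤ Sheaf J (Type u)) := by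
  refine Giraud16.giraud (coproducts J D) (fun R A p₁ p₂ h => effective p₁ p₂ h)
    (fun k : D × C => (evaluationLeftAdjoint (Sheaf J (Type u)) k.1).obj (CanonTopos16.rep J k.2)) ?_
  intro X Y f h
  haveI : ∀ d, IsIso (f.app d) := by
    intro d
    rw [← isIso_iff_of_reflects_iso (f.app d) (sheafToPresheaf J _), NatTrans.isIso_iff_isIso_app]
    rintro ⟨c⟩
    rw [isIso_iff_bijective]
    let e : ∀ F : D ⥤ Sheaf J (Type u),
        ((evaluationLeftAdjoint (Sheaf J (Type u)) d).obj (CanonTopos16.rep J c) ⟶ F) ≃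
          (F.obj d).obj.obj (op c) := fun F =>
      ((evaluationAdjunctionRight (Sheaf J (Type u)) d).homEquiv _ _).trans CanonTopos16.el
    have he : ∀ g, e Y (g ≫ f) = (f.app d).hom.app (op c) (e X g) := fun g => by
      simp only [e, Equiv.trans_apply, Adjunction.homEquiv_naturality_right]
      exact CanonTopos16.el_comp _ _
    refine Function.bijective_iff_existsUnique _ |>.2 fun y => ?_
    obtain ⟨g, hg, hu⟩ := h (d, c) ((e Y).symm y)
    refine ⟨e X g, ?_, fun z hz => ?_⟩
    · exact ((he g).symm.trans (congrArg (e Y) hg)).trans ((e Y).apply_symm_apply y)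
    · obtain ⟨g', rfl⟩ := (e X).surjective z
      refine congrArg (e X) (hu g' ((e Y).injective ?_))
      rw [he, Equiv.apply_symm_apply]
      exact hz
  exact NatIso.isIso_of_isIso_app f

/-- Let E be a topos (a category equivalent to the category of sheaves of sets on a small site, for the
universe u) and D a u-small category. Then the category of functors D ⥤ E, which is the category of
sections of the constant D-topos with value E, is a topos. (The published statement is for an
arbitrary D-topos, i.e. a category bifibred in topoi over D; this row is the case of a constant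
one.) -/
theorem result {E : Type v} [Category.{u} E] (hE : SGA4.IsTopos E)
    (D : Type u) [SmallCategory D] : SGA4.IsTopos (D ⥤ E) := by
  obtain ⟨C, _, J, ⟨e⟩⟩ := hE
  obtain ⟨C', _, J', ⟨e'⟩⟩ := isTopos_functor J D
  exact ⟨C', _, J', ⟨e.congrRight.trans e'⟩⟩

end Groth.Agent.S8569
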