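import Groth.Prelude.Def_CohTop
import Groth.Prelude.Def_SpSeq
import Groth.Agent.SpecSeq.Resolution
import Groth.Agent.SpecSeq.HomSS
import Groth.Agent.SiteCoh.ClosedProduct

set_option autoImplicit false
open CategoryTheory TopologicalSpace
universe u
open CohTop

namespace Groth.Agent.S8570

open CategoryTheory.Limits Groth.Agent Groth.Agent.SiteCoh.Closed

variable {X : TopCat.{u}} {I : Type u} {U : I → Set X}

lemma locallyFinite_piece (hlf : LocallyFinite U) (p : ℕ) :
    LocallyFinite fun σ : Fin (p + 1) → I => piece U σ := by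
  intro x
  obtain ⟨V, hV, hfin⟩ := hlf x
  refine ⟨V, hV, (Set.Finite.pi' fun _ : Fin (p + 1) => hfin).subset ?_⟩
  rintro σ ⟨y, hy, hyV⟩ k
  exact ⟨y, Set.mem_iInter.1 hy k, hyV⟩

lemma nonempty_piece_cohomology (hU : ∀ i, IsClosed (U i)) (hlf : LocallyFinite U)
    (F : CohTop.Ab X) (p q : ℕ) :
    Nonempty (((SpecSeq.homFrom ((constantSheaf (Opens.grothendieckTopology X) AddCommGrpCat.{u}).obj
        (AddCommGrpCat.of (ULift.{u} ℤ)))).rightDerived q).obj ((resCx F hU).X p) ≅
      AddCommGrpCat.of (∀ σ : Fin (p + 1) → I,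
        CohTop.H ((CohTop.pull (incl (piece U σ))).obj F) q)) := by
  obtain ⟨e⟩ := nonempty_ext_prodPush (Z := fun σ : Fin (p + 1) → I => piece U σ)
    (fun σ => isClosed_piece hU σ) (locallyFinite_piece hlf p)
    ((constantSheaf (Opens.grothendieckTopology X) AddCommGrpCat.{u}).obj
      (AddCommGrpCat.of (ULift.{u} ℤ))) q (fun σ => clPull (piece U σ) F)
  exact ⟨SpecSeq.homFromDerivedIso _ ((resCx F hU).X p) q ≪≫
    (e.trans (AddEquiv.piCongrRight fun σ =>
      (SiteCoh.hPushEquiv (incl (piece U σ))
        (SiteCoh.isZero_rpush_of_isClosedEmbedding (incl (piece U σ))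
          (isClosed_piece hU σ).isClosedEmbedding_subtypeVal (clPull (piece U σ) F)) q).symm.trans
        (((CategoryTheory.Abelian.extFunctor q).obj (Opposite.op _)).mapIso
          (clPullIso (piece U σ) F).symm).addCommGroupIsoToAddEquiv)).toAddCommGrpIso⟩

/-- Let (U_i), i in I, be a locally finite covering of a topological space X by closed subsets and F an
abelian sheaf on X. The disjoint union of the U_i is then of cohomological descent over X, and the
descent spectral sequence reads, in existence form: there is a bounded spectral sequence of abelian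
groups starting at page one, with E_1^{p,q} isomorphic for p, q ≥ 0 to the product, over all ordered
(p+1)-tuples of indices (i_0, ..., i_p), of the groups H^q(U_{i_0} ∩ ... ∩ U_{i_p}, F|(U_{i_0} ∩ ...
∩ U_{i_p})) (inverse image of F on the closed subspace) and zero otherwise, together with abutment
data whose filtrations are finite on H^n(X, F) for n ≥ 0 (zero for n < 0). (The E_1 identifications
and the abutment isomorphisms are asserted to exist only; the first differential, which is the
alternating sum of the restriction maps, is not part of this statement.) -/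
theorem result {X : TopCat.{u}} {I : Type u} (U : I → Set X)
    (hU : ∀ i, IsClosed (U i)) (hlf : LocallyFinite U) (hcov : ⋃ i, U i = Set.univ) (F : CohTop.Ab X) :
    ∃ (E : CohomologicalSpectralSequence AddCommGrpCat.{u} 1)
      (a : SpSeq.Abutment E (fun n : ℤ =>
        if 0 ≤ n then AddCommGrpCat.of (CohTop.H F n.toNat) else AddCommGrpCat.of PUnit.{u + 1})),
      (∀ n, a.IsFinite n) ∧ SpSeq.IsBounded E ∧
      ∀ p q : ℤ, Nonempty ((E.page 1 le_rfl).X (p, q) ≅
        (if 0 ≤ p ∧ 0 ≤ q then
          AddCommGrpCat.of (∀ σ : Fin (p.toNat + 1) → I,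
            CohTop.H ((CohTop.pull (TopCat.ofHom ⟨((↑) : (⋂ k, U (σ k) : Set X) → X), continuous_subtype_val⟩ :
              TopCat.of (⋂ k, U (σ k) : Set X) ⟶ X)).obj F) q.toNat)
         else AddCommGrpCat.of PUnit.{u + 1})) := by
  letI := HasDerivedCategory.standard (CohTop.Ab X)
  letI := HasDerivedCategory.standard AddCommGrpCat.{u}
  have := Groth.Agent.SiteCoh.Closed.quasiIso_resπ F hU hlf hcov
  refine Groth.Agent.SpecSeq.exists_resolution
    (Groth.Agent.SpecSeq.homFrom ((constantSheaf (Opens.grothendieckTopology X)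
      AddCommGrpCat.{u}).obj (AddCommGrpCat.of (ULift.{u} ℤ))))
    (Groth.Agent.SiteCoh.Closed.resCx F hU) F (Groth.Agent.SiteCoh.Closed.resπ F hU)
    (fun n => ?_) (fun n hn => ?_) (fun p q => ?_) (fun p q h => ?_)
  · exact Groth.Agent.SpecSeq.nonempty_iso_if (by omega)
      (Groth.Agent.SpecSeq.homFromDerivedIso _ F n)
  · exact Groth.Agent.SpecSeq.isZero_if (by omega) (AddCommGrpCat.isZero_of_subsingleton _)
  · obtain ⟨e⟩ := nonempty_piece_cohomology hU hlf F p q
    exact Groth.Agent.SpecSeq.nonempty_iso_if ⟨by omega, by omega⟩ e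
  · exact Groth.Agent.SpecSeq.isZero_if h (AddCommGrpCat.isZero_of_subsingleton _)

end Groth.Agent.S8570
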