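import Groth.Statements.S8580
import Groth.Agent.Et18.Descent0.ExtRetract
import Groth.Agent.Et18.Descent0.SplitSS
-- import your own Groth.Agent.* helpers here

set_option autoImplicit false
open CategoryTheory CategoryTheory.Limits AlgebraicGeometry
universe u
open EtDesc

namespace Groth.Agent.S8580

/-- In the setting of schemes and abelian sheaves on their small etale sites (where every morphism is
flat for the inverse image of sheaves), let f : X → Y be a morphism of schemes with a section s, s
followed by f being the identity, and F any abelian sheaf on the small etale site of Y. Then f is of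
universal cohomological descent, and the descent spectral sequence reads, in existence form: there
is a bounded spectral sequence of abelian groups starting at page one with E_1^{p,q} isomorphic, for
p, q ≥ 0, to the etale cohomology group H^q(X_p, F|X_p), where X_p is the (p+1)-fold fibre product
of X over Y and F|X_p the inverse image of F along its projection to Y, and zero otherwise, together
with abutment data whose filtrations are finite on H^n(Y_et, F) for n ≥ 0 (zero for n < 0). (The E_1
identifications and the abutment isomorphisms are asserted to exist only; the differentials are not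
part of this statement.) -/
theorem result {X Y : Scheme.{u}} (f : X ⟶ Y) (s : Y ⟶ X)
    (hs : s ≫ f = 𝟙 Y) (F : EtCoh.Ab Y) :
    ∃ (E : CohomologicalSpectralSequence AddCommGrpCat.{u + 1} 1)
      (a : SpSeq.Abutment E (fun n : ℤ =>
        if 0 ≤ n then AddCommGrpCat.of (EtCoh.H Y F n.toNat) else AddCommGrpCat.of PUnit.{u + 2})),
      (∀ n, a.IsFinite n) ∧ SpSeq.IsBounded E ∧
      ∀ p q : ℤ, Nonempty ((E.page 1 le_rfl).X (p, q) ≅
        (if 0 ≤ p ∧ 0 ≤ q then
          AddCommGrpCat.of (EtCoh.H (widePullback Y (fun _ : Fin (p.toNat + 1) => X) (fun _ => f))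
            ((EtCoh.pull (WidePullback.base (fun _ : Fin (p.toNat + 1) => f) :
              widePullback Y (fun _ : Fin (p.toNat + 1) => X) (fun _ => f) ⟶ Y)).obj F) q.toNat)
         else AddCommGrpCat.of PUnit.{u + 2})) := by
  classical
  let Xp : ℕ → Scheme.{u} := fun p => widePullback Y (fun _ : Fin (p + 1) => X) (fun _ => f)
  let b : ∀ p, Xp p ⟶ Y := fun p => WidePullback.base (fun _ : Fin (p + 1) => f)
  let G : ℕ → ℕ → AddCommGrpCat.{u + 1} := fun q p =>
    AddCommGrpCat.of (EtCoh.H (Xp p) ((EtCoh.pull (b p)).obj F) q)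
  let A : ℕ → AddCommGrpCat.{u + 1} := fun q => AddCommGrpCat.of (EtCoh.H Y F q)
  let s₀ : Y ⟶ Xp 0 := WidePullback.lift (𝟙 Y) (fun _ => s) (fun _ => hs)
  have hs₀ : s₀ ≫ b 0 = 𝟙 Y := WidePullback.lift_base _ _ _ _
  have h0 : ∀ q, ∃ (i : A q ⟶ G q 0) (r : G q 0 ⟶ A q), i ≫ r = 𝟙 _ := fun q =>
    Et18.Descent0.exists_split_Hpull (b 0) s₀ hs₀ F (Iso.refl _) q
  let π : ∀ p, Xp (p + 1) ⟶ Xp p := fun p => WidePullback.lift (b (p + 1))
    (fun i => WidePullback.π (fun _ : Fin (p + 1 + 1) => f) i.castSucc)
    (fun i => WidePullback.π_arrow _ _)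
  let k : ∀ p : ℕ, Fin (p + 1 + 1) → Fin (p + 1) := fun p i => if h : (i : ℕ) < p + 1 then ⟨i, h⟩ else 0
  let σ : ∀ p, Xp p ⟶ Xp (p + 1) := fun p => WidePullback.lift (b p)
    (fun i => WidePullback.π (fun _ : Fin (p + 1) => f) (k p i))
    (fun i => WidePullback.π_arrow _ _)
  have hσ : ∀ p, σ p ≫ π p = 𝟙 _ := fun p => by
    refine WidePullback.hom_ext _ _ _ (fun i => ?_) ?_
    · rw [Category.assoc, Category.id_comp, WidePullback.lift_π, WidePullback.lift_π]
      exact congrArg (WidePullback.π (fun _ : Fin (p + 1) => f)) (dif_pos i.isLt)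
    · rw [Category.assoc, Category.id_comp]
      simp only [π, σ, WidePullback.lift_base, b]
  have hπ : ∀ p, π p ≫ b p = b (p + 1) := fun p => WidePullback.lift_base _ _ _ _
  have h1 : ∀ q p, ∃ (i : G q p ⟶ G q (p + 1)) (r : G q (p + 1) ⟶ G q p), i ≫ r = 𝟙 _ := fun q p =>
    Et18.Descent0.exists_split_Hpull (π p) (σ p) (hσ p) ((EtCoh.pull (b p)).obj F)
      (((EtCore.pullComp (π p) (b p)).symm ≪≫ EtCore.pullCongr (hπ p)).app F) q
  let S : ∀ q, Et18.Descent0.SplitChain (A q) (G q) := fun q =>
    { i₀ := (h0 q).choose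
      r₀ := (h0 q).choose_spec.choose
      h₀ := (h0 q).choose_spec.choose_spec
      i := fun p => (h1 q p).choose
      r := fun p => (h1 q p).choose_spec.choose
      h := fun p => (h1 q p).choose_spec.choose_spec }
  have hZ : IsZero (AddCommGrpCat.of PUnit.{u + 2}) := AddCommGrpCat.isZero_of_subsingleton _
  refine ⟨Et18.Descent0.spectralSequence hZ S, Et18.Descent0.abutment hZ S
      (fun n => eqToIso (if_pos (Int.natCast_nonneg n))) (fun n hn => ?_),
    Et18.Descent0.abutment_isFinite hZ S _ _, Et18.Descent0.isBounded hZ S, fun p q => ?_⟩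
  · exact hZ.of_iso (eqToIso (if_neg (not_le.2 hn)))
  · rcases p with p | p
    · rcases q with q | q
      · exact ⟨Et18.Descent0.pageOneX hZ S _ ≪≫ eqToIso (if_pos (⟨Int.natCast_nonneg p, Int.natCast_nonneg q⟩ :
          (0 : ℤ) ≤ Int.ofNat p ∧ (0 : ℤ) ≤ Int.ofNat q)).symm⟩
      · exact ⟨Et18.Descent0.pageOneX hZ S _ ≪≫ eqToIso (if_neg fun h => absurd h.2 (by simp)).symm⟩
    · exact ⟨Et18.Descent0.pageOneX hZ S _ ≪≫
        (Et18.Descent0.isZero_X1 hZ _ (Or.inl (Int.negSucc_lt_zero p))).iso
          (hZ.of_iso (eqToIso (if_neg fun h => absurd h.1 (by simp))))⟩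

end Groth.Agent.S8580
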