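import Groth.Statements.S8586
import Groth.Agent.CAlgH.SopChain


set_option autoImplicit false
universe u
open CAlg

namespace Groth.Agent.S8586

/-- Suppose A is a Cohen–Macaulay local ring whose Krull dimension is d, and consider two systems of
parameters u = (u_1, ..., u_d) and v = (v_1, ..., v_d) of A (that is, d-tuples of elements of the
maximal ideal m such that the ideal they generate has radical m). Then one can find a finite
sequence w_0 = u, w_1, ..., w_m = v, each term a system of parameters of A, where w_{k+1} arises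
from w_k by altering just one coordinate. -/
theorem result (A : Type u) [CommRing A] [LocCoh.IsCohenMacaulayLocalRing A]
    (d : ℕ) (hd : ringKrullDim A = d) (u v : Fin d → A)
    (hu : ∀ i, u i ∈ IsLocalRing.maximalIdeal A) (hu' : IsLocalRing.maximalIdeal A ≤ (Ideal.span (Set.range u)).radical)
    (hv : ∀ i, v i ∈ IsLocalRing.maximalIdeal A) (hv' : IsLocalRing.maximalIdeal A ≤ (Ideal.span (Set.range v)).radical) :
    ∃ (m : ℕ) (w : Fin (m + 1) → Fin d → A), w 0 = u ∧ w (Fin.last m) = v ∧
      (∀ k : Fin (m + 1), (∀ i, w k i ∈ IsLocalRing.maximalIdeal A) ∧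
        IsLocalRing.maximalIdeal A ≤ (Ideal.span (Set.range (w k))).radical) ∧
      (∀ k : Fin m, ∃ i : Fin d, ∀ i' : Fin d, i' ≠ i → w k.castSucc i' = w k.succ i') := by
  have su : CAlgH.SopChain.IsSop (⊥ : Ideal A) u := ⟨hu, by rwa [bot_sup_eq]⟩
  have sv : CAlgH.SopChain.IsSop (⊥ : Ideal A) v := ⟨hv, by rwa [bot_sup_eq]⟩
  obtain ⟨m, w, h0, hl, hs, hstep⟩ := CAlgH.SopChain.exists_seq su
    (CAlgH.SopChain.reflTransGen d ⊥ bot_le
      (fun e he x => CAlgH.SopChain.not_isSop_bot_of_lt hd he x) u v su sv)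
  exact ⟨m, w, h0, hl, fun k => ⟨(hs k).1, by simpa only [bot_sup_eq] using (hs k).2⟩, hstep⟩

end Groth.Agent.S8586
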