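import Groth.Statements.S8591
import Groth.Agent.CAlgH.CharpolyDet
import Mathlib.LinearAlgebra.Charpoly.ToMatrix
import Mathlib.RingTheory.Norm.Basic

set_option autoImplicit false
universe u
open CAlg Polynomial

namespace Groth.Agent.S8591

/-- Let k be a commutative ring, M a finite free k-module, u an endomorphism of M with characteristic
polynomial χ, and P a polynomial over k. Then the norm, from the k-algebra k[T]/(χ) (free of rank
the rank of M) down to k, of the class of P(T) equals det(P(u)). (The published statement writes the
quotient by det(u - T), which generates the same ideal as χ(T) = det(T - u).) -/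
theorem result (k : Type u) [CommRing k] (M : Type u) [AddCommGroup M] [Module k M]
    [Module.Free k M] [Module.Finite k M] (u : M →ₗ[k] M) (P : Polynomial k) :
    Algebra.norm k (AdjoinRoot.mk u.charpoly P) = LinearMap.det (Polynomial.aeval u P) := by
  classical
  cases subsingleton_or_nontrivial k
  · exact Subsingleton.elim _ _
  set χ := u.charpoly with hχdef
  have hχ : χ.Monic := u.charpoly_monic
  let pb := AdjoinRoot.powerBasis' hχ
  let b := pb.basis
  let c := Module.finBasis k M
  have hdim : pb.dim = Module.finrank k M := by
    show χ.natDegree = _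
    exact u.charpoly_natDegree
  let b' := b.reindex (finCongr hdim)
  let L := Algebra.leftMulMatrix b' (AdjoinRoot.root χ)
  let U := LinearMap.toMatrixAlgEquiv c u
  have hU : U.charpoly = χ := by
    exact LinearMap.charpoly_toMatrix u c
  have hL : L.charpoly = χ := by
    have hroot : aeval (AdjoinRoot.root χ) L.charpoly = 0 := by
      apply Algebra.leftMulMatrix_injective b'
      rw [← aeval_algHom_apply, Matrix.aeval_self_charpoly, map_zero]
    rw [AdjoinRoot.aeval_eq, AdjoinRoot.mk_eq_zero] at hroot
    refine eq_of_monic_of_dvd_of_natDegree_le hχ L.charpoly_monic hroot ?_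
    rw [Matrix.charpoly_natDegree_eq_dim, Fintype.card_fin, u.charpoly_natDegree]
  rw [Algebra.norm_eq_matrix_det b', ← LinearMap.det_toMatrix c, ← AdjoinRoot.aeval_eq,
    ← aeval_algHom_apply]
  rw [show LinearMap.toMatrix c c (aeval u P) = aeval U P from
    (aeval_algHom_apply (LinearMap.toMatrixAlgEquiv c).toAlgHom u P).symm]
  exact Groth.Agent.CAlgH.det_aeval_eq_of_charpoly_eq L U (hL.trans hU.symm) P

end Groth.Agent.S8591
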