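import Groth.Statements.S8607
open CategoryTheory CategoryTheory.Limits AlgebraicGeometry

set_option autoImplicit false
universe u
open CategoryTheory CategoryTheory.Limits AlgebraicGeometry Opposite
open DEt

namespace Groth.Agent.S8607

/-- The equalizing half of 'the category of compactifications of f is cofiltering': let f : X -> Y be a
morphism of quasi-compact quasi-separated schemes, (Xbar_1, j_1, fbar_1) and (Xbar_2, j_2, fbar_2)
two compactifications of f, and r, s : Xbar_1 -> Xbar_2 two morphisms of compactifications (r ∘ j_1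
= j_2 = s ∘ j_1 and fbar_2 ∘ r = fbar_1 = fbar_2 ∘ s). Then there are a compactification (Xbar, j,
fbar) of f and a proper morphism t : Xbar -> Xbar_1 of compactifications (t ∘ j = j_1, fbar_1 ∘ t =
fbar) with r ∘ t = s ∘ t. -/
theorem result {X Y : Scheme.{u}} [CompactSpace ↥X] [QuasiSeparatedSpace ↥X]
    [CompactSpace ↥Y] [QuasiSeparatedSpace ↥Y] {f : X ⟶ Y} (c₁ c₂ : DEt.Compactification f)
    (r s : c₁.Xbar ⟶ c₂.Xbar) (hr : c₁.j ≫ r = c₂.j) (hs : c₁.j ≫ s = c₂.j)
    (hr' : r ≫ c₂.fbar = c₁.fbar) (hs' : s ≫ c₂.fbar = c₁.fbar) :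
    ∃ (c : DEt.Compactification f) (t : c.Xbar ⟶ c₁.Xbar), IsProper t ∧ c.j ≫ t = c₁.j ∧ t ≫ c₁.fbar = c.fbar ∧
      t ≫ r = t ≫ s := by
  let w : c₁.Xbar ⟶ pullback c₂.fbar c₂.fbar := pullback.lift r s (hr'.trans hs'.symm)
  let ι := pullback.fst w (pullback.diagonal c₂.fbar)
  have : IsClosedImmersion ι :=
    (IsClosedImmersion.isStableUnderBaseChange).of_isPullback (IsPullback.of_hasPullback w (pullback.diagonal c₂.fbar)).flip inferInstance
  let g : X ⟶ pullback w (pullback.diagonal c₂.fbar) := pullback.lift c₁.j (c₁.j ≫ r) (pullback.hom_ext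
    (by simp only [w, Category.assoc, pullback.lift_fst, pullback.diagonal_fst, Category.comp_id])
    (by simp only [w, Category.assoc, pullback.lift_snd, pullback.diagonal_snd, Category.comp_id, hr, hs]))
  have hg : g ≫ ι = c₁.j := pullback.lift_fst _ _ _
  have : IsImmersion (g ≫ ι) := hg ▸ inferInstance
  have : IsImmersion g := IsImmersion.of_comp g ι
  have : QuasiSeparatedSpace ↥(pullback w (pullback.diagonal c₂.fbar)) :=
    quasiSeparatedSpace_of_quasiSeparated (ι ≫ c₁.fbar)
  have : QuasiCompact g := inferInstance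
  have hj : g.toImage ≫ g.imageι = g := g.toImage_imageι
  have hι : ι ≫ r = ι ≫ s := by
    have h := pullback.condition (f := w) (g := pullback.diagonal c₂.fbar)
    have h1 := congrArg (· ≫ pullback.fst c₂.fbar c₂.fbar) h
    have h2 := congrArg (· ≫ pullback.snd c₂.fbar c₂.fbar) h
    simp only [w, Category.assoc, pullback.lift_fst, pullback.lift_snd, pullback.diagonal_fst, pullback.diagonal_snd, Category.comp_id] at h1 h2
    exact h1.trans h2.symm
  refine ⟨⟨g.image, g.toImage, g.imageι ≫ ι ≫ c₁.fbar, inferInstance, inferInstance, ?_⟩,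
    g.imageι ≫ ι, inferInstance, ?_, Category.assoc _ _ _, ?_⟩
  · rw [reassoc_of% hj, reassoc_of% hg, c₁.fac]
  · show g.toImage ≫ _ = _
    rw [reassoc_of% hj, hg]
  · show (g.imageι ≫ ι) ≫ r = (g.imageι ≫ ι) ≫ s
    rw [Category.assoc, Category.assoc, hι]

end Groth.Agent.S8607
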