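import Groth.Statements.S8611
import Groth.Agent.Et18.DeltaIso
-- import your own Groth.Agent.* helpers here

set_option autoImplicit false
universe w v u
open CategoryTheory CategoryTheory.Limits
open SGA4h

namespace Groth.Agent.S8611
open Groth.Agent.Et18.DeltaIso

/-- Let C be an abelian category, T and T' cohomological delta-functors on C in degrees ≥ 0 with values
in abelian groups, both left exact in degree 0, with T effaceable in every degree q > 0 (every
element of T^q(A) is killed by T^q(u) for some monomorphism u : A → M, depending on the element),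
and φ : T → T' a morphism of delta-functors. Let E be a class of objects such that every object
admits a monomorphism into a member of E. Then the following are equivalent: (i) φ^q(A) is bijective
for all q and all A; (ii) φ^0(M) is bijective and φ^q(M) is surjective for q > 0, for all M in E;
(iii) φ^0(A) is bijective for all A and T' is effaceable in every degree > 0 (in the same
element-wise sense). Stated as (i) ⇔ (ii) together with (i) ⇔ (iii). -/
theorem result {C : Type u} [Category.{v} C] [Abelian C]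
    (T T' : DeltaF.CohDeltaFunctor C AddCommGrpCat.{w} ℕ) (hT0 : T.ZeroMono) (hT'0 : T'.ZeroMono)
    (hT : ∀ (q : ℕ) (A : C) (α : (T.F (q + 1)).obj A),
      ∃ (M : C) (u : A ⟶ M), Mono u ∧ (T.F (q + 1)).map u α = 0)
    (φ : T ⟶ T') (E : ObjectProperty C)
    (hE : ∀ A : C, ∃ (M : C) (i : A ⟶ M), Mono i ∧ E M) :
    ((∀ (q : ℕ) (A : C), IsIso ((φ.app q).app A)) ↔
      ((∀ M : C, E M → IsIso ((φ.app 0).app M)) ∧
        ∀ (q : ℕ) (M : C), E M → Epi ((φ.app (q + 1)).app M))) ∧
    ((∀ (q : ℕ) (A : C), IsIso ((φ.app q).app A)) ↔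
      ((∀ A : C, IsIso ((φ.app 0).app A)) ∧
        ∀ (q : ℕ) (A : C) (α : (T'.F (q + 1)).obj A),
          ∃ (M : C) (u : A ⟶ M), Mono u ∧ (T'.F (q + 1)).map u α = 0)) := by
  have bij : ∀ q A, IsIso ((φ.app q).app A) ↔ Function.Bijective ((φ.app q).app A) :=
    fun q A ↦ ConcreteCategory.isIso_iff_bijective _
  refine ⟨⟨fun h ↦ ⟨fun M _ ↦ h 0 M, fun q M _ ↦ have := h (q + 1) M; inferInstance⟩, ?_⟩,
    ⟨fun h ↦ ⟨h 0, ?_⟩, ?_⟩⟩
  · rintro ⟨h0, h1⟩ q
    induction q with
    | zero =>
      have hinj : ∀ A, Function.Injective ((φ.app 0).app A) := fun A ↦ by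
        obtain ⟨M, i, hi, hM⟩ := hE A
        exact zero_injective_of_mono φ hT0 i ((bij 0 M).1 (h0 M hM)).1
      intro A
      obtain ⟨M, i, hi, hM⟩ := hE A
      exact (bij 0 A).2 ⟨hinj A, zero_surjective_of_mono φ hT'0 i ((bij 0 M).1 (h0 M hM)).2
        (hinj _)⟩
    | succ q ih =>
      intro A
      refine (bij (q + 1) A).2
        ⟨(injective_iff_map_eq_zero ((φ.app (q + 1)).app A).hom).2 fun α hα ↦ ?_, fun β ↦ ?_⟩
      · obtain ⟨M, u, hu, hu'⟩ := hT q A α
        exact eq_zero_of_killed φ q (fun B ↦ (bij q B).1 (ih B)) u α hu' hα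
      · obtain ⟨M, u, hu, hM⟩ := hE A
        obtain ⟨γ, hγ⟩ := (AddCommGrpCat.epi_iff_surjective _).1 (h1 q M hM)
          ((T'.F (q + 1)).map u β)
        obtain ⟨N, v, hv, hv'⟩ := hT q M γ
        refine exists_preimage_of_killed φ q (fun B ↦ ((bij q B).1 (ih B)).2) (u ≫ v) β ?_
        rw [Functor.map_comp, ConcreteCategory.comp_apply, ← hγ, ← nat_apply, hv', map_zero]
  · intro q A β
    obtain ⟨α, rfl⟩ := ((bij (q + 1) A).1 (h (q + 1) A)).2 β
    obtain ⟨M, u, hu, hu'⟩ := hT q A α
    exact ⟨M, u, hu, by rw [← nat_apply, hu', map_zero]⟩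
  · rintro ⟨h0, h1⟩ q
    induction q with
    | zero => exact h0
    | succ q ih =>
      intro A
      refine (bij (q + 1) A).2
        ⟨(injective_iff_map_eq_zero ((φ.app (q + 1)).app A).hom).2 fun α hα ↦ ?_, fun β ↦ ?_⟩
      · obtain ⟨M, u, hu, hu'⟩ := hT q A α
        exact eq_zero_of_killed φ q (fun B ↦ (bij q B).1 (ih B)) u α hu' hα
      · obtain ⟨M, u, hu, hu'⟩ := h1 q A β
        exact exists_preimage_of_killed φ q (fun B ↦ ((bij q B).1 (ih B)).2) u β hu'

end Groth.Agent.S8611
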