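import Groth.Statements.S8612
import Groth.Agent.Et18.DeltaIso
-- import your own Groth.Agent.* helpers here

set_option autoImplicit false
universe w v u
open CategoryTheory CategoryTheory.Limits
open SGA4h

namespace Groth.Agent.S8612
open Groth.Agent.Et18.DeltaIso

/-- Let C be an abelian category with filtered colimits, T and T' cohomological delta-functors on C in
degrees ≥ 0 with values in abelian groups, both left exact in degree 0 and commuting with filtered
colimits in every degree, and φ : T → T' a morphism of delta-functors. Let D and E be classes of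
objects such that (a) every object of C is a filtered colimit of objects of D and (b) every object
of D admits a monomorphism into a member of E. Then φ^q(A) is bijective for all q and all A if and
only if φ^q(M) is bijective for all q and all M in E. -/
theorem result {C : Type u} [Category.{v} C] [Abelian C]
    [HasFilteredColimitsOfSize.{v, v} C]
    (T T' : DeltaF.CohDeltaFunctor C AddCommGrpCat.{w} ℕ) (hT0 : T.ZeroMono) (hT'0 : T'.ZeroMono)
    [∀ n, PreservesFilteredColimitsOfSize.{v, v} (T.F n)] [∀ n, PreservesFilteredColimitsOfSize.{v, v} (T'.F n)]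
    (φ : T ⟶ T') (D E : ObjectProperty C)
    (hD : ∀ A : C, ∃ (J : Type v) (_ : SmallCategory J) (_ : IsFiltered J) (K : J ⥤ C) (c : Cocone K)
      (_ : IsColimit c), (∀ j, D (K.obj j)) ∧ Nonempty (c.pt ≅ A))
    (hE : ∀ A : C, D A → ∃ (M : C) (i : A ⟶ M), Mono i ∧ E M) :
    (∀ (q : ℕ) (A : C), IsIso ((φ.app q).app A)) ↔
      ∀ (q : ℕ) (M : C), E M → IsIso ((φ.app q).app M) := by
  have bij : ∀ q A, IsIso ((φ.app q).app A) ↔ Function.Bijective ((φ.app q).app A) :=
    fun q A ↦ ConcreteCategory.isIso_iff_bijective _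
  refine ⟨fun h q M _ ↦ h q M, fun h ↦ ?_⟩
  have hiE : ∀ q M, E M → Function.Bijective ((φ.app q).app M) := fun q M hM ↦
    (bij q M).1 (h q M hM)
  have extI : ∀ q, (∀ A, D A → Function.Injective ((φ.app q).app A)) →
      ∀ A, Function.Injective ((φ.app q).app A) := fun q hq A ↦ by
    obtain ⟨J, _, _, K, c, hc, hKD, ⟨e⟩⟩ := hD A
    exact injective_of_iso φ q e (injective_of_colimit φ q hc fun j ↦ hq _ (hKD j))
  have extS : ∀ q, (∀ A, D A → Function.Surjective ((φ.app q).app A)) →
      ∀ A, Function.Surjective ((φ.app q).app A) := fun q hq A ↦ by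
    obtain ⟨J, _, _, K, c, hc, hKD, ⟨e⟩⟩ := hD A
    exact surjective_of_iso φ q e (surjective_of_colimit φ q hc fun j ↦ hq _ (hKD j))
  suffices H : ∀ q A, Function.Bijective ((φ.app q).app A) from fun q A ↦ (bij q A).2 (H q A)
  intro q
  induction q with
  | zero =>
    have hinj : ∀ A, Function.Injective ((φ.app 0).app A) := extI 0 fun A hA ↦ by
      obtain ⟨M, u, hu, hM⟩ := hE A hA
      exact zero_injective_of_mono φ hT0 u (hiE 0 M hM).1
    refine fun A ↦ ⟨hinj A, extS 0 (fun B hB ↦ ?_) A⟩
    obtain ⟨M, u, hu, hM⟩ := hE B hB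
    exact zero_surjective_of_mono φ hT'0 u (hiE 0 M hM).2 (hinj _)
  | succ q ih =>
    have hinj : ∀ A, Function.Injective ((φ.app (q + 1)).app A) := extI (q + 1) fun A hA ↦ by
      obtain ⟨M, u, hu, hM⟩ := hE A hA
      exact succ_injective_of_mono φ q ih u (hiE (q + 1) M hM).1
    refine fun A ↦ ⟨hinj A, extS (q + 1) (fun B hB ↦ ?_) A⟩
    obtain ⟨M, u, hu, hM⟩ := hE B hB
    exact succ_surjective_of_mono φ q (fun C ↦ (ih C).2) u (hiE (q + 1) M hM).2 (hinj _)

end Groth.Agent.S8612
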