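import Groth.Statements.S8615
import Groth.Agent.Et18.ClosedPointSupport
-- import your own Groth.Agent.* helpers here

set_option autoImplicit false
universe u
open CategoryTheory CategoryTheory.Limits AlgebraicGeometry
open SGA4h

namespace Groth.Agent.S8615

/-- Let k be an algebraically closed field and X a connected smooth proper curve over k. For the family,
indexed by the closed points x of X, of direct images i_{x*} ℤ of the constant sheaf ℤ along i_x :
Spec κ(x) → X, any coproduct (given as a colimit cofan) has vanishing etale cohomology in every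
degree q > 0. -/
theorem result {k : Type u} [Field k] [IsAlgClosed k]
    {X : Scheme.{u}} (f : X ⟶ Spec (CommRingCat.of k)) [IsProper f] [SmoothOfRelativeDimension 1 f]
    [ConnectedSpace ↥X]
    (c : Cofan fun x : {x : X // IsClosed ({x} : Set X)} =>
      (EtCoh.push (X.fromSpecResidueField x.1)).obj (EtCoh.const (Spec (X.residueField x.1)) ℤ))
    (hc : IsColimit c) (q : ℕ) (hq : 0 < q) :
    Subsingleton (EtCoh.H X c.pt q) := by
  refine Groth.Agent.Et18.ClosedPointSupport.subsingleton_H f c.pt (fun y hy => by_contra fun hyc => ?_) q hq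
  let ξ := Groth.Agent.Et18.sepPoint X y
  refine (Groth.Agent.Et18.mem_supp_iff _ ξ (Groth.Agent.Et18.sepPoint_default X y)).1 hy ?_
  rw [IsZero.iff_id_eq_zero]
  refine (isColimitOfPreserves (EtCoh.stalk ξ) hc).hom_ext fun j => ?_
  refine IsZero.eq_of_src ?_ _ _
  let U : X.Opens := ⟨({j.as.1} : Set X)ᶜ, j.as.2.isOpen_compl⟩
  refine Groth.Agent.Et18.isZero_stalk_push_of_disjoint _ _ ξ U ?_ ?_
  · rw [Groth.Agent.Et18.sepPoint_default]
    exact fun h : y = j.as.1 => hyc (h ▸ j.as.2)
  · rw [Scheme.range_fromSpecResidueField]
    exact disjoint_compl_left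

end Groth.Agent.S8615
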