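import Groth.Statements.S8618
import Groth.Agent.Et18.QLinear
import Groth.Agent.Et18.TraceStable
-- import your own Groth.Agent.* helpers here

set_option autoImplicit false
universe u
open SGA4h

namespace Groth.Agent.S8618

open TensorProduct in
/-- Let k be a finite field with q = p^f elements, F₀ ⊂ k its prime field, K an algebraically closed
extension of k, V a finite-dimensional k-vector space and φ a p-linear endomorphism of V (φ(λx) =
λ^p φ(x)); let F = φ^f, a k-linear endomorphism, F_K its K-linear extension to K ⊗_k V and φ_K the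
p-linear extension of φ (φ_K(μ ⊗ v) = μ^p ⊗ φ(v)). Then F_K preserves the F₀-subspace W = Ker(φ_K -
1) of K ⊗_k V, W is finite-dimensional over F₀, and the trace of F_K on W (an element of F₀) equals
the trace of F on V. -/
theorem result {p : ℕ} [Fact p.Prime] (k : Type u) [Field k] [Fintype k]
    [CharP k p] (f : ℕ) (hq : Fintype.card k = p ^ f) (K : Type u) [Field K] [Algebra k K] [IsAlgClosed K]
    (V : Type u) [AddCommGroup V] [Module k V] [FiniteDimensional k V]
    (φ : V →ₛₗ[frobenius k p] V) (F : V →ₗ[k] V) (hF : ∀ x, F x = (⇑φ)^[f] x)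
    (φK : K ⊗[k] V →+ K ⊗[k] V) (hφK : ∀ (μ : K) (v : V), φK (μ ⊗ₜ[k] v) = (μ ^ p) ⊗ₜ[k] φ v)
    (W : Submodule (↥(⊥ : Subfield k)) (K ⊗[k] V)) (hW : ∀ y, y ∈ W ↔ φK y = y) :
    (∀ y, φK y = y → φK (F.baseChange K y) = F.baseChange K y) ∧
    Module.Finite (↥(⊥ : Subfield k)) ↥W ∧
    ∀ (G : ↥W →ₗ[↥(⊥ : Subfield k)] ↥W), (∀ y : ↥W, (↑(G y) : K ⊗[k] V) = F.baseChange K ↑y) →
      algebraMap k K (algebraMap (↥(⊥ : Subfield k)) k (LinearMap.trace (↥(⊥ : Subfield k)) ↥W G)) =
        algebraMap k K (LinearMap.trace k V F) := by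
  classical
  have hp : p.Prime := Fact.out
  have : CharP K p := charP_of_injective_algebraMap (algebraMap k K).injective p
  have hf : 1 ≤ f := by
    rcases f with _ | f
    · exact absurd hq (by simpa using (Fintype.one_lt_card (α := k)).ne')
    · omega
  have hφs : ∀ (c : K) (x : K ⊗[k] V), φK (c • x) = c ^ (p ^ 1) • φK x := by
    intro c x
    induction x with
    | zero => simp
    | tmul μ v => rw [TensorProduct.smul_tmul', hφK, hφK, TensorProduct.smul_tmul', pow_one, smul_eq_mul, smul_eq_mul, mul_pow]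
    | add x y hx hy => rw [smul_add, map_add, hx, hy, map_add, smul_add]
  let FK := F.baseChange K
  have hcomm : ∀ x, φK (FK x) = FK (φK x) := by
    intro x
    induction x with
    | zero => simp
    | tmul μ v =>
      simp only [FK, LinearMap.baseChange_tmul, hφK, hF]
      rw [← Function.iterate_succ_apply' (⇑φ) f v, Function.iterate_succ_apply]
    | add x y hx hy => simp only [map_add, hx, hy]
  have hFfix : ∀ y, φK y = y → φK (FK y) = FK y := fun y hy ↦ by rw [hcomm, hy]
  let WK : Submodule K (K ⊗[k] V) := ⨅ n : ℕ, Submodule.span K (Set.range (φK^[n + 1]))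
  have hWK : WK = ⨅ n : ℕ, Submodule.span K (Set.range (φK^[n + 1])) := rfl
  obtain ⟨b, N, hb, hN, hfix⟩ : ∃ (b : Module.Basis (Fin (Module.finrank K WK)) K WK) (N : ℕ),
      (∀ i, φK (b i : K ⊗[k] V) = (b i : K ⊗[k] V)) ∧ (∀ x, φK^[N] x ∈ WK) ∧
      ∀ v, φK v = v → ∃ c : Fin (Module.finrank K WK) → K, (∀ i, c i ^ (p ^ 1) = c i) ∧
        v = ∑ i, c i • (b i : K ⊗[k] V) :=
    Groth.Agent.Et18.QLinear.semisimplePart (k := K) (r := 1) one_pos φK hφs
  have hcommN : ∀ n x, FK (φK^[n] x) = φK^[n] (FK x) := fun n x ↦ by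
    induction n with
    | zero => rfl
    | succ n ih =>
      rw [Function.iterate_succ_apply', Function.iterate_succ_apply', ← hcomm, ih]
  have hmemW : ∀ x ∈ WK, FK x ∈ WK := fun x hx ↦ by
    rw [hWK, Submodule.mem_iInf] at hx ⊢
    intro n
    have := Submodule.mem_map_of_mem (f := FK) (hx n)
    rw [Submodule.map_span] at this
    refine Submodule.span_mono ?_ this
    rintro _ ⟨_, ⟨a, rfl⟩, rfl⟩
    exact ⟨FK a, (hcommN _ a).symm⟩
  have hFN : ∀ x, (FK ^ N) x ∈ WK := by
    intro x
    induction x with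
    | zero => simp
    | tmul μ v =>
      have h1 : ∀ n, φK^[n] ((1 : K) ⊗ₜ[k] v) = (1 : K) ⊗ₜ[k] (⇑φ)^[n] v := fun n ↦ by
        induction n with
        | zero => rfl
        | succ n ih => rw [Function.iterate_succ_apply', ih, hφK, one_pow,
            Function.iterate_succ_apply']
      have h2 : ∀ n, (FK ^ n) (μ ⊗ₜ[k] v) = μ ⊗ₜ[k] (⇑φ)^[f * n] v := fun n ↦ by
        induction n with
        | zero => simp
        | succ n ih =>
          rw [pow_succ', Module.End.mul_apply, ih]
          simp only [FK, LinearMap.baseChange_tmul, hF, ← Function.iterate_add_apply]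
          rw [Nat.mul_succ, add_comm]
      obtain ⟨d, hd⟩ := Nat.exists_eq_add_of_le (Nat.le_mul_of_pos_left N hf)
      have h3 : μ ⊗ₜ[k] (⇑φ)^[f * N] v = μ • (φK^[f * N] ((1 : K) ⊗ₜ[k] v)) := by
        rw [h1, TensorProduct.smul_tmul', smul_eq_mul, mul_one]
      rw [h2, h3, hd, Function.iterate_add_apply]
      exact WK.smul_mem μ (hN _)
    | add x y hx hy => rw [map_add]; exact WK.add_mem hx hy
  let ι : ↥(⊥ : Subfield k) →+* K := (algebraMap k K).comp (Subfield.subtype _)
  have hpr : ∀ c : K, c ^ (p ^ 1) = c → ∃ c' : ↥(⊥ : Subfield k), ι c' = c := fun c hc ↦ by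
    rw [pow_one] at hc
    have h := (Subfield.mem_bot_iff_pow_eq_self (F := K) (p := p)).2 hc
    rw [← Subfield.map_bot (algebraMap k K)] at h
    obtain ⟨c', hc', rfl⟩ := h
    exact ⟨⟨c', hc'⟩, rfl⟩
  have hsmul : ∀ (c : ↥(⊥ : Subfield k)) (x : K ⊗[k] V), c • x = ι c • x := fun c x ↦ by
    change (c : k) • x = algebraMap k K (c : k) • x
    rw [algebraMap_smul]
  have hbW : ∀ i, (b i : K ⊗[k] V) ∈ W := fun i ↦ (hW _).2 (hb i)
  let b' : Fin (Module.finrank K WK) → W := fun i ↦ ⟨b i, hbW i⟩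
  have hli0 : LinearIndependent (↥(⊥ : Subfield k)) (fun i ↦ (b i : K ⊗[k] V)) := by
    rw [Fintype.linearIndependent_iff]
    intro c hc i
    simp only [hsmul] at hc
    have h1 : ∑ j, ι (c j) • b j = 0 := Subtype.ext (by
      simpa only [Submodule.coe_sum, Submodule.coe_smul, Submodule.coe_zero] using hc)
    exact ι.injective (by rw [map_zero]; exact congrFun ((b.repr_sum_self fun j ↦ ι (c j)).symm.trans
      (show (b.repr (∑ j, ι (c j) • b j) : _ → K) = 0 by rw [h1, map_zero]; rfl)) i)
  have hli : LinearIndependent (↥(⊥ : Subfield k)) b' := LinearIndependent.of_comp W.subtype hli0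
  have hspan : ⊤ ≤ Submodule.span (↥(⊥ : Subfield k)) (Set.range b') := by
    rintro ⟨y, hy⟩ -
    obtain ⟨c, hc, hyc⟩ := hfix y ((hW y).1 hy)
    choose c' hc' using fun i ↦ hpr (c i) (hc i)
    rw [Submodule.mem_span_range_iff_exists_fun]
    refine ⟨c', Subtype.ext ?_⟩
    simp only [Submodule.coe_sum, Submodule.coe_smul, b', hsmul, hc']
    exact hyc.symm
  let bW : Module.Basis (Fin (Module.finrank K WK)) (↥(⊥ : Subfield k)) W := Module.Basis.mk hli hspan
  refine ⟨hFfix, Module.Finite.of_basis bW, fun G hG ↦ ?_⟩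
  rw [← LinearMap.trace_baseChange F K,
    Groth.Agent.Et18.TraceStable.trace_eq_restrict (F.baseChange K) WK hmemW N hFN,
    LinearMap.trace_eq_matrix_trace K b, LinearMap.trace_eq_matrix_trace _ bW]
  show ι (Matrix.trace _) = _
  rw [Matrix.trace, Matrix.trace, map_sum]
  refine Finset.sum_congr rfl fun i _ ↦ ?_
  rw [Matrix.diag_apply, Matrix.diag_apply, LinearMap.toMatrix_apply, LinearMap.toMatrix_apply]
  have key : (F.baseChange K).restrict hmemW (b i) = ∑ j, ι (bW.repr (G (bW i)) j) • b j := by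
    refine Subtype.ext ?_
    have h := congrArg Subtype.val (bW.sum_repr (G (bW i)))
    rw [hG] at h
    simp only [Submodule.coe_sum, Submodule.coe_smul, hsmul, bW, Module.Basis.mk_apply, b'] at h
    simp only [Submodule.coe_sum, Submodule.coe_smul, bW, Module.Basis.mk_apply, b']
    exact h.symm
  rw [key, b.repr_sum_self]

end Groth.Agent.S8618
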