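import Groth.Statements.S8619
import Groth.Agent.Et18.Mod.ExtZeroDerived
-- import your own Groth.Agent.* helpers here

set_option autoImplicit false
universe u
open CategoryTheory CategoryTheory.Limits AlgebraicGeometry
open SGA4h

namespace Groth.Agent.S8619

/-- Let X be a Noetherian scheme, Λ a commutative Noetherian ring and K a cochain complex of etale
sheaves of Λ-modules on X whose cohomology sheaves are constructible and vanish in large degrees.
Then there are a cochain complex K', zero in large degrees, whose components are constructible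
sheaves of Λ-modules with flat geometric stalks, and a quasi-isomorphism K' → K. (The published
statement allows a left-Noetherian, possibly non-commutative Λ.) -/
theorem result {Λ : Type (u + 1)} [CommRing Λ]
    [IsNoetherianRing Λ] {X : Scheme.{u}} [IsNoetherian X]
    (K : CochainComplex (EtModW.Mod Λ X) ℤ)
    (hK : ∀ i : ℤ, EtModW.IsConstructible Λ (K.homology i))
    (hb : ∃ m : ℤ, ∀ i : ℤ, m ≤ i → IsZero (K.homology i)) :
    ∃ (K' : CochainComplex (EtModW.Mod Λ X) ℤ) (φ : K' ⟶ K), QuasiIso φ ∧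
      (∃ m : ℤ, ∀ i : ℤ, m ≤ i → IsZero (K'.X i)) ∧
      (∀ i : ℤ, EtModW.IsConstructible Λ (K'.X i)) ∧
      ∀ (i : ℤ) (Ω : Type u) [Field Ω] [IsSepClosed Ω] (ξ : Spec (CommRingCat.of Ω) ⟶ X),
        Module.Flat Λ ((EtModW.stalk Λ ξ).obj (K'.X i)) := by
  obtain ⟨m, hm⟩ := hb
  haveI : K.IsLE (m - 1) := by
    rw [CochainComplex.isLE_iff]
    intro i hi
    rw [HomologicalComplex.exactAt_iff_isZero_homology]
    exact hm i (by omega)
  obtain ⟨R, φ, hR, hRX, hφ⟩ := Groth.Agent.Et18.Mod.exists_sum_resolution K hK (m - 1)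
  refine ⟨R, φ, hφ, ⟨m, fun i hi => R.isZero_of_isStrictlyLE (m - 1) i (by omega)⟩,
    fun i => Groth.Agent.Et18.Mod.isConstructible_of_isSum (hRX i), fun i Ω _ _ ξ => ?_⟩
  obtain ⟨k, W, hW, ⟨e⟩⟩ := hRX i
  haveI := Groth.Agent.Et18.Mod.flat_stalk_sum (Λ := Λ) W ξ
  exact Module.Flat.of_linearEquiv ((EtModW.stalk Λ ξ).mapIso e).toLinearEquiv

end Groth.Agent.S8619
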