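import Groth.Statements.S8624
import Groth.Agent.Et18.AbhyankarExt.Main
-- import your own Groth.Agent.* helpers here

set_option autoImplicit false
universe u
open CategoryTheory CategoryTheory.Limits AlgebraicGeometry
open SGA4h

namespace Groth.Agent.S8624

open Polynomial in
/-- Let V be a discrete valuation ring with uniformizer ϖ and fraction field K, S = Spec V, f : X → S
smooth of relative dimension 1 with X irreducible, X_η = X ×_S Spec K, and X̃ → X_η a connected
finite etale Galois cover (automorphisms transitive on geometric fibres) of degree n = |Aut| with n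
invertible in V. Let V₁ = V[t]/(tⁿ - ϖ), S₁ = Spec V₁, X₁ = X ×_S S₁ and X_{1η} = X_η ×_X X₁. Then
the pullback of X̃ to X_{1η} extends to a finite etale cover of X₁: there is a finite etale Y₁ → X₁
whose restriction to X_{1η} is isomorphic to it. -/
theorem result
    (V K : Type u) [CommRing V] [IsDomain V] [IsDiscreteValuationRing V] [Field K] [Algebra V K]
    [IsFractionRing V K] (ϖ : V) (hϖ : Irreducible ϖ) (n : ℕ) (hn : IsUnit (n : V))
    {X : Scheme.{u}} (f : X ⟶ Spec (CommRingCat.of V)) [SmoothOfRelativeDimension 1 f] [IrreducibleSpace ↥X]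
    (Xt : FEt.Cat (pullback f (Spec.map (CommRingCat.ofHom (algebraMap V K))))) [ConnectedSpace ↥Xt.left]
    (hgal : ∀ (Ω : Type u) [Field Ω] [IsAlgClosed Ω]
      (ξ : Spec (CommRingCat.of Ω) ⟶ pullback f (Spec.map (CommRingCat.ofHom (algebraMap V K))))
      (s s' : FEt.fiberObj ξ Xt), ∃ σ : Aut Xt, (FEt.fiber ξ).map σ.hom s = s')
    (hdeg : Nat.card (Aut Xt) = n) :
    ∃ Y₁ : FEt.Cat (pullback f (Spec.map (CommRingCat.ofHom
        (algebraMap V (AdjoinRoot (Polynomial.X ^ n - Polynomial.C ϖ)))))),
      Nonempty ((FEt.restrict (pullback.snd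
          (pullback.fst f (Spec.map (CommRingCat.ofHom (algebraMap V K))))
          (pullback.fst f (Spec.map (CommRingCat.ofHom
            (algebraMap V (AdjoinRoot (Polynomial.X ^ n - Polynomial.C ϖ)))))))).obj Y₁ ≅
        (FEt.restrict (pullback.fst
          (pullback.fst f (Spec.map (CommRingCat.ofHom (algebraMap V K))))
          (pullback.fst f (Spec.map (CommRingCat.ofHom
            (algebraMap V (AdjoinRoot (Polynomial.X ^ n - Polynomial.C ϖ)))))))).obj Xt) := by
  haveI : Smooth f := SmoothOfRelativeDimension.smooth (n := 1) f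
  exact Groth.Agent.Et18.AbhyankarExt.main V K ϖ hϖ n hn f Xt hgal hdeg

end Groth.Agent.S8624
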