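import Groth.Statements.S8625
import Mathlib.Algebra.Group.Conj
import Mathlib.Tactic.Group
-- import your own Groth.Agent.* helpers here

set_option autoImplicit false
universe u
open SGA4h

namespace Groth.Agent.S8625

/-- Let G be a group with an endomorphism F, and assume the Lang map g ↦ F(g)g⁻¹ is surjective (for
instance the geometric points of a connected algebraic group over F_q with its Frobenius, where the
surjectivity is the classical result of Lang; the other Lang map g ↦ g⁻¹F(g) is then surjective too,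
by g ↦ g⁻¹). Let G^F be the subgroup of fixed points of F. (i) If F(g)g⁻¹ is fixed by F then so is
g⁻¹F(g). (ii), (iii) There is a bijection of the set of conjugacy classes of G^F with itself
sending, for every g with F(g)g⁻¹ ∈ G^F, the class of F(g)g⁻¹ to the class of g⁻¹F(g) (in particular
the latter class depends only on the former). -/
theorem result {G : Type u} [Group G] (F : G →* G)
    (hL : Function.Surjective fun g : G => F g * g⁻¹) :
    (∀ g : G, F (F g * g⁻¹) = F g * g⁻¹ → F (g⁻¹ * F g) = g⁻¹ * F g) ∧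
    ∃ φ : ConjClasses ↥(F.eqLocus (MonoidHom.id G)) → ConjClasses ↥(F.eqLocus (MonoidHom.id G)),
      Function.Bijective φ ∧
      ∀ (g : G) (h : F (F g * g⁻¹) = F g * g⁻¹) (h' : F (g⁻¹ * F g) = g⁻¹ * F g),
        φ (ConjClasses.mk (⟨F g * g⁻¹, h⟩ : ↥(F.eqLocus (MonoidHom.id G)))) =
          ConjClasses.mk (⟨g⁻¹ * F g, h'⟩ : ↥(F.eqLocus (MonoidHom.id G))) := by
  have hfix : ∀ g : G, F (F g * g⁻¹) = F g * g⁻¹ → F (g⁻¹ * F g) = g⁻¹ * F g := by
    intro g h
    have h2 : F (F g) = F g * g⁻¹ * F g := by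
      rw [map_mul, map_inv] at h
      exact mul_inv_eq_iff_eq_mul.mp h
    rw [map_mul, map_inv, h2]
    group
  refine ⟨hfix, ?_⟩
  have hfix' : ∀ g : G, F (g⁻¹ * F g) = g⁻¹ * F g → F (F g * g⁻¹) = F g * g⁻¹ := by
    intro g h
    have h2 : F (F g) = F g * g⁻¹ * F g := by
      rw [map_mul, map_inv] at h
      rw [inv_mul_eq_iff_eq_mul] at h
      rw [h, mul_assoc]
    rw [map_mul, map_inv, h2]
    group
  let H := F.eqLocus (MonoidHom.id G)
  choose s hs using fun a : H => hL (a : G)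
  have hs' : ∀ a : H, F (F (s a) * (s a)⁻¹) = F (s a) * (s a)⁻¹ := fun a => by
    have e : F (s a) * (s a)⁻¹ = (a : G) := hs a
    rw [e]
    exact a.2
  let f : H → ConjClasses H := fun a => ConjClasses.mk ⟨(s a)⁻¹ * F (s a), hfix _ (hs' a)⟩
  have key : ∀ (g g' : G) (h : F (F g * g⁻¹) = F g * g⁻¹) (h' : F (F g' * g'⁻¹) = F g' * g'⁻¹) (x : H),
      F g' * g'⁻¹ = x * (F g * g⁻¹) * (x : G)⁻¹ →
      IsConj (⟨g⁻¹ * F g, hfix g h⟩ : H) ⟨g'⁻¹ * F g', hfix g' h'⟩ := by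
    intro g g' h h' x hx
    have hxF : F (x : G) = x := x.2
    let y : G := ((x : G) * g)⁻¹ * g'
    have hg' : g' = x * g * y := (mul_inv_cancel_left _ _).symm
    have hy : F y = y := by
      have hx2 : F g' * g'⁻¹ = F (x * g) * ((x : G) * g)⁻¹ := by
        rw [hx, map_mul, hxF]; group
      rw [map_mul, map_inv, mul_inv_eq_iff_eq_mul.mp hx2]
      simp only [y]
      group
    refine isConj_iff.mpr ⟨⟨y⁻¹, show F y⁻¹ = y⁻¹ by rw [map_inv, hy]⟩, Subtype.ext ?_⟩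
    show y⁻¹ * (g⁻¹ * F g) * (y⁻¹)⁻¹ = g'⁻¹ * F g'
    rw [hg', map_mul, map_mul, hxF, hy]
    group
  have hf : ∀ a a' : H, IsConj a a' → f a = f a' := by
    intro a a' h
    obtain ⟨x, hx⟩ := isConj_iff.mp h
    refine ConjClasses.mk_eq_mk_iff_isConj.mpr (key _ _ (hs' a) (hs' a') x ?_)
    have e : F (s a) * (s a)⁻¹ = (a : G) := hs a
    have e' : F (s a') * (s a')⁻¹ = (a' : G) := hs a'
    rw [e, e']
    exact (congrArg Subtype.val hx).symm
  have hφ : ∀ (g : G) (h : F (F g * g⁻¹) = F g * g⁻¹),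
      f ⟨F g * g⁻¹, h⟩ = ConjClasses.mk (⟨g⁻¹ * F g, hfix g h⟩ : H) := by
    intro g h
    refine ConjClasses.mk_eq_mk_iff_isConj.mpr (key _ _ (hs' _) h 1 ?_)
    have e : F (s ⟨F g * g⁻¹, h⟩) * (s ⟨F g * g⁻¹, h⟩)⁻¹ = F g * g⁻¹ := hs ⟨F g * g⁻¹, h⟩
    rw [e]
    simp
  refine ⟨Quotient.lift f hf, ⟨?_, ?_⟩, fun g h h' => hφ g h⟩
  · intro c c' hcc
    induction c using Quotient.inductionOn with
    | _ a =>
    induction c' using Quotient.inductionOn with
    | _ a' =>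
    have h : IsConj (⟨(s a)⁻¹ * F (s a), hfix _ (hs' a)⟩ : H) ⟨(s a')⁻¹ * F (s a'), hfix _ (hs' a')⟩ :=
      ConjClasses.mk_eq_mk_iff_isConj.mp hcc
    obtain ⟨y, hy⟩ := isConj_iff.mp h
    refine Quotient.sound (isConj_iff.mpr ?_)
    have hyF : F (y : G) = y := y.2
    have hy' : (y : G) * ((s a)⁻¹ * F (s a)) * (y : G)⁻¹ = (s a')⁻¹ * F (s a') := congrArg Subtype.val hy
    let z : G := s a' * (s a * (y : G)⁻¹)⁻¹
    have hFs : F (s a') = s a' * ((y : G) * ((s a)⁻¹ * F (s a)) * (y : G)⁻¹) := by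
      rw [hy', mul_inv_cancel_left]
    have hz : F z = z := by
      simp only [z, map_mul, map_inv, hyF, hFs]
      group
    refine ⟨⟨z, hz⟩, Subtype.ext ?_⟩
    have e : F (s a) * (s a)⁻¹ = (a : G) := hs a
    have e' : F (s a') * (s a')⁻¹ = (a' : G) := hs a'
    show z * (a : G) * z⁻¹ = (a' : G)
    rw [← e, ← e', hFs]
    simp only [z]
    group
  · intro c
    induction c using Quotient.inductionOn with
    | _ b =>
    obtain ⟨g₀, hg⟩ := hL ((b : G)⁻¹)
    have hb : g₀⁻¹⁻¹ * F g₀⁻¹ = (b : G) := by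
      rw [map_inv, inv_inv, ← inv_inv (b : G), ← (show F g₀ * g₀⁻¹ = (b : G)⁻¹ from hg)]
      group
    have h : F (F g₀⁻¹ * g₀⁻¹⁻¹) = F g₀⁻¹ * g₀⁻¹⁻¹ := hfix' _ (by rw [hb]; exact b.2)
    refine ⟨ConjClasses.mk ⟨F g₀⁻¹ * g₀⁻¹⁻¹, h⟩, (hφ _ h).trans ?_⟩
    exact congrArg ConjClasses.mk (Subtype.ext hb)

end Groth.Agent.S8625
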