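import Groth.Statements.S8630
import Mathlib
import Groth.Prelude

set_option linter.all false

set_option autoImplicit false
open Zeta

open CategoryTheory MonoidalCategory

namespace Groth.Agent.S8630

/-- Fatou's lemma: let P, Q ∈ ℚ[T] be coprime with constant coefficient 1, and suppose the power series
P/Q has integer coefficients, i.e. P = Q·Z in ℚ⟦T⟧ for a power series Z with coefficients in ℤ. Then
P and Q have integer coefficients. -/
theorem result (P Q : Polynomial ℚ)
    (hPQ : IsCoprime P Q) (hP : P.coeff 0 = 1) (hQ : Q.coeff 0 = 1) (Z : PowerSeries ℤ)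
    (hZ : (P : PowerSeries ℚ) = (Q : PowerSeries ℚ) * PowerSeries.map (Int.castRingHom ℚ) Z) :
    (∃ P₀ : Polynomial ℤ, P₀.map (Int.castRingHom ℚ) = P) ∧
      ∃ Q₀ : Polynomial ℤ, Q₀.map (Int.castRingHom ℚ) = Q := by
  set ι := Int.castRingHom ℚ
  have intP : ∀ R : Polynomial ℚ, ∃ (b : ℤ) (r : Polynomial ℤ), b ≠ 0 ∧ r.map ι = Polynomial.C (b : ℚ) * R := by
    intro R
    obtain ⟨⟨b, hb⟩, h⟩ := IsLocalization.integerNormalization_map_to_map (nonZeroDivisors ℤ) R
    refine ⟨b, IsLocalization.integerNormalization (nonZeroDivisors ℤ) R, nonZeroDivisors.ne_zero hb, ?_⟩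
    rw [show ι = algebraMap ℤ ℚ from rfl, h, zsmul_eq_mul, map_intCast]
  obtain ⟨A, B, hAB⟩ := hPQ
  obtain ⟨b, q, hb, hq⟩ := intP Q
  set q₁ := q.primPart with hq₁
  have hprim : q₁.IsPrimitive := q.isPrimitive_primPart
  obtain ⟨cq, hcq, hq₁Q⟩ : ∃ c : ℚ, c ≠ 0 ∧ q₁.map ι = Polynomial.C c * Q := by
    have hq0 : q ≠ 0 := fun h => by
      have := congrArg (fun R => Polynomial.coeff R 0) hq
      simp [h, hQ] at this
      exact hb (by exact_mod_cast this.symm)
    have hc0 : ((q.content : ℤ) : ℚ) ≠ 0 := by simpa [Polynomial.content_eq_zero_iff] using hq0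
    refine ⟨(b : ℚ) / (q.content : ℚ), div_ne_zero (by exact_mod_cast hb) hc0, ?_⟩
    have h2 : Polynomial.C (q.content : ℚ) * q₁.map ι = Polynomial.C (b : ℚ) * Q := by
      rw [← hq]; conv_rhs => rw [q.eq_C_content_mul_primPart]
      rw [Polynomial.map_mul, Polynomial.map_C]; rfl
    apply mul_left_cancel₀ (Polynomial.C_ne_zero.2 hc0)
    rw [h2, ← mul_assoc, ← map_mul, mul_div_cancel₀ _ hc0]
  obtain ⟨ba, a, hba, ha⟩ := intP A
  obtain ⟨bb, bp, hbb, hbp⟩ := intP B
  have hunit : ∀ N : ℕ, ∀ W : PowerSeries ℤ, ∀ M : ℤ, M.natAbs = N → M ≠ 0 → W * (q₁ : PowerSeries ℤ) = PowerSeries.C M →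
      IsUnit (q₁.coeff 0) := by
    intro N
    induction N using Nat.strong_induction_on with
    | _ N ih =>
      intro W M hMN hM0 hW
      by_cases h1 : M.natAbs = 1
      · refine isUnit_of_mul_isUnit_right (x := PowerSeries.constantCoeff W) ?_
        have h := congrArg PowerSeries.constantCoeff hW
        rw [map_mul, PowerSeries.constantCoeff_C, ← PowerSeries.coeff_zero_eq_constantCoeff_apply (φ := (q₁ : PowerSeries ℤ)), Polynomial.coeff_coe] at h
        rw [h]; exact Int.isUnit_iff_natAbs_eq.2 h1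
      · obtain ⟨l, hl, hlM⟩ := Nat.exists_prime_and_dvd h1
        haveI : Fact l.Prime := ⟨hl⟩
        have hz := congrArg (PowerSeries.map (Int.castRingHom (ZMod l))) hW
        rw [map_mul, PowerSeries.map_C, ← Polynomial.polynomial_map_coe,
          show (Int.castRingHom (ZMod l)) M = 0 from (ZMod.intCast_zmod_eq_zero_iff_dvd M l).2 (Int.natCast_dvd.2 hlM), map_zero] at hz
        have hW0 : PowerSeries.map (Int.castRingHom (ZMod l)) W = 0 := by
          refine (mul_eq_zero.1 hz).resolve_right fun h0 => ?_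
          have hz' : q₁.map (Int.castRingHom (ZMod l)) = 0 := by exact_mod_cast h0
          have hl1 : IsUnit (l : ℤ) := hprim (l : ℤ) (Polynomial.C_dvd_iff_dvd_coeff _ _ |>.2 fun i => by
            have := congrArg (fun R => Polynomial.coeff R i) hz'
            simp only [Polynomial.coeff_map, Polynomial.coeff_zero] at this
            exact (ZMod.intCast_zmod_eq_zero_iff_dvd _ l).1 this)
          exact hl.ne_one (by simpa [Int.isUnit_iff_natAbs_eq] using hl1)
        choose w hw using fun i => (ZMod.intCast_zmod_eq_zero_iff_dvd (PowerSeries.coeff i W) l).1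
          (by simpa using congrArg (PowerSeries.coeff i) hW0)
        obtain ⟨M', hM'⟩ := Int.natCast_dvd.2 hlM
        have hWw : W = PowerSeries.C (l : ℤ) * PowerSeries.mk w := PowerSeries.ext fun i => by rw [PowerSeries.coeff_C_mul, PowerSeries.coeff_mk, hw]
        have hlz : PowerSeries.C (l : ℤ) ≠ 0 := fun h => hl.ne_zero (by simpa using congrArg PowerSeries.constantCoeff h)
        refine ih M'.natAbs ?_ (PowerSeries.mk w) M' rfl (fun h => hM0 (by rw [hM', h, mul_zero])) ?_
        · rw [← hMN, hM', Int.natAbs_mul, Int.natAbs_natCast]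
          exact lt_mul_of_one_lt_left (Int.natAbs_pos.2 fun h => hM0 (by rw [hM', h, mul_zero])) hl.one_lt
        · apply mul_left_cancel₀ hlz
          rw [← mul_assoc, ← hWw, hW, ← map_mul, hM']
  let Φ := PowerSeries.map ι
  have hAB' : ((A : PowerSeries ℚ) * Φ Z + (B : PowerSeries ℚ)) * (Q : PowerSeries ℚ) = 1 := by
    have h := congrArg (fun R : Polynomial ℚ => (R : PowerSeries ℚ)) hAB
    simp only [Polynomial.coe_add, Polynomial.coe_mul, Polynomial.coe_one, hZ] at h
    rw [← h]; ring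
  -- clear denominators
  have hinj : Function.Injective Φ := PowerSeries.map_injective _ Int.cast_injective
  obtain ⟨W, M, hM0, hW⟩ : ∃ (W : PowerSeries ℤ) (M : ℤ), M ≠ 0 ∧ W * (q₁ : PowerSeries ℤ) = PowerSeries.C M := by
    refine ⟨PowerSeries.C (bb * cq.den : ℤ) * (a : PowerSeries ℤ) * Z + PowerSeries.C (ba * cq.den : ℤ) * (bp : PowerSeries ℤ),
      ba * bb * cq.num, mul_ne_zero (mul_ne_zero hba hbb) (Rat.num_ne_zero.2 hcq), hinj ?_⟩
    simp only [Φ, map_add, map_mul, PowerSeries.map_C, ← Polynomial.polynomial_map_coe, ha, hbp, hq₁Q,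
      Polynomial.coe_mul, Polynomial.coe_C]
    have hden : PowerSeries.C ((cq.den : ℤ) : ℚ) * PowerSeries.C cq = PowerSeries.C ((cq.num : ℤ) : ℚ) := by
      rw [← map_mul]; congr 1; rw [mul_comm, Int.cast_natCast]; exact Rat.mul_den_eq_num cq
    simp only [ι, eq_intCast, Int.cast_mul, map_mul] at *
    linear_combination (PowerSeries.C (ba : ℚ) * PowerSeries.C (bb : ℚ)) * (((A : PowerSeries ℚ) * Φ Z + (B : PowerSeries ℚ)) * (Q : PowerSeries ℚ)) * hden +
      (PowerSeries.C (ba : ℚ) * PowerSeries.C (bb : ℚ) * PowerSeries.C (cq.num : ℚ)) * hAB'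
  obtain ⟨e, he⟩ := hunit M.natAbs W M rfl hM0 hW
  have hcqe : cq = ((e : ℤ) : ℚ) := by
    have h := congrArg (fun R => Polynomial.coeff R 0) hq₁Q
    simp only [Polynomial.coeff_map, Polynomial.coeff_C_mul, hQ, mul_one] at h
    rw [← h, he]; rfl
  have hQint : (Polynomial.C ((e⁻¹ : ℤˣ) : ℤ) * q₁).map ι = Q := by
    rw [Polynomial.map_mul, Polynomial.map_C, hq₁Q, hcqe, ← mul_assoc, ← map_mul, show ι ((e⁻¹ : ℤˣ) : ℤ) = (((e⁻¹ : ℤˣ) : ℤ) : ℚ) from rfl,
      ← Int.cast_mul, Units.inv_mul, Int.cast_one, map_one, one_mul]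
  set q₀ := Polynomial.C ((e⁻¹ : ℤˣ) : ℤ) * q₁
  refine ⟨?_, ⟨q₀, hQint⟩⟩
  have hPc : ∀ i, P.coeff i = ι (PowerSeries.coeff i ((q₀ : PowerSeries ℤ) * Z)) := fun i => by
    rw [← PowerSeries.coeff_map, map_mul, ← Polynomial.polynomial_map_coe, hQint, ← hZ, Polynomial.coeff_coe]
  refine ⟨PowerSeries.trunc (P.natDegree + 1) ((q₀ : PowerSeries ℤ) * Z), Polynomial.ext fun i => ?_⟩
  rw [Polynomial.coeff_map, PowerSeries.coeff_trunc]
  split_ifs with hi
  · rw [hPc]
  · rw [map_zero, Polynomial.coeff_eq_zero_of_natDegree_lt (by omega)]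

end Groth.Agent.S8630
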