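import Groth.Statements.S8664
import Groth.Agent.KPr28.FibreReg

set_option autoImplicit false
universe v u
open CategoryTheory CategoryTheory.Limits AlgebraicGeometry
attribute [local instance] HasDerivedCategory.standard
open SGA6

namespace Groth.Agent.S8664

/-- Let S be a quasi-compact scheme, f : P = P^r_S ⟶ S the projection, and F a finitely presented
O_P-module which is flat over S (all stalks of F flat over the corresponding local rings of S). Then
there is n₀ such that for all n ≥ n₀ one has R^q f_*(F(n)) = 0 for every q ≥ 1 (higher direct images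
of the underlying abelian sheaf) and f_*(F(n)) is finite locally free on S, with F(n) = O_P(n) ⊗ F.
(The published statement is for the projective bundle of any finite locally free O_S-module and also
asserts (iii) that ⊕_{n ≥ n₀} f_*(F(n)) is a finitely presented graded module over the symmetric
algebra; this row takes the trivial bundle and states (i), (ii) only.) -/
theorem result (S : Scheme.{u}) [CompactSpace ↥S] (r : ℕ)
    (F : (KRR.PY r S).Modules) (hF : CohB1.IsFP F) (hfl : FlatMod.IsFlatOver (KRR.pr r S) F) :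
    ∃ n₀ : ℕ, ∀ n : ℕ, n₀ ≤ n →
      (∀ q : ℕ, 1 ≤ q → IsZero ((Coh.RpushAb (KRR.pr r S) q).obj (Coh.toAb (KRR.twF r S (n : ℤ) F)))) ∧
      FlatMod.IsFinLocFree ((Scheme.Modules.pushforward (KRR.pr r S)).obj (KRR.twF r S (n : ℤ) F)) := by
  haveI : IsProper (KRR.pr r S) := Groth.Agent.RelVALib.isProper_toBase r S
  haveI : LocallyOfFinitePresentation (KRR.pr r S) := Groth.Agent.KPr28.locallyOfFinitePresentation_pr r S
  haveI : HasInjectiveResolutions (KRR.PY r S).Modules := Groth.Agent.Coherent.hasInjectiveResolutions_modules _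
  haveI := Groth.Agent.KPr28.isQCoh_of_isFP hF
  obtain ⟨N, hN⟩ := Groth.Agent.KPr28.exists_bound_fibres hF hfl
  refine ⟨N, fun n hn => ?_⟩
  haveI := Groth.Agent.KPr28.Gen.isQCoh_twF (F := F) (n : ℤ)
  have hfp := Groth.Agent.KPr28.isFP_twF hF (n : ℤ)
  have hfl' := Groth.Agent.KPr28.isFlatOver_twF hfl (n : ℤ)
  have h : ∀ q, 1 ≤ q → IsZero ((Coh.Rpush (KRR.pr r S) q).obj (KRR.twF r S (n : ℤ) F)) := fun q hq =>
    Groth.Agent.CohExch.isZero_rpush_of_fibres hfp hfl' q (hN n (by exact_mod_cast hn) q hq)
  refine ⟨fun q hq => ((Groth.Agent.Coherent.toAbFunctor S).map_isZero (h q hq)).of_iso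
    (Groth.Agent.Coherent.toAbRpushIso (KRR.pr r S) _ q).symm, ?_⟩
  exact Groth.Agent.DQCoh.ProperSuppFlat17.isFinLocFree_push (KRR.pr r S) _ hfp hfl'
    (Groth.Agent.Et18.isProperOver_of_isProper _
      (Groth.Agent.Coherent.isClosed_support _ (Groth.Agent.Coherent.locallyFinGen_of_isFT _
        (Groth.Agent.CAlgSmall.FPExtend.isFT_of_isFP _ hfp))))
    fun i hi => h i hi

end Groth.Agent.S8664
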