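import Groth.Statements.S8665
import Groth.Agent.KSplit28.Ample
set_option linter.style.haveILetI false
set_option backward.isDefEq.respectTransparency false

set_option autoImplicit false
universe v u
open CategoryTheory CategoryTheory.Limits AlgebraicGeometry
attribute [local instance] HasDerivedCategory.standard
open KRR

namespace Groth.Agent.S8665
open Groth.Agent Groth.Agent.KSplit28 in
theorem nilpotent_sub {X : Scheme.{u}} [ConnectedSpace ↥X] {L : X.Modules} (hL : CohB1.IsAmple L)
    {K : Type v} [CommRing K] [LambdaRing.LambdaOps K] {P : LambdaRing.PosStructure K} {φ : SGA6.Kvb X →+ K}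
    (hK : KRR.IsModel X K P φ) (x : K) : IsNilpotent (x - (P.aug x : K)) := by
  obtain ⟨K', _, _, P', φ', hK'⟩ := KModel28.exists_model X
  obtain ⟨e, he, -, -, haug⟩ := exists_iso hK' hK
  obtain ⟨y, rfl⟩ := he.2 x
  have h := (isNilpotent_sub_aug hL hK' y).map e
  rwa [map_sub, map_intCast, ← haug] at h

/-- Let X be a connected quasi-compact scheme with an ample invertible O_X-module L, and (K, P, φ) a
model of the λ-ring K(X) of finite locally free O_X-modules with its positive structure
(augmentation = rank). Then every x ∈ K(X) of augmentation zero is nilpotent: the augmentation ideal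
F^1 K(X) is a nil ideal. (The published statement allows X disconnected, with the augmentation
taking values in the locally constant integer-valued functions H^0(X, ℤ); this row takes X
connected, as the model requires.) -/
theorem result (X : Scheme.{u}) [ConnectedSpace ↥X] (L : X.Modules) (hL : CohB1.IsAmple L)
    (K : Type v) [CommRing K] [LambdaRing.LambdaOps K] (P : LambdaRing.PosStructure K) (φ : SGA6.Kvb X →+ K) (hK : KRR.IsModel X K P φ)
    (x : K) (hx : P.aug x = 0) : IsNilpotent x := by
  simpa [hx] using nilpotent_sub hL hK x

end Groth.Agent.S8665
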