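import Groth.Statements.S8666
import Mathlib.RingTheory.PicardGroup

set_option autoImplicit false
universe u
open CAlg

namespace Groth.Agent.S8666

/-- Let A be a Noetherian ring, M an invertible A-module and p_1, …, p_k finitely many primes of A
(points of Spec A). Then there is a single element s ∈ M whose image generates M_{p_i} as an
A_{p_i}-module for every i, i.e. s is a basis of the stalk of M at each of the given points. -/
theorem result (A : Type u) [CommRing A] [IsNoetherianRing A]
    (M : Type u) [AddCommGroup M] [Module A M] [Module.Invertible A M] (ι : Type) [Finite ι] (p : ι → PrimeSpectrum A) :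
    ∃ s : M, ∀ i : ι, Submodule.span (Localization.AtPrime (p i).asIdeal)
      {LocalizedModule.mkLinearMap (p i).asIdeal.primeCompl M s} = ⊤ := by
  classical
  cases nonempty_fintype ι
  let good (q : PrimeSpectrum A) (s : M) : Prop := Submodule.span (Localization.AtPrime q.asIdeal)
      {LocalizedModule.mkLinearMap q.asIdeal.primeCompl M s} = ⊤
  have loc : ∀ q : PrimeSpectrum A, ∃ bad : Submodule A M, (∀ s, good q s ↔ s ∉ bad) ∧
      (∀ a ∈ q.asIdeal, ∀ m : M, a • m ∈ bad) ∧ (∀ a m, a ∉ q.asIdeal → a • m ∈ bad → m ∈ bad) ∧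
      bad ≠ ⊤ := by
    intro q
    let Aq := Localization.AtPrime q.asIdeal
    let Mq := LocalizedModule q.asIdeal.primeCompl M
    have : Module.Free Aq Mq := Module.free_of_flat_of_isLocalRing
    obtain ⟨e⟩ := (Module.Invertible.free_iff_linearEquiv (R := Aq) (M := Mq)).mp this
    let φ : M →ₗ[A] Aq := (e.toLinearMap.restrictScalars A).comp (LocalizedModule.mkLinearMap _ M)
    let bad := ((IsLocalRing.maximalIdeal Aq).restrictScalars A).comap φ
    have hgood : ∀ s, good q s ↔ s ∉ bad := by
      intro s
      have : s ∈ bad ↔ ¬ IsUnit (φ s) := Iff.rfl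
      rw [this, not_not, ← Ideal.span_singleton_eq_top]
      constructor
      · intro h
        have := congrArg (Submodule.map e.toLinearMap) h
        rw [Submodule.map_span, Set.image_singleton, Submodule.map_top, LinearEquiv.range] at this
        exact this
      · intro h
        apply Submodule.map_injective_of_injective (f := e.toLinearMap) e.injective
        rw [Submodule.map_span, Set.image_singleton, Submodule.map_top, LinearEquiv.range]
        exact h
    have hmem : ∀ a : A, algebraMap A Aq a ∈ IsLocalRing.maximalIdeal Aq ↔ a ∈ q.asIdeal := fun a =>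
      IsLocalization.AtPrime.to_map_mem_maximal_iff Aq q.asIdeal a
    refine ⟨bad, hgood, ?_, ?_, ?_⟩
    · intro a ha m
      show φ (a • m) ∈ IsLocalRing.maximalIdeal Aq
      rw [map_smul, Algebra.smul_def]
      exact Ideal.mul_mem_right _ _ ((hmem a).mpr ha)
    · intro a m ha hm
      have hm' : φ (a • m) ∈ IsLocalRing.maximalIdeal Aq := hm
      rw [map_smul, Algebra.smul_def] at hm'
      exact ((IsLocalRing.maximalIdeal.isMaximal Aq).isPrime.mem_or_mem hm').resolve_left
        (fun h => ha ((hmem a).mp h))
    · intro htop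
      obtain ⟨⟨m, c⟩, hmc⟩ := IsLocalizedModule.surj q.asIdeal.primeCompl
        (LocalizedModule.mkLinearMap q.asIdeal.primeCompl M) (e.symm 1)
      have h1 : φ m ∈ IsLocalRing.maximalIdeal Aq := (htop ▸ Submodule.mem_top : m ∈ bad)
      have h2 : φ m = algebraMap A Aq c := by
        simp only [φ, LinearMap.comp_apply, ← hmc]
        rw [Algebra.algebraMap_eq_smul_one]
        simp [Submonoid.smul_def]
      exact c.2 ((hmem c).mp (h2 ▸ h1))
  choose bad hgood hsm hdiv hne using loc
  suffices H : ∀ F : Finset (PrimeSpectrum A), ∃ s, ∀ q ∈ F, s ∉ bad q by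
    obtain ⟨s, hs⟩ := H (Finset.univ.image p)
    exact ⟨s, fun i => (hgood _ s).mpr (hs _ (Finset.mem_image_of_mem _ (Finset.mem_univ i)))⟩
  intro F
  induction F using Finset.strongInduction with
  | H F ih =>
    rcases F.eq_empty_or_nonempty with rfl | hF
    · exact ⟨0, by simp⟩
    obtain ⟨q, hqmin⟩ := F.exists_minimal hF
    obtain ⟨s, hs⟩ := ih (F.erase q) (Finset.erase_ssubset hqmin.prop)
    by_cases hsq : s ∉ bad q
    · refine ⟨s, fun r hr => ?_⟩
      by_cases hrq : r = q
      · exact hrq ▸ hsq
      · exact hs r (Finset.mem_erase.mpr ⟨hrq, hr⟩)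
    · rw [not_not] at hsq
      obtain ⟨t, -, ht⟩ := SetLike.exists_of_lt (hne q).lt_top
      have : ∀ r ∈ F.erase q, ∃ a, a ∈ r.asIdeal ∧ a ∉ q.asIdeal := by
        intro r hr
        apply SetLike.not_le_iff_exists.mp
        intro hle
        exact (Finset.mem_erase.mp hr).1 (le_antisymm hle (hqmin.2 (Finset.mem_of_mem_erase hr) hle))
      choose! a ha hna using this
      refine ⟨s + (∏ r ∈ F.erase q, a r) • t, fun r hr => ?_⟩
      by_cases hrq : r = q
      · subst hrq
        intro h
        refine ht (hdiv r _ t ?_ ((bad r).add_mem_iff_right hsq |>.mp h))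
        intro hmem
        obtain ⟨r', hr', hm'⟩ := (Ideal.IsPrime.prod_mem_iff).mp hmem
        exact hna r' hr' hm'
      · have hr' := Finset.mem_erase.mpr ⟨hrq, hr⟩
        intro h
        refine hs r hr' ((bad r).add_mem_iff_left ?_ |>.mp h)
        apply hsm
        exact Ideal.IsPrime.prod_mem_iff.mpr ⟨r, hr', ha r hr'⟩

end Groth.Agent.S8666
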