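import Groth.Statements.S8667
import Groth.Agent.KPerfPn28.Bundle

set_option autoImplicit false
set_option linter.style.haveILetI false
set_option backward.isDefEq.respectTransparency false
universe v u
open CategoryTheory CategoryTheory.Limits AlgebraicGeometry
attribute [local instance] HasDerivedCategory.standard
open SGA6

namespace Groth.Agent.S8667

/-- Let S be a Noetherian scheme, E a finite locally free O_S-module of rank n, and (f : P ⟶ S, O(1), q)
the projective bundle P(E) (universal property for invertible quotients of pull-backs of E), with P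
Noetherian. On K_• = K₀ of coherent modules let f^* be induced by pull-back along the flat f and ξ·
by tensoring with O(1) (both exact, carried as instance hypotheses, and preserving coherence,
hypotheses hf and ht). Then the map (x_0, …, x_{n−1}) ↦ Σ_{i<n} ξ^i · f^*(x_i) from K_•(S)^n to
K_•(P) is bijective. (The published statement uses the basis ξ^{−i}, 0 ≤ i < n; multiplying by the
unit ξ^{n−1} turns it into 1, ξ, …, ξ^{n−1}, so the two statements are equivalent.) -/
theorem result {S P : Scheme.{u}} [IsNoetherian S] [IsNoetherian P] (n : ℕ)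
    (E : S.Modules) (hE : FlatMod.IsFinLocFreeOfRank n E)
    (f : P ⟶ S) (O1 : P.Modules) (q : (Scheme.Modules.pullback f).obj E ⟶ O1) (hPB : KRR.IsProjBundle f E O1 q)
    [(Scheme.Modules.pullback f).Additive] [PreservesFiniteLimits (Scheme.Modules.pullback f)] [PreservesFiniteColimits (Scheme.Modules.pullback f)]
    (hf : ∀ M : S.Modules, Coh.IsCoh M → Coh.IsCoh ((Scheme.Modules.pullback f).obj M))
    [PreservesFiniteLimits ((DCoh.tensorBi (X := P)).obj O1)] [PreservesFiniteColimits ((DCoh.tensorBi (X := P)).obj O1)]
    (ht : ∀ M : P.Modules, Coh.IsCoh M → Coh.IsCoh (((DCoh.tensorBi (X := P)).obj O1).obj M)) :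
    Function.Bijective (fun x : Fin n → SGA6.Kcoh S =>
      ∑ i : Fin n, (⇑(SGA6.mapSub ((DCoh.tensorBi (X := P)).obj O1) (fun M : P.Modules => Coh.IsCoh M) (fun M : P.Modules => Coh.IsCoh M) ht))^[(i : ℕ)]
        (SGA6.mapSub (Scheme.Modules.pullback f) (fun M : S.Modules => Coh.IsCoh M) (fun M : P.Modules => Coh.IsCoh M) hf (x i))) := by
  exact Groth.Agent.KPerfPn28.bijective_bundle n E hE f O1 q hPB hf ht

end Groth.Agent.S8667
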