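import Groth.Statements.S8668
import Groth.Agent.Omega15.FactorSeq15
import Groth.Agent.ExtFilt28.Main
import Groth.Agent.DCat.PullPerf
import Groth.Agent.OmegaLib.LocFree
-- import your own Groth.Agent.* helpers here

set_option autoImplicit false
universe u
open CategoryTheory CategoryTheory.Limits AlgebraicGeometry
attribute [local instance] HasDerivedCategory.standard
open Synt

namespace Groth.Agent.S8668

/-- Let f : X ⟶ Y be a local complete intersection morphism in the factorisation sense (around each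
point, locally of finite type and factoring as a Koszul-regular immersion followed by a smooth
morphism), and let f = i ≫ g = i' ≫ g' be two factorisations with g : V ⟶ Y and g' : V' ⟶ Y smooth
and i, i' closed immersions. Let d : O_V → Ω and d' : O_{V'} → Ω' be universal Y-derivations
(sheaves of relative differentials of V and V' over Y). Then i^*Ω, i'^*Ω' and the conormal sheaves
N_i, N_{i'} are finite locally free, and in K₀ of finite locally free O_X-modules one has [i^*Ω] −
[N_i] = [i'^*Ω'] − [N_{i'}]: the virtual cotangent class of f does not depend on the factorisation. -/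
theorem result {X Y V V' : Scheme.{u}} (f : X ⟶ Y) (hf : ∀ x : X, Synt.IsKoszulAt f x)
    (g : V ⟶ Y) [Smooth g] (i : X ⟶ V) [IsClosedImmersion i] (hi : i ≫ g = f)
    (g' : V' ⟶ Y) [Smooth g'] (i' : X ⟶ V') [IsClosedImmersion i'] (hi' : i' ≫ g' = f)
    (Ω : V.Modules) (d : OmegaSh.Der g Ω) (hd : OmegaSh.IsUniversal d)
    (Ω' : V'.Modules) (d' : OmegaSh.Der g' Ω') (hd' : OmegaSh.IsUniversal d') :
    FlatMod.IsFinLocFree ((Scheme.Modules.pullback i).obj Ω) ∧ FlatMod.IsFinLocFree (Omega.conormal i) ∧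
    FlatMod.IsFinLocFree ((Scheme.Modules.pullback i').obj Ω') ∧ FlatMod.IsFinLocFree (Omega.conormal i') ∧
    KRR.cl X ((Scheme.Modules.pullback i).obj Ω) - KRR.cl X (Omega.conormal i) =
      KRR.cl X ((Scheme.Modules.pullback i').obj Ω') - KRR.cl X (Omega.conormal i') := by
  have hk : ∀ x : X, FlatMorKoszul.IsKoszulPt f x := fun x => Synt15.isKoszulPt_of_isKoszulAt f (hf x)
  have hΩ : FlatMod.IsFinLocFree ((Scheme.Modules.pullback i).obj Ω) := DCat.PullPerf.isFinLocFree_pullback i
    (OmegaLib.isFinLocFree_of_isFormallySmoothHom hd (Omega15.isFormallySmoothHom_of_smooth g))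
  have hΩ' : FlatMod.IsFinLocFree ((Scheme.Modules.pullback i').obj Ω') := DCat.PullPerf.isFinLocFree_pullback i'
    (OmegaLib.isFinLocFree_of_isFormallySmoothHom hd' (Omega15.isFormallySmoothHom_of_smooth g'))
  have hN := Omega15.isFinLocFree_conormal_of_isKoszulPt f g i hi hk
  have hN' := Omega15.isFinLocFree_conormal_of_isKoszulPt f g' i' hi' hk
  refine ⟨hΩ, hN, hΩ', hN', ?_⟩
  let j : X ⟶ pullback g g' := pullback.lift i i' (hi.trans hi'.symm)
  have hj₁ : j ≫ pullback.fst g g' = i := pullback.lift_fst _ _ _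
  have hj₂ : j ≫ pullback.snd g g' = i' := pullback.lift_snd _ _ _
  haveI : IsImmersion (j ≫ pullback.fst g g') := hj₁ ▸ inferInstance
  haveI : IsImmersion j := IsImmersion.of_comp j (pullback.fst g g')
  let v := j.coborderRange.ι
  let j₀ := j.liftCoborder
  have h₁ : j₀ ≫ v ≫ pullback.fst g g' = i := by rw [Scheme.Hom.liftCoborder_ι_assoc, hj₁]
  have h₂ : j₀ ≫ v ≫ pullback.snd g g' = i' := by rw [Scheme.Hom.liftCoborder_ι_assoc, hj₂]
  have hNj := Omega15.isFinLocFree_conormal_of_isKoszulPt f ((v ≫ pullback.fst g g') ≫ g) j₀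
    (by rw [← Category.assoc, h₁, hi]) hk
  have key : ∀ {A B C : X.Modules} (S : ShortComplex X.Modules), S.ShortExact → Nonempty (S.X₁ ≅ A) →
      Nonempty (S.X₂ ≅ B) → Nonempty (S.X₃ ≅ C) → FlatMod.IsFinLocFree A → FlatMod.IsFinLocFree B →
      FlatMod.IsFinLocFree C → KRR.cl X B = KRR.cl X A + KRR.cl X C := by
    rintro A B C S hS ⟨eA⟩ ⟨eB⟩ ⟨eC⟩ hA hB hC
    refine Eq.trans ?_ ((ExtFilt28.clv_ses hS (ExtFilt28.isFinLocFree_congr eA.symm hA)
      (ExtFilt28.isFinLocFree_congr eB.symm hB) (ExtFilt28.isFinLocFree_congr eC.symm hC)).trans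
        (congrArg₂ (· + ·) (ExtFilt28.clv_iso eA) (ExtFilt28.clv_iso eC)))
    exact (ExtFilt28.clv_iso eB).symm
  obtain ⟨S, hS, e₁, e₂, e₃⟩ := Omega15.exists_conormal_ses (IsPullback.of_hasPullback g g') v j₀ i i' h₁ h₂ hd'
  obtain ⟨S', hS', e₁', e₂', e₃'⟩ := Omega15.exists_conormal_ses (IsPullback.of_hasPullback g g').flip v j₀ i' i h₂ h₁ hd
  have a := key S hS e₁ e₂ e₃ hN hNj hΩ'
  have b := key S' hS' e₁' e₂' e₃' hN' hNj hΩ
  rw [sub_eq_sub_iff_add_eq_add]
  rw [a, add_comm (KRR.cl X (Omega.conormal i'))] at b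
  rw [← b, add_comm]

end Groth.Agent.S8668
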