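import Groth.Statements.S8669
import Groth.Agent.KPr28.FreeBasis

set_option autoImplicit false
universe v u
open CategoryTheory CategoryTheory.Limits AlgebraicGeometry
attribute [local instance] HasDerivedCategory.standard
open SGA6

namespace Groth.Agent.S8669

/-- Let S be a quasi-compact scheme, f : P = P^r_S ⟶ S the projection, and F, G finite locally free
O_P-modules whose classes in K₀ of finite locally free O_P-modules coincide. Then there is n₀ such
that for every n ≥ n₀ the modules f_*(F(n)) and f_*(G(n)) are finite locally free on S and have the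
same class in K₀ of finite locally free O_S-modules, where F(n) = O_P(n) ⊗ F. (The published
statement is for the projective bundle of any finite locally free module of rank r + 1; this row
takes the trivial bundle.) -/
theorem result (S : Scheme.{u}) [CompactSpace ↥S] (r : ℕ)
    (F G : (KRR.PY r S).Modules) (hF : FlatMod.IsFinLocFree F) (hG : FlatMod.IsFinLocFree G)
    (h : KRR.cl (KRR.PY r S) F = KRR.cl (KRR.PY r S) G) :
    ∃ n₀ : ℕ, ∀ n : ℕ, n₀ ≤ n →
      FlatMod.IsFinLocFree ((Scheme.Modules.pushforward (KRR.pr r S)).obj (KRR.twF r S (n : ℤ) F)) ∧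
      FlatMod.IsFinLocFree ((Scheme.Modules.pushforward (KRR.pr r S)).obj (KRR.twF r S (n : ℤ) G)) ∧
      KRR.cl S ((Scheme.Modules.pushforward (KRR.pr r S)).obj (KRR.twF r S (n : ℤ) F)) =
        KRR.cl S ((Scheme.Modules.pushforward (KRR.pr r S)).obj (KRR.twF r S (n : ℤ) G)) := by
  obtain ⟨q, hq⟩ := Groth.Agent.KPr28.exists_pushPr (n := r) (Y := S)
  obtain ⟨N, hN⟩ := Groth.Agent.KPr28.exists_regBound hF
  obtain ⟨M, hM⟩ := Groth.Agent.KPr28.exists_regBound hG
  refine ⟨max N M, fun n hn => ?_⟩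
  have h₁ := hN n (by omega)
  have h₂ := hM n (by omega)
  refine ⟨Groth.Agent.KPr28.isFinLocFree_push_reg h₁.1 h₁.2, Groth.Agent.KPr28.isFinLocFree_push_reg h₂.1 h₂.2, ?_⟩
  obtain ⟨Q, hQ⟩ := Groth.Agent.KvbLam28.exists_lift (X := KRR.PY r S)
    (fun E => q (KRR.cl _ (KRR.twF r S (n : ℤ) E))) fun T hT a b c => by
      obtain ⟨U, hU, e₁, e₂, e₃⟩ := Groth.Agent.KPr28.twF_ses hT (n : ℤ)
      rw [← e₁, ← e₂, ← e₃, ← map_add]
      exact congrArg q (Groth.Agent.ExtFilt28.clv_ses hU (e₁ ▸ Groth.Agent.KPr28.isFinLocFree_twF a _)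
        (e₂ ▸ Groth.Agent.KPr28.isFinLocFree_twF b _) (e₃ ▸ Groth.Agent.KPr28.isFinLocFree_twF c _))
  rw [← hq _ h₁, ← hq _ h₂]
  exact (hQ F hF).symm.trans ((congrArg Q h).trans (hQ G hG))

end Groth.Agent.S8669
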