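import Groth.Statements.S8673
import Groth.Agent.S8665
set_option linter.style.haveILetI false
set_option backward.isDefEq.respectTransparency false

set_option autoImplicit false
universe v u
open CategoryTheory CategoryTheory.Limits AlgebraicGeometry
attribute [local instance] HasDerivedCategory.standard
open scoped TensorProduct
open KRR

namespace Groth.Agent.S8673

/-- If the kernel of `ε` is nil then `id ⊗ ε` detects units. -/
theorem isUnit_iff {A K : Type v} [CommRing A] [CommRing K] (ε : K →+* ℤ)
    (hε : ∀ x : K, IsNilpotent (x - (ε x : K))) (y : A ⊗[ℤ] K) :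
    IsUnit y ↔ IsUnit (Algebra.TensorProduct.map (AlgHom.id ℤ A) ε.toIntAlgHom y) := by
  let E := Algebra.TensorProduct.map (AlgHom.id ℤ A) ε.toIntAlgHom
  let J := Algebra.TensorProduct.map (AlgHom.id ℤ A) (Int.castRingHom K).toIntAlgHom
  have hnil : ∀ z, IsNilpotent (z - J (E z)) := fun z => by
    induction z using TensorProduct.induction_on with
    | zero => simp
    | add a b ha hb =>
      rw [map_add, map_add, add_sub_add_comm]
      exact (Commute.all _ _).isNilpotent_add ha hb
    | tmul a k =>
      show IsNilpotent (a ⊗ₜ[ℤ] k - a ⊗ₜ[ℤ] ((ε k : ℤ) : K))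
      rw [← TensorProduct.tmul_sub,
        show a ⊗ₜ[ℤ] (k - (ε k : K)) = a ⊗ₜ[ℤ] (1 : K) * (1 : A) ⊗ₜ[ℤ] (k - (ε k : K)) by simp]
      refine (Commute.all _ _).isNilpotent_mul_left ?_
      exact (hε k).map (Algebra.TensorProduct.includeRight (R := ℤ) (A := A) (B := K))
  refine ⟨fun h => h.map E, fun h => ?_⟩
  have hu := (hnil y).isUnit_add_left_of_commute (h.map J) (Commute.all _ _)
  rwa [add_sub_cancel] at hu

/-- Let X be a connected quasi-compact scheme with an ample invertible O_X-module, (K, P, φ) a model of
the λ-ring K(X) of finite locally free modules (augmentation ε = rank), and A a commutative ring.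
Then y ∈ A ⊗_ℤ K(X) is invertible if and only if (id ⊗ ε)(y) ∈ A ⊗_ℤ ℤ is invertible; in particular
the class of a nowhere-zero bundle is invertible in K(X) ⊗ ℚ. (The published statement allows X
disconnected, with ε valued in H^0(X, ℤ); this row takes X connected, as the model requires.) -/
theorem result (X : Scheme.{u}) [ConnectedSpace ↥X] (L : X.Modules) (hL : CohB1.IsAmple L)
    (K : Type v) [CommRing K] [LambdaRing.LambdaOps K] (P : LambdaRing.PosStructure K) (φ : SGA6.Kvb X →+ K) (hK : KRR.IsModel X K P φ)
    (A : Type v) [CommRing A] (y : A ⊗[ℤ] K) :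
    IsUnit y ↔ IsUnit (Algebra.TensorProduct.map (AlgHom.id ℤ A) P.aug.toIntAlgHom y) := by
  exact isUnit_iff P.aug (fun x => Groth.Agent.S8665.nilpotent_sub hL hK x) y

end Groth.Agent.S8673
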