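import Groth.Statements.S8677
import Groth.Agent.KTor28.ExcessSetup
import Groth.Agent.CycLib28.PB.Ops.LocFree
import Groth.Agent.KoszPn17.TwistGen
import Groth.Agent.VarietyLib.DegBasic
import Groth.Agent.KPerfPn28.Main
import Groth.Agent.DCat.LPull

set_option autoImplicit false
set_option linter.style.haveILetI false
set_option backward.isDefEq.respectTransparency false
universe v u
open CategoryTheory CategoryTheory.Limits AlgebraicGeometry
attribute [local instance] HasDerivedCategory.standard
open SGA6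

namespace Groth.Agent.S8677

/-- Let X be a scheme carrying an ample invertible O_X-module, i : Y ⟶ X a Koszul-regular closed
immersion whose conormal module N is finite locally free of constant rank c, f : X' ⟶ X the blowing
up of X along Y, and j : Y' ⟶ X', g : Y' ⟶ Y the exceptional divisor Y' = Y ×_X X' (a cartesian
square). Let φ : g^* N ⟶ N_{Y'/X'} be the canonical map of conormal sheaves (pinned by its values on
local sections of the ideals), F = ker φ the universal sub-bundle, and Λ^p F its exterior powers (L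
p). On K^• = K₀ of perfect complexes let i_*, j_* be induced by the exact direct images and f^* by
Lf^* (exactness, existence, triangulated structure and preservation of perfect complexes carried as
hypotheses). Then for every finite locally free O_Y-module M: f^*(i_*[M]) = Σ_{p<c} (−1)^p j_*[g^*M
⊗ Λ^p F] in K^•(X'). (The published statement allows the rank of N to vary and is stated for all x
in K^•(Y) as f^* i_*(x) = j_*(g^*(x)·λ_{−1}(F)); this row takes N of constant rank c and x the class
of a finite locally free module, which by additivity in x gives the published form for N of constant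
rank.) -/
theorem result {X Y X' Y' : Scheme.{u}} (L : X.Modules) (hL : CohB1.IsAmple L)
    (i : Y ⟶ X) [IsClosedImmersion i] (hi : RegImm.IsRegularImmersion .koszul i) (c : ℕ) (hN : FlatMod.IsFinLocFreeOfRank c (Omega.conormal i))
    (f : X' ⟶ X) (hf : BlowUp.IsBlowUp f i.ker) (j : Y' ⟶ X') [IsClosedImmersion j] (g : Y' ⟶ Y) (hsq : IsPullback j g f i)
    (φ : (Scheme.Modules.pullback g).obj (Omega.conormal i) ⟶ Omega.conormal j) (hφ : OmegaSh.IsConormalMap j i f g φ)
    (Λ : ℕ → Y'.Modules) (hΛ : ∀ p : ℕ, ExtPow.IsExtPow p (kernel φ) (Λ p))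
    [(Scheme.Modules.pushforward i).Additive] [PreservesFiniteLimits (Scheme.Modules.pushforward i)] [PreservesFiniteColimits (Scheme.Modules.pushforward i)]
    (hi' : ∀ K : DCoh.D Y, DCoh.IsPerfect K → DCoh.IsPerfect ((Scheme.Modules.pushforward i).mapDerivedCategory.obj K))
    [DCoh.HasLpull f] [(DCoh.Lpull f).CommShift ℤ] [(DCoh.Lpull f).IsTriangulated]
    (hf' : ∀ K : DCoh.D X, DCoh.IsPerfect K → DCoh.IsPerfect ((DCoh.Lpull f).obj K))
    (M : Y.Modules) (hM : FlatMod.IsFinLocFree M) :
    SGA6.mapTr (DCoh.Lpull f) (SGA6.perfP X) (SGA6.perfP X') hf'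
      (SGA6.mapTr ((Scheme.Modules.pushforward i).mapDerivedCategory) (SGA6.perfP Y) (SGA6.perfP X) hi' (KZero.clTr (SGA6.perfP Y) (DCoh.inD Y M))) =
    ∑ p ∈ Finset.range c, (-1 : ℤ) ^ p • KZero.clTr (SGA6.perfP X')
      (DCoh.inD X' ((Scheme.Modules.pushforward j).obj (((DCoh.tensorBi (X := Y')).obj ((Scheme.Modules.pullback g).obj M)).obj (Λ p)))) := by
  have hfr := Groth.Agent.KTor28.hasFrames_of_koszul hi
  have hJ := Groth.Agent.KTor28.isEffCartier_exceptional hsq hf
  have hN' : FlatMod.IsFinLocFree (Omega.conormal i) := Groth.Agent.LocFreeLib.isFinLocFree_of_rank hN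
  have hgN : FlatMod.IsFinLocFreeOfRank c ((Scheme.Modules.pullback g).obj (Omega.conormal i)) :=
    Groth.Agent.GrassLib.isFinLocFreeOfRank_pullback g hN
  have hC : PicF.IsInvertible (ClSub.idealMod j.ker) := Groth.Agent.FlatMor12.IdealModGen.isInvertible_idealMod _ hJ
  have hC1 : FlatMod.IsFinLocFreeOfRank 1 (Omega.conormal j) :=
    Groth.Agent.GrassLib.isFinLocFreeOfRank_pullback j (Groth.Agent.PicLib.isFinLocFreeOfRank_one hC)
  haveI : Epi φ := Groth.Agent.KTor28.epi_conormalMap hsq φ hφ
  have hF : FlatMod.IsFinLocFree (kernel φ) :=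
    Groth.Agent.KoszPn17.isFinLocFree_kernel φ (Groth.Agent.LocFreeLib.isFinLocFree_of_rank hgN)
      (Groth.Agent.LocFreeLib.isFinLocFree_of_rank hC1)
  have hS : (ShortComplex.mk (kernel.ι φ) φ (kernel.condition φ)).ShortExact :=
    { exact := ShortComplex.exact_of_f_is_kernel _ (kernelIsKernel φ) }
  obtain ⟨P, d, hk, hflat, hqi, hP⟩ := Groth.Agent.DCat.exists_kflat_sheaf_le
    ((HomologicalComplex.single X.Modules (ComplexShape.up ℤ) 0).obj ((Scheme.Modules.pushforward i).obj M)) 0
    (fun n hn => HomologicalComplex.isZero_single_obj_X _ _ _ _ (by omega))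
  haveI := hqi
  let K := (DCoh.Lpull f).obj (DCoh.inD X ((Scheme.Modules.pushforward i).obj M))
  let eK : ∀ n : ℤ, DCoh.HD K n ≅ (Groth.Agent.KTor28.pullf f P).homology n := fun n =>
    (DerivedCategory.homologyFunctor X'.Modules _).mapIso
      ((DCoh.Lpull f).mapIso ((DerivedCategory.singleFunctorIsoCompQ X.Modules 0).app _ ≪≫
        (asIso (DerivedCategory.Q.map d)).symm) ≪≫ Groth.Agent.DCat.PullPerf.lpullIso f hk) ≪≫
    (DerivedCategory.homologyFunctorFactors X'.Modules _).app _
  have hhom := Groth.Agent.KTor28.cl_homology hsq hJ hfr hN' hM d hP hflat hS hF rfl rfl Λ hΛ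
  have hle : K.IsLE 0 := (DerivedCategory.isLE_iff K 0).2 fun k hk0 => by
    have h0 : IsZero ((Groth.Agent.KTor28.pullf f P).homology k) := (HomologicalComplex.exactAt_iff_isZero_homology _ _).1
      (ShortComplex.exact_of_isZero_X₂ _ ((Scheme.Modules.pullback f).map_isZero (hP k hk0)))
    exact IsZero.of_iso h0 (eK k)
  have hlow : ∀ k : ℤ, k < -(c : ℤ) → IsZero (DCoh.HD K k) := fun k hk0 => by
    obtain ⟨q, rfl⟩ : ∃ q : ℕ, k = -(q : ℤ) := ⟨(-k).toNat, by omega⟩
    obtain ⟨L', hLf, hL'⟩ := Groth.Agent.ExtPowEx28.exists_isExtPow hN' q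
    obtain ⟨T, hT, h₁, ⟨u₂⟩, -⟩ := Groth.Agent.KTor28.exists_excess_seq hsq hJ hfr hN' hM d hP hflat q hL'
    have hz : IsZero T.X₂ := IsZero.of_iso ((Scheme.Modules.pushforward j).map_isZero
      ((Scheme.Modules.pullback g).map_isZero (((DCoh.tensorBi (X := Y)).obj M).map_isZero
        (Groth.Agent.EulerPn5.isZero_of_isExtPow hN hL' (by omega))))) u₂
    haveI := hT.mono_f
    exact IsZero.of_iso (IsZero.of_mono T.f hz) (eK _ ≪≫ eqToIso h₁.symm)
  have hperf : ∀ p : ℕ, DCoh.IsPerfect (DCoh.inD X' (DCoh.HD K (-(p : ℤ)))) ∧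
      KZero.clTr (SGA6.perfP X') (DCoh.inD X' (DCoh.HD K (-(p : ℤ)))) = KZero.clTr (SGA6.perfP X')
        (DCoh.inD X' ((Scheme.Modules.pushforward j).obj
          (((DCoh.tensorBi (X := Y')).obj ((Scheme.Modules.pullback g).obj M)).obj (Λ p)))) := fun p => by
    obtain ⟨h1, h2⟩ := hhom p 0
    have hp := Groth.Agent.DCat.PCTriangle.perfect_iso
      ((DerivedCategory.singleFunctor X'.Modules 0).mapIso (eK (-(p : ℤ)))).symm h1
    exact ⟨hp, (Groth.Agent.KBlow28.cl_iso' ((DerivedCategory.singleFunctor X'.Modules 0).mapIso (eK (-(p : ℤ)))) hp).trans h2⟩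
  have hlast : IsZero (Λ c) := by
    cases c with
    | zero =>
      have hz : IsEmpty Y' := ⟨fun y => by
        haveI : IsZero ((Scheme.Modules.pullback g).obj (Omega.conormal i)) :=
          Groth.Agent.EulerPn5.isZero_of_isExtPow hgN (Groth.Agent.KvbLam28.isExtPow_one _) Nat.zero_lt_one
        have h0 := (IsZero.of_epi φ this)
        haveI := ModuleCat.subsingleton_of_isZero ((DerSch.stalkFunctor Y' y).map_isZero h0)
        have h1 := Groth.Agent.VarietyLib.finrank_stalk_of_rank hC1 y
        change Module.finrank (Y'.presheaf.stalk y) ((DerSch.stalkFunctor Y' y).obj (Omega.conormal j)) = 1 at h1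
        rw [Module.finrank_zero_of_subsingleton] at h1
        exact absurd h1 Nat.zero_ne_one⟩
      exact Groth.Agent.ModStalk.isZero_of_stalks fun y => (hz.false y).elim
    | succ m =>
      exact Groth.Agent.EulerPn5.isZero_of_isExtPow
        (Groth.Agent.CycLib28.PB.Ops.isFinLocFreeOfRank_kernel_line hgN
          (PicLoc.isInvertible_pullback j hC) φ) (hΛ (m + 1)) (Nat.lt_succ_self m)
  have hiM : DCoh.IsPerfect (DCoh.inD Y M) := Groth.Agent.KZeroLib.isPerfect_inD_finLocFree hM
  have e := ((Scheme.Modules.pushforward i).mapDerivedCategorySingleFunctor 0).app M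
  rw [Groth.Agent.KPerfPn28.mapTr_cl _ hi' hiM, Groth.Agent.KPerfPn28.mapTr_cl _ hf' (hi' _ hiM)]
  refine (Groth.Agent.KBlow28.cl_iso' ((DCoh.Lpull f).mapIso e : _ ≅ K) (hf' _ (hi' _ hiM))).trans ?_
  obtain ⟨-, hcl⟩ := Groth.Agent.KTor28.cl_eq_sum_HD c K hle hlow fun p _ => (hperf p).1
  rw [hcl, Finset.sum_range_succ, (hperf c).2]
  rw [Groth.Agent.KBlow28.cl_isZero' ((DerivedCategory.singleFunctor X'.Modules 0).map_isZero
    ((Scheme.Modules.pushforward j).map_isZero (((DCoh.tensorBi (X := Y')).obj _).map_isZero hlast))), smul_zero, add_zero]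
  exact Finset.sum_congr rfl fun p _ => by rw [(hperf p).2]

end Groth.Agent.S8677
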