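import Groth.Statements.S8678
import Mathlib
import Groth.Agent.LambdaLib.Lines

set_option autoImplicit false
universe u
open Finset
open LambdaRing

namespace Groth.Agent.S8678

/-- As the identity it proves in the pre-λ-ring K(Y') of the exceptional divisor: let K be a pre-λ-ring
(λ^0 = 1, λ^1 = id, additive formula) with λ^k(1) = 0 for all k ≥ 2, let d ≥ 2, and let F, L, N' ∈ K
satisfy λ^j(L) = 0 for j ≥ 2 (L is the class of an invertible module), λ^i(N') = 0 for i ≥ d − 1 (N'
is the class of a bundle of rank d − 2) and F + L = N' + 2 (for the blowing up of a regular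
immersion of codimension d: on the exceptional divisor the pulled-back conormal class is F + L, and
N = N' + 2). Then 1 − L divides λ_{−1}(F) = Σ_{i<d} (−1)^i λ^i(F). (The published proof uses only
additivity of λ_t and λ_t(1) = 1 + t, the hypotheses taken here.) -/
theorem result (K : Type u) [CommRing K] [LambdaRing.LambdaOps K]
    (h1 : ∀ k : ℕ, 2 ≤ k → LambdaRing.LambdaOps.lam k (1 : K) = 0) (d : ℕ) (hd : 2 ≤ d) (F L N' : K)
    (hL : ∀ j : ℕ, 2 ≤ j → LambdaRing.LambdaOps.lam j L = 0) (hN' : ∀ i : ℕ, d - 1 ≤ i → LambdaRing.LambdaOps.lam i N' = 0)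
    (hrel : F + L = N' + 2) :
    (1 - L) ∣ ∑ i ∈ range d, (-1 : K) ^ i * LambdaRing.LambdaOps.lam i F := by
  open Groth.Agent.LambdaLib in
    rw [← Ideal.mem_span_singleton, ← Ideal.Quotient.eq_zero_iff_mem]
    set q := Ideal.Quotient.mk (Ideal.span {(1 - L : K)})
    have hqL : q L = 1 := by
      have : q (1 - L) = 0 := Ideal.Quotient.eq_zero_iff_mem.mpr (Ideal.mem_span_singleton_self _)
      rw [map_sub, map_one, sub_eq_zero] at this
      exact this.symm
    have h : LambdaRing.lamSeries F * (1 + PowerSeries.C L * PowerSeries.X) =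
        LambdaRing.lamSeries N' * (1 + PowerSeries.X) ^ 2 := by
      rw [← lamSeries_of_line hL, ← lamSeries_add, ← lamSeries_natCast h1, Nat.cast_ofNat, ← lamSeries_add, hrel]
    have h' := congrArg (PowerSeries.map q) h
    rw [map_mul, map_mul, map_add, map_one, map_mul, PowerSeries.map_C, hqL, map_one, one_mul, PowerSeries.map_X,
      map_pow, map_add, map_one, PowerSeries.map_X, pow_two, ← mul_assoc] at h'
    have hu : IsUnit ((1 : PowerSeries (K ⧸ Ideal.span {(1 - L : K)})) + PowerSeries.X) := by
      rw [PowerSeries.isUnit_iff_constantCoeff]; simp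
    have h'' := hu.mul_right_cancel h'
    have ha : ∀ i, q (LambdaRing.LambdaOps.lam (i + 1) F) =
        q (LambdaRing.LambdaOps.lam (i + 1) N') + q (LambdaRing.LambdaOps.lam i N') := by
      intro i
      have := congrArg (PowerSeries.coeff (i + 1)) h''
      rwa [mul_add, mul_one, map_add, PowerSeries.coeff_succ_mul_X, PowerSeries.coeff_map, PowerSeries.coeff_map,
        PowerSeries.coeff_map, coeff_lamSeries, coeff_lamSeries, coeff_lamSeries] at this
    have hsum : ∀ m, q (∑ i ∈ Finset.range (m + 1), (-1 : K) ^ i * LambdaRing.LambdaOps.lam i F) =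
        (-1) ^ m * q (LambdaRing.LambdaOps.lam m N') := by
      intro m
      induction m with
      | zero => simp [LambdaRing.LambdaOps.lam_zero]
      | succ m ih =>
        rw [Finset.sum_range_succ, map_add, ih, map_mul, map_pow, map_neg, map_one, ha, pow_succ]
        ring
    have := hsum (d - 1)
    rw [show d - 1 + 1 = d by omega, hN' (d - 1) le_rfl, map_zero, mul_zero] at this
    exact this
end Groth.Agent.S8678
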