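import Groth.Statements.S8693
import Groth.Agent.KSplit28.Ample
set_option linter.style.haveILetI false
set_option backward.isDefEq.respectTransparency false

set_option autoImplicit false
universe v u
open CategoryTheory CategoryTheory.Limits AlgebraicGeometry
attribute [local instance] HasDerivedCategory.standard
open KRR Groth.Agent Groth.Agent.KSplit28

namespace Groth.Agent.S8693
open Groth.Agent Groth.Agent.KSplit28 in
theorem nilpotent_sub {X : Scheme.{u}} [ConnectedSpace ↥X] {L : X.Modules} (hL : CohB1.IsAmple L)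
    {K : Type v} [CommRing K] [LambdaRing.LambdaOps K] {P : LambdaRing.PosStructure K} {φ : SGA6.Kvb X →+ K}
    (hK : KRR.IsModel X K P φ) (x : K) : IsNilpotent (x - (P.aug x : K)) := by
  obtain ⟨K', _, _, P', φ', hK'⟩ := KModel28.exists_model X
  obtain ⟨e, he, -, -, haug⟩ := exists_iso hK' hK
  obtain ⟨y, rfl⟩ := he.2 x
  have h := (isNilpotent_sub_aug hL hK' y).map e
  rwa [map_sub, map_intCast, ← haug] at h

/-- Let X be a connected quasi-compact scheme with an ample invertible O_X-module L, (K, P, φ) a model
of the λ-ring K(X) of finite locally free modules with its positive structure (augmentation ε =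
rank), and E_1, …, E_k finite locally free O_X-modules. Let R ⊆ K(X) be the subring generated by the
elements λ^j[E_i] for all i and j, which is the sub-λ-ring generated by the classes [E_i]. Then the
ideal R ∩ Ker ε of R is nilpotent: there is n such that every product of n elements of R of
augmentation zero vanishes; and R is finitely generated as an abelian group. (The published
statement allows X disconnected, with R a module of finite type over R ∩ H^0(X, ℤ), and also asserts
that the λ-ring filtration of R is discrete; this row takes X connected, as the model requires, and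
states the nilpotency and the finite generation over the integers.) -/
theorem result (X : Scheme.{u}) [ConnectedSpace ↥X] (L : X.Modules) (hL : CohB1.IsAmple L)
    (K : Type v) [CommRing K] [LambdaRing.LambdaOps K] (P : LambdaRing.PosStructure K) (φ : SGA6.Kvb X →+ K)
    (hK : KRR.IsModel X K P φ)
    (k : ℕ) (E : Fin k → X.Modules) (hE : ∀ i : Fin k, FlatMod.IsFinLocFree (E i)) :
    (∃ n : ℕ, ∀ f : Fin n → K,
      (∀ t : Fin n, f t ∈ Subring.closure {y : K | ∃ (i : Fin k) (j : ℕ), y = LambdaRing.LambdaOps.lam j (φ (KRR.cl X (E i)))} ∧ P.aug (f t) = 0) →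
        ∏ t, f t = 0) ∧
    (Subring.closure {y : K | ∃ (i : Fin k) (j : ℕ), y = LambdaRing.LambdaOps.lam j (φ (KRR.cl X (E i)))}).toAddSubgroup.FG := by
  classical
  let S : Set K := {y : K | ∃ (i : Fin k) (j : ℕ), y = LambdaRing.LambdaOps.lam j (φ (KRR.cl X (E i)))}
  have hex : ∀ (i : Fin k), ∃ N : ℕ, ∀ j, N < j → LambdaRing.LambdaOps.lam j (φ (KRR.cl X (E i))) = 0 := fun i => by
    obtain ⟨r, hr⟩ := KModel28.exists_rank (hE i)
    refine ⟨r, fun j hj => ?_⟩
    rcases Nat.eq_zero_or_pos r with rfl | hpos
    · rw [KModel28.cl_isZero (KModel28.isZero_of_rank_zero hr), map_zero, LambdaLib.lam_apply_zero _ (by omega)]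
    · exact P.lam_eq_zero _ ((hK.mem_pos_iff _).2 ⟨r, _, hpos, hr, rfl⟩) j (by rw [hK.aug_cl r _ hr]; exact_mod_cast hj)
  choose N hN using hex
  let G : Finset K := insert 0 (Finset.univ.biUnion fun i : Fin k => (Finset.range (N i + 1)).image
    fun j => LambdaRing.LambdaOps.lam j (φ (KRR.cl X (E i))))
  have hcl : Subring.closure S = (Algebra.adjoin ℤ (G : Set K)).toSubring := by
    refine le_antisymm (Subring.closure_le.2 ?_) ?_
    · rintro y ⟨i, j, rfl⟩
      refine Algebra.subset_adjoin ?_
      rcases lt_or_ge (N i) j with h | h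
      · rw [hN i j h]; exact Finset.mem_insert_self _ _
      · exact Finset.mem_insert_of_mem (Finset.mem_biUnion.2 ⟨i, Finset.mem_univ _, Finset.mem_image.2
          ⟨j, Finset.mem_range.2 (by omega), rfl⟩⟩)
    · intro y hy
      induction hy using Algebra.adjoin_induction with
      | mem y hy =>
        rcases Finset.mem_insert.1 hy with rfl | hy
        · exact zero_mem _
        · obtain ⟨i, -, hi⟩ := Finset.mem_biUnion.1 hy
          obtain ⟨j, -, rfl⟩ := Finset.mem_image.1 hi
          exact Subring.subset_closure ⟨i, j, rfl⟩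
      | algebraMap r => simp
      | add a b _ _ ha hb => exact add_mem ha hb
      | mul a b _ _ ha hb => exact mul_mem ha hb
  have hint : ∀ y ∈ (G : Set K), IsIntegral ℤ y := fun y _ => by
    obtain ⟨m, hm⟩ := nilpotent_sub hL hK y
    refine ⟨(Polynomial.X - Polynomial.C (P.aug y)) ^ m, (Polynomial.monic_X_sub_C _).pow m, ?_⟩
    rw [← Polynomial.aeval_def, map_pow, map_sub, Polynomial.aeval_X, Polynomial.aeval_C, eq_intCast]; exact hm
  have hfg := fg_adjoin_of_finite G.finite_toSet hint
  have hfin : Module.Finite ℤ (Algebra.adjoin ℤ (G : Set K)) := Module.Finite.iff_fg.2 hfg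
  haveI : IsNoetherianRing (Algebra.adjoin ℤ (G : Set K)) := IsNoetherianRing.of_finite ℤ _
  obtain ⟨n, hn⟩ := IsNoetherianRing.isNilpotent_nilradical (Algebra.adjoin ℤ (G : Set K))
  change (∃ n : ℕ, ∀ f : Fin n → K, (∀ t : Fin n, f t ∈ Subring.closure S ∧ P.aug (f t) = 0) → ∏ t, f t = 0) ∧
    (Subring.closure S).toAddSubgroup.FG
  rw [hcl]
  refine ⟨⟨n, fun f hf => ?_⟩, ?_⟩
  · let f' : Fin n → Algebra.adjoin ℤ (G : Set K) := fun t => ⟨f t, (hf t).1⟩
    have hmem : ∀ t ∈ (Finset.univ : Finset (Fin n)), f' t ∈ nilradical (Algebra.adjoin ℤ (G : Set K)) := fun t _ => by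
      rw [mem_nilradical]
      obtain ⟨m, hm⟩ := nilpotent_sub hL hK (f t)
      refine ⟨m, Subtype.ext ?_⟩
      rw [(hf t).2, Int.cast_zero, sub_zero] at hm
      simpa [f'] using hm
    have h := Ideal.prod_mem_prod hmem
    rw [Finset.prod_const, Finset.card_univ, Fintype.card_fin, hn] at h
    have h2 := congrArg Subtype.val ((Ideal.mem_bot).1 h)
    simpa [f'] using h2
  · exact AddSubgroup.fg_iff_addSubmonoid_fg _ |>.2 ((Submodule.fg_iff_addSubgroup_fg _).1 hfg |> fun h =>
      (AddSubgroup.fg_iff_addSubmonoid_fg _).1 h)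

end Groth.Agent.S8693
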