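import Groth.Statements.S8709
import Groth.Agent.Et18.RosenlichtGeom
import Groth.Prelude.Def_GmPts
-- import your own Groth.Agent.* helpers here

set_option autoImplicit false
universe u
open CategoryTheory CategoryTheory.Limits MonoidalCategory CartesianMonoidalCategory MonObj AlgebraicGeometry
open SGA7

namespace Groth.Agent.S8709

/-- Let k be a field and X, Y two k-schemes of finite type which are geometrically reduced and
geometrically connected, with rational points e_X and e_Y. Then every k-morphism u from X ×_k Y to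
the multiplicative group whose restrictions to X × e_Y and to e_X × Y are trivial is trivial.
(Morphisms to the multiplicative group over k form a group; trivial means equal to its unit
element.) -/
theorem result (k : Type u) [Field k]
    (X Y : Over (Spec (CommRingCat.of k)))
    [LocallyOfFiniteType X.hom] [QuasiCompact X.hom] [GeometricallyReduced X.hom] [GeometricallyConnected X.hom]
    [LocallyOfFiniteType Y.hom] [QuasiCompact Y.hom] [GeometricallyReduced Y.hom] [GeometricallyConnected Y.hom]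
    (eX : 𝟙_ (Over (Spec (CommRingCat.of k))) ⟶ X) (eY : 𝟙_ (Over (Spec (CommRingCat.of k))) ⟶ Y)
    (u : X ⊗ Y ⟶ Red.Gm (Spec (CommRingCat.of k)))
    (huX : lift (𝟙 X) (toUnit X ≫ eY) ≫ u = 1) (huY : lift (toUnit Y ≫ eX) (𝟙 Y) ≫ u = 1) :
    u = 1 := by
  let e : Et18.Rosenlicht.Pt X.hom := ⟨eX.left, Over.w eX⟩
  let e' : Et18.Rosenlicht.Pt Y.hom := ⟨eY.left, Over.w eY⟩
  have key : ∀ {T : Over (Spec (CommRingCat.of k))} (g : T ⟶ X ⊗ Y), g ≫ u = 1 →
      g.left.appTop ((GmPts.unitOfPt u : Γ((X ⊗ Y).left, ⊤)ˣ) : Γ((X ⊗ Y).left, ⊤)) = 1 := by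
    intro T g hg
    have e1 := GmPts.unitOfPt_comp g u
    rw [hg, GmPts.unitOfPt_one] at e1
    exact (congrArg Units.val e1).symm
  have h1 : ((GmPts.unitOfPt u : Γ((X ⊗ Y).left, ⊤)ˣ) : Γ((X ⊗ Y).left, ⊤)) = 1 := by
    refine Et18.Rosenlicht.eq_one_of_axes_field X.hom Y.hom e e' (Units.isUnit _) ?_ ?_
    · exact key (lift (𝟙 X) (toUnit X ≫ eY)) huX
    · exact key (lift (toUnit Y ≫ eX) (𝟙 Y)) huY
  apply (GmPts.equiv (X ⊗ Y)).injective
  rw [map_one]
  exact Units.ext h1

end Groth.Agent.S8709
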