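import Groth.Statements.S8716
import Groth.Agent.Et18.ConstGrpRigid
import Mathlib.Tactic.Group
-- import your own Groth.Agent.* helpers here

set_option autoImplicit false
universe u
open CategoryTheory CategoryTheory.Limits MonoidalCategory CartesianMonoidalCategory MonObj AlgebraicGeometry
open SGA7

namespace Groth.Agent.S8716

/-- Let k be a field, Z a commutative group without non-trivial elements of finite order, P a
commutative k-group scheme of finite type (so that its group of connected components is a finite,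
hence torsion, group), G the constant k-group scheme Z_k (through the isomorphism eG), and u : G →
E, v : E → P homomorphisms of commutative k-group schemes forming a sequence 1 → G → E → P → 1 exact
for the fppf topology. Then the extension is rigid: every automorphism of the k-group scheme E
compatible with u and v is the identity. (The published statement assumes only P locally of finite
type with torsion component group; this row takes P of finite type, the case it names.) -/
theorem result (k : Type u) [Field k]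
    (Z : Type u) [CommGroup Z] (hZ : ∀ z : Z, IsOfFinOrder z → z = 1)
    (P E G : Over (Spec (CommRingCat.of k))) [GrpObj P] [GrpObj E] [GrpObj G]
    [IsCommMonObj P] [IsCommMonObj E]
    [LocallyOfFiniteType P.hom] [QuasiCompact P.hom]
    (eG : G ≅ TwC.const (Spec (CommRingCat.of k)) Z) (hG : TwC.IsConstGrp Z G eG)
    (u : G ⟶ E) (v : E ⟶ P) (hex : NonAbH1.IsExactSeq Scheme.fppfPrecoverage u v)
    (φ : E ≅ E) [IsMonHom φ.hom] (hφu : u ≫ φ.hom = u) (hφv : φ.hom ≫ v = v) :
    φ.hom = 𝟙 E := by
  haveI : CompactSpace ↥P.left := QuasiCompact.compactSpace_of_compactSpace P.hom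
  haveI := hex.1
  haveI := hex.2.1
  obtain ⟨g, hg⟩ := Et18.GroupExt.exists_kernel hex (x := φ.hom * (𝟙 E)⁻¹) (by
    rw [Et18.GroupExt.mul_comp_v hex, Et18.GroupExt.inv_comp_v hex, hφv, Category.id_comp, mul_inv_cancel])
  have hmap : ∀ {T : Over (Spec (CommRingCat.of k))} (a : T ⟶ E), (a ≫ g) ≫ u = (a ≫ φ.hom) * a⁻¹ := by
    intro T a
    rw [Category.assoc, hg, MonObj.comp_mul, GrpObj.comp_inv, Category.comp_id]
  have hq := Et18.GroupExt.covers_of_isExactSeq hex
  obtain ⟨h, hh⟩ := hq.exists_desc g fun T a b hab => by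
    obtain ⟨z, rfl⟩ := Et18.GroupExt.exists_translate hex hab
    apply Et18.GroupExt.kernel_unique hex
    rw [hmap, hmap, MonObj.mul_comp]
    rw [show (z ≫ u) ≫ φ.hom = z ≫ u by rw [Category.assoc, hφu], mul_inv_rev]
    group
  haveI hmul : IsMonHom h := by
    have hm : ∀ {T : Over (Spec (CommRingCat.of k))} (a b : T ⟶ E),
        (a * b) ≫ g = (a ≫ g) * (b ≫ g) := fun a b => by
      apply Et18.GroupExt.kernel_unique hex
      rw [Et18.GroupExt.mul_comp_u hex, hmap, hmap, hmap, MonObj.mul_comp, mul_inv_rev,
        mul_comm (b⁻¹) (a⁻¹)]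
      exact mul_mul_mul_comm _ _ _ _
    have h1 : η[P] ≫ h = η[G] := by
      have e1 : (1 : 𝟙_ (Over (Spec (CommRingCat.of k))) ⟶ E) ≫ g = 1 := by
        apply Et18.GroupExt.kernel_unique hex
        rw [hmap, MonObj.one_comp, MonObj.one_comp, inv_one, _root_.mul_one]
      have e2 : (1 : 𝟙_ (Over (Spec (CommRingCat.of k))) ⟶ P) ≫ h = 1 := by
        rw [← Et18.GroupExt.one_comp_v hex, Category.assoc, hh, e1]
      simpa [Hom.one_def] using e2
    refine ⟨h1, ?_⟩
    refine (hq.tensor hq).cancel ?_
    have e1 : (v ⊗ₘ v) ≫ μ[P] = μ[E] ≫ v := (IsMonHom.mul_hom v).symm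
    rw [← Category.assoc, e1, Category.assoc, hh, ← Category.assoc, tensorHom_comp_tensorHom, hh]
    have e2 : μ[E] = fst E E * snd E E := by rw [Hom.mul_def]; simp
    have e3 : (g ⊗ₘ g) ≫ μ[G] = (fst E E ≫ g) * (snd E E ≫ g) := by
      rw [Hom.mul_def]
      congr 1
    rw [e2, e3, hm]
  have h0 := Et18.ConstGrp.hom_eq_one hZ P G eG hG h
  have hg1 : g = 1 := by rw [← hh, h0, MonObj.comp_one]
  rw [hg1, Et18.GroupExt.one_comp_u hex] at hg
  rwa [eq_comm, mul_inv_eq_one] at hg

end Groth.Agent.S8716
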