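import Groth.Statements.S8718
import Groth.Agent.Et18.GroupExt
import Mathlib.Tactic.Group
-- import your own Groth.Agent.* helpers here

set_option autoImplicit false
universe u
open CategoryTheory CategoryTheory.Limits MonoidalCategory CartesianMonoidalCategory MonObj AlgebraicGeometry
open SGA7

namespace Groth.Agent.S8718

/-- For group schemes over a base scheme S (the representable case on the fppf site): let P and G be
S-group schemes with G commutative, and u : G → E, v : E → P homomorphisms of S-group schemes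
forming a sequence 1 → G → E → P → 1 exact for the fppf topology. Suppose every morphism of
S-schemes P ×_S G → G whose restrictions to P × e_G and to e_P × G are trivial is trivial. Then u(G)
is central in E: for all points g of G and x of E with values in any S-scheme, u(g) x = x u(g). If
moreover P is commutative and every morphism of S-schemes P ×_S P → G trivial on P × e_P and on e_P
× P is trivial, then E is commutative. (The published statement is for sheaves of groups on an
arbitrary topos; this row is its case of representable sheaves on the fppf site of S. Morphisms to G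
form a group; trivial means equal to its unit.) -/
theorem result (S : Scheme.{u})
    (P G E : Over S) [GrpObj P] [GrpObj G] [GrpObj E] [IsCommMonObj G]
    (u : G ⟶ E) (v : E ⟶ P) (hex : NonAbH1.IsExactSeq Scheme.fppfPrecoverage u v)
    (hPG : ∀ f : P ⊗ G ⟶ G, lift (𝟙 P) (toUnit P ≫ η[G]) ≫ f = 1 → lift (toUnit G ≫ η[P]) (𝟙 G) ≫ f = 1 → f = 1) :
    (∀ (T : Over S) (g : T ⟶ G) (x : T ⟶ E), (g ≫ u) * x = x * (g ≫ u)) ∧
      (IsCommMonObj P →
        (∀ f : P ⊗ P ⟶ G, lift (𝟙 P) (toUnit P ≫ η[P]) ≫ f = 1 → lift (toUnit P ≫ η[P]) (𝟙 P) ≫ f = 1 → f = 1) →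
          IsCommMonObj E) := by
  -- part 1
  have h1 : ∀ (T : Over S) (g : T ⟶ G) (x : T ⟶ E), (g ≫ u) * x = x * (g ≫ u) := by
    let com : E ⊗ G ⟶ E := (fst E G * (snd E G ≫ u)) * ((snd E G ≫ u) * fst E G)⁻¹
    have hcom : com ≫ v = 1 := by
      simp only [com, Et18.GroupExt.mul_comp_v hex, Et18.GroupExt.inv_comp_v hex,
        Et18.GroupExt.u_comp_v hex, _root_.one_mul, _root_.mul_one, mul_inv_cancel]
    obtain ⟨c, hc⟩ := Et18.GroupExt.exists_kernel hex hcom
    have hcT : ∀ (T : Over S) (l : T ⟶ E ⊗ G), (l ≫ c) ≫ u =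
        ((l ≫ fst E G) * ((l ≫ snd E G) ≫ u)) * (((l ≫ snd E G) ≫ u) * (l ≫ fst E G))⁻¹ := by
      intro T l
      rw [Category.assoc, hc]
      simp only [com, MonObj.comp_mul, GrpObj.comp_inv, Category.assoc]
    have hq : Et18.GroupExt.Covers (v ⊗ₘ 𝟙 G) :=
      (Et18.GroupExt.covers_of_isExactSeq hex).tensor (Et18.GroupExt.covers_id G)
    obtain ⟨d, hd⟩ := hq.exists_desc c (fun T a b hab => by
      have hf := congrArg (· ≫ fst P G) hab
      have hs := congrArg (· ≫ snd P G) hab
      simp only [Category.assoc, tensorHom_fst, tensorHom_snd, Category.comp_id] at hf hs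
      rw [← Category.assoc, ← Category.assoc] at hf
      obtain ⟨k, hk⟩ := Et18.GroupExt.exists_translate hex hf
      apply Et18.GroupExt.kernel_unique hex
      rw [hcT, hcT, hk, ← hs]
      generalize a ≫ fst E G = x
      generalize a ≫ snd E G = g
      have e : (k ≫ u) * (g ≫ u) = (g ≫ u) * (k ≫ u) := by
        rw [← Et18.GroupExt.mul_comp_u hex, ← Et18.GroupExt.mul_comp_u hex, mul_comm]
      rw [_root_.mul_assoc x (k ≫ u), e, mul_inv_rev, mul_inv_rev, mul_inv_rev]
      group)
    have hd1 : d = 1 := by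
      apply hPG
      · apply (Et18.GroupExt.covers_of_isExactSeq hex).cancel
        have e : v ≫ lift (𝟙 P) (toUnit P ≫ η[G]) = lift (𝟙 E) (toUnit E ≫ η[G]) ≫ (v ⊗ₘ 𝟙 G) := by
          apply CartesianMonoidalCategory.hom_ext <;> simp
        rw [MonObj.comp_one, ← Category.assoc, e, Category.assoc, hd]
        apply Et18.GroupExt.kernel_unique hex
        rw [hcT, lift_fst, lift_snd, ← CategoryTheory.Hom.one_def, Et18.GroupExt.one_comp_u hex]
        simp
      · have e : lift (toUnit G ≫ η[P]) (𝟙 G) = lift (1 : G ⟶ E) (𝟙 G) ≫ (v ⊗ₘ 𝟙 G) := by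
          apply CartesianMonoidalCategory.hom_ext
          · rw [lift_fst, Category.assoc, tensorHom_fst, lift_fst_assoc, Et18.GroupExt.one_comp_v hex,
              CategoryTheory.Hom.one_def]
          · simp
        rw [e, Category.assoc, hd]
        apply Et18.GroupExt.kernel_unique hex
        rw [hcT, lift_fst, lift_snd, Et18.GroupExt.one_comp_u hex]
        simp
    intro T g x
    have e := hcT T (lift x g)
    rw [lift_fst, lift_snd, ← hd, hd1, MonObj.comp_one, MonObj.comp_one, Et18.GroupExt.one_comp_u hex] at e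
    exact (mul_inv_eq_one.1 e.symm).symm
  refine ⟨h1, fun hP hPP => ?_⟩
  let com : E ⊗ E ⟶ E := (fst E E * snd E E) * (snd E E * fst E E)⁻¹
  have hcom : com ≫ v = 1 := by
    simp only [com, Et18.GroupExt.mul_comp_v hex, Et18.GroupExt.inv_comp_v hex]
    rw [mul_comm (fst E E ≫ v), mul_inv_cancel]
  obtain ⟨c, hc⟩ := Et18.GroupExt.exists_kernel hex hcom
  have hcT : ∀ (T : Over S) (l : T ⟶ E ⊗ E), (l ≫ c) ≫ u =
      ((l ≫ fst E E) * (l ≫ snd E E)) * ((l ≫ snd E E) * (l ≫ fst E E))⁻¹ := by
    intro T l
    rw [Category.assoc, hc]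
    simp only [com, MonObj.comp_mul, GrpObj.comp_inv]
  have hv := Et18.GroupExt.covers_of_isExactSeq hex
  obtain ⟨d, hd⟩ := (hv.tensor hv).exists_desc c (fun T a b hab => by
    have hf := congrArg (· ≫ fst P P) hab
    have hs := congrArg (· ≫ snd P P) hab
    simp only [Category.assoc, tensorHom_fst, tensorHom_snd] at hf hs
    rw [← Category.assoc, ← Category.assoc] at hf hs
    obtain ⟨k, hk⟩ := Et18.GroupExt.exists_translate hex hf
    obtain ⟨l, hl⟩ := Et18.GroupExt.exists_translate hex hs
    apply Et18.GroupExt.kernel_unique hex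
    rw [hcT, hcT, hk, hl]
    generalize a ≫ fst E E = x
    generalize a ≫ snd E E = y
    have c1 : ∀ z : T ⟶ E, Commute (k ≫ u) z := fun z => h1 T k z
    have c2 : ∀ z : T ⟶ E, Commute (l ≫ u) z := fun z => h1 T l z
    rw [_root_.mul_assoc x (k ≫ u), ← _root_.mul_assoc (k ≫ u), (c1 y).eq, _root_.mul_assoc y (k ≫ u),
      ← _root_.mul_assoc x y, _root_.mul_assoc y (l ≫ u), ← _root_.mul_assoc (l ≫ u), (c2 x).eq,
      _root_.mul_assoc x (l ≫ u), ← _root_.mul_assoc y x, (c1 (l ≫ u)).eq]
    group)
  have hd1 : d = 1 := by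
    apply hPP
    · apply hv.cancel
      have e : v ≫ lift (𝟙 P) (toUnit P ≫ η[P]) = lift (𝟙 E) (1 : E ⟶ E) ≫ (v ⊗ₘ v) := by
        apply CartesianMonoidalCategory.hom_ext
        · simp
        · rw [Category.assoc, lift_snd, Category.assoc, tensorHom_snd, lift_snd_assoc,
            Et18.GroupExt.one_comp_v hex, CategoryTheory.Hom.one_def]
          simp
      rw [MonObj.comp_one, ← Category.assoc, e, Category.assoc, hd]
      apply Et18.GroupExt.kernel_unique hex
      rw [hcT, lift_fst, lift_snd, Et18.GroupExt.one_comp_u hex]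
      simp
    · apply hv.cancel
      have e : v ≫ lift (toUnit P ≫ η[P]) (𝟙 P) = lift (1 : E ⟶ E) (𝟙 E) ≫ (v ⊗ₘ v) := by
        apply CartesianMonoidalCategory.hom_ext
        · rw [Category.assoc, lift_fst, Category.assoc, tensorHom_fst, lift_fst_assoc,
            Et18.GroupExt.one_comp_v hex, CategoryTheory.Hom.one_def]
          simp
        · simp
      rw [MonObj.comp_one, ← Category.assoc, e, Category.assoc, hd]
      apply Et18.GroupExt.kernel_unique hex
      rw [hcT, lift_fst, lift_snd, Et18.GroupExt.one_comp_u hex]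
      simp
  have hcomm : ∀ (T : Over S) (x y : T ⟶ E), x * y = y * x := by
    intro T x y
    have e := hcT T (lift x y)
    rw [lift_fst, lift_snd, ← hd, hd1, MonObj.comp_one, MonObj.comp_one, Et18.GroupExt.one_comp_u hex] at e
    exact mul_inv_eq_one.1 e.symm
  refine ⟨?_⟩
  rw [show (β_ E E).hom = lift (snd E E) (fst E E) by
    apply CartesianMonoidalCategory.hom_ext <;> simp]
  rw [← CategoryTheory.Hom.mul_def, hcomm, CategoryTheory.Hom.mul_def, lift_fst_snd, Category.id_comp]

end Groth.Agent.S8718
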