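import Groth.Statements.S8719
import Groth.Agent.Et18.Morse
-- import your own Groth.Agent.* helpers here

set_option autoImplicit false
universe u
open VanCyc

namespace Groth.Agent.S8719

/-- The formal computation carried out in its proof: let k be a field and f a power series in k[[x_0,
..., x_n]] with vanishing constant and linear terms whose degree-two part is a non-degenerate
quadratic form (the Gram determinant of its polar bilinear form is a unit). Then the partial
derivatives of f generate the maximal ideal of k[[x_0, ..., x_n]] (so f together with its partial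
derivatives cut out the origin with multiplicity one). -/
theorem result (k : Type u) [Field k] (n : ℕ)
    (f : MvPowerSeries (Fin (n + 1)) k) (hf : VanCyc.NondegQuadSeries f) :
    Ideal.span (Set.range fun i : Fin (n + 1) => MvPowerSeries.pderiv k i f) =
      IsLocalRing.maximalIdeal (MvPowerSeries (Fin (n + 1)) k) := by
  classical
  have h0 : ∀ i, MvPowerSeries.constantCoeff (MvPowerSeries.pderiv k i f) = 0 := fun i =>
    (Et18.constantCoeff_pderiv_eq f i).trans (hf.1.2 i)
  refine le_antisymm (Ideal.span_le.2 ?_) fun p hp => ?_
  · rintro _ ⟨i, rfl⟩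
    exact Et18.mem_maximalIdeal_iff.2 (h0 i)
  · refine Et18.span_range_le_of_matrix (G := fun j => MvPowerSeries.X j)
      (fun i j => Et18.divVar j (MvPowerSeries.pderiv k i f)) (fun i => ?_) ?_ ?_
    · exact (Et18.sum_X_mul_divVar _ (h0 i)).symm.trans (Finset.sum_congr rfl fun j _ => mul_comm _ _)
    · refine (congrArg (fun M : Matrix _ _ k => IsUnit M.det) ?_).mpr hf.2
      ext i j
      exact (Et18.constantCoeff_divVar j _).trans (Et18.coeff_single_pderiv f i j)
    · rw [← Et18.sum_X_mul_divVar p (Et18.mem_maximalIdeal_iff.1 hp)]
      exact Ideal.sum_mem _ fun j _ => Ideal.mul_mem_right _ _ (Ideal.subset_span ⟨j, rfl⟩)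

end Groth.Agent.S8719
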