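import Groth.Statements.S8720
import Groth.Agent.Et18.SeriesDiv
import Mathlib.LinearAlgebra.Matrix.NonsingularInverse
import Mathlib.LinearAlgebra.Dimension.Constructions
import Mathlib.Algebra.CharP.Two
-- import your own Groth.Agent.* helpers here

set_option autoImplicit false
universe u
open VanCyc

namespace Groth.Agent.S8720

/-- The formal computation carried out in its proof: let k be a field of characteristic 2, m a natural
number, and f a power series over k in the variables x_0 and x_i, x_i' (i = 1, ..., m) whose terms
of degree less than 3 are exactly those of x_0^2 + x_1 x_1' + ... + x_m x_m'. Then the ideal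
generated by f and all its partial derivatives is the ideal generated by x_0^2 and the x_i, x_i',
and the quotient of the power series ring by this ideal is two-dimensional over k. (Characteristic 2
is what makes the derivative in x_0 lose its linear term.) -/
theorem result (k : Type u) [Field k] [CharP k 2] (m : ℕ)
    (f : MvPowerSeries (Option (Fin m ⊕ Fin m)) k)
    (hf : ∀ d : Option (Fin m ⊕ Fin m) →₀ ℕ, d.degree < 3 →
      MvPowerSeries.coeff d f = MvPowerSeries.coeff d
        (MvPowerSeries.X none ^ 2 +
          ∑ i : Fin m, MvPowerSeries.X (some (Sum.inl i)) * MvPowerSeries.X (some (Sum.inr i)))) :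
    Ideal.span ({f} ∪ Set.range fun i : Option (Fin m ⊕ Fin m) => MvPowerSeries.pderiv k i f) =
      Ideal.span ({MvPowerSeries.X none ^ 2} ∪
        Set.range fun j : Fin m ⊕ Fin m => (MvPowerSeries.X (some j) : MvPowerSeries (Option (Fin m ⊕ Fin m)) k)) ∧
    Module.finrank k (MvPowerSeries (Option (Fin m ⊕ Fin m)) k ⧸
      Ideal.span ({MvPowerSeries.X none ^ 2} ∪
        Set.range fun j : Fin m ⊕ Fin m => (MvPowerSeries.X (some j) : MvPowerSeries (Option (Fin m ⊕ Fin m)) k))) = 2 := by
  classical
  let σ := Option (Fin m ⊕ Fin m)
  let E : σ → (σ →₀ ℕ) := fun t => t.elim (Finsupp.single none 2) (fun j => Finsupp.single (some j) 1)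
  let sel : (σ →₀ ℕ) → Option σ := fun d =>
    if h : ∃ j, d (some j) ≠ 0 then some (some h.choose) else if 2 ≤ d none then some none else none
  let D : σ → MvPowerSeries σ k → MvPowerSeries σ k := fun t g => Et18.divSel E sel t g
  have hsel : ∀ d t, sel d = some t → E t ≤ d := by
    intro d t h
    simp only [sel] at h
    split_ifs at h with h1 h2 <;> obtain rfl := Option.some.inj h <;>
      simp only [E, Option.elim, Finsupp.single_le_iff]
    · exact Nat.one_le_iff_ne_zero.2 h1.choose_spec
    · exact h2
  have hnone : ∀ d, sel d = none → d = 0 ∨ d = Finsupp.single none 1 := by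
    intro d h
    simp only [sel] at h
    split_ifs at h with h1 h2
    push_neg at h1
    have : d = Finsupp.single none (d none) := Finsupp.ext fun x => by cases x <;> simp [h1]
    rcases (show d none = 0 ∨ d none = 1 by omega) with e | e
    · exact Or.inl (by rw [this, e, Finsupp.single_zero])
    · exact Or.inr (by rw [this, e])
  have hselE : ∀ t, sel (E t) = some t := by
    intro t
    cases t with
    | none =>
      have h1 : ¬ ∃ j, E none (some j) ≠ 0 := by simp [E]
      simp only [sel, dif_neg h1]
      simp [E]
    | some j =>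
      have h1 : ∃ i, E (some j) (some i) ≠ 0 := ⟨j, by simp [E]⟩
      simp only [sel, dif_pos h1]
      have h2 := h1.choose_spec
      by_contra hj
      exact h2 (Finsupp.single_eq_of_ne fun e => hj (by rw [Option.some.inj e]))
  let G : σ → MvPowerSeries σ k := fun t => MvPowerSeries.monomial (E t) 1
  have hG : ({MvPowerSeries.X none ^ 2} ∪ Set.range fun j : Fin m ⊕ Fin m =>
      (MvPowerSeries.X (some j) : MvPowerSeries σ k) : Set (MvPowerSeries σ k)) = Set.range G := by
    ext p
    simp only [Set.mem_union, Set.mem_singleton_iff, Set.mem_range, MvPowerSeries.X_pow_eq]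
    constructor
    · rintro (rfl | ⟨j, rfl⟩)
      exacts [⟨none, rfl⟩, ⟨some j, rfl⟩]
    · rintro ⟨_ | j, rfl⟩
      exacts [Or.inl rfl, Or.inr ⟨j, rfl⟩]
  have hmem : ∀ p : MvPowerSeries σ k, p ∈ Ideal.span (Set.range G) ↔
      MvPowerSeries.coeff 0 p = 0 ∧ MvPowerSeries.coeff (Finsupp.single none 1) p = 0 := by
    intro p
    refine ⟨fun hp => ?_, fun hp => ?_⟩
    · obtain ⟨c, rfl⟩ := Ideal.mem_span_range_iff_exists_fun.1 hp
      have hno : ∀ (d : σ →₀ ℕ), (d = 0 ∨ d = Finsupp.single none 1) → ∀ t, ¬ E t ≤ d := by
        rintro d (rfl | rfl) (_ | j) hle <;>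
          · simp only [E, Option.elim, Finsupp.single_le_iff] at hle
            simp at hle
      have h0 : ∀ d, (d = 0 ∨ d = Finsupp.single none 1) → MvPowerSeries.coeff d (∑ t, c t * G t) = 0 :=
        fun d hd => by
          rw [map_sum]
          refine Finset.sum_eq_zero fun t _ => ?_
          rw [MvPowerSeries.coeff_mul_monomial, if_neg (hno d hd t)]
      exact ⟨h0 _ (Or.inl rfl), h0 _ (Or.inr rfl)⟩
    · rw [← Et18.sum_monomial_mul_divSel E sel hsel p (fun d h => by
        rcases hnone d h with rfl | rfl
        exacts [hp.1, hp.2])]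
      exact Ideal.sum_mem _ fun t _ => Ideal.mul_mem_right _ _ (Ideal.subset_span ⟨t, rfl⟩)
  let S : MvPowerSeries σ k := MvPowerSeries.X none ^ 2 +
    ∑ i : Fin m, MvPowerSeries.X (some (Sum.inl i)) * MvPowerSeries.X (some (Sum.inr i))
  have hS : ∀ d, MvPowerSeries.coeff d S = (if d = Finsupp.single none 2 then 1 else 0) +
      ∑ i : Fin m, if d = Finsupp.single (some (Sum.inl i)) 1 + Finsupp.single (some (Sum.inr i)) 1
        then (1 : k) else 0 := fun d => by
    simp only [S, MvPowerSeries.X_pow_eq]
    simp [MvPowerSeries.X_def, MvPowerSeries.monomial_mul_monomial, MvPowerSeries.coeff_monomial]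
  have hf' : ∀ d, d.degree < 3 → MvPowerSeries.coeff d f = MvPowerSeries.coeff d S := hf
  have f0 : MvPowerSeries.coeff 0 f = 0 := by
    rw [hf' _ (by simp), hS]
    have : ∀ (d : σ →₀ ℕ), d ≠ 0 → (0 : σ →₀ ℕ) ≠ d := fun d h => h.symm
    rw [if_neg (this _ (by simp)), Finset.sum_eq_zero (fun i _ => if_neg (this _ (by simp))), add_zero]
  have f1 : ∀ t, MvPowerSeries.coeff (Finsupp.single t 1) f = 0 := by
    intro t
    rw [hf' _ (by simp), hS]
    rw [if_neg (fun h => by simpa using congrArg Finsupp.degree h),
      Finset.sum_eq_zero (fun i _ => if_neg (fun h => by simpa using congrArg Finsupp.degree h)), add_zero]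
  have f2 : MvPowerSeries.coeff (Finsupp.single none 2) f = 1 := by
    rw [hf' _ (by simp), hS, if_pos rfl, Finset.sum_eq_zero (fun i _ => if_neg (fun h => by
      simpa using DFunLike.congr_fun h none)), add_zero]
  have f3 : ∀ j, MvPowerSeries.coeff (Finsupp.single none 1 + Finsupp.single (some j) 1) f = 0 := by
    intro j
    rw [hf' _ (by simp), hS, if_neg (fun h => by simpa using DFunLike.congr_fun h none),
      Finset.sum_eq_zero (fun i _ => if_neg (fun h => by simpa using DFunLike.congr_fun h none)), add_zero]
  have f4 : ∀ a b, MvPowerSeries.coeff (Finsupp.single (some a) 1 + Finsupp.single (some b) 1) f =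
      if a = b.swap then 1 else 0 := by
    intro a b
    rw [hf' _ (by simp), hS, if_neg (fun h => by simpa using DFunLike.congr_fun h none), zero_add]
    by_cases hab : a = b.swap
    · rw [if_pos hab]
      subst hab
      rcases b with b | b <;>
      · rw [Finset.sum_eq_single b _ (by simp)]
        · simp [add_comm]
        · intro i _ hi
          refine if_neg fun h => hi ?_
          have e := DFunLike.congr_fun h (some (Sum.inl b))
          by_contra hne
          simp [Finsupp.single_apply, hne, Ne.symm hne] at e
    · rw [if_neg hab]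
      refine Finset.sum_eq_zero fun i _ => if_neg fun h => hab ?_
      have ea := DFunLike.congr_fun h (some a)
      have eb := DFunLike.congr_fun h (some b)
      rcases a with a | a <;> rcases b with b | b <;>
        simp [Finsupp.single_apply] at ea eb ⊢ <;> grind
  have h2 : (2 : k) = 0 := CharP.cast_eq_zero k 2
  let H : σ → MvPowerSeries σ k := fun t => t.elim f (fun j => MvPowerSeries.pderiv k (some j.swap) f)
  have hpd : ∀ i, MvPowerSeries.pderiv k i f ∈ Ideal.span (Set.range G) := by
    intro i
    rw [hmem, MvPowerSeries.coeff_pderiv, MvPowerSeries.coeff_pderiv, zero_add, f1 i, zero_mul]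
    refine ⟨rfl, ?_⟩
    cases i with
    | none => simp [one_add_one_eq_two, h2]
    | some j => rw [f3 j, zero_mul]
  have hH : ∀ t, H t ∈ Ideal.span (Set.range G) := by
    rintro (_ | j)
    · exact (hmem f).2 ⟨f0, f1 none⟩
    · exact hpd _
  rw [hG]
  refine ⟨le_antisymm (Ideal.span_le.2 ?_) ?_, ?_⟩
  · rintro _ (rfl | ⟨i, rfl⟩)
    · exact hH none
    · exact hpd i
  · refine (Et18.span_range_le_of_matrix (H := H) (fun t s => D s (H t)) (fun t => ?_) ?_).trans
      (Ideal.span_mono ?_)
    · have e := (hmem _).1 (hH t)
      refine (Et18.sum_monomial_mul_divSel E sel hsel (H t) (fun d h => by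
        rcases hnone d h with rfl | rfl
        exacts [e.1, e.2])).symm.trans (Finset.sum_congr rfl fun s _ => mul_comm _ _)
    · let N : Matrix σ σ k := Matrix.of fun t s =>
        if t ≠ none ∧ s = none then MvPowerSeries.coeff (E none) (H t) else 0
      have hN : N * N = 0 := by
        ext t s
        rw [Matrix.mul_apply]
        refine Finset.sum_eq_zero fun x _ => ?_
        simp only [N, Matrix.of_apply]
        split_ifs with h1 h2 <;> simp_all
      have hM : (Matrix.of fun t s => D s (H t) : Matrix σ σ (MvPowerSeries σ k)).map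
          MvPowerSeries.constantCoeff = 1 + N := by
        ext t s
        rw [Matrix.map_apply, Matrix.of_apply, ← MvPowerSeries.coeff_zero_eq_constantCoeff_apply,
          Et18.coeff_divSel, zero_add, if_pos (hselE s), Matrix.add_apply]
        rcases t with _ | t <;> rcases s with _ | s
        · simp [N, E, H, f2]
        · simp [N, E, H, f1]
        · simp [N]
        · simp only [N, E, H, Option.elim, Matrix.of_apply, MvPowerSeries.coeff_pderiv, f4,
            Matrix.one_apply, Option.some.injEq]
          by_cases hts : t = s
          · subst hts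
            simp [Finsupp.single_apply, h2]
            cases t <;> exact fun h => nomatch h
          · simp [Ne.symm hts, hts]
      refine Matrix.isUnit_det_of_right_inverse (B := 1 - N) ?_
      rw [show Matrix.map (m := σ) (n := σ) (fun t s => D s (H t))
        MvPowerSeries.constantCoeff = 1 + N from hM, mul_sub, mul_one, add_mul, one_mul, hN, add_zero,
        add_sub_cancel_right]
    · rintro _ ⟨_ | j, rfl⟩
      · exact Or.inl rfl
      · exact Or.inr ⟨some j.swap, rfl⟩
  · let φ : MvPowerSeries σ k →ₗ[k] Fin 2 → k :=
      LinearMap.pi ![MvPowerSeries.coeff 0, MvPowerSeries.coeff (Finsupp.single none 1)]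
    have hker : LinearMap.ker φ = (Ideal.span (Set.range G)).restrictScalars k := by
      ext p
      rw [Submodule.restrictScalars_mem, hmem, LinearMap.mem_ker, funext_iff, Fin.forall_fin_two]
      simp [φ]
    have hsurj : Function.Surjective φ := fun v => by
      refine ⟨MvPowerSeries.C (v 0) + MvPowerSeries.monomial (Finsupp.single none 1) (v 1), ?_⟩
      funext i
      fin_cases i <;>
        simp [φ, MvPowerSeries.coeff_monomial, MvPowerSeries.coeff_C, -MvPowerSeries.coeff_zero_eq_constantCoeff]
      all_goals exact fun h => absurd h.symm (Finsupp.single_ne_zero.2 one_ne_zero)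
    let e := (Submodule.Quotient.restrictScalarsEquiv k (Ideal.span (Set.range G))).symm.trans
      ((Submodule.quotEquivOfEq _ _ hker.symm).trans (φ.quotKerEquivOfSurjective hsurj))
    exact e.finrank_eq.trans (Module.finrank_fin_fun k)

end Groth.Agent.S8720
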