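import Groth.Statements.S8722
import Groth.Agent.Et18.QLinear
-- import your own Groth.Agent.* helpers here

set_option autoImplicit false
universe u v
open SGA7II

namespace Groth.Agent.S8722

/-- Let k be a separably closed field of characteristic p > 0, q = p^r with r >= 1, V a
finite-dimensional k-vector space and phi : V -> V additive with phi(c v) = c^q phi(v), semisimple
in the sense that its image spans V. Then for n >= 1 the fixed vectors of the n-th iterate of phi
are exactly the finite linear combinations of phi-fixed vectors with coefficients c satisfying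
c^(q^n) = c; that is, the fixed space of phi^n is obtained from the F_q-space of phi-fixed vectors
by extending scalars to F_{q^n}. -/
theorem result (k : Type u) [Field k] [IsSepClosed k] (p : ℕ)
    [Fact p.Prime] [CharP k p] (r : ℕ) (hr : 0 < r) (V : Type v) [AddCommGroup V] [Module k V]
    [FiniteDimensional k V] (φ : V →+ V) (hφ : ∀ (c : k) (v : V), φ (c • v) = c ^ (p ^ r) • φ v)
    (hss : Submodule.span k (Set.range φ) = ⊤) (n : ℕ) (hn : 0 < n) (v : V) :
    φ^[n] v = v ↔ ∃ (s : Finset V) (c : V → k), (∀ w ∈ s, φ w = w) ∧
      (∀ w ∈ s, c w ^ ((p ^ r) ^ n) = c w) ∧ v = ∑ w ∈ s, c w • w := by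
  classical
  obtain ⟨b, hb, hfix⟩ := Groth.Agent.Et18.QLinear.exists_basis_fixed hr φ hφ hss
  constructor
  · intro h
    refine ⟨Finset.univ.map ⟨b, b.injective⟩, Function.extend b (fun i => b.repr v i) 0, ?_, ?_, ?_⟩
    · intro w hw
      obtain ⟨i, -, rfl⟩ := Finset.mem_map.mp hw
      exact hb i
    · intro w hw
      obtain ⟨i, -, rfl⟩ := Finset.mem_map.mp hw
      show Function.extend b _ (0 : V → k) (b i) ^ _ = _
      rw [b.injective.extend_apply]
      exact ((hfix n v).mp h i).trans (b.injective.extend_apply _ _ i).symm
    · rw [Finset.sum_map]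
      conv_lhs => rw [← b.sum_repr v]
      exact Finset.sum_congr rfl fun i _ => by
        show _ = Function.extend b _ (0 : V → k) (b i) • b i
        rw [b.injective.extend_apply]
  · rintro ⟨s, c, hs, hc, rfl⟩
    rw [hfix]
    intro i
    simp only [map_sum, map_smul, Finsupp.coe_finset_sum, Finset.sum_apply, Finsupp.smul_apply, smul_eq_mul]
    rw [← pow_mul, sum_pow_char_pow]
    refine Finset.sum_congr rfl fun w hw => ?_
    rw [mul_pow, pow_mul, hc w hw]
    congr 1
    have h := (hfix n w).mp (Function.iterate_fixed (hs w hw) n) i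
    rwa [← pow_mul] at h ⊢

end Groth.Agent.S8722
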