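import Groth.Statements.S8723
import Groth.Agent.Inters29.FibreMult
import Groth.Agent.Inters29.FibrePullback
import Groth.Agent.Inters29.FlatLength
import Groth.Agent.Inters29.Exist
import Groth.Agent.Et18.Descent

set_option autoImplicit false
universe u
open CategoryTheory CategoryTheory.Limits AlgebraicGeometry
open ArSurf

namespace Groth.Agent.S8723

/-- Let R be a discrete valuation ring with residue field k and X an integral regular scheme of Krull
dimension 2, proper and flat over Spec R by f (a regular proper flat model whose fibres are curves).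
Write X_s for the special fibre and X_sbar for its base change to an algebraic closure of k. Assume
that X_s is geometrically connected (its base change to every field extension of k is connected) and
that the multiplicities of the irreducible components of X_sbar, i.e. the lengths of the local rings
of X_sbar at its maximal points, have greatest common divisor 1 (no prime divides all of them). Then
the canonical map k -> H^0(X_s, O_{X_s}) is bijective (X is cohomologically flat over R in degree
0). -/
theorem result (R : Type u) [CommRing R] [IsDomain R]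
    [IsDiscreteValuationRing R] {X : Scheme.{u}} (f : X ⟶ Spec (CommRingCat.of R)) [IsProper f] [Flat f]
    [IsIntegral X] (hreg : ∀ x : X, IsRegularLocalRing (X.presheaf.stalk x))
    (hdim : topologicalKrullDim X = 2)
    (hconn : ∀ (K : Type u) [Field K] [Algebra (IsLocalRing.ResidueField R) K],
      ConnectedSpace ↥(pullback f (Spec.map (CommRingCat.ofHom
        ((algebraMap (IsLocalRing.ResidueField R) K).comp (IsLocalRing.residue R))))))
    (hd : letI Xb := pullback f (Spec.map (CommRingCat.ofHom
        ((algebraMap (IsLocalRing.ResidueField R) (AlgebraicClosure (IsLocalRing.ResidueField R))).comp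
          (IsLocalRing.residue R))))
      ∀ ℓ : ℕ, ℓ.Prime → ∃ x : ↥Xb, (∀ y : ↥Xb, y ⤳ x → y = x) ∧
        ¬ (ℓ ∣ (Module.length (Xb.presheaf.stalk x) (Xb.presheaf.stalk x)).toNat)) :
    Function.Bijective
      (pullback.snd f (Spec.map (CommRingCat.ofHom (IsLocalRing.residue R)))).appTop.hom := by
  classical
  let k := IsLocalRing.ResidueField R
  let K := AlgebraicClosure k
  let Xo : Over (Spec (CommRingCat.of R)) := Over.mk f
  haveI : IsIntegral Xo.left := ‹IsIntegral X›
  haveI : IsProper Xo.hom := ‹IsProper f›
  haveI : Flat Xo.hom := ‹Flat f›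
  haveI : IsLocallyNoetherian Xo.left := Groth.Agent.Inters29.isLocallyNoetherian_of_isProper R (X := Xo)
  obtain ⟨n, Γ, hΓ⟩ := Groth.Agent.Inters29.exists_componentList R (X := Xo) hdim
  let c := Spec.map (CommRingCat.ofHom (IsLocalRing.residue R))
  haveI : IsClosedImmersion c := Groth.Agent.Inters29.isClosedImmersion_residue R
  let j : pullback f c ⟶ Xo.left := pullback.fst f c
  haveI : IsClosedImmersion j := inferInstanceAs (IsClosedImmersion (pullback.fst f c))
  let q := pullback.snd f c
  have hjk : j.ker = Models.specialFibreIdeal R Xo := Groth.Agent.Inters29.ker_fst_specialFibre R (X := Xo)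
  have hr := Groth.Agent.Inters29.range_eq_specialFibreSet R (X := Xo) j hjk
  let cK := Spec.map (CommRingCat.ofHom ((algebraMap k K).comp (IsLocalRing.residue R)))
  let u : Spec (CommRingCat.of K) ⟶ Spec (CommRingCat.of k) := Spec.map (CommRingCat.ofHom (algebraMap k K))
  have hu : u ≫ c = cK := (Spec.map_comp _ _).symm
  let g : pullback f cK ⟶ pullback f c := pullback.lift (pullback.fst f cK) (pullback.snd f cK ≫ u) (by
    rw [pullback.condition, Category.assoc, hu])
  have H : IsPullback g (pullback.snd f cK) q u := by
    refine IsPullback.of_right (h₁₂ := pullback.fst f c) (h₂₂ := c) (v₁₃ := f) ?_ (pullback.lift_snd _ _ _)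
      (IsPullback.of_hasPullback f c)
    rw [pullback.lift_fst, hu]
    exact IsPullback.of_hasPullback f cK
  haveI : Flat u := inferInstance
  haveI : Surjective u := ⟨fun y => ⟨(⟨⊥, Ideal.isPrime_bot⟩ : PrimeSpectrum K), Subsingleton.elim _ _⟩⟩
  haveI : Flat g := MorphismProperty.of_isPullback (P := @Flat) H.flip inferInstance
  haveI : Surjective g := MorphismProperty.of_isPullback (P := @Surjective) H.flip inferInstance
  haveI : IsProper (pullback.snd f cK) := inferInstance
  haveI : IsLocallyNoetherian (pullback f cK) := LocallyOfFiniteType.isLocallyNoetherian (pullback.snd f cK)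
  haveI : ConnectedSpace ↥(pullback f cK) := hconn K
  haveI : ConnectedSpace ↥(pullback f c) := g.surjective.connectedSpace g.continuous
  have hFc : _root_.IsConnected (Models.specialFibreSet R Xo) := by
    rw [← hr]; exact isConnected_range j.continuous
  have hgcd : Models.multGcd R Xo Γ = 1 := by
    by_contra hne
    obtain ⟨ℓ, hℓ, hℓd⟩ := Nat.exists_prime_and_dvd hne
    obtain ⟨x, hx, hnd⟩ := hd ℓ hℓ
    obtain ⟨i, hi⟩ := Groth.Agent.Inters29.exists_length_eq_mult R (X := Xo) Γ hΓ j hjk (z := g x)
      (fun w hw => Groth.Agent.Inters29.maximal_of_flat g hx hw)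
    have h1 := Groth.Agent.Inters29.length_stalk_dvd g hx
    rw [hi] at h1
    exact hnd (((hℓd.trans (Finset.gcd_dvd (Finset.mem_univ i))) : ℓ ∣ _).trans h1)
  obtain ⟨hκ, hfin⟩ := Groth.Agent.Inters29.isField_sections_specialFibre R (X := Xo) hreg Γ hΓ hFc hgcd j hjk q
  -- the global functions upstairs
  haveI : CompactSpace ↥(pullback f c) := QuasiCompact.compactSpace_of_compactSpace q
  haveI : QuasiSeparatedSpace ↥(pullback f c) := quasiSeparatedSpace_of_quasiSeparated q
  have hpo := Groth.Agent.Et18.isPushout_appTop_of_flat H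
  let A := Γ(pullback f c, ⊤)
  let B := Γ(pullback f cK, ⊤)
  letI : Field A := hκ.toField
  obtain ⟨xb⟩ := (inferInstance : Nonempty ↥(pullback f cK))
  haveI : Nontrivial B := RingHom.domain_nontrivial ((pullback f cK).presheaf.germ ⊤ xb trivial).hom
  let eK := (Scheme.ΓSpecIso (CommRingCat.of K)).symm.commRingCatIsoToRingEquiv
  let ek := (Scheme.ΓSpecIso (CommRingCat.of k)).symm.commRingCatIsoToRingEquiv
  letI : Algebra k A := (q.appTop.hom.comp ek.toRingHom).toAlgebra
  letI : Algebra K B := ((pullback.snd f cK).appTop.hom.comp eK.toRingHom).toAlgebra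
  letI : Algebra A B := g.appTop.hom.toAlgebra
  letI : Algebra k B := ((algebraMap K B).comp (algebraMap k K)).toAlgebra
  haveI : IsScalarTower k K B := IsScalarTower.of_algebraMap_eq fun _ => rfl
  have hn : ∀ r : k, eK (algebraMap k K r) = u.appTop (ek r) := fun r =>
    congr($(Scheme.ΓSpecIso_inv_naturality (CommRingCat.ofHom (algebraMap k K))) r)
  haveI : IsScalarTower k A B := IsScalarTower.of_algebraMap_eq fun r => by
    show (pullback.snd f cK).appTop (eK (algebraMap k K r)) = g.appTop (q.appTop (ek r))
    rw [hn]
    exact (congr($(hpo.w) (ek r))).symm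
  have hpo' : IsPushout (CommRingCat.ofHom (algebraMap k A)) (CommRingCat.ofHom (algebraMap k K))
      (CommRingCat.ofHom (algebraMap A B)) (CommRingCat.ofHom (algebraMap K B)) :=
    IsPushout.of_iso hpo (Scheme.ΓSpecIso (CommRingCat.of k)) (Iso.refl _) (Scheme.ΓSpecIso (CommRingCat.of K))
      (Iso.refl _)
      (by ext a; obtain ⟨r, rfl⟩ := ek.surjective a
          show q.appTop (ek r) = q.appTop (ek ((Scheme.ΓSpecIso (CommRingCat.of k)).hom (ek r)))
          rw [show (Scheme.ΓSpecIso (CommRingCat.of k)).hom (ek r) = r from ek.symm_apply_apply r])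
      (Scheme.ΓSpecIso_naturality (CommRingCat.ofHom (algebraMap k K)))
      (by ext a; rfl)
      (by ext a; obtain ⟨r, rfl⟩ := eK.surjective a
          show (pullback.snd f cK).appTop (eK r) = (pullback.snd f cK).appTop (eK ((Scheme.ΓSpecIso (CommRingCat.of K)).hom (eK r)))
          rw [show (Scheme.ΓSpecIso (CommRingCat.of K)).hom (eK r) = r from eK.symm_apply_apply r])
  have hp : Algebra.IsPushout k A K B := CommRingCat.isPushout_iff_isPushout.1 hpo'
  have hrank : Module.finrank K B = Module.finrank k A := by
    have := hp.symm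
    exact (Algebra.IsPushout.equiv k K A B).toLinearEquiv.finrank_eq.symm.trans Module.finrank_baseChange
  haveI hfA : Module.Finite k A := RingHom.Finite.comp hfin (RingHom.Finite.of_surjective _ ek.surjective)
  haveI hfB : Module.Finite K B := RingHom.Finite.comp
    (Groth.Agent.Coherent.finite_app_of_isProper (pullback.snd f cK) (isAffineOpen_top _))
    (RingHom.Finite.of_surjective _ eK.surjective)
  -- `B` is local of length one
  haveI : IsArtinianRing B := IsArtinianRing.of_finite K B
  haveI : IsLocalRing B := IsLocalRing.of_isUnit_or_isUnit_one_sub_self fun x => by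
    rcases Groth.Agent.Inters29.isUnit_or_isNilpotent (A := B) Groth.Agent.Inters29.idempotent_eq_zero_or_one x with h | h
    · exact Or.inl h
    · exact Or.inr h.isUnit_one_sub
  let t : pullback f c ⟶ Spec (CommRingCat.of A) := (pullback f c).toSpecΓ
  haveI : Flat t := inferInstance
  have hsq : IsPullback g (pullback f cK).toSpecΓ (pullback f c).toSpecΓ (Spec.map g.appTop) := by
    refine IsPullback.of_bot (v₂₁ := Spec.map (pullback.snd f cK).appTop) (v₂₂ := Spec.map q.appTop)
      (h₃₁ := Spec.map u.appTop) ?_ (Scheme.toSpecΓ_naturality g)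
      (isPullback_SpecMap_of_isPushout _ _ _ _ hpo)
    rw [← Scheme.toSpecΓ_naturality, ← Scheme.toSpecΓ_naturality]
    exact H.paste_vert (IsPullback.of_vert_isIso ⟨Scheme.toSpecΓ_naturality u⟩)
  haveI : Flat (pullback f cK).toSpecΓ := MorphismProperty.of_isPullback (P := @Flat) hsq ‹Flat t›
  have hB1 : Module.length B B = 1 := by
    haveI : IsNoetherianRing B := inferInstance
    have hne : Module.length B B ≠ ⊤ := Module.length_ne_top_iff.2
      (isFiniteLength_iff_isNoetherian_isArtinian.2 ⟨inferInstance, inferInstance⟩)
    obtain ⟨m, hm⟩ := ENat.ne_top_iff_exists.1 hne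
    have hm1 : m = 1 := by
      by_contra hne1
      obtain ⟨ℓ, hℓ, hℓd⟩ := Nat.exists_prime_and_dvd hne1
      obtain ⟨x, hx, hnd⟩ := hd ℓ hℓ
      haveI := Groth.Agent.Inters29.isArtinianRing_stalk_of_maximal hx
      let τ : B →+* (pullback f cK).presheaf.stalk x := ((pullback f cK).presheaf.germ ⊤ x trivial).hom
      have hτ : τ.Flat := by
        have hfl := Flat.stalkMap (pullback f cK).toSpecΓ x
        have h1 : (((Spec B).presheaf.germ ⊤ ((pullback f cK).toSpecΓ x) trivial).hom.comp
            (Scheme.ΓSpecIso B).inv.hom).Flat := by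
          refine RingHom.Flat.comp (RingHom.Flat.of_bijective (ConcreteCategory.bijective_of_isIso _)) ?_
          haveI := (isAffineOpen_top (Spec B)).isLocalization_stalk ⟨(pullback f cK).toSpecΓ x, trivial⟩
          letI := (Spec B).presheaf.algebra_section_stalk (⟨(pullback f cK).toSpecΓ x, trivial⟩ : (⊤ : (Spec B).Opens))
          exact RingHom.flat_algebraMap_iff.2 (IsLocalization.flat _
            ((isAffineOpen_top (Spec B)).primeIdealOf ⟨(pullback f cK).toSpecΓ x, trivial⟩).asIdeal.primeCompl)
        have h2 := RingHom.Flat.comp h1 hfl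
        refine (?_ : _ = τ) ▸ h2
        ext b
        show ((pullback f cK).toSpecΓ.stalkMap x) ((Spec B).presheaf.germ ⊤ _ _ ((Scheme.ΓSpecIso B).inv b)) = _
        rw [Scheme.Hom.germ_stalkMap_apply]
        show (pullback f cK).presheaf.germ ⊤ x _ ((pullback f cK).toSpecΓ.appTop ((Scheme.ΓSpecIso B).inv b)) = _
        rw [Scheme.toSpecΓ_appTop, Iso.inv_hom_id_apply]
      haveI : IsLocalHom τ := ⟨fun b hb => by
        by_contra hnu
        have hmb : b ∈ IsLocalRing.maximalIdeal B := (IsLocalRing.mem_maximalIdeal b).2 hnu
        have hnil : IsNilpotent b := (Groth.Agent.Inters29.isUnit_or_isNilpotent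
          (A := B) Groth.Agent.Inters29.idempotent_eq_zero_or_one b).resolve_left hnu
        exact (hnil.map τ).not_isUnit hb⟩
      have h1 := Groth.Agent.Inters29.length_dvd_of_flat τ hτ
      rw [← hm, ENat.toNat_natCast] at h1
      exact hnd (hℓd.trans h1)
    rw [← hm, hm1, Nat.cast_one]
  have hBfield : IsField B := by
    rw [IsLocalRing.isField_iff_maximalIdeal_eq]
    haveI : IsSimpleModule B B := Module.length_eq_one_iff.1 hB1
    exact (IsSimpleOrder.eq_bot_or_eq_top (IsLocalRing.maximalIdeal B)).resolve_right
      (IsLocalRing.maximalIdeal.isMaximal B).ne_top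
  haveI : IsDomain B := hBfield.isDomain
  have hB2 : Module.finrank K B = 1 := by
    have hb := IsAlgClosed.algebraMap_bijective_of_isIntegral (k := K) (K := B)
    exact (LinearEquiv.ofBijective (Algebra.linearMap K B) hb).finrank_eq.symm.trans (Module.finrank_self K)
  rw [hrank] at hB2
  have hbij : Function.Bijective (q.appTop.hom.comp ek.toRingHom) := by
    refine ⟨RingHom.injective _, fun a => ?_⟩
    obtain ⟨r, hr⟩ := exists_smul_eq_of_finrank_eq_one hB2 (one_ne_zero (α := A)) a
    exact ⟨r, by rw [Algebra.smul_def, mul_one] at hr; exact hr⟩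
  exact (Function.Bijective.of_comp_iff _ ek.bijective).1 hbij

end Groth.Agent.S8723
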