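import Groth.Statements.S8724
import Mathlib.Algebra.Ring.GeomSum
import Mathlib.Data.Nat.Choose.Sum
import Mathlib.Tactic.Ring

set_option autoImplicit false
open LefPen

namespace Groth.Agent.S8724

/-- The algebraic identity established in its proof: let a >= 1 and work in Z[y, z]. Then (1+y)^(a-1) -
(1+z)^(a-1) = (y - z) * (sum over i, j >= 0 with i + j + 1 <= a - 1 of C(a-1, i+j+1) y^i z^j), and
(1+y)^a z - (1+z)^a y = (y - z) * (-1 + sum over i, j >= 1 with i + j <= a of C(a, i+j) y^i z^j).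
Consequently the rational function -((1+y)^(a-1) - (1+z)^(a-1)) / ((1+y)^a z - (1+z)^a y), the
generating series of the primitive middle Hodge numbers of smooth hypersurfaces of degree a, equals
(sum_{i,j >= 0} C(a-1, i+j+1) y^i z^j) / (1 - sum_{i,j >= 1} C(a, i+j) y^i z^j). -/
theorem result (a : ℕ) (ha : 1 ≤ a) :
    let y : MvPolynomial (Fin 2) ℤ := MvPolynomial.X 0
    let z : MvPolynomial (Fin 2) ℤ := MvPolynomial.X 1
    ((1 + y) ^ (a - 1) - (1 + z) ^ (a - 1) =
      (y - z) * ∑ i ∈ Finset.range a, ∑ j ∈ Finset.range a,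
        if i + j + 1 ≤ a - 1 then ((a - 1).choose (i + j + 1) : MvPolynomial (Fin 2) ℤ) * y ^ i * z ^ j else 0) ∧
    ((1 + y) ^ a * z - (1 + z) ^ a * y =
      (y - z) * (-1 + ∑ i ∈ Finset.range (a + 1), ∑ j ∈ Finset.range (a + 1),
        if 1 ≤ i ∧ 1 ≤ j ∧ i + j ≤ a then (a.choose (i + j) : MvPolynomial (Fin 2) ℤ) * y ^ i * z ^ j else 0)) := by
  intro y z
  have hre : ∀ (h : ℕ → ℕ → (MvPolynomial (Fin 2) ℤ)) (N n : ℕ), n ≤ N →
      (∑ i ∈ Finset.range N, ∑ j ∈ Finset.range N, if i + j < n then h i j else 0) =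
        ∑ k ∈ Finset.range n, ∑ i ∈ Finset.range (k + 1), h i (k - i) := by
    intro h N n hn
    induction n with
    | zero => simp
    | succ n ih =>
      have hstep : (∑ i ∈ Finset.range N, ∑ j ∈ Finset.range N, if i + j = n then h i j else 0) =
          ∑ i ∈ Finset.range (n + 1), h i (n - i) := by
        rw [← Finset.sum_subset (Finset.range_mono hn)]
        · refine Finset.sum_congr rfl fun i hi => ?_
          rw [Finset.mem_range] at hi
          rw [Finset.sum_eq_single_of_mem (n - i) (Finset.mem_range.2 (by omega)) fun j _ hj => if_neg (by omega)]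
          rw [if_pos (by omega)]
        · intro i _ hi
          rw [Finset.mem_range] at hi
          exact Finset.sum_eq_zero fun j _ => if_neg (by omega)
      rw [Finset.sum_range_succ _ n, ← ih (by omega), ← hstep, ← Finset.sum_add_distrib]
      refine Finset.sum_congr rfl fun i _ => ?_
      rw [← Finset.sum_add_distrib]
      refine Finset.sum_congr rfl fun j _ => ?_
      rcases lt_trichotomy (i + j) n with h' | h' | h'
      · rw [if_pos (by omega), if_pos h', if_neg (by omega), add_zero]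
      · rw [if_pos (by omega), if_neg (by omega), if_pos h', zero_add]
      · rw [if_neg (by omega), if_neg (by omega), if_neg (by omega), add_zero]
  have hgeom : ∀ k : ℕ, (y - z) * ∑ i ∈ Finset.range (k + 1), y ^ i * z ^ (k - i) = y ^ (k + 1) - z ^ (k + 1) := by
    intro k
    rw [mul_comm]
    exact geom_sum₂_mul y z (k + 1)
  have hbin : ∀ (m : ℕ) (w : (MvPolynomial (Fin 2) ℤ)), (1 + w) ^ m = ∑ k ∈ Finset.range (m + 1), (m.choose k : (MvPolynomial (Fin 2) ℤ)) * w ^ k := by
    intro m w
    rw [add_comm, add_pow]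
    exact Finset.sum_congr rfl fun k _ => by ring
  constructor
  · rw [show (∑ i ∈ Finset.range a, ∑ j ∈ Finset.range a,
        if i + j + 1 ≤ a - 1 then ((a - 1).choose (i + j + 1) : (MvPolynomial (Fin 2) ℤ)) * y ^ i * z ^ j else 0) =
        ∑ k ∈ Finset.range (a - 1), ∑ i ∈ Finset.range (k + 1), ((a - 1).choose (i + (k - i) + 1) : (MvPolynomial (Fin 2) ℤ)) * y ^ i * z ^ (k - i) by
      rw [← hre (fun i j => ((a - 1).choose (i + j + 1) : (MvPolynomial (Fin 2) ℤ)) * y ^ i * z ^ j) a (a - 1) (by omega)]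
      exact Finset.sum_congr rfl fun i _ => Finset.sum_congr rfl fun j _ => by simp only [Nat.add_one_le_iff]]
    rw [hbin, hbin, Finset.sum_range_succ' _ (a - 1), Finset.sum_range_succ' _ (a - 1), Finset.mul_sum]
    simp only [pow_zero, add_sub_add_right_eq_sub]
    rw [← Finset.sum_sub_distrib]
    refine Finset.sum_congr rfl fun k hk => ?_
    rw [← mul_sub, ← hgeom k, ← mul_left_comm, Finset.mul_sum]
    congr 1
    refine Finset.sum_congr rfl fun i hi => ?_
    rw [Finset.mem_range] at hi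
    rw [show i + (k - i) + 1 = k + 1 by omega, mul_assoc]
  · obtain ⟨m, rfl⟩ : ∃ m, a = m + 1 := ⟨a - 1, by omega⟩
    rw [show (∑ i ∈ Finset.range (m + 1 + 1), ∑ j ∈ Finset.range (m + 1 + 1),
        if 1 ≤ i ∧ 1 ≤ j ∧ i + j ≤ m + 1 then ((m + 1).choose (i + j) : (MvPolynomial (Fin 2) ℤ)) * y ^ i * z ^ j else 0) =
        ∑ k ∈ Finset.range m, ∑ i ∈ Finset.range (k + 1), ((m + 1).choose (i + (k - i) + 2) : (MvPolynomial (Fin 2) ℤ)) * y ^ (i + 1) * z ^ (k - i + 1) by
      rw [← hre (fun i j => ((m + 1).choose (i + j + 2) : (MvPolynomial (Fin 2) ℤ)) * y ^ (i + 1) * z ^ (j + 1)) (m + 1) m (by omega)]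
      rw [Finset.sum_range_succ']
      rw [show (∑ j ∈ Finset.range (m + 1 + 1),
        if 1 ≤ 0 ∧ 1 ≤ j ∧ 0 + j ≤ m + 1 then ((m + 1).choose (0 + j) : (MvPolynomial (Fin 2) ℤ)) * y ^ 0 * z ^ j else 0) = 0 from
          Finset.sum_eq_zero fun j _ => if_neg (by omega), add_zero]
      refine Finset.sum_congr rfl fun i _ => ?_
      rw [Finset.sum_range_succ', if_neg (by omega), add_zero]
      refine Finset.sum_congr rfl fun j _ => ?_
      rw [show i + 1 + (j + 1) = i + j + 2 by omega]
      exact if_congr ⟨fun h => by omega, fun h => ⟨by omega, by omega, by omega⟩⟩ rfl rfl]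
    rw [hbin, hbin, Finset.sum_mul, Finset.sum_mul, Finset.sum_range_succ' _ (m + 1), Finset.sum_range_succ' _ (m + 1),
      Finset.sum_range_succ' _ m, Finset.sum_range_succ' _ m]
    have key : ∀ k ∈ Finset.range m, ((m + 1).choose (k + 1 + 1) : (MvPolynomial (Fin 2) ℤ)) * y ^ (k + 1 + 1) * z -
        ((m + 1).choose (k + 1 + 1) : (MvPolynomial (Fin 2) ℤ)) * z ^ (k + 1 + 1) * y =
        (y - z) * ∑ i ∈ Finset.range (k + 1), ((m + 1).choose (i + (k - i) + 2) : (MvPolynomial (Fin 2) ℤ)) * y ^ (i + 1) * z ^ (k - i + 1) := by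
      intro k hk
      calc _ = ((m + 1).choose (k + 1 + 1) : (MvPolynomial (Fin 2) ℤ)) * (y * z) * (y ^ (k + 1) - z ^ (k + 1)) := by ring
        _ = _ := by
          rw [← hgeom k, ← mul_left_comm, Finset.mul_sum]
          congr 1
          refine Finset.sum_congr rfl fun i hi => ?_
          rw [Finset.mem_range] at hi
          rw [show i + (k - i) + 2 = k + 1 + 1 by omega]
          ring
    rw [mul_add, Finset.mul_sum, ← Finset.sum_congr rfl key, Finset.sum_sub_distrib]
    simp only [zero_add, pow_zero, pow_one, Nat.choose_zero_right, Nat.cast_one]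
    ring

end Groth.Agent.S8724
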