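import Groth.Statements.S8725
import Groth.Agent.EtASLib.ProperFinite

set_option linter.style.haveILetI false
-- import your own Groth.Agent.* helpers here

set_option autoImplicit false
set_option backward.isDefEq.respectTransparency false
set_option backward.isDefEq.respectTransparency.types false
set_option linter.style.haveILetI false
set_option synthInstance.maxHeartbeats 400000
set_option maxHeartbeats 1000000
universe u
open CategoryTheory CategoryTheory.Limits AlgebraicGeometry
open SGA7II

namespace Groth.Agent.S8725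

open AlgebraicGeometry CategoryTheory CategoryTheory.Limits CategoryTheory.Abelian Opposite
open Groth.Agent Groth.Agent.EtASLib Groth.Agent.Desc19b.EtQCoh

theorem card_fixed_le {k : Type*} [Field k] {p : ℕ} (hp : 2 ≤ p) {V : Type*} [AddCommGroup V] [Module k V]
    [FiniteDimensional k V] (T : V →+ V) (hT : ∀ (a : k) (v : V), T (a • v) = a ^ p • T v) :
    Finite {v : V // T v = v} ∧ Nat.card {v : V // T v = v} ≤ p ^ Module.finrank k V := by
  classical
  obtain ⟨s, hs, hsp, hli⟩ := exists_linearIndependent k {v : V | T v = v}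
  haveI : Fintype s := @Fintype.ofFinite _ hli.finite
  let P : Polynomial k := Polynomial.X ^ p - Polynomial.X
  have hP0 : P ≠ 0 := FiniteField.X_pow_card_sub_X_ne_zero k hp
  let F : Finset k := P.roots.toFinset
  have hmemF : ∀ c : k, c ^ p = c → c ∈ F := fun c hc => by
    rw [Multiset.mem_toFinset, Polynomial.mem_roots hP0]
    simp [P, hc]
  have hF : F.card ≤ p := (Multiset.toFinset_card_le _).trans
    ((Polynomial.card_roots' P).trans (le_of_eq (FiniteField.X_pow_card_sub_X_natDegree_eq k hp)))
  have hcoef : ∀ w : {v : V // T v = v}, ∃ c : s → F, ∑ i : s, (c i : k) • (i : V) = w.1 := by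
    rintro ⟨v, hv⟩
    have hmem : v ∈ Submodule.span k (Set.range (Subtype.val : s → V)) := by
      rw [Subtype.range_coe, hsp]
      exact Submodule.subset_span hv
    obtain ⟨c, hc⟩ := (Submodule.mem_span_range_iff_exists_fun k).1 hmem
    have hTc : ∑ i : s, (c i ^ p) • (i : V) = v := by
      refine Eq.trans ?_ hv
      rw [← hc, map_sum]
      exact Finset.sum_congr rfl fun i _ => by rw [hT, (hs i.2 : T (i : V) = i)]
    have hz : ∀ i, c i ^ p = c i := fun i => by
      have h0 : ∑ i : s, (c i ^ p - c i) • (i : V) = 0 := by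
        simp only [sub_smul, Finset.sum_sub_distrib, hTc, hc, sub_self]
      exact sub_eq_zero.1 (Fintype.linearIndependent_iff.1 hli _ h0 i)
    exact ⟨fun i => ⟨c i, hmemF _ (hz i)⟩, hc⟩
  choose c hc using hcoef
  have hinj : Function.Injective c := fun a b h => Subtype.ext (by rw [← hc a, ← hc b, h])
  refine ⟨Finite.of_injective c hinj, (Nat.card_le_card_of_injective c hinj).trans ?_⟩
  rw [Nat.card_fun, Nat.card_eq_fintype_card, Nat.card_eq_fintype_card, Fintype.card_coe]
  exact (Nat.pow_le_pow_left hF _).trans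
    (Nat.pow_le_pow_right (by omega) hli.fintype_card_le_finrank)

/-- In the form statable without the Frobenius action: let k be a separably closed field of
characteristic p > 0 and X a proper k-scheme. Then for every i the etale cohomology group H^i(X_et,
Z/p) is finite, of order at most p^(dim_k H^i(X, O_X)). (The published statement identifies
H^i(X_et, Z/p) with the Frobenius-fixed vectors of H^i(X, O_X); this row states only the resulting
finiteness and order bound.) -/
theorem result (k : Type u) [Field k] [IsSepClosed k] (p : ℕ)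
    [Fact p.Prime] [CharP k p] (X : Scheme.{u}) [X.Over (Spec (CommRingCat.of k))]
    [IsProper (X ↘ Spec (CommRingCat.of k))] (i : ℕ) :
    Finite (EtCoh.H X (EtCoh.const X (ZMod p)) i) ∧
      Nat.card (EtCoh.H X (EtCoh.const X (ZMod p)) i) ≤
        p ^ Module.finrank k (Coh.HH X (Coh.structureModule X) i) := by
  let f := X ↘ Spec (CommRingCat.of k)
  have h0 : (p : Γ(X, ⊤)) = 0 := natCast_eq_zero_of_over p f
  haveI : Finite (EtCoh.H X (EtCoh.const X (ZMod p)) i) := finite_H_const p f h0 i
  refine ⟨inferInstance, ?_⟩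
  haveI : EtZar.ZarCont X := Groth.Agent.Desc19b.EtQCoh.zarCont X
  haveI : IsLocallyNoetherian X := LocallyOfFiniteType.isLocallyNoetherian f
  let V := Coh.HH X (Coh.structureModule X) i
  haveI : Module.Finite k V := (Groth.Agent.Coherent.finite_HH_iff k _ i).2
    (Groth.Agent.Coherent.finCoh_of_isProper (X ↘ Spec (CommRingCat.of k)) _
      (Groth.Agent.Coherent.isCoh_structureModule X) i)
  let E : V ≃+ EtCoh.H X (EtCoh.Ga X) i := AddEquiv.ofBijective (EtASLib.cmp i) (cmp_bijective i)
  let φ : k →+* Γ(X, ⊤) := Groth.Agent.Coherent.baseHom k X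
  have hsmul : ∀ (a : k) (v : V), E (a • v) = (EtCoh.HF X i).map (mulMap (φ a)) (E v) :=
    fun a v => cmp_smul i (φ a) v
  let T : V →+ V := E.symm.toAddMonoidHom.comp
    (((EtCoh.HF X i).map (frobMap p h0)).hom.comp E.toAddMonoidHom)
  have hET : ∀ v, E (T v) = (EtCoh.HF X i).map (frobMap p h0) (E v) := fun v => E.apply_symm_apply _
  have hT : ∀ (a : k) (v : V), T (a • v) = a ^ p • T v := fun a v => E.injective (by
    rw [hET, hsmul, hsmul, hET, map_pow, ← ConcreteCategory.comp_apply, ← Functor.map_comp, mulMap_frobMap,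
      Functor.map_comp, ConcreteCategory.comp_apply])
  haveI := epi_asMap p h0
  obtain ⟨e⟩ := nonempty_kernel_iso p h0
  let S : ShortComplex (EtCoh.Ab X) := ShortComplex.mk _ _ (kernel.condition (asMap p h0))
  have hS : S.ShortExact := { exact := ShortComplex.exact_kernel (asMap p h0) }
  let A := ((EtCoh.HF X i).mapIso e).addCommGroupIsoToAddEquiv
  let ι' : EtCoh.H X (kernel (asMap p h0)) i →+ EtCoh.H X (EtCoh.Ga X) i :=
    ((EtCoh.HF X i).map (kernel.ι (asMap p h0))).hom
  have hinj : Function.Injective ι' := by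
    refine (injective_iff_map_eq_zero _).2 fun x hx => ?_
    rcases i with _ | q
    · obtain ⟨g, rfl⟩ := (Ext.mk₀_bijective _ _).2 x
      change (Ext.mk₀ g).comp (Ext.mk₀ (kernel.ι (asMap p h0))) (add_zero 0) = 0 at hx
      rw [Ext.mk₀_comp_mk₀, Ext.mk₀_eq_zero_iff] at hx
      rw [Ext.mk₀_eq_zero_iff, ← cancel_mono (kernel.ι (asMap p h0)), hx, zero_comp]
    · obtain ⟨y, rfl⟩ := Ext.covariant_sequence_exact₁ _ hS x hx (rfl : q + 1 = q + 1)
      obtain ⟨y', rfl⟩ := (as_surjective_finite p h0 f q).1 y
      show (y'.comp (Ext.mk₀ S.g) (add_zero q)).comp hS.extClass rfl = 0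
      rw [Ext.comp_assoc_of_second_deg_zero, hS.comp_extClass, Ext.comp_zero]
  have hfix : ∀ x, T (E.symm (ι' (A x))) = E.symm (ι' (A x)) := fun x => by
    have hz : (ι' (A x)).comp (Ext.mk₀ (asMap p h0)) (add_zero i) = 0 := by
      show ((A x).comp (Ext.mk₀ S.f) (add_zero i)).comp (Ext.mk₀ S.g) (add_zero i) = 0
      rw [Ext.comp_assoc_of_third_deg_zero, Ext.mk₀_comp_mk₀, S.zero, Ext.mk₀_zero, Ext.comp_zero]
    refine E.injective ?_
    rw [hET, E.apply_symm_apply]
    show (ι' (A x)).comp (Ext.mk₀ (asMap p h0 + 𝟙 _)) (add_zero i) = ι' (A x)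
    rw [Ext.mk₀_add, Ext.comp_add, Ext.comp_mk₀_id, hz, zero_add]
  obtain ⟨hfinite, hle⟩ := card_fixed_le (Fact.out : p.Prime).two_le T hT
  haveI := hfinite
  exact (Nat.card_le_card_of_injective (fun x => (⟨E.symm (ι' (A x)), hfix x⟩ : {v : V // T v = v}))
    fun x y h => A.injective (hinj (E.symm.injective (congrArg Subtype.val h)))).trans hle

end Groth.Agent.S8725
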