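import Groth.Statements.S8731
import Groth.Agent.CI14.Coh
import Groth.Agent.CI14.Conn
import Groth.Agent.Unram17Lib.RelDim
import Groth.Agent.Stk19b.FieldDim
import Groth.Agent.AmpleLib.Relative

set_option autoImplicit false
universe u
open CategoryTheory CategoryTheory.Limits AlgebraicGeometry
open LefPen

open CategoryTheory AlgebraicGeometry Groth.Agent Groth.Agent.CI14 Groth.Agent.CAlgH3.ModCohSeq Groth.Agent.Coherent
set_option backward.isDefEq.respectTransparency false
set_option backward.isDefEq.respectTransparency.types false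

namespace Groth.Agent.S8731

/-- (iv), the assertions on the structure sheaf: let k be an algebraically closed field, n >= 1, and Q a
quadratic form in n + 2 variables whose zero scheme X = V(Q) ⊂ P^{n+1}_k is smooth over k of
relative dimension n (a smooth quadric of dimension n). Then H^i(X, O_X) = 0 for every i >= 1, and
the structure map identifies k with H^0(X, O_X). (The published item also computes H^1(X, O_X(1)),
the canonical sheaf and the Picard group, not stated here.) -/
theorem result (k : Type u) [Field k] [IsAlgClosed k] (n : ℕ) (hn : 1 ≤ n)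
    (Q : LefPen.Form (n + 1) k 2)
    [SmoothOfRelativeDimension n ((LefPen.hypIdeal Q).subschemeι ≫ CohB1.ProjSpace.toSpec (n + 1) k)] :
    (∀ i : ℕ, 1 ≤ i → Subsingleton (Coh.HH (LefPen.hypIdeal Q).subscheme
        (Coh.structureModule (LefPen.hypIdeal Q).subscheme) i)) ∧
      Function.Bijective ((LefPen.hypIdeal Q).subschemeι ≫ CohB1.ProjSpace.toSpec (n + 1) k).appTop.hom := by
  classical
  let J := LefPen.hypIdeal Q
  let a : Fin 1 → ℕ := fun _ => 2
  let G : ∀ l : Fin 1, LefPen.Form (n + 1) k (a l) := fun _ => Q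
  have hci : LefPen.ciIdeal G = J := iSup_unique _
  haveI : SmoothOfRelativeDimension n ((LefPen.ciIdeal G).subschemeι ≫ CohB1.ProjSpace.toSpec (n + 1) k) := by
    rw [hci]; infer_instance
  obtain ⟨y, -⟩ := exists_point_ci (fun _ => by decide : ∀ l, 1 ≤ a l) G (by omega)
  have hdimci : topologicalKrullDim ↥(LefPen.ciIdeal G).subscheme = (n : WithBot ℕ∞) := by
    haveI : Nonempty ↥(LefPen.ciIdeal G).subscheme := ⟨y⟩
    rw [Stk19b.FieldDim.topologicalKrullDim_eq_iSup_localDim, iSup_congr fun z =>
      Unram17Lib.localDim_of_smoothOfRelativeDimension k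
        ((LefPen.ciIdeal G).subschemeι ≫ CohB1.ProjSpace.toSpec (n + 1) k) n z, iSup_const]
  have hQ : Q ≠ 0 := last_ne_zero (r := 0) G (fun _ => by decide) (by omega)
    (isProperCI_of_dim G (by omega) (by rw [hdimci, Nat.add_sub_cancel]))
  have hJ : PicF.IsInvertible (ClSub.idealMod J) := FlatMor12.IdealModGen.isInvertible_idealMod J (isEffCartier_hyp Q hQ)
  obtain ⟨eJ⟩ := LefPen24.nonempty_idealMod_iso Q hQ
  let M := Twist.twistProjSpace (n + 1) k 0
  have hM : PicF.IsInvertible M := isInvertible_twist' 0
  haveI : Coh.IsQCoh M := isQCoh_twist' 0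
  have hfirst : ∀ p : ℕ, 0 < p → V (CohB1.tensorMod M (ClSub.idealMod J)) p := fun p hp => by
    obtain ⟨et⟩ := nonempty_twist_tensor (n := n + 1) (k := k) 0 (-((2 : ℕ) : ℤ)) (-2) (by norm_num)
    exact V_of_iso (et.symm ≪≫ AmpleLib.tensorIso (Iso.refl M) eJ.symm)
      (Coherent.subsingleton_HH_twist (n := n + 1) (R := k) (d := (-2 : ℤ)) p (by omega) (by omega))
  have hses := divSeq_shortExact J hJ hM
  have hs : SurjRes J.subschemeι M := surjective_top hses (hfirst 1 one_pos)
  constructor
  · intro i hi
    haveI : Coh.IsQCoh ((Scheme.Modules.pullback J.subschemeι).obj M) :=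
      AmpleLib.isQCoh_of_isInvertible (PicLoc.isInvertible_pullback _ hM)
    have h3 := V_right hses (Coherent.subsingleton_HH_twist (n := n + 1) (R := k) (d := (0 : ℤ)) i (by omega) (by omega))
      (hfirst (i + 1) (by omega))
    have h4 := (V_push_iff J.subschemeι ((Scheme.Modules.pullback J.subschemeι).obj M) i).1 h3
    obtain ⟨e⟩ := AmpleLib.exists_pullStructureIso J.subschemeι
    exact V_of_iso ((Scheme.Modules.pullback J.subschemeι).mapIso (asIso (toTwistZero (n + 1) k)).symm ≪≫ e) h4
  · haveI := isIso_appTop_of_surjRes J (by rw [← hci]; exact y) hs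
    exact ConcreteCategory.bijective_of_isIso (J.subschemeι ≫ CohB1.ProjSpace.toSpec (n + 1) k).appTop

end Groth.Agent.S8731
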