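import Groth.Statements.S8733
import Groth.Agent.EulerPn5.Bott

set_option autoImplicit false
universe u
open CategoryTheory CategoryTheory.Limits AlgebraicGeometry
open LefPen

namespace Groth.Agent.S8733

/-- Over a field: let k be a field, r >= 1, P = P^r_k projective space with structure map to Spec k, Ω =
Ω^1_{P/k} its sheaf of relative differentials (the conormal sheaf of the diagonal) and L an
O_P-module which is a j-th exterior power of Ω. Then H^i(P, L) = H^i(P^r, Ω^j) is zero whenever i ≠
j or i > r, and for i = j <= r it is a one-dimensional k-vector space. (The published statement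
names the generator, the i-th power of the Hodge class of a hyperplane; this row states the
dimension only.) -/
theorem result (k : Type u) [Field k] (r : ℕ) (hr : 1 ≤ r) (j : ℕ)
    (L : (CohB1.ProjSpace r k).Modules)
    (hL : ExtPow.IsExtPow j (Omega.sheaf (CohB1.ProjSpace.toSpec r k)) L) :
    (∀ i : ℕ, (i ≠ j ∨ r < i) → Subsingleton (Coh.HH (CohB1.ProjSpace r k) L i)) ∧
      (j ≤ r → Module.finrank k (Coh.HH (CohB1.ProjSpace r k) L j) = 1) := by
  open Groth.Agent Groth.Agent.CAlgH3 in
  haveI : IsProper (CohB1.ProjSpace.toSpec r k) := Coherent.isProper_projSpace_toSpec r k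
  obtain ⟨e⟩ := EulerPn5.nonempty_tensor_twist0 L
  refine ⟨fun i h => ?_, fun hj => ?_⟩
  · rcases eq_or_ne i j with rfl | hi
    · have : r < i := h.resolve_left fun h => h rfl
      exact ModCohSeq.V_of_iso e (EulerPn5.V_of_rank_lt this hL 0 i)
    · exact ModCohSeq.V_of_iso e (EulerPn5.V_zero j hL i hi)
  · obtain ⟨h⟩ := EulerPn5.nonempty_HH_diag j hj hL
    exact ((EulerPn5.hhEquiv k e j).symm.trans h).finrank_eq.trans (Module.finrank_self k)

end Groth.Agent.S8733
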