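import Groth.Statements.S8734
import Groth.Agent.EulerPn5.Dim
import Groth.Agent.S10931

set_option autoImplicit false
universe u
open CategoryTheory CategoryTheory.Limits AlgebraicGeometry
open LefPen

namespace Groth.Agent.S8734

/-- Over a field: let k be a field, r >= 1, P = P^r_k, Ω = Ω^1_{P/k}, L an O_P-module which is a j-th
exterior power of Ω, and n a nonzero integer; write L(n) = L ⊗ O_P(n). Then H^i(P, L(n)) = H^i(P^r,
Ω^j(n)) is zero unless either i = 0 and n > j, or i = r and n < j - r. -/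
theorem result (k : Type u) [Field k] (r : ℕ) (hr : 1 ≤ r) (j : ℕ)
    (L : (CohB1.ProjSpace r k).Modules)
    (hL : ExtPow.IsExtPow j (Omega.sheaf (CohB1.ProjSpace.toSpec r k)) L) (n : ℤ) (hn : n ≠ 0) (i : ℕ)
    (h0 : ¬ (i = 0 ∧ (j : ℤ) < n)) (hr' : ¬ (i = r ∧ n < (j : ℤ) - r)) :
    Subsingleton (Coh.HH (CohB1.ProjSpace r k)
      (CohB1.tensorMod L (Twist.twistProjSpace r k n)) i) := by
  open Groth.Agent Groth.Agent.CAlgH3 Groth.Agent.Coherent Groth.Agent.EulerLib in
  haveI : IsProper ((CohB1.ProjSpace r k) ↘ Spec (CommRingCat.of k)) := Coherent.isProper_projSpace_toSpec r k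
  let M := CohB1.tensorMod L (Twist.twistProjSpace r k n)
  have hMf : FlatMod.IsFinLocFree M := ExtFilt28.isFinLocFree_tensor
    (WedgeDual5.isFinLocFree_of_isExtPow EulerPn5.isFinLocFree_omega hL) (EulerPn5.isFinLocFree_twist n)
  have hfin : ∀ q, Module.finrank k (Coh.HH (CohB1.ProjSpace r k) M q) = 0 → ModCohSeq.V M q := fun q h => by
    haveI := finCoh_of_isProper ((CohB1.ProjSpace r k) ↘ Spec (CommRingCat.of k)) M (CohBC.isCoh_of_isFinLocFree hMf) q
    haveI := Module.Finite.equiv (HHBaseEquiv k M q).symm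
    exact Module.finrank_zero_iff.1 h
  by_cases hj : r < j
  · exact EulerPn5.V_of_rank_lt hj hL n i
  rcases lt_or_gt_of_ne hn with hneg | hpos
  · rcases lt_trichotomy i r with hi | rfl | hi
    · exact EulerPn5.V_neg hneg j hL i hi
    · have hjn : (j : ℤ) - i ≤ n := not_lt.1 fun h => hr' ⟨rfl, h⟩
      obtain ⟨m, rfl⟩ : ∃ m : ℕ, n = -(m : ℤ) := ⟨(-n).toNat, by omega⟩
      obtain ⟨L', -, hL'⟩ := EulerPn5.exists_omegaPow (n := i) (A := k) (i - j)
      refine hfin i ?_
      rw [S10931.result k i j i (by omega) le_rfl L L' hL hL' (-(m : ℤ)), Nat.sub_self, neg_neg,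
        EulerPn5.finrank_zero (i - j) m (by omega) (by omega) hL',
        Nat.choose_eq_zero_of_lt (show m - 1 < i - j by omega), Nat.mul_zero]
    · haveI : Coh.IsQCoh M := CAlgH3.LocFreeFactor.isQCoh_of_finLocFree hMf
      exact Coherent.subsingleton_HH_projSpace_of_lt M i hi
  · rcases Nat.eq_zero_or_pos i with rfl | hi
    · have hnj : n ≤ j := not_lt.1 fun h => h0 ⟨rfl, h⟩
      obtain ⟨m, rfl⟩ := Int.eq_ofNat_of_zero_le hpos.le
      refine hfin 0 ?_
      rw [EulerPn5.finrank_zero j m (by omega) (by omega) hL,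
        Nat.choose_eq_zero_of_lt (show m - 1 < j by omega), Nat.mul_zero]
    · exact EulerPn5.V_pos hpos (r + 1) j (by omega) hL i hi

end Groth.Agent.S8734
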