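import Groth.Statements.S8741
import Groth.Agent.AdeqLib.Coker

set_option autoImplicit false
universe u
open CategoryTheory Limits
open Adeq

namespace Groth.Agent.S8741

/-- An adequate functor `F` on `A`-algebras admits a surjection `L → F` from a direct sum `L` of
linearly adequate functors: there are linearly adequate `L_i`, a coproduct cocone of the family
which is a colimit, and an epimorphism from its point onto `F`. -/
theorem result (A : Type u) [CommRing A] (F : Adeq.MVF A) (hF : Adeq.adequate A F) :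
    ∃ (ι : Type (u + 1)) (L : ι → Adeq.MVF A), (∀ i, Adeq.linAdequate A (L i)) ∧
      ∃ (c : Cofan L) (_ : IsColimit c) (π : c.pt ⟶ F), Epi π := by
  obtain ⟨ι, P, P', h1, h2, h3, h4, a, φ, hcov⟩ := AdeqLib.exists_linAdequate_cover hF
  let L : ι → Adeq.MVF A := fun i => kernel ((Adeq.underline A).map (a i))
  obtain ⟨c, t, -⟩ := AdeqLib.exists_adequate_cofan L
    (fun i => ⟨P i, P' i, a i, ⟨Iso.refl _⟩⟩)
  refine ⟨ι, L, fun i => ⟨P i, P' i, a i, h1 i, h2 i, h3 i, h4 i, ⟨Iso.refl _⟩⟩, c, t,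
    Cofan.IsColimit.desc t φ, AdeqLib.epi_of_surj _ fun B x => ?_⟩
  obtain ⟨i, y, rfl⟩ := hcov B x
  refine ⟨AdeqLib.ap (c.inj i) B y, ?_⟩
  rw [← AdeqLib.ap_comp, Cofan.IsColimit.fac]

end Groth.Agent.S8741
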