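import Groth.Statements.S8747
import Groth.Agent.AdeqLib.Split

set_option autoImplicit false
universe u
open CategoryTheory Limits
open Adeq

namespace Groth.Agent.S8747

/-- A short exact sequence `0 → underline(M) → G → L → 0` of module-valued functors on `A`-algebras with
`L` linearly adequate splits, and `G` is adequate. -/
theorem result (A : Type u) [CommRing A]
    (S : ShortComplex (Adeq.MVF A)) (hS : S.ShortExact) (M : ModuleCat.{u + 1} A)
    (e : S.X₁ ≅ (Adeq.underline A).obj M) (hL : Adeq.linAdequate A S.X₃) :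
    Nonempty S.Splitting ∧ Adeq.adequate A S.X₂ := by
  have h₁ : Adeq.adequate A S.X₁ :=
    (Adeq.adequate A).prop_of_iso e.symm (AdeqLib.adequate_uO M)
  obtain ⟨P, P', a, i1, i2, i3, i4, ⟨i⟩⟩ := hL
  have h₃ : Adeq.adequate A S.X₃ := ⟨P, P', a, ⟨i⟩⟩
  obtain ⟨s, hs⟩ :=
    AdeqLib.exists_lift hS h₁ h₃ ((AdeqLib.isKer_kernel a).of_iso i) (𝟙 S.X₃)
  have : Mono S.f := hS.mono_f
  exact ⟨⟨ShortComplex.Splitting.ofExactOfSection S hS.exact s hs inferInstance⟩,
    AdeqLib.adequate_ext hS h₁ h₃⟩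

end Groth.Agent.S8747
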