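import Groth.Statements.S8757
import Groth.Agent.AdeqLib.Site

set_option autoImplicit false
universe u
open CategoryTheory Limits AlgebraicGeometry
open Adeq

namespace Groth.Agent.S8757

/-- The pullback `f^* M` of an adequate `O`-module `M` on the big fppf site of `S` along a morphism of
schemes `f : T → S` is an adequate `O`-module on the big fppf site of `T`. -/
theorem result {S T : Scheme.{u}} (f : T ⟶ S) (M : BigSite.Mod Scheme.fppfPrecoverage S)
    (hM : Adeq.adequateMod Scheme.fppfPrecoverage S M) :
    Adeq.adequateMod Scheme.fppfPrecoverage T ((BigSite.pullMod Scheme.fppfPrecoverage f).obj M) := by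
  refine AdeqLib.adequateMod_of_forall fun R a => ?_
  exact (AdeqLib.adequate_pull_iff f a M).mpr (AdeqLib.adequate_toMVF (a ≫ f) hM)

end Groth.Agent.S8757
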