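import Groth.Statements.S8758
import Groth.Agent.AdeqLib.Site

set_option autoImplicit false
universe u
open CategoryTheory Limits AlgebraicGeometry
open Adeq

namespace Groth.Agent.S8758

/-- If `{f_i : S_i → S}` is an fppf covering and each `f_i^* M` is an adequate `O`-module on the big
fppf site of `S_i`, then `M` is adequate. (The converse holds by stability of adequacy under
pullback.) -/
theorem result (S : Scheme.{u}) (M : BigSite.Mod Scheme.fppfPrecoverage S) (ι : Type u)
    (T : ι → Scheme.{u}) (f : ∀ i, T i ⟶ S) (hcov : Presieve.ofArrows T f ∈ Scheme.fppfPrecoverage.coverings S)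
    (h : ∀ i, Adeq.adequateMod Scheme.fppfPrecoverage (T i) ((BigSite.pullMod Scheme.fppfPrecoverage (f i)).obj M)) :
    Adeq.adequateMod Scheme.fppfPrecoverage S M := by
  choose κ R a hcov' hadq using h
  refine ⟨Σ i, κ i, fun p => R p.1 p.2, fun p => a p.1 p.2 ≫ f p.1, ?_,
    fun p => (AdeqLib.adequate_pull_iff (f p.1) (a p.1 p.2) M).mp (hadq p.1 p.2)⟩
  have h₁ := (Scheme.ofArrows_mem_precoverage_iff
    (@Flat ⊓ @LocallyOfFinitePresentation : MorphismProperty Scheme.{u})).mp hcov
  have h₂ := fun i => (Scheme.ofArrows_mem_precoverage_iff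
    (@Flat ⊓ @LocallyOfFinitePresentation : MorphismProperty Scheme.{u})).mp (hcov' i)
  refine (Scheme.ofArrows_mem_precoverage_iff
    (@Flat ⊓ @LocallyOfFinitePresentation : MorphismProperty Scheme.{u})).mpr ⟨fun x => ?_,
      fun p => MorphismProperty.comp_mem _ _ _ ((h₂ p.1).2 p.2) (h₁.2 p.1)⟩
  obtain ⟨i, y, rfl⟩ := h₁.1 x
  obtain ⟨j, z, rfl⟩ := (h₂ i).1 y
  exact ⟨⟨i, j⟩, z, rfl⟩

end Groth.Agent.S8758
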