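import Groth.Statements.S8767
import Groth.Agent.AdeqLib.Parasitic

set_option autoImplicit false
universe u
open CategoryTheory Limits AlgebraicGeometry
open Adeq

namespace Groth.Agent.S8767

/-- For an adequate `O`-module `M` on the big fppf site of `S` the following are equivalent: `M` is
parasitic; `M` is parasitic for the fppf topology; `M(U) = 0` for every open `U ⊂ S`; `M(U_i) = 0`
for the members of some affine open covering `S = ⋃ U_i`. (The published statement has a fifth
equivalent condition, the vanishing of the quasi-coherent module obtained by restriction to the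
small Zariski site; it is not included here.) -/
theorem result (S : Scheme.{u}) (M : BigSite.Mod Scheme.fppfPrecoverage S)
    (hM : Adeq.adequateMod Scheme.fppfPrecoverage S M) :
    List.TFAE [Adeq.parasitic Scheme.fppfPrecoverage S M, Adeq.parasiticFor Scheme.fppfPrecoverage S M,
      ∀ U : S.Opens, Subsingleton (BigSite.sectMod Scheme.fppfPrecoverage M ((BigSite.zarIncl S).obj U)),
      ∃ (ι : Type u) (U : ι → S.Opens), (∀ i, IsAffineOpen (U i)) ∧ (⨆ i, U i) = ⊤ ∧
        ∀ i, Subsingleton (BigSite.sectMod Scheme.fppfPrecoverage M ((BigSite.zarIncl S).obj (U i)))] := by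
  tfae_have 1 → 2 := fun h P hP V g hg => h (Over.mk g) (hP.2 hg).1
  tfae_have 2 → 3 := fun h U => by
    let V := (BigSite.zarIncl S).obj U
    haveI : IsOpenImmersion V.hom := inferInstanceAs (IsOpenImmersion U.ι)
    let X : Option PUnit.{u + 1} → Scheme.{u} := fun o => o.elim S fun _ => V.left
    let f : ∀ o, X o ⟶ S := fun o =>
      match o with
      | none => 𝟙 S
      | some _ => V.hom
    have hP : Presieve.ofArrows X f ∈ Scheme.fppfPrecoverage.coverings S := by
      refine (Scheme.ofArrows_mem_precoverage_iff
        (@Flat ⊓ @LocallyOfFinitePresentation : MorphismProperty Scheme.{u})).mpr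
        ⟨fun x => ⟨none, x, rfl⟩, fun o => ?_⟩
      match o with
      | none => exact ⟨inferInstanceAs (Flat (𝟙 S)), inferInstanceAs (LocallyOfFinitePresentation (𝟙 S))⟩
      | some _ => exact ⟨inferInstanceAs (Flat V.hom), inferInstanceAs (LocallyOfFinitePresentation V.hom)⟩
    exact h hP V.hom (Presieve.ofArrows.mk (some PUnit.unit))
  tfae_have 3 → 4 := fun h =>
    ⟨S.affineOpens, fun V => (V : S.Opens), fun V => V.2, iSup_affineOpens_eq_top S, fun V => h V⟩
  tfae_have 4 → 1 := fun ⟨ι, U, hU, hcov, h⟩ => AdeqLib.parasitic_of_affineCover hM U hU hcov h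
  tfae_finish

end Groth.Agent.S8767
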