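import Groth.Statements.S8781
import Groth.Agent.AdeqLib.Tangent

set_option autoImplicit false
universe u
open CategoryTheory Limits
open AdeqTF

namespace Groth.Agent.S8781

/-- Say a module-valued functor `F` on `A`-algebras has right exact tangent functors if for every
`A`-algebra `B` and every short exact sequence `0 → N₁ → N → N₂ → 0` of `B`-modules the sequence
`TF(B, N₁) → TF(B, N) → TF(B, N₂) → 0` is exact. If `0 → F → G → H → 0` is a short exact sequence of
module-valued functors and `F`, `G` have right exact tangent functors, so does `H`. -/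
theorem result (A : Type u) [CommRing A] (C : ShortComplex (Adeq.MVF A))
    (hC : C.ShortExact)
    (h₁ : (∀ (B : Adeq.Alg A) (S : ShortComplex (ModuleCat.{u} B)), S.ShortExact →
        Function.Surjective (AdeqTF.tangentMap B C.X₁ S.g) ∧
          (AdeqTF.tangentMap B C.X₁ S.g).ker = (AdeqTF.tangentMap B C.X₁ S.f).range))
    (h₂ : (∀ (B : Adeq.Alg A) (S : ShortComplex (ModuleCat.{u} B)), S.ShortExact →
        Function.Surjective (AdeqTF.tangentMap B C.X₂ S.g) ∧
          (AdeqTF.tangentMap B C.X₂ S.g).ker = (AdeqTF.tangentMap B C.X₂ S.f).range)) :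
    (∀ (B : Adeq.Alg A) (S : ShortComplex (ModuleCat.{u} B)), S.ShortExact →
        Function.Surjective (AdeqTF.tangentMap B C.X₃ S.g) ∧
          (AdeqTF.tangentMap B C.X₃ S.g).ker = (AdeqTF.tangentMap B C.X₃ S.f).range) := by
  intro B S hS
  obtain ⟨hg₁, he₁⟩ := h₁ B S hS
  obtain ⟨hg₂, he₂⟩ := h₂ B S hS
  obtain ⟨-, -, q₁, -⟩ := AdeqLib.tangent_column B hC S.X₁
  obtain ⟨-, -, q, z⟩ := AdeqLib.tangent_column B hC S.X₂
  obtain ⟨-, e₃, q₃, -⟩ := AdeqLib.tangent_column B hC S.X₃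
  refine ⟨fun w => ?_, le_antisymm (fun x hx => ?_) ?_⟩
  · obtain ⟨y, rfl⟩ := q₃ w
    obtain ⟨y', rfl⟩ := hg₂ y
    exact ⟨_, (AdeqLib.tangentApp_natural B C.g S.g y').symm⟩
  · obtain ⟨y, rfl⟩ := q x
    rw [AddMonoidHom.mem_ker, ← AdeqLib.tangentApp_natural] at hx
    obtain ⟨w, hw⟩ := e₃ _ hx
    obtain ⟨w', rfl⟩ := hg₁ w
    have hy : y - AdeqLib.tangentApp B C.f S.X₂ w' ∈ (AdeqTF.tangentMap B C.X₂ S.g).ker := by
      rw [AddMonoidHom.mem_ker, map_sub, ← AdeqLib.tangentApp_natural, hw, sub_self]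
    rw [he₂] at hy
    obtain ⟨v, hv⟩ := hy
    refine ⟨AdeqLib.tangentApp B C.g S.X₁ v, ?_⟩
    rw [← AdeqLib.tangentApp_natural, hv, map_sub, z, sub_zero]
  · rintro _ ⟨v, rfl⟩
    rw [AddMonoidHom.mem_ker, ← AdeqLib.tangentMap_comp, S.zero, AdeqLib.tangentMap_zero]

end Groth.Agent.S8781
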