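import Groth.Statements.S8782
import Groth.Agent.AdeqLib.Tangent

set_option autoImplicit false
universe u
open CategoryTheory Limits
open AdeqTF

namespace Groth.Agent.S8782

/-- If `0 → F → G → H → 0` is a short exact sequence of module-valued functors on `A`-algebras and `F`,
`H` have right exact tangent functors (for every `A`-algebra `B` and short exact `0 → N₁ → N → N₂ →
0` of `B`-modules, `T(B, N₁) → T(B, N) → T(B, N₂) → 0` is exact), so does `G`. -/
theorem result (A : Type u) [CommRing A] (C : ShortComplex (Adeq.MVF A))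
    (hC : C.ShortExact)
    (h₁ : (∀ (B : Adeq.Alg A) (S : ShortComplex (ModuleCat.{u} B)), S.ShortExact →
        Function.Surjective (AdeqTF.tangentMap B C.X₁ S.g) ∧
          (AdeqTF.tangentMap B C.X₁ S.g).ker = (AdeqTF.tangentMap B C.X₁ S.f).range))
    (h₃ : (∀ (B : Adeq.Alg A) (S : ShortComplex (ModuleCat.{u} B)), S.ShortExact →
        Function.Surjective (AdeqTF.tangentMap B C.X₃ S.g) ∧
          (AdeqTF.tangentMap B C.X₃ S.g).ker = (AdeqTF.tangentMap B C.X₃ S.f).range)) :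
    (∀ (B : Adeq.Alg A) (S : ShortComplex (ModuleCat.{u} B)), S.ShortExact →
        Function.Surjective (AdeqTF.tangentMap B C.X₂ S.g) ∧
          (AdeqTF.tangentMap B C.X₂ S.g).ker = (AdeqTF.tangentMap B C.X₂ S.f).range) := by
  intro B S hS
  obtain ⟨hg₁, he₁⟩ := h₁ B S hS
  obtain ⟨hg₃, he₃⟩ := h₃ B S hS
  obtain ⟨-, -, q₁, -⟩ := AdeqLib.tangent_column B hC S.X₁
  obtain ⟨-, e, q, z⟩ := AdeqLib.tangent_column B hC S.X₂
  obtain ⟨i₃, e₃, -, -⟩ := AdeqLib.tangent_column B hC S.X₃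
  refine ⟨fun y => ?_, le_antisymm (fun y hy => ?_) ?_⟩
  · obtain ⟨t, ht⟩ := hg₃ (AdeqLib.tangentApp B C.g S.X₃ y)
    obtain ⟨y', rfl⟩ := q t
    obtain ⟨w, hw⟩ := e₃ (y - AdeqTF.tangentMap B C.X₂ S.g y')
      (by rw [map_sub, AdeqLib.tangentApp_natural, ht, sub_self])
    obtain ⟨w', rfl⟩ := hg₁ w
    refine ⟨y' + AdeqLib.tangentApp B C.f S.X₂ w', ?_⟩
    rw [map_add, ← AdeqLib.tangentApp_natural, hw, add_sub_cancel]
  · have h3 : AdeqLib.tangentApp B C.g S.X₂ y ∈ (AdeqTF.tangentMap B C.X₃ S.g).ker := by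
      rw [AddMonoidHom.mem_ker, ← AdeqLib.tangentApp_natural, AddMonoidHom.mem_ker.1 hy, map_zero]
    rw [he₃] at h3
    obtain ⟨t, ht⟩ := h3
    obtain ⟨v, rfl⟩ := q₁ t
    obtain ⟨w, hw⟩ := e (y - AdeqTF.tangentMap B C.X₂ S.f v)
      (by rw [map_sub, AdeqLib.tangentApp_natural, ht, sub_self])
    have hwker : w ∈ (AdeqTF.tangentMap B C.X₁ S.g).ker := by
      refine i₃ ?_
      rw [AdeqLib.tangentApp_natural, hw, map_sub, AddMonoidHom.mem_ker.1 hy,
        ← AdeqLib.tangentMap_comp, S.zero, AdeqLib.tangentMap_zero, sub_zero, map_zero]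
    rw [he₁] at hwker
    obtain ⟨w', rfl⟩ := hwker
    refine ⟨v + AdeqLib.tangentApp B C.f S.X₁ w', ?_⟩
    rw [map_add, ← AdeqLib.tangentApp_natural, hw, add_sub_cancel]
  · rintro _ ⟨v, rfl⟩
    rw [AddMonoidHom.mem_ker, ← AdeqLib.tangentMap_comp, S.zero, AdeqLib.tangentMap_zero]

end Groth.Agent.S8782
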