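import Groth.Statements.S8783
import Groth.Agent.AdeqLib.Tangent
import Mathlib.Algebra.Category.ModuleCat.Abelian

set_option autoImplicit false
universe u
open CategoryTheory Limits
open AdeqTF

namespace Groth.Agent.S8783

/-- Let `F` be a module-valued functor on `A`-algebras with right exact tangent functors (for every
`A`-algebra `B` and short exact `0 → N₁ → N → N₂ → 0` of `B`-modules, `TF(B, N₁) → TF(B, N) → TF(B,
N₂) → 0` is exact). Then `TF(B, N₁ ⊕ N₂) = TF(B, N₁) ⊕ TF(B, N₂)`: the map from the product induced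
by the two inclusions is bijective. -/
theorem result (A : Type u) [CommRing A] (F : Adeq.MVF A)
    (hF : (∀ (B : Adeq.Alg A) (S : ShortComplex (ModuleCat.{u} B)), S.ShortExact →
        Function.Surjective (AdeqTF.tangentMap B F S.g) ∧
          (AdeqTF.tangentMap B F S.g).ker = (AdeqTF.tangentMap B F S.f).range))
    (B : Adeq.Alg A) (N₁ N₂ : ModuleCat.{u} B) :
    Function.Bijective ((AdeqTF.tangentMap B F (biprod.inl : N₁ ⟶ N₁ ⊞ N₂)).coprod
      (AdeqTF.tangentMap B F (biprod.inr : N₂ ⟶ N₁ ⊞ N₂))) := by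
  let S : ShortComplex (ModuleCat.{u} B) :=
    ShortComplex.mk (biprod.inl : N₁ ⟶ N₁ ⊞ N₂) biprod.snd biprod.inl_snd
  have hS : S.ShortExact :=
    ShortComplex.Splitting.shortExact
      { r := biprod.fst, s := biprod.inr, f_r := biprod.inl_fst, s_g := biprod.inr_snd,
        id := biprod.total }
  obtain ⟨-, hker⟩ := hF B S hS
  refine ⟨?_, fun z => ?_⟩
  · rw [injective_iff_map_eq_zero]
    rintro ⟨a, b⟩ hab
    rw [AddMonoidHom.coprod_apply] at hab
    have h1 := congrArg (AdeqTF.tangentMap B F (biprod.snd : N₁ ⊞ N₂ ⟶ N₂)) hab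
    rw [map_add, ← AdeqLib.tangentMap_comp, ← AdeqLib.tangentMap_comp, biprod.inl_snd,
      biprod.inr_snd, AdeqLib.tangentMap_zero, AdeqLib.tangentMap_id, zero_add, map_zero] at h1
    have h2 := congrArg (AdeqTF.tangentMap B F (biprod.fst : N₁ ⊞ N₂ ⟶ N₁)) hab
    rw [map_add, ← AdeqLib.tangentMap_comp, ← AdeqLib.tangentMap_comp, biprod.inl_fst,
      biprod.inr_fst, AdeqLib.tangentMap_zero, AdeqLib.tangentMap_id, add_zero, map_zero] at h2
    exact Prod.ext h2 h1
  · set b := AdeqTF.tangentMap B F (biprod.snd : N₁ ⊞ N₂ ⟶ N₂) z with hb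
    have hz : z - AdeqTF.tangentMap B F biprod.inr b ∈ (AdeqTF.tangentMap B F S.g).ker := by
      rw [AddMonoidHom.mem_ker, map_sub]
      rw [show AdeqTF.tangentMap B F S.g (AdeqTF.tangentMap B F biprod.inr b) = b by
        rw [← AdeqLib.tangentMap_comp, show biprod.inr ≫ S.g = 𝟙 N₂ from biprod.inr_snd,
          AdeqLib.tangentMap_id]]
      exact sub_self _
    rw [hker] at hz
    obtain ⟨a, ha⟩ := hz
    refine ⟨(a, b), ?_⟩
    rw [AddMonoidHom.coprod_apply]
    exact (congrArg (· + _) ha).trans (sub_add_cancel _ _)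

end Groth.Agent.S8783
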