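import Groth.Statements.S8794
import Groth.Agent.CAlgH3.DT.ComplKill
-- import your own Groth.Agent.* helpers here

set_option autoImplicit false
universe u
open CategoryTheory
attribute [local instance] HasDerivedCategory.standard
open LocCoh

namespace Groth.Agent.S8794

/-- Let (A, m) be a Noetherian local ring with a dualizing complex, I an ideal and d a natural with
cd(A, I) ≤ d, M a finite A-module, p a prime of A and s a natural with depth(M_p) + dim(A/p) > d +
s. Assume the total right derived functor RΓ_m and derived I-adic completion exist on D(A). Then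
there is f ∈ A with f ∉ p annihilating the cohomology modules H^i of the derived I-adic completion
of RΓ_m(M) for all i ≤ s. -/
theorem result (A : Type u) [CommRing A] [IsNoetherianRing A] [IsLocalRing A] (hdc : ∃ ω : Dual.D A, Dual.IsDualizing A ω) (I : Ideal A) [DRing.HasRgammaI (IsLocalRing.maximalIdeal A)] [DRing.HasDerivedCompletion I] (M : Type u) [AddCommGroup M] [Module A M] [Module.Finite A M] (p : PrimeSpectrum A) (s d : ℕ) (h2 : LocCoh.CdLE A I d) (h3 : (((d + s : ℕ) : ℕ∞) : WithBot ℕ∞) < ((LocCoh.depth (Localization.AtPrime p.asIdeal) (LocalizedModule p.asIdeal.primeCompl M) : ℕ∞) : WithBot ℕ∞) + ringKrullDim (A ⧸ p.asIdeal)) : ∃ f : A, f ∉ p.asIdeal ∧ ∀ i : ℤ, i ≤ s → ∀ x : Dual.HD A ((DRing.derivedCompletion I).obj ((DRing.RgammaI (IsLocalRing.maximalIdeal A)).obj (Dual.inD A M))).obj i, f • x = 0 := by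
  obtain ⟨ω, hω⟩ := hdc
  refine Groth.Agent.CAlgH3.DT.exists_kills_completion hω I (IsLocalRing.maximalIdeal A) M p s d h2
    fun x q hxp hxq hq => ?_
  let m : PrimeSpectrum A := IsLocalRing.closedPoint A
  have hle : ∀ y : PrimeSpectrum A, y ≤ m := fun y => IsLocalRing.le_maximalIdeal y.2.ne_top
  obtain rfl : q = m := le_antisymm (hle q) (le_sup_right.trans hq)
  have hdim : Order.krullDim (Set.Icc p m) = ringKrullDim (A ⧸ p.asIdeal) := by
    rw [ringKrullDim_quotient]
    exact Order.krullDim_eq_of_orderIso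
      ⟨⟨fun y => ⟨y.1, y.2.1⟩, fun y => ⟨y.1, y.2, hle _⟩, fun _ => rfl, fun _ => rfl⟩, Iff.rfl⟩
  refine (Groth.Agent.CAlgH3.DT.depth_condition_iff hω M (hle x) (d + s)).2 fun i hi j hj θ => ?_
  obtain ⟨t, ht, h0⟩ := (Groth.Agent.CAlgH3.DT.depth_condition_iff hω M (hle p) (d + s)).1
    (by rw [hdim]; exact_mod_cast h3) i hi j hj θ
  exact ⟨t, fun h => ht (hxp h), h0⟩


end Groth.Agent.S8794
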