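import Groth.Statements.S8795
import Groth.Agent.CAlgH3.DT.ComplBij
import Groth.Agent.CAlgH3.DT.KillClosed
-- import your own Groth.Agent.* helpers here

set_option autoImplicit false
set_option backward.isDefEq.respectTransparency false
set_option backward.isDefEq.respectTransparency.types false
set_option backward.defeqAttrib.useBackward true
set_option linter.style.haveILetI false
universe u
open CategoryTheory
attribute [local instance] HasDerivedCategory.standard
open LocCoh

namespace Groth.Agent.S8795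

/-- Let (A, m) be a Noetherian local ring which is I-adically complete for an ideal I and has a
dualizing complex; let d be a natural with cd(A, I) ≤ d, M a finite A-module and s a natural. Assume
that every prime p ∉ V(I) with V(p) ∩ V(I) ≠ {m} satisfies depth(M_p) ≥ s or depth(M_p) + dim(A/p) >
d + s, and that derived I-adic completion (left adjoint to the inclusion of derived complete
objects) exists on D(A). Then there is an ideal J₀ with V(J₀) ∩ V(I) = {m} such that for every ideal
J ⊆ J₀ with V(J) ∩ V(I) = {m} whose total right derived functor RΓ_J exists, the canonical map from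
RΓ_J(M) to its derived I-adic completion induces a bijection on cohomology in every degree i ≤ s.
(The identification of that completion with the completion of RΓ_m(M) is not part of this
statement.) -/
theorem result (A : Type u) [CommRing A] [IsNoetherianRing A] [IsLocalRing A] (I : Ideal A) [IsAdicComplete I A] (hdc : ∃ ω : Dual.D A, Dual.IsDualizing A ω) [DRing.HasDerivedCompletion I] (d : ℕ) (hcd : LocCoh.CdLE A I d) (M : Type u) [AddCommGroup M] [Module A M] [Module.Finite A M] (s : ℕ) (h4 : ∀ p : PrimeSpectrum A, ¬ I ≤ p.asIdeal → (∃ r : PrimeSpectrum A, p ≤ r ∧ I ≤ r.asIdeal ∧ r.asIdeal ≠ IsLocalRing.maximalIdeal A) → (s : ℕ∞) ≤ LocCoh.depth (Localization.AtPrime p.asIdeal) (LocalizedModule p.asIdeal.primeCompl M) ∨ (((d + s : ℕ) : ℕ∞) : WithBot ℕ∞) < ((LocCoh.depth (Localization.AtPrime p.asIdeal) (LocalizedModule p.asIdeal.primeCompl M) : ℕ∞) : WithBot ℕ∞) + ringKrullDim (A ⧸ p.asIdeal)) : ∃ J₀ : Ideal A, PrimeSpectrum.zeroLocus ((J₀ : Ideal A) : Set A) ∩ PrimeSpectrum.zeroLocus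 ((I : Ideal A) : Set A) = {IsLocalRing.closedPoint A} ∧ ∀ (J : Ideal A) [DRing.HasRgammaI J], J ≤ J₀ → PrimeSpectrum.zeroLocus ((J : Ideal A) : Set A) ∩ PrimeSpectrum.zeroLocus ((I : Ideal A) : Set A) = {IsLocalRing.closedPoint A} → ∀ i : ℤ, i ≤ s → Function.Bijective ((DerivedCategory.homologyFunctor (ModuleCat.{u} A) i).map (DRing.toDerivedCompletion I ((DRing.RgammaI J).obj (Dual.inD A M)))).hom := by
  obtain ⟨ω, hω⟩ := hdc
  have hI : I ≤ IsLocalRing.maximalIdeal A :=
    (IsAdicComplete.le_jacobson_bot I).trans (IsLocalRing.jacobson_eq_maximalIdeal ⊥ bot_ne_top).le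
  let mA := IsLocalRing.closedPoint A
  obtain ⟨J₀, hJm, hJ₀, hkill⟩ := Groth.Agent.CAlgH3.DT.exists_proZero_upTo (s := s) hω hI hcd M (by
    intro p hpI hT n hn
    simp only [Groth.Agent.CAlgH3.DT.IsTPoint, not_forall] at hT
    obtain ⟨r, hpr, hIr, hr⟩ := hT
    rcases h4 p hpI ⟨r, hpr, hIr, fun h => hr (PrimeSpectrum.ext h)⟩ with h | h
    · rw [hn] at h
      exact Or.inl (by exact_mod_cast h)
    · rw [hn, Groth.Agent.CAlgH3.DT.ringKrullDim_quotient_eq_deg hω p] at h
      exact Or.inr (by exact_mod_cast h))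
  refine ⟨J₀, Set.Subset.antisymm hJ₀ ?_, fun J _ hJ hJI i hi => ?_⟩
  · rintro p rfl
    exact ⟨hJm, hI⟩
  refine Groth.Agent.CAlgH3.DT.bijective_of_tors I J M s (fun q hq y => ?_) i hi
  -- the model at the closed point
  haveI := Groth.Agent.CAlgH3.RGam.hasRgammaI (A := A) (IsLocalRing.maximalIdeal A)
  haveI := Groth.Agent.CAlgH3.RGam.hasRgammaI (A := A) I
  haveI := Groth.Agent.CAlgH3.RGam.hasRgammaI (A := A) (J ⊔ I)
  haveI := Groth.Agent.CAlgH3.RGam.hasRgammaI (A := A) (IsLocalRing.maximalIdeal A ⊔ I)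
  have hrad : IsLocalRing.maximalIdeal A ≤ (J ⊔ I).radical := by
    rw [Ideal.radical_eq_sInf]
    refine le_sInf fun Q ⟨hQ, hQp⟩ => ?_
    have h := hJI.le (show (⟨Q, hQp⟩ : PrimeSpectrum A) ∈ _ ∩ _ from ⟨le_sup_left.trans hQ, le_sup_right.trans hQ⟩)
    exact (congrArg PrimeSpectrum.asIdeal h).ge
  have hJle : J ⊔ I ≤ IsLocalRing.maximalIdeal A := sup_le (hJ.trans hJm) hI
  open Groth.Agent.CAlgH3.RGam Groth.Agent.CAlgH3.RGam.CechF Groth.Agent.CAlgH3.RGam.Lam Groth.Agent.DCat.DC in
    obtain ⟨t, ht⟩ := exists_list (IsLocalRing.maximalIdeal A)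
    let MM := ModuleCat.of A M
    let ν := (SingleFunctors.evaluation _ _ 0).mapIso (DerivedCategory.singleFunctorsPostcompQIso (ModuleCat.{u} A))
    let νM : Dual.inD A M ≅ DerivedCategory.Q.obj (single0 MM) := ν.app MM
    have hM : FinAlg MM := finAlg_of_finite M
    obtain ⟨e, -⟩ := exists_compare (IsLocalRing.maximalIdeal A) ht MM
    let e' := e ≪≫ (DRing.RgammaI (IsLocalRing.maximalIdeal A)).mapIso νM.symm
    have hr : IsCompl I (e'.inv ≫ DerivedCategory.Q.map ((cN (ofN I) t).app MM)) :=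
      ⟨(isCompl_cN t MM hM).1, (cIso_of_isIso e'.inv).comp (isCompl_cN t MM hM).2⟩
    obtain ⟨w, -⟩ := (isCompl_toDerivedCompletion I
      ((DRing.RgammaI (IsLocalRing.maximalIdeal A)).obj (Dual.inD A M))).exists_iso hr
    obtain ⟨a₁⟩ := nonempty_completion_gamma I ((DRing.RgammaI J).obj (Dual.inD A M))
    obtain ⟨a₂⟩ := nonempty_comp (I := J) (J := I) (Dual.inD A M)
    obtain ⟨b₁⟩ := nonempty_completion_gamma I ((DRing.RgammaI (IsLocalRing.maximalIdeal A)).obj (Dual.inD A M))
    obtain ⟨b₂⟩ := nonempty_comp (I := IsLocalRing.maximalIdeal A) (J := I) (Dual.inD A M)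
    obtain ⟨r⟩ := Groth.Agent.CAlgH3.DT.nonempty_RgammaI_iso (K := J ⊔ I) (K' := IsLocalRing.maximalIdeal A ⊔ I)
      ((hJle.trans le_sup_left).trans Ideal.le_radical) (sup_le hrad (le_sup_right.trans Ideal.le_radical)) (Dual.inD A M)
    let Φ : ((DRing.derivedCompletion I).obj ((DRing.RgammaI J).obj (Dual.inD A M))).obj ≅
        DerivedCategory.Q.obj ((C t (Lam I)).obj MM) :=
      (ObjectProperty.ι _).mapIso (a₁.symm ≪≫ (DRing.derivedCompletion I).mapIso (a₂ ≪≫ r ≪≫ b₂.symm) ≪≫ b₁) ≪≫ w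
    let φ := ((DerivedCategory.homologyFunctor (ModuleCat.{u} A) q).mapIso Φ).toLinearEquiv.trans
      (hdQ ((C t (Lam I)).obj MM) q)
    have key : ∀ c ∈ J₀, ∃ K : ℕ, c ^ K • y = 0 := by
      intro c hc
      suffices h : ∃ K : ℕ, c ^ K • φ y = 0 by
        obtain ⟨K, hK⟩ := h
        exact ⟨K, φ.injective (by rw [map_smul, map_zero]; exact hK)⟩
      generalize φ y = z
      clear y φ
      by_cases h0 : q < 0
      · refine ⟨0, ?_⟩
        obtain ⟨a, rfl⟩ := cl_surjective _ q z
        rw [← map_smul]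
        exact (congrArg _ (Subtype.ext ((subsingleton_X (Lam I) t MM q h0).elim _ _))).trans (map_zero _)
      · lift q to ℕ using (not_lt.1 h0)
        obtain ⟨e, he⟩ := hkill c hc
        let W := ω⟦Groth.Agent.DualLib.deg hω mA⟧
        exact Groth.Agent.CAlgH3.DT.exists_pow_kills I t MM (Groth.Agent.DualLib.isDualizing_shift hω _)
          (Groth.Agent.CAlgH3.DT.isNormalized_shift hω) ht c (hJm hc) e q
          (fun i' hi' n => he i' (by omega) n) z
    choose! K hK using key
    obtain ⟨G, hG⟩ := IsNoetherian.noetherian J₀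
    have hle : J₀ ≤ Ideal.radical (LinearMap.ker (LinearMap.toSpanSingleton A _ y)) := hG ▸ Ideal.span_le.2 fun g hg =>
      ⟨K g, by
        show g ^ K g • y = 0
        exact hK g (hG ▸ Ideal.subset_span hg)⟩
    obtain ⟨N, hN⟩ := Ideal.exists_pow_le_of_le_radical_of_fg hle (IsNoetherian.noetherian _)
    exact ⟨N, fun a ha => hN (Ideal.pow_right_mono hJ N ha)⟩


end Groth.Agent.S8795
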