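import Groth.Statements.S8797
import Groth.Agent.CAlgH3.DT.CompletionDepth
import Groth.Agent.CommAlg6.SerreOpen
import Groth.Agent.S1775
-- import your own Groth.Agent.* helpers here

set_option autoImplicit false
universe u
open CategoryTheory
open Dual2

namespace Groth.Agent.S8797

/-- Let I ⊆ 𝔞 be ideals of a Noetherian ring A with a dualizing complex, d a natural with cd(A, I) ≤ d,
M a finite A-module and s a natural. Assume (c): for every prime p ∉ V(I) and every prime q ∈ V(p) ∩
V(𝔞), either depth(M_p) > s or depth(M_p) + dim((A/p)_q) > d + s. Then for every q ∈ V(𝔞), writing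
A', I', M' for the I-adic completions of A_q, IA_q, M_q, one has depth(M'_{p'}) > s for every prime
p' of A' not containing I' such that the only primes containing both p' and I' are maximal. (The
published statement concludes that all standing conditions of the setting hold; the others follow at
once from the hypotheses, and this row states only this depth condition on completions.) -/
theorem result (A : Type u) [CommRing A] [IsNoetherianRing A] (hdc : ∃ ω : Dual.D A, Dual.IsDualizing A ω) (I 𝔞 : Ideal A) (hI𝔞 : I ≤ 𝔞) (d : ℕ) (hcd : LocCoh.CdLE A I d) (M : Type u) [AddCommGroup M] [Module A M] [Module.Finite A M] (s : ℕ) (hc : ∀ p q : PrimeSpectrum A, p ≤ q → ¬ I ≤ p.asIdeal → 𝔞 ≤ q.asIdeal → (s : ℕ∞) < LocCoh.depth (Localization.AtPrime p.asIdeal) (LocalizedModule p.asIdeal.primeCompl M) ∨ (((d + s : ℕ) : ℕ∞) : WithBot ℕ∞) < ((LocCoh.depth (Localization.AtPrime p.asIdeal) (LocalizedModule p.asIdeal.primeCompl M) : ℕ∞) : WithBot ℕ∞) + Formal2.dimBetween A p.asIdeal q.asIdeal) (T : Set (PrimeSpectrum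 A)) (hT : T = PrimeSpectrum.zeroLocus ((𝔞 : Ideal A) : Set A)) : ∀ q : PrimeSpectrum A, q ∈ T → ∀ p' : PrimeSpectrum (AdicCompletion (I.map (algebraMap A (Localization.AtPrime q.asIdeal))) (Localization.AtPrime q.asIdeal)), ¬ (I.map (algebraMap A (AdicCompletion (I.map (algebraMap A (Localization.AtPrime q.asIdeal))) (Localization.AtPrime q.asIdeal)))) ≤ p'.asIdeal → (∀ q' : PrimeSpectrum (AdicCompletion (I.map (algebraMap A (Localization.AtPrime q.asIdeal))) (Localization.AtPrime q.asIdeal)), p' ≤ q' → (I.map (algebraMap A (AdicCompletion (I.map (algebraMap A (Localization.AtPrime q.asIdeal))) (Localization.AtPrime q.asIdeal)))) ≤ q'.asIdeal → q'.asIdeal.IsMaximal) → (s : ℕ∞) < LocCoh.depth (Localization.AtPrime p'.asIdeal) (LocalizedModule p'.asIdeal.primeCompl (AdicCompletion (I.map (algebraMap A (Localization.AtPrime q.asIdeal))) (LocalizedModule q.asIdeal.primeCompl M))) := by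
  subst hT
  intro q hq p' hp' hmax
  have hIq : I ≤ q.asIdeal := hI𝔞.trans hq
  obtain ⟨ω, hω⟩ := hdc
  let Aq := Localization.AtPrime q.asIdeal
  haveI : IsNoetherianRing Aq := IsLocalization.isNoetherianRing q.asIdeal.primeCompl _ inferInstance
  haveI : Module.Finite Aq (LocalizedModule q.asIdeal.primeCompl M) :=
    Module.Finite.of_isLocalizedModule q.asIdeal.primeCompl (LocalizedModule.mkLinearMap q.asIdeal.primeCompl M)
  let Iq : Ideal Aq := I.map (algebraMap A Aq)
  have hu : (IsLocalRing.maximalIdeal Aq).under A = q.asIdeal :=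
    IsLocalization.AtPrime.under_maximalIdeal Aq q.asIdeal
  have hIqm : Iq ≤ IsLocalRing.maximalIdeal Aq := Ideal.map_le_iff_le_comap.2 (hIq.trans hu.ge)
  have hIqt : Iq ≠ ⊤ := fun h => (IsLocalRing.maximalIdeal.isMaximal Aq).ne_top (top_le_iff.1 (h.ge.trans hIqm))
  let B := AdicCompletion Iq Aq
  have e : I.map (algebraMap A B) = Iq.map (algebraMap Aq B) := by
    rw [Ideal.map_map, ← IsScalarTower.algebraMap_eq]
  let P : Ideal Aq := p'.asIdeal.under Aq
  let p : PrimeSpectrum A := ⟨P.under A, inferInstance⟩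
  have hPm : P ≤ IsLocalRing.maximalIdeal Aq := IsLocalRing.le_maximalIdeal Ideal.IsPrime.ne_top'
  have hpq : p ≤ q := (Ideal.comap_mono hPm).trans hu.le
  have hIp : ¬ I ≤ p.asIdeal := fun h => hp' (e.le.trans (Ideal.map_le_iff_le_comap.2
    ((Ideal.map_le_iff_le_comap.2 h : Iq ≤ P))))
  have hloc := (Groth.Agent.CommAlg6.localized_localized q.asIdeal M P).2
  rcases hc p q hpq hIp hq with h | h
  · refine lt_of_lt_of_le (lt_of_lt_of_eq h hloc.symm) ?_
    exact Groth.Agent.CAlgH3.DT.le_depth_completion Iq (LocalizedModule q.asIdeal.primeCompl M) p'.asIdeal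
  haveI := Groth.Agent.Matlis6.isNoetherianRing_adicCompletion Iq
  obtain ⟨hlocB, hmB⟩ := Groth.Agent.CAlgH3.DT.isLocalRing_adicCompletion Iq hIqt
  haveI := hlocB
  haveI : DRing.HasLBaseChange (algebraMap A Aq) := Groth.Agent.DCat.hasLBaseChange _
  have hωq := Groth.Agent.S1775.result A q.asIdeal.primeCompl ω hω
  haveI : Nontrivial (B ⧸ p'.asIdeal) := Ideal.Quotient.nontrivial_iff.2 p'.2.ne_top
  haveI : IsLocalRing (B ⧸ p'.asIdeal) := .of_surjective' _ Ideal.Quotient.mk_surjective
  refine Groth.Agent.CAlgH3.DT.lt_depth_completion Iq hωq hIqt (LocalizedModule q.asIdeal.primeCompl M) p'.asIdeal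
    (Groth.Agent.CAlgH3.DT.ringKrullDim_le_of_cdLE I hcd (fun Q hQ => ?_) ?_) ?_
  · let Q' : PrimeSpectrum B := PrimeSpectrum.comap (Ideal.Quotient.mk p'.asIdeal) Q
    have hQ' : Q'.asIdeal.IsMaximal := hmax Q' (fun x hx => by
        show Ideal.Quotient.mk p'.asIdeal x ∈ Q.asIdeal
        rw [Ideal.Quotient.eq_zero_iff_mem.2 hx]; exact zero_mem _)
      (Ideal.map_le_iff_le_comap.2 fun x hx => hQ (Ideal.mem_map_of_mem _ hx))
    refine IsLocalRing.eq_maximalIdeal ?_
    haveI := hQ'
    rw [← Ideal.map_comap_of_surjective _ Ideal.Quotient.mk_surjective Q.asIdeal]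
    exact (Ideal.map_eq_top_or_isMaximal_of_surjective _ Ideal.Quotient.mk_surjective hQ').resolve_left
      (by
        show (Q.asIdeal.comap (Ideal.Quotient.mk p'.asIdeal)).map (Ideal.Quotient.mk p'.asIdeal) ≠ ⊤
        rw [Ideal.map_comap_of_surjective _ Ideal.Quotient.mk_surjective]; exact Q.2.ne_top)
  · refine IsLocalRing.le_maximalIdeal fun htop => ?_
    have h1 : (I.map (algebraMap A B)).map (Ideal.Quotient.mk p'.asIdeal) ≤
        (IsLocalRing.maximalIdeal B).map (Ideal.Quotient.mk p'.asIdeal) :=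
      Ideal.map_mono (e.le.trans ((Ideal.map_mono hIqm).trans hmB.ge))
    rw [Ideal.map_map] at h1
    have h2 : (⊤ : Ideal (B ⧸ p'.asIdeal)) ≤ (IsLocalRing.maximalIdeal B).map (Ideal.Quotient.mk p'.asIdeal) :=
      htop.ge.trans h1
    have h3 := congrArg (Ideal.comap (Ideal.Quotient.mk p'.asIdeal)) (top_le_iff.1 h2)
    rw [Ideal.comap_top, Ideal.comap_map_of_surjective _ Ideal.Quotient.mk_surjective, ← RingHom.ker_eq_comap_bot,
      Ideal.mk_ker, sup_eq_left.2 (IsLocalRing.le_maximalIdeal p'.2.ne_top)] at h3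
    exact (IsLocalRing.maximalIdeal.isMaximal B).ne_top h3
  · rw [hloc]
    have heq : (P.under A).map (algebraMap A Aq) = P := IsLocalization.map_under q.asIdeal.primeCompl Aq P
    have hdim : ringKrullDim (Aq ⧸ P) = Formal2.dimBetween A p.asIdeal q.asIdeal :=
      ringKrullDim_eq_of_ringEquiv (Ideal.quotEquivOfEq heq.symm)
    exact hdim.symm ▸ h


end Groth.Agent.S8797
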