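import Groth.Statements.S8801
import Groth.Agent.AdicRing.ComplBij
import Groth.Agent.HenselLib.Hfp
import Groth.Agent.S1994
import Groth.Agent.S1958
import Mathlib.RingTheory.Etale.Basic

set_option autoImplicit false
universe u
open AdicRing

namespace Groth.Agent.S8801

/-- Let A be a Noetherian ring and I an ideal. Let C be an A-algebra of finite type and Cʰ a
henselization of the pair (C, IC), viewed as an A-algebra through C, and let J be an ideal of Cʰ.
Then there is an A-algebra B of finite type whose IB-adic completion is isomorphic as an A-algebra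
to the I(Cʰ/J)-adic completion of Cʰ/J (existence of an isomorphism only; the published statement
names no particular map). -/
theorem result (A : Type u) [CommRing A] [IsNoetherianRing A] (I : Ideal A) (C : Type u) [CommRing C] [Algebra A C] [Algebra.FiniteType A C] (Ch : Type u) [CommRing Ch] [Algebra C Ch] [Algebra A Ch] [IsScalarTower A C Ch] (hCh : Hens2.IsPairHenselization C (I.map (algebraMap A C)) Ch) (J : Ideal Ch) : ∃ (B : Type u) (_ : CommRing B) (_ : Algebra A B), Algebra.FiniteType A B ∧ Nonempty (AdicCompletion (I.map (algebraMap A B)) B ≃ₐ[A] AdicCompletion (I.map (algebraMap A (Ch ⧸ J))) (Ch ⧸ J)) := by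
    classical
    have hB : Groth.Agent.HenselLib.IsPairHull C (I.map (algebraMap A C)) Ch := hCh
    have _ : IsNoetherianRing C := Algebra.FiniteType.isNoetherianRing A C
    obtain ⟨hN, -, -⟩ := Groth.Agent.S1994.result C (I.map (algebraMap A C)) Ch hCh
    obtain ⟨s, hs⟩ := IsNoetherian.noetherian J
    obtain ⟨R', _, _, _, ψ, hbij, hpre⟩ := Groth.Agent.HenselLib.Hfp.exists_nbhd_finset hB s
    choose x hx using hpre
    let J' : Ideal R' := Ideal.span (Set.range fun b : s => x b b.2)
    let _ : Algebra R' Ch := ψ.toRingHom.toAlgebra
    have _ : IsScalarTower C R' Ch := IsScalarTower.of_algebraMap_eq fun c => (ψ.commutes c).symm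
    let _ : Algebra A R' := ((algebraMap C R').comp (algebraMap A C)).toAlgebra
    have _ : IsScalarTower A C R' := IsScalarTower.of_algebraMap_eq fun _ => rfl
    have _ : IsScalarTower A R' Ch := IsScalarTower.of_algebraMap_eq fun a => by
      rw [IsScalarTower.algebraMap_apply A C Ch, IsScalarTower.algebraMap_apply A C R',
        ← IsScalarTower.algebraMap_apply C R' Ch]
    have hJ : J'.map (algebraMap R' Ch) = J := by
      rw [Ideal.map_span, ← Set.range_comp, ← hs, show ((algebraMap R' Ch) ∘ fun b : s => x b b.2) = (fun b : s => (b : Ch))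
        from funext fun b => hx b b.2,
        show (Set.range fun b : s => (b : Ch)) = (s : Set Ch) from Subtype.range_coe]
    subst hJ
    let B := R' ⧸ J'
    let H := Ch ⧸ J'.map (algebraMap R' Ch)
    have hR' := Groth.Agent.HenselLib.Hfp.of_nbhd hB hbij
    have hH := Groth.Agent.HenselLib.Hfp.quotient hR' J' fun r => Ideal.Quotient.algebraMap_quotient_map_quotient r
    have hftR' : Algebra.FiniteType A R' := Algebra.FiniteType.trans (R := A) (S := C) inferInstance inferInstance
    have _ : IsNoetherianRing R' := Algebra.FiniteType.isNoetherianRing A R'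
    have _ : IsScalarTower A B H := IsScalarTower.of_algebraMap_eq fun a => by
      change _ = algebraMap B H (Ideal.Quotient.mk _ (algebraMap A R' a))
      rw [Ideal.Quotient.algebraMap_quotient_map_quotient, ← IsScalarTower.algebraMap_apply]
      rfl
    let IB : Ideal B := I.map (algebraMap A B)
    have hIB : ((I.map (algebraMap A C)).map (algebraMap C R')).map (Ideal.Quotient.mk J') = IB := by
      rw [Ideal.map_map, Ideal.map_map]
      exact congrArg (fun θ => Ideal.map θ I) (RingHom.ext fun a => rfl)
    rw [hIB] at hH
    have hmap : IB.map (algebraMap B H) = I.map (algebraMap A H) := by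
      rw [Ideal.map_map, ← IsScalarTower.algebraMap_eq]
    obtain ⟨-, hlev⟩ := Groth.Agent.S1958.result B IB H hH
    have hb : Function.Bijective (FSch.complMap IB (I.map (algebraMap A H)) (algebraMap B H) hmap.le) := by
      refine Groth.Agent.AdicRing.bijective_complMap_of_levels _ _ _ _ fun n => ?_
      have key : ∀ (J₂ : Ideal H) (h : IB ^ n ≤ J₂.comap (algebraMap B H)),
          (IB ^ n).map (algebraMap B H) = J₂ → Function.Bijective (Ideal.quotientMap J₂ (algebraMap B H) h) := by
        rintro _ h rfl
        exact hlev n
      exact key _ _ (by rw [Ideal.map_pow, hmap])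
    refine ⟨B, inferInstance, inferInstance, inferInstance, ⟨AlgEquiv.ofRingEquiv
      (f := RingEquiv.ofBijective _ hb) fun a => ?_⟩⟩
    change FSch.complMap IB (I.map (algebraMap A H)) (algebraMap B H) hmap.le (algebraMap A _ a) = _
    rw [IsScalarTower.algebraMap_apply A B (AdicCompletion IB B), Groth.Agent.FSchLib.complMap_algebraMap,
      ← IsScalarTower.algebraMap_apply A B H, ← IsScalarTower.algebraMap_apply A H]

end Groth.Agent.S8801
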