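import Groth.Statements.S8804
import Groth.Agent.AdicRing.RigClosed
import Groth.Agent.S9604
import Mathlib.Tactic.TFAE

set_option autoImplicit false
universe u
open AdicRing

namespace Groth.Agent.S8804

/-- Let A be a Noetherian ring which is complete for the adic topology of an ideal I, and let q be a
prime ideal of A. The following are equivalent: (1) I ⊄ q and q is maximal among the primes not
containing I; (5) dim(A/q) = 1 and I ⊄ q; (8) A/q is a one-dimensional complete local ring whose
maximal ideal is the radical of the image of I (stated as: the Krull dimension of A/q is 1, every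
maximal ideal of A/q equals the radical of I(A/q), and A/q is adically complete for that radical).
(The other equivalent forms, for other ideals of definition or for the induced topology, are not
stated.) -/
theorem result (A : Type u) [CommRing A] [IsNoetherianRing A] (I : Ideal A) [IsAdicComplete I A] (q : PrimeSpectrum A) : List.TFAE [¬ I ≤ q.asIdeal ∧ ∀ q' : PrimeSpectrum A, q ≤ q' → ¬ I ≤ q'.asIdeal → q' = q, ringKrullDim (A ⧸ q.asIdeal) = 1 ∧ ¬ I ≤ q.asIdeal, ringKrullDim (A ⧸ q.asIdeal) = 1 ∧ (∀ m : Ideal (A ⧸ q.asIdeal), m.IsMaximal → m = (I.map (Ideal.Quotient.mk q.asIdeal)).radical) ∧ IsAdicComplete (I.map (Ideal.Quotient.mk q.asIdeal)).radical (A ⧸ q.asIdeal)] := by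
  let D := A ⧸ q.asIdeal
  let J : Ideal D := I.map (Ideal.Quotient.mk q.asIdeal)
  have hJbot : ∀ P : Ideal D, J ≤ P ↔ I ≤ P.comap (Ideal.Quotient.mk q.asIdeal) := fun P =>
    Ideal.map_le_iff_le_comap
  have hI : (J ≠ ⊥) ↔ ¬ I ≤ q.asIdeal := by
    rw [Ne, Ideal.map_eq_bot_iff_le_ker, Ideal.mk_ker]
  haveI : IsAdicComplete J D := by
    have := Groth.Agent.AdicRing.isAdicComplete_of_finite I D
    change IsAdicComplete (I.map (algebraMap A D)) D
    exact (IsAdicComplete.map_algebraMap_iff I D).2 this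
  have hjac : ∀ m : Ideal D, m.IsMaximal → J ≤ m := fun m hm =>
    (IsAdicComplete.le_jacobson_bot J).trans (sInf_le ⟨bot_le, hm⟩)
  tfae_have 1 → 3 := by
    rintro ⟨hq, hmax⟩
    obtain ⟨x, hxJ, hx0⟩ := Submodule.exists_mem_ne_zero_of_ne_bot (hI.2 hq)
    have hP : ∀ P : Ideal D, P.IsPrime → P ≠ ⊥ → J ≤ P := by
      intro P hP hne
      rw [hJbot]
      by_contra hc
      have hle : q ≤ ⟨P.comap (Ideal.Quotient.mk q.asIdeal), inferInstance⟩ := fun a ha => by
        change Ideal.Quotient.mk q.asIdeal a ∈ P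
        rw [Ideal.Quotient.eq_zero_iff_mem.2 ha]
        exact zero_mem P
      have : P.comap (Ideal.Quotient.mk q.asIdeal) = q.asIdeal := congrArg PrimeSpectrum.asIdeal (hmax _ hle hc)
      refine hne ?_
      rw [← Ideal.map_comap_of_surjective _ Ideal.Quotient.mk_surjective P, this]
      exact Ideal.map_quotient_self _
    have hmx : ∀ P : Ideal D, P ≠ ⊥ → P.IsPrime → P.IsMaximal := fun P hne hP' =>
      Groth.Agent.AdicRing.isMaximal_of_forall_mem hx0 (fun P h1 h2 => hP P h1 h2 hxJ) P hne
    obtain ⟨m, hm⟩ := Ideal.exists_maximal D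
    have hm0 : m ≠ ⊥ := fun e => hx0 (by simpa [e] using hjac m hm hxJ)
    have huniq : ∀ m' : Ideal D, m'.IsMaximal → m' = m := fun m' hm' =>
      Groth.Agent.AdicRing.eq_of_isMaximal J
        (fun P hP' hle => hmx P (fun e => hI.2 hq (le_bot_iff.1 (e ▸ hle))) hP') m' m hm' hm
    have hrad : J.radical = m := by
      refine le_antisymm (hm.isPrime.radical_le_iff.2 (hjac m hm)) ?_
      rw [Ideal.radical_eq_sInf]
      exact le_sInf fun P ⟨hJP, hP'⟩ =>
        (huniq P (hmx P (fun e => hI.2 hq (le_bot_iff.1 (e ▸ hJP))) hP')).ge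
    refine ⟨Groth.Agent.AdicRing.ringKrullDim_eq_one hmx ⟨m, hm.isPrime, hm0⟩,
      fun m' hm' => (huniq m' hm').trans hrad.symm, ?_⟩
    obtain ⟨N, hN⟩ := Ideal.exists_radical_pow_le_of_fg J (IsNoetherian.noetherian _)
    refine (Groth.Agent.S9604.result J J.radical 1 (N + 1) Nat.one_pos N.succ_pos
      (by rw [pow_one]; exact Ideal.le_radical)
      ((Ideal.pow_le_pow_right (Nat.le_succ N)).trans hN) D).1 inferInstance
  tfae_have 3 → 2 := by
    rintro ⟨hdim, hmax, -⟩
    refine ⟨hdim, fun hle => ?_⟩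
    have hJ0 : J = ⊥ := not_not.1 fun h => hI.1 h hle
    obtain ⟨m, hm⟩ := Ideal.exists_maximal D
    have := hmax m hm
    rw [show I.map (Ideal.Quotient.mk q.asIdeal) = ⊥ from hJ0,
      show (⊥ : Ideal D).radical = ⊥ from Ideal.isPrime_bot.radical] at this
    have hF : IsField D := by
      subst this
      exact ⟨exists_pair_ne D, mul_comm, fun {a} ha => by
        obtain ⟨b, hb⟩ := Ideal.mem_span_singleton'.1
          ((Ideal.eq_top_iff_one _).1 (hm.1.2 (Ideal.span {a})
            (bot_lt_iff_ne_bot.2 (by simpa using ha))))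
        exact ⟨b, by rw [mul_comm]; exact hb⟩⟩
    rw [ringKrullDim_eq_zero_of_isField hF] at hdim
    exact zero_ne_one hdim
  tfae_have 2 → 1 := by
    rintro ⟨hdim, hq⟩
    refine ⟨hq, fun y hqy hy => ?_⟩
    by_contra hne
    have hker : RingHom.ker (Ideal.Quotient.mk q.asIdeal) ≤ y.asIdeal := by rwa [Ideal.mk_ker]
    have hP := Ideal.map_isPrime_of_surjective (I := y.asIdeal) Ideal.Quotient.mk_surjective hker
    have hP0 : y.asIdeal.map (Ideal.Quotient.mk q.asIdeal) ≠ ⊥ := fun e => by
      rw [Ideal.map_eq_bot_iff_le_ker, Ideal.mk_ker] at e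
      exact hne (le_antisymm e hqy)
    have := (hJbot _).1 (hjac _ (Groth.Agent.AdicRing.isMaximal_of_ringKrullDim_eq_one hdim _ hP0 hP))
    rw [Ideal.comap_map_of_surjective _ Ideal.Quotient.mk_surjective, ← RingHom.ker_eq_comap_bot,
      sup_eq_left.2 hker] at this
    exact hy this
  tfae_finish

end Groth.Agent.S8804
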