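import Groth.Statements.S8805
import Groth.Agent.CAlgH.EtaleGlueMain
-- import your own Groth.Agent.* helpers here

set_option autoImplicit false
universe u
open AdicRing

namespace Groth.Agent.S8805

/-- Let A be a Noetherian ring, I ⊆ A an ideal and J ⊆ A a nilpotent ideal. Let C be a finite type
A-algebra whose structure morphism Spec C → Spec A becomes etale once restricted to the complement
of V(I), meaning that C_a is etale over A for each a ∈ I. Let B₀ be an (A/J)-algebra of finite type
such that Spec B₀ → Spec(A/J) is etale over the complement of V(I), together with an etale algebra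
map B₀ → C/JC over A inducing a bijection B₀/IB₀ → (C/JC)/I(C/JC). Then there exist an A-algebra B
of finite type, an etale algebra structure B → C over A and a surjection B → B₀ over A with kernel
JB, such that the composite B → B₀ → C/JC agrees with B → C → C/JC and Spec B → Spec A is etale over
the complement of V(I). -/
theorem result (A : Type u) [CommRing A] [IsNoetherianRing A] (I J : Ideal A) (hJ : IsNilpotent J) (C : Type u) [CommRing C] [Algebra A C] [Algebra.FiniteType A C] (hC : ∀ a ∈ I, Algebra.Etale A (Localization.Away (algebraMap A C a))) (B₀ : Type u) [CommRing B₀] [Algebra A B₀] [Algebra (A ⧸ J) B₀] [IsScalarTower A (A ⧸ J) B₀] [Algebra.FiniteType (A ⧸ J) B₀] (hB₀ : ∀ a ∈ I, Algebra.Etale (A ⧸ J) (Localization.Away (algebraMap A B₀ a))) [Algebra B₀ (C ⧸ J.map (algebraMap A C))] [IsScalarTower A B₀ (C ⧸ J.map (algebraMap A C))] [Algebra.Etale B₀ (C ⧸ J.map (algebraMap A C))] (h3 : (∀ c : (C ⧸ J.map (algebraMap A C)), ∃ b : B₀, algebraMap B₀ (C ⧸ J.map (algebraMap A C)) b - c ∈ I.map (algebraMap A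 (C ⧸ J.map (algebraMap A C)))) ∧ ∀ b : B₀, algebraMap B₀ (C ⧸ J.map (algebraMap A C)) b ∈ I.map (algebraMap A (C ⧸ J.map (algebraMap A C))) → b ∈ I.map (algebraMap A B₀)) : ∃ (B : Type u) (_ : CommRing B) (_ : Algebra A B) (_ : Algebra B C) (_ : IsScalarTower A B C) (_ : Algebra B B₀) (_ : IsScalarTower A B B₀), Algebra.FiniteType A B ∧ Algebra.Etale B C ∧ (∀ a ∈ I, Algebra.Etale A (Localization.Away (algebraMap A B a))) ∧ Function.Surjective (algebraMap B B₀) ∧ RingHom.ker (algebraMap B B₀) = J.map (algebraMap A B) ∧ ∀ b : B, algebraMap B₀ (C ⧸ J.map (algebraMap A C)) (algebraMap B B₀ b) = Ideal.Quotient.mk (J.map (algebraMap A C)) (algebraMap B C b) := by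
  obtain ⟨k, hk⟩ := hJ
  haveI : Algebra.FiniteType A (A ⧸ J) :=
    Algebra.FiniteType.of_surjective (Ideal.Quotient.mkₐ A J) Ideal.Quotient.mk_surjective
  haveI : Algebra.FiniteType A B₀ := Algebra.FiniteType.trans (S := A ⧸ J) inferInstance inferInstance
  obtain ⟨B, _, _, β, g, hft, hg, hB, hβs, hβk, hcomm⟩ :=
    _root_.Groth.Agent.CAlgH.EtaleGlue.main k (I := I) (J := J)
      (by rw [pow_succ, hk, zero_mul, Ideal.zero_eq_bot]) hC
      (Ideal.Quotient.mkₐ A (J.map (algebraMap A C))) Ideal.Quotient.mk_surjective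
      (fun c hc => Ideal.Quotient.eq_zero_iff_mem.mp hc)
      (fun j hj => by
        rw [IsScalarTower.algebraMap_apply A (A ⧸ J) B₀,
          show algebraMap A (A ⧸ J) j = 0 from Ideal.Quotient.eq_zero_iff_mem.mpr hj, map_zero])
      (fun a ha => ⟨algebraMap (A ⧸ J) _,
        RingHom.ext fun x => (IsScalarTower.algebraMap_apply A (A ⧸ J) _ x).symm,
        RingHom.etale_algebraMap.mpr (hB₀ a ha)⟩)
      h3.1 h3.2
  letI : Algebra B C := g.toRingHom.toAlgebra
  letI : Algebra B B₀ := β.toRingHom.toAlgebra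
  exact ⟨B, inferInstance, inferInstance, inferInstance,
    IsScalarTower.of_algebraMap_eq fun a => (g.commutes a).symm, inferInstance,
    IsScalarTower.of_algebraMap_eq fun a => (β.commutes a).symm,
    hft, hg, hB, hβs, hβk, hcomm⟩

end Groth.Agent.S8805
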