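import Groth.Statements.S8820
import Groth.Agent.AlgzDZLib.DeltaZ
import Groth.Agent.EGA43.DimFormula.Main
-- import your own Groth.Agent.* helpers here

set_option autoImplicit false
universe u
open CategoryTheory AlgebraicGeometry Limits
open Algz

namespace Groth.Agent.S8820

open Groth.Agent.EGA43.DimFormula Groth.Agent.AlgzDZLib

set_option backward.isDefEq.respectTransparency false

/-- Let Y be a universally catenary Noetherian scheme (every local ring universally catenary), Z ⊆ Y a
closed subset, f : Y' → Y a morphism of finite type from a Noetherian scheme all of whose fibres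
have dimension at most e, and Z' = f⁻¹(Z). Then for every point y' of Y' with image y, if the
residue field extension κ(y')/κ(y) has transcendence degree t, one has δ_Z(y) + t ≤ δ_{Z'}(y') + e
(equivalently δ_Z(y) ≤ δ_{Z'}(y') + e − t; written without subtraction). -/
theorem result (Y Y' : Scheme.{u}) [IsNoetherian Y] [IsNoetherian Y'] (hY : ∀ y : Y, CAlg.IsUniversallyCatenary (Y.presheaf.stalk y)) (Z : Set Y) (hZ : IsClosed Z) (f : Y' ⟶ Y) [LocallyOfFiniteType f] (e : ℕ) (hfib : ∀ y : Y, topologicalKrullDim ↑(pullback f (Y.fromSpecResidueField y)) ≤ (e : WithBot ℕ∞)) (y' : Y') (t : ℕ) (ht : @Algebra.trdeg (Y.residueField (f.base y')) (Y'.residueField y') _ _ (f.residueFieldMap y').hom.toAlgebra = t) : Algz.deltaZ Z (f.base y') + t ≤ Algz.deltaZ (f.base ⁻¹' Z) y' + e := by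
  have hcast : ∀ n : ℕ, ((n : ℕ∞) : WithBot ℕ∞) = (n : WithBot ℕ∞) := fun n => rfl
  have hτ : ∀ x : Y', trdAt f x ≤ e := fun x => by
    have h1 : ((fibDim f x + trdAt f x : ℕ) : WithBot ℕ∞) ≤ (e : WithBot ℕ∞) := by
      rw [← fibreDimAt_eq f x]
      refine le_trans ?_ (hfib (f.base x))
      exact (iInf_le (fun U : {U : TopologicalSpace.Opens (f.fiber (f.base x)) // f.asFiber x ∈ U} =>
        topologicalKrullDim (U.1 : Set (f.fiber (f.base x)))) ⟨⊤, trivial⟩).trans
        (topologicalKrullDim_subspace_le (f.fiber (f.base x)) _)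
    have h2 : fibDim f x + trdAt f x ≤ e := by exact_mod_cast h1
    omega
  have htt : trdAt f y' = t := by
    letI := (f.residueFieldMap y').hom.toAlgebra
    show Cardinal.toNat (Algebra.trdeg (Y.residueField (f.base y')) (Y'.residueField y')) = t
    rw [ht, Cardinal.toNat_natCast]
  by_cases htop : Algz.deltaZ (f.base ⁻¹' Z) y' = ⊤
  · rw [htop, top_add]; exact le_top
  obtain ⟨n, hn⟩ := ENat.ne_top_iff_exists.1 htop
  obtain ⟨k, Sy, hS⟩ := exists_system hn.symm
  let S : Algz.DSystem Z (f.base y') k :=
    { v := fun i => f.base (Sy.v i)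
      w := fun i => f.base (Sy.w i)
      spec := fun i => (Sy.spec i).map f.continuous
      spec_succ := fun i => (Sy.spec_succ i).map f.continuous
      start_mem := Sy.start_mem
      last_eq := congrArg f.base Sy.last_eq }
  let τv : Fin (k + 1) → ℕ := fun i => trdAt f (Sy.v i)
  let τw : Fin (k + 1) → ℕ := fun i => trdAt f (Sy.w i)
  have hc : ∀ i, cN Sy i + τv i = cN S i + τw i := fun i => eq_formula f (Sy.spec i) (hY _)
  have hb : ∀ i : Fin k, bN Sy i + τv i.succ = bN S i + τw i.castSucc := fun i => eq_formula f (Sy.spec_succ i) (hY _)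
  have hfold : fold k (cN S) (bN S) + t ≤ fold k (cN Sy) (bN Sy) + e := by
    have hte : t ≤ e := htt ▸ hτ y'
    rw [← sup_eq_fold, ← sup_eq_fold]
    obtain ⟨i, -, hi⟩ := Finset.exists_mem_eq_sup Finset.univ Finset.univ_nonempty (fun i : Fin (k + 1) =>
        (∑ j ∈ Finset.univ.filter (fun j : Fin (k + 1) => i.val ≤ j.val), cN S j) -
          ∑ j ∈ Finset.univ.filter (fun j : Fin k => i.val ≤ j.val), bN S j)
    rw [hi]
    have h1 := Finset.le_sup (f := fun i : Fin (k + 1) =>
        (∑ j ∈ Finset.univ.filter (fun j : Fin (k + 1) => i.val ≤ j.val), cN Sy j) -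
          ∑ j ∈ Finset.univ.filter (fun j : Fin k => i.val ≤ j.val), bN Sy j) (Finset.mem_univ i)
    have eA : (∑ j ∈ Finset.univ.filter (fun j : Fin (k + 1) => i.val ≤ j.val), cN Sy j) +
        (∑ j ∈ Finset.univ.filter (fun j : Fin (k + 1) => i.val ≤ j.val), τv j) =
        (∑ j ∈ Finset.univ.filter (fun j : Fin (k + 1) => i.val ≤ j.val), cN S j) +
        (∑ j ∈ Finset.univ.filter (fun j : Fin (k + 1) => i.val ≤ j.val), τw j) := by
      rw [← Finset.sum_add_distrib, ← Finset.sum_add_distrib]
      exact Finset.sum_congr rfl fun j _ => hc j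
    have eB : (∑ j ∈ Finset.univ.filter (fun j : Fin k => i.val ≤ j.val), bN Sy j) +
        (∑ j ∈ Finset.univ.filter (fun j : Fin k => i.val ≤ j.val), τv j.succ) =
        (∑ j ∈ Finset.univ.filter (fun j : Fin k => i.val ≤ j.val), bN S j) +
        (∑ j ∈ Finset.univ.filter (fun j : Fin k => i.val ≤ j.val), τw j.castSucc) := by
      rw [← Finset.sum_add_distrib, ← Finset.sum_add_distrib]
      exact Finset.sum_congr rfl fun j _ => hb j
    have eW : ∑ j ∈ Finset.univ.filter (fun j : Fin (k + 1) => i.val ≤ j.val), τw j =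
        (∑ j ∈ Finset.univ.filter (fun j : Fin k => i.val ≤ j.val), τw j.castSucc) + t := by
      rw [sum_filter_castSucc i.val τw (by omega)]
      congr 1
      show trdAt f (Sy.w (Fin.last k)) = t
      rw [Sy.last_eq, htt]
    have eV : ∑ j ∈ Finset.univ.filter (fun j : Fin (k + 1) => i.val ≤ j.val), τv j =
        τv i + ∑ j ∈ Finset.univ.filter (fun j : Fin k => i.val ≤ j.val), τv j.succ := by
      rw [← Finset.add_sum_erase _ _ (show i ∈ Finset.univ.filter (fun j : Fin (k + 1) => i.val ≤ j.val) by simp)]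
      congr 1
      refine (Finset.sum_bij (fun (j : Fin k) _ => j.succ) (fun j hj => ?_) (fun a _ b _ h => Fin.succ_injective k h)
        (fun j hj => ?_) (fun _ _ => rfl)).symm
      · simp only [Finset.mem_filter, Finset.mem_univ, true_and] at hj
        simp only [Finset.mem_erase, Finset.mem_filter, Finset.mem_univ, true_and, ne_eq, Fin.ext_iff, Fin.val_succ]
        omega
      · simp only [Finset.mem_erase, Finset.mem_filter, Finset.mem_univ, true_and, ne_eq, Fin.ext_iff] at hj
        have hj0 : j ≠ 0 := fun h => by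
          have := congrArg Fin.val h
          simp only [Fin.val_zero] at this
          omega
        obtain ⟨m, rfl⟩ : ∃ m : Fin k, m.succ = j := ⟨j.pred hj0, Fin.succ_pred _ _⟩
        simp only [Fin.val_succ] at hj
        exact ⟨m, by simp only [Finset.mem_filter, Finset.mem_univ, true_and]; omega, rfl⟩
    have hv : τv i ≤ e := hτ _
    omega
  rw [← hn]
  refine (add_le_add_left (deltaZ_le S) _).trans ?_
  rw [delta_eq]
  exact_mod_cast (by omega : k + fold k (cN S) (bN S) + t ≤ n + e)

end Groth.Agent.S8820
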