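import Groth.Statements.S8823
import Groth.Agent.CAlgH.ApproximationPair

set_option autoImplicit false
universe u
open AdicRing

namespace Groth.Agent.S8823

/-- Let A be a Noetherian G-ring and I an ideal of A. Let B and C be A-algebras of finite type, φ an
A-algebra map from the IB-adic completion of B to the IC-adic completion of C, and N ≥ 1. Then one
can find an etale C-algebra C' for which the induced map C/IC → C'/IC' is a bijection, together with
a homomorphism of A-algebras ψ : B → C' that approximates φ to order N: given any b ∈ B, some c ∈ C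
satisfies ψ(b) − c ∈ I^N C', while the image of φ(b) in C/I^N C (the N-th truncation of the
completion) coincides with the class of c. -/
theorem result (A : Type u) [CommRing A] (hA : CAlg.IsGRing A) (I : Ideal A) (B C : Type u) [CommRing B] [Algebra A B] [Algebra.FiniteType A B] [CommRing C] [Algebra A C] [Algebra.FiniteType A C] (φ : (AdicCompletion (I.map (algebraMap A B)) B) →ₐ[A] (AdicCompletion (I.map (algebraMap A C)) C)) (N : ℕ) (hN : 1 ≤ N) : ∃ (C' : Type u) (_ : CommRing C') (_ : Algebra C C') (_ : Algebra A C') (_ : IsScalarTower A C C') (_ : Algebra.Etale C C') (ψ : B →ₐ[A] C'), ((∀ c' : C', ∃ c : C, algebraMap C C' c - c' ∈ I.map (algebraMap A C')) ∧ ∀ c : C, algebraMap C C' c ∈ I.map (algebraMap A C') → c ∈ I.map (algebraMap A C)) ∧ ∀ b : B, ∃ c : C, ψ b - algebraMap C C' c ∈ (I.map (algebraMap A C')) ^ N ∧ AdicCompletion.eval (I.map (algebraMap A C)) C N (φ (AdicCompletion.of (I.map (algebraMap A B)) B b)) = Submodule.Quotient.mk c := by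

  obtain ⟨k, rfl⟩ : ∃ k, N = k + 1 := ⟨N - 1, by omega⟩
  let J := I.map (algebraMap A C)
  let φB : B →ₐ[A] AdicCompletion J C :=
    φ.comp (IsScalarTower.toAlgHom A B (AdicCompletion (I.map (algebraMap A B)) B))
  obtain ⟨C', _, _, _, _, hC', hb, ψ, hψ⟩ :=
    _root_.Groth.Agent.CAlgH.ApproximationPair.exists_etale_approx hA J φB k
  have hJ : I.map (algebraMap A C') = J.map (algebraMap C C') := by
    rw [IsScalarTower.algebraMap_eq A C C', ← Ideal.map_map]
  refine ⟨C', inferInstance, inferInstance, inferInstance, inferInstance, hC', ψ,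
    ⟨fun c' => ?_, fun c hc => ?_⟩, fun b => ?_⟩
  · obtain ⟨z, hz⟩ := hb.2 (Ideal.Quotient.mk _ c')
    obtain ⟨c, rfl⟩ := Ideal.Quotient.mk_surjective z
    rw [Ideal.quotientMap_mk] at hz
    exact ⟨c, hJ ▸ Ideal.Quotient.eq.1 hz⟩
  · refine Ideal.Quotient.eq_zero_iff_mem.1 (hb.1 ?_)
    rw [Ideal.quotientMap_mk, map_zero]
    exact Ideal.Quotient.eq_zero_iff_mem.2 (hJ ▸ hc)
  · obtain ⟨c, hc⟩ := Ideal.Quotient.mk_surjective
      (AdicCompletion.evalₐ J (k + 1) (φB b))
    refine ⟨c, ?_, ?_⟩
    · rw [hJ, ← Ideal.map_pow]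
      exact hψ b c hc.symm
    · rw [← AdicCompletion.factor_evalₐ_eq_eval (I := J) (x := φ (AdicCompletion.of (I.map (algebraMap A B)) B b))
        (show J ^ (k + 1) ≤ J ^ (k + 1) • ⊤ by simp),
        show AdicCompletion.evalₐ J (k + 1) (φ (AdicCompletion.of (I.map (algebraMap A B)) B b)) = _ from hc.symm]
      rfl

end Groth.Agent.S8823
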