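import Groth.Statements.S8825
import Groth.Agent.ValTate.Tame
import Groth.Agent.AdicRing.RigClosed
import Groth.Agent.AdicRing.ComplHom
import Groth.Agent.CommAlg6.CTensorBasic
import Groth.Agent.CAlgH.GRingFiniteType
import Groth.Agent.S0598
import Groth.Agent.S0599
import Groth.Agent.S0600
import Groth.Agent.S9294
import Groth.Agent.S19379
import Mathlib.RingTheory.Smooth.Basic

set_option autoImplicit false
universe u
open AdicRing

namespace Groth.Agent.S8825

/-- Let A be a Noetherian ring which is complete for the adic topology of an ideal I, let p be a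
rig-closed prime of A (I ⊄ p and p is maximal among the primes not containing I), and let n ≥ 1.
Then the ring map from A/p to the restricted power series ring (A/p){x_1, …, x_n}, i.e. the I-adic
completion of the polynomial ring (A/p)[x_1, …, x_n], is a regular ring map (flat, with Noetherian
and geometrically regular fibres). (The consequence for the fibre over the fraction field is not
stated.) -/
theorem result (A : Type u) [CommRing A] [IsNoetherianRing A] (I : Ideal A) [IsAdicComplete I A] (p : PrimeSpectrum A) (hp : ¬ I ≤ p.asIdeal ∧ ∀ q : PrimeSpectrum A, p ≤ q → ¬ I ≤ q.asIdeal → q = p) (n : ℕ) (hn : 1 ≤ n) : CAlg.IsRegularHom (A ⧸ p.asIdeal) (AdicCompletion (I.map (algebraMap A (MvPolynomial (Fin n) (A ⧸ p.asIdeal)))) (MvPolynomial (Fin n) (A ⧸ p.asIdeal))) := by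
    let D := A ⧸ p.asIdeal
    let J : Ideal D := I.map (algebraMap A D)
    have hcA : IsAdicComplete I D := (Groth.Agent.ValTate.tame_of_isNoetherian I).isAdicComplete
    have hc : IsAdicComplete J D := (IsAdicComplete.map_algebraMap_iff (S := D) I D).2 hcA
    obtain ⟨a, ha, hap⟩ := SetLike.not_le_iff_exists.1 hp.1
    have hx : algebraMap A D a ≠ 0 := fun h => hap (Ideal.Quotient.eq_zero_iff_mem.1 h)
    have hmem : ∀ P : Ideal D, P.IsPrime → P ≠ ⊥ → J ≤ P := fun P hP hne => by
      refine Ideal.map_le_iff_le_comap.2 ?_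
      by_contra hI
      have := hP.comap (algebraMap A D)
      let q : PrimeSpectrum A := ⟨P.comap (algebraMap A D), this⟩
      have hpq : p ≤ q := fun y hy => by
        change algebraMap A D y ∈ P
        rw [show algebraMap A D y = 0 from Ideal.Quotient.eq_zero_iff_mem.2 hy]
        exact zero_mem P
      have h2 : P.comap (algebraMap A D) = p.asIdeal := congrArg PrimeSpectrum.asIdeal (hp.2 q hpq hI)
      refine hne (eq_bot_iff.2 fun y hy => ?_)
      obtain ⟨y, rfl⟩ := Ideal.Quotient.mk_surjective y
      exact (Submodule.mem_bot D).2 (Ideal.Quotient.eq_zero_iff_mem.2 (h2 ▸ hy))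
    have hmax : ∀ P : Ideal D, P.IsPrime → J ≤ P → P.IsMaximal := fun P hP hJP =>
      Groth.Agent.AdicRing.isMaximal_of_forall_mem hx
        (fun Q hQ hne => hmem Q hQ hne (Ideal.mem_map_of_mem _ ha)) P
        (fun h => hx (by simpa [h] using hJP (Ideal.mem_map_of_mem _ ha)))
    have : IsLocalRing D := by
      obtain ⟨m, hm⟩ := Ideal.exists_maximal D
      exact IsLocalRing.of_unique_max_ideal ⟨m, hm, fun m' hm' =>
        Groth.Agent.AdicRing.eq_of_isMaximal J hmax m' m hm' hm⟩
    have hle : J ≤ IsLocalRing.maximalIdeal D := (IsAdicComplete.le_jacobson_bot J).trans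
      (IsLocalRing.jacobson_eq_maximalIdeal ⊥ bot_ne_top).le
    have hrad : IsLocalRing.maximalIdeal D ≤ J.radical := by
      rw [Ideal.radical_eq_sInf]
      exact le_sInf fun P ⟨hJP, hP⟩ => (IsLocalRing.eq_maximalIdeal (hmax P hP hJP)).ge
    obtain ⟨N, hN⟩ := Ideal.exists_pow_le_of_le_radical_of_fg hrad (IsNoetherian.noetherian _)
    have : IsAdicComplete (IsLocalRing.maximalIdeal D) D :=
      Groth.Agent.CommAlg6.isAdicComplete_congr J _ hle N hN
    let P := MvPolynomial (Fin n) D
    have hP : CAlg.IsGRing P := Groth.Agent.S0599.result D (Groth.Agent.S0598.result D) P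
    have : IsNoetherianRing (AdicCompletion (I.map (algebraMap A P)) P) :=
      Groth.Agent.AdicRing.isNoetherianRing_completion _ (IsNoetherian.noetherian _)
    exact Groth.Agent.S9294.result D P _ (Groth.Agent.S19379.result D P)
      (Groth.Agent.S0600.result P hP _) fun q _ => Groth.Agent.CAlgH.isNoetherianRing_fiber D _ q

end Groth.Agent.S8825
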