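import Groth.Statements.S8826
import Groth.Agent.CAlgH.AlgebraizeEtale

set_option autoImplicit false
universe u
open AdicRing
open scoped TensorProduct

namespace Groth.Agent.S8826

/-- Let A be a Noetherian ring and I an ideal. Let B be an A-algebra of finite type such that Spec B →
Spec A is etale over the complement of V(I) (B_a etale over A for every a ∈ I), let C be a
Noetherian A-algebra with a henselization Cʰ of the pair (C, IC), and let φ be an A-algebra map from
the IB-adic completion of B to the IC-adic completion of C. Then there is exactly one A-algebra map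
ψ : B → Cʰ which induces φ on completions, in the sense that for every n and every b ∈ B there is c
∈ C with ψ(b) − c ∈ I^n Cʰ and with the n-th truncation of φ(b) in C/I^n C equal to the class of c
(recall C/I^n C = Cʰ/I^n Cʰ). (The second assertion, that such maps factor through an etale
neighbourhood, is not stated.) -/
theorem result (A : Type u) [CommRing A] [IsNoetherianRing A] (I : Ideal A) (B : Type u) [CommRing B] [Algebra A B] [Algebra.FiniteType A B] (hB : ∀ a ∈ I, Algebra.Etale A (Localization.Away (algebraMap A B a))) (C : Type u) [CommRing C] [Algebra A C] [IsNoetherianRing C] (Ch : Type u) [CommRing Ch] [Algebra C Ch] [Algebra A Ch] [IsScalarTower A C Ch] (hCh : Hens2.IsPairHenselization C (I.map (algebraMap A C)) Ch) (φ : (AdicCompletion (I.map (algebraMap A B)) B) →ₐ[A] (AdicCompletion (I.map (algebraMap A C)) C)) : ∃! ψ : B →ₐ[A] Ch, ∀ (n : ℕ) (b : B), ∃ c : C, ψ b - algebraMap C Ch c ∈ (I.map (algebraMap A Ch)) ^ n ∧ AdicCompletion.eval (I.map (algebraMap A C)) C n (φ (AdicCompletion.of (I.map (algebraMap A B)) B b))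 = Submodule.Quotient.mk c := by
  classical
  let J : Ideal C := I.map (algebraMap A C)
  have hJH : I.map (algebraMap A Ch) = J.map (algebraMap C Ch) := by
    rw [IsScalarTower.algebraMap_eq A C Ch, ← Ideal.map_map]
  let B' := TensorProduct A C B
  have hB' : ∀ a ∈ algebraMap A C '' (I : Set A),
      Algebra.FormallyUnramified C (Localization.Away (algebraMap C B' a)) := by
    rintro _ ⟨a, ha, rfl⟩
    haveI := hB a ha
    let La := Localization.Away (algebraMap A B a)
    let L' := Localization.Away (algebraMap C B' (algebraMap A C a))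
    let i : B →ₐ[A] L' := ((IsScalarTower.toAlgHom A B' L').comp Algebra.TensorProduct.includeRight)
    have hu : IsUnit (i (algebraMap A B a)) := by
      rw [AlgHom.commutes, IsScalarTower.algebraMap_apply A B' L', IsScalarTower.algebraMap_apply A C B']
      exact IsLocalization.Away.algebraMap_isUnit _
    let g : TensorProduct A C La →ₐ[C] L' := Algebra.TensorProduct.lift (Algebra.ofId C L')
      (IsLocalization.Away.liftAlgHom (algebraMap A B a) hu) fun _ _ => Commute.all _ _
    let f : B' →ₐ[C] TensorProduct A C La :=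
      Algebra.TensorProduct.map (AlgHom.id C C) (IsScalarTower.toAlgHom A B La)
    have hgf : g.comp f = IsScalarTower.toAlgHom C B' L' := by
      refine Algebra.TensorProduct.ext' fun c b => ?_
      simp only [f, g, AlgHom.comp_apply, Algebra.TensorProduct.map_tmul, AlgHom.coe_id, id_eq,
        Algebra.TensorProduct.lift_tmul, Algebra.ofId_apply, IsScalarTower.coe_toAlgHom',
        IsLocalization.Away.liftAlgHom_apply, IsLocalization.Away.lift_eq]
      show algebraMap C L' c * algebraMap B' L' ((1 : C) ⊗ₜ[A] b) = algebraMap B' L' (c ⊗ₜ[A] b)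
      have hcb : (c ⊗ₜ[A] b : B') = algebraMap C B' c * ((1 : C) ⊗ₜ[A] b) := by simp [B']
      rw [hcb, map_mul, ← IsScalarTower.algebraMap_apply C B' L']
    refine Algebra.FormallyUnramified.of_surjective g fun z => ?_
    obtain ⟨n, x, hz⟩ := IsLocalization.Away.surj (algebraMap C B' (algebraMap A C a)) z
    refine ⟨f x * ((1 : C) ⊗ₜ[A] IsLocalization.Away.invSelf (algebraMap A B a)) ^ n, ?_⟩
    have hinv : algebraMap B' L' (algebraMap C B' (algebraMap A C a)) *
        g ((1 : C) ⊗ₜ[A] IsLocalization.Away.invSelf (algebraMap A B a)) = 1 := by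
      have h1 : f (algebraMap C B' (algebraMap A C a)) *
          ((1 : C) ⊗ₜ[A] IsLocalization.Away.invSelf (algebraMap A B a)) = 1 := by
        have h2 : algebraMap C B' (algebraMap A C a) = (1 : C) ⊗ₜ[A] algebraMap A B a := by
          rw [← IsScalarTower.algebraMap_apply A C B']
          exact ((Algebra.TensorProduct.includeRight (A := C) : B →ₐ[A] B').commutes a).symm
        rw [h2]
        show ((1 : C) ⊗ₜ[A] algebraMap B La (algebraMap A B a)) * _ = _
        rw [Algebra.TensorProduct.tmul_mul_tmul, one_mul, IsLocalization.Away.mul_invSelf]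
        rfl
      rw [← IsScalarTower.coe_toAlgHom' C B' L', ← hgf, AlgHom.comp_apply, ← map_mul, h1, map_one]
    rw [map_mul, map_pow, show g (f x) = algebraMap B' L' x from congr($hgf x), ← hz, mul_assoc,
      ← mul_pow, hinv, one_pow, mul_one]
  let φ' : B' →ₐ[C] AdicCompletion J C :=
    Algebra.TensorProduct.lift (Algebra.ofId C (AdicCompletion J C))
      (φ.comp (IsScalarTower.toAlgHom A B (AdicCompletion (I.map (algebraMap A B)) B)))
      fun _ _ => Commute.all _ _
  have hφ' : ∀ b : B, φ' ((1 : C) ⊗ₜ[A] b) =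
      φ (AdicCompletion.of (I.map (algebraMap A B)) B b) := fun b => by
    rw [Algebra.TensorProduct.lift_tmul, map_one, one_mul]
    rfl
  have heval : ∀ (n : ℕ) (x : AdicCompletion J C) (c : C),
      AdicCompletion.evalₐ J n x = Ideal.Quotient.mk (J ^ n) c ↔
        AdicCompletion.eval J C n x = Submodule.Quotient.mk c := fun n x c => by
    have hfac := AdicCompletion.factor_evalₐ_eq_eval (I := J) (x := x)
      (show J ^ n ≤ J ^ n • ⊤ by simp)
    constructor
    · intro h
      rw [← hfac, h]
      rfl
    · intro h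
      rw [← hfac] at h
      obtain ⟨y, hy⟩ := Ideal.Quotient.mk_surjective (AdicCompletion.evalₐ J n x)
      rw [← hy] at h ⊢
      have h' : y - c ∈ (J ^ n • ⊤ : Submodule C C) := (Submodule.Quotient.eq _).1 h
      rw [smul_eq_mul, Ideal.mul_top] at h'
      exact Ideal.Quotient.eq.2 h'
  obtain ⟨ψ, hψ, huniq⟩ := _root_.Groth.Agent.CAlgH.AlgebraizeEtale.existsUnique_lift J hCh
    (algebraMap A C '' (I : Set A)) rfl hB' φ'
  refine ⟨(ψ.restrictScalars A).comp Algebra.TensorProduct.includeRight, fun n b => ?_, fun ψ₀ hψ₀ => ?_⟩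
  · obtain ⟨c, hc, hc'⟩ := hψ n ((1 : C) ⊗ₜ[A] b)
    refine ⟨c, hJH ▸ hc, ?_⟩
    rw [hφ'] at hc'
    exact (heval n _ c).1 hc'
  · let ψ' : B' →ₐ[C] Ch :=
      Algebra.TensorProduct.lift (Algebra.ofId C Ch) ψ₀ fun _ _ => Commute.all _ _
    have h2 : ψ' = ψ := huniq ψ' fun n x => by
      induction x using TensorProduct.induction_on with
      | zero => exact ⟨0, by simp, by simp⟩
      | tmul c b =>
        obtain ⟨c', hc, hc'⟩ := hψ₀ n b
        refine ⟨c * c', ?_, ?_⟩
        · show ψ' (c ⊗ₜ[A] b) - _ ∈ _
          rw [Algebra.TensorProduct.lift_tmul, map_mul, Algebra.ofId_apply, ← mul_sub, ← hJH]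
          exact Ideal.mul_mem_left _ _ hc
        · show AdicCompletion.evalₐ J n (φ' (c ⊗ₜ[A] b)) = _
          rw [Algebra.TensorProduct.lift_tmul, Algebra.ofId_apply, map_mul, map_mul, AlgHom.commutes,
            show AdicCompletion.evalₐ J n ((φ.comp (IsScalarTower.toAlgHom A B (AdicCompletion (I.map (algebraMap A B)) B))) b) = Ideal.Quotient.mk (J ^ n) c' from (heval n _ c').2 hc']
          rfl
      | add x y hx hy =>
        obtain ⟨c₁, h₁, h₁'⟩ := hx
        obtain ⟨c₂, h₂, h₂'⟩ := hy
        refine ⟨c₁ + c₂, ?_, ?_⟩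
        · rw [map_add, map_add, add_sub_add_comm]
          exact add_mem h₁ h₂
        · rw [map_add, map_add, map_add, h₁', h₂']
    refine AlgHom.ext fun b => ?_
    show ψ₀ b = ψ ((1 : C) ⊗ₜ[A] b)
    rw [← h2, Algebra.TensorProduct.lift_tmul, map_one, one_mul]

end Groth.Agent.S8826
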