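import Groth.Statements.S8831
import Groth.Agent.CAlgH3.PuncturedArtinian
-- import your own Groth.Agent.* helpers here

set_option autoImplicit false
universe u
open CategoryTheory AlgebraicGeometry Opposite
open LocCoh

namespace Groth.Agent.S8831

/-- Let (A, m) be a Noetherian local ring and U = Spec A ∖ {m} the punctured spectrum. Suppose we are
given a system (F_n), indexed inversely by n, of coherent modules on U. In each positive degree i,
the cohomology groups H^i(U, F_n) then form a Mittag-Leffler system; concretely, given any n one can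
find r ≥ n such that for all s ≥ r the image of H^i(U, F_s) → H^i(U, F_n) equals the image of H^i(U,
F_r) → H^i(U, F_n). -/
theorem result (A : Type u) [CommRing A] [IsNoetherianRing A] [IsLocalRing A] (G : ℕᵒᵖ ⥤ (↑(LocCoh.puncturedOpen A (IsLocalRing.maximalIdeal A)) : Scheme.{u}).Modules) (hG : ∀ n : ℕᵒᵖ, Coh.IsCoh (G.obj n)) (i : ℕ) (hi : 0 < i) (n : ℕ) : ∃ (r : ℕ) (hnr : n ≤ r), ∀ (s : ℕ) (hrs : r ≤ s), Set.range (Sheaf.H.map ((SheafOfModules.toSheaf _).map (G.map (homOfLE (hnr.trans hrs : n ≤ s)).op)) i) = Set.range (Sheaf.H.map ((SheafOfModules.toSheaf _).map (G.map (homOfLE (hnr : n ≤ r)).op)) i) := by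
  let U : Scheme.{u} := ↑(LocCoh.puncturedOpen A (IsLocalRing.maximalIdeal A))
  obtain ⟨q, rfl⟩ := Nat.exists_eq_add_of_le' hi
  haveI : IsArtinian A (Coh.HH U (G.obj (op n)) (q + 1)) :=
    Groth.Agent.CAlgH3.PuncArt.isArtinian_HH (R := CommRingCat.of A) (IsLocalRing.maximalIdeal A)
      (fun j M _ _ _ => Groth.Agent.LocCoh.isArtinian_H_maximalIdeal j M) _ (hG _) q
  let L : ∀ s : ℕ, n ≤ s → (Coh.HH U (G.obj (op s)) (q + 1) →ₗ[A] Coh.HH U (G.obj (op n)) (q + 1)) := fun s hs =>
    { toFun := fun x => Sheaf.H.map ((SheafOfModules.toSheaf _).map (G.map (homOfLE hs).op)) (q + 1) x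
      map_add' := map_add _
      map_smul' := fun a x => by
        show Sheaf.H.map ((SheafOfModules.toSheaf _).map (G.map (homOfLE hs).op)) (q + 1)
            (Sheaf.H.map (Coh.smulAb (G.obj (op s)) (Coh.toGlobal (U ↘ Spec (CommRingCat.of A)) a)) (q + 1) x) =
          Sheaf.H.map (Coh.smulAb (G.obj (op n)) (Coh.toGlobal (U ↘ Spec (CommRingCat.of A)) a)) (q + 1)
            (Sheaf.H.map ((SheafOfModules.toSheaf _).map (G.map (homOfLE hs).op)) (q + 1) x)
        rw [← Sheaf.H.map_comp_apply, ← Sheaf.H.map_comp_apply]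
        congr 2
        ext V m
        exact ((G.map (homOfLE hs).op).val.app V).hom.map_smul _ m }
  have hmono : ∀ (s t : ℕ) (hs : n ≤ s) (hst : s ≤ t),
      LinearMap.range (L t (hs.trans hst)) ≤ LinearMap.range (L s hs) := by
    rintro s t hs hst _ ⟨x, rfl⟩
    refine ⟨Sheaf.H.map ((SheafOfModules.toSheaf _).map (G.map (homOfLE hst).op)) (q + 1) x, ?_⟩
    show Sheaf.H.map _ (q + 1) (Sheaf.H.map _ (q + 1) x) = Sheaf.H.map _ (q + 1) x
    rw [← Sheaf.H.map_comp_apply]
    congr 2
    refine ((SheafOfModules.toSheaf _).map_comp _ _).symm.trans (congrArg _ ?_)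
    exact (G.map_comp _ _).symm
  obtain ⟨k, hk⟩ := IsArtinian.monotone_stabilizes
    (⟨fun m => OrderDual.toDual (LinearMap.range (L (n + m) (Nat.le_add_right n m))),
      fun a b hab => hmono _ _ (Nat.le_add_right n a) (Nat.add_le_add_left hab n)⟩ :
      ℕ →o (Submodule A (Coh.HH U (G.obj (op n)) (q + 1)))ᵒᵈ)
  refine ⟨n + k, Nat.le_add_right n k, fun s hs => ?_⟩
  obtain ⟨m, rfl⟩ := Nat.exists_eq_add_of_le ((Nat.le_add_right n k).trans hs)
  have h0 : LinearMap.range (L (n + k) (Nat.le_add_right n k)) = LinearMap.range (L (n + m) (Nat.le_add_right n m)) :=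
    congrArg OrderDual.ofDual (hk m (Nat.le_of_add_le_add_left hs))
  have h1 := SetLike.ext'_iff.1 h0
  exact h1.symm

end Groth.Agent.S8831
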