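import Groth.Statements.S8832
import Groth.Agent.CAlgH3.PuncturedArtinian
-- import your own Groth.Agent.* helpers here

set_option autoImplicit false
universe u
open CategoryTheory AlgebraicGeometry
open LocCoh

namespace Groth.Agent.S8832

/-- Let (A, m) be a Noetherian local ring and U = Spec A ∖ {m} its punctured spectrum. Given a coherent
O_U-module F and an index i > 0, every descending chain of A-submodules of the cohomology H^i(U, F)
stabilizes, i.e. this A-module is Artinian. -/
theorem result (A : Type u) [CommRing A] [IsNoetherianRing A] [IsLocalRing A] (F : (↑(LocCoh.puncturedOpen A (IsLocalRing.maximalIdeal A)) : Scheme.{u}).Modules) (hF : Coh.IsCoh F) (i : ℕ) (hi : 0 < i) : IsArtinian A (Coh.HH (↑(LocCoh.puncturedOpen A (IsLocalRing.maximalIdeal A)) : Scheme.{u}) F i) := by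
  obtain ⟨q, rfl⟩ := Nat.exists_eq_add_of_le' hi
  exact Groth.Agent.CAlgH3.PuncArt.isArtinian_HH (R := CommRingCat.of A) (IsLocalRing.maximalIdeal A)
    (fun j M _ _ _ => Groth.Agent.LocCoh.isArtinian_H_maximalIdeal j M) F hF q

end Groth.Agent.S8832
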