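import Groth.Statements.S8834
import Groth.Agent.AdicRing.Noetherian
import Mathlib.RingTheory.FiniteType

set_option autoImplicit false
universe u
open AdicRing

namespace Groth.Agent.S8834

/-- Let A be a Noetherian ring complete for the adic topology of an ideal I and B a Noetherian ring
complete for the adic topology of an ideal J, with an algebra map A → B sending I into the radical
of J (a continuous homomorphism of adic Noetherian topological rings; the radicals of I and J are
the ideals of topologically nilpotent elements). Assume B/√J is of finite type over A, equivalently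
over A/√I. Then B is topologically of finite type over A: there are b_1, …, b_s ∈ B such that the
A-algebra map A[x_1, …, x_s] → B with x_i ↦ b_i has dense image for the J-adic topology, that is,
for every y ∈ B and every n there is a polynomial whose value at b differs from y by an element of
J^n. -/
theorem result (A : Type u) [CommRing A] [IsNoetherianRing A] (I : Ideal A) [IsAdicComplete I A] (B : Type u) [CommRing B] [Algebra A B] [IsNoetherianRing B] (J : Ideal B) [IsAdicComplete J B] (hIJ : I.map (algebraMap A B) ≤ J.radical) (hft : Algebra.FiniteType A (B ⧸ J.radical)) : ∃ s : ℕ, ∃ b : Fin s → B, ∀ (y : B) (n : ℕ), ∃ p : MvPolynomial (Fin s) A, y - MvPolynomial.aeval b p ∈ J ^ n := by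
  classical
  set R : Ideal B := J.radical with hR
  obtain ⟨N, hN⟩ := Ideal.exists_radical_pow_le_of_fg J (IsNoetherian.noetherian _)
  obtain ⟨G, hG⟩ : ∃ G : Finset B, Ideal.span (G : Set B) = R := IsNoetherian.noetherian R
  obtain ⟨T, hT⟩ := hft.out
  choose t ht using fun z : B ⧸ R => Ideal.Quotient.mk_surjective z
  set U : Finset B := G ∪ T.image t
  set S : Subalgebra A B := Algebra.adjoin A (U : Set B)
  set S' : Submodule A B := Subalgebra.toSubmodule S
  have hres : ∀ y : B, ∃ s ∈ S, y - s ∈ R := fun y => by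
    have h1 : Ideal.Quotient.mkₐ A R y ∈ Algebra.adjoin A (T : Set (B ⧸ R)) := hT ▸ trivial
    have h2 : Algebra.adjoin A (T : Set (B ⧸ R)) ≤ S.map (Ideal.Quotient.mkₐ A R) :=
      Algebra.adjoin_le fun z hz => ⟨t z, Algebra.subset_adjoin
        (Finset.mem_union_right _ (Finset.mem_image_of_mem _ hz)), ht z⟩
    obtain ⟨s, hs, hse⟩ := h2 h1
    exact ⟨s, hs, (Ideal.Quotient.eq).1 hse.symm⟩
  -- `R ^ m` is congruent to elements of `S` modulo `R ^ (m + 1)`
  have hgr : ∀ m : ℕ, ∀ x ∈ R ^ m, ∃ s ∈ S, s ∈ R ^ m ∧ x - s ∈ R ^ (m + 1) := by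
    intro m
    induction m with
    | zero =>
      intro x _
      obtain ⟨s, hs, hxs⟩ := hres x
      exact ⟨s, hs, by simp, by simpa using hxs⟩
    | succ m ih =>
      intro x hx
      rw [pow_succ] at hx
      refine Submodule.mul_induction_on hx (fun y hy z hz => ?_) (fun y z hy hz => ?_)
      · have hz' : ∃ s ∈ S, s ∈ R ∧ z - s ∈ R ^ 2 := by
          rw [← hG] at hz
          refine Submodule.span_induction (fun g hg => ⟨g, Algebra.subset_adjoin
            (Finset.mem_union_left _ hg), hG ▸ Ideal.subset_span hg, by simp⟩)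
            ⟨0, zero_mem S, zero_mem R, by simp⟩ ?_ ?_ hz
          · rintro p q - - ⟨s, hs, hsR, hp⟩ ⟨s', hs', hs'R, hq⟩
            exact ⟨s + s', add_mem hs hs', add_mem hsR hs'R, by
              rw [add_sub_add_comm]; exact add_mem hp hq⟩
          · rintro c q - ⟨s, hs, hsR, hq⟩
            obtain ⟨c', hc', hcc⟩ := hres c
            refine ⟨c' * s, mul_mem hc' hs, Ideal.mul_mem_left _ _ hsR, ?_⟩
            rw [smul_eq_mul, show c * q - c' * s = c * (q - s) + (c - c') * s by ring]
            exact add_mem (Ideal.mul_mem_left _ _ hq) (sq R ▸ Ideal.mul_mem_mul hcc hsR)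
        obtain ⟨s, hs, hsR, hys⟩ := ih y hy
        obtain ⟨s', hs', hs'R, hzs⟩ := hz'
        refine ⟨s * s', mul_mem hs hs', pow_succ R m ▸ Ideal.mul_mem_mul hsR hs'R, ?_⟩
        rw [show y * z - s * s' = (y - s) * z + s * (z - s') by ring]
        refine add_mem (pow_succ R (m + 1) ▸ Ideal.mul_mem_mul hys hz) ?_
        rw [show m + 1 + 1 = m + 2 from rfl, pow_add]
        exact Ideal.mul_mem_mul hsR hzs
      · obtain ⟨s, hs, hsR, hy⟩ := hy
        obtain ⟨s', hs', hs'R, hz⟩ := hz
        exact ⟨s + s', add_mem hs hs', add_mem hsR hs'R, by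
          rw [add_sub_add_comm]; exact add_mem hy hz⟩
  have happrox : ∀ (y : B) (m : ℕ), ∃ s ∈ S, y - s ∈ R ^ m := by
    intro y m
    induction m with
    | zero => exact ⟨0, zero_mem S, by simp⟩
    | succ m ih =>
      obtain ⟨s, hs, hys⟩ := ih
      obtain ⟨s', hs', -, h⟩ := hgr m _ hys
      exact ⟨s + s', add_mem hs hs', by rwa [← sub_sub]⟩
  let e := U.equivFin
  refine ⟨U.card, fun i => (e.symm i).1, fun y n => ?_⟩
  obtain ⟨s, hs, hys⟩ := happrox y (N * n)
  have hrange : Set.range (fun i => ((e.symm i).1 : B)) = (U : Set B) := by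
    ext x
    exact ⟨fun ⟨i, hi⟩ => hi ▸ (e.symm i).2, fun hx => ⟨e ⟨x, hx⟩, by simp⟩⟩
  rw [show S = _ from congrArg (Algebra.adjoin A) hrange.symm,
    Algebra.adjoin_range_eq_range_aeval] at hs
  obtain ⟨p, rfl⟩ := hs
  refine ⟨p, ?_⟩
  rw [pow_mul] at hys
  exact Ideal.pow_right_mono hN n hys

end Groth.Agent.S8834
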