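import Groth.Statements.S8836
import Groth.Agent.AdicRing.RigTFAE
import Mathlib.RingTheory.Ideal.GoingDown

set_option autoImplicit false
universe u
open AdicRing

namespace Groth.Agent.S8836

/-- Let A be a Noetherian ring complete for the adic topology of an ideal I, and B a Noetherian
A-algebra complete for the IB-adic topology, flat over A, with B/IB of finite type over A (a flat
adic morphism, topologically of finite type, of adic Noetherian topological rings). Let p be a prime
of A which is rig-closed (I ⊄ p and p maximal among the primes not containing I). The following are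
equivalent: (1) the maximal ideal of the local ring A/p lies in the image of Spec(B/√(IB)) →
Spec(A/√I), stated as: some prime Q of B containing IB lies over a maximal ideal of A containing p;
(2) there is a rig-closed prime q of B (IB ⊄ q, q maximal among the primes not containing IB) whose
inverse image in A is p. (The published statement adds that, when these hold, A/p ⊆ B/q is a finite
extension of rings and the residue field of the local ring B/q is finite over A/√I; this is not
restated here.) -/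
theorem result (A : Type u) [CommRing A] [IsNoetherianRing A] (I : Ideal A) [IsAdicComplete I A] (B : Type u) [CommRing B] [Algebra A B] [IsNoetherianRing B] [IsAdicComplete (I.map (algebraMap A B)) B] (hft : Algebra.FiniteType A (B ⧸ (I.map (algebraMap A B)))) [Module.Flat A B] (p : PrimeSpectrum A) (hp : (¬ I ≤ p.asIdeal ∧ ∀ y : PrimeSpectrum A, p ≤ y → ¬ I ≤ y.asIdeal → y = p)) : (∃ Q : PrimeSpectrum B, (I.map (algebraMap A B)) ≤ Q.asIdeal ∧ p.asIdeal ≤ (PrimeSpectrum.comap (algebraMap A B) Q).asIdeal ∧ (PrimeSpectrum.comap (algebraMap A B) Q).asIdeal.IsMaximal) ↔ (∃ q : PrimeSpectrum B, (¬ (I.map (algebraMap A B)) ≤ q.asIdeal ∧ ∀ y : PrimeSpectrum B, q ≤ y → ¬ (I.map (algebraMap A B)) ≤ y.asIdeal → y = q) ∧ PrimeSpectrum.comap (algebraMap A B) q = p) := by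
  constructor
  · rintro ⟨Q, hIQ, hpQ, hmax⟩
    haveI : Q.asIdeal.IsPrime := Q.isPrime
    haveI : (Q.asIdeal).LiesOver (PrimeSpectrum.comap (algebraMap A B) Q).asIdeal := ⟨rfl⟩
    obtain ⟨q0, -, hq0, hq0p⟩ := Q.asIdeal.exists_ideal_le_liesOver_of_le
      (p := p.asIdeal) (q := (PrimeSpectrum.comap (algebraMap A B) Q).asIdeal) hpQ
    have hq0I : ¬ I.map (algebraMap A B) ≤ q0 := fun h =>
      hp.1 ((Ideal.map_le_iff_le_comap.1 h).trans hq0p.over.ge)
    obtain ⟨q, ⟨hq0q, hqI⟩, hqmax⟩ := set_has_maximal_iff_noetherian.2 inferInstance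
      {a : Ideal B | (q0 ≤ a ∧ ¬ I.map (algebraMap A B) ≤ a) ∧ a.IsPrime} ⟨q0, ⟨le_rfl, hq0I⟩, hq0⟩ |> 
      fun ⟨a, ⟨ha, ha'⟩, hmax⟩ => (⟨⟨a, ha'⟩, ha, hmax⟩ : ∃ q : PrimeSpectrum B,
        (q0 ≤ q.asIdeal ∧ ¬ I.map (algebraMap A B) ≤ q.asIdeal) ∧ ∀ J ∈ {a : Ideal B | (q0 ≤ a ∧ ¬ I.map (algebraMap A B) ≤ a) ∧ a.IsPrime}, ¬ q.asIdeal < J)
    refine ⟨q, ⟨hqI, fun y hqy hy => ?_⟩, ?_⟩
    · by_contra hne
      exact hqmax y.asIdeal ⟨⟨hq0q.trans hqy, hy⟩, y.isPrime⟩
        (lt_of_le_of_ne hqy fun e => hne (PrimeSpectrum.ext e.symm))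
    · exact hp.2 _ (hq0p.over.le.trans (Ideal.comap_mono hq0q))
        fun h => hqI (Ideal.map_le_iff_le_comap.2 h)
  · rintro ⟨q, hq, rfl⟩
    obtain ⟨m, hm, hqm⟩ := Ideal.exists_le_maximal q.asIdeal q.isPrime.ne_top
    have hIm : I.map (algebraMap A B) ≤ m :=
      (IsAdicComplete.le_jacobson_bot _).trans (sInf_le ⟨bot_le, hm⟩)
    refine ⟨⟨m, hm.isPrime⟩, hIm, Ideal.comap_mono hqm, ?_⟩
    haveI := hm.isPrime
    exact Groth.Agent.AdicRing.isMaximal_of_rigClosed_le I _ hp _ (Ideal.comap_mono hqm)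
      (Ideal.map_le_iff_le_comap.1 hIm)

end Groth.Agent.S8836
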