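import Groth.Statements.S8838
import Groth.Agent.AdicRing.RigTFAE
import Mathlib.RingTheory.Unramified.LocalRing
import Mathlib.RingTheory.Unramified.Field
import Mathlib.RingTheory.Unramified.Finite
import Mathlib.RingTheory.Nakayama
import Mathlib.RingTheory.Kaehler.Basic
open scoped TensorProduct

set_option autoImplicit false
universe u
open AdicRing

namespace Groth.Agent.S8838

/-- Suppose A is a Noetherian ring that is I-adically complete for an ideal I, and B is a Noetherian
A-algebra that is complete with respect to the IB-adic topology, with B/IB of finite type over A (so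
A → B is an adic morphism of adic Noetherian topological rings that is topologically of finite
type). Assume further that A → B is flat and that the induced map A/I → B/IB is étale (with I as the
chosen ideal of definition). Consider a prime q of B that is rig-closed (q does not contain IB, and
q is maximal among primes of B not containing IB), and suppose its preimage p in A is rig-closed as
well (p does not contain I, and p is maximal among primes of A not containing I). Then the extension
of p to the localization B_q equals its maximal ideal, that is, p B_q = q B_q. -/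
theorem result (A : Type u) [CommRing A] [IsNoetherianRing A] (I : Ideal A) [IsAdicComplete I A] (B : Type u) [CommRing B] [Algebra A B] [IsNoetherianRing B] [IsAdicComplete (I.map (algebraMap A B)) B] (hft : Algebra.FiniteType A (B ⧸ (I.map (algebraMap A B)))) [Module.Flat A B] [Algebra.Etale (A ⧸ I) (B ⧸ (I.map (algebraMap A B)))] (q : PrimeSpectrum B) (hq : (¬ (I.map (algebraMap A B)) ≤ q.asIdeal ∧ ∀ y : PrimeSpectrum B, q ≤ y → ¬ (I.map (algebraMap A B)) ≤ y.asIdeal → y = q)) (hp : (¬ I ≤ (PrimeSpectrum.comap (algebraMap A B) q).asIdeal ∧ ∀ y : PrimeSpectrum A, (PrimeSpectrum.comap (algebraMap A B) q) ≤ y → ¬ I ≤ y.asIdeal → y = (PrimeSpectrum.comap (algebraMap A B) q))) : ((PrimeSpectrum.comap (algebraMap A B) q).asIdeal.map (algebraMap A B)).map (algebraMap B (Localization.AtPrime q.asIdeal)) = IsLocalRing.maximalIdeal (Localization.AtPrime q.asIdeal) := by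
  classical
  let pp := PrimeSpectrum.comap (algebraMap A B) q
  let p : Ideal A := pp.asIdeal
  let Ā := A ⧸ p
  let pB : Ideal B := p.map (algebraMap A B)
  let B₀ := B ⧸ pB
  haveI : IsDomain Ā := Ideal.Quotient.isDomain p
  obtain ⟨-, hmax, hcm⟩ := ((Groth.Agent.S8804.result A I pp).out 0 2).1 hp
  obtain ⟨m, hm⟩ := Ideal.exists_maximal Ā
  haveI := hm
  have hmrad := hmax m hm
  let mA : Ideal A := m.comap (Ideal.Quotient.mk p)
  haveI hmA : mA.IsMaximal := Ideal.comap_isMaximal_of_surjective (H := hm) _ Ideal.Quotient.mk_surjective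
  have hImA : I ≤ mA := Ideal.map_le_iff_le_comap.1 (hmrad ▸ Ideal.le_radical)
  have hpmA : p ≤ mA := fun a ha => by
    change Ideal.Quotient.mk p a ∈ m
    rw [Ideal.Quotient.eq_zero_iff_mem.2 ha]
    exact zero_mem m
  haveI : IsPrecomplete m Ā := hmrad ▸ hcm.toIsPrecomplete
  let M : Ideal B₀ := m.map (algebraMap Ā B₀)
  have hM : (mA.map (algebraMap A B)).map (Ideal.Quotient.mk pB) = M := by
    change _ = m.map (algebraMap Ā B₀)
    rw [← Ideal.map_comap_of_surjective _ Ideal.Quotient.mk_surjective m, Ideal.map_map, Ideal.map_map]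
    rfl
  have hIB : I.map (algebraMap A B) ≤ Ideal.jacobson ⊥ := IsAdicComplete.le_jacobson_bot _
  have hjac : M ≤ Ideal.jacobson ⊥ := by
    refine le_sInf fun n hn => ?_
    obtain ⟨-, hn⟩ := hn
    haveI := hn
    have hnB : (n.comap (Ideal.Quotient.mk pB)).IsMaximal :=
      Ideal.comap_isMaximal_of_surjective _ Ideal.Quotient.mk_surjective
    refine Ideal.map_le_iff_le_comap.2 (hmrad.trans_le ?_)
    refine (hn.isPrime.comap (algebraMap Ā B₀)).radical_le_iff.2
      (Ideal.map_le_iff_le_comap.2 fun a ha => ?_)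
    have := hIB (Ideal.mem_map_of_mem _ ha)
    exact ((Submodule.mem_sInf.1 this) _ ⟨bot_le, hnB⟩ :)
  haveI hFT : Algebra.FiniteType A (B ⧸ I.map (algebraMap A B)) := hft
  haveI : Algebra.FormallyUnramified A (A ⧸ I) := inferInstance
  haveI : Algebra.FormallyUnramified A (B ⧸ I.map (algebraMap A B)) :=
    Algebra.FormallyUnramified.comp A (A ⧸ I) _
  have hle : I.map (algebraMap A B) ≤ mA.map (algebraMap A B) := Ideal.map_mono hImA
  haveI : Algebra.FiniteType A (B ⧸ mA.map (algebraMap A B)) :=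
    hFT.of_surjective (Ideal.Quotient.factorₐ A hle) (Ideal.Quotient.factor_surjective hle)
  haveI : Algebra.FormallyUnramified A (B ⧸ mA.map (algebraMap A B)) :=
    Algebra.FormallyUnramified.of_surjective (Ideal.Quotient.factorₐ A hle)
      (Ideal.Quotient.factor_surjective hle)
  haveI : Algebra.FormallyUnramified (A ⧸ mA) (B ⧸ mA.map (algebraMap A B)) :=
    Algebra.FormallyUnramified.of_restrictScalars A _ _
  haveI : Algebra.FiniteType (A ⧸ mA) (B ⧸ mA.map (algebraMap A B)) :=
    Algebra.FiniteType.of_restrictScalars_finiteType A (A ⧸ mA) _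
  letI := Ideal.Quotient.field mA
  haveI : Module.Finite (A ⧸ mA) (B ⧸ mA.map (algebraMap A B)) :=
    Algebra.FormallyUnramified.finite_of_free _ _
  haveI : Module.Finite A (B ⧸ mA.map (algebraMap A B)) := Module.Finite.trans (A ⧸ mA) _
  have hfac : mA.map (algebraMap A B) ≤ M.comap (Ideal.Quotient.mk pB) :=
    Ideal.map_le_iff_le_comap.1 hM.le
  let φ : (B ⧸ mA.map (algebraMap A B)) →ₐ[A] B₀ ⧸ M :=
    Ideal.quotientMapₐ M (Ideal.Quotient.mkₐ A pB) hfac
  have hφ : Function.Surjective φ := fun y => by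
    obtain ⟨d, rfl⟩ := Ideal.Quotient.mk_surjective y
    obtain ⟨b, rfl⟩ := Ideal.Quotient.mk_surjective d
    exact ⟨Ideal.Quotient.mk _ b, rfl⟩
  haveI : Module.Finite A (B₀ ⧸ M) := Module.Finite.of_surjective φ.toLinearMap hφ
  haveI : Algebra.FormallyUnramified A (B₀ ⧸ M) := Algebra.FormallyUnramified.of_surjective φ hφ
  haveI : Algebra.FormallyUnramified Ā (B₀ ⧸ M) :=
    Algebra.FormallyUnramified.of_restrictScalars A Ā _
  haveI : Module.Finite Ā (B₀ ⧸ M) := Module.Finite.of_restrictScalars_finite A Ā _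
  haveI : IsHausdorff m B₀ := by
    have h1 : IsHausdorff M B₀ := IsHausdorff.of_le_jacobson (I := M) (M := B₀) hjac
    exact (IsHausdorff.map_algebraMap_iff (I := m) (M := B₀)).1 h1
  haveI hfin : Module.Finite Ā B₀ := by
    refine Groth.Agent.AdicRing.finite_of_finite_quotient m B₀ ?_
    exact Module.Finite.equiv (((Submodule.quotEquivOfEq _ _ (Ideal.smul_top_eq_map m)).trans
      (Submodule.Quotient.restrictScalarsEquiv Ā M)).symm)
  haveI : Algebra.FiniteType Ā B₀ := Module.Finite.finiteType B₀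
  haveI hunr : Algebra.FormallyUnramified Ā B₀ := by
    refine ⟨?_⟩
    have h1 : ∀ x : (B₀ ⧸ M) ⊗[B₀] Ω[B₀⁄Ā], x = 0 := by
      intro x
      obtain ⟨y, rfl⟩ := (KaehlerDifferential.exact_kerCotangentToTensor_mapBaseChange Ā B₀
        (B₀ ⧸ M) Ideal.Quotient.mk_surjective x).mp (Subsingleton.elim _ _)
      obtain ⟨⟨z, hz⟩, rfl⟩ := Ideal.toCotangent_surjective _ y
      rw [KaehlerDifferential.kerCotangentToTensor_toCotangent]
      have hz' : z ∈ M := Ideal.Quotient.eq_zero_iff_mem.1 hz
      change (1 : B₀ ⧸ M) ⊗ₜ[B₀] KaehlerDifferential.D Ā B₀ z = 0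
      clear hz
      induction hz' using Submodule.span_induction with
      | zero => simp
      | mem z h => obtain ⟨c, hc, rfl⟩ := h; simp
      | add z w hz hw h1 h2 => simp [TensorProduct.tmul_add, h1, h2]
      | smul a z hz h1 =>
        have hz0 : Ideal.Quotient.mk M z = 0 := Ideal.Quotient.eq_zero_iff_mem.2 hz
        rw [smul_eq_mul, Derivation.leibniz, TensorProduct.tmul_add, TensorProduct.tmul_smul, h1,
          smul_zero, zero_add, TensorProduct.tmul_smul, TensorProduct.smul_tmul',
          show z • (1 : B₀ ⧸ M) = 0 from ((Algebra.smul_def (A := B₀ ⧸ M) z 1).trans (mul_one _)).trans hz0,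
          TensorProduct.zero_tmul]
    have h2 : (⊤ : Submodule B₀ Ω[B₀⁄Ā]) ≤ M • ⊤ := fun w _ => by
      have h3 := congrArg (TensorProduct.quotTensorEquivQuotSMul Ω[B₀⁄Ā] M) (h1 (1 ⊗ₜ w))
      rw [map_zero, show (1 : B₀ ⧸ M) = Ideal.Quotient.mk M 1 from rfl,
        TensorProduct.quotTensorEquivQuotSMul_mk_tmul, one_smul] at h3
      exact (Submodule.Quotient.mk_eq_zero _).1 h3
    have h3 := Submodule.eq_bot_of_le_smul_of_le_jacobson_bot M (⊤ : Submodule B₀ Ω[B₀⁄Ā])
      (Module.finite_def.1 inferInstance) h2 hjac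
    exact ⟨fun a b => (Submodule.mem_bot (R := B₀)).1 (h3 ▸ trivial : a ∈ (⊥ : Submodule B₀ _)) |>.trans
      ((Submodule.mem_bot (R := B₀)).1 (h3 ▸ trivial : b ∈ (⊥ : Submodule B₀ _))).symm⟩
  have hker : RingHom.ker (Ideal.Quotient.mk pB) ≤ q.asIdeal := by
    rw [Ideal.mk_ker]
    exact Ideal.map_comap_le
  let q₀ : Ideal B₀ := q.asIdeal.map (Ideal.Quotient.mk pB)
  haveI : q₀.IsPrime := Ideal.map_isPrime_of_surjective Ideal.Quotient.mk_surjective hker
  have hq₀ : q₀.comap (Ideal.Quotient.mk pB) = q.asIdeal := by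
    rw [Ideal.comap_map_of_surjective _ Ideal.Quotient.mk_surjective, ← RingHom.ker_eq_comap_bot,
      sup_eq_left.2 hker]
  haveI : q₀.LiesOver (⊥ : Ideal Ā) := ⟨by
    refine ((eq_bot_iff).2 fun a ha => ?_).symm
    obtain ⟨a, rfl⟩ := Ideal.Quotient.mk_surjective a
    rw [Ideal.mem_bot, Ideal.Quotient.eq_zero_iff_mem]
    change algebraMap A B a ∈ q.asIdeal
    rw [← hq₀]
    exact ha⟩
  letI : Algebra (Localization.AtPrime (⊥ : Ideal Ā)) (Localization.AtPrime q₀) :=
    Localization.AtPrime.algebraOfLiesOver (⊥ : Ideal Ā) q₀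
  have hmap := ((Algebra.isUnramifiedAt_iff_map_eq Ā (⊥ : Ideal Ā) q₀).1 inferInstance).2
  rw [Ideal.map_bot] at hmap
  refine le_antisymm ?_ ?_
  · rw [← Localization.AtPrime.map_eq_maximalIdeal]
    exact Ideal.map_mono Ideal.map_comap_le
  · rw [← Localization.AtPrime.map_eq_maximalIdeal, Ideal.map_le_iff_le_comap]
    intro x hx
    have h1 : algebraMap B₀ (Localization.AtPrime q₀) (Ideal.Quotient.mk pB x) = 0 := by
      rw [← Ideal.mem_bot, hmap, ← Localization.AtPrime.map_eq_maximalIdeal]
      exact Ideal.mem_map_of_mem _ (Ideal.mem_map_of_mem _ hx)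
    obtain ⟨⟨s, hs⟩, hsx⟩ := (IsLocalization.map_eq_zero_iff q₀.primeCompl _ _).1 h1
    obtain ⟨s, rfl⟩ := Ideal.Quotient.mk_surjective s
    change Ideal.Quotient.mk pB s * Ideal.Quotient.mk pB x = 0 at hsx
    rw [← map_mul, Ideal.Quotient.eq_zero_iff_mem] at hsx
    have hsu : IsUnit (algebraMap B (Localization.AtPrime q.asIdeal) s) :=
      IsLocalization.map_units _ (⟨s, fun h => hs (Ideal.mem_map_of_mem _ h)⟩ : q.asIdeal.primeCompl)
    have h2 := Ideal.mem_map_of_mem (algebraMap B (Localization.AtPrime q.asIdeal)) hsx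
    rw [map_mul] at h2
    exact (Ideal.unit_mul_mem_iff_mem _ hsu).1 h2

end Groth.Agent.S8838
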