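import Groth.Statements.S8839
import Groth.Agent.AdicRing.RigTFAE
import Groth.Agent.AdicRing.CompQuot

set_option autoImplicit false
universe u
open AdicRing

namespace Groth.Agent.S8839

/-- Let A be a Noetherian ring complete for the adic topology of an ideal I, n a natural number, and
A{x_1, …, x_n} the restricted power series ring, i.e. the I-adic completion of the polynomial ring
A[x_1, …, x_n]. Let q be a prime ideal of A{x_1, …, x_n}, q' its inverse image in A[x_1, …, x_n] and
p its inverse image in A. Assume q is rig-closed (the extension of I is not contained in q and q is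
maximal among such primes) and p is rig-closed in A (I ⊄ p, p maximal among the primes not
containing I). Then the local homomorphism A[x_1, …, x_n]_{q'} → A{x_1, …, x_n}_q induces an
isomorphism on completions with respect to the maximal ideals; stated as: for every m ≥ 1 the
induced map on quotients by the m-th powers of the maximal ideals is injective and surjective. -/
theorem result (A : Type u) [CommRing A] [IsNoetherianRing A] (I : Ideal A) [IsAdicComplete I A] (n : ℕ) (q : PrimeSpectrum (AdicCompletion (I.map (algebraMap A (MvPolynomial (Fin n) A))) (MvPolynomial (Fin n) A))) (hq : (¬ (I.map (algebraMap A (AdicCompletion (I.map (algebraMap A (MvPolynomial (Fin n) A))) (MvPolynomial (Fin n) A)))) ≤ q.asIdeal ∧ ∀ y : PrimeSpectrum (AdicCompletion (I.map (algebraMap A (MvPolynomial (Fin n) A))) (MvPolynomial (Fin n) A)), q ≤ y → ¬ (I.map (algebraMap A (AdicCompletion (I.map (algebraMap A (MvPolynomial (Fin n) A))) (MvPolynomial (Fin n) A)))) ≤ y.asIdeal → y = q)) (hp : (¬ I ≤ (PrimeSpectrum.comap (algebraMap A (AdicCompletion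 (I.map (algebraMap A (MvPolynomial (Fin n) A))) (MvPolynomial (Fin n) A))) q).asIdeal ∧ ∀ y : PrimeSpectrum A, (PrimeSpectrum.comap (algebraMap A (AdicCompletion (I.map (algebraMap A (MvPolynomial (Fin n) A))) (MvPolynomial (Fin n) A))) q) ≤ y → ¬ I ≤ y.asIdeal → y = (PrimeSpectrum.comap (algebraMap A (AdicCompletion (I.map (algebraMap A (MvPolynomial (Fin n) A))) (MvPolynomial (Fin n) A))) q))) (m : ℕ) (hm : 1 ≤ m) : (∀ x : (Localization.AtPrime (PrimeSpectrum.comap (algebraMap (MvPolynomial (Fin n) A) (AdicCompletion (I.map (algebraMap A (MvPolynomial (Fin n) A))) (MvPolynomial (Fin n) A))) q).asIdeal), (Localization.localRingHom (PrimeSpectrum.comap (algebraMap (MvPolynomial (Fin n) A) (AdicCompletion (I.map (algebraMap A (MvPolynomial (Fin n) A))) (MvPolynomial (Fin n) A))) q).asIdeal q.asIdeal (algebraMap (MvPolynomial (Fin n) A) (AdicCompletion (I.map (algebraMap A (MvPolynomial (Fin n) A))) (MvPolynomial (Fin n) A))) rfl) x ∈ (IsLocalRing.maximalIdeal (Localization.AtPrime q.asIdeal)) ^ m → x ∈ (IsLocalRing.maximalIdeal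 (Localization.AtPrime (PrimeSpectrum.comap (algebraMap (MvPolynomial (Fin n) A) (AdicCompletion (I.map (algebraMap A (MvPolynomial (Fin n) A))) (MvPolynomial (Fin n) A))) q).asIdeal)) ^ m) ∧ (∀ y : (Localization.AtPrime q.asIdeal), ∃ x : (Localization.AtPrime (PrimeSpectrum.comap (algebraMap (MvPolynomial (Fin n) A) (AdicCompletion (I.map (algebraMap A (MvPolynomial (Fin n) A))) (MvPolynomial (Fin n) A))) q).asIdeal), y - (Localization.localRingHom (PrimeSpectrum.comap (algebraMap (MvPolynomial (Fin n) A) (AdicCompletion (I.map (algebraMap A (MvPolynomial (Fin n) A))) (MvPolynomial (Fin n) A))) q).asIdeal q.asIdeal (algebraMap (MvPolynomial (Fin n) A) (AdicCompletion (I.map (algebraMap A (MvPolynomial (Fin n) A))) (MvPolynomial (Fin n) A))) rfl) x ∈ (IsLocalRing.maximalIdeal (Localization.AtPrime q.asIdeal)) ^ m) := by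
  classical
  let P := MvPolynomial (Fin n) A
  let IP : Ideal P := I.map (algebraMap A P)
  let R := AdicCompletion IP P
  haveI : IsNoetherianRing R := Groth.Agent.Matlis6.isNoetherianRing_adicCompletion IP
  have hfg : IP.FG := Ideal.FG.map (IsNoetherian.noetherian I) _
  haveI : IsAdicComplete (I.map (algebraMap A R)) R := by
    have h := AdicCompletion.isAdicComplete_self IP hfg
    rw [Ideal.map_map, ← IsScalarTower.algebraMap_eq] at h
    exact h
  have hft : Algebra.FiniteType A (R ⧸ I.map (algebraMap A R)) := by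
    haveI : Algebra.FiniteType A P := inferInstance
    refine Algebra.FiniteType.of_surjective (R := A) (A := P)
      ((Ideal.Quotient.mkₐ A _).comp (IsScalarTower.toAlgHom A P R)) ?_
    intro y
    obtain ⟨c, rfl⟩ := Ideal.Quotient.mk_surjective y
    obtain ⟨s, hs⟩ := Ideal.Quotient.mk_surjective (AdicCompletion.evalₐ IP 1 c)
    refine ⟨s, ((Ideal.Quotient.eq).2 ?_).symm⟩
    have h1 := (Groth.Agent.FSchLib.ker_evalₐ IP hfg 1).trans (pow_one _)
    rw [Ideal.map_map, ← IsScalarTower.algebraMap_eq] at h1
    rw [← h1, RingHom.mem_ker]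
    change AdicCompletion.evalₐ IP 1 (c - algebraMap P R s) = 0
    rw [map_sub, Groth.Agent.FSchLib.evalₐ_algebraMap, hs, sub_self]
  let q' : Ideal P := q.asIdeal.comap (algebraMap P R)
  haveI hRfin : Module.Finite A (R ⧸ q.asIdeal) :=
    Groth.Agent.AdicRing.finite_quotient_of_forall_finite I q hq hft
      (Groth.Agent.AdicRing.forall_finite_of_rigClosed_comap I q hq hft hp)
  haveI : Module.Finite A (P ⧸ q') := Module.Finite.of_injective
    (Ideal.quotientMapₐ q.asIdeal (IsScalarTower.toAlgHom A P R) le_rfl).toLinearMap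
    (Ideal.quotientMap_injective (f := algebraMap P R) (I := q.asIdeal))
  have hq1 : q.asIdeal = q'.map (algebraMap P R) := by
    refine le_antisymm (fun r hr => ?_) Ideal.map_comap_le
    obtain ⟨s, hs⟩ := (Groth.Agent.AdicRing.bijective_quotientMap_completion I P q').2
      (Ideal.Quotient.mk _ r)
    obtain ⟨s, rfl⟩ := Ideal.Quotient.mk_surjective s
    rw [Ideal.quotientMap_mk, Ideal.Quotient.eq] at hs
    have h1 : algebraMap P R s ∈ q.asIdeal := by
      have h0 := add_mem (Ideal.map_comap_le hs) hr
      rwa [sub_add_cancel] at h0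
    have h2 := sub_mem (Ideal.mem_map_of_mem (algebraMap P R) (show s ∈ q' from h1)) hs
    rw [sub_sub_cancel] at h2
    exact h2
  haveI : Module.Finite A (P ⧸ q' ^ m) := Groth.Agent.AdicRing.finite_quotient_pow P q' m
  obtain ⟨hinj, hsurj⟩ := Groth.Agent.AdicRing.bijective_quotientMap_completion I P (q' ^ m)
  have hmap : (q' ^ m).map (algebraMap P R) = q.asIdeal ^ m := by rw [Ideal.map_pow, ← hq1]
  have hmem : ∀ a : P, algebraMap P R a ∈ q.asIdeal ^ m → a ∈ q' ^ m := fun a ha => by
    refine Ideal.Quotient.eq_zero_iff_mem.1 (hinj ?_)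
    rw [map_zero, Ideal.quotientMap_mk, Ideal.Quotient.eq_zero_iff_mem, hmap]
    exact ha
  have happ : ∀ r : R, ∃ a : P, r - algebraMap P R a ∈ q.asIdeal ^ m := fun r => by
    obtain ⟨a, ha⟩ := hsurj (Ideal.Quotient.mk _ r)
    obtain ⟨a, rfl⟩ := Ideal.Quotient.mk_surjective a
    rw [Ideal.quotientMap_mk, Ideal.Quotient.eq, hmap] at ha
    have h0 := neg_mem ha
    rw [neg_sub] at h0
    exact ⟨a, h0⟩
  have hnot : ∀ (u : R) (w : P), u ∉ q.asIdeal → u - algebraMap P R w ∈ q.asIdeal ^ m → w ∉ q' :=
    fun u w hu hw hwq => hu (by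
      have h0 := add_mem (Ideal.pow_le_self (Nat.pos_iff_ne_zero.1 hm) hw) (show algebraMap P R w ∈ q.asIdeal from hwq)
      rwa [sub_add_cancel] at h0)
  change (∀ x : Localization.AtPrime q',
      Localization.localRingHom q' q.asIdeal (algebraMap P R) rfl x ∈
        IsLocalRing.maximalIdeal (Localization.AtPrime q.asIdeal) ^ m →
        x ∈ IsLocalRing.maximalIdeal (Localization.AtPrime q') ^ m) ∧
    ∀ y : Localization.AtPrime q.asIdeal, ∃ x : Localization.AtPrime q',
      y - Localization.localRingHom q' q.asIdeal (algebraMap P R) rfl x ∈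
        IsLocalRing.maximalIdeal (Localization.AtPrime q.asIdeal) ^ m
  constructor
  · intro x hx
    obtain ⟨⟨a, s⟩, has⟩ := IsLocalization.surj q'.primeCompl x
    rw [← Ideal.mul_unit_mem_iff_mem _ (IsLocalization.map_units (Localization.AtPrime q') s)]
    have has' : x * algebraMap P _ (s : P) = algebraMap P _ a := has
    rw [has', ← Localization.AtPrime.map_eq_maximalIdeal, ← Ideal.map_pow]
    have h1 := Ideal.mul_mem_right
      (Localization.localRingHom q' q.asIdeal (algebraMap P R) rfl (algebraMap P _ (s : P))) _ hx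
    rw [← map_mul, has', Localization.localRingHom_to_map, ← Localization.AtPrime.map_eq_maximalIdeal,
      ← Ideal.map_pow, IsLocalization.algebraMap_mem_map_algebraMap_iff q.asIdeal.primeCompl] at h1
    obtain ⟨u, hu, hua⟩ := h1
    obtain ⟨w, hw⟩ := happ u
    rw [IsLocalization.algebraMap_mem_map_algebraMap_iff q'.primeCompl]
    refine ⟨w, hnot u w hu hw, hmem _ ?_⟩
    rw [map_mul]
    have h2 := sub_mem hua ((q.asIdeal ^ m).mul_mem_right (algebraMap P R a) hw)
    rwa [sub_mul, sub_sub_cancel] at h2
  · intro y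
    obtain ⟨⟨r, u, hu⟩, hru⟩ := IsLocalization.surj q.asIdeal.primeCompl y
    obtain ⟨a, ha⟩ := happ r
    obtain ⟨w, hw⟩ := happ u
    refine ⟨IsLocalization.mk' _ a (⟨w, hnot u w hu hw⟩ : q'.primeCompl), ?_⟩
    set v := IsLocalization.mk' (Localization.AtPrime q') a (⟨w, hnot u w hu hw⟩ : q'.primeCompl)
    have hv : v * algebraMap P (Localization.AtPrime q') w = algebraMap P (Localization.AtPrime q') a :=
      IsLocalization.mk'_spec _ a (⟨w, hnot u w hu hw⟩ : q'.primeCompl)
    set φ := Localization.localRingHom q' q.asIdeal (algebraMap P R) rfl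
    set α := algebraMap R (Localization.AtPrime q.asIdeal)
    have hv' : φ v * α (algebraMap P R w) = α (algebraMap P R a) := by
      rw [← Localization.localRingHom_to_map q' q.asIdeal (algebraMap P R) rfl w, ← map_mul, hv,
        Localization.localRingHom_to_map]
    have huu : IsUnit (α u) := IsLocalization.map_units _ (⟨u, hu⟩ : q.asIdeal.primeCompl)
    have hru' : y * α u = α r := hru
    rw [← Ideal.mul_unit_mem_iff_mem _ huu, sub_mul, hru',
      show α r - φ v * α u = α (r - algebraMap P R a) - φ v * α (u - algebraMap P R w) by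
        rw [map_sub, map_sub, mul_sub, hv']; ring,
      ← Localization.AtPrime.map_eq_maximalIdeal, ← Ideal.map_pow]
    exact sub_mem (Ideal.mem_map_of_mem _ ha) (Ideal.mul_mem_left _ _ (Ideal.mem_map_of_mem _ hw))

end Groth.Agent.S8839
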