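import Groth.Statements.S8840
import Groth.Agent.AdicRing.RigTFAE
import Groth.Agent.AdicRing.LocComplete
import Mathlib.RingTheory.Algebraic.Integral
import Mathlib.RingTheory.Localization.Integral

set_option autoImplicit false
universe u
open AdicRing

namespace Groth.Agent.S8840

/-- Let A be a Noetherian ring complete for the adic topology of an ideal I, and B a Noetherian
A-algebra complete for the IB-adic topology with B/IB of finite type over A (an adic morphism,
topologically of finite type, of adic Noetherian topological rings). Let q be a prime of B which is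
rig-closed (IB ⊄ q and q maximal among the primes not containing IB). Then there exists f ∈ A which
maps to a unit in B/q such that the following holds. Let A_{f} and B_{f} be the completed principal
localizations (the I-adic completions of A_f and B_f) and ψ : A_{f} → B_{f} the canonical map,
characterised here as any ring map compatible with A_f → B_f (there is exactly one). Then the
inverse image p' under ψ of the ideal q' = q B_{f} is a rig-closed prime of A_{f}: p' is prime, I
A_{f} ⊄ p', and p' is maximal among the primes of A_{f} not containing I A_{f}. (That q B_{f} is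
itself prime with quotient B/q holds because f is a unit modulo q; it is not restated.) -/
theorem result (A : Type u) [CommRing A] [IsNoetherianRing A] (I : Ideal A) [IsAdicComplete I A] (B : Type u) [CommRing B] [Algebra A B] [IsNoetherianRing B] [IsAdicComplete (I.map (algebraMap A B)) B] (hft : Algebra.FiniteType A (B ⧸ (I.map (algebraMap A B)))) (q : PrimeSpectrum B) (hq : (¬ (I.map (algebraMap A B)) ≤ q.asIdeal ∧ ∀ y : PrimeSpectrum B, q ≤ y → ¬ (I.map (algebraMap A B)) ≤ y.asIdeal → y = q)) : ∃ f : A, IsUnit (Ideal.Quotient.mk q.asIdeal (algebraMap A B f)) ∧ ∀ ψ : (AdicCompletion (I.map (algebraMap A (Localization.Away f))) (Localization.Away f)) →+* (AdicCompletion ((I.map (algebraMap A B)).map (algebraMap B (Localization.Away (algebraMap A B f)))) (Localization.Away (algebraMap A B f))), ψ.comp (algebraMap (Localization.Away f) (AdicCompletion (I.map (algebraMap A (Localization.Away f))) (Localization.Away f))) = (algebraMap (Localization.Away (algebraMap A B f)) (AdicCompletion ((I.map (algebraMap A B)).map (algebraMap B (Localization.Away (algebraMap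 A B f)))) (Localization.Away (algebraMap A B f)))).comp (Localization.awayMap (algebraMap A B) f) → (((q.asIdeal.map (algebraMap B (AdicCompletion ((I.map (algebraMap A B)).map (algebraMap B (Localization.Away (algebraMap A B f)))) (Localization.Away (algebraMap A B f))))).comap ψ).IsPrime ∧ ¬ (I.map (algebraMap A (AdicCompletion (I.map (algebraMap A (Localization.Away f))) (Localization.Away f)))) ≤ ((q.asIdeal.map (algebraMap B (AdicCompletion ((I.map (algebraMap A B)).map (algebraMap B (Localization.Away (algebraMap A B f)))) (Localization.Away (algebraMap A B f))))).comap ψ) ∧ ∀ y : PrimeSpectrum (AdicCompletion (I.map (algebraMap A (Localization.Away f))) (Localization.Away f)), ((q.asIdeal.map (algebraMap B (AdicCompletion ((I.map (algebraMap A B)).map (algebraMap B (Localization.Away (algebraMap A B f)))) (Localization.Away (algebraMap A B f))))).comap ψ) ≤ y.asIdeal → ¬ (I.map (algebraMap A (AdicCompletion (I.map (algebraMap A (Localization.Away f))) (Localization.Away f)))) ≤ y.asIdeal → y.asIdeal = ((q.asIdeal.map (algebraMap B (AdicCompletion ((I.map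 (algebraMap A B)).map (algebraMap B (Localization.Away (algebraMap A B f)))) (Localization.Away (algebraMap A B f))))).comap ψ)) := by
  classical
  let D := B ⧸ q.asIdeal
  obtain ⟨hdim, hmax, -⟩ := ((Groth.Agent.S8804.result B (I.map (algebraMap A B)) q).out 0 2).1 hq
  obtain ⟨m, hm⟩ := Ideal.exists_maximal D
  let J : Ideal D := I.map (algebraMap A D)
  have hJ : (I.map (algebraMap A B)).map (Ideal.Quotient.mk q.asIdeal) = J := by
    rw [Ideal.map_map]; rfl
  have hJm : J ≤ m := hJ ▸ hmax m hm ▸ Ideal.le_radical
  have hftD : Algebra.FiniteType A (D ⧸ J) := by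
    refine hft.of_surjective (Ideal.quotientMapₐ J (Ideal.Quotient.mkₐ A q.asIdeal) ?_) ?_
    · exact Ideal.map_le_iff_le_comap.1 hJ.le
    · exact fun y => by
        obtain ⟨d, rfl⟩ := Ideal.Quotient.mk_surjective y
        obtain ⟨b, rfl⟩ := Ideal.Quotient.mk_surjective d
        exact ⟨Ideal.Quotient.mk _ b, rfl⟩
  letI := Ideal.Quotient.field m
  let p0 : Ideal A := m.comap (algebraMap A D)
  haveI : Algebra.FiniteType A (D ⧸ m) :=
    hftD.of_surjective (Ideal.Quotient.factorₐ A hJm) (Ideal.Quotient.factor_surjective hJm)
  obtain ⟨f, hfm, hint⟩ : ∃ f : A, algebraMap A D f ∉ m ∧ ∀ {S : Type u} [CommRing S] [Algebra A S]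
      [Algebra S (D ⧸ m)] [IsScalarTower A S (D ⧸ m)],
      IsUnit (algebraMap A S f) → Algebra.IsIntegral S (D ⧸ m) := by
    obtain ⟨s, hs⟩ := (Algebra.FiniteType.out : (⊤ : Subalgebra A (D ⧸ m)).FG)
    let R := A ⧸ p0
    letI : Algebra R (D ⧸ m) := (Ideal.quotientMap m (algebraMap A D) le_rfl).toAlgebra
    haveI : IsScalarTower A R (D ⧸ m) := IsScalarTower.of_algebraMap_eq fun r => rfl
    have hinjR : Function.Injective (algebraMap R (D ⧸ m)) := Ideal.quotientMap_injective
    haveI : IsDomain R := Ideal.Quotient.isDomain p0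
    let F := FractionRing R
    letI : Algebra F (D ⧸ m) := (IsFractionRing.lift (K := F) hinjR).toAlgebra
    haveI : IsScalarTower R F (D ⧸ m) := IsScalarTower.of_algebraMap_eq fun r =>
      (IsLocalization.lift_eq _ r).symm
    haveI : Algebra.FiniteType R (D ⧸ m) := Algebra.FiniteType.of_restrictScalars_finiteType A R _
    haveI : Algebra.FiniteType F (D ⧸ m) := Algebra.FiniteType.of_restrictScalars_finiteType R F _
    haveI : Module.Finite F (D ⧸ m) := finite_of_finite_type_of_isJacobsonRing F (D ⧸ m)
    have halg : ∀ x : D ⧸ m, ∃ P : Polynomial R, P ≠ 0 ∧ Polynomial.aeval x P = 0 := fun x => by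
      have : IsAlgebraic R x := (IsFractionRing.isAlgebraic_iff R F (D ⧸ m)).2
        (Algebra.IsAlgebraic.isAlgebraic x)
      exact this
    choose P hP0 hP using halg
    choose c hc using fun x => Ideal.Quotient.mk_surjective (P x).leadingCoeff
    refine ⟨∏ x ∈ s, c x, fun h => ?_, fun {S} _ _ _ _ hu => ?_⟩
    · have h2 : Ideal.Quotient.mk p0 (∏ x ∈ s, c x) = 0 := Ideal.Quotient.eq_zero_iff_mem.2 h
      rw [map_prod, Finset.prod_eq_zero_iff] at h2
      obtain ⟨x, -, hx⟩ := h2
      exact hP0 x (Polynomial.leadingCoeff_eq_zero.1 (hc x ▸ hx))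
    · have hgen : ∀ x ∈ s, IsIntegral S x := fun x hx => by
        rw [map_prod] at hu
        have hcu : IsUnit (algebraMap A S (c x)) :=
          isUnit_of_dvd_unit (Finset.dvd_prod_of_mem (fun x => algebraMap A S (c x)) hx) hu
        obtain ⟨PA, hPA, hdeg⟩ : ∃ PA : Polynomial A, PA.map (Ideal.Quotient.mk p0) = P x ∧
            PA.natDegree = (P x).natDegree := by
          obtain ⟨PA, h1, h2⟩ := Polynomial.mem_lifts_and_degree_eq
            ((Polynomial.mem_lifts (f := Ideal.Quotient.mk p0) (P x)).2
              (Polynomial.map_surjective _ Ideal.Quotient.mk_surjective (P x)))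
          exact ⟨PA, h1, Polynomial.natDegree_eq_of_degree_eq h2⟩
        let PA' : Polynomial A := PA.erase PA.natDegree + Polynomial.monomial PA.natDegree (c x)
        have hmap : PA'.map (Ideal.Quotient.mk p0) = P x := by
          refine Polynomial.ext fun n => ?_
          simp only [PA', Polynomial.coeff_map, Polynomial.coeff_add, Polynomial.coeff_monomial]
          by_cases hn : n = PA.natDegree
          · subst hn
            rw [Polynomial.erase_same, if_pos rfl, zero_add, hc, Polynomial.leadingCoeff, hdeg]
          · rw [Polynomial.erase_ne _ hn, if_neg (Ne.symm hn), add_zero, ← hPA,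
              Polynomial.coeff_map]
        have hev : Polynomial.aeval x PA' = 0 := by
          rw [← hP x, ← hmap]
          exact (Polynomial.aeval_map_algebraMap R x PA').symm
        have hdeg' : PA'.natDegree ≤ PA.natDegree :=
          (Polynomial.natDegree_add_le _ _).trans (max_le
            (Polynomial.natDegree_le_iff_coeff_eq_zero.2 fun n hn => by
              rw [Polynomial.erase_ne _ hn.ne']
              exact Polynomial.coeff_eq_zero_of_natDegree_lt hn)
            (Polynomial.natDegree_monomial_le _))
        have hcoeff : PA'.coeff PA.natDegree = c x := by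
          simp [PA', Polynomial.erase_same]
        let Q : Polynomial S := Polynomial.C (hcu.unit⁻¹ : Sˣ).1 * PA'.map (algebraMap A S)
        refine ⟨Q, ?_, ?_⟩
        · refine Polynomial.monic_of_natDegree_le_of_coeff_eq_one PA.natDegree ?_ ?_
          · exact ((Polynomial.natDegree_C_mul_le _ _).trans Polynomial.natDegree_map_le).trans hdeg'
          · rw [Polynomial.coeff_C_mul, Polynomial.coeff_map, hcoeff]
            exact hcu.val_inv_mul
        · rw [← Polynomial.aeval_def, map_mul, Polynomial.aeval_map_algebraMap, hev, mul_zero]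
      refine ⟨fun x => ?_⟩
      have htop : Algebra.adjoin A (↑s : Set (D ⧸ m)) ≤ (integralClosure S (D ⧸ m)).restrictScalars A :=
        Algebra.adjoin_le fun x hx => hgen x hx
      exact htop (hs.symm ▸ (Algebra.mem_top : x ∈ (⊤ : Subalgebra A (D ⧸ m))))
  have hfu : IsUnit (Ideal.Quotient.mk q.asIdeal (algebraMap A B f)) := by
    by_contra hc
    obtain ⟨m', hm', hfm'⟩ := exists_max_ideal_of_mem_nonunits hc
    exact hfm (((hmax m' hm').trans (hmax m hm).symm) ▸ hfm')
  refine ⟨f, hfu, fun ψ hψ => ?_⟩
  let fB := algebraMap A B f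
  let C := Groth.Agent.AdicRing.CompLoc I f
  let B' := Groth.Agent.AdicRing.CompLoc (I.map (algebraMap A B)) fB
  let q' : Ideal B' := q.asIdeal.map (algebraMap B B')
  let e : D ≃+* B' ⧸ q' := RingEquiv.ofBijective _
    (Groth.Agent.AdicRing.bijective_quotientMap_compLoc (I.map (algebraMap A B)) q.asIdeal fB hfu)
  let Φ : B' →+* D := e.symm.toRingHom.comp (Ideal.Quotient.mk q')
  let θ : C →+* D := Φ.comp ψ
  have hΦ : ∀ b, Φ (algebraMap B B' b) = Ideal.Quotient.mk q.asIdeal b := fun b => by
    refine e.injective ?_
    rw [show e (Φ (algebraMap B B' b)) = Ideal.Quotient.mk q' (algebraMap B B' b) from e.apply_symm_apply _]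
    exact (Ideal.quotientMap_mk (J := q.asIdeal) (I := q') (f := algebraMap B B') (H := Ideal.le_comap_map) (x := b)).symm
  have hθ : ∀ a, θ (algebraMap A C a) = algebraMap A D a := fun a => by
    have h1 : ψ (algebraMap A C a) = algebraMap B B' (algebraMap A B a) := by
      rw [IsScalarTower.algebraMap_apply A (Localization.Away f) C,
        IsScalarTower.algebraMap_apply B (Localization.Away fB) B']
      refine (RingHom.congr_fun hψ _).trans ?_
      rw [RingHom.comp_apply]
      congr 1
      exact IsLocalization.map_eq _ a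
    change Φ (ψ (algebraMap A C a)) = _
    rw [h1, hΦ]
    rfl
  letI : Algebra C D := θ.toAlgebra
  haveI : IsScalarTower A C D := IsScalarTower.of_algebraMap_eq fun a => (hθ a).symm
  have hIC : (I.map (algebraMap A C)).map (algebraMap C D) = J := by
    rw [Ideal.map_map, ← IsScalarTower.algebraMap_eq]
  haveI : IsNoetherianRing C := Groth.Agent.AdicRing.isNoetherianRing_compLoc I f
  haveI := Groth.Agent.AdicRing.isAdicComplete_compLoc I f
  haveI : IsAdicComplete ((I.map (algebraMap A C)).map (algebraMap C D)) D := by
    rw [hIC]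
    have h1 := Groth.Agent.AdicRing.isAdicComplete_of_finite (I.map (algebraMap A B)) D
    have h2 := (IsAdicComplete.map_algebraMap_iff (S := D) (I.map (algebraMap A B)) D).2 h1
    rwa [Ideal.Quotient.algebraMap_eq, hJ] at h2
  let q0 : PrimeSpectrum D := ⟨⊥, Ideal.isPrime_bot⟩
  have hI0 : J ≠ ⊥ := by
    rw [← hJ, Ne, Ideal.map_eq_bot_iff_le_ker, Ideal.mk_ker]
    exact hq.1
  have hq0 : ¬ ((I.map (algebraMap A C)).map (algebraMap C D)) ≤ q0.asIdeal ∧
      ∀ y : PrimeSpectrum D, q0 ≤ y → ¬ ((I.map (algebraMap A C)).map (algebraMap C D)) ≤ y.asIdeal →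
        y = q0 := by
    rw [hIC]
    refine ⟨fun h => hI0 (le_bot_iff.1 h), fun y _ hy => ?_⟩
    by_contra hne
    have hy0 : y.asIdeal ≠ ⊥ := fun e => hne (PrimeSpectrum.ext e)
    have hM := Groth.Agent.AdicRing.isMaximal_of_ringKrullDim_eq_one hdim _ hy0 y.isPrime
    exact hy (by rw [hmax _ hM, ← hJ]; exact Ideal.le_radical)
  have hftC : Algebra.FiniteType C (D ⧸ (I.map (algebraMap A C)).map (algebraMap C D)) := by
    rw [hIC]
    exact Algebra.FiniteType.of_restrictScalars_finiteType A C _
  let S := Localization.Away f
  letI : Algebra S D := (θ.comp (algebraMap S C)).toAlgebra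
  haveI : IsScalarTower S C D := IsScalarTower.of_algebraMap_eq fun a => rfl
  haveI : IsScalarTower A S D := IsScalarTower.of_algebraMap_eq fun a => by
    change algebraMap A D a = θ (algebraMap S C (algebraMap A S a))
    rw [← IsScalarTower.algebraMap_apply A S C, hθ]
  haveI : IsScalarTower A S (D ⧸ m) := IsScalarTower.of_algebraMap_eq fun a => by
    change Ideal.Quotient.mk m (algebraMap A D a) = Ideal.Quotient.mk m (algebraMap S D (algebraMap A S a))
    rw [← IsScalarTower.algebraMap_apply A S D]
  haveI : IsScalarTower S C (D ⧸ m) := IsScalarTower.of_algebraMap_eq fun a => rfl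
  haveI := hint (S := S) (IsLocalization.Away.algebraMap_isUnit f)
  haveI : Algebra.FiniteType S (D ⧸ m) := Algebra.FiniteType.of_restrictScalars_finiteType A S _
  haveI : Module.Finite S (D ⧸ m) := Algebra.IsIntegral.finite
  have hmC : Module.Finite C (D ⧸ m) := Module.Finite.of_restrictScalars_finite S C _
  have hfin := Groth.Agent.AdicRing.finite_quotient_of_forall_finite (A := C) (B := D)
    (I.map (algebraMap A C)) q0 hq0 hftC (fun m' hm' _ => by
      obtain rfl : m' = m := (hmax m' hm').trans (hmax m hm).symm
      exact hmC)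
  obtain ⟨hp1, hp2⟩ := Groth.Agent.AdicRing.rigClosed_comap_of_finite (A := C) (B := D)
    (I.map (algebraMap A C)) q0 hq0 hfin
  have hcomap : (PrimeSpectrum.comap (algebraMap C D) q0).asIdeal = q'.comap ψ := by
    ext z
    change θ z = 0 ↔ ψ z ∈ q'
    rw [← Ideal.Quotient.eq_zero_iff_mem]
    exact map_eq_zero_iff e.symm.toRingHom e.symm.injective
  rw [hcomap] at hp1
  refine ⟨hcomap ▸ (PrimeSpectrum.comap (algebraMap C D) q0).isPrime, hp1, fun y hy hIy => ?_⟩
  have := hp2 y (fun z hz => hy (hcomap ▸ hz : z ∈ q'.comap ψ)) hIy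
  exact (congrArg PrimeSpectrum.asIdeal this).trans hcomap

end Groth.Agent.S8840
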