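import Groth.Statements.S8841
import Groth.Agent.S8835
import Groth.Agent.AdicRing.RigTFAE
import Groth.Agent.AdicRing.LocComplete
import Groth.Agent.FlatCrit.Inj
import Mathlib.RingTheory.Jacobson.Ring
import Mathlib.RingTheory.Flat.Localization

set_option autoImplicit false
universe u
open AdicRing

namespace Groth.Agent.S8841

/-- Let A be a Noetherian ring complete for the adic topology of an ideal I, and B a Noetherian
A-algebra complete for the IB-adic topology with B/IB of finite type over A (an adic morphism,
topologically of finite type, of adic Noetherian topological rings), and assume A/I is a Jacobson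
ring. Suppose A → B is naively rig-flat: whenever q is a rig-closed prime of B (IB ⊄ q and q maximal
among the primes not containing IB), the localization B_q is an A-flat ring. Then A → B is rig-flat:
for every f ∈ A, letting A_{f} and B_{f} be the completed principal localizations (the I-adic
completions of A_f and B_f) and ψ : A_{f} → B_{f} the canonical map, characterised here as any ring
map compatible with A_f → B_f (there is exactly one), the local ring (B_{f})_{q'} is flat over A_{f}
via ψ for every rig-closed prime q' of B_{f} (I B_{f} ⊄ q' and q' maximal among the primes not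
containing I B_{f}). (That A_{f} → B_{f} is again adic and topologically of finite type is not
restated.) -/
theorem result (A : Type u) [CommRing A] [IsNoetherianRing A] (I : Ideal A) [IsAdicComplete I A] (B : Type u) [CommRing B] [Algebra A B] [IsNoetherianRing B] [IsAdicComplete (I.map (algebraMap A B)) B] (hft : Algebra.FiniteType A (B ⧸ (I.map (algebraMap A B)))) (hJ : IsJacobsonRing (A ⧸ I)) (hnaive : ∀ q : PrimeSpectrum B, (¬ (I.map (algebraMap A B)) ≤ q.asIdeal ∧ ∀ y : PrimeSpectrum B, q ≤ y → ¬ (I.map (algebraMap A B)) ≤ y.asIdeal → y = q) → (algebraMap A (Localization.AtPrime q.asIdeal)).Flat) (f : A) (ψ : (AdicCompletion (I.map (algebraMap A (Localization.Away f))) (Localization.Away f)) →+* (AdicCompletion ((I.map (algebraMap A B)).map (algebraMap B (Localization.Away (algebraMap A B f)))) (Localization.Away (algebraMap A B f)))) (hψ : ψ.comp (algebraMap (Localization.Away f) (AdicCompletion (I.map (algebraMap A (Localization.Away f))) (Localization.Away f))) = (algebraMap (Localization.Away (algebraMap A B f)) (AdicCompletion ((I.map (algebraMap A B)).map (algebraMap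 B (Localization.Away (algebraMap A B f)))) (Localization.Away (algebraMap A B f)))).comp (Localization.awayMap (algebraMap A B) f)) (q' : PrimeSpectrum (AdicCompletion ((I.map (algebraMap A B)).map (algebraMap B (Localization.Away (algebraMap A B f)))) (Localization.Away (algebraMap A B f)))) (hq' : (¬ ((((I.map (algebraMap A B))).map (algebraMap B (Localization.Away (algebraMap A B f)))).map (algebraMap (Localization.Away (algebraMap A B f)) (AdicCompletion ((I.map (algebraMap A B)).map (algebraMap B (Localization.Away (algebraMap A B f)))) (Localization.Away (algebraMap A B f))))) ≤ q'.asIdeal ∧ ∀ y : PrimeSpectrum (AdicCompletion ((I.map (algebraMap A B)).map (algebraMap B (Localization.Away (algebraMap A B f)))) (Localization.Away (algebraMap A B f))), q' ≤ y → ¬ ((((I.map (algebraMap A B))).map (algebraMap B (Localization.Away (algebraMap A B f)))).map (algebraMap (Localization.Away (algebraMap A B f)) (AdicCompletion ((I.map (algebraMap A B)).map (algebraMap B (Localization.Away (algebraMap A B f)))) (Localization.Away (algebraMap A B f))))) ≤ y.asIdeal → y = q')) : ((algebraMap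 (AdicCompletion ((I.map (algebraMap A B)).map (algebraMap B (Localization.Away (algebraMap A B f)))) (Localization.Away (algebraMap A B f))) (Localization.AtPrime q'.asIdeal)).comp ψ).Flat := by
  classical
  let K : Ideal B := I.map (algebraMap A B)
  let fB : B := algebraMap A B f
  let C := Groth.Agent.AdicRing.CompLoc I f
  let B' := Groth.Agent.AdicRing.CompLoc K fB
  haveI : IsNoetherianRing C := Groth.Agent.AdicRing.isNoetherianRing_compLoc I f
  haveI : IsNoetherianRing B' := Groth.Agent.AdicRing.isNoetherianRing_compLoc K fB
  haveI := Groth.Agent.AdicRing.isAdicComplete_compLoc K fB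
  have hψA := Groth.Agent.AdicRing.comp_algebraMap_of_comp_awayMap I K f ψ hψ
  have hKmap : (K.map (algebraMap B (Localization.Away fB))).map
      (algebraMap (Localization.Away fB) B') = K.map (algebraMap B B') :=
    (Ideal.map_map _ _).trans
      (congrArg (fun φ => Ideal.map φ K) (IsScalarTower.algebraMap_eq B (Localization.Away fB) B').symm)
  change ¬ (K.map (algebraMap B (Localization.Away fB))).map
      (algebraMap (Localization.Away fB) B') ≤ q'.asIdeal ∧ ∀ y : PrimeSpectrum B', q' ≤ y →
    ¬ (K.map (algebraMap B (Localization.Away fB))).map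
      (algebraMap (Localization.Away fB) B') ≤ y.asIdeal → y = q' at hq'
  rw [hKmap] at hq'
  haveI : IsJacobsonRing (A ⧸ I) := hJ
  haveI : Algebra.FiniteType (A ⧸ I) (B ⧸ K) := by
    haveI : Algebra.FiniteType A (B ⧸ K) := hft
    exact Algebra.FiniteType.of_restrictScalars_finiteType A (A ⧸ I) _
  have hJB : IsJacobsonRing (B ⧸ K) := isJacobsonRing_of_finiteType (A := A ⧸ I)
  let q : PrimeSpectrum B := PrimeSpectrum.comap (algebraMap B B') q'
  have hq := Groth.Agent.S8835.result B K B' (Groth.Agent.AdicRing.finiteType_compLoc_quotient K fB)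
    q' hq' hJB
  have hp := Groth.Agent.S8835.result A I B hft q hq hJ
  set p := PrimeSpectrum.comap (algebraMap A B) q with hp_def
  haveI := q'.isPrime
  obtain ⟨n, hn, hqn⟩ := Ideal.exists_le_maximal q'.asIdeal q'.isPrime.ne_top
  haveI := hn.isPrime
  let nA : Ideal A := (n.comap (algebraMap B B')).comap (algebraMap A B)
  have hInA : I ≤ nA := Ideal.map_le_iff_le_comap.1 (Ideal.map_le_iff_le_comap.1
    ((Groth.Agent.AdicRing.map_le_jacobson_compLoc K fB).trans (sInf_le ⟨bot_le, hn⟩)))
  have hnA : nA.IsMaximal := Groth.Agent.AdicRing.isMaximal_of_rigClosed_le I p hp nA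
    (Ideal.comap_mono (Ideal.comap_mono hqn)) hInA
  have hfn : f ∉ nA := fun h => hn.ne_top (Ideal.eq_top_of_isUnit_mem _ h
    (Groth.Agent.AdicRing.isUnit_algebraMap_compLoc K fB))
  have hfu : IsUnit (Ideal.Quotient.mk p.asIdeal f) := by
    obtain ⟨-, hmax, -⟩ := ((Groth.Agent.S8804.result A I p).out 0 2).1 hp
    by_contra hc
    obtain ⟨m', hm', hfm'⟩ := exists_max_ideal_of_mem_nonunits hc
    have hle : RingHom.ker (Ideal.Quotient.mk p.asIdeal) ≤ nA := by
      rw [Ideal.mk_ker]
      exact Ideal.comap_mono (Ideal.comap_mono hqn)
    rcases Ideal.map_eq_top_or_isMaximal_of_surjective (Ideal.Quotient.mk p.asIdeal)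
      Ideal.Quotient.mk_surjective hnA with h | h
    · have h' := congrArg (Ideal.comap (Ideal.Quotient.mk p.asIdeal)) h
      rw [Ideal.comap_map_of_surjective _ Ideal.Quotient.mk_surjective, ← RingHom.ker_eq_comap_bot,
        sup_eq_left.2 hle, Ideal.comap_top] at h'
      exact hnA.ne_top h'
    · rw [hmax m' hm', ← hmax _ h, ← Ideal.mem_comap,
        Ideal.comap_map_of_surjective _ Ideal.Quotient.mk_surjective, ← RingHom.ker_eq_comap_bot,
        sup_eq_left.2 hle] at hfm'
      exact hfn hfm'
  let p' : Ideal C := q'.asIdeal.comap ψ
  have hp' : p.asIdeal.map (algebraMap A C) = p' := by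
    refine le_antisymm (Ideal.map_le_iff_le_comap.2 fun a ha => ?_) fun x hx => ?_
    · change ψ (algebraMap A C a) ∈ q'.asIdeal
      rw [hψA]
      exact ha
    · obtain ⟨a, ha⟩ := (Groth.Agent.AdicRing.bijective_quotientMap_compLoc I p.asIdeal f hfu).2
        (Ideal.Quotient.mk _ x)
      obtain ⟨a, rfl⟩ := Ideal.Quotient.mk_surjective a
      rw [Ideal.quotientMap_mk, Ideal.Quotient.eq] at ha
      have hle : p.asIdeal.map (algebraMap A C) ≤ p' := Ideal.map_le_iff_le_comap.2 fun a ha => by
        change ψ (algebraMap A C a) ∈ q'.asIdeal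
        rw [hψA]
        exact ha
      have h1 : algebraMap A C a ∈ p' := by
        have h0 := add_mem (hle ha) hx
        rwa [sub_add_cancel] at h0
      change ψ (algebraMap A C a) ∈ q'.asIdeal at h1
      rw [hψA] at h1
      have h2 := sub_mem (Ideal.mem_map_of_mem (algebraMap A C) (show a ∈ p.asIdeal from h1)) ha
      rwa [sub_sub_cancel] at h2
  let Bq := Localization.AtPrime q.asIdeal
  let L := Localization.AtPrime q'.asIdeal
  haveI : Module.Flat A Bq := RingHom.flat_algebraMap_iff.1 (hnaive q hq)
  letI : Algebra Bq L := (Localization.localRingHom q.asIdeal q'.asIdeal (algebraMap B B') rfl).toAlgebra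
  haveI : IsScalarTower B Bq L := IsScalarTower.of_algebraMap_eq fun b => by
    rw [IsScalarTower.algebraMap_apply B B' L]
    exact (Localization.localRingHom_to_map _ _ _ rfl b).symm
  haveI : IsScalarTower A Bq L := IsScalarTower.of_algebraMap_eq fun a => by
    rw [IsScalarTower.algebraMap_apply A B Bq, ← IsScalarTower.algebraMap_apply B Bq L,
      ← IsScalarTower.algebraMap_apply A B L]
  haveI : Module.Flat B B' := Groth.Agent.AdicRing.flat_compLoc K fB
  haveI : Module.Flat B L := Module.Flat.trans B B' L
  haveI : Module.Flat Bq L := (Module.flat_iff_of_isLocalization Bq q.asIdeal.primeCompl L).2 inferInstance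
  haveI hAL : Module.Flat A L := Module.Flat.trans A Bq L
  haveI : p'.IsPrime := q'.isPrime.comap ψ
  let C' := Localization.AtPrime p'
  haveI : IsNoetherianRing C' := IsLocalization.isNoetherianRing p'.primeCompl C' inferInstance
  haveI : IsNoetherianRing L := IsLocalization.isNoetherianRing q'.asIdeal.primeCompl L inferInstance
  letI : Algebra C L := ((algebraMap B' L).comp ψ).toAlgebra
  letI : Algebra C' L := (Localization.localRingHom p' q'.asIdeal ψ rfl).toAlgebra
  haveI : IsScalarTower C C' L := IsScalarTower.of_algebraMap_eq fun c =>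
    (Localization.localRingHom_to_map p' q'.asIdeal ψ rfl c).symm
  haveI : IsScalarTower A C L := IsScalarTower.of_algebraMap_eq fun a => by
    change _ = algebraMap B' L (ψ (algebraMap A C a))
    rw [hψA, ← IsScalarTower.algebraMap_apply B B' L, ← IsScalarTower.algebraMap_apply A B L]
  haveI : IsScalarTower A C' L := IsScalarTower.of_algebraMap_eq fun a => by
    rw [IsScalarTower.algebraMap_apply A C C', ← IsScalarTower.algebraMap_apply C C' L,
      ← IsScalarTower.algebraMap_apply A C L]
  have hmax : p.asIdeal.map (algebraMap A C') = IsLocalRing.maximalIdeal C' := by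
    rw [IsScalarTower.algebraMap_eq A C C', ← Ideal.map_map, hp', Localization.AtPrime.map_eq_maximalIdeal]
  have h1 := Groth.Agent.FlatCrit.rTensor_map_injective (R := A) (M := L) (S := C') (I := p.asIdeal)
    (Module.Flat.rTensor_preserves_injective_linearMap p.asIdeal.subtype Subtype.val_injective)
  rw [hmax] at h1
  haveI : IsLocalHom (algebraMap C' L) :=
    Localization.isLocalHom_localRingHom p' q'.asIdeal ψ rfl
  haveI : Module.Flat C' L := by
    refine Groth.Agent.FlatCrit.flat_of_rTensor_injective (S := L) (IsLocalRing.maximalIdeal C') ?_ h1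
      (Groth.Agent.FlatCrit.quotFlat_of_field _)
    rw [IsLocalRing.jacobson_eq_maximalIdeal ⊥ bot_ne_top]
    exact ((IsLocalRing.local_hom_TFAE (algebraMap C' L)).out 0 2).1 ‹IsLocalHom (algebraMap C' L)›
  haveI : Module.Flat C C' := IsLocalization.flat C' p'.primeCompl
  exact RingHom.flat_algebraMap_iff.2 (Module.Flat.trans C C' L)

end Groth.Agent.S8841
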