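import Groth.Statements.S8842
import Groth.Agent.Formal2Lib.GradedBound

set_option autoImplicit false
universe u
open scoped BigOperators
attribute [local instance] CategoryTheory.Abelian.hasFiniteBiproducts
open Formal2

namespace Groth.Agent.S8842

open CategoryTheory CategoryTheory.Limits AlgebraicGeometry Opposite
open Groth.Agent.Coherent Groth.Agent.Coherent.Serre Groth.Agent.Coherent.Existence

variable {A : Type u} [CommRing A]

theorem map_mem_pow {I : Ideal A} {c t c' : ℕ} (hct : t + c ≤ c') (hcc' : c ≤ c')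
    (ψ : ↥(I ^ c) →ₗ[A] A) (x : A) (hx : x ∈ I ^ c') :
    ψ ⟨x, Ideal.pow_le_pow_right hcc' hx⟩ ∈ I ^ t := by
  have h : ∃ hx' : x ∈ I ^ c, ψ ⟨x, hx'⟩ ∈ I ^ t := by
    refine Submodule.mul_induction_on (C := fun x => ∃ hx' : x ∈ I ^ c, ψ ⟨x, hx'⟩ ∈ I ^ t)
      ((pow_add I t c).le (Ideal.pow_le_pow_right hct hx)) (fun a ha b hb => ?_) ?_
    · refine ⟨Ideal.mul_mem_left _ a hb, ?_⟩
      have e : (⟨a * b, Ideal.mul_mem_left _ a hb⟩ : ↥(I ^ c)) = a • ⟨b, hb⟩ := rfl
      rw [e, map_smul]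
      exact Ideal.mul_mem_right _ _ ha
    · rintro a b ⟨ha, ha'⟩ ⟨hb, hb'⟩
      refine ⟨add_mem ha hb, ?_⟩
      have e : (⟨a + b, add_mem ha hb⟩ : ↥(I ^ c)) = ⟨a, ha⟩ + ⟨b, hb⟩ := rfl
      rw [e, map_add]
      exact add_mem ha' hb'
  exact h.2

theorem eval_eq_sum_tuple {r n : ℕ} (f : Fin r → A) {p : MvPolynomial (Fin r) A}
    (hp : p.IsHomogeneous n) :
    MvPolynomial.eval f p = ∑ e : ↥(Finset.Nat.antidiagonalTuple r n),
      MvPolynomial.coeff (Finsupp.equivFunOnFinite.symm e.1) p * ∏ j, f j ^ (e.1 j) := by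
  classical
  rw [Finset.sum_coe_sort (Finset.Nat.antidiagonalTuple r n)
    (fun e => MvPolynomial.coeff (Finsupp.equivFunOnFinite.symm e) p * ∏ j, f j ^ (e j))]
  rw [MvPolynomial.eval_eq']
  refine Eq.trans ?_ (Finset.sum_map (Finset.Nat.antidiagonalTuple r n)
    Finsupp.equivFunOnFinite.symm.toEmbedding (fun d => MvPolynomial.coeff d p * ∏ j, f j ^ (d j)))
  refine Finset.sum_subset (fun d hd => ?_) fun d _ hd => by
    rw [MvPolynomial.notMem_support_iff.1 hd, zero_mul]
  refine Finset.mem_map.2 ⟨d, Finset.Nat.mem_antidiagonalTuple.2 ?_, by ext i; rfl⟩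
  rw [← Finsupp.degree_eq_sum]
  by_contra hne
  exact MvPolynomial.mem_support_iff.1 hd (hp.coeff_eq_zero hne)

variable {X : Scheme.{u}} [X.Over (Spec (CommRingCat.of A))]

theorem smulMod_sum (M : X.Modules) {ι : Type*} (s : Finset ι) (a : ι → A) :
    Formal.smulMod A M (∑ i ∈ s, a i) = ∑ i ∈ s, Formal.smulMod A M (a i) :=
  map_sum (AddMonoidHom.mk' (Formal.smulMod A M) (smulMod_add M)) a s

variable {I : Ideal A} {M : X.Modules} {N k : ℕ} (g : Fin k → A) (hg : ∀ i, g i ∈ I ^ N)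

/-- Multiplication by `a ∈ I^N` into `I^N M`. -/
noncomputable def elemLift {a : A} (ha : a ∈ I ^ N) : M ⟶ Formal2.idealPowMod I N M :=
  kernel.lift _ (Formal.smulMod A M a) (smulMod_modPowπ I M ha)

theorem elemLift_ι {a : A} (ha : a ∈ I ^ N) :
    elemLift (M := M) ha ≫ Formal2.idealPowModι I N M = Formal.smulMod A M a :=
  kernel.lift_ι _ _ _

theorem eq_sum_elemLift {x : A} (a : Fin k → A) (hx : x = ∑ i, a i * g i)
    (γ : M ⟶ Formal2.idealPowMod I N M) (hγ : γ ≫ Formal2.idealPowModι I N M = Formal.smulMod A M x) :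
    γ = ∑ i, Formal.smulMod A M (a i) ≫ elemLift (hg i) := by
  rw [← cancel_mono (Formal2.idealPowModι I N M), hγ, Preadditive.sum_comp, hx, smulMod_sum]
  refine Finset.sum_congr rfl fun i _ => ?_
  rw [Category.assoc, elemLift_ι, mul_comm, smulMod_mul]

theorem epi_desc_elemLift (hspan : Submodule.span A (Set.range g) = I ^ N) :
    Epi (biproduct.desc fun i => elemLift (M := M) (hg i)) := by
  refine Preadditive.epi_of_cancel_zero _ fun {Z} h hh => ?_
  have hi : ∀ i, elemLift (M := M) (hg i) ≫ h = 0 := fun i => by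
    rw [← biproduct.ι_desc (fun i => elemLift (M := M) (hg i)) i, Category.assoc, hh, comp_zero]
  let fT : (∐ fun _ : (I ^ N : Ideal A) => M) ⟶ Formal2.idealPowMod I N M :=
    Abelian.factorThruImage (Formal.smulFamily (I ^ N) M)
  have : Epi fT := inferInstanceAs (Epi (Abelian.factorThruImage _))
  rw [← cancel_epi fT, comp_zero]
  refine Sigma.hom_ext _ _ fun c => ?_
  rw [comp_zero, ← Category.assoc]
  obtain ⟨a, ha⟩ := (Submodule.mem_span_range_iff_exists_fun A).1 (hspan.ge c.2)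
  have e : (Sigma.ι (fun _ : (I ^ N : Ideal A) => M) c ≫ fT) ≫ Formal2.idealPowModι I N M =
      Formal.smulMod A M (c : A) := by
    rw [Category.assoc]
    exact (congrArg (fun z => _ ≫ z) (Abelian.image.fac _)).trans (by simp [Formal.smulFamily])
  rw [eq_sum_elemLift g hg a ha.symm _ e, Preadditive.sum_comp]
  exact Finset.sum_eq_zero fun i _ => by rw [Category.assoc, hi, comp_zero]

theorem kernel_comp_desc_eq_zero [IsNoetherianRing A] [IsLocallyNoetherian X] {G : ℕᵒᵖ ⥤ X.Modules}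
    {co : Fin k → A}
    (H : ∀ m : ℕ, ∃ (r : ℕ) (hmr : m ≤ r),
          kernel.ι (biproduct.desc fun i : Fin k => Formal.smulMod A (G.obj (op r)) (g i)) ≫
            biproduct.desc (fun i : Fin k => Formal.smulMod A (G.obj (op r)) (co i) ≫ trLE G hmr) = 0) :
    kernel.ι (biproduct.desc fun i : Fin k => Formal.smulMod A (limit G) (g i)) ≫
      biproduct.desc (fun i : Fin k => Formal.smulMod A (limit G) (co i)) = 0 := by
  refine limit.hom_ext fun j => ?_
  obtain ⟨m, rfl⟩ : ∃ m, j = op m := ⟨j.unop, rfl⟩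
  obtain ⟨r, hmr, h⟩ := H m
  rw [zero_comp]
  let Ψ := biproduct.desc fun i : Fin k => Formal.smulMod A (limit G) (g i)
  let Ψr := biproduct.desc fun i : Fin k => Formal.smulMod A (G.obj (op r)) (g i)
  let q : (⨁ fun _ : Fin k => limit G) ⟶ (⨁ fun _ : Fin k => G.obj (op r)) :=
    biproduct.map fun _ => limit.π G (op r)
  have hq : q ≫ Ψr = Ψ ≫ limit.π G (op r) := by
    refine biproduct.hom_ext' _ _ fun i => ?_
    simp only [q, Ψr, Ψ, biproduct.ι_map_assoc, biproduct.ι_desc, biproduct.ι_desc_assoc]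
    exact (smulMod_natural _ _).symm
  have hD : biproduct.desc (fun i : Fin k => Formal.smulMod A (limit G) (co i)) ≫ limit.π G (op m) =
      q ≫ biproduct.desc (fun i : Fin k => Formal.smulMod A (G.obj (op r)) (co i) ≫ trLE G hmr) := by
    refine biproduct.hom_ext' _ _ fun i => ?_
    simp only [q, biproduct.ι_map_assoc, biproduct.ι_desc, biproduct.ι_desc_assoc]
    rw [← Category.assoc, ← smulMod_natural, Category.assoc]
    exact congrArg _ (limit.w G _).symm
  have hlift : (kernel.ι Ψ ≫ q) ≫ Ψr = 0 := by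
    rw [Category.assoc, hq, kernel.condition_assoc, zero_comp]
  rw [Category.assoc, hD, ← Category.assoc]
  exact (congrArg (fun z => z ≫ _) (kernel.lift_ι Ψr _ hlift).symm).trans
    ((Category.assoc _ _ _).trans ((congrArg _ h).trans comp_zero))

end Groth.Agent.S8842

namespace Groth.Agent.S8842

open CategoryTheory CategoryTheory.Limits AlgebraicGeometry Opposite in
/-- Let A be a Noetherian ring, f_1, …, f_r ∈ A and I = (f_1, …, f_r) with cd(A, I) = 1; let c ≥ 1 and
φ_j : I^c → A be A-linear with x = Σ_j f_j φ_j(x) for x ∈ I^c. Let X be a Noetherian scheme over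
Spec A, (F_n) a coherent formal module for I on X (coherent O_X-modules with F_n = F_{n+1}/I^n
F_{n+1}; indices shifted by one) and F = lim F_n, the limit in O_X-modules. Then there is c' ≥ c
with the following property. Write φ_j again for the restrictions to I^{c'} and let Φ be a graded
A-algebra homomorphism from ⊕_{n ≥ 0} I^{nc'} to A[T_1, …, T_r] with Φ(g) = Σ_j φ_j(g) T_j on I^{c'}
(there is exactly one; encoded by functions Φ_n : A → A[T_1, …, T_r] additive and A-homogeneous on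
I^{nc'}, with values homogeneous of degree n, multiplicative across degrees, Φ_0 the structure map,
Φ_1 as prescribed). Then for every n there is a unique map of O_X-modules Φ_{F,n} from the submodule
I^{nc'}F to F[T_1, …, T_r]_n = ⊕_{|e| = n} F (one copy of F for each exponent tuple e of total
degree n) such that Φ_{F,n}(g s) = Φ_n(g) s for g ∈ I^{nc'} and local sections s of F, i.e.
precomposed with multiplication by g, F → I^{nc'}F, it is the map whose component at T^e is
multiplication by the coefficient of T^e in Φ_n(g); moreover composing Φ_{F,n} with the map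
⊕_{|e|=n} F → F which is multiplication by f^e = ∏ f_j^{e_j} on the copy at T^e gives the inclusion
I^{nc'}F → F. -/
theorem result (A : Type u) [CommRing A] [IsNoetherianRing A] (r : ℕ) (f : Fin r → A) (I : Ideal A) (hI : I = Ideal.span (Set.range f)) (h1 : LocCoh.CdLE A I 1) (h0 : ¬ LocCoh.CdLE A I 0) (c : ℕ) (hc : 1 ≤ c) (φ : Fin r → (↥(I ^ c) →ₗ[A] A)) (hφ : ∀ x : ↥(I ^ c), (x : A) = ∑ j, f j * φ j x) (X : Scheme.{u}) [X.Over (Spec (CommRingCat.of A))] [IsNoetherian X] (G : ℕᵒᵖ ⥤ X.Modules) (hG : Formal.IsCohFormal I G) : ∃ c' : ℕ, ∃ hcc' : c ≤ c', ∀ Φ : ℕ → A → MvPolynomial (Fin r) A, ((∀ n : ℕ, ∀ g ∈ I ^ (n * c'), ∀ h ∈ I ^ (n * c'), Φ n (g + h) = Φ n g + Φ n h) ∧ (∀ (n : ℕ) (a : A), ∀ g ∈ I ^ (n * c'), Φ n (a * g) = a • Φ n g) ∧ (∀ n : ℕ, ∀ g ∈ I ^ (n * c'), (Φ n g).IsHomogeneous n) ∧ (∀ n m : ℕ, ∀ g ∈ I ^ (n * c'), ∀ h ∈ I ^ (m * c'), Φ (n + m) (g * h) = Φ n g * Φ m h) ∧ (∀ a : A, Φ 0 a = MvPolynomial.C a) ∧ (∀ (g : A) (hg : g ∈ I ^ c'), Φ 1 g = ∑ j, MvPolynomial.C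 (φ j ⟨g, Ideal.pow_le_pow_right hcc' hg⟩) * MvPolynomial.X j)) → ∀ n : ℕ, ∃ ΦF : (Formal2.idealPowMod I (n * c') (limit G)) ⟶ ⨁ (fun _ : ↥(Finset.Nat.antidiagonalTuple r n) ↦ (limit G)), (∀ g ∈ I ^ (n * c'), ∀ γ : (limit G) ⟶ (Formal2.idealPowMod I (n * c') (limit G)), γ ≫ Formal2.idealPowModι I (n * c') (limit G) = Formal.smulMod A (limit G) g → γ ≫ ΦF = biproduct.lift (fun e : ↥(Finset.Nat.antidiagonalTuple r n) ↦ Formal.smulMod A (limit G) (MvPolynomial.coeff (Finsupp.equivFunOnFinite.symm e.1) (Φ n g)))) ∧ ΦF ≫ biproduct.desc (fun e : ↥(Finset.Nat.antidiagonalTuple r n) ↦ Formal.smulMod A (limit G) (∏ j, f j ^ (e.1 j))) = Formal2.idealPowModι I (n * c') (limit G) ∧ (∀ ΦF' : (Formal2.idealPowMod I (n * c') (limit G)) ⟶ ⨁ (fun _ : ↥(Finset.Nat.antidiagonalTuple r n) ↦ (limit G)), (∀ g ∈ I ^ (n * c'), ∀ γ : (limit G) ⟶ (Formal2.idealPowMod I (n * c') (limit G)), γ ≫ Formal2.idealPowModι I (n * c') (limit G) = Formal.smulMod A (limit G) g → γ ≫ ΦF' = biproduct.lift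 (fun e : ↥(Finset.Nat.antidiagonalTuple r n) ↦ Formal.smulMod A (limit G) (MvPolynomial.coeff (Finsupp.equivFunOnFinite.symm e.1) (Φ n g)))) → ΦF' = ΦF) := by
  classical
  obtain ⟨t₀, ht₀⟩ := Groth.Agent.Formal2Lib.exists_level_bound_global hG
  refine ⟨max (c + t₀) 1, (Nat.le_add_right c t₀).trans (le_max_left _ _), fun Φ hΦ n => ?_⟩
  obtain ⟨hadd, hsmul, hhom, hmul, hC, h1Φ⟩ := hΦ
  set c' := max (c + t₀) 1 with hc'
  have hct : t₀ + c ≤ c' := (Nat.add_comm t₀ c).le.trans (le_max_left _ _)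
  have hcc' : c ≤ c' := le_trans (Nat.le_add_left c t₀) hct
  have h0Φ : ∀ d, Φ d 0 = 0 := fun d => by
    simpa using hsmul d 0 0 (zero_mem _)
  let L : ∀ d, ↥(I ^ (d * c')) →ₗ[A] MvPolynomial (Fin r) A := fun d =>
    { toFun := fun x => Φ d x.1
      map_add' := fun x y => hadd d x.1 x.2 y.1 y.2
      map_smul' := fun a x => hsmul d a x.1 x.2 }
  have h1mem : ∀ g ∈ I ^ c', Φ 1 g ∈ (I ^ t₀).map (MvPolynomial.C : A →+* MvPolynomial (Fin r) A) :=
    fun g hg => by
      rw [h1Φ g hg]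
      exact sum_mem fun j _ => Ideal.mul_mem_right _ _
        (Ideal.mem_map_of_mem _ (map_mem_pow hct hcc' (φ j) g hg))
  have heval : ∀ d, ∀ g ∈ I ^ (d * c'), MvPolynomial.eval f (Φ d g) = g := by
    intro d
    induction d with
    | zero => intro g _; rw [hC, MvPolynomial.eval_C]
    | succ d ih =>
      intro g hg
      have hg' : g ∈ I ^ (d * c') * I ^ c' := by rwa [← pow_add, ← Nat.succ_mul]
      refine (Submodule.mul_induction_on (C := fun x => x ∈ I ^ ((d + 1) * c') ∧
        MvPolynomial.eval f (Φ (d + 1) x) = x) hg' (fun a ha b hb => ?_) ?_).2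
      · refine ⟨by rw [Nat.succ_mul, pow_add]; exact Ideal.mul_mem_mul ha hb, ?_⟩
        rw [hmul d 1 a ha b (by rwa [one_mul]), map_mul, ih a ha, h1Φ b hb, map_sum]
        congr 1
        refine Eq.trans ?_ (hφ ⟨b, Ideal.pow_le_pow_right hcc' hb⟩).symm
        exact Finset.sum_congr rfl fun j _ => by
          rw [map_mul, MvPolynomial.eval_C, MvPolynomial.eval_X, mul_comm]
      · rintro a b ⟨ha, ha'⟩ ⟨hb, hb'⟩
        exact ⟨add_mem ha hb, by rw [hadd _ a ha b hb, map_add, ha', hb']⟩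
  have hmem : ∀ d, 1 ≤ d → ∀ g ∈ I ^ (d * c'),
      Φ d g ∈ (I ^ t₀).map (MvPolynomial.C : A →+* MvPolynomial (Fin r) A) := by
    intro d hd
    induction d, hd using Nat.le_induction with
    | base => intro g hg; exact h1mem g (by rwa [one_mul] at hg)
    | succ d hd ih =>
      intro g hg
      have hg' : g ∈ I ^ (d * c') * I ^ c' := by rwa [← pow_add, ← Nat.succ_mul]
      refine (Submodule.mul_induction_on (C := fun x => x ∈ I ^ ((d + 1) * c') ∧
        Φ (d + 1) x ∈ (I ^ t₀).map (MvPolynomial.C : A →+* MvPolynomial (Fin r) A)) hg'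
          (fun a ha b hb => ?_) ?_).2
      · refine ⟨by rw [Nat.succ_mul, pow_add]; exact Ideal.mul_mem_mul ha hb, ?_⟩
        rw [hmul d 1 a ha b (by rwa [one_mul])]
        exact Ideal.mul_mem_left _ _ (h1mem b hb)
      · rintro a b ⟨ha, ha'⟩ ⟨hb, hb'⟩
        exact ⟨add_mem ha hb, by rw [hadd _ a ha b hb]; exact add_mem ha' hb'⟩
  obtain ⟨k, g, hspan⟩ := Submodule.fg_iff_exists_fin_generating_family.1
    (IsNoetherian.noetherian (I ^ (n * c')))
  have hg : ∀ i, g i ∈ I ^ (n * c') := fun i => hspan.le (Submodule.subset_span ⟨i, rfl⟩)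
  let vec : A → (limit G ⟶ ⨁ (fun _ : ↥(Finset.Nat.antidiagonalTuple r n) ↦ limit G)) := fun x =>
    biproduct.lift fun e => Formal.smulMod A (limit G)
      (MvPolynomial.coeff (Finsupp.equivFunOnFinite.symm e.1) (Φ n x))
  let Ψ := biproduct.desc fun i : Fin k => Formal.smulMod A (limit G) (g i)
  let Ψt := biproduct.desc fun i : Fin k => elemLift (M := limit G) (hg i)
  haveI : Epi Ψt := epi_desc_elemLift g hg hspan
  have hker : kernel.ι Ψ ≫ biproduct.desc (fun i => vec (g i)) = 0 := by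
    refine biproduct.hom_ext _ _ fun e => ?_
    let co : Fin k → A := fun i => MvPolynomial.coeff (Finsupp.equivFunOnFinite.symm e.1) (Φ n (g i))
    have he : biproduct.desc (fun i => vec (g i)) ≫ biproduct.π _ e =
        biproduct.desc fun i : Fin k => Formal.smulMod A (limit G) (co i) := by
      refine biproduct.hom_ext' _ _ fun i => ?_
      simp only [vec, co, biproduct.ι_desc_assoc, biproduct.ι_desc, biproduct.lift_π]
    rw [Category.assoc, he, zero_comp]
    rcases Nat.eq_zero_or_pos n with hn | hn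
    · have hco : co = g := funext fun i => by
        subst hn
        have he0 : Finsupp.equivFunOnFinite.symm e.1 = 0 := by
          ext j
          exact Finset.sum_eq_zero_iff.1 (Finset.Nat.mem_antidiagonalTuple.1 e.2) j (Finset.mem_univ j)
        simp only [co, hC, he0, MvPolynomial.coeff_zero_C]
      rw [hco]
      exact kernel.condition Ψ
    · refine kernel_comp_desc_eq_zero g (ht₀ t₀ le_rfl k (n * c') g hspan co
        (fun i => MvPolynomial.mem_map_C_iff.1 (hmem n hn _ (hg i)) _) fun i l => ?_)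
      have e1 := congrArg (MvPolynomial.coeff (Finsupp.equivFunOnFinite.symm e.1))
        ((hsmul n (g l) _ (hg i)).symm.trans ((congrArg (Φ n) (mul_comm (g l) (g i))).trans
          (hsmul n (g i) _ (hg l))))
      simpa only [MvPolynomial.coeff_smul, smul_eq_mul] using e1
  have hΨ : Ψt ≫ Formal2.idealPowModι I (n * c') (limit G) = Ψ := by
    refine biproduct.hom_ext' _ _ fun i => ?_
    simp only [Ψt, Ψ, biproduct.ι_desc_assoc, biproduct.ι_desc, elemLift_ι]
  have hkt : kernel.ι Ψt ≫ biproduct.desc (fun i => vec (g i)) = 0 := by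
    have h : kernel.ι Ψt ≫ Ψ = 0 := by rw [← hΨ, kernel.condition_assoc, zero_comp]
    rw [← kernel.lift_ι Ψ _ h, Category.assoc, hker, comp_zero]
  let ΦF := Abelian.epiDesc Ψt (biproduct.desc fun i => vec (g i)) hkt
  have hgi : ∀ i, elemLift (M := limit G) (hg i) ≫ ΦF = vec (g i) := fun i => by
    have := congrArg (fun z => biproduct.ι _ i ≫ z)
      (Abelian.comp_epiDesc Ψt (biproduct.desc fun i => vec (g i)) hkt)
    simpa only [Ψt, biproduct.ι_desc_assoc, biproduct.ι_desc] using this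
  have hprop : ∀ x ∈ I ^ (n * c'), ∀ γ : limit G ⟶ Formal2.idealPowMod I (n * c') (limit G),
      γ ≫ Formal2.idealPowModι I (n * c') (limit G) = Formal.smulMod A (limit G) x → γ ≫ ΦF = vec x := by
    intro x hx γ hγ
    obtain ⟨a, ha⟩ := (Submodule.mem_span_range_iff_exists_fun A).1 (hspan.ge hx)
    have hxa : x = ∑ i, a i * g i := ha.symm
    rw [eq_sum_elemLift g hg a hxa γ hγ, Preadditive.sum_comp]
    have hL : Φ n x = ∑ i, a i • Φ n (g i) := by
      have hx' : (⟨x, hx⟩ : ↥(I ^ (n * c'))) = ∑ i, a i • (⟨g i, hg i⟩ : ↥(I ^ (n * c'))) := by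
        apply Subtype.ext
        simp only [Submodule.coe_sum, Submodule.coe_smul, smul_eq_mul, hxa]
      exact (congrArg (L n) hx').trans ((map_sum _ _ _).trans
        (Finset.sum_congr rfl fun i _ => map_smul _ _ _))
    refine biproduct.hom_ext _ _ fun e => ?_
    rw [Preadditive.sum_comp]
    simp only [vec, biproduct.lift_π, hL, MvPolynomial.coeff_sum, MvPolynomial.coeff_smul, smul_eq_mul]
    rw [smulMod_sum]
    refine Finset.sum_congr rfl fun i _ => ?_
    rw [Category.assoc, Category.assoc, ← Category.assoc (elemLift (hg i)), hgi]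
    simp only [vec, biproduct.lift_π]
    rw [mul_comm, Groth.Agent.Coherent.smulMod_mul]
  refine ⟨ΦF, hprop, ?_, fun ΦF' h' => ?_⟩
  · rw [← cancel_epi Ψt]
    refine biproduct.hom_ext' _ _ fun i => ?_
    simp only [Ψt, biproduct.ι_desc_assoc]
    rw [elemLift_ι, ← Category.assoc, hgi]
    simp only [vec, biproduct.lift_desc, ← Groth.Agent.Coherent.smulMod_mul]
    rw [← smulMod_sum]
    congr 1
    conv_rhs => rw [← heval n (g i) (hg i), eval_eq_sum_tuple f (hhom n (g i) (hg i))]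
    exact Finset.sum_congr rfl fun e _ => mul_comm _ _
  · rw [← cancel_epi Ψt]
    refine biproduct.hom_ext' _ _ fun i => ?_
    simp only [Ψt, biproduct.ι_desc_assoc]
    rw [hgi, h' (g i) (hg i) _ (elemLift_ι (hg i))]

end Groth.Agent.S8842
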