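import Groth.Statements.S8843
import Groth.Agent.AdicRing.RigFlat

set_option autoImplicit false
universe u
open AdicRing

namespace Groth.Agent.S8843

set_option maxHeartbeats 1000000

/-- Let A be a Noetherian ring complete for the adic topology of an ideal I, B a Noetherian A-algebra
complete for the IB-adic topology with B/IB of finite type over A, and C a Noetherian B-algebra,
compatibly an A-algebra, complete for the IC-adic topology with C/IC of finite type over B (so A → B
→ C are adic morphisms of adic Noetherian topological rings, topologically of finite type). Assume A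
→ B and B → C are rig-flat, in the following form: for every f ∈ A and the canonical map ψ : A_{f} →
B_{f} of completed principal localizations (the I-adic completions of A_f → B_f; ψ is characterised
as any ring map compatible with A_f → B_f, and there is exactly one), the local ring (B_{f})_q is
flat over A_{f} via ψ for every rig-closed prime q of B_{f} (I B_{f} ⊄ q and q maximal among the
primes not containing I B_{f}); and likewise for B → C with g ∈ B and rig-closed primes of C_{g}.
Then A → C is rig-flat in the same form: for every f ∈ A, every ring map A_{f} → C_{f} compatible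
with A_f → C_f, and every rig-closed prime q of C_{f}, the local ring (C_{f})_q is flat over A_{f}.
(That A → C is again adic and topologically of finite type is not restated.) -/
theorem result (A : Type u) [CommRing A] [IsNoetherianRing A] (I : Ideal A) [IsAdicComplete I A] (B : Type u) [CommRing B] [Algebra A B] [IsNoetherianRing B] [IsAdicComplete (I.map (algebraMap A B)) B] (hftB : Algebra.FiniteType A (B ⧸ (I.map (algebraMap A B)))) (C : Type u) [CommRing C] [Algebra A C] [Algebra B C] [IsScalarTower A B C] [IsNoetherianRing C] [IsAdicComplete (I.map (algebraMap A C)) C] (hftC : Algebra.FiniteType B (C ⧸ (I.map (algebraMap A C)))) (hAB : (∀ f : A, ∀ ψf : (AdicCompletion (I.map (algebraMap A (Localization.Away f))) (Localization.Away f)) →+* (AdicCompletion ((I.map (algebraMap A B)).map (algebraMap B (Localization.Away (algebraMap A B f)))) (Localization.Away (algebraMap A B f))), ψf.comp (algebraMap (Localization.Away f) (AdicCompletion (I.map (algebraMap A (Localization.Away f))) (Localization.Away f))) = (algebraMap (Localization.Away (algebraMap A B f)) (AdicCompletion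 ((I.map (algebraMap A B)).map (algebraMap B (Localization.Away (algebraMap A B f)))) (Localization.Away (algebraMap A B f)))).comp (Localization.awayMap (algebraMap A B) f) → ∀ qf : PrimeSpectrum (AdicCompletion ((I.map (algebraMap A B)).map (algebraMap B (Localization.Away (algebraMap A B f)))) (Localization.Away (algebraMap A B f))), (¬ (((I.map (algebraMap A B)).map (algebraMap B (Localization.Away (algebraMap A B f)))).map (algebraMap (Localization.Away (algebraMap A B f)) (AdicCompletion ((I.map (algebraMap A B)).map (algebraMap B (Localization.Away (algebraMap A B f)))) (Localization.Away (algebraMap A B f))))) ≤ qf.asIdeal ∧ ∀ y : PrimeSpectrum (AdicCompletion ((I.map (algebraMap A B)).map (algebraMap B (Localization.Away (algebraMap A B f)))) (Localization.Away (algebraMap A B f))), qf ≤ y → ¬ (((I.map (algebraMap A B)).map (algebraMap B (Localization.Away (algebraMap A B f)))).map (algebraMap (Localization.Away (algebraMap A B f)) (AdicCompletion ((I.map (algebraMap A B)).map (algebraMap B (Localization.Away (algebraMap A B f)))) (Localization.Away (algebraMap A B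 f))))) ≤ y.asIdeal → y = qf) → ((algebraMap (AdicCompletion ((I.map (algebraMap A B)).map (algebraMap B (Localization.Away (algebraMap A B f)))) (Localization.Away (algebraMap A B f))) (Localization.AtPrime qf.asIdeal)).comp ψf).Flat)) (hBC : (∀ g : B, ∀ ψg : (AdicCompletion ((I.map (algebraMap A B)).map (algebraMap B (Localization.Away g))) (Localization.Away g)) →+* (AdicCompletion (((I.map (algebraMap A B)).map (algebraMap B C)).map (algebraMap C (Localization.Away (algebraMap B C g)))) (Localization.Away (algebraMap B C g))), ψg.comp (algebraMap (Localization.Away g) (AdicCompletion ((I.map (algebraMap A B)).map (algebraMap B (Localization.Away g))) (Localization.Away g))) = (algebraMap (Localization.Away (algebraMap B C g)) (AdicCompletion (((I.map (algebraMap A B)).map (algebraMap B C)).map (algebraMap C (Localization.Away (algebraMap B C g)))) (Localization.Away (algebraMap B C g)))).comp (Localization.awayMap (algebraMap B C) g) → ∀ qg : PrimeSpectrum (AdicCompletion (((I.map (algebraMap A B)).map (algebraMap B C)).map (algebraMap C (Localization.Away (algebraMap B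 C g)))) (Localization.Away (algebraMap B C g))), (¬ ((((I.map (algebraMap A B)).map (algebraMap B C)).map (algebraMap C (Localization.Away (algebraMap B C g)))).map (algebraMap (Localization.Away (algebraMap B C g)) (AdicCompletion (((I.map (algebraMap A B)).map (algebraMap B C)).map (algebraMap C (Localization.Away (algebraMap B C g)))) (Localization.Away (algebraMap B C g))))) ≤ qg.asIdeal ∧ ∀ y : PrimeSpectrum (AdicCompletion (((I.map (algebraMap A B)).map (algebraMap B C)).map (algebraMap C (Localization.Away (algebraMap B C g)))) (Localization.Away (algebraMap B C g))), qg ≤ y → ¬ ((((I.map (algebraMap A B)).map (algebraMap B C)).map (algebraMap C (Localization.Away (algebraMap B C g)))).map (algebraMap (Localization.Away (algebraMap B C g)) (AdicCompletion (((I.map (algebraMap A B)).map (algebraMap B C)).map (algebraMap C (Localization.Away (algebraMap B C g)))) (Localization.Away (algebraMap B C g))))) ≤ y.asIdeal → y = qg) → ((algebraMap (AdicCompletion (((I.map (algebraMap A B)).map (algebraMap B C)).map (algebraMap C (Localization.Away (algebraMap B C g)))) (Localization.Away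 (algebraMap B C g))) (Localization.AtPrime qg.asIdeal)).comp ψg).Flat)) : (∀ e : A, ∀ ψe : (AdicCompletion (I.map (algebraMap A (Localization.Away e))) (Localization.Away e)) →+* (AdicCompletion ((I.map (algebraMap A C)).map (algebraMap C (Localization.Away (algebraMap A C e)))) (Localization.Away (algebraMap A C e))), ψe.comp (algebraMap (Localization.Away e) (AdicCompletion (I.map (algebraMap A (Localization.Away e))) (Localization.Away e))) = (algebraMap (Localization.Away (algebraMap A C e)) (AdicCompletion ((I.map (algebraMap A C)).map (algebraMap C (Localization.Away (algebraMap A C e)))) (Localization.Away (algebraMap A C e)))).comp (Localization.awayMap (algebraMap A C) e) → ∀ qe : PrimeSpectrum (AdicCompletion ((I.map (algebraMap A C)).map (algebraMap C (Localization.Away (algebraMap A C e)))) (Localization.Away (algebraMap A C e))), (¬ (((I.map (algebraMap A C)).map (algebraMap C (Localization.Away (algebraMap A C e)))).map (algebraMap (Localization.Away (algebraMap A C e)) (AdicCompletion ((I.map (algebraMap A C)).map (algebraMap C (Localization.Away (algebraMap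 A C e)))) (Localization.Away (algebraMap A C e))))) ≤ qe.asIdeal ∧ ∀ y : PrimeSpectrum (AdicCompletion ((I.map (algebraMap A C)).map (algebraMap C (Localization.Away (algebraMap A C e)))) (Localization.Away (algebraMap A C e))), qe ≤ y → ¬ (((I.map (algebraMap A C)).map (algebraMap C (Localization.Away (algebraMap A C e)))).map (algebraMap (Localization.Away (algebraMap A C e)) (AdicCompletion ((I.map (algebraMap A C)).map (algebraMap C (Localization.Away (algebraMap A C e)))) (Localization.Away (algebraMap A C e))))) ≤ y.asIdeal → y = qe) → ((algebraMap (AdicCompletion ((I.map (algebraMap A C)).map (algebraMap C (Localization.Away (algebraMap A C e)))) (Localization.Away (algebraMap A C e))) (Localization.AtPrime qe.asIdeal)).comp ψe).Flat) := by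
  classical
  intro e ψe hψe qe hqe
  let KB : Ideal B := I.map (algebraMap A B)
  let KC : Ideal C := I.map (algebraMap A C)
  have hKC : KB.map (algebraMap B C) = KC := by
    rw [Ideal.map_map, ← IsScalarTower.algebraMap_eq]
  let A1 := Groth.Agent.AdicRing.CompLoc I e
  let C1 := Groth.Agent.AdicRing.CompLoc KC (algebraMap A C e)
  haveI : IsNoetherianRing C1 := Groth.Agent.AdicRing.isNoetherianRing_compLoc KC _
  have hK1 : (KC.map (algebraMap C (Localization.Away (algebraMap A C e)))).map
      (algebraMap (Localization.Away (algebraMap A C e)) C1) = KC.map (algebraMap C C1) :=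
    (Ideal.map_map _ _).trans (congrArg (fun φ => Ideal.map φ KC)
      (IsScalarTower.algebraMap_eq C (Localization.Away (algebraMap A C e)) C1).symm)
  have hI1 : I.map (algebraMap A C1) = KC.map (algebraMap C C1) :=
    (congrArg (fun φ => Ideal.map φ I) (IsScalarTower.algebraMap_eq A C C1)).trans (Ideal.map_map _ _).symm
  haveI : IsAdicComplete (I.map (algebraMap A C1)) C1 := hI1.symm ▸
    Groth.Agent.AdicRing.isAdicComplete_compLoc KC _
  change ¬ (KC.map (algebraMap C (Localization.Away (algebraMap A C e)))).map
      (algebraMap (Localization.Away (algebraMap A C e)) C1) ≤ qe.asIdeal ∧ ∀ y : PrimeSpectrum C1, qe ≤ y →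
    ¬ (KC.map (algebraMap C (Localization.Away (algebraMap A C e)))).map
      (algebraMap (Localization.Away (algebraMap A C e)) C1) ≤ y.asIdeal → y = qe at hqe
  rw [hK1, ← hI1] at hqe
  haveI := qe.isPrime
  have hftC' : Algebra.FiniteType A (C ⧸ KC) := by
    refine Groth.Agent.AdicRing.finiteType_of_quotient (A := A) KB ?_ hftB hftC
    rw [IsScalarTower.algebraMap_eq B C (C ⧸ KC), ← Ideal.map_map, hKC, Ideal.Quotient.algebraMap_eq,
      Ideal.map_quotient_self]
  have hft1 : Algebra.FiniteType A (C1 ⧸ I.map (algebraMap A C1)) := by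
    refine Groth.Agent.AdicRing.finiteType_of_quotient (A := A) KC ?_ hftC' ?_
    · rw [IsScalarTower.algebraMap_eq C C1 (C1 ⧸ I.map (algebraMap A C1)), ← Ideal.map_map, ← hI1,
        Ideal.Quotient.algebraMap_eq, Ideal.map_quotient_self]
    · rw [hI1]
      exact Groth.Agent.AdicRing.finiteType_compLoc_quotient KC _
  obtain ⟨f, hfu, hfin⟩ := Groth.Agent.AdicRing.exists_finite_quotient_over I hft1 qe hqe
  obtain ⟨hdim, -⟩ := ((Groth.Agent.S8804.result C1 (I.map (algebraMap A C1)) qe).out 0 1).1 hqe
  let D := C1 ⧸ qe.asIdeal
  let mkq : C1 →+* D := Ideal.Quotient.mk qe.asIdeal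
  let eB : B := algebraMap A B (e * f)
  let eC : C := algebraMap B C eB
  let A' := Groth.Agent.AdicRing.CompLoc I (e * f)
  let B' := Groth.Agent.AdicRing.CompLoc KB eB
  let C' := Groth.Agent.AdicRing.CompLoc (KB.map (algebraMap B C)) eC
  haveI : IsNoetherianRing A' := Groth.Agent.AdicRing.isNoetherianRing_compLoc I _
  haveI : IsNoetherianRing B' := Groth.Agent.AdicRing.isNoetherianRing_compLoc KB _
  haveI : IsNoetherianRing C' := Groth.Agent.AdicRing.isNoetherianRing_compLoc (KB.map (algebraMap B C)) _
  haveI := Groth.Agent.AdicRing.isAdicComplete_compLoc I (e * f)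
  haveI := Groth.Agent.AdicRing.isAdicComplete_compLoc KB eB
  haveI := Groth.Agent.AdicRing.isAdicComplete_compLoc (KB.map (algebraMap B C)) eC
  have heC : eC = algebraMap A C e * algebraMap A C f := by
    rw [← map_mul]
    exact (IsScalarTower.algebraMap_apply A B C (e * f)).symm
  have heC' : IsUnit (algebraMap C C' (algebraMap A C e)) := by
    have h := Groth.Agent.AdicRing.isUnit_algebraMap_compLoc (KB.map (algebraMap B C)) eC
    have hh : algebraMap C C' eC = algebraMap C C' (algebraMap A C e) * algebraMap C C' (algebraMap A C f) :=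
      (congrArg (algebraMap C C') heC).trans (map_mul _ _ _)
    exact isUnit_of_mul_isUnit_left ((congrArg IsUnit hh).mp h)
  -- the maps
  obtain ⟨ιC, hιC⟩ := Groth.Agent.AdicRing.exists_compLoc_hom KC (algebraMap A C e) (algebraMap C C') heC'
    ((KB.map (algebraMap B C)).map (algebraMap C C')) (le_of_eq (congrArg (Ideal.map (algebraMap C C')) hKC.symm))
  obtain ⟨ιA, hιA⟩ := Groth.Agent.AdicRing.exists_compLoc_hom I e (algebraMap A A')
    (isUnit_of_mul_isUnit_left (by
      rw [← map_mul]; exact Groth.Agent.AdicRing.isUnit_algebraMap_compLoc I (e * f)))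
    (I.map (algebraMap A A')) le_rfl
  obtain ⟨ψf, hψf⟩ := Groth.Agent.AdicRing.exists_compLoc_hom I (e * f)
    ((algebraMap B B').comp (algebraMap A B)) (Groth.Agent.AdicRing.isUnit_algebraMap_compLoc KB eB)
    (KB.map (algebraMap B B')) (le_of_eq (Ideal.map_map _ _).symm)
  obtain ⟨ψg, hψg⟩ := Groth.Agent.AdicRing.exists_compLoc_hom KB eB
    ((algebraMap C C').comp (algebraMap B C))
    (Groth.Agent.AdicRing.isUnit_algebraMap_compLoc (KB.map (algebraMap B C)) eC)
    ((KB.map (algebraMap B C)).map (algebraMap C C')) (le_of_eq (Ideal.map_map _ _).symm)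
  let JD : Ideal D := (I.map (algebraMap A C1)).map mkq
  haveI : IsAdicComplete JD D := by
    have h1 := Groth.Agent.AdicRing.isAdicComplete_of_finite (I.map (algebraMap A C1)) D
    exact (IsAdicComplete.map_algebraMap_iff (S := D) (I.map (algebraMap A C1)) D).2 h1
  obtain ⟨Φ, hΦ⟩ := Groth.Agent.AdicRing.exists_compLoc_hom (KB.map (algebraMap B C)) eC
    (mkq.comp (algebraMap C C1))
    (by
      rw [heC, map_mul]
      refine IsUnit.mul ((Groth.Agent.AdicRing.isUnit_algebraMap_compLoc KC _).map mkq) ?_
      rw [RingHom.comp_apply, ← IsScalarTower.algebraMap_apply A C C1]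
      exact hfu)
    JD (le_of_eq (((congrArg (Ideal.map (mkq.comp (algebraMap C C1))) hKC).trans (Ideal.map_map _ _).symm).trans (congrArg (Ideal.map mkq) hI1.symm)))
  have hKJ : ∀ c ∈ KC, mkq (algebraMap C C1 c) ∈ JD := fun c hc =>
    Ideal.mem_map_of_mem _ (hI1.symm ▸ Ideal.mem_map_of_mem _ hc)
  have hΦι : Φ.comp ιC = mkq :=
    Groth.Agent.AdicRing.compLoc_hom_ext KC (algebraMap A C e) JD
      (fun c => by rw [RingHom.comp_apply, hιC, hΦ]; rfl)
      (fun c hc => by rw [RingHom.comp_apply, hιC, hΦ]; exact hKJ c hc)
  have hsurj : Function.Surjective Φ := fun d => by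
    obtain ⟨z, rfl⟩ := Ideal.Quotient.mk_surjective d
    exact ⟨ιC z, RingHom.congr_fun hΦι z⟩
  haveI : IsDomain D := Ideal.Quotient.isDomain qe.asIdeal
  let q' : PrimeSpectrum C' := ⟨RingHom.ker Φ, RingHom.ker_isPrime Φ⟩
  have hJD : JD ≠ ⊥ := by
    rw [Ne, Ideal.map_eq_bot_iff_le_ker, Ideal.mk_ker]
    exact hqe.1
  have hq'I : ¬ (KB.map (algebraMap B C)).map (algebraMap C C') ≤ q'.asIdeal := by
    intro h
    refine hJD (le_bot_iff.1 ?_)
    change (I.map (algebraMap A C1)).map mkq ≤ ⊥
    refine Ideal.map_le_iff_le_comap.2 (hI1.le.trans (Ideal.map_le_iff_le_comap.2 fun c hc => ?_))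
    have h0 : Φ (algebraMap C C' c) = 0 := h (Ideal.mem_map_of_mem _ (hKC.symm ▸ hc))
    rw [hΦ] at h0
    exact h0
  have hq' := Groth.Agent.AdicRing.rigClosed_of_dim ((KB.map (algebraMap B C)).map (algebraMap C C')) q'
    ((ringKrullDim_eq_of_ringEquiv (RingHom.quotientKerEquivOfSurjective hsurj)).trans hdim) hq'I
  letI : Algebra A' D := ((Φ.comp ψg).comp ψf).toAlgebra
  haveI : IsScalarTower A A' D := IsScalarTower.of_algebraMap_eq fun a => by
    change _ = Φ (ψg (ψf (algebraMap A A' a)))
    rw [hψf, RingHom.comp_apply, hψg, RingHom.comp_apply, hΦ, RingHom.comp_apply,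
      ← IsScalarTower.algebraMap_apply A B C, ← IsScalarTower.algebraMap_apply A C C1]
    rfl
  haveI : Module.Finite A' D := hfin A' (isUnit_of_mul_isUnit_right (by
    rw [← map_mul]; exact Groth.Agent.AdicRing.isUnit_algebraMap_compLoc I (e * f)))
  letI : Algebra A' B' := ψf.toAlgebra
  letI : Algebra B' D := (Φ.comp ψg).toAlgebra
  haveI : IsScalarTower A' B' D := IsScalarTower.of_algebraMap_eq fun a => rfl
  haveI : Module.Finite B' D := Module.Finite.of_restrictScalars_finite A' B' D
  letI : Algebra B' C' := ψg.toAlgebra
  let Φ' : C' →ₐ[B'] D := { Φ with commutes' := fun b => rfl }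
  have hfinB : Module.Finite B' (C' ⧸ q'.asIdeal) :=
    Module.Finite.equiv (Ideal.quotientKerAlgEquivOfSurjective (f := Φ') hsurj).symm.toLinearEquiv
  have hKB' : (KB.map (algebraMap B B')).map (algebraMap B' C') =
      (KB.map (algebraMap B C)).map (algebraMap C C') :=
    ((Ideal.map_map _ _).trans (congrArg (fun φ => Ideal.map φ KB) (RingHom.ext hψg))).trans
      (Ideal.map_map _ _).symm
  haveI : IsAdicComplete ((KB.map (algebraMap B B')).map (algebraMap B' C')) C' := by
    rw [hKB']; infer_instance
  have hr := Groth.Agent.AdicRing.rigClosed_comap_of_finite (A := B') (B := C')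
    (KB.map (algebraMap B B')) q' (by rw [hKB']; exact hq') hfinB
  set r := PrimeSpectrum.comap (algebraMap B' C') q'
  have hcB : (KB.map (algebraMap B (Localization.Away eB))).map (algebraMap (Localization.Away eB) B') =
      KB.map (algebraMap B B') :=
    (Ideal.map_map _ _).trans (congrArg (fun φ => Ideal.map φ KB)
      (IsScalarTower.algebraMap_eq B (Localization.Away eB) B').symm)
  have hcC : ((KB.map (algebraMap B C)).map (algebraMap C (Localization.Away eC))).map
      (algebraMap (Localization.Away eC) C') = (KB.map (algebraMap B C)).map (algebraMap C C') :=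
    (Ideal.map_map _ _).trans (congrArg (fun φ => Ideal.map φ (KB.map (algebraMap B C)))
      (IsScalarTower.algebraMap_eq C (Localization.Away eC) C').symm)
  have h1 := hAB (e * f) ψf
    (Groth.Agent.AdicRing.comp_awayMap_of_comp_algebraMap I KB (e * f) ψf hψf) r
    (by rw [← hcB] at hr; exact hr)
  have h2 := hBC eB ψg
    (Groth.Agent.AdicRing.comp_awayMap_of_comp_algebraMap KB (KB.map (algebraMap B C)) eB ψg hψg) q'
    (by rw [← hcC] at hq'; exact hq')
  haveI := r.isPrime
  haveI := q'.isPrime
  let Br := Localization.AtPrime r.asIdeal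
  let L' := Localization.AtPrime q'.asIdeal
  let L := Localization.AtPrime qe.asIdeal
  let jB : Br →+* L' := Localization.localRingHom r.asIdeal q'.asIdeal ψg rfl
  have hjBflat : jB.Flat := by
    letI : Algebra Br L' := jB.toAlgebra
    haveI : IsScalarTower B' Br L' := IsScalarTower.of_algebraMap_eq fun b => by
      rw [IsScalarTower.algebraMap_apply B' C' L']
      exact (Localization.localRingHom_to_map r.asIdeal q'.asIdeal ψg rfl b).symm
    haveI : Module.Flat B' L' := RingHom.flat_algebraMap_iff.1 (by
      rw [IsScalarTower.algebraMap_eq B' C' L']; exact h2)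
    exact (Module.flat_iff_of_isLocalization Br r.asIdeal.primeCompl L').2 inferInstance
  have hιCq : qe.asIdeal = q'.asIdeal.comap ιC := by
    ext z
    change z ∈ qe.asIdeal ↔ Φ (ιC z) = 0
    rw [← RingHom.comp_apply, hΦι, Ideal.Quotient.eq_zero_iff_mem]
  let j : L →+* L' := Localization.localRingHom qe.asIdeal q'.asIdeal ιC hιCq
  have hιCflat : (ιC).Flat := by
    have key : ∀ (K' : Ideal C) (hK : K' = KC) (J : Groth.Agent.AdicRing.CompLoc KC (algebraMap A C e) →+*
        Groth.Agent.AdicRing.CompLoc K' eC), (∀ c, J (algebraMap C _ c) = algebraMap C _ c) → J.Flat := by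
      rintro K' rfl J hJ
      refine Groth.Agent.AdicRing.flat_compLoc_hom KC (algebraMap A C e) eC J hJ ?_
      have h := IsLocalization.Away.algebraMap_isUnit (S := Localization.Away eC) eC
      rw [show algebraMap C (Localization.Away eC) eC = algebraMap C _ (algebraMap A C e) *
        algebraMap C _ (algebraMap A C f) by rw [← map_mul, ← heC]] at h
      exact isUnit_of_mul_isUnit_left h
    exact key _ hKC ιC hιC
  haveI : IsLocalHom j := Localization.isLocalHom_localRingHom qe.asIdeal q'.asIdeal ιC hιCq
  refine Groth.Agent.AdicRing.flat_of_flat_comp_of_isLocalHom _ j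
    (Groth.Agent.AdicRing.flat_localRingHom ιC hιCflat q'.asIdeal qe.asIdeal hιCq) ?_
  have hψe' : ∀ a, ψe (algebraMap A A1 a) = algebraMap C C1 (algebraMap A C a) :=
    Groth.Agent.AdicRing.comp_algebraMap_of_comp_awayMap I KC e ψe hψe
  have hsq : ιC.comp ψe = (ψg.comp ψf).comp ιA := by
    refine Groth.Agent.AdicRing.compLoc_hom_ext I e ((KB.map (algebraMap B C)).map (algebraMap C C'))
      (fun a => ?_) fun a ha => ?_
    · simp only [RingHom.comp_apply]
      rw [hψe', hιC, hιA, hψf, RingHom.comp_apply, hψg, RingHom.comp_apply,
        ← IsScalarTower.algebraMap_apply A B C]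
    · rw [RingHom.comp_apply, hψe', hιC]
      exact Ideal.mem_map_of_mem _ (hKC.symm ▸ Ideal.mem_map_of_mem _ ha)
  have heq : j.comp ((algebraMap C1 L).comp ψe) =
      (jB.comp ((algebraMap B' Br).comp ψf)).comp ιA := by
    refine RingHom.ext fun x => ?_
    simp only [RingHom.comp_apply]
    rw [show jB (algebraMap B' Br (ψf (ιA x))) = algebraMap C' L' (ψg (ψf (ιA x))) from
        Localization.localRingHom_to_map r.asIdeal q'.asIdeal ψg rfl _,
      show j (algebraMap C1 L (ψe x)) = algebraMap C' L' (ιC (ψe x)) from
        Localization.localRingHom_to_map qe.asIdeal q'.asIdeal ιC hιCq _]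
    exact congrArg _ (RingHom.congr_fun hsq x)
  change (j.comp ((algebraMap C1 L).comp ψe)).Flat
  rw [heq]
  refine RingHom.Flat.comp (Groth.Agent.AdicRing.flat_compLoc_hom I e (e * f) ιA hιA ?_)
    (RingHom.Flat.comp h1 hjBflat)
  have h := IsLocalization.Away.algebraMap_isUnit (S := Localization.Away (e * f)) (e * f)
  rw [map_mul] at h
  exact isUnit_of_mul_isUnit_left h

end Groth.Agent.S8843
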