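import Groth.Statements.S8844
import Groth.Agent.AdicRing.RigFlat
import Groth.Agent.S8836
import Mathlib.RingTheory.Spectrum.Prime.RingHom
import Mathlib.RingTheory.Flat.FaithfullyFlat.Algebra

set_option autoImplicit false
universe u
open AdicRing

namespace Groth.Agent.S8844

set_option maxHeartbeats 1000000

/-- Consider a commutative square of adic Noetherian topological rings with all maps adic and
topologically of finite type: A a Noetherian ring complete for the adic topology of an ideal I; B,
A' and B' Noetherian algebras complete for the IB-, IA'- and IB'-adic topologies, B' an algebra over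
B and over A' compatibly with A, with B/IB and A'/IA' of finite type over A and B'/IB' of finite
type over B and over A'. Assume A → A' is flat and B → B' is faithfully flat. If A' → B' is rig-flat
— for every f' ∈ A', every ring map A'_{f'} → B'_{f'} of completed principal localizations
compatible with the map of ordinary localizations A'[1/f'] → B'[1/f'] (there is exactly one), and
every rig-closed prime q of B'_{f'} (I B'_{f'} ⊄ q and q maximal among the primes not containing I
B'_{f'}), the local ring (B'_{f'})_q is flat over A'_{f'} — then A → B is rig-flat in the same form: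
for every f ∈ A, every ring map A_{f} → B_{f} of completed principal localizations compatible with
the map of ordinary localizations A[1/f] → B[1/f], and every rig-closed prime q of B_{f}, the local
ring (B_{f})_q is flat over A_{f}. -/
theorem result (A : Type u) [CommRing A] [IsNoetherianRing A] (I : Ideal A) [IsAdicComplete I A] (B : Type u) [CommRing B] [Algebra A B] [IsNoetherianRing B] [IsAdicComplete (I.map (algebraMap A B)) B] (hftB : Algebra.FiniteType A (B ⧸ (I.map (algebraMap A B)))) (A' : Type u) [CommRing A'] [Algebra A A'] [IsNoetherianRing A'] [IsAdicComplete (I.map (algebraMap A A')) A'] (hftA' : Algebra.FiniteType A (A' ⧸ (I.map (algebraMap A A')))) (B' : Type u) [CommRing B'] [Algebra A B'] [Algebra B B'] [Algebra A' B'] [IsScalarTower A B B'] [IsScalarTower A A' B'] [IsNoetherianRing B'] [IsAdicComplete (I.map (algebraMap A B')) B'] (hftB'B : Algebra.FiniteType B (B' ⧸ (I.map (algebraMap A B')))) (hftB'A' : Algebra.FiniteType A' (B' ⧸ (I.map (algebraMap A B')))) [Module.Flat A A'] [Module.FaithfullyFlat B B'] (hA'B' : (∀ f' :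 A', ∀ ψf' : (AdicCompletion ((I.map (algebraMap A A')).map (algebraMap A' (Localization.Away f'))) (Localization.Away f')) →+* (AdicCompletion (((I.map (algebraMap A A')).map (algebraMap A' B')).map (algebraMap B' (Localization.Away (algebraMap A' B' f')))) (Localization.Away (algebraMap A' B' f'))), ψf'.comp (algebraMap (Localization.Away f') (AdicCompletion ((I.map (algebraMap A A')).map (algebraMap A' (Localization.Away f'))) (Localization.Away f'))) = (algebraMap (Localization.Away (algebraMap A' B' f')) (AdicCompletion (((I.map (algebraMap A A')).map (algebraMap A' B')).map (algebraMap B' (Localization.Away (algebraMap A' B' f')))) (Localization.Away (algebraMap A' B' f')))).comp (Localization.awayMap (algebraMap A' B') f') → ∀ qf' : PrimeSpectrum (AdicCompletion (((I.map (algebraMap A A')).map (algebraMap A' B')).map (algebraMap B' (Localization.Away (algebraMap A' B' f')))) (Localization.Away (algebraMap A' B' f'))), (¬ ((((I.map (algebraMap A A')).map (algebraMap A' B')).map (algebraMap B' (Localization.Away (algebraMap A' B' f')))).map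 (algebraMap (Localization.Away (algebraMap A' B' f')) (AdicCompletion (((I.map (algebraMap A A')).map (algebraMap A' B')).map (algebraMap B' (Localization.Away (algebraMap A' B' f')))) (Localization.Away (algebraMap A' B' f'))))) ≤ qf'.asIdeal ∧ ∀ y : PrimeSpectrum (AdicCompletion (((I.map (algebraMap A A')).map (algebraMap A' B')).map (algebraMap B' (Localization.Away (algebraMap A' B' f')))) (Localization.Away (algebraMap A' B' f'))), qf' ≤ y → ¬ ((((I.map (algebraMap A A')).map (algebraMap A' B')).map (algebraMap B' (Localization.Away (algebraMap A' B' f')))).map (algebraMap (Localization.Away (algebraMap A' B' f')) (AdicCompletion (((I.map (algebraMap A A')).map (algebraMap A' B')).map (algebraMap B' (Localization.Away (algebraMap A' B' f')))) (Localization.Away (algebraMap A' B' f'))))) ≤ y.asIdeal → y = qf') → ((algebraMap (AdicCompletion (((I.map (algebraMap A A')).map (algebraMap A' B')).map (algebraMap B' (Localization.Away (algebraMap A' B' f')))) (Localization.Away (algebraMap A' B' f'))) (Localization.AtPrime qf'.asIdeal)).comp ψf').Flat))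 : (∀ f : A, ∀ ψf : (AdicCompletion (I.map (algebraMap A (Localization.Away f))) (Localization.Away f)) →+* (AdicCompletion ((I.map (algebraMap A B)).map (algebraMap B (Localization.Away (algebraMap A B f)))) (Localization.Away (algebraMap A B f))), ψf.comp (algebraMap (Localization.Away f) (AdicCompletion (I.map (algebraMap A (Localization.Away f))) (Localization.Away f))) = (algebraMap (Localization.Away (algebraMap A B f)) (AdicCompletion ((I.map (algebraMap A B)).map (algebraMap B (Localization.Away (algebraMap A B f)))) (Localization.Away (algebraMap A B f)))).comp (Localization.awayMap (algebraMap A B) f) → ∀ qf : PrimeSpectrum (AdicCompletion ((I.map (algebraMap A B)).map (algebraMap B (Localization.Away (algebraMap A B f)))) (Localization.Away (algebraMap A B f))), (¬ (((I.map (algebraMap A B)).map (algebraMap B (Localization.Away (algebraMap A B f)))).map (algebraMap (Localization.Away (algebraMap A B f)) (AdicCompletion ((I.map (algebraMap A B)).map (algebraMap B (Localization.Away (algebraMap A B f)))) (Localization.Away (algebraMap A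 B f))))) ≤ qf.asIdeal ∧ ∀ y : PrimeSpectrum (AdicCompletion ((I.map (algebraMap A B)).map (algebraMap B (Localization.Away (algebraMap A B f)))) (Localization.Away (algebraMap A B f))), qf ≤ y → ¬ (((I.map (algebraMap A B)).map (algebraMap B (Localization.Away (algebraMap A B f)))).map (algebraMap (Localization.Away (algebraMap A B f)) (AdicCompletion ((I.map (algebraMap A B)).map (algebraMap B (Localization.Away (algebraMap A B f)))) (Localization.Away (algebraMap A B f))))) ≤ y.asIdeal → y = qf) → ((algebraMap (AdicCompletion ((I.map (algebraMap A B)).map (algebraMap B (Localization.Away (algebraMap A B f)))) (Localization.Away (algebraMap A B f))) (Localization.AtPrime qf.asIdeal)).comp ψf).Flat) := by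
  classical
  intro f ψf hψf qf hqf
  let KB : Ideal B := I.map (algebraMap A B)
  let KA' : Ideal A' := I.map (algebraMap A A')
  let K' : Ideal B' := KA'.map (algebraMap A' B')
  have hK' : KB.map (algebraMap B B') = K' :=
    ((Ideal.map_map _ _).trans (congrArg (fun φ => Ideal.map φ I) (IsScalarTower.algebraMap_eq A B B').symm)).trans
      ((congrArg (fun φ => Ideal.map φ I) (IsScalarTower.algebraMap_eq A A' B')).trans (Ideal.map_map _ _).symm)
  have hKI : K' = I.map (algebraMap A B') :=
    (Ideal.map_map _ _).trans (congrArg (fun φ => Ideal.map φ I) (IsScalarTower.algebraMap_eq A A' B').symm)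
  let fB := algebraMap A B f
  let f' := algebraMap A A' f
  let fB' := algebraMap A' B' f'
  let Af := Groth.Agent.AdicRing.CompLoc I f
  let Bf := Groth.Agent.AdicRing.CompLoc KB fB
  let Af' := Groth.Agent.AdicRing.CompLoc KA' f'
  let Bf' := Groth.Agent.AdicRing.CompLoc K' fB'
  haveI : IsNoetherianRing Bf := Groth.Agent.AdicRing.isNoetherianRing_compLoc KB fB
  haveI : IsNoetherianRing Bf' := Groth.Agent.AdicRing.isNoetherianRing_compLoc K' fB'
  haveI := Groth.Agent.AdicRing.isAdicComplete_compLoc KA' f'
  haveI := Groth.Agent.AdicRing.isAdicComplete_compLoc KB fB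
  haveI := Groth.Agent.AdicRing.isAdicComplete_compLoc K' fB'
  have hfB' : algebraMap B B' fB = fB' := by
    change algebraMap B B' (algebraMap A B f) = algebraMap A' B' (algebraMap A A' f)
    rw [← IsScalarTower.algebraMap_apply A B B', ← IsScalarTower.algebraMap_apply A A' B']
  obtain ⟨ιA, hιA⟩ := Groth.Agent.AdicRing.exists_compLoc_hom I f
    ((algebraMap A' Af').comp (algebraMap A A')) (Groth.Agent.AdicRing.isUnit_algebraMap_compLoc KA' f')
    (KA'.map (algebraMap A' Af')) (le_of_eq (Ideal.map_map _ _).symm)
  obtain ⟨ιB, hιB⟩ := Groth.Agent.AdicRing.exists_compLoc_hom KB fB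
    ((algebraMap B' Bf').comp (algebraMap B B'))
    ((congrArg (fun x => IsUnit (algebraMap B' Bf' x)) hfB').mpr
      (Groth.Agent.AdicRing.isUnit_algebraMap_compLoc K' fB'))
    (K'.map (algebraMap B' Bf'))
    (le_of_eq ((Ideal.map_map _ _).symm.trans (congrArg (Ideal.map (algebraMap B' Bf')) hK')))
  obtain ⟨ψ', hψ'⟩ := Groth.Agent.AdicRing.exists_compLoc_hom KA' f'
    ((algebraMap B' Bf').comp (algebraMap A' B')) (Groth.Agent.AdicRing.isUnit_algebraMap_compLoc K' fB')
    (K'.map (algebraMap B' Bf')) (le_of_eq (Ideal.map_map _ _).symm)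
  haveI : Module.Flat B B' := inferInstance
  have hιAflat := Groth.Agent.AdicRing.flat_compLoc_hom_of_flat I f KA' rfl f' ιA hιA
    (IsLocalization.Away.algebraMap_isUnit f')
  have hιBflat := Groth.Agent.AdicRing.flat_compLoc_hom_of_flat KB fB K' hK' fB' ιB hιB
    ((congrArg (fun x => IsUnit (algebraMap B' (Localization.Away fB') x)) hfB').mpr
      (IsLocalization.Away.algebraMap_isUnit fB'))
  have hKf : (KB.map (algebraMap B (Localization.Away fB))).map (algebraMap (Localization.Away fB) Bf) =
      KB.map (algebraMap B Bf) :=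
    (Ideal.map_map _ _).trans (congrArg (fun φ => Ideal.map φ KB)
      (IsScalarTower.algebraMap_eq B (Localization.Away fB) Bf).symm)
  have hKf' : (K'.map (algebraMap B' (Localization.Away fB'))).map
      (algebraMap (Localization.Away fB') Bf') = K'.map (algebraMap B' Bf') :=
    (Ideal.map_map _ _).trans (congrArg (fun φ => Ideal.map φ K')
      (IsScalarTower.algebraMap_eq B' (Localization.Away fB') Bf').symm)
  change ¬ (KB.map (algebraMap B (Localization.Away fB))).map (algebraMap (Localization.Away fB) Bf) ≤
      qf.asIdeal ∧ ∀ y : PrimeSpectrum Bf, qf ≤ y → ¬ (KB.map (algebraMap B (Localization.Away fB))).map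
      (algebraMap (Localization.Away fB) Bf) ≤ y.asIdeal → y = qf at hqf
  rw [hKf] at hqf
  haveI := qf.isPrime
  letI : Algebra Bf Bf' := ιB.toAlgebra
  haveI : Module.Flat Bf Bf' := hιBflat
  have hKι : (KB.map (algebraMap B Bf)).map (algebraMap Bf Bf') = K'.map (algebraMap B' Bf') :=
    ((Ideal.map_map _ _).trans (congrArg (fun φ => Ideal.map φ KB) (RingHom.ext hιB))).trans
      ((Ideal.map_map _ _).symm.trans (congrArg (Ideal.map (algebraMap B' Bf')) hK'))
  haveI : IsAdicComplete ((KB.map (algebraMap B Bf)).map (algebraMap Bf Bf')) Bf' := by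
    rw [hKι]; infer_instance
  haveI : IsScalarTower B B' Bf' := inferInstance
  haveI : IsScalarTower B Bf Bf' := IsScalarTower.of_algebraMap_eq fun b =>
    (IsScalarTower.algebraMap_apply B B' Bf' b).trans (hιB b).symm
  have hftBf : Algebra.FiniteType Bf (Bf' ⧸ (KB.map (algebraMap B Bf)).map (algebraMap Bf Bf')) := by
    rw [hKι]
    haveI : Algebra.FiniteType B (Bf' ⧸ K'.map (algebraMap B' Bf')) := by
      refine Groth.Agent.AdicRing.finiteType_of_quotient (A := B) K' ?_ (hKI ▸ hftB'B)
        (Groth.Agent.AdicRing.finiteType_compLoc_quotient K' fB')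
      rw [IsScalarTower.algebraMap_eq B' Bf' (Bf' ⧸ K'.map (algebraMap B' Bf')), ← Ideal.map_map,
        Ideal.Quotient.algebraMap_eq, Ideal.map_quotient_self]
    exact Algebra.FiniteType.of_restrictScalars_finiteType B Bf _
  obtain ⟨n, hn, hqn⟩ := Ideal.exists_le_maximal qf.asIdeal qf.isPrime.ne_top
  haveI := hn.isPrime
  let n0 : PrimeSpectrum B := ⟨n.comap (algebraMap B Bf), inferInstance⟩
  obtain ⟨Q0, hQ0⟩ := PrimeSpectrum.comap_surjective_of_faithfullyFlat (A := B) (B := B') n0
  have hQ0' : ∀ b, algebraMap B B' b ∈ Q0.asIdeal ↔ algebraMap B Bf b ∈ n := fun b =>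
    SetLike.ext_iff.1 (congrArg PrimeSpectrum.asIdeal hQ0) b
  have hKn : KB.map (algebraMap B Bf) ≤ n :=
    (Groth.Agent.AdicRing.map_le_jacobson_compLoc KB fB).trans (sInf_le ⟨bot_le, hn⟩)
  haveI := Q0.isPrime
  let Ω := FractionRing (B' ⧸ Q0.asIdeal)
  let φ : B' →+* Ω := (algebraMap (B' ⧸ Q0.asIdeal) Ω).comp (Ideal.Quotient.mk Q0.asIdeal)
  have hφ : ∀ x, φ x = 0 ↔ x ∈ Q0.asIdeal := fun x => by
    rw [RingHom.comp_apply, map_eq_zero_iff _ (IsFractionRing.injective (B' ⧸ Q0.asIdeal) Ω),
      Ideal.Quotient.eq_zero_iff_mem]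
  obtain ⟨Φ, hΦ⟩ := Groth.Agent.AdicRing.exists_compLoc_hom K' fB' φ
    (Ne.isUnit fun h => by
      rw [hφ, ← hfB', hQ0'] at h
      exact hn.ne_top (Ideal.eq_top_of_isUnit_mem _ h
        (Groth.Agent.AdicRing.isUnit_algebraMap_compLoc KB fB)))
    (⊥ : Ideal Ω) (by
      rw [← hK', Ideal.map_map, Ideal.map_le_iff_le_comap]
      intro b hb
      exact (hφ _).2 ((hQ0' b).2 (hKn (Ideal.mem_map_of_mem _ hb))))
  let Q : PrimeSpectrum Bf' := ⟨RingHom.ker Φ, RingHom.ker_isPrime Φ⟩
  have hKQ : K'.map (algebraMap B' Bf') ≤ Q.asIdeal := by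
    rw [Ideal.map_le_iff_le_comap]
    intro x hx
    change Φ (algebraMap B' Bf' x) = 0
    rw [hΦ, hφ]
    rw [← hK'] at hx
    refine (Ideal.map_le_iff_le_comap.2 ?_ : KB.map (algebraMap B B') ≤ Q0.asIdeal) hx
    exact fun b hb => (hQ0' b).2 (hKn (Ideal.mem_map_of_mem _ hb))
  have hnQ : n ≤ Q.asIdeal.comap (algebraMap Bf Bf') := by
    refine Groth.Agent.AdicRing.le_of_comap_le_compLoc KB fB n _ hKn
      (Ideal.map_le_iff_le_comap.1 ((le_of_eq hKι).trans hKQ)) fun b hb => ?_
    change Φ (ιB (algebraMap B Bf b)) = 0
    rw [hιB, RingHom.comp_apply, hΦ, hφ, hQ0']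
    exact hb
  have hQmax : (PrimeSpectrum.comap (algebraMap Bf Bf') Q).asIdeal.IsMaximal := by
    change (Q.asIdeal.comap (algebraMap Bf Bf')).IsMaximal
    rw [← hn.eq_of_le (Ideal.comap_ne_top _ Q.isPrime.ne_top) hnQ]
    exact hn
  obtain ⟨q', hq', hq'q⟩ := (Groth.Agent.S8836.result Bf (KB.map (algebraMap B Bf)) Bf' hftBf qf hqf).1
    ⟨Q, (le_of_eq hKι).trans hKQ, hqn.trans hnQ, hQmax⟩
  rw [hKι, ← hKf'] at hq'
  haveI := q'.isPrime
  have h1 := hA'B' f' ψ' (Groth.Agent.AdicRing.comp_awayMap_of_comp_algebraMap KA' K' f' ψ' hψ') q' hq'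
  have hcomap : qf.asIdeal = q'.asIdeal.comap ιB := (congrArg PrimeSpectrum.asIdeal hq'q).symm
  let L := Localization.AtPrime qf.asIdeal
  let L' := Localization.AtPrime q'.asIdeal
  let j : L →+* L' := Localization.localRingHom qf.asIdeal q'.asIdeal ιB hcomap
  haveI : IsLocalHom j := Localization.isLocalHom_localRingHom qf.asIdeal q'.asIdeal ιB hcomap
  refine Groth.Agent.AdicRing.flat_of_flat_comp_of_isLocalHom _ j
    (Groth.Agent.AdicRing.flat_localRingHom ιB hιBflat q'.asIdeal qf.asIdeal hcomap) ?_
  have hψfA := Groth.Agent.AdicRing.comp_algebraMap_of_comp_awayMap I KB f ψf hψf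
  have hsq : ιB.comp ψf = ψ'.comp ιA := by
    refine Groth.Agent.AdicRing.compLoc_hom_ext I f (K'.map (algebraMap B' Bf')) (fun a => ?_) fun a ha => ?_
    · simp only [RingHom.comp_apply]
      rw [hψfA, hιB, hιA, RingHom.comp_apply, RingHom.comp_apply, hψ', RingHom.comp_apply,
        ← IsScalarTower.algebraMap_apply A B B', ← IsScalarTower.algebraMap_apply A A' B']
    · rw [RingHom.comp_apply, hψfA, hιB, RingHom.comp_apply]
      exact Ideal.mem_map_of_mem _ (hK' ▸ Ideal.mem_map_of_mem _ (Ideal.mem_map_of_mem _ ha))
  have heq : j.comp ((algebraMap Bf L).comp ψf) = ((algebraMap Bf' L').comp ψ').comp ιA := by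
    refine RingHom.ext fun x => ?_
    simp only [RingHom.comp_apply]
    exact (Localization.localRingHom_to_map qf.asIdeal q'.asIdeal ιB hcomap _).trans
      (congrArg _ (RingHom.congr_fun hsq x))
  change (j.comp ((algebraMap Bf L).comp ψf)).Flat
  rw [heq]
  exact RingHom.Flat.comp hιAflat h1

end Groth.Agent.S8844
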