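import Groth.Statements.S8845
import Groth.Agent.AdicRing.RigEtale
import Groth.Agent.FlatCrit.Inj

set_option autoImplicit false
universe u
open AdicRing

namespace Groth.Agent.S8845

set_option maxHeartbeats 2000000

/-- Consider a commutative square of adic Noetherian topological rings with all maps adic and
topologically of finite type: A a Noetherian ring complete for the adic topology of an ideal I (the
ideal of definition used below); B, A' and B' Noetherian algebras complete for the IB-, IA'- and
IB'-adic topologies, B' an algebra over B and over A' compatibly with A, with B/IB and A'/IA' of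
finite type over A and B'/IB' of finite type over B and over A'. Assume A → A' and B → B' are flat
and A/I → A'/IA' is étale. If A → B is rig-flat — for every f ∈ A, every ring map ψ : A_{f} → B_{f}
of completed principal localizations compatible with the map of ordinary localizations A[1/f] →
B[1/f] (there is exactly one), and every rig-closed prime q of B_{f} (I B_{f} ⊄ q and q maximal
among the primes not containing I B_{f}), the local ring (B_{f})_q is flat over A_{f} via ψ — then
A' → B' is rig-flat in the same form: for every f' ∈ A', every ring map A'_{f'} → B'_{f'} of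
completed principal localizations compatible with the map of ordinary localizations A'[1/f'] →
B'[1/f'], and every rig-closed prime q' of B'_{f'}, the local ring (B'_{f'})_{q'} is flat over
A'_{f'}. -/
theorem result (A : Type u) [CommRing A] [IsNoetherianRing A] (I : Ideal A) [IsAdicComplete I A] (B : Type u) [CommRing B] [Algebra A B] [IsNoetherianRing B] [IsAdicComplete (I.map (algebraMap A B)) B] (hftB : Algebra.FiniteType A (B ⧸ (I.map (algebraMap A B)))) (A' : Type u) [CommRing A'] [Algebra A A'] [IsNoetherianRing A'] [IsAdicComplete (I.map (algebraMap A A')) A'] (hftA' : Algebra.FiniteType A (A' ⧸ (I.map (algebraMap A A')))) (B' : Type u) [CommRing B'] [Algebra A B'] [Algebra B B'] [Algebra A' B'] [IsScalarTower A B B'] [IsScalarTower A A' B'] [IsNoetherianRing B'] [IsAdicComplete (I.map (algebraMap A B')) B'] (hftB'B : Algebra.FiniteType B (B' ⧸ (I.map (algebraMap A B')))) (hftB'A' : Algebra.FiniteType A' (B' ⧸ (I.map (algebraMap A B')))) [Module.Flat A A'] [Module.Flat B B'] [Algebra.Etale (A ⧸ I) (A' ⧸ (I.map (algebraMap A A')))] (hAB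 : (∀ f : A, ∀ ψf : (AdicCompletion (I.map (algebraMap A (Localization.Away f))) (Localization.Away f)) →+* (AdicCompletion ((I.map (algebraMap A B)).map (algebraMap B (Localization.Away (algebraMap A B f)))) (Localization.Away (algebraMap A B f))), ψf.comp (algebraMap (Localization.Away f) (AdicCompletion (I.map (algebraMap A (Localization.Away f))) (Localization.Away f))) = (algebraMap (Localization.Away (algebraMap A B f)) (AdicCompletion ((I.map (algebraMap A B)).map (algebraMap B (Localization.Away (algebraMap A B f)))) (Localization.Away (algebraMap A B f)))).comp (Localization.awayMap (algebraMap A B) f) → ∀ qf : PrimeSpectrum (AdicCompletion ((I.map (algebraMap A B)).map (algebraMap B (Localization.Away (algebraMap A B f)))) (Localization.Away (algebraMap A B f))), (¬ (((I.map (algebraMap A B)).map (algebraMap B (Localization.Away (algebraMap A B f)))).map (algebraMap (Localization.Away (algebraMap A B f)) (AdicCompletion ((I.map (algebraMap A B)).map (algebraMap B (Localization.Away (algebraMap A B f)))) (Localization.Away (algebraMap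 A B f))))) ≤ qf.asIdeal ∧ ∀ y : PrimeSpectrum (AdicCompletion ((I.map (algebraMap A B)).map (algebraMap B (Localization.Away (algebraMap A B f)))) (Localization.Away (algebraMap A B f))), qf ≤ y → ¬ (((I.map (algebraMap A B)).map (algebraMap B (Localization.Away (algebraMap A B f)))).map (algebraMap (Localization.Away (algebraMap A B f)) (AdicCompletion ((I.map (algebraMap A B)).map (algebraMap B (Localization.Away (algebraMap A B f)))) (Localization.Away (algebraMap A B f))))) ≤ y.asIdeal → y = qf) → ((algebraMap (AdicCompletion ((I.map (algebraMap A B)).map (algebraMap B (Localization.Away (algebraMap A B f)))) (Localization.Away (algebraMap A B f))) (Localization.AtPrime qf.asIdeal)).comp ψf).Flat)) : (∀ f' : A', ∀ ψf' : (AdicCompletion ((I.map (algebraMap A A')).map (algebraMap A' (Localization.Away f'))) (Localization.Away f')) →+* (AdicCompletion (((I.map (algebraMap A A')).map (algebraMap A' B')).map (algebraMap B' (Localization.Away (algebraMap A' B' f')))) (Localization.Away (algebraMap A' B' f'))), ψf'.comp (algebraMap (Localization.Away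 f') (AdicCompletion ((I.map (algebraMap A A')).map (algebraMap A' (Localization.Away f'))) (Localization.Away f'))) = (algebraMap (Localization.Away (algebraMap A' B' f')) (AdicCompletion (((I.map (algebraMap A A')).map (algebraMap A' B')).map (algebraMap B' (Localization.Away (algebraMap A' B' f')))) (Localization.Away (algebraMap A' B' f')))).comp (Localization.awayMap (algebraMap A' B') f') → ∀ qf' : PrimeSpectrum (AdicCompletion (((I.map (algebraMap A A')).map (algebraMap A' B')).map (algebraMap B' (Localization.Away (algebraMap A' B' f')))) (Localization.Away (algebraMap A' B' f'))), (¬ ((((I.map (algebraMap A A')).map (algebraMap A' B')).map (algebraMap B' (Localization.Away (algebraMap A' B' f')))).map (algebraMap (Localization.Away (algebraMap A' B' f')) (AdicCompletion (((I.map (algebraMap A A')).map (algebraMap A' B')).map (algebraMap B' (Localization.Away (algebraMap A' B' f')))) (Localization.Away (algebraMap A' B' f'))))) ≤ qf'.asIdeal ∧ ∀ y : PrimeSpectrum (AdicCompletion (((I.map (algebraMap A A')).map (algebraMap A' B')).map (algebraMap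 B' (Localization.Away (algebraMap A' B' f')))) (Localization.Away (algebraMap A' B' f'))), qf' ≤ y → ¬ ((((I.map (algebraMap A A')).map (algebraMap A' B')).map (algebraMap B' (Localization.Away (algebraMap A' B' f')))).map (algebraMap (Localization.Away (algebraMap A' B' f')) (AdicCompletion (((I.map (algebraMap A A')).map (algebraMap A' B')).map (algebraMap B' (Localization.Away (algebraMap A' B' f')))) (Localization.Away (algebraMap A' B' f'))))) ≤ y.asIdeal → y = qf') → ((algebraMap (AdicCompletion (((I.map (algebraMap A A')).map (algebraMap A' B')).map (algebraMap B' (Localization.Away (algebraMap A' B' f')))) (Localization.Away (algebraMap A' B' f'))) (Localization.AtPrime qf'.asIdeal)).comp ψf').Flat) := by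
  classical
  intro f' ψ' hψ' qe hqe
  let KB : Ideal B := I.map (algebraMap A B)
  let KA' : Ideal A' := I.map (algebraMap A A')
  let K' : Ideal B' := KA'.map (algebraMap A' B')
  have hKI : K' = I.map (algebraMap A B') :=
    (Ideal.map_map _ _).trans (congrArg (fun φ => Ideal.map φ I) (IsScalarTower.algebraMap_eq A A' B').symm)
  have hK' : KB.map (algebraMap B B') = K' :=
    ((Ideal.map_map _ _).trans (congrArg (fun φ => Ideal.map φ I) (IsScalarTower.algebraMap_eq A B B').symm)).trans
      hKI.symm
  let fB' := algebraMap A' B' f'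
  let A1 := Groth.Agent.AdicRing.CompLoc KA' f'
  let C1 := Groth.Agent.AdicRing.CompLoc K' fB'
  haveI : IsNoetherianRing C1 := Groth.Agent.AdicRing.isNoetherianRing_compLoc K' _
  have hK1 : (K'.map (algebraMap B' (Localization.Away fB'))).map
      (algebraMap (Localization.Away fB') C1) = K'.map (algebraMap B' C1) :=
    (Ideal.map_map _ _).trans (congrArg (fun φ => Ideal.map φ K')
      (IsScalarTower.algebraMap_eq B' (Localization.Away fB') C1).symm)
  have hI1 : I.map (algebraMap A C1) = K'.map (algebraMap B' C1) :=
    ((congrArg (fun φ => Ideal.map φ I) (IsScalarTower.algebraMap_eq A B' C1)).trans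
      (Ideal.map_map _ _).symm).trans (congrArg (Ideal.map (algebraMap B' C1)) hKI.symm)
  haveI : IsAdicComplete (I.map (algebraMap A C1)) C1 := hI1.symm ▸
    Groth.Agent.AdicRing.isAdicComplete_compLoc K' _
  change ¬ (K'.map (algebraMap B' (Localization.Away fB'))).map
      (algebraMap (Localization.Away fB') C1) ≤ qe.asIdeal ∧ ∀ y : PrimeSpectrum C1, qe ≤ y →
    ¬ (K'.map (algebraMap B' (Localization.Away fB'))).map
      (algebraMap (Localization.Away fB') C1) ≤ y.asIdeal → y = qe at hqe
  rw [hK1, ← hI1] at hqe
  haveI := qe.isPrime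
  have hftB' : Algebra.FiniteType A (B' ⧸ K') := by
    refine Groth.Agent.AdicRing.finiteType_of_quotient (A := A) KA' ?_ hftA' (hKI ▸ hftB'A')
    rw [IsScalarTower.algebraMap_eq A' B' (B' ⧸ K'), ← Ideal.map_map, Ideal.Quotient.algebraMap_eq,
      Ideal.map_quotient_self]
  have hft1 : Algebra.FiniteType A (C1 ⧸ I.map (algebraMap A C1)) := by
    refine Groth.Agent.AdicRing.finiteType_of_quotient (A := A) K' ?_ hftB' ?_
    · rw [IsScalarTower.algebraMap_eq B' C1 (C1 ⧸ I.map (algebraMap A C1)), ← Ideal.map_map, ← hI1,
        Ideal.Quotient.algebraMap_eq, Ideal.map_quotient_self]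
    · rw [hI1]
      exact Groth.Agent.AdicRing.finiteType_compLoc_quotient K' _
  obtain ⟨f, hfu, hfin⟩ := Groth.Agent.AdicRing.exists_finite_quotient_over I hft1 qe hqe
  obtain ⟨hdim, -⟩ := ((Groth.Agent.S8804.result C1 (I.map (algebraMap A C1)) qe).out 0 1).1 hqe
  let D := C1 ⧸ qe.asIdeal
  let mkq : C1 →+* D := Ideal.Quotient.mk qe.asIdeal
  let eA' : A' := f' * algebraMap A A' f
  let eC : B' := algebraMap A' B' eA'
  let fB : B := algebraMap A B f
  let Af := Groth.Agent.AdicRing.CompLoc I f
  let Bf := Groth.Agent.AdicRing.CompLoc KB fB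
  let A'' := Groth.Agent.AdicRing.CompLoc KA' eA'
  let C := Groth.Agent.AdicRing.CompLoc K' eC
  haveI : IsNoetherianRing Af := Groth.Agent.AdicRing.isNoetherianRing_compLoc I f
  haveI : IsNoetherianRing Bf := Groth.Agent.AdicRing.isNoetherianRing_compLoc KB fB
  haveI : IsNoetherianRing A'' := Groth.Agent.AdicRing.isNoetherianRing_compLoc KA' eA'
  haveI : IsNoetherianRing C := Groth.Agent.AdicRing.isNoetherianRing_compLoc K' eC
  haveI := Groth.Agent.AdicRing.isAdicComplete_compLoc I f
  haveI := Groth.Agent.AdicRing.isAdicComplete_compLoc KB fB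
  haveI := Groth.Agent.AdicRing.isAdicComplete_compLoc KA' eA'
  haveI := Groth.Agent.AdicRing.isAdicComplete_compLoc K' eC
  have heC : eC = fB' * algebraMap A B' f := by
    refine (map_mul (algebraMap A' B') _ _).trans ?_
    rw [← IsScalarTower.algebraMap_apply A A' B']
  -- unit facts
  have huA : IsUnit (algebraMap A' A'' (algebraMap A A' f)) :=
    isUnit_of_mul_isUnit_right ((congrArg IsUnit (map_mul (algebraMap A' A'') f' (algebraMap A A' f))).mp
      (Groth.Agent.AdicRing.isUnit_algebraMap_compLoc KA' eA'))
  have huA1 : IsUnit (algebraMap A' A'' f') :=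
    isUnit_of_mul_isUnit_left ((congrArg IsUnit (map_mul (algebraMap A' A'') f' (algebraMap A A' f))).mp
      (Groth.Agent.AdicRing.isUnit_algebraMap_compLoc KA' eA'))
  have huC : IsUnit (algebraMap B' C fB') ∧ IsUnit (algebraMap B' C (algebraMap A B' f)) :=
    IsUnit.mul_iff.1 ((congrArg IsUnit ((congrArg (algebraMap B' C) heC).trans
      (map_mul (algebraMap B' C) _ _))).mp (Groth.Agent.AdicRing.isUnit_algebraMap_compLoc K' eC))
  have hfBB' : algebraMap B B' fB = algebraMap A B' f := (IsScalarTower.algebraMap_apply A B B' f).symm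
  obtain ⟨ιC, hιC⟩ := Groth.Agent.AdicRing.exists_compLoc_hom K' fB' (algebraMap B' C) huC.1
    (K'.map (algebraMap B' C)) le_rfl
  obtain ⟨ιA, hιA⟩ := Groth.Agent.AdicRing.exists_compLoc_hom KA' f' (algebraMap A' A'') huA1
    (KA'.map (algebraMap A' A'')) le_rfl
  obtain ⟨ψA, hψA⟩ := Groth.Agent.AdicRing.exists_compLoc_hom I f
    ((algebraMap A' A'').comp (algebraMap A A')) huA
    (KA'.map (algebraMap A' A'')) (le_of_eq (Ideal.map_map _ _).symm)
  obtain ⟨ψf, hψf⟩ := Groth.Agent.AdicRing.exists_compLoc_hom I f
    ((algebraMap B Bf).comp (algebraMap A B)) (Groth.Agent.AdicRing.isUnit_algebraMap_compLoc KB fB)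
    (KB.map (algebraMap B Bf)) (le_of_eq (Ideal.map_map _ _).symm)
  obtain ⟨ψ2, hψ2⟩ := Groth.Agent.AdicRing.exists_compLoc_hom KA' eA'
    ((algebraMap B' C).comp (algebraMap A' B')) (Groth.Agent.AdicRing.isUnit_algebraMap_compLoc K' eC)
    (K'.map (algebraMap B' C)) (le_of_eq (Ideal.map_map _ _).symm)
  obtain ⟨ιB, hιB⟩ := Groth.Agent.AdicRing.exists_compLoc_hom KB fB
    ((algebraMap B' C).comp (algebraMap B B'))
    ((congrArg (fun x => IsUnit (algebraMap B' C x)) hfBB').mpr huC.2)
    (K'.map (algebraMap B' C))
    (le_of_eq ((Ideal.map_map _ _).symm.trans (congrArg (Ideal.map (algebraMap B' C)) hK')))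
  let JD : Ideal D := (I.map (algebraMap A C1)).map mkq
  haveI : IsAdicComplete JD D := by
    have h1 := Groth.Agent.AdicRing.isAdicComplete_of_finite (I.map (algebraMap A C1)) D
    exact (IsAdicComplete.map_algebraMap_iff (S := D) (I.map (algebraMap A C1)) D).2 h1
  obtain ⟨Φ, hΦ⟩ := Groth.Agent.AdicRing.exists_compLoc_hom K' eC (mkq.comp (algebraMap B' C1))
    (by
      rw [heC, map_mul]
      refine IsUnit.mul ((Groth.Agent.AdicRing.isUnit_algebraMap_compLoc K' _).map mkq) ?_
      rw [RingHom.comp_apply, ← IsScalarTower.algebraMap_apply A B' C1]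
      exact hfu)
    JD (le_of_eq ((Ideal.map_map _ _).symm.trans (congrArg (Ideal.map mkq) hI1.symm)))
  have hKJ : ∀ c ∈ K', mkq (algebraMap B' C1 c) ∈ JD := fun c hc =>
    Ideal.mem_map_of_mem _ (hI1.symm ▸ Ideal.mem_map_of_mem _ hc)
  have hΦι : Φ.comp ιC = mkq :=
    Groth.Agent.AdicRing.compLoc_hom_ext K' fB' JD
      (fun c => by rw [RingHom.comp_apply, hιC, hΦ]; rfl)
      (fun c hc => by rw [RingHom.comp_apply, hιC, hΦ]; exact hKJ c hc)
  have hsurj : Function.Surjective Φ := fun d => by
    obtain ⟨z, rfl⟩ := Ideal.Quotient.mk_surjective d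
    exact ⟨ιC z, RingHom.congr_fun hΦι z⟩
  haveI : IsDomain D := Ideal.Quotient.isDomain qe.asIdeal
  let q' : PrimeSpectrum C := ⟨RingHom.ker Φ, RingHom.ker_isPrime Φ⟩
  have hJD : JD ≠ ⊥ := by
    rw [Ne, Ideal.map_eq_bot_iff_le_ker, Ideal.mk_ker]
    exact hqe.1
  have hq'I : ¬ K'.map (algebraMap B' C) ≤ q'.asIdeal := by
    intro h
    refine hJD (le_bot_iff.1 ?_)
    change (I.map (algebraMap A C1)).map mkq ≤ ⊥
    refine Ideal.map_le_iff_le_comap.2 (hI1.le.trans (Ideal.map_le_iff_le_comap.2 fun c hc => ?_))
    have h0 : Φ (algebraMap B' C c) = 0 := h (Ideal.mem_map_of_mem _ hc)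
    rw [hΦ] at h0
    exact h0
  have hq' := Groth.Agent.AdicRing.rigClosed_of_dim (K'.map (algebraMap B' C)) q'
    ((ringKrullDim_eq_of_ringEquiv (RingHom.quotientKerEquivOfSurjective hsurj)).trans hdim) hq'I
  have hsq : ιB.comp ψf = ψ2.comp ψA := by
    refine Groth.Agent.AdicRing.compLoc_hom_ext I f (K'.map (algebraMap B' C)) (fun a => ?_) fun a ha => ?_
    · simp only [RingHom.comp_apply]
      rw [hψf, RingHom.comp_apply, hιB, hψA, RingHom.comp_apply, RingHom.comp_apply, hψ2,
        RingHom.comp_apply, ← IsScalarTower.algebraMap_apply A B B',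
        ← IsScalarTower.algebraMap_apply A A' B']
    · rw [RingHom.comp_apply, hψf, RingHom.comp_apply, hιB, RingHom.comp_apply]
      exact Ideal.mem_map_of_mem _ (hK' ▸ Ideal.mem_map_of_mem _ (Ideal.mem_map_of_mem _ ha))
  -- finiteness of `D`
  letI : Algebra Af D := ((Φ.comp ψ2).comp ψA).toAlgebra
  haveI : IsScalarTower A Af D := IsScalarTower.of_algebraMap_eq fun a => by
    change _ = Φ (ψ2 (ψA (algebraMap A Af a)))
    rw [hψA, RingHom.comp_apply, hψ2, RingHom.comp_apply, hΦ, RingHom.comp_apply,
      ← IsScalarTower.algebraMap_apply A A' B', ← IsScalarTower.algebraMap_apply A B' C1]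
    rfl
  haveI : Module.Finite Af D := hfin Af (Groth.Agent.AdicRing.isUnit_algebraMap_compLoc I f)
  letI : Algebra Af Bf := ψf.toAlgebra
  letI : Algebra Af A'' := ψA.toAlgebra
  letI : Algebra A'' D := (Φ.comp ψ2).toAlgebra
  letI : Algebra Bf D := (Φ.comp ιB).toAlgebra
  haveI : IsScalarTower Af A'' D := IsScalarTower.of_algebraMap_eq fun a => rfl
  haveI : IsScalarTower Af Bf D := IsScalarTower.of_algebraMap_eq fun a =>
    (congrArg Φ (RingHom.congr_fun hsq a)).symm
  haveI : Module.Finite A'' D := Module.Finite.of_restrictScalars_finite Af A'' D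
  haveI : Module.Finite Bf D := Module.Finite.of_restrictScalars_finite Af Bf D
  letI : Algebra A'' C := ψ2.toAlgebra
  letI : Algebra Bf C := ιB.toAlgebra
  letI : Algebra Af C := (ψ2.comp ψA).toAlgebra
  have hKA : (KA'.map (algebraMap A' A'')).map (algebraMap A'' C) = K'.map (algebraMap B' C) :=
    ((Ideal.map_map _ _).trans (congrArg (fun φ => Ideal.map φ KA') (RingHom.ext hψ2))).trans
      (Ideal.map_map _ _).symm
  have hKBf : (KB.map (algebraMap B Bf)).map (algebraMap Bf C) = K'.map (algebraMap B' C) :=
    ((Ideal.map_map _ _).trans (congrArg (fun φ => Ideal.map φ KB) (RingHom.ext hιB))).trans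
      ((Ideal.map_map _ _).symm.trans (congrArg (Ideal.map (algebraMap B' C)) hK'))
  have hKAf : (I.map (algebraMap A Af)).map (algebraMap Af A'') = KA'.map (algebraMap A' A'') :=
    ((Ideal.map_map _ _).trans (congrArg (fun φ => Ideal.map φ I) (RingHom.ext hψA))).trans
      (Ideal.map_map _ _).symm
  have hKfC : (I.map (algebraMap A Af)).map (algebraMap Af C) = K'.map (algebraMap B' C) :=
    ((Ideal.map_map _ _).symm.trans (congrArg (Ideal.map ψ2) hKAf)).trans hKA
  haveI : IsAdicComplete ((KA'.map (algebraMap A' A'')).map (algebraMap A'' C)) C := by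
    rw [hKA]; infer_instance
  haveI : IsAdicComplete ((KB.map (algebraMap B Bf)).map (algebraMap Bf C)) C := by
    rw [hKBf]; infer_instance
  haveI : IsAdicComplete ((I.map (algebraMap A Af)).map (algebraMap Af C)) C := by
    rw [hKfC]; infer_instance
  haveI : IsAdicComplete ((I.map (algebraMap A Af)).map (algebraMap Af A'')) A'' := by
    rw [hKAf]; infer_instance
  let ΦA : C →ₐ[A''] D := { Φ with commutes' := fun b => rfl }
  let ΦB : C →ₐ[Bf] D := { Φ with commutes' := fun b => rfl }
  let Φf : C →ₐ[Af] D := { Φ with commutes' := fun b => rfl }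
  have hr := Groth.Agent.AdicRing.rigClosed_comap_of_finite (A := Bf) (B := C)
    (KB.map (algebraMap B Bf)) q' (by rw [hKBf]; exact hq')
    (Module.Finite.equiv (Ideal.quotientKerAlgEquivOfSurjective (f := ΦB) hsurj).symm.toLinearEquiv)
  have hp := Groth.Agent.AdicRing.rigClosed_comap_of_finite (A := Af) (B := C)
    (I.map (algebraMap A Af)) q' (by rw [hKfC]; exact hq')
    (Module.Finite.equiv (Ideal.quotientKerAlgEquivOfSurjective (f := Φf) hsurj).symm.toLinearEquiv)
  set pA := PrimeSpectrum.comap (algebraMap A'' C) q' with hpA_def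
  -- unramifiedness
  haveI : IsScalarTower A A' A'' := inferInstance
  haveI : IsScalarTower A Af A'' := IsScalarTower.of_algebraMap_eq fun a =>
    (IsScalarTower.algebraMap_apply A A' A'' a).trans (hψA a).symm
  have hftX : Algebra.FiniteType Af (A'' ⧸ (I.map (algebraMap A Af)).map (algebraMap Af A'')) := by
    rw [hKAf]
    haveI : Algebra.FiniteType A (A'' ⧸ KA'.map (algebraMap A' A'')) := by
      refine Groth.Agent.AdicRing.finiteType_of_quotient (A := A) KA' ?_ hftA'
        (Groth.Agent.AdicRing.finiteType_compLoc_quotient KA' eA')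
      rw [IsScalarTower.algebraMap_eq A' A'' (A'' ⧸ KA'.map (algebraMap A' A'')), ← Ideal.map_map,
        Ideal.Quotient.algebraMap_eq, Ideal.map_quotient_self]
    exact Algebra.FiniteType.of_restrictScalars_finiteType A Af _
  haveI : Algebra.FormallyUnramified Af (A'' ⧸ (I.map (algebraMap A Af)).map (algebraMap Af A'')) := by
    rw [hKAf]
    haveI : Algebra.FormallyUnramified A (A'' ⧸ KA'.map (algebraMap A' A'')) := by
      refine Groth.Agent.AdicRing.formallyUnramified_of_quotient (A := A) KA' ?_
        (Algebra.FormallyUnramified.comp A (A ⧸ I) _)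
        (Groth.Agent.AdicRing.formallyUnramified_compLoc_quotient KA' eA')
      rw [IsScalarTower.algebraMap_eq A' A'' (A'' ⧸ KA'.map (algebraMap A' A'')), ← Ideal.map_map,
        Ideal.Quotient.algebraMap_eq, Ideal.map_quotient_self]
    exact Algebra.FormallyUnramified.of_restrictScalars A Af _
  set r := PrimeSpectrum.comap (algebraMap Bf C) q'
  have hmap := Groth.Agent.AdicRing.map_eq_maximalIdeal_of_unramified (A := Af) (B := A'')
    (I.map (algebraMap A Af)) hftX pA hp
  -- flatness
  have hKfB : (KB.map (algebraMap B (Localization.Away fB))).map (algebraMap (Localization.Away fB) Bf) =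
      KB.map (algebraMap B Bf) :=
    (Ideal.map_map _ _).trans (congrArg (fun φ => Ideal.map φ KB)
      (IsScalarTower.algebraMap_eq B (Localization.Away fB) Bf).symm)
  have h1 := hAB f ψf (Groth.Agent.AdicRing.comp_awayMap_of_comp_algebraMap I KB f ψf hψf) r
    (by rw [← hKfB] at hr; exact hr)
  haveI := r.isPrime
  haveI := q'.isPrime
  haveI := pA.isPrime
  let L'' := Localization.AtPrime q'.asIdeal
  let L := Localization.AtPrime qe.asIdeal
  let A2 := Localization.AtPrime pA.asIdeal
  haveI : Module.Flat B B' := inferInstance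
  have hιBflat : (ιB).Flat := by
    refine Groth.Agent.AdicRing.flat_compLoc_hom_of_flat KB fB K' hK' eC ιB hιB ?_
    have h := IsLocalization.Away.algebraMap_isUnit (S := Localization.Away eC) eC
    rw [hfBB']
    exact (IsUnit.mul_iff.1 ((congrArg IsUnit ((congrArg (algebraMap B' (Localization.Away eC)) heC).trans
      (map_mul (algebraMap B' (Localization.Away eC)) _ _))).mp h)).2
  let jB : Localization.AtPrime r.asIdeal →+* L'' :=
    Localization.localRingHom r.asIdeal q'.asIdeal ιB rfl
  have hjB : jB.Flat := Groth.Agent.AdicRing.flat_localRingHom ιB hιBflat q'.asIdeal r.asIdeal rfl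
  have hAfL : ((algebraMap C L'').comp (ψ2.comp ψA)).Flat := by
    have heq : (algebraMap C L'').comp (ψ2.comp ψA) =
        jB.comp ((algebraMap Bf (Localization.AtPrime r.asIdeal)).comp ψf) := by
      refine RingHom.ext fun x => ?_
      simp only [RingHom.comp_apply]
      exact (congrArg (algebraMap C L'') (RingHom.congr_fun hsq x).symm).trans
        (Localization.localRingHom_to_map r.asIdeal q'.asIdeal ιB rfl _).symm
    rw [heq]
    exact RingHom.Flat.comp h1 hjB
  haveI : IsNoetherianRing A2 := IsLocalization.isNoetherianRing pA.asIdeal.primeCompl A2 inferInstance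
  haveI : IsNoetherianRing L'' := IsLocalization.isNoetherianRing q'.asIdeal.primeCompl L'' inferInstance
  let j2 : A2 →+* L'' := Localization.localRingHom pA.asIdeal q'.asIdeal ψ2 rfl
  have hA''L : ((algebraMap C L'').comp ψ2).Flat := by
    haveI : Module.Flat Af L'' := RingHom.flat_algebraMap_iff.1 (by
      rw [IsScalarTower.algebraMap_eq Af C L'']; exact hAfL)
    letI : Algebra A2 L'' := j2.toAlgebra
    haveI : IsScalarTower A'' A2 L'' := IsScalarTower.of_algebraMap_eq fun c => by
      rw [IsScalarTower.algebraMap_apply A'' C L'']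
      exact (Localization.localRingHom_to_map pA.asIdeal q'.asIdeal ψ2 rfl c).symm
    haveI : IsScalarTower Af A2 L'' := IsScalarTower.of_algebraMap_eq fun c => by
      rw [IsScalarTower.algebraMap_apply Af C L'', IsScalarTower.algebraMap_apply Af A'' A2]
      exact (Localization.localRingHom_to_map pA.asIdeal q'.asIdeal ψ2 rfl (ψA c)).symm
    have hmax : (PrimeSpectrum.comap (algebraMap Af A'') pA).asIdeal.map (algebraMap Af A2) =
        IsLocalRing.maximalIdeal A2 :=
      (Ideal.map_map _ _).symm.trans hmap
    have h1 := Groth.Agent.FlatCrit.rTensor_map_injective (R := Af) (M := L'') (S := A2)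
      (I := (PrimeSpectrum.comap (algebraMap Af A'') pA).asIdeal)
      (Module.Flat.rTensor_preserves_injective_linearMap
        (PrimeSpectrum.comap (algebraMap Af A'') pA).asIdeal.subtype Subtype.val_injective)
    rw [hmax] at h1
    haveI hloc : IsLocalHom (algebraMap A2 L'') :=
      Localization.isLocalHom_localRingHom pA.asIdeal q'.asIdeal ψ2 rfl
    haveI : Module.Flat A2 L'' := by
      refine Groth.Agent.FlatCrit.flat_of_rTensor_injective (S := L'') (IsLocalRing.maximalIdeal A2) ?_ h1
        (Groth.Agent.FlatCrit.quotFlat_of_field _)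
      rw [IsLocalRing.jacobson_eq_maximalIdeal ⊥ bot_ne_top]
      exact ((IsLocalRing.local_hom_TFAE (algebraMap A2 L'')).out 0 2).1 hloc
    haveI : Module.Flat A'' A2 := IsLocalization.flat A2 pA.asIdeal.primeCompl
    have h2 : (algebraMap A'' L'').Flat := RingHom.flat_algebraMap_iff.2 (Module.Flat.trans A'' A2 L'')
    rw [IsScalarTower.algebraMap_eq A'' C L''] at h2
    exact h2
  have hιCq : qe.asIdeal = q'.asIdeal.comap ιC := by
    ext z
    change z ∈ qe.asIdeal ↔ Φ (ιC z) = 0
    rw [← RingHom.comp_apply, hΦι, Ideal.Quotient.eq_zero_iff_mem]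
  let j : L →+* L'' := Localization.localRingHom qe.asIdeal q'.asIdeal ιC hιCq
  haveI : IsLocalHom j := Localization.isLocalHom_localRingHom qe.asIdeal q'.asIdeal ιC hιCq
  have hιCflat : (ιC).Flat := by
    refine Groth.Agent.AdicRing.flat_compLoc_hom K' fB' eC ιC hιC ?_
    have h := IsLocalization.Away.algebraMap_isUnit (S := Localization.Away eC) eC
    exact (IsUnit.mul_iff.1 ((congrArg IsUnit ((congrArg (algebraMap B' (Localization.Away eC)) heC).trans
      (map_mul (algebraMap B' (Localization.Away eC)) _ _))).mp h)).1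
  refine Groth.Agent.AdicRing.flat_of_flat_comp_of_isLocalHom _ j
    (Groth.Agent.AdicRing.flat_localRingHom ιC hιCflat q'.asIdeal qe.asIdeal hιCq) ?_
  have hψ'a := Groth.Agent.AdicRing.comp_algebraMap_of_comp_awayMap KA' K' f' ψ' hψ'
  have hsq2 : ιC.comp ψ' = ψ2.comp ιA := by
    refine Groth.Agent.AdicRing.compLoc_hom_ext KA' f' (K'.map (algebraMap B' C)) (fun a => ?_) fun a ha => ?_
    · simp only [RingHom.comp_apply]
      rw [hψ'a, hιC, hιA, hψ2]
      rfl
    · rw [RingHom.comp_apply, hψ'a, hιC]
      exact Ideal.mem_map_of_mem _ (Ideal.mem_map_of_mem _ ha)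
  have heq : j.comp ((algebraMap C1 L).comp ψ') = ((algebraMap C L'').comp ψ2).comp ιA := by
    refine RingHom.ext fun x => ?_
    simp only [RingHom.comp_apply]
    exact (Localization.localRingHom_to_map qe.asIdeal q'.asIdeal ιC hιCq _).trans
      (congrArg _ (RingHom.congr_fun hsq2 x))
  change (j.comp ((algebraMap C1 L).comp ψ')).Flat
  rw [heq]
  refine RingHom.Flat.comp (Groth.Agent.AdicRing.flat_compLoc_hom KA' f' eA' ιA hιA ?_) hA''L
  exact (IsUnit.mul_iff.1 ((congrArg IsUnit (map_mul (algebraMap A' (Localization.Away eA')) f'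
    (algebraMap A A' f))).mp (IsLocalization.Away.algebraMap_isUnit eA'))).1

end Groth.Agent.S8845
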