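import Groth.Statements.S8850
import Mathlib

set_option autoImplicit false
universe u
open CategoryTheory CategoryTheory.Limits AlgebraicGeometry TopologicalSpace
open SDiv

namespace Groth.Agent.S8850

/-- Let S be a scheme, X a Noetherian S-scheme, Y a proper S-scheme, U ⊆ X an open subscheme and f : U ⟶
Y a morphism compatible with the structure morphisms to S. Then there are a proper morphism p : X' ⟶
X restricting to an isomorphism over U and an S-morphism f' : X' ⟶ Y whose restriction to p⁻¹(U) is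
f composed with p. The published statement takes U dense, so that f is an S-rational map; this row
allows any open U, which its proof does not need. -/
theorem result {X Y S : Scheme.{u}} [IsNoetherian X] (a : X ⟶ S) (b : Y ⟶ S)
    [IsProper b] (U : X.Opens) (f : (U : Scheme.{u}) ⟶ Y) (hf : f ≫ b = U.ι ≫ a) :
    ∃ (X' : Scheme.{u}) (p : X' ⟶ X) (f' : X' ⟶ Y), IsProper p ∧ IsIso (p ∣_ U) ∧ f' ≫ b = p ≫ a ∧
      (p ⁻¹ᵁ U).ι ≫ f' = (p ∣_ U) ≫ f := by
  let γ : (U : Scheme.{u}) ⟶ pullback a b := pullback.lift U.ι f hf.symm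
  haveI : QuasiCompact γ := by
    haveI : QuasiCompact (γ ≫ pullback.fst a b) := by rw [pullback.lift_fst]; infer_instance
    exact QuasiCompact.of_comp γ (pullback.fst a b)
  let i := γ.imageι
  let p := i ≫ pullback.fst a b
  let V : (pullback a b).Opens := pullback.fst a b ⁻¹ᵁ U
  have hg : (γ ∣_ V) ≫ (pullback.fst a b ∣_ U) = (γ ≫ pullback.fst a b) ∣_ U :=
    (morphismRestrict_comp _ _ _).symm
  haveI hiso : IsIso ((γ ≫ pullback.fst a b) ∣_ U) := by
    rw [pullback.lift_fst]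
    refine (isIso_iff_isOpenImmersion_and_surjective _).mpr ⟨inferInstance, ⟨fun x => ⟨⟨x, x.2⟩, ?_⟩⟩⟩
    exact Subtype.ext (morphismRestrict_base_coe U.ι U _)
  haveI : IsClosedImmersion (γ ∣_ V) := by
    haveI : IsClosedImmersion ((γ ∣_ V) ≫ (pullback.fst a b ∣_ U)) := by
      rw [hg]
      exact (inferInstance : IsClosedImmersion ((γ ≫ pullback.fst a b) ∣_ U))
    exact IsClosedImmersion.of_comp (γ ∣_ V) (pullback.fst a b ∣_ U)
  have hker : (i ∣_ V).ker = (γ ∣_ V).ker := by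
    refine Scheme.IdealSheafData.ext (funext fun W => ?_)
    rw [Scheme.ker_morphismRestrict_ideal, Scheme.ker_morphismRestrict_ideal]
    rw [show i.ker = γ.ker from Scheme.IdealSheafData.ker_subschemeι _]
  let s := IsClosedImmersion.lift (i ∣_ V) (γ ∣_ V) hker.le
  have hs : s ≫ (i ∣_ V) = γ ∣_ V := IsClosedImmersion.lift_fac _ _ _
  haveI : IsIso s := IsClosedImmersion.isIso_of_ker_eq (γ ∣_ V) (i ∣_ V) s hs hker.symm
  have hp : p ∣_ U = (i ∣_ V) ≫ (pullback.fst a b ∣_ U) := morphismRestrict_comp _ _ _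
  have hsp : s ≫ (p ∣_ U) = (γ ≫ pullback.fst a b) ∣_ U := by rw [hp, reassoc_of% hs, hg]
  refine ⟨γ.image, p, i ≫ pullback.snd a b, inferInstanceAs (IsProper (i ≫ pullback.fst a b)), ?_, ?_, ?_⟩
  · haveI : IsIso (s ≫ (p ∣_ U)) := by rw [hsp]; exact hiso
    exact IsIso.of_isIso_comp_left s (p ∣_ U)
  · simp only [p, Category.assoc, pullback.condition]
  · let s' : (γ ⁻¹ᵁ V).toScheme ⟶ (p ⁻¹ᵁ U).toScheme := s
    haveI : IsIso s' := ‹_›
    rw [← cancel_epi s']
    have h1 : s ≫ (p ⁻¹ᵁ U).ι ≫ i = (γ ⁻¹ᵁ V).ι ≫ γ := by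
      rw [← morphismRestrict_ι γ V, ← hs, Category.assoc, morphismRestrict_ι]
      rfl
    have h2 : (γ ⁻¹ᵁ V).ι = s ≫ (p ∣_ U) := by
      rw [← cancel_mono U.ι]
      refine Eq.trans ?_ (congrArg (fun m => m ≫ U.ι) hsp).symm
      refine (Eq.trans (morphismRestrict_ι (γ ≫ pullback.fst a b) U) ?_).symm
      exact congrArg ((γ ⁻¹ᵁ V).ι ≫ ·) (pullback.lift_fst U.ι f hf.symm)
    show s ≫ (p ⁻¹ᵁ U).ι ≫ i ≫ pullback.snd a b = s ≫ (p ∣_ U) ≫ f
    have h3 : (s ≫ (p ⁻¹ᵁ U).ι ≫ i) ≫ pullback.snd a b = (s ≫ (p ∣_ U)) ≫ f :=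
      (congrArg (fun m => m ≫ pullback.snd a b) h1).trans ((Category.assoc _ _ _).trans
        ((congrArg ((γ ⁻¹ᵁ V).ι ≫ ·) (pullback.lift_snd U.ι f hf.symm)).trans (congrArg (fun m => m ≫ f) h2)))
    exact ((congrArg (s ≫ ·) (Category.assoc _ _ _)).symm.trans (Category.assoc _ _ _).symm).trans
      (h3.trans (Category.assoc _ _ _))
end Groth.Agent.S8850
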