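import Groth.Statements.S8853
import Groth.Agent.ModPairLib.EffCartier
import Mathlib

set_option autoImplicit false
universe u
open CategoryTheory CategoryTheory.Limits AlgebraicGeometry TopologicalSpace
open SDiv

namespace Groth.Agent.S8853

/-- Let Z be a locally principal closed subscheme of a scheme S, with ideal sheaf 𝓘 generated by a
single section on some affine open neighbourhood of each point of its support, and let U be the open
complement of Z. Then the inclusion U ⟶ S is an affine morphism. -/
theorem result {S : Scheme.{u}} (𝓘 : S.IdealSheafData) (h : Curv2.IsLocPrincipal 𝓘) :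
    IsAffineHom (Scheme.Opens.ι 𝓘.support.compl) := by
  refine isAffineHom_of_forall_exists_isAffineOpen _ fun x => ?_
  by_cases hx : x ∈ 𝓘.support
  · obtain ⟨U, hxU, f, hfI⟩ := h x hx
    refine ⟨U.1, hxU, U.2, ?_⟩
    have hU : U.1 ⊓ 𝓘.support.compl = S.basicOpen f := ModPairLib.inf_interior hfI
    have : Scheme.Opens.ι 𝓘.support.compl ⁻¹ᵁ U.1 = Scheme.Opens.ι 𝓘.support.compl ⁻¹ᵁ S.basicOpen f := by
      rw [← hU]
      ext y
      exact ⟨fun hy => ⟨hy, y.2⟩, fun hy => hy.1⟩
    rw [this]
    refine (U.2.basicOpen f).preimage_of_isOpenImmersion _ ?_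
    rw [Scheme.Opens.opensRange_ι, ← hU]
    exact inf_le_right
  · obtain ⟨U, hU, hxU, hUc⟩ :=
      Opens.isBasis_iff_nbhd.mp S.isBasis_affineOpens (show x ∈ 𝓘.support.compl from hx)
    exact ⟨U, hxU, hU, hU.preimage_of_isOpenImmersion _ (by rwa [Scheme.Opens.opensRange_ι])⟩
end Groth.Agent.S8853
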