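import Groth.Statements.S8854
import Mathlib

set_option autoImplicit false
universe u
open SDiv

namespace Groth.Agent.S8854

/-- Let R be a Noetherian unique factorisation domain and I ⊆ R an ideal such that every associated
prime of R/I is minimal over I (R/I has no embedded primes) and every prime minimal over I has
height 1. Then I is principal: it is generated by one element. -/
theorem result (R : Type u) [CommRing R] [IsDomain R] [IsNoetherianRing R]
    [UniqueFactorizationMonoid R] (I : Ideal R)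
    (h1 : ∀ p : Ideal R, p ∈ associatedPrimes R (R ⧸ I) → p ∈ I.minimalPrimes)
    (h2 : ∀ p : Ideal R, p ∈ I.minimalPrimes → p.height = 1) :
    ∃ f : R, I = Ideal.span {f} := by
  classical
  by_cases htop : I = ⊤
  · exact ⟨1, by rw [htop, Ideal.span_singleton_one]⟩
  have hfin : I.minimalPrimes.Finite := I.finite_minimalPrimes_of_isNoetherianRing R
  have hI0 : I ≠ ⊥ := by
    intro h
    have hb : (⊥ : Ideal R) ∈ I.minimalPrimes := by
      subst h
      exact ⟨⟨Ideal.isPrime_bot, le_rfl⟩, fun q hq _ => bot_le⟩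
    exact Ideal.ne_bot_of_height_eq_one (h2 ⊥ hb) rfl
  obtain ⟨y₀, hy₀, hy₀0⟩ := Submodule.exists_mem_ne_zero_of_ne_bot hI0
  have hπ : ∀ p : I.minimalPrimes, ∃ π : R, Prime π ∧ (p : Ideal R) = Ideal.span {π} := by
    rintro ⟨p, hp⟩
    haveI := hp.1.1
    obtain ⟨π, hπ⟩ := (UniqueFactorizationMonoid.isPrincipal_of_height_eq_one (h2 p hp)).principal
    have hπ' : p = Ideal.span {π} := hπ
    have hne : π ≠ 0 := fun h => Ideal.ne_bot_of_height_eq_one (h2 p hp) (by simp [hπ', h])
    exact ⟨π, (Ideal.span_singleton_prime hne).1 (hπ' ▸ hp.1.1), hπ'⟩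
  choose π hπp hπs using hπ
  -- exponents
  have hex : ∀ p : I.minimalPrimes, ∃ e : ℕ, (∀ y ∈ I, π p ^ e ∣ y) ∧ ∃ y ∈ I, ¬ π p ^ (e + 1) ∣ y := by
    intro p
    have hP : ∃ e, ¬ ∀ y ∈ I, π p ^ (e + 1) ∣ y := by
      obtain ⟨N, hN⟩ := FiniteMultiplicity.of_prime_left (hπp p) hy₀0
      exact ⟨N, fun h => hN (h y₀ hy₀)⟩
    refine ⟨Nat.find hP, ?_, by simpa using Nat.find_spec hP⟩
    rcases h : Nat.find hP with _ | e
    · simp
    · exact not_not.1 (Nat.find_min hP (by omega : e < Nat.find hP))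
  choose e he hy using hex
  haveI := hfin.fintype
  have hne : ∀ p q : I.minimalPrimes, p ≠ q → IsRelPrime (π p ^ e p) (π q ^ e q) := by
    intro p q hpq
    refine IsRelPrime.pow ((hπp p).irreducible.isRelPrime_iff_not_dvd.2 fun hd => hpq (Subtype.ext ?_))
    rw [hπs p, hπs q, Ideal.span_singleton_eq_span_singleton]
    exact (hπp p).irreducible.associated_of_dvd (hπp q).irreducible hd
  let f := ∏ p : I.minimalPrimes, π p ^ e p
  have hdvd : ∀ y ∈ I, f ∣ y := fun y hy' =>
    Finset.prod_dvd_of_isRelPrime (fun p _ q _ hpq => hne p q hpq) fun p _ => he p y hy'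
  refine ⟨f, le_antisymm (fun y hy' => Ideal.mem_span_singleton.2 (hdvd y hy')) ?_⟩
  rw [Ideal.span_le, Set.singleton_subset_iff, SetLike.mem_coe]
  by_contra hf
  have hf0 : Ideal.Quotient.mk I f ≠ 0 := fun h => hf (Ideal.Quotient.eq_zero_iff_mem.1 h)
  obtain ⟨P, hP, hle⟩ := exists_le_isAssociatedPrime_of_isNoetherianRing R (Ideal.Quotient.mk I f) hf0
  have hPmin := h1 P hP
  obtain ⟨y, hyI, hynd⟩ := hy ⟨P, hPmin⟩
  obtain ⟨c, rfl⟩ := hdvd y hyI
  apply hynd
  have hc : c ∈ P := hle (by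
    rw [Submodule.mem_colon_singleton, Submodule.mem_bot, Algebra.smul_def, Ideal.Quotient.algebraMap_eq, ← map_mul,
      Ideal.Quotient.eq_zero_iff_mem, mul_comm]
    exact hyI)
  have hPs : P = Ideal.span {π ⟨P, hPmin⟩} := hπs ⟨P, hPmin⟩
  rw [hPs, Ideal.mem_span_singleton] at hc
  rw [pow_succ]
  exact mul_dvd_mul (Finset.dvd_prod_of_mem (fun p => π p ^ e p) (Finset.mem_univ _)) hc
end Groth.Agent.S8854
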