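import Groth.Statements.S8857
import Groth.Agent.FlatMorStrata.Extend
import Groth.Agent.BlowUpLib.LocalTarget
import Groth.Agent.SDiv28.CartierPart

set_option autoImplicit false
universe u
open CategoryTheory CategoryTheory.Limits AlgebraicGeometry TopologicalSpace
open SDiv

namespace Groth.Agent.S8857

/-- Let X be a quasi-compact and quasi-separated scheme, U, V ⊆ X quasi-compact open subschemes and 𝓘 a
quasi-coherent ideal sheaf on V which is of finite type with support disjoint from U ∩ V (a blowing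
up of V in 𝓘 is a (U ∩ V)-admissible blow-up). Then there is a quasi-coherent ideal sheaf 𝓙 on X, of
finite type with support disjoint from U, whose restriction to V is 𝓘; and every blowing up of X in
𝓙 restricts over V to a blowing up of V in 𝓘 (the U-admissible blow-up of X extends the given one of
V). -/
theorem result (X : Scheme.{u}) [CompactSpace ↥X] [QuasiSeparatedSpace ↥X]
    (U V : X.Opens) (hU : IsCompact (U : Set ↥X)) (hV : IsCompact (V : Set ↥X))
    (𝓘 : (V : Scheme.{u}).IdealSheafData) (h𝓘 : BlowUp.IsAdmissibleFor (V.ι ⁻¹ᵁ U) 𝓘) :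
    ∃ 𝓙 : X.IdealSheafData, BlowUp.IsAdmissibleFor U 𝓙 ∧ 𝓙.comap V.ι = 𝓘 ∧
      ∀ (X' : Scheme.{u}) (c : X' ⟶ X), BlowUp.IsBlowUp c 𝓙 → BlowUp.IsBlowUp (c ∣_ V) 𝓘 := by
  classical
  obtain ⟨hI, hdisj⟩ := h𝓘
  have : CompactSpace (V : Scheme.{u}) := isCompact_iff_compactSpace.1 hV
  have : QuasiCompact V.ι := ⟨fun W hW hWc => by
    rw [V.ι.isOpenEmbedding.isInducing.isCompact_iff, Set.image_preimage_eq_inter_range, Scheme.Opens.range_ι]
    exact hWc.inter_of_isOpen hV hW V.isOpen⟩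
  let G₀ : X.IdealSheafData := (𝓘.subschemeι ≫ V.ι).ker
  have hcomap : G₀.comap V.ι = 𝓘 := by
    refine Scheme.IdealSheafData.ext (funext fun W => ?_)
    have hsq : IsPullback 𝓘.subschemeι (𝟙 𝓘.subscheme) V.ι (𝓘.subschemeι ≫ V.ι) :=
      IsPullback.of_vert_isIso_mono ⟨by simp⟩
    rw [Scheme.IdealSheafData.ideal_comap_of_isOpenImmersion,
      ← Scheme.ker_ideal_of_isPullback_of_isOpenImmersion (𝓘.subschemeι ≫ V.ι) 𝓘.subschemeι
        (𝟙 𝓘.subscheme) V.ι hsq, Scheme.IdealSheafData.ker_subschemeι]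
  have hsupp : Disjoint (G₀.support : Set X) (U : Set X) := by
    rw [Set.disjoint_left]
    intro x hx hxU
    rw [show (G₀.support : Set X) = _ from Scheme.Hom.support_ker _] at hx
    obtain ⟨y, hyU, z, rfl⟩ := mem_closure_iff.1 hx _ U.isOpen hxU
    exact Set.disjoint_left.1 hdisj (𝓘.range_subschemeι.le ⟨z, rfl⟩) hyU
  have hcov : ∀ (O : X.Opens), IsCompact (O : Set X) → ∃ t : Finset X.affineOpens,
      (∀ M ∈ t, M.1 ≤ O) ∧ (O : Set X) ⊆ ⋃ M ∈ t, (M.1 : Set X) := fun O hO => by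
    obtain ⟨t, ht⟩ := hO.elim_finite_subcover (fun M : {M : X.affineOpens // M.1 ≤ O} => (M.1.1 : Set X))
      (fun M => M.1.1.isOpen) fun x hx => by
        obtain ⟨_, ⟨W, hW, rfl⟩, hxW, hWO⟩ := X.isBasis_affineOpens.exists_subset_of_mem_open hx O.isOpen
        exact Set.mem_iUnion.2 ⟨⟨⟨W, hW⟩, hWO⟩, hxW⟩
    refine ⟨t.image Subtype.val, fun M hM => ?_, ht.trans ?_⟩
    · obtain ⟨M, -, rfl⟩ := Finset.mem_image.1 hM; exact M.2
    · simp only [Finset.set_biUnion_finset_image]; exact subset_rfl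
  obtain ⟨tV, htV, htV'⟩ := hcov V hV
  obtain ⟨tU, htU, htU'⟩ := hcov U hU
  have htop : ∀ M : X.affineOpens, M.1 ≤ U → G₀.ideal M = ⊤ := fun M hM => by
    refine eq_top_iff.2 fun c _ => (Groth.Agent.Misc15.DivDescent.mem_ideal_iff G₀ M).2 fun x hx => ?_
    rw [Groth.Agent.SDiv28.CartierPart.stk_eq_top (Set.disjoint_right.1 hsupp (hM hx))]
    trivial
  have hfg : ∀ M ∈ tV ∪ tU, (G₀.ideal M).FG := fun M hM => by
    rcases Finset.mem_union.1 hM with hM | hM
    · have hW : IsAffineOpen (V.ι ⁻¹ᵁ M.1) := M.2.preimage_of_isOpenImmersion V.ι (by simpa using htV M hM)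
      have h1 := hI ⟨_, hW⟩
      rw [← hcomap, Scheme.IdealSheafData.ideal_comap_of_isOpenImmersion] at h1
      have he : V.ι ''ᵁ V.ι ⁻¹ᵁ M.1 = M.1 := by
        rw [Scheme.Hom.image_preimage_eq_opensRange_inf, Scheme.Opens.opensRange_ι, inf_eq_right]
        exact htV M hM
      refine (?_ : ∀ (N : X.affineOpens), N.1 = M.1 → (G₀.ideal N).FG → (G₀.ideal M).FG)
        ⟨_, hW.image_of_isOpenImmersion V.ι⟩ he ?_
      · intro N hN h2
        rwa [Subtype.ext hN] at h2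
      · have e := (V.ι.appIso (V.ι ⁻¹ᵁ M.1)).commRingCatIsoToRingEquiv
        have h3 := h1.map (V.ι.appIso (V.ι ⁻¹ᵁ M.1)).inv.hom
        erw [Ideal.map_comap_of_surjective _ (ConcreteCategory.bijective_of_isIso (V.ι.appIso (V.ι ⁻¹ᵁ M.1)).inv).surjective] at h3
        exact h3
    · rw [htop M (htU M hM)]; exact ⟨{1}, by simp⟩
  have key : ∀ s : Finset X.affineOpens, ∃ G ≤ G₀, (∀ M ∈ s, (G.ideal M).FG) ∧
      ∀ M ∈ tV ∪ tU, G.ideal M = G₀.ideal M := fun s => by
    induction s using Finset.induction with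
    | empty => exact ⟨G₀, le_rfl, by simp, fun _ _ => rfl⟩
    | @insert W s _ ih =>
      obtain ⟨G, h₁, h₂, h₃⟩ := ih
      obtain ⟨G', k₁, k₂, k₃, -⟩ := Groth.Agent.FlatMorStrata.exists_step G ((tV ∪ tU) ∪ s) (fun M hM => by
        rcases Finset.mem_union.1 hM with hM | hM
        · exact h₃ M hM ▸ hfg M hM
        · exact h₂ M hM) W
      refine ⟨G', k₁.trans h₁, fun M hM => ?_, fun M hM => (k₂ M (Finset.mem_union_left _ hM)).trans (h₃ M hM)⟩
      rcases Finset.mem_insert.1 hM with rfl | hM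
      · exact k₃
      · rw [k₂ M (Finset.mem_union_right _ hM)]; exact h₂ M hM
  obtain ⟨c, -, hc⟩ := hcov ⊤ isCompact_univ
  obtain ⟨G, -, hG, hGeq⟩ := key c
  have hft : BlowUp.IsFiniteTypeIdeal G := fun W => by
    refine Groth.Agent.FlatMorStrata.fg_of_cover G (fun M : c => M.1) ?_ (fun M => hG M.1 M.2) W
    refine top_le_iff.1 fun x _ => ?_
    obtain ⟨M, hM, hxM⟩ := Set.mem_iUnion₂.1 (hc trivial)
    exact TopologicalSpace.Opens.mem_iSup.2 ⟨⟨M, hM⟩, hxM⟩
  have hstk : ∀ (M : X.affineOpens), M ∈ tV ∪ tU → ∀ x ∈ M.1,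
      Groth.Agent.Misc15.DivDescent.stk G x = Groth.Agent.Misc15.DivDescent.stk G₀ x := fun M hM x hx => by
    rw [Groth.Agent.Misc15.DivDescent.stk_eq G M hx, Groth.Agent.Misc15.DivDescent.stk_eq G₀ M hx,
      hGeq M hM]
  have hGV : G.comap V.ι = 𝓘 := by
    refine Groth.Agent.Misc15.DivDescent.ext_stk fun x => ?_
    obtain ⟨M, hM, hxM⟩ := Set.mem_iUnion₂.1 (htV' x.2)
    rw [← hcomap, Groth.Agent.Misc15.DivDescent.stk_comap, Groth.Agent.Misc15.DivDescent.stk_comap,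
      hstk M (Finset.mem_union_left _ hM) (V.ι x) hxM]
  refine ⟨G, ⟨hft, Set.disjoint_left.2 fun x hx hxU => ?_⟩, hGV, fun X' c hc => ?_⟩
  · obtain ⟨M, hM, hxM⟩ := Set.mem_iUnion₂.1 (htU' hxU)
    have h4 := (Groth.Agent.SDiv28.CartierPart.mem_support_iff_stk G x).1 hx
    rw [hstk M (Finset.mem_union_right _ hM) x hxM] at h4
    exact Set.disjoint_left.1 hsupp ((Groth.Agent.SDiv28.CartierPart.mem_support_iff_stk G₀ x).2 h4) hxU
  · exact hGV ▸ Groth.Agent.BlowUpLib.isBlowUp_restrict hc V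
end Groth.Agent.S8857
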