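import Groth.Statements.S8858
import Groth.Agent.FlatMorAdm.Descend
import Groth.Agent.FlatMorAdm.Strict
import Groth.Agent.BlowUpLib.AffineExt
import Groth.Agent.BlowUpLib.Exists

set_option autoImplicit false
universe u
open CategoryTheory CategoryTheory.Limits AlgebraicGeometry TopologicalSpace
open SDiv

namespace Groth.Agent.S8858

/-- Let X be a quasi-compact and quasi-separated scheme, U ⊆ X a quasi-compact open subscheme, and b_i :
X_i ⟶ X, i < n, blowing ups of X in quasi-coherent ideal sheaves 𝓘_i of finite type with support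
disjoint from U (U-admissible blow-ups). Then there is a U-admissible blow-up c : X' ⟶ X such that
(a) c factors as X' ⟶ X_i ⟶ X for every i, and (b) each factor X' ⟶ X_i is a blowing up of X_i in a
quasi-coherent ideal sheaf of finite type whose support is disjoint from the inverse image of U. -/
theorem result (X : Scheme.{u}) [CompactSpace ↥X] [QuasiSeparatedSpace ↥X]
    (U : X.Opens) (hU : IsCompact (U : Set ↥X)) {n : ℕ} (Xi : Fin n → Scheme.{u}) (b : ∀ i, Xi i ⟶ X)
    (𝓘 : Fin n → X.IdealSheafData) (hb : ∀ i, BlowUp.IsBlowUp (b i) (𝓘 i)) (ha : ∀ i, BlowUp.IsAdmissibleFor U (𝓘 i)) :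
    ∃ (𝓙 : X.IdealSheafData) (X' : Scheme.{u}) (c : X' ⟶ X), BlowUp.IsBlowUp c 𝓙 ∧ BlowUp.IsAdmissibleFor U 𝓙 ∧
      ∀ i, ∃ (g : X' ⟶ Xi i) (𝓚 : (Xi i).IdealSheafData), g ≫ b i = c ∧ BlowUp.IsBlowUp g 𝓚 ∧
        BlowUp.IsAdmissibleFor ((b i) ⁻¹ᵁ U) 𝓚 := by
  classical
  obtain ⟨X', c, hc⟩ := Groth.Agent.BlowUpLib.exists_isBlowUp (I := Finset.univ.prod 𝓘)
  have hadm : ∀ s : Finset (Fin n), BlowUp.IsAdmissibleFor U (s.prod 𝓘) := by
    intro s
    induction s using Finset.induction with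
    | empty =>
      rw [Finset.prod_empty]
      refine ⟨fun W => ?_, ?_⟩
      · show ((⊤ : X.IdealSheafData).ideal W).FG
        rw [Scheme.IdealSheafData.ideal_top, Pi.top_apply]
        exact ⟨{1}, by simp⟩
      · show Disjoint ((⊤ : X.IdealSheafData).support : Set ↥X) _
        simp
    | insert a s h ih =>
      rw [Finset.prod_insert h]
      refine ⟨fun W => ?_, ?_⟩
      · rw [Scheme.IdealSheafData.ideal_mul, Pi.mul_apply]
        exact ((ha a).1 W).mul (ih.1 W)
      · rw [Scheme.IdealSheafData.support_mul]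
        exact Disjoint.sup_left (ha a).2 ih.2
  refine ⟨_, X', c, hc, hadm _, fun i => ?_⟩
  set R := (Finset.univ.erase i).prod 𝓘 with hR
  obtain ⟨Z, g, hg⟩ := Groth.Agent.BlowUpLib.exists_isBlowUp (I := R.comap (b i))
  have hcomp : BlowUp.IsBlowUp (g ≫ b i) (Finset.univ.prod 𝓘) := by
    rw [← Finset.mul_prod_erase Finset.univ 𝓘 (Finset.mem_univ i)]
    exact Groth.Agent.SDiv28.isBlowUp_comp (hb i) hg
  obtain ⟨e, he⟩ := Groth.Agent.BlowUpLib.exists_iso_of_isBlowUp hc hcomp
  refine ⟨e.hom ≫ g, R.comap (b i), by rw [Category.assoc, he],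
    Groth.Agent.BlowUpLib.isBlowUp_iso_comp e.hom hg,
    Groth.Agent.FlatMorAdm.isFiniteType_comap (b i) R (hadm _).1, ?_⟩
  rw [Scheme.IdealSheafData.support_comap]
  exact Set.disjoint_left.2 fun x hx hxU => Set.disjoint_left.1 (hadm _).2 hx hxU

end Groth.Agent.S8858
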