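import Groth.Statements.S8860
import Mathlib
import Groth.Agent.SDiv28.Norm.Normal
import Groth.Agent.SDiv28.Norm.LocFree
import Groth.Agent.Props12.KerReduced

set_option autoImplicit false
universe u
open CategoryTheory CategoryTheory.Limits AlgebraicGeometry TopologicalSpace
open SDiv

namespace Groth.Agent.S8860

/-- Let π : X ⟶ Y be a finite surjective morphism of schemes with X quasi-affine. If either π is finite
locally free (finite, flat and locally of finite presentation), or Y is integral with all local
rings integrally closed domains (normal), then Y is quasi-affine. -/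
theorem result {X Y : Scheme.{u}} (π : X ⟶ Y) [IsFinite π] [Surjective π]
    (hX : X.IsQuasiAffine) (h : Mor2.IsFinLocFree π ∨ (IsIntegral Y ∧ Pi1.IsNormalScheme Y)) :
    Y.IsQuasiAffine := by
  rcases h with ⟨h1, h2, h3⟩ | ⟨hYi, hY⟩
  · haveI := h1; haveI := h2; haveI := h3
    exact Groth.Agent.SDiv28.Norm.isQuasiAffine_of_normish (Groth.Agent.SDiv28.Norm.normishOfFinLocFree π)
  · obtain ⟨x, hx⟩ := π.surjective (genericPoint Y)
    let C : TopologicalSpace.Closeds X := ⟨closure {x}, isClosed_closure⟩
    let I := Scheme.IdealSheafData.vanishingIdeal C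
    have hrange : Set.range I.subschemeι = closure {x} := by
      rw [Scheme.IdealSheafData.range_subschemeι]
      rfl
    haveI : IrreducibleSpace I.subscheme := by
      have e := I.subschemeι.isEmbedding
      obtain ⟨z, hz⟩ : x ∈ Set.range I.subschemeι := hrange ▸ subset_closure rfl
      rw [irreducibleSpace_def]
      have hz' : closure ({z} : Set I.subscheme) = Set.univ := by
        rw [e.isInducing.closure_eq_preimage_closure_image, Set.image_singleton, hz, ← hrange, Set.preimage_range]
      rw [Set.top_eq_univ, ← hz']
      exact isIrreducible_singleton.closure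
    haveI := Groth.Agent.Props12.isReduced_subscheme_vanishingIdeal C
    haveI : IsIntegral I.subscheme := isIntegral_of_irreducibleSpace_of_isReduced _
    haveI : Surjective (I.subschemeι ≫ π) := ⟨fun y => by
      have hc : closure {genericPoint Y} ⊆ π '' closure {x} :=
        closure_minimal (Set.singleton_subset_iff.mpr ⟨x, subset_closure rfl, hx⟩)
          (π.isClosedMap _ isClosed_closure)
      obtain ⟨x', hx', rfl⟩ := hc (by rw [(genericPoint_spec Y).def]; exact trivial : y ∈ closure {genericPoint Y})
      obtain ⟨z, rfl⟩ : x' ∈ Set.range I.subschemeι := hrange ▸ hx'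
      exact ⟨z, rfl⟩⟩
    haveI : CompactSpace I.subscheme := QuasiCompact.compactSpace_of_compactSpace I.subschemeι
    haveI := Scheme.IsQuasiAffine.of_isImmersion I.subschemeι
    exact Groth.Agent.SDiv28.Norm.isQuasiAffine_of_normish
      (Groth.Agent.SDiv28.Norm.normalNorm (I.subschemeι ≫ π) hY)
end Groth.Agent.S8860
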