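import Groth.Statements.S8863
import Groth.Agent.SDiv28.KmodNoeth
import Mathlib

set_option autoImplicit false
universe u
open CategoryTheory CategoryTheory.Limits AlgebraicGeometry TopologicalSpace
open SDiv

namespace Groth.Agent.S8863

/-- Let X be a locally Noetherian scheme and x a point of X. Then the monoid S_x of germs at x of
regular sections of O_X (sections whose germ at every point of their open of definition is a
nonzerodivisor) is the whole monoid of nonzerodivisors of O_{X,x}; consequently K_{X,x} is the total
ring of fractions of O_{X,x}. -/
theorem result (X : Scheme.{u}) [IsLocallyNoetherian X] (x : ↥X) :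
    Mero.regStalk X x = nonZeroDivisors ↑(X.presheaf.stalk x) := by
  exact SDiv28.Noeth.regStalk_eq x
end Groth.Agent.S8863
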