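import Groth.Statements.S8865
import Groth.Agent.MeroLib.Basic

set_option autoImplicit false
universe u
open CategoryTheory CategoryTheory.Limits AlgebraicGeometry TopologicalSpace
open SDiv

namespace Groth.Agent.S8865

/-- Let X be a quasi-compact scheme, h a global section of O_X and f a global section of the sheaf of
meromorphic functions K_X whose restriction to the open X_h where h is invertible vanishes. Then h^n
f = 0 in K_X(X) for some natural number n. -/
theorem result (X : Scheme.{u}) [CompactSpace ↥X] (h : Γ(X, ⊤))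
    (f : Γ(Mero.kmod X, ⊤)) (hf : (Mero.kmod X).presheaf.map (homOfLE (le_top : X.basicOpen h ≤ ⊤)).op f = 0) :
    ∃ n : ℕ, Mero.toK X ⊤ h ^ n * f = 0 := by
  classical
  have hloc : ∀ x : X, ∃ (W : X.Opens) (_ : x ∈ W) (n : ℕ), ∀ (y : X) (hy : y ∈ W),
      f.1 ⟨y, trivial⟩ * algebraMap _ (Mero.KStalk X y) (X.presheaf.germ ⊤ y trivial h ^ n) = 0 := by
    intro x
    obtain ⟨W, hWU, hW, hxW, a, b, w⟩ := MeroLib.exists_fraction f (x := x) (by trivial)
    let hW' : Γ(X, W) := X.presheaf.map (homOfLE (le_top : W ≤ ⊤)).op h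
    have hgerm : ∀ (y : X) (hy : y ∈ W), X.presheaf.germ W y hy hW' = X.presheaf.germ ⊤ y trivial h := fun y hy ↦
      TopCat.Presheaf.germ_res_apply X.presheaf _ _ _ h
    have hres : a |_ (X.basicOpen hW') = 0 := by
      refine MeroLib.section_ext fun y hy ↦ ?_
      rw [map_zero]
      refine (TopCat.Presheaf.germ_res_apply X.presheaf _ _ _ a).trans ?_
      refine Mero.algebraMap_KStalk_injective y ?_
      rw [map_zero, ← w y ((X.basicOpen_le hW') hy)]
      have hy' : y ∈ X.basicOpen h := by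
        have h1 := (X.mem_basicOpen hW' y ((X.basicOpen_le hW') hy)).mp hy
        rw [hgerm] at h1
        exact (X.mem_basicOpen h y trivial).mpr h1
      have h0 := congrArg (fun z ↦ z.1 ⟨y, hy'⟩) hf
      simp only [MeroLib.map_val] at h0
      rw [show f.1 ⟨y, _⟩ = 0 from h0, zero_mul]
    obtain ⟨n, hn⟩ := exists_pow_mul_eq_zero_of_res_basicOpen_eq_zero_of_isAffineOpen X hW a hW' hres
    refine ⟨W, hxW, n, fun y hy ↦ ?_⟩
    have h1 := congrArg (fun z ↦ algebraMap _ (Mero.KStalk X y) (X.presheaf.germ W y hy z)) hn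
    simp only [map_mul, map_pow, map_zero, hgerm] at h1
    rw [← w y hy] at h1
    have hu : IsUnit (algebraMap (X.presheaf.stalk y) (Mero.KStalk X y) (X.presheaf.germ W y hy b.1)) :=
      IsLocalization.map_units _ (Mero.regGerm ⟨y, hy⟩ b)
    rw [← hu.mul_left_eq_zero, map_pow]
    linear_combination h1
  choose W hxW n hn using hloc
  obtain ⟨s, hs⟩ := isCompact_univ.elim_finite_subcover (fun x ↦ (W x : Set X)) (fun x ↦ (W x).isOpen)
    (fun x _ ↦ Set.mem_iUnion.mpr ⟨x, hxW x⟩)
  refine ⟨s.sup n, Subtype.ext (funext fun y ↦ ?_)⟩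
  obtain ⟨x, hxs, hyx⟩ := Set.mem_iUnion₂.mp (hs (Set.mem_univ y.1))
  have key : algebraMap _ (Mero.KStalk X y.1) (X.presheaf.germ ⊤ y.1 trivial h ^ s.sup n) * f.1 ⟨y.1, trivial⟩ = 0 := by
    obtain ⟨m, hm⟩ := Nat.exists_eq_add_of_le (Finset.le_sup (f := n) hxs)
    rw [hm, pow_add, map_mul, mul_right_comm, mul_comm _ (f.1 _), hn x y.1 hyx, zero_mul]
  rw [map_pow, ← MeroLib.toK_val h y] at key
  refine Eq.trans ?_ key
  exact congrArg (fun z ↦ z * f.1 y) (map_pow (Mero.evalK X ⊤ y) (Mero.toK X ⊤ h) (s.sup n))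
end Groth.Agent.S8865
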