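import Groth.Statements.S8866
import Mathlib
import Groth.Agent.SDiv28.RegMeroExists

set_option autoImplicit false
universe u
open CategoryTheory CategoryTheory.Limits AlgebraicGeometry TopologicalSpace
open SDiv

namespace Groth.Agent.S8866

/-- Let X be a reduced scheme in which every quasi-compact open subset has only finitely many
irreducible components, and fix an O_X-module L that is invertible. A regular meromorphic section of
L then exists. For an integral scheme this is the case of one irreducible component. -/
theorem result (X : Scheme.{u}) [IsReduced X]
    (hfin : ∀ U : X.Opens, IsCompact (U : Set ↥X) → (irreducibleComponents ↥(U : Scheme.{u})).Finite)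
    (L : X.Modules) (hL : PicF.IsInvertible L) : Mero.HasRegularMero L := by
  refine Groth.Agent.SDiv28.hasRegularMero_of_noEmbedded ?_ ?_ hL
  · intro x hx y _ hyx
    exact (Groth.Agent.SDiv28.isWeakAssPoint_structureModule_iff_reduced x).1 hx y hyx
  · intro W hW
    refine (Groth.Agent.SDiv28.finite_maxPts hfin hW).subset ?_
    exact fun y hy => ⟨hy.1, (Groth.Agent.SDiv28.isWeakAssPoint_structureModule_iff_reduced y).1 hy.2⟩
end Groth.Agent.S8866
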