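import Groth.Statements.S8867
import Mathlib
import Groth.Agent.SDiv28.RegMeroExists
import Groth.Agent.S1576
import Groth.Agent.Coherent.ProperFinite

set_option autoImplicit false
universe u
open CategoryTheory CategoryTheory.Limits AlgebraicGeometry TopologicalSpace
open SDiv

namespace Groth.Agent.S8867

/-- Let X be a locally Noetherian scheme with no embedded points, i.e. every associated point of O_X is
maximal among the associated points of O_X under specialization, and L an invertible O_X-module.
Then some meromorphic section of L is regular. -/
theorem result (X : Scheme.{u}) [IsLocallyNoetherian X]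
    (hne : ∀ x : ↥X, Curv2.IsAssPoint (Coh.structureModule X) x →
      ∀ y : ↥X, Curv2.IsAssPoint (Coh.structureModule X) y → y ⤳ x → y = x)
    (L : X.Modules) (hL : PicF.IsInvertible L) : Mero.HasRegularMero L := by
  refine Groth.Agent.SDiv28.hasRegularMero_of_noEmbedded ?_ ?_ hL
  · intro x hx y hy hyx
    exact hne x ((Groth.Agent.SDiv28.isWeakAssPoint_iff_isAssPoint _ x).1 hx) y
      ((Groth.Agent.SDiv28.isWeakAssPoint_iff_isAssPoint _ y).1 hy) hyx
  · intro W hW
    refine (Groth.Agent.S1576.result X (Coh.structureModule X) ?_ W hW.isCompact).subset ?_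
    · exact Groth.Agent.Coherent.isCoh_structureModule X
    · exact fun y hy => ⟨hy.1, (Groth.Agent.SDiv28.isWeakAssPoint_iff_isAssPoint _ y).1 hy.2⟩
end Groth.Agent.S8867
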