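import Groth.Statements.S8868
import Groth.Agent.SDiv28.WeakAssMore
import Groth.Agent.SDiv28.WeakAssUnit

set_option autoImplicit false
universe u
open CategoryTheory CategoryTheory.Limits AlgebraicGeometry TopologicalSpace
open SDiv

namespace Groth.Agent.S8868

/-- Let X be a scheme and F a quasi-coherent O_X-module. Then F is zero if and only if F has no weakly
associated point. -/
theorem result (X : Scheme.{u}) (F : X.Modules) (hF : Coh.IsQCoh F) :
    IsZero F ↔ ∀ x : ↥X, ¬ Curv2.IsWeakAssPoint F x := by
  haveI : F.IsQuasicoherent := hF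
  constructor
  · intro h x hx
    obtain ⟨m, hm⟩ := hx
    have hm0 : m = 0 := by
      obtain ⟨V, hxV, t, rfl⟩ := F.presheaf.exists_germ_eq m
      have : t = 0 := by
        have h0 := congr(Scheme.Modules.Hom.app $(h.eq_of_src (𝟙 F) 0) V t)
        exact h0.trans rfl
      rw [this, map_zero]
    subst hm0
    refine (IsLocalRing.maximalIdeal.isMaximal (X.presheaf.stalk x)).ne_top (hm ▸ ?_)
    simp
  · intro h
    rw [IsZero.iff_id_eq_zero]
    apply Scheme.Modules.hom_ext
    intro U
    ext s
    have hs : s = 0 := Groth.Agent.SDiv28.eq_zero_of_germ_weakAss F s fun y hy hya =>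
      absurd hya (h y)
    simp [hs]
end Groth.Agent.S8868
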