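import Groth.Statements.S8871
import Mathlib
import Groth.Agent.AssSch12.MaxSupport
import Groth.Agent.CommAlg6.DepthOne
import Groth.Agent.EGA41Lib.SemiLocalSop

set_option autoImplicit false
universe u
open CategoryTheory CategoryTheory.Limits AlgebraicGeometry TopologicalSpace
open SDiv

namespace Groth.Agent.S8871

/-- Let X be a locally Noetherian scheme and F a coherent O_X-module. Then F has no embedded associated
points (every associated point of F is maximal among the associated points of F under
specialization) if and only if F has property (S_1): for every point x, depth F_x ≥ min(1, dim Supp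
F_x), where dim Supp F_x is the Krull dimension of the support of the O_{X,x}-module F_x (for F_x =
0 the depth is infinite and the support empty, so the condition holds). -/
theorem result (X : Scheme.{u}) [IsLocallyNoetherian X] (F : X.Modules) (hF : Coh.IsCoh F) :
    (∀ x : ↥X, Curv2.IsAssPoint F x → ∀ y : ↥X, Curv2.IsAssPoint F y → y ⤳ x → y = x) ↔
      ∀ x : ↥X, min (1 : WithBot ℕ∞) (Module.supportDim ↑(X.presheaf.stalk x) ↑(F.presheaf.stalk x)) ≤
        ((LocCoh.depth (X.presheaf.stalk x) (F.presheaf.stalk x) : ℕ∞) : WithBot ℕ∞) := by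
  haveI : F.IsQuasicoherent := hF.1
  have key : ∀ x : ↥X, Nontrivial (F.presheaf.stalk x) →
      ((∀ y : ↥X, Nontrivial (F.presheaf.stalk y) → y ⤳ x → y = x) ↔
        Module.supportDim ↑(X.presheaf.stalk x) ↑(F.presheaf.stalk x) ≤ 0) := by
    intro x hnt
    haveI := Groth.Agent.AssSch12.finite_stalk hF x
    have h1 := Groth.Agent.AssSch12.max_support_iff F hF x
    rw [← Groth.Agent.EGA41Lib.isFiniteLength_iff_supportDim_le_zero]
    exact ⟨fun h => (h1.1 ⟨hnt, h⟩).2, fun h => (h1.2 ⟨hnt, h⟩).2⟩
  constructor
  · intro hne x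
    haveI := Groth.Agent.AssSch12.finite_stalk hF x
    by_cases hass : Curv2.IsAssPoint F x
    · have hmax := (Groth.Agent.AssSch12.ass_max_iff F hF.1 x).1 ⟨hass, fun y hy hyx => hne x hass y hy hyx⟩
      exact (min_le_right _ _).trans (((key x hmax.1).1 hmax.2).trans (by exact_mod_cast bot_le))
    · refine (min_le_left _ _).trans ?_
      have : (1 : ℕ∞) ≤ LocCoh.depth (X.presheaf.stalk x) (F.presheaf.stalk x) :=
        (Groth.Agent.CommAlg6.one_le_depth_iff _).2 hass
      exact_mod_cast this
  · intro hS x hx y hy hyx
    haveI := Groth.Agent.AssSch12.finite_stalk hF x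
    have hd : LocCoh.depth (X.presheaf.stalk x) (F.presheaf.stalk x) = 0 := by
      by_contra hd
      exact (Groth.Agent.CommAlg6.one_le_depth_iff _).1 (Order.one_le_iff_ne_zero.2 hd) hx
    have h := hS x
    rw [hd] at h
    have hnt : Nontrivial (F.presheaf.stalk x) :=
      (Groth.Agent.AssSch12.mem_support_iff F).1 (Groth.Agent.AssSch12.mem_support_of_ass F hx)
    have hle : Module.supportDim ↑(X.presheaf.stalk x) ↑(F.presheaf.stalk x) ≤ 0 := by
      rcases min_le_iff.1 h with h1 | h1
      · exact absurd h1 (not_le.2 (by exact_mod_cast zero_lt_one))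
      · exact_mod_cast h1
    exact (key x hnt).2 hle y ((Groth.Agent.AssSch12.mem_support_iff F).1 (Groth.Agent.AssSch12.mem_support_of_ass F hy)) hyx
end Groth.Agent.S8871
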