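import Groth.Statements.S8876
import Groth.Agent.FlatMor12.FittSheaf
import Mathlib

set_option autoImplicit false
universe u
open CategoryTheory CategoryTheory.Limits AlgebraicGeometry TopologicalSpace
open SDiv

namespace Groth.Agent.S8876

/-- Let S be a scheme and F a quasi-coherent O_S-module of finite type. Then the closed subset of S cut
out by Fit_0(F) equals the support of F (the scheme-theoretic support and the Fit_0 subscheme have
the same underlying set). -/
theorem result (S : Scheme.{u}) (F : S.Modules) (hF : Coh.IsQCoh F) (hft : CohB1.IsFT F) :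
    ((Fitt.sheafIdeal F 0).support : Set ↥S) = CohB1.support F := by
  have := hF
  ext s
  obtain ⟨U, hU, hsU, -⟩ := Opens.isBasis_iff_nbhd.mp S.isBasis_affineOpens (Opens.mem_top s)
  have := FlatMor12.FittSheaf.finite_affine F hft ⟨U, hU⟩
  let p := hU.primeIdealOf ⟨s, hsU⟩
  letI := Module.compHom (F.presheaf.stalk s) (S.presheaf.germ U s hsU).hom
  let φ : Γ(F, U) →ₗ[Γ(S, U)] F.presheaf.stalk s :=
    { toFun := fun m => F.presheaf.germ U s hsU m
      map_add' := map_add _
      map_smul' := fun r m => QCohLoc.germ_smul' F hsU r m }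
  have := EGA43.QcohFP.isLocalizedModule_germ F hU hsU φ fun _ => rfl
  have e := IsLocalizedModule.iso p.asIdeal.primeCompl φ
  rw [SetLike.mem_coe, Scheme.IdealSheafData.mem_support_iff_of_mem (U := ⟨U, hU⟩) hsU,
    Scheme.mem_zeroLocus_iff, FlatMor12.FittSheaf.ideal_eq F hft]
  have h1 : p ∈ PrimeSpectrum.zeroLocus (Fitt.ideal Γ(S, U) Γ(F, U) 0 : Set Γ(S, U)) ↔
      s ∈ CohB1.support F := by
    rw [FittLib.zeroLocus_ideal_zero, Module.mem_support_iff, CohB1.support, Set.mem_setOf_eq,
      not_subsingleton_iff_nontrivial]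
    exact e.toEquiv.nontrivial_congr
  rw [← h1, PrimeSpectrum.mem_zeroLocus]
  refine forall₂_congr fun f _ => ?_
  rw [EGA43.InjFibre.mem_basicOpen_iff_notMem hU hsU f, not_not]
  rfl
end Groth.Agent.S8876
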