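import Groth.Statements.S8877
import Groth.Agent.FlatMor12.FittSheaf
import Mathlib

set_option autoImplicit false
universe u
open CategoryTheory CategoryTheory.Limits AlgebraicGeometry TopologicalSpace
open SDiv

namespace Groth.Agent.S8877

/-- Let S be a scheme and F a quasi-coherent O_S-module of finite type, and let Z_r ⊆ S be the closed
subset cut out by the r-th Fitting ideal of F. Then the intersection of all the Z_r is empty. -/
theorem result (S : Scheme.{u}) (F : S.Modules) (hF : Coh.IsQCoh F) (hft : CohB1.IsFT F)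
    (s : ↥S) : ∃ r : ℕ, s ∉ (Fitt.sheafIdeal F r).support := by
  have := hF
  obtain ⟨U, hU, hsU, -⟩ := Opens.isBasis_iff_nbhd.mp S.isBasis_affineOpens (Opens.mem_top s)
  have := FlatMor12.FittSheaf.finite_affine F hft ⟨U, hU⟩
  obtain ⟨n, x, hx⟩ := FittLib.exists_generators Γ(S, U) Γ(F, U)
  refine ⟨n, ?_⟩
  rw [Scheme.IdealSheafData.mem_support_iff_of_mem (U := ⟨U, hU⟩) hsU, Scheme.mem_zeroLocus_iff,
    FlatMor12.FittSheaf.ideal_eq F hft, FittLib.ideal_eq_top_of_span x hx le_rfl]
  intro h
  exact h 1 trivial (by rwa [S.basicOpen_of_isUnit isUnit_one])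
end Groth.Agent.S8877
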