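import Groth.Statements.S8883
import Groth.Agent.CAlgH3.DescPicMain

set_option autoImplicit false
universe u
open CategoryTheory CategoryTheory.Limits AlgebraicGeometry TopologicalSpace
open SDiv

namespace Groth.Agent.S8883

/-- Let φ : X ⟶ Y be flat, and quasi-compact or else locally of finite type, with every fibre an
integral scheme, where X is locally Noetherian and Y is locally Noetherian, integral and normal. If
an invertible O_X-module L becomes trivial on the scheme-theoretic fibre over the generic point of
Y, then L is isomorphic to φ^*N with N an invertible O_Y-module. -/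
theorem result {X Y : Scheme.{u}} (φ : X ⟶ Y) [IsLocallyNoetherian X]
    [IsLocallyNoetherian Y] [IsIntegral Y] (hY : Pi1.IsNormalScheme Y) [Flat φ]
    (hfib : ∀ y : ↥Y, IsIntegral (φ.fiber y)) (hφ : QuasiCompact φ ∨ LocallyOfFiniteType φ)
    (L : X.Modules) (hL : PicF.IsInvertible L)
    (hgen : Nonempty ((Scheme.Modules.pullback (φ.fiberι (genericPoint ↥Y))).obj L ≅
      Coh.structureModule (φ.fiber (genericPoint ↥Y)))) :
    ∃ N : Y.Modules, PicF.IsInvertible N ∧ Nonempty (L ≅ (Scheme.Modules.pullback φ).obj N) := by
  haveI : Surjective φ := ⟨fun y => by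
    haveI := hfib y
    exact ⟨φ.fiberι y (Classical.arbitrary (φ.fiber y)), (φ.range_fiberι y).le ⟨_, rfl⟩⟩⟩
  have hf : QuasiCompact φ ∨ IsOpenMap φ := hφ.imp_right fun h => by
    haveI := h
    haveI : LocallyOfFinitePresentation φ := inferInstance
    exact φ.isOpenMap
  obtain ⟨N, hN, ⟨e⟩⟩ := Groth.Agent.CAlgH3.DescPic.exists_descent φ hf hY (fun y _ => hfib y) L hL fun η hη => by
    obtain rfl := hη (genericPoint ↥Y) (genericPoint_specializes η)
    exact hgen
  exact ⟨N, hN, ⟨e.symm⟩⟩

end Groth.Agent.S8883
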