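import Groth.Statements.S8885
import Groth.Agent.FBRed8.Integral
import Groth.Agent.FlatMorAssOpen.Cons
import Groth.Agent.FlatMor12.RelAssBC
-- import your own Groth.Agent.* helpers here

set_option autoImplicit false
universe u
open CategoryTheory CategoryTheory.Limits AlgebraicGeometry TopologicalSpace
open SDiv

open Groth.Agent
set_option backward.isDefEq.respectTransparency false
set_option backward.isDefEq.respectTransparency.types false
set_option maxHeartbeats 800000
namespace Groth.Agent.S8885

open Groth.Agent Groth.Agent.AssSch12 Groth.Agent.FBRed8 in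
/-- Associated points after a field extension. -/
theorem mem_ass_bc_iff_maximal {k : Type u} [Field k] {X : Scheme.{u}} [IsLocallyNoetherian X]
    (f : X ⟶ Spec (CommRingCat.of k)) (F : X.Modules) (K : Type u) [Field K] [Algebra k K]
    [IsLocallyNoetherian (FBase.bc f K)] (z : ↥(FBase.bc f K)) :
    z ∈ AssSch.Ass ((Scheme.Modules.pullback (FBase.bcπ f K)).obj F) ↔
      FBase.bcπ f K z ∈ AssSch.Ass F ∧
        ∀ w, FBase.bcπ f K w = FBase.bcπ f K z → w ⤳ z → w = z := by
  rw [FBRed8.mem_ass_bc_iff f F K z]
  refine and_congr_right fun _ => ?_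
  obtain ⟨y, hy⟩ : ∃ y, FBase.bcπ f K z = y := ⟨_, rfl⟩
  haveI := isLocallyNoetherian_fiber (FBase.bcπ f K) y
  obtain ⟨q, rfl⟩ : z ∈ Set.range ((FBase.bcπ f K).fiberι y) := ((FBase.bcπ f K).range_fiberι y).ge hy
  rw [← fiberι_mem_ass_iff f K q, hy]
  haveI : IsLocallyNoetherian (FBase.bc (ptStr f y) K) :=
    isLocallyNoetherian_of_isOpenImmersion (fiberIso f K y).inv
  haveI : IsLocallyNoetherian (pullback (ptStr f y) (Spec.map (CommRingCat.ofHom (algebraMap k K)))) :=
    ‹IsLocallyNoetherian (FBase.bc (ptStr f y) K)›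
  have hK : ∀ {L : Type u} [Field L], AssSch.NoEmbedded (Coh.structureModule (Spec (CommRingCat.of L))) :=
    fun {L} _ => FBaseLib.NoEmbedded.noEmbedded_of_isReduced _
  have hne : AssSch.NoEmbedded (Coh.structureModule (FBase.bc (ptStr f y) K)) :=
    FBaseLib.NoEmbedded.noEmbedded_pullback _ _ (hK (L := X.residueField y)) hK
  refine ⟨fun hq w hw hs => ?_, fun hmax => FBaseLib.NoEmbedded.mem_ass_of_maximal fun t ht => ?_⟩
  · obtain ⟨p, rfl⟩ : w ∈ Set.range ((FBase.bcπ f K).fiberι y) := ((FBase.bcπ f K).range_fiberι y).ge hw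
    have hpq : p ⤳ q := ((FBase.bcπ f K).fiberι y).isEmbedding.isInducing.specializes_iff.1 hs
    obtain ⟨η, hη, hηp⟩ := VarietyLib.exists_genericPoints_specializes p
    have hmη : ∀ t, t ⤳ η → t = η := VarietyLib.mem_genericPoints_iff.1 hη
    have haη := FBaseLib.NoEmbedded.mem_ass_of_maximal hmη
    have key : ∀ r, r ∈ AssSch.Ass (Coh.structureModule ((FBase.bcπ f K).fiber y)) →
        (fiberIso f K y).hom r ∈ AssSch.Ass (Coh.structureModule (FBase.bc (ptStr f y) K)) := fun r hr => by
      rw [← FBaseLib.NoEmbedded.ass_congr (PicLoc.pullbackStructureIso (fiberIso f K y).hom)] at hr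
      exact (pullback_iso_stalk _ _ r inferInstance).1.1 hr
    have e : (fiberIso f K y).hom η = (fiberIso f K y).hom q :=
      (hne _ (key q hq) _ (key η haη) ((hηp.trans hpq).map (fiberIso f K y).hom.continuous)).symm
    have e' : η = q := (fiberIso f K y).hom.isEmbedding.injective e
    subst e'
    rw [hmη p hpq]
  · exact ((FBase.bcπ f K).fiberι y).isEmbedding.injective
      (hmax _ (((FBase.bcπ f K).range_fiberι y).le ⟨t, rfl⟩) (ht.map ((FBase.bcπ f K).fiberι y).continuous))

open Groth.Agent in
theorem isAssPoint_fibre_iff {X S : Scheme.{u}} (f : X ⟶ S) [LocallyOfFiniteType f] (F : X.Modules) (x : X) :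
    Curv2.IsAssPoint ((Scheme.Modules.pullback (f.fiberι (f x))).obj F) (f.asFiber x) ↔
      x ∈ MoreMor.relAss f F := by
  have h := FlatMorAssOpen.mem_relAss_iff f F (f x) (f.asFiber x)
  rw [Scheme.Hom.fiberι_asFiber] at h
  exact h.symm


/-- Let f : X ⟶ S be locally of finite type, g : S' ⟶ S a morphism, X' = X ×_S S' with projections g' :
X' ⟶ X and f' : X' ⟶ S', F a quasi-coherent O_X-module and F' = g'^*F. For a point x' of X' with
images x in X and s' in S': x' lies in the relative assassin Ass_{X'/S'}(F') (x' is an associated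
point of the pullback of F' to the fibre X'_{s'}) if and only if x lies in Ass_{X/S}(F) and x' is
maximal under generization among the points of X' mapping to x and to s' (that is, x' is the generic
point of some irreducible component of Spec(κ(s') ⊗_{κ(s)} κ(x))). -/
theorem result {X S S' : Scheme.{u}} (f : X ⟶ S) [LocallyOfFiniteType f] (g : S' ⟶ S)
    (F : X.Modules) (hF : Coh.IsQCoh F) (x' : ↥(pullback f g)) :
    Curv2.IsAssPoint
        ((Scheme.Modules.pullback ((pullback.snd f g).fiberι ((pullback.snd f g) x'))).obj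
          ((Scheme.Modules.pullback (pullback.fst f g)).obj F))
        ((pullback.snd f g).asFiber x') ↔
      Curv2.IsAssPoint ((Scheme.Modules.pullback (f.fiberι (f ((pullback.fst f g) x')))).obj F)
          (f.asFiber ((pullback.fst f g) x')) ∧
        ∀ x'' : ↥(pullback f g), (pullback.snd f g) x'' = (pullback.snd f g) x' →
          (pullback.fst f g) x'' = (pullback.fst f g) x' → x'' ⤳ x' → x'' = x' := by
  rw [isAssPoint_fibre_iff (pullback.snd f g), isAssPoint_fibre_iff f]
  obtain ⟨s', hs'⟩ : ∃ s', pullback.snd f g x' = s' := ⟨_, rfl⟩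
  obtain ⟨z, rfl⟩ : x' ∈ Set.range ((pullback.snd f g).fiberι s') := by rw [Scheme.Hom.range_fiberι]; exact hs'
  rw [hs']
  let φ : (pullback.snd f g).fiber s' ⟶ f.fiber (g s') :=
    pullback.map _ _ _ _ (pullback.fst f g) (Spec.map (g.residueFieldMap s')) g pullback.condition.symm (by simp)
  have hsq := isPullback_fiberToSpecResidueField_of_isPullback (IsPullback.of_hasPullback f g) s'
  have hφ : φ ≫ f.fiberι (g s') = (pullback.snd f g).fiberι s' ≫ pullback.fst f g := pullback.lift_fst _ _ _
  have hpt : ∀ w, pullback.fst f g ((pullback.snd f g).fiberι s' w) = f.fiberι (g s') (φ w) := fun w => by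
    rw [← Scheme.Hom.comp_apply, ← hφ, Scheme.Hom.comp_apply]
  letI : Algebra (S.residueField (g s')) (S'.residueField s') := (g.residueFieldMap s').hom.toAlgebra
  haveI := FlatMor12.RelAssBC.isLocallyNoetherian_fiber f (g s')
  haveI := FlatMor12.RelAssBC.isLocallyNoetherian_fiber (pullback.snd f g) s'
  let fs := f.fiberToSpecResidueField (g s')
  have hsq' : IsPullback φ ((pullback.snd f g).fiberToSpecResidueField s') fs
      (Spec.map (CommRingCat.ofHom (algebraMap (S.residueField (g s')) (S'.residueField s')))) := hsq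
  let e : (pullback.snd f g).fiber s' ≅ FBase.bc (k := S.residueField (g s')) fs (S'.residueField s') :=
    hsq'.isoPullback
  haveI : IsLocallyNoetherian (FBase.bc (k := S.residueField (g s')) fs (S'.residueField s')) :=
    isLocallyNoetherian_of_isOpenImmersion e.inv
  let π := FBase.bcπ (k := S.residueField (g s')) fs (S'.residueField s')
  have he : e.hom ≫ π = φ := hsq'.isoPullback_hom_fst
  let G := (Scheme.Modules.pullback (f.fiberι (g s'))).obj F
  let ε : (Scheme.Modules.pullback e.hom).obj ((Scheme.Modules.pullback π).obj G) ≅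
      (Scheme.Modules.pullback ((pullback.snd f g).fiberι s')).obj ((Scheme.Modules.pullback (pullback.fst f g)).obj F) :=
    (Scheme.Modules.pullbackComp e.hom π).app G ≪≫ (Scheme.Modules.pullbackCongr he).app G ≪≫
      (Scheme.Modules.pullbackComp φ (f.fiberι (g s'))).app F ≪≫ (Scheme.Modules.pullbackCongr hφ).app F ≪≫
        ((Scheme.Modules.pullbackComp ((pullback.snd f g).fiberι s') (pullback.fst f g)).app F).symm
  rw [FlatMorAssOpen.mem_relAss_iff, hpt, FlatMorAssOpen.mem_relAss_iff, ← FBaseLib.NoEmbedded.ass_congr ε,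
    (AssSch12.pullback_iso_stalk e.hom _ z inferInstance).1, mem_ass_bc_iff_maximal (k := S.residueField (g s')) fs G (S'.residueField s')]
  have hπe : ∀ w, π (e.hom w) = φ w := fun w => by rw [← Scheme.Hom.comp_apply, he]
  refine and_congr (by rw [hπe]) ⟨fun h w hw1 hw2 hs => ?_, fun h w hw hs => ?_⟩
  · obtain ⟨w, rfl⟩ : w ∈ Set.range ((pullback.snd f g).fiberι s') := by rw [Scheme.Hom.range_fiberι]; exact hw1
    have h1 : φ w = φ z := (f.fiberι (g s')).isEmbedding.injective (by rw [← hpt, hw2])
    have h2 := h (e.hom w) (by rw [hπe, hπe, h1])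
      ((((pullback.snd f g).fiberι s').isEmbedding.isInducing.specializes_iff.1 hs).map e.hom.continuous)
    rw [e.hom.isEmbedding.injective h2]
  · obtain ⟨w, rfl⟩ := e.hom.surjective w
    rw [hπe, hπe] at hw
    rw [((pullback.snd f g).fiberι s').isEmbedding.injective (h ((pullback.snd f g).fiberι s' w)
      (((pullback.snd f g).range_fiberι s').le ⟨w, rfl⟩) (by rw [hpt, hw])
      ((e.hom.isEmbedding.isInducing.specializes_iff.1 hs).map ((pullback.snd f g).fiberι s').continuous))]

end Groth.Agent.S8885
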