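import Groth.Statements.S8886
import Mathlib

set_option autoImplicit false
universe u
open CategoryTheory CategoryTheory.Limits AlgebraicGeometry TopologicalSpace
open SDiv

namespace Groth.Agent.S8886

/-- Let f : X ⟶ Y be a flat morphism of schemes with Y integral. If the scheme-theoretic fibre of f over
the generic point of Y is integral, then X is integral. -/
theorem result {X Y : Scheme.{u}} (f : X ⟶ Y) [Flat f] [IsIntegral Y]
    (h : IsIntegral (f.fiber (genericPoint ↥Y))) : IsIntegral X := by
  let g := Y.fromSpecResidueField (genericPoint ↥Y)
  haveI hint : IsIntegral (pullback f g) := h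
  haveI : QuasiCompact g := ⟨fun _ _ _ => (Set.toFinite _).isCompact⟩
  haveI : IsSchemeTheoreticallyDominant g := by
    rw [isSchemeTheoreticallyDominant_iff_isDominant, isDominant_iff, denseRange_iff_closure_range,
      Scheme.range_fromSpecResidueField]
    exact (genericPoint_spec ↥Y).def
  haveI : QuasiCompact (pullback.fst f g) := inferInstance
  haveI hdom : IsSchemeTheoreticallyDominant (pullback.fst f g) := inferInstance
  haveI hred : IsReduced X := IsSchemeTheoreticallyDominant.isReduced (pullback.fst f g)
  haveI : IsDominant (pullback.fst f g) := (isSchemeTheoreticallyDominant_iff_isDominant _).1 hdom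
  haveI : Nonempty X := ⟨pullback.fst f g (Nonempty.some inferInstance)⟩
  haveI : IrreducibleSpace X := by
    have h1 : IsIrreducible (Set.range (pullback.fst f g)) := by
      rw [← Set.image_univ]
      exact (IrreducibleSpace.isIrreducible_univ _).image _ (pullback.fst f g).continuous.continuousOn
    have h2 := h1.closure
    rw [(pullback.fst f g).denseRange.closure_range] at h2
    exact (irreducibleSpace_def X).2 h2
  exact (isIntegral_iff_irreducibleSpace_and_isReduced X).2 ⟨inferInstance, inferInstance⟩
end Groth.Agent.S8886
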