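import Groth.Statements.S8888
import Groth.Agent.OmegaLib.StalkCompat
import Mathlib

set_option autoImplicit false
universe u
open CategoryTheory CategoryTheory.Limits AlgebraicGeometry TopologicalSpace
open SDiv

namespace Groth.Agent.S8888

/-- Let f : X ⟶ Y be a dominant morphism of integral schemes and G a quasi-coherent O_Y-module. Then the
rank of f^*G on X, the dimension of its stalk at the generic point of X over the function field of
X, equals the rank of G on Y. -/
theorem result {X Y : Scheme.{u}} [IsIntegral X] [IsIntegral Y] (f : X ⟶ Y) [IsDominant f]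
    (G : Y.Modules) (hG : Coh.IsQCoh G) :
    Module.rank ↑(X.presheaf.stalk (genericPoint ↥X)) ↑(((Scheme.Modules.pullback f).obj G).presheaf.stalk (genericPoint ↥X)) =
      Module.rank ↑(Y.presheaf.stalk (genericPoint ↥Y)) ↑(G.presheaf.stalk (genericPoint ↥Y)) := by
  have hη : f (genericPoint X) = genericPoint Y := by
    refine ((genericPoint_spec X).image f.continuous).eq ?_
    rw [Set.image_univ, f.denseRange.closure_range]
    exact genericPoint_spec Y
  have hfld : IsField (Y.presheaf.stalk (f (genericPoint X))) := by
    rw [hη]
    exact Field.toIsField Y.functionField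
  suffices key : ∀ y : Y, f (genericPoint X) = y →
      Module.rank ↑(X.presheaf.stalk (genericPoint X))
        ↑(((Scheme.Modules.pullback f).obj G).presheaf.stalk (genericPoint X)) =
      Module.rank ↑(Y.presheaf.stalk y) ↑(G.presheaf.stalk y) from key _ hη
  rintro _ rfl
  letI := hfld.toField
  letI := (f.stalkMap (genericPoint X)).hom.toAlgebra
  obtain ⟨E, -⟩ := OmegaLib.exists_pullback_stalk_equiv f G (genericPoint X)
  refine E.rank_eq.symm.trans ?_
  rw [Module.rank_baseChange, Cardinal.lift_id]
  rfl
end Groth.Agent.S8888
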