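import Groth.Statements.S8906
import Groth.Agent.SDiv28.RegImmKinds

set_option autoImplicit false
universe u
open CategoryTheory CategoryTheory.Limits AlgebraicGeometry TopologicalSpace
open SDiv

namespace Groth.Agent.S8906

/-- Let i : Z ⟶ X be an immersion which is regular of one of the four kinds (regular, Koszul-regular,
H_1-regular or quasi-regular) and g : X' ⟶ X a flat morphism. Then the base change Z ×_X X' ⟶ X' of
i is a regular immersion of the same kind. -/
theorem result {Z X X' : Scheme.{u}} (i : Z ⟶ X) (k : RegImm.Kind)
    (hi : RegImm.IsRegularImmersion k i) (g : X' ⟶ X) [Flat g] :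
    RegImm.IsRegularImmersion k (pullback.snd i g) := by
  exact Groth.Agent.SDiv28.RegImmKinds.baseChange_flat k i g (pullback.snd i g) (pullback.fst i g)
    (IsPullback.of_hasPullback i g) hi
end Groth.Agent.S8906
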