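import Groth.Statements.S8908
import Groth.Agent.AssSch12.Push
import Groth.Agent.Coherent.QcohOps
import Groth.Agent.Coherent.CohOps
import Groth.Agent.Coherent.Existence.SysKernel
import Groth.Agent.MeroLib.Torsion
import Groth.Agent.ModStalk.Exact
-- import your own Groth.Agent.* helpers here

set_option autoImplicit false
set_option backward.isDefEq.respectTransparency false
set_option backward.isDefEq.respectTransparency.types false
universe u
open CategoryTheory CategoryTheory.Limits AlgebraicGeometry TopologicalSpace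
open SDiv

namespace Groth.Agent.S8908

open CategoryTheory Limits AlgebraicGeometry TopologicalSpace in
theorem support_of_ass {X : Scheme.{u}} (F : X.Modules) {t : X} (h : t ∈ AssSch.Ass F) : t ∈ CohB1.support F := by
  intro hs
  obtain ⟨hp, z, hz⟩ := (h : IsAssociatedPrime _ _)
  refine hp.ne_top ?_
  rw [hz, hs.elim z 0, Ideal.radical_eq_top]
  exact (Ideal.eq_top_iff_one _).2 (by rw [Submodule.mem_colon_singleton]; simp)

open CategoryTheory Limits AlgebraicGeometry TopologicalSpace in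
theorem quasiCompact_ι {X : Scheme.{u}} [IsLocallyNoetherian X] (W : X.Opens) : QuasiCompact W.ι := by
  refine quasiCompact_iff_forall_isAffineOpen.2 fun U hU => ?_
  refine W.ι.isOpenEmbedding.isInducing.isCompact_iff.2 ?_
  haveI : IsNoetherianRing Γ(X, U) := IsLocallyNoetherian.component_noetherian ⟨U, hU⟩
  haveI : NoetherianSpace ↥U := noetherianSpace_of_isAffineOpen U hU
  have hsub : W.ι '' (W.ι ⁻¹ᵁ U : Set W.toScheme) ⊆ (U : Set X) := by
    rintro _ ⟨z, hz, rfl⟩; exact hz
  have := (NoetherianSpace.isCompact (Subtype.val ⁻¹' (W.ι '' (W.ι ⁻¹ᵁ U : Set W.toScheme)) : Set ↥U)).image continuous_subtype_val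
  convert this using 1
  ext a
  exact ⟨fun ha => ⟨⟨a, hsub ha⟩, ha, rfl⟩, fun ⟨_, hb, hba⟩ => hba ▸ hb⟩

open CategoryTheory Limits AlgebraicGeometry TopologicalSpace in
theorem unit_app_eq_zero_iff {X : Scheme.{u}} (W : X.Opens) (F : X.Modules) (V : X.Opens) (m : Γ(F, V)) :
    ((Scheme.Modules.restrictAdjunction W.ι).unit.app F).app V m = 0 ↔
      ∀ (x : X) (hx : x ∈ V), x ∈ W → F.presheaf.germ V x hx m = 0 := by
  have hη : ((Scheme.Modules.restrictAdjunction W.ι).unit.app F).app V m =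
      F.presheaf.map (homOfLE (W.ι.image_preimage_le V)).op m :=
    ConcreteCategory.congr_hom (Scheme.Modules.restrictAdjunction_unit_app_app W.ι F V) m
  constructor
  · intro h x hx hxW
    have hx' : x ∈ W.ι ''ᵁ (W.ι ⁻¹ᵁ V) := ⟨⟨x, hxW⟩, hx, rfl⟩
    rw [← TopCat.Presheaf.germ_res_apply F.presheaf (homOfLE (W.ι.image_preimage_le V)) x hx' m]
    exact (congrArg _ (hη.symm.trans h)).trans (map_zero _)
  · intro h
    refine hη.trans ?_
    refine TopCat.Presheaf.section_ext ⟨F.presheaf, F.isSheaf⟩ (W.ι ''ᵁ (W.ι ⁻¹ᵁ V)) _ 0 fun x hx => ?_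
    rw [map_zero]
    refine (TopCat.Presheaf.germ_res_apply F.presheaf (homOfLE (W.ι.image_preimage_le V)) x hx m).trans ?_
    exact h x (W.ι.image_preimage_le V hx) (W.ι_image_le _ hx)

open CategoryTheory Limits AlgebraicGeometry TopologicalSpace in
theorem exists_lift {X : Scheme.{u}} {F G K : X.Modules} (η : F ⟶ G) (U : X.Opens) (m : Γ(F, U))
    (hm : η.app U m = 0) (e : K ≅ kernel η) (a : K ⟶ F) (ha : a = e.hom ≫ kernel.ι η) :
    ∃ k : Γ(K, U), a.app U k = m := by
  subst ha
  obtain ⟨k, hk⟩ := Groth.Agent.Coherent.kernel_sections_exact η m hm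
  refine ⟨e.inv.app U k, ?_⟩
  show (e.inv ≫ e.hom ≫ kernel.ι η).app U k = m
  rw [Iso.inv_hom_id_assoc]
  exact hk

end Groth.Agent.S8908

namespace Groth.Agent.S8908

/-- Let X be a locally Noetherian scheme and F a coherent O_X-module. The coherent subsheaves K ⊆ F
whose support is nowhere dense in Supp(F) have a largest element K. Setting F' = F/K: (1) Supp(F') =
Supp(F); (2) F' has no embedded associated points; (3) there is a dense open U ⊆ X with U ∩ Supp(F)
dense in Supp(F) over which the quotient map F → F' restricts to an isomorphism. -/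
theorem result (X : Scheme.{u}) [IsLocallyNoetherian X] (F : X.Modules)
    (hF : Coh.IsCoh F) :
    ∃ K : Subobject F, Coh.IsCoh (K : X.Modules) ∧
      (∀ U : X.Opens, (U : Set ↥X) ∩ CohB1.support F ⊆ CohB1.support (K : X.Modules) → (U : Set ↥X) ∩ CohB1.support F = ∅) ∧
      (∀ K' : Subobject F, Coh.IsCoh (K' : X.Modules) →
        (∀ U : X.Opens, (U : Set ↥X) ∩ CohB1.support F ⊆ CohB1.support (K' : X.Modules) → (U : Set ↥X) ∩ CohB1.support F = ∅) →
        K' ≤ K) ∧
      CohB1.support (cokernel K.arrow) = CohB1.support F ∧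
      (∀ x : ↥X, Curv2.IsAssPoint (cokernel K.arrow) x → ∀ y : ↥X, Curv2.IsAssPoint (cokernel K.arrow) y → y ⤳ x → y = x) ∧
      ∃ U : X.Opens, Dense (U : Set ↥X) ∧ CohB1.support F ⊆ closure ((U : Set ↥X) ∩ CohB1.support F) ∧
        IsIso ((Scheme.Modules.restrictFunctor U.ι).map (cokernel.π K.arrow)) := by
  classical
  haveI : Coh.IsQCoh F := hF.1
  haveI : F.IsQuasicoherent := hF.1
  let Ass := AssSch.Ass F
  let E : Set X := {x | x ∈ Ass ∧ ∃ y ∈ Ass, y ⤳ x ∧ y ≠ x}
  let Z : Set X := ⋃ e ∈ E, closure {e}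
  have hfinA : ∀ U : X.Opens, IsAffineOpen U → (Ass ∩ (U : Set X)).Finite := fun U hU => by
    haveI := Groth.Agent.AssSch12.isNoetherianRing_of_isAffineOpen (X := X) hU
    haveI : Module.Finite Γ(X, U) Γ(F, U) := ((Groth.Agent.Coherent.isCoh_iff_finite_sections F).1 hF).2 U hU
    refine ((associatedPrimes.finite Γ(X, U) Γ(F, U)).biUnion
      (t := fun q => {x : X | ∃ hx : x ∈ U, Groth.Agent.AssSch12.primeAt hU hx = q}) fun q _ =>
        Set.Subsingleton.finite ?_).subset ?_
    · rintro a ⟨ha, rfl⟩ b ⟨hb, hb'⟩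
      have e : hU.primeIdealOf ⟨a, ha⟩ = hU.primeIdealOf ⟨b, hb⟩ := PrimeSpectrum.ext hb'.symm
      have := congrArg hU.fromSpec e
      rwa [hU.fromSpec_primeIdealOf, hU.fromSpec_primeIdealOf] at this
    · rintro x ⟨hxA, hxU⟩
      exact Set.mem_biUnion ((Groth.Agent.AssSch12.mem_ass_iff hU hxU F).1 hxA) ⟨hxU, rfl⟩
  have haff : ∀ (x : X) (V : X.Opens), x ∈ V → ∃ U : X.Opens, IsAffineOpen U ∧ x ∈ U ∧ U ≤ V := fun x V hx => by
    obtain ⟨U, hU, hxU, hle⟩ := exists_isAffineOpen_mem_and_subset (x := x) (U := V) hx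
    exact ⟨U, hU, hxU, hle⟩
  have hZc : IsClosed Z := by
    refine isOpen_compl_iff.1 (isOpen_iff_forall_mem_open.2 fun z hz => ?_)
    obtain ⟨U, hU, hzU, -⟩ := haff z ⊤ trivial
    refine ⟨(U : Set X) \ ⋃ e ∈ E ∩ (U : Set X), closure {e}, ?_, U.isOpen.sdiff ?_, hzU, ?_⟩
    · rintro w ⟨hwU, hw⟩ hwZ
      obtain ⟨e, he, hwe⟩ := Set.mem_iUnion₂.1 hwZ
      exact hw (Set.mem_biUnion ⟨he, (specializes_iff_mem_closure.2 hwe).mem_open U.isOpen hwU⟩ hwe)
    · exact ((hfinA U hU).subset fun e he => ⟨he.1.1, he.2⟩).isClosed_biUnion fun _ _ => isClosed_closure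
    · intro h
      obtain ⟨e, he, hze⟩ := Set.mem_iUnion₂.1 h
      exact hz (Set.mem_biUnion he.1 hze)
  let W : X.Opens := ⟨Zᶜ, hZc.isOpen_compl⟩
  have hWgen : ∀ {t z : X}, t ⤳ z → z ∈ W → t ∈ W := fun h hz => h.mem_open W.isOpen hz
  -- germs propagate along specialisations
  have hspec : ∀ (V : X.Opens) (m : Γ(F, V)) (t z : X) (hz : z ∈ V) (h : t ⤳ z),
      F.presheaf.germ V t (h.mem_open V.isOpen hz) m ≠ 0 → F.presheaf.germ V z hz m ≠ 0 := by
    intro V m t z hz h hne h0
    obtain ⟨V', hzV', i₁, i₂, he⟩ := TopCat.Presheaf.germ_eq F.presheaf z hz hz m 0 (h0.trans (map_zero _).symm)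
    refine hne ?_
    rw [← TopCat.Presheaf.germ_res_apply F.presheaf i₁ t (h.mem_open V'.isOpen hzV') m, he, map_zero, map_zero]
  -- points of the support generalise to associated points in `W`
  have hgenW : ∀ y ∈ CohB1.support F, ∃ t ∈ Ass, t ∈ W ∧ t ⤳ y := fun y hy => by
    obtain ⟨U, hU, hyU, -⟩ := haff y ⊤ trivial
    obtain ⟨z, hz⟩ : ∃ z : F.presheaf.stalk y, z ≠ 0 := by
      by_contra hn
      exact hy (subsingleton_of_forall_eq 0 fun z => by_contra fun h => hn ⟨z, h⟩)
    obtain ⟨f, m, hf, hm⟩ := Groth.Agent.QCohLoc.exists_smul_stalk_eq_germ F hU hyU z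
    have hm0 : F.presheaf.germ U y hyU m ≠ 0 := fun h => by
      rw [h] at hm
      exact hz (((Scheme.mem_basicOpen _ _ _ hyU).1 hf).smul_eq_zero.1 hm)
    obtain ⟨T, -, hT, hgen⟩ := Groth.Agent.AssSch12.exists_finite_ass_generating_support hU F m
    obtain ⟨a, haT, hay⟩ := hgen y hyU hm0
    obtain ⟨haU, haA, -⟩ := hT a haT
    let A : Set X := {t | t ∈ Ass ∧ t ⤳ a}
    have hAfin : A.Finite := (hfinA U hU).subset fun t ht => ⟨ht.1, ht.2.mem_open U.isOpen haU⟩
    letI : Preorder X := specializationPreorder X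
    haveI : T0Space X := inferInstance
    obtain ⟨t, ht⟩ := hAfin.exists_maximal ⟨a, haA, specializes_rfl⟩
    have htE : t ∉ E := fun ⟨_, b, hb, hbt, hne⟩ =>
      hne (Specializes.antisymm hbt (ht.2 ⟨hb, hbt.trans ht.1.2⟩ hbt)).eq
    refine ⟨t, ht.1.1, fun htZ => ?_, ht.1.2.trans hay⟩
    obtain ⟨e, he, hte⟩ := Set.mem_iUnion₂.1 htZ
    have het : e ⤳ t := specializes_iff_mem_closure.2 hte
    exact htE ((Specializes.antisymm het (ht.2 ⟨he.1, het.trans ht.1.2⟩ het)).eq ▸ he)
  have hnd : ∀ O : X.Opens, (O : Set X) ∩ CohB1.support F ⊆ Z → (O : Set X) ∩ CohB1.support F = ∅ := fun O hO => by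
    refine Set.eq_empty_iff_forall_notMem.2 fun y hy => ?_
    obtain ⟨t, htA, htW, hty⟩ := hgenW y hy.2
    refine htW (hO ⟨hty.mem_open O.isOpen hy.1, ?_⟩)
    exact Groth.Agent.S8908.support_of_ass F htA
  haveI : QuasiCompact W.ι := Groth.Agent.S8908.quasiCompact_ι W
  let η := (Scheme.Modules.restrictAdjunction W.ι).unit.app F
  haveI : Coh.IsQCoh ((Scheme.Modules.restrictFunctor W.ι).obj F) := inferInstance
  haveI : Coh.IsQCoh ((Scheme.Modules.restrictFunctor W.ι ⋙ Scheme.Modules.pushforward W.ι).obj F) :=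
    Groth.Agent.Coherent.isQCoh_push W.ι _
  haveI : Coh.IsQCoh ((𝟭 X.Modules).obj F) := hF.1
  haveI hKq : Coh.IsQCoh (kernel η) := Groth.Agent.Coherent.isQCoh_kernel η
  have hKc : Coh.IsCoh (kernel η) := Groth.Agent.Coherent.isCoh_of_mono (kernel.ι η) hF hKq
  -- the kernel consists of the sections vanishing on `W`
  have hη : ∀ (V : X.Opens) (m : Γ(F, V)), η.app V m = 0 ↔ ∀ (x : X) (hx : x ∈ V), x ∈ W → F.presheaf.germ V x hx m = 0 :=
    fun V m => Groth.Agent.S8908.unit_app_eq_zero_iff W F V m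
  let K : Subobject F := Subobject.mk (kernel.ι η)
  let e : (K : X.Modules) ≅ kernel η := Subobject.underlyingIso (kernel.ι η)
  have harr : K.arrow = e.hom ≫ kernel.ι η := (Subobject.underlyingIso_hom_comp_eq_mk (kernel.ι η)).symm
  let π := cokernel.π K.arrow
  have hπη : ∃ δ, π ≫ δ = η := ⟨cokernel.desc _ η (by rw [harr, Category.assoc, kernel.condition, comp_zero]),
    cokernel.π_desc _ _ _⟩
  obtain ⟨δ, hδ⟩ := hπη
  -- sections killed by the quotient map die on `W`
  have hπ : ∀ (V : X.Opens) (m : Γ(F, V)), π.app V m = 0 → η.app V m = 0 := fun V m h => by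
    rw [← hδ]
    show δ.app V (π.app V m) = 0
    rw [h, map_zero]
  have hKc' : Coh.IsCoh (K : X.Modules) :=
    ⟨Groth.Agent.Coherent.isQCoh_of_iso e.symm, Groth.Agent.Coherent.isFT_of_epi e.inv hKc.2⟩
  have hKW : ∀ (V : X.Opens) (m : Γ((K : X.Modules), V)) (x : X) (hx : x ∈ V), x ∈ W →
      F.presheaf.germ V x hx (K.arrow.app V m) = 0 := fun V m x hx hxW => by
    refine (hη V _).1 ?_ x hx hxW
    show (K.arrow ≫ η).app V m = 0
    rw [harr, Category.assoc, kernel.condition, comp_zero]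
    rfl
  haveI : Coh.IsQCoh (cokernel K.arrow) := (Groth.Agent.Coherent.isCoh_cokernel K.arrow hKc'.1 hF).1
  have hQc : Coh.IsCoh (cokernel K.arrow) := Groth.Agent.Coherent.isCoh_cokernel K.arrow hKc'.1 hF
  -- on `W` the quotient map is bijective on stalks
  have hbij : ∀ x ∈ W, Function.Bijective ((DerSch.stalkFunctor X x).map π).hom := fun x hxW => by
    refine ⟨(injective_iff_map_eq_zero _).2 fun z hz => ?_,
      (ModuleCat.epi_iff_surjective _).1 inferInstance⟩
    obtain ⟨V, hx, m, rfl⟩ := F.presheaf.germ_exist z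
    have hz' : (cokernel K.arrow).presheaf.germ V x hx (π.app V m) = 0 :=
      (TopCat.Presheaf.stalkFunctor_map_germ_apply V x hx π.mapPresheaf m).symm.trans hz
    obtain ⟨V', hxV', i₁, i₂, he⟩ := TopCat.Presheaf.germ_eq _ x hx hx _ 0 (hz'.trans (map_zero _).symm)
    rw [map_zero] at he
    have h1 : π.app V' (F.presheaf.map i₁.op m) = 0 :=
      (ConcreteCategory.congr_hom (π.mapPresheaf.naturality i₁.op) m).trans he
    rw [← TopCat.Presheaf.germ_res_apply F.presheaf i₁ x hxV' m]
    exact (hη V' _).1 (hπ _ _ h1) x hxV' hxW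
  have hsuppK : CohB1.support (K : X.Modules) ⊆ Z := fun x hx => by
    by_contra hxZ
    refine hx (subsingleton_of_forall_eq 0 fun z => ?_)
    obtain ⟨V, hxV, m, rfl⟩ := (K : X.Modules).presheaf.germ_exist z
    have hinj : Function.Injective ((DerSch.stalkFunctor X x).map K.arrow).hom :=
      (ModuleCat.mono_iff_injective _).1 inferInstance
    refine hinj (Eq.trans ?_ (map_zero _).symm)
    exact (TopCat.Presheaf.stalkFunctor_map_germ_apply V x hxV K.arrow.mapPresheaf m).trans (hKW V m x hxV hxZ)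
  refine ⟨K, hKc', fun O hO => hnd O (hO.trans hsuppK), fun K' hK' hnd' => ?_, ?_, ?_, W, ?_, ?_, ?_⟩
  · -- maximality
    refine Subobject.le_mk_of_comm (kernel.lift η K'.arrow ?_) (kernel.lift_ι _ _ _)
    refine Scheme.Modules.hom_ext _ _ fun V => ConcreteCategory.hom_ext _ _ fun m => ?_
    show η.app V (K'.arrow.app V m) = 0
    refine (hη V _).2 fun x hx hxW => by_contra fun hne => ?_
    obtain ⟨U, hU, hxU, hUV⟩ := haff x V hx
    let s : Γ(F, U) := F.presheaf.map (homOfLE hUV).op (K'.arrow.app V m)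
    have hs : F.presheaf.germ U x hxU s ≠ 0 := by
      rw [TopCat.Presheaf.germ_res_apply]; exact hne
    obtain ⟨T, -, hT, hgen⟩ := Groth.Agent.AssSch12.exists_finite_ass_generating_support hU F s
    obtain ⟨t, htT, htx⟩ := hgen x hxU hs
    obtain ⟨htU, htA, hts⟩ := hT t htT
    have htW : t ∈ W := hWgen htx hxW
    let O : X.Opens := ⟨(U : Set X) \ ⋃ a ∈ (Ass ∩ (U : Set X)) \ {t}, closure {a},
      U.isOpen.sdiff (((hfinA U hU).subset Set.sdiff_subset).isClosed_biUnion fun _ _ => isClosed_closure)⟩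
    have htO : t ∈ O := by
      refine ⟨htU, fun h => ?_⟩
      obtain ⟨a, ha, hat⟩ := Set.mem_iUnion₂.1 h
      exact htW (Set.mem_biUnion (show t ∈ E from ⟨htA, a, ha.1.1, specializes_iff_mem_closure.2 hat, ha.2⟩)
        (subset_closure rfl))
    have hsub : (O : Set X) ∩ CohB1.support F ⊆ CohB1.support (K' : X.Modules) := fun z hz => by
      obtain ⟨a, haA, -, haz⟩ := hgenW z hz.2
      have hat : a = t := by_contra fun hne' => hz.1.2 (Set.mem_biUnion
        (show a ∈ (Ass ∩ (U : Set X)) \ {t} from ⟨⟨haA, haz.mem_open U.isOpen hz.1.1⟩, hne'⟩)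
        (specializes_iff_mem_closure.1 haz))
      subst hat
      have h1 := hspec U s a z hz.1.1 haz hts
      intro hsub
      have h2 := TopCat.Presheaf.stalkFunctor_map_germ_apply V z (hUV hz.1.1) K'.arrow.mapPresheaf m
      rw [hsub.elim ((K' : X.Modules).presheaf.germ V z (hUV hz.1.1) m) 0, map_zero] at h2
      refine h1 ?_
      rw [TopCat.Presheaf.germ_res_apply]
      exact h2.symm
    exact (Set.eq_empty_iff_forall_notMem.1 (hnd' O hsub)) t ⟨htO, Groth.Agent.S8908.support_of_ass F htA⟩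
  · -- support
    refine Set.Subset.antisymm (fun x hx hx' => hx ?_) fun x hx => ?_
    · haveI : Subsingleton ↑((DerSch.stalkFunctor X x).obj F) := hx'
      exact ((ModuleCat.epi_iff_surjective ((DerSch.stalkFunctor X x).map π)).1 inferInstance).subsingleton
    · obtain ⟨t, htA, htW, htx⟩ := hgenW x hx
      have ht : t ∈ CohB1.support (cokernel K.arrow) := fun h => by
        haveI : Subsingleton ↑((DerSch.stalkFunctor X t).obj (cokernel K.arrow)) := h
        exact Groth.Agent.S8908.support_of_ass F htA (hbij t htW).1.subsingleton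
      exact htx.mem_closed (Groth.Agent.Coherent.isClosed_support _
        (Groth.Agent.Coherent.locallyFinGen_of_isFT _ hQc.2)) ht
  · -- no embedded points
    have key : ∀ x : X, Curv2.IsAssPoint (cokernel K.arrow) x → x ∈ Ass ∧ x ∈ W := fun x hx => by
      have hxW : x ∈ W := by
        intro hxZ
        obtain ⟨U, hU, hxU, -⟩ := haff x ⊤ trivial
        haveI : (cokernel K.arrow).IsQuasicoherent := hQc.1
        haveI := Groth.Agent.AssSch12.isNoetherianRing_of_isAffineOpen (X := X) hU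
        obtain ⟨-, sQ, hsQ⟩ := isAssociatedPrime_iff.1
          ((Groth.Agent.AssSch12.mem_ass_iff hU hxU (cokernel K.arrow)).1 hx)
        obtain ⟨m, rfl⟩ := Groth.Agent.Coherent.Existence.app_surjective_of_epi π hU sQ
        have h0 : π.app U m = 0 := by
          have hker : η.app U m = 0 := (hη U m).2 fun w hwU hwW => by
            by_contra hne
            have hπw : (cokernel K.arrow).presheaf.germ U w hwU (π.app U m) ≠ 0 := fun h =>
              hne ((injective_iff_map_eq_zero _).1 (hbij w hwW).1 _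
                ((TopCat.Presheaf.stalkFunctor_map_germ_apply U w hwU π.mapPresheaf m).trans h))
            refine hwW (Specializes.mem_closed ?_ hZc hxZ)
            refine (Groth.Agent.AssSch12.specializes_iff hU hxU hwU).2 ?_
            intro r hr
            rw [hsQ, Submodule.mem_colon_singleton, Submodule.mem_bot] at hr
            rw [Groth.Agent.AssSch12.mem_primeAt_iff]
            exact fun hwr => hπw (Groth.Agent.AssSch12.germ_eq_zero_of_smul_eq_zero hwU (cokernel K.arrow) hwr hr)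
          obtain ⟨k, hk⟩ : ∃ k : Γ((K : X.Modules), U), K.arrow.app U k = m :=
            Groth.Agent.S8908.exists_lift η U m hker e K.arrow harr
          rw [← hk]
          show (K.arrow ≫ cokernel.π K.arrow).app U k = 0
          rw [cokernel.condition]
          rfl
        have h1 : (1 : Γ(X, U)) ∈ Groth.Agent.AssSch12.primeAt hU hxU := by
          rw [hsQ, Submodule.mem_colon_singleton, Submodule.mem_bot, h0, smul_zero]
        exact (hU.primeIdealOf ⟨x, hxU⟩).isPrime.ne_top ((Ideal.eq_top_iff_one _).2 h1)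
      refine ⟨?_, hxW⟩
      let eq := LinearEquiv.ofBijective ((DerSch.stalkFunctor X x).map π).hom (hbij x hxW)
      show IsLocalRing.maximalIdeal _ ∈ associatedPrimes _ ((DerSch.stalkFunctor X x).obj F)
      rw [LinearEquiv.AssociatedPrimes.eq eq]
      exact hx
    intro x hx y hy hyx
    obtain ⟨hxA, hxW⟩ := key x hx
    by_contra hne
    exact hxW (Set.mem_biUnion (show x ∈ E from ⟨hxA, y, (key y hy).1, hyx, hne⟩) (subset_closure rfl))
  · -- density
    refine dense_iff_inter_open.2 fun O hO ⟨y, hy⟩ => ?_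
    by_contra hn
    have hOZ : O ⊆ Z := fun z hz => by_contra fun hzZ => hn ⟨z, hz, hzZ⟩
    have h0 := hnd ⟨O, hO⟩ fun z hz => hOZ hz.1
    obtain ⟨e, he, hye⟩ := Set.mem_iUnion₂.1 (hOZ hy)
    exact (Set.eq_empty_iff_forall_notMem.1 h0) e ⟨(specializes_iff_mem_closure.2 hye).mem_open hO hy,
      Groth.Agent.S8908.support_of_ass F he.1⟩
  · intro y hy
    obtain ⟨t, htA, htW, hty⟩ := hgenW y hy
    exact closure_mono (Set.singleton_subset_iff.2 (show t ∈ (W : Set X) ∩ CohB1.support F from ⟨htW, Groth.Agent.S8908.support_of_ass F htA⟩))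
      (specializes_iff_mem_closure.1 hty)
  · haveI : Mono ((Scheme.Modules.restrictFunctor W.ι).map π) := by
      refine Groth.Agent.MeroLib.mono_of_app_injective _ fun P => (injective_iff_map_eq_zero _).2 fun m hm => ?_
      refine TopCat.Presheaf.section_ext ⟨F.presheaf, F.isSheaf⟩ (W.ι ''ᵁ P) m 0 fun x hx => ?_
      refine ((hη _ m).1 (hπ _ m hm) x hx (W.ι_image_le P hx)).trans (map_zero _).symm
    exact isIso_of_mono_of_epi _

end Groth.Agent.S8908
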