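import Groth.Statements.S8922
import Groth.Agent.RelVALib.AffBaseChange
import Groth.Agent.FlatMorFlatten.Scheme
import Groth.Agent.Coherent.Existence.SysKernel
import Groth.Agent.ModPairLib.EffCartier
import Groth.Agent.ProjLib.IdealComap
-- import your own Groth.Agent.* helpers here

set_option autoImplicit false
set_option backward.isDefEq.respectTransparency false
set_option backward.isDefEq.respectTransparency.types false
set_option maxHeartbeats 800000
universe u
open CategoryTheory CategoryTheory.Limits AlgebraicGeometry TopologicalSpace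
open SDiv

namespace Groth.Agent.S8922

open CategoryTheory Limits AlgebraicGeometry in
/-- Inverse images of effective Cartier ideals are locally principal. -/
theorem exists_principal {P T : Scheme.{u}} (q : P ⟶ T) {D : T.IdealSheafData} (hD : BlowUp.IsEffCartierIdeal D)
    (y : P) : ∃ W : P.affineOpens, y ∈ W.1 ∧ ∃ a₀, (D.comap q).ideal W = Ideal.span {a₀} := by
  obtain ⟨U, hU, d, -, hd⟩ := hD (q y)
  obtain ⟨W, hW, hyW, hle⟩ := exists_isAffineOpen_mem_and_subset (x := y) (U := q ⁻¹ᵁ U.1) hU
  refine ⟨⟨W, hW⟩, hyW, (q.appLE U.1 W hle).hom d, ?_⟩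
  rw [Groth.Agent.ProjLib.comap_ideal_eq D q U ⟨W, hW⟩ hle, hd, Ideal.map_span, Set.image_singleton]

end Groth.Agent.S8922

namespace Groth.Agent.S8922

/-- Let S be a scheme, 𝓘 a quasi-coherent ideal sheaf on S with closed subscheme Z, b : S' ⟶ S a blowing
up of S in Z, g : X ⟶ Y an affine morphism of schemes over S, F a quasi-coherent O_X-module, and π :
pr_X^*F ⟶ F' a strict transform of F along b (on X ×_S S'). Write g' : X ×_S S' ⟶ Y ×_S S' for the
base change of g. Then g'_*F' is a strict transform of g_*F along b: there is an epimorphism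
pr_Y^*(g_*F) ⟶ g'_*F' whose kernel consists, affine-locally, exactly of the sections annihilated by
a power of the inverse image of 𝓘. The published statement identifies g'_*F' with the strict
transform through the canonical base-change isomorphism; this row asserts only that some epimorphism
from pr_Y^*(g_*F) onto g'_*F' has the strict-transform property. -/
theorem result {X Y S S' : Scheme.{u}} (hX : X ⟶ S) (hY : Y ⟶ S) (g : X ⟶ Y) [IsAffineHom g]
    (h : g ≫ hY = hX) (𝓘 : S.IdealSheafData) (b : S' ⟶ S) (hb : BlowUp.IsBlowUp b 𝓘) (F : X.Modules) (hF : Coh.IsQCoh F)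
    (F' : (pullback hX b).Modules) (π : (Scheme.Modules.pullback (pullback.fst hX b)).obj F ⟶ F')
    (hπ : BlowUp.IsStrictTransform (pullback.fst hX b) (𝓘.comap hX) F F' π) :
    ∃ π' : (Scheme.Modules.pullback (pullback.fst hY b)).obj ((Scheme.Modules.pushforward g).obj F) ⟶
        (Scheme.Modules.pushforward (pullback.map hX b hY b g (𝟙 S') (𝟙 S)
          ((Category.comp_id hX).trans h.symm) ((Category.comp_id b).trans (Category.id_comp b).symm))).obj F',
      BlowUp.IsStrictTransform (pullback.fst hY b) (𝓘.comap hY) ((Scheme.Modules.pushforward g).obj F)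
        ((Scheme.Modules.pushforward (pullback.map hX b hY b g (𝟙 S') (𝟙 S)
          ((Category.comp_id hX).trans h.symm) ((Category.comp_id b).trans (Category.id_comp b).symm))).obj F') π' := by
  obtain rfl := h
  let gX := pullback.fst (g ≫ hY) b
  let gY := pullback.fst hY b
  let g' := pullback.map (g ≫ hY) b hY b g (𝟙 S') (𝟙 S)
    ((Category.comp_id _).trans rfl) ((Category.comp_id b).trans (Category.id_comp b).symm)
  have sq : IsPullback gX g' g gY := by
    refine IsPullback.of_bot ?_ (pullback.lift_fst _ _ _).symm (IsPullback.of_hasPullback hY b)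
    rw [pullback.lift_snd, Category.comp_id]
    exact IsPullback.of_hasPullback (g ≫ hY) b
  haveI : IsAffineHom g' := MorphismProperty.of_isPullback (P := @IsAffineHom.{u}) sq ‹_›
  let N := (Scheme.Modules.pullback gX).obj F
  haveI := hF
  haveI hN : Coh.IsQCoh N := Groth.Agent.EGA43.InjFibre.isQCoh_pullback gX F
  have hEX : (𝓘.comap (g ≫ hY)).comap gX = (𝓘.comap b).comap (pullback.snd (g ≫ hY) b) := by
    rw [← Scheme.IdealSheafData.comap_comp, ← Scheme.IdealSheafData.comap_comp, pullback.condition]
  have hfg : BlowUp.IsFiniteTypeIdeal ((𝓘.comap (g ≫ hY)).comap gX) := by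
    rw [hEX]
    exact Groth.Agent.FlatMorAdm.isFiniteType_comap _ _ (Groth.Agent.ModPairLib.isFiniteType_of_effCartier hb.1)
  obtain ⟨G₀, π₀, hπ₀, hG₀⟩ :=
    Groth.Agent.FlatMorFlatten.exists_isStrictTransform gX (𝓘.comap (g ≫ hY)) F hfg
  obtain ⟨e⟩ := Groth.Agent.FlatMorFlatten.nonempty_iso_strictTransform hπ hπ₀ fun y => by
    obtain ⟨W, hyW, a₀, hW⟩ := exists_principal (pullback.snd (g ≫ hY) b) hb.1 y
    exact ⟨W, hyW, a₀, by rw [hEX]; exact hW⟩
  haveI hF' : Coh.IsQCoh F' := Groth.Agent.Coherent.isQCoh_of_iso e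
  haveI : Epi π := hπ.1
  haveI := Groth.Agent.RelVALib.isIso_bcHom sq F
  let u : (Scheme.Modules.pullback gY).obj ((Scheme.Modules.pushforward g).obj F) ⟶
      (Scheme.Modules.pushforward g').obj N := Groth.Agent.RelVALib.bcHom sq F
  let v : (Scheme.Modules.pushforward g').obj N ⟶ (Scheme.Modules.pushforward g').obj F' :=
    (Scheme.Modules.pushforward g').map π
  refine ⟨u ≫ v, ?_, fun V m => ?_⟩
  · haveI : Epi v := Groth.Agent.Coherent.Existence.epi_of_affine_surjective v fun U hU =>
      Groth.Agent.Coherent.Existence.app_surjective_of_epi π (hU.preimage g')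
    infer_instance
  let W : (pullback (g ≫ hY) b).affineOpens := ⟨g' ⁻¹ᵁ V.1, V.2.preimage g'⟩
  let m' : Γ(N, W.1) := u.app V.1 m
  have hu : Function.Bijective (u.app V.1) := ConcreteCategory.bijective_of_isIso (u.app V.1)
  have hideal : ∀ n : ℕ, ((((𝓘.comap (g ≫ hY)).comap gX) ^ n).ideal W) =
      ((((𝓘.comap hY).comap gY) ^ n).ideal V).map (g'.app V.1).hom := fun n => by
    have h1 : ((𝓘.comap hY).comap gY).comap g' = (𝓘.comap (g ≫ hY)).comap gX := by
      rw [← Scheme.IdealSheafData.comap_comp, ← Scheme.IdealSheafData.comap_comp,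
        ← Scheme.IdealSheafData.comap_comp, ← Category.assoc, sq.w.symm]
    rw [← h1, Scheme.IdealSheafData.ideal_pow, Scheme.IdealSheafData.ideal_pow, Pi.pow_apply, Pi.pow_apply,
      Groth.Agent.ProjLib.comap_ideal_eq _ g' V W le_rfl, Ideal.map_pow, Scheme.Hom.app_eq_appLE]
  show v.app V.1 (u.app V.1 m) = 0 ↔ _
  refine (hπ.2 W m').trans ⟨?_, ?_⟩
  · rintro ⟨n, hn⟩
    refine ⟨n, fun a ha => hu.1 ?_⟩
    rw [Scheme.Modules.Hom.app_smul, map_zero]
    exact hn _ ((hideal n).ge (Ideal.mem_map_of_mem _ ha))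
  · rintro ⟨n, hn⟩
    refine ⟨n, fun a ha => ?_⟩
    have hle : ((((𝓘.comap (g ≫ hY)).comap gX) ^ n).ideal W) ≤
        LinearMap.ker (LinearMap.toSpanSingleton Γ(pullback (g ≫ hY) b, W.1) Γ(N, W.1) m') := by
      rw [hideal n, Ideal.map_le_iff_le_comap]
      intro c hc
      refine LinearMap.mem_ker.2 ?_
      show (g'.app V.1).hom c • m' = 0
      have := Scheme.Modules.Hom.app_smul u c m
      rw [hn c hc, map_zero] at this
      exact this.symm
    exact LinearMap.mem_ker.1 (hle ha)

end Groth.Agent.S8922
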