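import Groth.Statements.S8923
import Groth.Agent.CDiv28.Build
import Groth.Agent.AmpleLib.Ample
import Mathlib

set_option autoImplicit false
universe u
open CategoryTheory CategoryTheory.Limits AlgebraicGeometry TopologicalSpace
open SDiv

namespace Groth.Agent.S8923

/-- Let X be an integral scheme that is locally Noetherian, L an invertible O_X-module and s a nonzero
rational (regular meromorphic) section of L, viewed as a nonzero element of the stalk of L at the
generic point. Then the collection of prime divisors Z ⊆ X with ord_{Z,L}(s) ≠ 0, i.e. the closures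
of the codimension-1 points x (dim O_{X,x} = 1) along which s has nonzero order, is locally finite
in X. -/
theorem result (X : Scheme.{u}) [IsIntegral X] [IsLocallyNoetherian X] (L : X.Modules)
    (hL : PicF.IsInvertible L) (s : Cyc.secFibre L (genericPoint ↥X)) (hs : s ≠ 0) :
    LocallyFinite (fun x : {x : ↥X // ringKrullDim ↑(X.presheaf.stalk x) = 1 ∧
        Cyc.secOrdAt L (genericPoint ↥X) x ((genericPoint_spec ↥X).specializes (Set.mem_univ x)) s ≠ 0} => closure ({x.1} : Set ↥X)) := by
  classical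
  obtain ⟨s, rfl⟩ := Submodule.Quotient.mk_surjective _ s
  have hs0 : s ≠ 0 := fun h => hs (by rw [h]; rfl)
  obtain ⟨U₀, hη, g, hg⟩ := PicLib.exists_isGen hL (genericPoint ↥X)
  obtain ⟨c, hc⟩ := (SDiv28.bijective_smul_germ_gen hg hη).2 s
  dsimp only at hc
  have hc0 : c ≠ 0 := fun e => hs0 (by rw [← hc, e, zero_smul])
  let f : CDiv.KUnits X := Units.mk0 (c : X.functionField) hc0
  let O : X.Opens := U₀ ⊓ ⟨(CDiv.supp (CDiv.div f))ᶜ, (CDiv28.isClosed_supp _).isOpen_compl⟩
  have hqL : Coh.IsQCoh L := AmpleLib.isQCoh_of_isInvertible hL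
  have hzero : ∀ x ∈ O, Order.coheight x = 1 → RefHullLib.sOrd L x s = 0 := by
    intro x hx hx1
    rw [RefHullLib.sOrd_eq hqL hx1 (SDiv28.bijective_smul_germ_gen hg hx.1) (c : X.functionField) s
      (by rw [RefHullLib.toGen_germ]; exact hc)]
    have h1 := CDiv28.ord_eq_of_germOf_eq hx1 (f := f) (g := 1) ((not_not.1 hx.2).trans rfl)
    refine h1.trans ?_
    exact (Scheme.ord_eq_iff hx1 one_ne_zero).2 (map_one _)
  intro z
  obtain ⟨_, ⟨V, hV, rfl⟩, hzV, -⟩ :=
    X.isBasis_affineOpens.exists_subset_of_mem_open (Set.mem_univ z) isOpen_univ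
  refine ⟨V, V.isOpen.mem_nhds hzV, ((RefHullLib.finite_coheight_one_notMem (W := O)
    ⟨hη, CDiv28.genericPoint_notMem_supp _⟩ hV).preimage Subtype.val_injective.injOn).subset ?_⟩
  rintro ⟨x, hx, hord⟩ ⟨w, hw, hwV⟩
  have hx1 := (RefHullLib.ringKrullDim_eq_one_iff_coheight x).1 hx
  refine ⟨?_, hx1, fun hxO => hord (hzero x hxO hx1)⟩
  obtain ⟨_, h1, rfl⟩ := mem_closure_iff.1 hw V V.isOpen hwV
  exact h1
end Groth.Agent.S8923
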