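import Groth.Statements.S8926
import Groth.Agent.InjHullLib.Basic
import Mathlib.Algebra.Algebra.Epi
import Mathlib.LinearAlgebra.TensorProduct.Basic

open TensorProduct

set_option autoImplicit false
universe u
open InjHull

namespace Groth.Agent.S8926

/-- Suppose R → S is an epimorphism of rings and E is an S-module whose underlying R-module (via
restriction of scalars) is injective; then E is injective as an S-module as well. -/
theorem result (R S : Type u) [CommRing R] [CommRing S] [Algebra R S] [Algebra.IsEpi R S] (E : Type u) [AddCommGroup E] [Module S E] [Module R E] [IsScalarTower R S E] [Module.Injective R E] : Module.Injective S E := by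
  refine Module.Baer.injective fun 𝔞 g => ?_
  obtain ⟨h, hh⟩ := Module.Injective.out (R := R) (𝔞.subtype.restrictScalars R) Subtype.val_injective
    (g.restrictScalars R)
  have hlin : ∀ s : S, h s = s • h 1 := by
    intro s
    let L : TensorProduct R S S →ₗ[R] E := TensorProduct.lift
      (LinearMap.mk₂ R (fun (a b : S) => a • h b) (fun a a' b => add_smul a a' _)
        (fun c a b => smul_assoc c a _) (fun a b b' => by simp)
        (fun c a b => by rw [map_smul, smul_comm]))
    have h2 : L ((1 : S) ⊗ₜ s) = L (s ⊗ₜ 1) := congrArg L ((Algebra.isEpi_iff_forall_one_tmul_eq R S).mp inferInstance s)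
    simpa [L] using h2
  refine ⟨LinearMap.toSpanSingleton S E (h 1), fun a ha => ?_⟩
  rw [LinearMap.toSpanSingleton_apply, ← hlin]
  exact hh ⟨a, ha⟩

end Groth.Agent.S8926
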