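import Groth.Statements.S8928
import Mathlib.RingTheory.Ideal.AssociatedPrime.Basic
import Mathlib.RingTheory.Flat.Localization
import Mathlib.RingTheory.Localization.BaseChange
import Mathlib.RingTheory.Localization.LocalizationLocalization

set_option autoImplicit false
universe u
open scoped TensorProduct
open Disc

namespace Groth.Agent.S8928

/-- Let A → B be a map of Noetherian rings such that nonzerodivisors of A map to nonzerodivisors of B
and Q(A) ⊗_A B is flat over the total ring of fractions Q(A). Then B_q is flat over A for every
associated prime q of B and for every prime q of B lying over an associated prime of A. -/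
theorem result (A B : Type u) [CommRing A] [CommRing B] [IsNoetherianRing A] [IsNoetherianRing B] [Algebra A B] (h1 : nonZeroDivisors A ≤ (nonZeroDivisors B).comap (algebraMap A B)) (h2 : Module.Flat (FractionRing A) (FractionRing A ⊗[A] B)) : (∀ (q : Ideal B) [q.IsPrime], IsAssociatedPrime q B → Module.Flat A (Localization.AtPrime q)) ∧ (∀ (q : Ideal B) [q.IsPrime], IsAssociatedPrime (q.comap (algebraMap A B)) A → Module.Flat A (Localization.AtPrime q)) := by
  have key : ∀ (q : Ideal B) [q.IsPrime], (∀ a ∈ nonZeroDivisors A, algebraMap A B a ∉ q) →
      Module.Flat A (Localization.AtPrime q) := by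
    intro q _ hq
    letI : Algebra B (FractionRing A ⊗[A] B) := Algebra.TensorProduct.rightAlgebra
    set M := Algebra.algebraMapSubmonoid B (nonZeroDivisors A) with hM
    haveI : IsLocalization M (FractionRing A ⊗[A] B) :=
      IsLocalization.tensorRight (FractionRing A) (nonZeroDivisors A)
    have hle : M ≤ q.primeCompl := by
      rintro _ ⟨a, ha, rfl⟩; exact hq a ha
    letI : Algebra (FractionRing A ⊗[A] B) (Localization.AtPrime q) :=
      (IsLocalization.lift (M := M) (g := algebraMap B (Localization.AtPrime q))
        (fun y => IsLocalization.map_units (Localization.AtPrime q) (⟨y.1, hle y.2⟩ : q.primeCompl))).toAlgebra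
    haveI : IsScalarTower B (FractionRing A ⊗[A] B) (Localization.AtPrime q) :=
      IsScalarTower.of_algebraMap_eq fun x => by
        rw [RingHom.algebraMap_toAlgebra, IsLocalization.lift_eq]
    haveI : IsScalarTower A (FractionRing A ⊗[A] B) (Localization.AtPrime q) :=
      IsScalarTower.of_algebraMap_eq fun x =>
        ((IsScalarTower.algebraMap_apply A B (Localization.AtPrime q) x).trans
          (IsScalarTower.algebraMap_apply B (FractionRing A ⊗[A] B) (Localization.AtPrime q) _)).trans
          (congrArg _ (IsScalarTower.algebraMap_apply A B (FractionRing A ⊗[A] B) x).symm)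
    haveI := IsLocalization.isLocalization_of_submonoid_le (FractionRing A ⊗[A] B)
      (Localization.AtPrime q) M q.primeCompl hle
    haveI : Module.Flat (FractionRing A ⊗[A] B) (Localization.AtPrime q) :=
      IsLocalization.flat _ (q.primeCompl.map (algebraMap B (FractionRing A ⊗[A] B)))
    haveI : Module.Flat A (FractionRing A) := IsLocalization.flat _ (nonZeroDivisors A)
    haveI : Module.Flat A (FractionRing A ⊗[A] B) :=
      Module.Flat.trans A (FractionRing A) (FractionRing A ⊗[A] B)
    exact Module.Flat.trans A (FractionRing A ⊗[A] B) (Localization.AtPrime q)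
  constructor
  · intro q _ hq
    refine key q fun a ha haq => ?_
    have h' : algebraMap A B a ∈ ⋃ p ∈ associatedPrimes B B, (p : Set B) :=
      Set.mem_iUnion₂_of_mem hq haq
    rw [biUnion_associatedPrimes_eq_compl_nonZeroDivisors] at h'
    exact h' (h1 ha)
  · intro q _ hq
    refine key q fun a ha haq => ?_
    have h' : a ∈ ⋃ p ∈ associatedPrimes A A, (p : Set A) :=
      Set.mem_iUnion₂_of_mem hq haq
    rw [biUnion_associatedPrimes_eq_compl_nonZeroDivisors] at h'
    exact h' ha

end Groth.Agent.S8928
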