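import Groth.Statements.S8929
import Mathlib.RingTheory.Ideal.AssociatedPrime.Finiteness
import Mathlib.RingTheory.Flat.Localization
import Mathlib.RingTheory.Localization.BaseChange
import Mathlib.RingTheory.Localization.LocalizationLocalization
import Mathlib.RingTheory.Ideal.HasGoingUp

set_option autoImplicit false
universe u
open scoped TensorProduct
open Disc

namespace Groth.Agent.S8929

/-- Let A → B be a map of Noetherian rings with the going-up property. If B_q is flat over A for every
associated prime q of B and for every prime q of B lying over an associated prime of A, then Q(A)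
⊗_A B is flat over the total ring of fractions Q(A). -/
theorem result (A B : Type u) [CommRing A] [CommRing B] [IsNoetherianRing A] [IsNoetherianRing B] [Algebra A B] [Algebra.HasGoingUp A B] (h3 : ∀ (q : Ideal B) [q.IsPrime], IsAssociatedPrime q B → Module.Flat A (Localization.AtPrime q)) (h4 : ∀ (q : Ideal B) [q.IsPrime], IsAssociatedPrime (q.comap (algebraMap A B)) A → Module.Flat A (Localization.AtPrime q)) : Module.Flat (FractionRing A) (FractionRing A ⊗[A] B) := by
  letI : Algebra B (FractionRing A ⊗[A] B) := Algebra.TensorProduct.rightAlgebra
  set T := FractionRing A ⊗[A] B with hT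
  set M := Algebra.algebraMapSubmonoid B (nonZeroDivisors A) with hM
  haveI hloc : IsLocalization M T := IsLocalization.tensorRight (FractionRing A) (nonZeroDivisors A)
  refine Module.flat_of_isLocalized_maximal (R := FractionRing A) T T
    (fun P _ => Localization.AtPrime P) (fun P _ => Algebra.linearMap T (Localization.AtPrime P)) ?_
  intro P hP
  set q : Ideal B := P.comap (algebraMap B T) with hq
  haveI : q.IsPrime := Ideal.IsPrime.comap _
  have hdis : Disjoint (M : Set B) (q : Set B) :=
    (IsLocalization.isPrime_iff_isPrime_disjoint M T P).1 (Ideal.IsMaximal.isPrime hP) |>.2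
  have hass : IsAssociatedPrime (q.comap (algebraMap A B)) A := by
    have hsub : ((q.comap (algebraMap A B) : Ideal A) : Set A) ⊆ ⋃ p ∈ associatedPrimes A A, (p : Set A) := by
      intro a ha
      rw [biUnion_associatedPrimes_eq_compl_nonZeroDivisors]
      exact fun hnzd => Set.disjoint_left.1 hdis ⟨a, hnzd, rfl⟩ ha
    obtain ⟨p, hp, hle⟩ := (Ideal.subset_union_prime_finite (associatedPrimes.finite A A) ⊥ ⊥
      (fun i hi _ _ => IsAssociatedPrime.isPrime hi)).1 hsub
    haveI := IsAssociatedPrime.isPrime hp
    haveI : q.LiesOver (q.comap (algebraMap A B)) := ⟨rfl⟩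
    obtain ⟨Q, hqQ, hQp, hQo⟩ := Ideal.exists_ideal_ge_liesOver_of_le q hle
    have hdQ : Disjoint (M : Set B) (Q : Set B) := by
      rw [Set.disjoint_left]
      rintro _ ⟨a, ha, rfl⟩ haQ
      have hap : a ∈ p := by rw [hQo.over]; exact haQ
      have : a ∈ (nonZeroDivisors A : Set A)ᶜ := by
        rw [← biUnion_associatedPrimes_eq_compl_nonZeroDivisors]
        exact Set.mem_iUnion₂_of_mem hp hap
      exact this ha
    have hpr := IsLocalization.isPrime_of_isPrime_disjoint M T Q hQp hdQ
    have hPQ : P ≤ Q.map (algebraMap B T) := by
      rw [← IsLocalization.map_comap M T P]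
      exact Ideal.map_mono hqQ
    have hEq := hP.eq_of_le hpr.ne_top hPQ
    have : q = Q := by
      rw [hq, hEq, ← Ideal.under_def, IsLocalization.under_map_of_isPrime_disjoint M T hQp hdQ]
    have e : q.comap (algebraMap A B) = p := by rw [this, hQo.over]
    rwa [e]
  haveI := h4 q hass
  haveI : IsLocalization.AtPrime (Localization.AtPrime P) q :=
    IsLocalization.isLocalization_isLocalization_atPrime_isLocalization M (Localization.AtPrime P) P
  haveI : IsScalarTower A B (Localization.AtPrime P) :=
    IsScalarTower.of_algebraMap_eq fun x =>
      ((IsScalarTower.algebraMap_apply A T (Localization.AtPrime P) x).trans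
        (congrArg _ (IsScalarTower.algebraMap_apply A B T x))).trans
        (IsScalarTower.algebraMap_apply B T (Localization.AtPrime P) _).symm
  let e : Localization.AtPrime q ≃ₐ[B] Localization.AtPrime P :=
    IsLocalization.algEquiv q.primeCompl _ _
  haveI : Module.Flat A (Localization.AtPrime P) :=
    Module.Flat.of_linearEquiv (e.toLinearEquiv.restrictScalars A).symm
  exact (Module.flat_iff_of_isLocalization (FractionRing A) (nonZeroDivisors A) _).2 inferInstance

end Groth.Agent.S8929
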