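import Groth.Statements.S8930
import Mathlib.AlgebraicGeometry.Morphisms.OpenImmersion
import Mathlib.AlgebraicGeometry.AffineScheme
import Mathlib.RingTheory.TensorProduct.Finite

set_option autoImplicit false
universe u
open AlgebraicGeometry
open Disc

namespace Groth.Agent.S8930

/-- Given two factorizations A → B' → B and A → B'' → B of a ring map with A → B' and A → B'' finite and
Spec(B) → Spec(B'), Spec(B) → Spec(B'') open immersions, there is an A-subalgebra C of B which is
finite over A, contains the images of B' and B'', and is such that Spec(B) → Spec(C) is an open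
immersion. (Such an A → B is quasi-finite; that hypothesis of the published statement is implied by
the factorizations and is not repeated.) -/
theorem result (A B B' B'' : Type u) [CommRing A] [CommRing B] [CommRing B'] [CommRing B''] [Algebra A B] [Algebra A B'] [Algebra A B''] [Algebra B' B] [Algebra B'' B] [IsScalarTower A B' B] [IsScalarTower A B'' B] [Module.Finite A B'] [Module.Finite A B''] (h' : IsOpenImmersion (Spec.map (CommRingCat.ofHom (algebraMap B' B)))) (h'' : IsOpenImmersion (Spec.map (CommRingCat.ofHom (algebraMap B'' B)))) : ∃ C : Subalgebra A B, Module.Finite A C ∧ Set.range (algebraMap B' B) ⊆ (C : Set B) ∧ Set.range (algebraMap B'' B) ⊆ (C : Set B) ∧ IsOpenImmersion (Spec.map (CommRingCat.ofHom C.val.toRingHom)) := by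
  open CategoryTheory TensorProduct in
    have aw : ∀ {R S : Type u} [CommRing R] [CommRing S] (g : R →+* S) (r : R) (x : R),
        Localization.awayMap g r (algebraMap R (Localization.Away r) x) =
          algebraMap S (Localization.Away (g r)) (g x) := fun g r x => by
      simp [Localization.awayMap, IsLocalization.Away.map, IsLocalization.map_eq]
    let φ' : B' →ₐ[A] B := IsScalarTower.toAlgHom A B' B
    let φ'' : B'' →ₐ[A] B := IsScalarTower.toAlgHom A B'' B
    let Φ : B' ⊗[A] B'' →ₐ[A] B := Algebra.TensorProduct.productMap φ' φ''
    haveI : Module.Finite A Φ.range :=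
      Module.Finite.of_surjective Φ.rangeRestrict.toLinearMap Φ.rangeRestrict_surjective
    have hl : ∀ x, φ' x ∈ Φ.range := fun x => ⟨x ⊗ₜ 1, by simp [Φ]⟩
    have hr : ∀ x, φ'' x ∈ Φ.range := fun x => ⟨1 ⊗ₜ x, by simp [Φ]⟩
    refine ⟨Φ.range, inferInstance, ?_, ?_, ?_⟩
    · rintro _ ⟨x, rfl⟩; exact hl x
    · rintro _ ⟨x, rfl⟩; exact hr x
    set C := Φ.range with hC
    let c : B' →+* C := (algebraMap B' B).codRestrict C
      hl
    have hfac : (C.val.toRingHom).comp c = algebraMap B' B := rfl
    have hcomp : Spec.map (CommRingCat.ofHom C.val.toRingHom) ≫ Spec.map (CommRingCat.ofHom c) =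
        Spec.map (CommRingCat.ofHom (algebraMap B' B)) := by
      rw [← Spec.map_comp, ← CommRingCat.ofHom_comp, hfac]
    have hinj : Function.Injective (Spec.map (CommRingCat.ofHom C.val.toRingHom)) := fun a b hab =>
      (Scheme.Hom.isOpenEmbedding (Spec.map (CommRingCat.ofHom (algebraMap B' B)))).injective
        (by rw [← hcomp, Scheme.Hom.comp_apply, Scheme.Hom.comp_apply, hab])
    refine IsOpenImmersion.of_forall_source_exists _ hinj fun q => ?_
    set j := Spec.map (CommRingCat.ofHom (algebraMap B' B)) with hj
    obtain ⟨_, ⟨f, rfl⟩, hqf, hfsub⟩ := PrimeSpectrum.isTopologicalBasis_basic_opens.exists_subset_of_mem_open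
      (show j.base q ∈ Set.range j.base from ⟨q, rfl⟩) j.isOpenEmbedding.isOpen_range
    let r : B := algebraMap B' B f
    let i : Spec (.of (Localization.Away r)) ⟶ Spec (.of B) :=
      Spec.map (CommRingCat.ofHom (algebraMap B (Localization.Away r)))
    haveI : IsOpenImmersion i := IsOpenImmersion.of_isLocalization r
    let i' : Spec (.of (Localization.Away f)) ⟶ Spec (.of B') :=
      Spec.map (CommRingCat.ofHom (algebraMap B' (Localization.Away f)))
    haveI : IsOpenImmersion i' := IsOpenImmersion.of_isLocalization f
    have hi : Set.range i = (PrimeSpectrum.basicOpen r : Set (PrimeSpectrum B)) :=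
      PrimeSpectrum.localization_away_comap_range (Localization.Away r) r
    have hi' : Set.range i' = (PrimeSpectrum.basicOpen f : Set (PrimeSpectrum B')) :=
      PrimeSpectrum.localization_away_comap_range (Localization.Away f) f
    refine ⟨_, i, inferInstance, ?_, ?_⟩
    · show q ∈ Set.range i
      rw [hi]; exact hqf
    let M := Localization.awayMap (algebraMap B' B) f
    let t : Spec (.of (Localization.Away r)) ⟶ Spec (.of (Localization.Away f)) :=
      Spec.map (CommRingCat.ofHom M)
    have ht : t ≫ i' = i ≫ j := by
      simp only [t, i', i, j, ← Spec.map_comp, ← CommRingCat.ofHom_comp]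
      congr 2
      ext x
      simp [M, Localization.awayMap, IsLocalization.Away.map, r]
    haveI : IsOpenImmersion (t ≫ i') := by rw [ht]; infer_instance
    haveI : IsOpenImmersion t := IsOpenImmersion.of_comp t i'
    haveI : Surjective t := by
      refine ⟨fun y => ?_⟩
      have h0 : i' y ∈ (PrimeSpectrum.basicOpen f : Set (PrimeSpectrum B')) := hi' ▸ ⟨y, rfl⟩
      obtain ⟨z, hz⟩ := hfsub h0
      have hzr : z ∈ Set.range i := by
        rw [hi]
        show z ∈ (PrimeSpectrum.basicOpen r : Set (PrimeSpectrum B))
        rw [← hz] at h0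
        exact h0
      obtain ⟨w, hw⟩ := hzr
      refine ⟨w, i'.isOpenEmbedding.injective ?_⟩
      rw [← Scheme.Hom.comp_apply, ht, Scheme.Hom.comp_apply, hw]
      exact hz
    haveI : Epi t.base := (TopCat.epi_iff_surjective t.base).2 t.surjective
    haveI : IsIso t := IsOpenImmersion.isIso t
    have hM : Function.Bijective M := by
      haveI : IsIso (Scheme.Spec.map (CommRingCat.ofHom M).op) := inferInstanceAs (IsIso t)
      haveI := isIso_of_fully_faithful Scheme.Spec (CommRingCat.ofHom M).op
      haveI : IsIso (CommRingCat.ofHom M) := isIso_of_op _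
      exact (ConcreteCategory.bijective_of_isIso (CommRingCat.ofHom M))
    let N := Localization.awayMap C.val.toRingHom (c f)
    have hNM : N.comp (Localization.awayMap c f) = M := by
      refine IsLocalization.ringHom_ext (Submonoid.powers f) ?_
      ext x
      show N (Localization.awayMap c f (algebraMap B' (Localization.Away f) x)) =
        M (algebraMap B' (Localization.Away f) x)
      rw [aw c f x]
      exact (aw C.val.toRingHom (c f) (c x)).trans (aw (algebraMap B' B) f x).symm
    have hN : Function.Bijective N := by
      refine ⟨IsLocalization.map_injective_of_injective _ _ _ Subtype.val_injective, fun y => ?_⟩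
      obtain ⟨z, hz⟩ := hM.2 y
      exact ⟨Localization.awayMap c f z, by rw [← hz, ← hNM]; rfl⟩
    let s' : Spec (.of (Localization.Away r)) ⟶ Spec (.of (Localization.Away (c f))) :=
      Spec.map (CommRingCat.ofHom N)
    haveI : IsIso (CommRingCat.ofHom N) := (ConcreteCategory.isIso_iff_bijective _).2 hN
    haveI : IsIso s' := Functor.map_isIso Scheme.Spec (CommRingCat.ofHom N).op
    let k : Spec (.of (Localization.Away (c f))) ⟶ Spec (.of C) :=
      Spec.map (CommRingCat.ofHom (algebraMap C (Localization.Away (c f))))
    haveI : IsOpenImmersion k := IsOpenImmersion.of_isLocalization (c f)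
    have hk : i ≫ Spec.map (CommRingCat.ofHom C.val.toRingHom) = s' ≫ k := by
      simp only [s', k, i, ← Spec.map_comp, ← CommRingCat.ofHom_comp]
      congr 2
      ext x
      exact (aw C.val.toRingHom (c f) x).symm
    rw [hk]; infer_instance

end Groth.Agent.S8930
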