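import Groth.Statements.S8932
import Groth.Agent.DualLib.GorApps

set_option autoImplicit false
universe u
open CategoryTheory
open scoped TensorProduct
attribute [local instance] HasDerivedCategory.standard
open Dual

namespace Groth.Agent.S8932

/-- For a field extension K/k, a finite type k-algebra A and a dualizing complex ω for A, the derived
base change of ω along A → K ⊗_k A is a dualizing complex for K ⊗_k A (the derived base change
functor being assumed to exist). -/
theorem result (k K : Type u) [Field k] [Field K] [Algebra k K] (A : Type u) [CommRing A] [Algebra k A] [Algebra.FiniteType k A] [DRing.HasLBaseChange (Algebra.TensorProduct.includeRight : A →ₐ[k] K ⊗[k] A).toRingHom] (ω : Dual.D A) (hω : Dual.IsDualizing A ω) : Dual.IsDualizing (K ⊗[k] A) ((DRing.LBaseChange (Algebra.TensorProduct.includeRight : A →ₐ[k] K ⊗[k] A).toRingHom).obj ω) := by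
  haveI : IsNoetherianRing A := Algebra.FiniteType.isNoetherianRing k A
  haveI : IsNoetherianRing (K ⊗[k] A) := Algebra.FiniteType.isNoetherianRing K (K ⊗[k] A)
  letI : Algebra A (K ⊗[k] A) := (Algebra.TensorProduct.includeRight : A →ₐ[k] K ⊗[k] A).toRingHom.toAlgebra
  let c : (A ⊗[k] K) ≃ₐ[A] (K ⊗[k] A) := AlgEquiv.ofRingEquiv (f := (Algebra.TensorProduct.comm k A K).toRingEquiv)
    (fun a => by simp [RingHom.algebraMap_toAlgebra])
  haveI : Module.Flat A (K ⊗[k] A) := Module.Flat.of_linearEquiv c.toLinearEquiv.symm
  haveI : DRing.HasLBaseChange (algebraMap A (K ⊗[k] A)) :=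
    ‹DRing.HasLBaseChange (Algebra.TensorProduct.includeRight : A →ₐ[k] K ⊗[k] A).toRingHom›
  refine DualLib.isDualizing_LBaseChange_gorenstein (A := A) (B := K ⊗[k] A)
    (DualLib.ringKrullDim_lt_top_of_finiteType_field K _) (fun p _ => ?_) hω
  haveI : Algebra.EssFiniteType k p.ResidueField := Algebra.EssFiniteType.comp k A p.ResidueField
  exact DualLib.GorRing.gorensteinRing_congr
    ((Algebra.TensorProduct.cancelBaseChange k A A p.ResidueField K).symm.trans
      (Algebra.TensorProduct.congr AlgEquiv.refl c)).toRingEquiv
    (DualLib.GorRing.gorensteinRing_tensor_fg (IntermediateField.fg_top k p.ResidueField)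
      (DualLib.GorRing.gorensteinRing_field K))

end Groth.Agent.S8932
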