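import Groth.Statements.S8936
import Groth.Agent.InjHullLib.Basic
import Mathlib.Algebra.Colimit.Module

set_option autoImplicit false
universe u v
open InjHull

namespace Groth.Agent.S8936

/-- For a directed system (E_i) of R-modules over a nonempty directed preorder and a compatible family
of essential injections M → E_i, the induced map from M to the direct limit of the E_i is an
essential injection. -/
theorem result (R : Type u) [CommRing R] (ι : Type v) [Preorder ι] [IsDirectedOrder ι] [DecidableEq ι] (i₀ : ι) (E : ι → Type v) [∀ i, AddCommGroup (E i)] [∀ i, Module R (E i)] (f : ∀ i j, i ≤ j → E i →ₗ[R] E j) [DirectedSystem E fun i j h => f i j h] (M : Type v) [AddCommGroup M] [Module R M] (g : ∀ i, M →ₗ[R] E i) (hg : ∀ i j (h : i ≤ j), f i j h ∘ₗ g i = g j) (he : ∀ i, InjHull.IsEssentialInj (g i)) : InjHull.IsEssentialInj (Module.DirectLimit.of R ι E f i₀ ∘ₗ g i₀) := by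
  have hE : Nonempty ι := ⟨i₀⟩
  have key : ∀ m : M, Module.DirectLimit.of R ι E f i₀ (g i₀ m) = 0 → m = 0 := by
    intro m hm
    obtain ⟨j, hij, hj⟩ := Module.DirectLimit.of.zero_exact hm
    refine (he j).injective ?_
    rw [map_zero, ← hg i₀ j hij]
    exact hj
  refine (Groth.Agent.InjHullLib.essential_iff _).2 ⟨(injective_iff_map_eq_zero _).2 key, fun x hx => ?_⟩
  obtain ⟨i, e, rfl⟩ := Module.DirectLimit.exists_of x
  obtain ⟨j, hij, h0j⟩ := exists_ge_ge i i₀
  rw [← Module.DirectLimit.of_f (hij := hij)] at hx ⊢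
  have hej : f i j hij e ≠ 0 := fun h => hx (by rw [h, map_zero])
  obtain ⟨r, ⟨m, hm⟩, hr0⟩ := ((Groth.Agent.InjHullLib.essential_iff _).1 (he j)).2 _ hej
  have hm0 : m ≠ 0 := fun h => hr0 (by rw [← hm, h, map_zero])
  have heq : Module.DirectLimit.of R ι E f i₀ (g i₀ m) =
      r • Module.DirectLimit.of R ι E f j (f i j hij e) := by
    rw [← map_smul, ← hm, ← hg i₀ j h0j, LinearMap.comp_apply, Module.DirectLimit.of_f]
  exact ⟨r, ⟨m, heq⟩, fun h => hm0 (key m (heq.trans h))⟩

end Groth.Agent.S8936
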