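import Groth.Statements.S8941
import Groth.Agent.DCat.OpenDerived
import Groth.Agent.DCat.GPDerived
import Groth.Agent.DCat.KInjRes
import Mathlib.Algebra.Category.ModuleCat.Injective

set_option autoImplicit false
universe u
open CategoryTheory CategoryTheory.Pretriangulated
attribute [local instance] HasDerivedCategory.standard
open Dual

namespace Groth.Agent.S8941

/-- Let A be a Noetherian local ring with normalized dualizing complex ω, f a nonzerodivisor in the
maximal ideal and B = A/(f); with R right adjoint to restriction of scalars D(B) → D(A) (so that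
R(ω) is RHom_A(B, ω), a normalized dualizing complex for B), there is a distinguished triangle in
D(A) with vertices R(ω) viewed over A, ω, ω, whose middle morphism ω → ω is multiplication by f. -/
theorem result (A : Type u) [CommRing A] [IsLocalRing A] [IsNoetherianRing A] (ω : Dual.D A) (hω : Dual.IsDualizing A ω) (hn : Dual.IsNormalized A ω) (f : A) (hf : f ∈ IsLocalRing.maximalIdeal A) (hf' : f ∈ nonZeroDivisors A) (R : Dual.D A ⥤ Dual.D (A ⧸ Ideal.span {f})) (adj : DRing.restrictD (Ideal.Quotient.mk (Ideal.span {f})) ⊣ R) : ∃ (u : (DRing.restrictD (Ideal.Quotient.mk (Ideal.span {f}))).obj (R.obj ω) ⟶ ω) (w : ω ⟶ ((DRing.restrictD (Ideal.Quotient.mk (Ideal.span {f}))).obj (R.obj ω))⟦(1 : ℤ)⟧), Triangle.mk u (f • 𝟙 ω) w ∈ distinguishedTriangles := by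
  let φ := Ideal.Quotient.mk (Ideal.span {f})
  let M := ModuleCat.{u} A
  let F := ModuleCat.restrictScalars.{u} φ
  let G := ModuleCat.coextendScalars.{u} φ
  let a : F ⊣ G := ModuleCat.restrictCoextendScalarsAdj φ
  haveI : F.Additive := inferInstance
  haveI : G.Additive := a.right_adjoint_additive
  have hK : Groth.Agent.DCat.EnoughKInj M := Groth.Agent.DCat.enoughKInj_of_isGrothendieckAbelian
  let C := G.mapHomotopyCategory (ComplexShape.up ℤ) ⋙ DerivedCategory.Qh
  haveI : C.HasRightDerivedFunctor (HomotopyCategory.quasiIso M (ComplexShape.up ℤ)) :=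
    Groth.Agent.DCat.hasRightDerivedFunctor_of_enoughKInj hK _
  obtain ⟨⟨b⟩, -⟩ := Groth.Agent.DCat.derived_localization hK a
  let iR := adj.rightAdjointUniq b
  obtain ⟨I, i₀, hI, hq, -, hinj⟩ := Groth.Agent.DCat.exists_kInj_res (DerivedCategory.Q.objPreimage ω)
  haveI := hq
  let e : DerivedCategory.Q.obj I ≅ ω :=
    (asIso (DerivedCategory.Q.map i₀)).symm ≪≫ DerivedCategory.Q.objObjPreimageIso ω
  -- the short exact sequence of complexes
  let ev : ((G ⋙ F).mapHomologicalComplex (ComplexShape.up ℤ)).obj I ⟶ I :=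
    { f := fun n => a.counit.app (I.X n)
      comm' := fun p q _ => (a.counit.naturality (I.d p q)).symm }
  have hz : ev ≫ (f • 𝟙 I) = 0 := by
    ext n (x : G.obj (I.X n))
    show f • ((ModuleCat.CoextendScalars.equiv φ (I.X n) x) (1 : A ⧸ Ideal.span {f})) = 0
    rw [← map_smul]
    have h0 : (f • (1 : A ⧸ Ideal.span {f}) : (ModuleCat.restrictScalars φ).obj (ModuleCat.of _ (A ⧸ Ideal.span {f}))) = 0 := by
      show φ f * 1 = 0
      rw [mul_one]
      exact Ideal.Quotient.eq_zero_iff_mem.2 (Ideal.mem_span_singleton_self f)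
    exact (congrArg _ h0).trans (map_zero _)
  let S := ShortComplex.mk ev (f • 𝟙 I) hz
  have hS : S.ShortExact := by
    refine HomologicalComplex.shortExact_of_degreewise_shortExact _ fun n => ?_
    let Sn := S.map (HomologicalComplex.eval M (ComplexShape.up ℤ) n)
    have hmono : Function.Injective Sn.f.hom := fun (x y : G.obj (I.X n)) h => by
      apply ModuleCat.CoextendScalars.ext
      refine LinearMap.ext fun (s : A ⧸ Ideal.span {f}) => ?_
      obtain ⟨r, rfl⟩ := Ideal.Quotient.mk_surjective s
      have hr : (φ r : A ⧸ Ideal.span {f}) =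
          (r • (1 : A ⧸ Ideal.span {f}) : (ModuleCat.restrictScalars φ).obj (ModuleCat.of _ (A ⧸ Ideal.span {f}))) := by
        show φ r = φ r * 1
        rw [mul_one]
      change (ModuleCat.CoextendScalars.equiv φ (I.X n) x) (1 : A ⧸ Ideal.span {f}) =
        (ModuleCat.CoextendScalars.equiv φ (I.X n) y) (1 : A ⧸ Ideal.span {f}) at h
      have key : ∀ z : G.obj (I.X n), (ModuleCat.CoextendScalars.equiv φ (I.X n) z) (φ r) =
          r • (ModuleCat.CoextendScalars.equiv φ (I.X n) z) (1 : A ⧸ Ideal.span {f}) := fun z =>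
        (congrArg _ hr).trans (map_smul _ r _)
      exact (key x).trans ((congrArg (r • ·) h).trans (key y).symm)
    refine { exact := ?_, mono_f := (ModuleCat.mono_iff_injective _).2 hmono, epi_g := (ModuleCat.epi_iff_surjective _).2 ?_ }
    · rw [ShortComplex.moduleCat_exact_iff]
      intro (x : I.X n) (hx : f • x = 0)
      let l : (A ⧸ Ideal.span {f}) →ₗ[A] I.X n :=
        Submodule.liftQ _ (LinearMap.toSpanSingleton A _ x) (by
          rw [Submodule.span_le, Set.singleton_subset_iff]
          simpa using hx)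
      refine ⟨(ModuleCat.CoextendScalars.equiv φ (I.X n)).symm
        { toFun := fun s : A ⧸ Ideal.span {f} => l s
          map_add' := fun p q => map_add l p q
          map_smul' := fun r (s : A ⧸ Ideal.span {f}) => ?_ }, ?_⟩
      · refine Eq.trans ?_ (map_smul l r s)
        exact congrArg l (Algebra.smul_def r s).symm
      · show l (1 : A ⧸ Ideal.span {f}) = x
        exact (Submodule.liftQ_apply _ _ (1 : A)).trans (one_smul A x)
    · intro (x : I.X n)
      haveI : Injective (ModuleCat.of A (I.X n)) := hinj n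
      haveI : Module.Injective A (I.X n) := (Module.injective_iff_injective_object A (I.X n)).2 inferInstance
      obtain ⟨g, hg⟩ := Module.Injective.out (R := A) (LinearMap.mulLeft A f)
        (fun p q h => by
          simpa using (mem_nonZeroDivisors_iff_right.1 hf' (p - q) (by
            have := sub_eq_zero.2 h
            simpa [mul_sub, mul_comm] using this)) |> sub_eq_zero.1)
        (LinearMap.toSpanSingleton A _ x)
      refine ⟨g 1, ?_⟩
      show f • g 1 = x
      rw [← map_smul]
      simpa using hg 1
  have hT := DerivedCategory.triangleOfSES_distinguished hS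
  let j : (DRing.restrictD φ).obj (R.obj ω) ≅ DerivedCategory.Q.obj S.X₁ :=
    (DRing.restrictD φ).mapIso (R.mapIso e.symm ≪≫ iR.app _ ≪≫
        Groth.Agent.DCat.OpenDerived.rfQIso hK C I ≪≫ (DerivedCategory.quotientCompQhIso _).app _) ≪≫
      F.mapDerivedCategoryFactors.app _ ≪≫
      DerivedCategory.Q.mapIso (HomologicalComplex.Hom.isoOfComponents (fun n => Iso.refl _)
        (fun p q _ => (Category.id_comp _).trans (Category.comp_id _).symm))
  refine ⟨j.hom ≫ DerivedCategory.Q.map ev ≫ e.hom,
    e.inv ≫ DerivedCategory.triangleOfSESδ hS ≫ (shiftFunctor (Dual.D A) (1 : ℤ)).map j.inv, ?_⟩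
  refine Pretriangulated.isomorphic_distinguished _ hT _
    (Pretriangulated.Triangle.isoMk _ _ j e.symm e.symm ?_ ?_ ?_)
  · dsimp [DerivedCategory.triangleOfSES, S]
    refine (Category.assoc _ _ _).trans (congrArg (j.hom ≫ ·) ?_)
    exact (Category.assoc _ _ _).trans ((congrArg (DerivedCategory.Q.map ev ≫ ·) e.hom_inv_id).trans (Category.comp_id _))
  · dsimp [DerivedCategory.triangleOfSES, S]
    rw [Functor.map_smul, CategoryTheory.Functor.map_id]
    exact ((Linear.smul_comp _ _ _ f _ _).trans (congrArg (f • ·) (Category.id_comp e.inv))).trans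
      ((Linear.comp_smul _ _ _ _ f _).trans (congrArg (f • ·) (Category.comp_id e.inv))).symm
  · dsimp [DerivedCategory.triangleOfSES, S]
    refine (Category.assoc _ _ _).trans (congrArg (e.inv ≫ ·) ?_)
    refine (Category.assoc _ _ _).trans ((congrArg (DerivedCategory.triangleOfSESδ hS ≫ ·) ?_).trans (Category.comp_id _))
    exact ((shiftFunctor (Dual.D A) (1 : ℤ)).mapIso j).inv_hom_id

end Groth.Agent.S8941
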