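import Groth.Statements.S8943
import Groth.Agent.DualLib.OmegaRelDual
import Groth.Agent.DualLib.ShriekTensor
import Groth.Agent.DCat.LTensorCx

set_option autoImplicit false
universe u
open CategoryTheory AlgebraicGeometry
attribute [local instance] HasDerivedCategory.standard
open Dual2

namespace Groth.Agent.S8943

/-- Let R → R′ be a homomorphism of Noetherian rings such that Spec(R′) → Spec(R) is an open immersion
(e.g. R′ = R_f). With φ^!(K) = RHom_P(R′, K ⊗^L_R P)[n] formed from a presentation ψ : P = R[x_1, …,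
x_n] → R′ (derived base change functors assumed to exist, RHom_P(R′, −) a right adjoint of
restriction of scalars), φ^!(K) is isomorphic to K ⊗^L_R R′ for every K in D(R) (existence of an
isomorphism). -/
theorem result (R R' : Type u) [CommRing R] [CommRing R'] [IsNoetherianRing R] [IsNoetherianRing R'] [Algebra R R'] (hopen : IsOpenImmersion (Spec.map (CommRingCat.ofHom (algebraMap R R')))) (n : ℕ) (ψ : MvPolynomial (Fin n) R →ₐ[R] R') (hψ : Function.Surjective ψ) [DRing.HasLBaseChange (algebraMap R (MvPolynomial (Fin n) R))] (Rψ : Dual.D (MvPolynomial (Fin n) R) ⥤ Dual.D R') (adj : DRing.restrictD ψ.toRingHom ⊣ Rψ) [DRing.HasLBaseChange (algebraMap R R')] (K : Dual.D R) : Nonempty (Dual2.shriekVia n Rψ K ≅ (DRing.LBaseChange (algebraMap R R')).obj K) := by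
  open Groth.Agent CategoryTheory CategoryTheory.Limits Groth.Agent.DualLib.Shriek in
  haveI : Module.Flat R R' := RingHom.flat_algebraMap_iff.1
    ((AlgebraicGeometry.HasRingHomProperty.Spec_iff (P := @AlgebraicGeometry.Flat)
      (φ := CommRingCat.ofHom (algebraMap R R'))).1 (haveI := hopen; inferInstance))
  haveI : Algebra.IsEpi R R' := by
    refine CommRingCat.epi_iff_epi.1 ?_
    haveI := hopen
    haveI : Mono (Scheme.Spec.map (CommRingCat.ofHom (algebraMap R R')).op) :=
      inferInstanceAs (Mono (Spec.map (CommRingCat.ofHom (algebraMap R R'))))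
    haveI := Scheme.Spec.mono_of_mono_map (f := (CommRingCat.ofHom (algebraMap R R')).op) this
    exact unop_epi_of_mono (CommRingCat.ofHom (algebraMap R R')).op
  haveI : Algebra.FiniteType R R' := Algebra.FiniteType.of_surjective ψ hψ
  haveI : Algebra.FinitePresentation R R' := Algebra.FinitePresentation.of_finiteType.1 inferInstance
  let μ := (Algebra.TensorProduct.lmul' R (S := R')).toRingHom
  let ι : R' →+* TensorProduct R R' R' := Algebra.TensorProduct.includeLeftRingHom
  have hμ : Function.Bijective μ := ⟨Algebra.IsEpi.injective_lift_mul (R := R) (A := R'), fun a => ⟨ι a, by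
    simp [μ, ι]⟩⟩
  haveI := DCat.hasLBaseChange ι
  obtain ⟨Rμ, ⟨adjμ⟩⟩ := exists_rightAdjoint μ
  obtain ⟨-, ⟨eω⟩⟩ := DualLib.Omega.isRelDualizing_shriekVia ψ hψ adj Rμ adjμ
  obtain ⟨N, ⟨eN⟩, hN⟩ := exists_rep (Dual2.shriekVia n Rψ (Dual.inD R R))
  obtain ⟨bι⟩ := hN ι
  obtain ⟨fμ⟩ := frob_of_bijective μ hμ Rμ adjμ ((exCx ι).obj N)
  let i : (exCx μ).obj ((exCx ι).obj N) ≅ N :=
    (exComp ι μ (RingHom.id R') (RingHom.ext fun a => by simp [μ, ι]) N).symm ≪≫
      (NatIso.mapHomologicalComplex (ModuleCat.extendScalarsId R') (ComplexShape.up ℤ)).app N ≪≫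
      (Functor.mapHomologicalComplexIdIso (ModuleCat.{u} R') (ComplexShape.up ℤ)).app N
  let eone : Dual2.shriekVia n Rψ (Dual.inD R R) ≅ Dual.inD R' R' :=
    eN.symm ≪≫ DerivedCategory.Q.mapIso i.symm ≪≫ fμ.symm ≪≫ Rμ.mapIso bι.symm ≪≫ eω
  let W : DRing.Cx R' := MonoidalCategoryStruct.tensorUnit _
  haveI := DCat.hasLTensorCx W
  obtain ⟨e⟩ := DualLib.ShriekT.nonempty_shriekVia_tensor ψ hψ adj W
    ⟨DualLib.ShriekT.unitIso R' ≪≫ eone.symm⟩ K
  let X := (DRing.LBaseChange (algebraMap R R')).obj K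
  obtain ⟨P, c, hP, -, hc, -⟩ := DCat.exists_kflat (DerivedCategory.Q.objPreimage X)
  haveI := hc
  let eP : DRing.toD P ≅ X := asIso (DerivedCategory.Q.map c) ≪≫ DerivedCategory.Q.objObjPreimageIso X
  exact ⟨e ≪≫ (DRing.LTensorCx R' W).mapIso eP.symm ≪≫ DCat.ltensorCxIso W hP ≪≫
    DerivedCategory.Q.mapIso (MonoidalCategoryStruct.rightUnitor P) ≪≫ eP⟩

end Groth.Agent.S8943
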