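import Groth.Statements.S8953
import Groth.Agent.FlatCx12.ShriekH0
import Groth.Agent.DualLib.ShriekCompose
import Groth.Agent.DualLib.Trunc
import Mathlib.AlgebraicGeometry.Morphisms.Flat
import Mathlib.Algebra.Category.Ring.Epi

set_option autoImplicit false
universe u
open CategoryTheory AlgebraicGeometry
open scoped TensorProduct
attribute [local instance] HasDerivedCategory.standard
open Disc

namespace Groth.Agent.S8953

/-- Let A → B be a quasi-finite map of Noetherian rings, written as a composite A → B′ → B in which the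
first map A → B′ is finite and the induced morphism Spec(B) → Spec(B′) is an open immersion, so that
ω_{B/A} = Hom_A(B′, A) ⊗_{B′} B; and let ω^•_{B/A} = φ^!(A[0]) be the algebraic relative dualizing
complex computed through a presentation ψ : A[x_1, …, x_n] → B (derived base change assumed to
exist, RHom_P(B, −) given as a right adjoint of restriction of scalars). Then there is a
(non-unique) B-linear isomorphism H^0(ω^•_{B/A}) ≅ ω_{B/A}. -/
theorem result (A B B' : Type u) [CommRing A] [CommRing B] [CommRing B'] [IsNoetherianRing A] [IsNoetherianRing B] [Algebra A B] [Algebra A B'] [Algebra B' B] [IsScalarTower A B' B] [Module.Finite A B'] (hopen : IsOpenImmersion (Spec.map (CommRingCat.ofHom (algebraMap B' B)))) (n : ℕ) (ψ : MvPolynomial (Fin n) A →ₐ[A] B) (hψ : Function.Surjective ψ) [DRing.HasLBaseChange (algebraMap A (MvPolynomial (Fin n) A))] (Rψ : Dual.D (MvPolynomial (Fin n) A) ⥤ Dual.D B) (adj : DRing.restrictD ψ.toRingHom ⊣ Rψ) : Nonempty (Dual.HD B (Dual2.shriekVia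 n Rψ (Dual.inD A A)) 0 ≃ₗ[B] (B ⊗[B'] Disc.Omega A B')) := by
  haveI : IsNoetherianRing B' := IsNoetherianRing.of_finite A B'
  haveI : IsOpenImmersion (Spec.map (CommRingCat.ofHom (algebraMap B' B))) := hopen
  haveI : Module.Flat B' B := RingHom.flat_algebraMap_iff.1
    ((AlgebraicGeometry.HasRingHomProperty.Spec_iff (P := @AlgebraicGeometry.Flat)
      (φ := CommRingCat.ofHom (algebraMap B' B))).1 inferInstance)
  haveI : Algebra.IsEpi B' B := by
    refine CommRingCat.epi_iff_epi.1 ?_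
    haveI : Mono (Scheme.Spec.map (CommRingCat.ofHom (algebraMap B' B)).op) :=
      inferInstanceAs (Mono (Spec.map (CommRingCat.ofHom (algebraMap B' B))))
    haveI := Scheme.Spec.mono_of_mono_map (f := (CommRingCat.ofHom (algebraMap B' B)).op) this
    exact unop_epi_of_mono (CommRingCat.ofHom (algebraMap B' B)).op
  obtain ⟨k, ψ₁, hψ₁⟩ := Algebra.FiniteType.iff_quotient_mvPolynomial''.1
    (inferInstance : Algebra.FiniteType A B')
  let χ : MvPolynomial (Fin n) B' →ₐ[B'] B := MvPolynomial.aeval fun i => ψ (MvPolynomial.X i)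
  have hχ : Function.Surjective χ := fun b => by
    obtain ⟨p, rfl⟩ := hψ b
    refine ⟨MvPolynomial.map (algebraMap A B') p, ?_⟩
    show MvPolynomial.aeval _ _ = _
    rw [MvPolynomial.aeval_map_algebraMap]
    exact (DFunLike.congr_fun (MvPolynomial.aeval_unique ψ) p).symm
  haveI := Groth.Agent.DCat.hasLBaseChange (algebraMap A (MvPolynomial (Fin k) A))
  haveI := Groth.Agent.DCat.hasLBaseChange (algebraMap B' (MvPolynomial (Fin n) B'))
  obtain ⟨R₁, ⟨adj₁⟩⟩ := Groth.Agent.DualLib.Shriek.exists_rightAdjoint ψ₁.toRingHom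
  obtain ⟨Rχ, ⟨adjχ⟩⟩ := Groth.Agent.DualLib.Shriek.exists_rightAdjoint χ.toRingHom
  obtain ⟨R', ⟨adj'⟩⟩ := Groth.Agent.DualLib.Shriek.exists_rightAdjoint (algebraMap A B')
  let K := Dual.inD A A
  obtain ⟨e⟩ := Groth.Agent.DualLib.Shriek.nonempty_shriekVia_comp k ψ₁.toRingHom hψ₁
    (RingHom.ext fun r => ψ₁.commutes r) R₁ adj₁ n χ.toRingHom hχ (RingHom.ext fun r => χ.commutes r)
    Rχ adjχ n ψ.toRingHom hψ (RingHom.ext fun r => ψ.commutes r) Rψ adj K 0
  obtain ⟨e₁⟩ := Groth.Agent.DualLib.Shriek.nonempty_shriekVia_finite k ψ₁.toRingHom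
    (RingHom.ext fun r => ψ₁.commutes r) R₁ adj₁ R' adj' K
  let M := Dual2.shriekVia k R₁ K
  obtain ⟨⟨b, hb⟩, -⟩ := Groth.Agent.Dual22Lib.bounded_finite_shriekVia ψ₁ hψ₁ adj₁ K 0
    (fun i hi => (Groth.Agent.DRingLib.isGE_iff_HD K 0).1 inferInstance i hi)
  haveI : M.IsGE b := (Groth.Agent.DRingLib.isGE_iff_HD M b).2 hb
  obtain ⟨f⟩ := Groth.Agent.FlatCx12.ShriekH0.nonempty_HD_shriekVia_epi n χ hχ Rχ adjχ M b 0
  obtain ⟨g⟩ := Groth.Agent.FlatCx12.ShriekH0.nonempty_HD_rightAdjoint R' adj'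
  let g' : Dual.HD B' M 0 ≃ₗ[B'] Disc.Omega A B' :=
    ((DerivedCategory.homologyFunctor (ModuleCat.{u} B') 0).mapIso e₁).toLinearEquiv ≪≫ₗ g
  exact ⟨((DerivedCategory.homologyFunctor (ModuleCat.{u} B) 0).mapIso e).toLinearEquiv ≪≫ₗ f ≪≫ₗ
    LinearEquiv.baseChange B' B _ _ g'⟩

end Groth.Agent.S8953
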