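import Groth.Statements.S8955
import Groth.Agent.CAlgH3.EtaleDerivation
-- import your own Groth.Agent.* helpers here

set_option autoImplicit false
universe u
open CategoryTheory AlgebraicGeometry
open LocCoh

namespace Groth.Agent.S8955

/-- For a ring A, a scheme V quasi-compact, separated and étale over Spec A, and a derivation θ of A,
each cohomology module H^i(V, O_V) carries an additive operator D with D(a • ξ) = θ(a) • ξ + a •
D(ξ) (existence only). (The published statement allows V quasi-separated; this row takes V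
separated.) -/
theorem result (A : Type u) [CommRing A] (V : Scheme.{u}) [V.Over (Spec (CommRingCat.of A))] [QuasiCompact (V ↘ Spec (CommRingCat.of A))] [IsSeparated (V ↘ Spec (CommRingCat.of A))] [Etale (V ↘ Spec (CommRingCat.of A))] (θ : Derivation ℤ A A) (i : ℕ) : ∃ D : Coh.HH V (Coh.structureModule V) i →+ Coh.HH V (Coh.structureModule V) i, ∀ (a : A) (ξ : Coh.HH V (Coh.structureModule V) i), D (a • ξ) = θ a • ξ + a • D ξ := by
  obtain ⟨d, hd⟩ := Groth.Agent.CAlgH3.EtaleDer.exists_sheaf_der (A := A) V θ
  refine ⟨Sheaf.H.map d i, fun a ξ => ?_⟩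
  show Sheaf.H.map d i (Sheaf.H.map (Coh.smulAb (Coh.structureModule V) (Coh.toGlobal (V ↘ Spec (CommRingCat.of A)) a)) i ξ) =
    Sheaf.H.map (Coh.smulAb (Coh.structureModule V) (Coh.toGlobal (V ↘ Spec (CommRingCat.of A)) (θ a))) i ξ +
      Sheaf.H.map (Coh.smulAb (Coh.structureModule V) (Coh.toGlobal (V ↘ Spec (CommRingCat.of A)) a)) i (Sheaf.H.map d i ξ)
  rw [← Sheaf.H.map_comp_apply, hd, Sheaf.H.map_add_apply, Sheaf.H.map_comp_apply]

end Groth.Agent.S8955
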