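import Groth.Statements.S8956
import Groth.Agent.Dual6Lib.BCDual.Proj
import Groth.Agent.Dual6Lib.BCDual.DualBC
import Groth.Agent.DualLib.FlatApps
import Groth.Agent.CAlgH3.RGam.RHomBridge

set_option autoImplicit false
universe u
open CategoryTheory
attribute [local instance] HasDerivedCategory.standard
open Dual2

namespace Groth.Agent.S8956

/-- Let φ : A → B be a finite type map of Noetherian rings, ω_A a dualizing complex for A and ω_B =
φ^!(ω_A), with φ^! computed through a presentation ψ : A[x_1, …, x_n] → B (derived base change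
assumed to exist, RHom_P(B, −) a right adjoint of restriction of scalars); write D_A = RHom_A(−,
ω_A) and D_B = RHom_B(−, ω_B). For every complex K of A-modules with finite cohomology modules
(RHom_A(K, −) assumed to exist) and every complex E of B-modules representing D_A(K) ⊗^L_A B
(RHom_B(E, −) assumed to exist), φ^!(K) is isomorphic in D(B) to RHom_B(E, ω_B) = D_B(D_A(K) ⊗^L_A
B). -/
theorem result (A B : Type u) [CommRing A] [CommRing B] [IsNoetherianRing A] [IsNoetherianRing B] [Algebra A B] (n : ℕ) (ψ : MvPolynomial (Fin n) A →ₐ[A] B) (hψ : Function.Surjective ψ) [DRing.HasLBaseChange (algebraMap A (MvPolynomial (Fin n) A))] (Rψ : Dual.D (MvPolynomial (Fin n) A) ⥤ Dual.D B) (adj : DRing.restrictD ψ.toRingHom ⊣ Rψ) [DRing.HasLBaseChange (algebraMap A B)] (ω : Dual.D A) (hω : Dual.IsDualizing A ω) (K : DRing.Cx A) [DRing.HasRHomCx K] (hK : ∀ i : ℤ, Module.Finite A (Dual.HD A (DRing.toD K) i)) (E : DRing.Cx B) [DRing.HasRHomCx E] (hE : Nonempty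 (DRing.toD E ≅ (DRing.LBaseChange (algebraMap A B)).obj ((DRing.RHomCx K).obj ω))) : Nonempty (Dual2.shriekVia n Rψ (DRing.toD K) ≅ (DRing.RHomCx E).obj (Dual2.shriekVia n Rψ ω)) := by
  haveI := Groth.Agent.DCat.hasLTen A
  haveI := Groth.Agent.DCat.hasLTen (MvPolynomial (Fin n) A)
  haveI := Groth.Agent.DCat.hasLTen B
  haveI : DTen.HasRHom A := Groth.Agent.DCat.hasRHom
  haveI : DTen.HasRHom (MvPolynomial (Fin n) A) := Groth.Agent.DCat.hasRHom
  haveI : DTen.HasRHom B := Groth.Agent.DCat.hasRHom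
  haveI := Groth.Agent.DCat.hasLTen₃ A
  haveI : DTen.IsSymMonoidal A := Groth.Agent.DualLib.isSymMonoidal
  let g := algebraMap A (MvPolynomial (Fin n) A)
  haveI := Groth.Agent.DCat.hasLBaseChange ψ.toRingHom
  obtain ⟨eK⟩ := Groth.Agent.CAlgH3.RGam.nonempty_RHomCx_iso_RHomR K
  obtain ⟨eR⟩ := Groth.Agent.CAlgH3.RGam.nonempty_RHomCx_iso_RHomR E
  obtain ⟨eE⟩ := hE
  let M : Dual.D A := (DTen.RHomR A (DRing.toD K)).obj ω
  obtain ⟨bd⟩ := Groth.Agent.CAlgH3.DualUnbounded.nonempty_biduality hω (DRing.toD K) hK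
  haveI : Algebra.Smooth A (MvPolynomial (Fin n) A) := ⟨inferInstance, inferInstance⟩
  have hω' : Dual.IsDualizing (MvPolynomial (Fin n) A) ((DRing.LBaseChange g).obj ω) :=
    Groth.Agent.DualLib.isDualizing_LBaseChange_smooth hω
  obtain ⟨bc⟩ := Groth.Agent.Dual6Lib.BCDual.nonempty_dual_baseChange (A := A) (B := MvPolynomial (Fin n) A) hω hω' M
    (fun q => Groth.Agent.CAlgH3.DualUnbounded.finite_dual hω _ hK q)
  obtain ⟨pr⟩ := Groth.Agent.Dual6Lib.BCDual.nonempty_rightAdjoint_RHomR ψ.toRingHom Rψ adj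
    ((DRing.LBaseChange g).obj M)
  obtain ⟨sh⟩ := Groth.Agent.DualLib.exists_iso_RHomR_shift
    ((DRing.LBaseChange ψ.toRingHom).obj ((DRing.LBaseChange g).obj M)) (n : ℤ)
    (Rψ.obj ((DRing.LBaseChange g).obj ω))
  let c : DRing.toD E ≅ (DRing.LBaseChange ψ.toRingHom).obj ((DRing.LBaseChange g).obj M) :=
    eE ≪≫ (DRing.LBaseChange (algebraMap A B)).mapIso (eK.app ω) ≪≫
      ((Groth.Agent.DualLib.LBC.compIso g ψ.toRingHom (algebraMap A B) ψ.comp_algebraMap.symm).app M).symm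
  exact ⟨(CategoryTheory.shiftFunctor (Dual.D B) (n : ℤ)).mapIso
      (Rψ.mapIso ((DRing.LBaseChange g).mapIso bd.symm ≪≫ bc) ≪≫ pr.app _) ≪≫ sh ≪≫
    ((DTen.RHom B).mapIso c.op).app _ ≪≫ (eR.app _).symm⟩

end Groth.Agent.S8956
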