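import Groth.Statements.S8961
import Groth.Agent.CAlgMisc2.NormalTransport
import Mathlib
-- import your own Groth.Agent.* helpers here

set_option autoImplicit false
universe u
open QFDual

namespace Groth.Agent.S8961

/-- Suppose the Dedekind different of A → B is defined: A is Noetherian, B is a finite A-algebra,
nonzerodivisors of A are nonzerodivisors on B, and with K = Q(A) and L = B ⊗_A K the map K → L is
étale (here with L finite free over K). If A is a normal ring, i.e. every localization A_p at a
prime is an integrally closed domain, then Trace_{L/K}(b) lies in A for every b ∈ B; equivalently 1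
∈ 𝓛_{B/A}. -/
theorem result (A K B L : Type u) [CommRing A] [CommRing K] [CommRing B] [CommRing L] [Algebra A K] [Algebra A B] [Algebra B L] [Algebra K L] [Algebra A L] [IsScalarTower A K L] [IsScalarTower A B L] (h : QFDual.IsDedekindDefined A K B L) (hA : EGA4.IsNormalRing A) : (1 : L) ∈ QFDual.complementary A K B L := by
  classical
  haveI := h.isFractionRing
  haveI := h.isNoetherianRing
  haveI := h.finite
  haveI := h.free
  haveI := h.finiteKL
  intro b
  rw [one_mul]
  haveI : IsReduced A := isReduced_ofLocalizationMaximal A fun J hJ => by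
    haveI := (hA J).1
    infer_instance
  haveI : IsNoetherianRing K := IsLocalization.isNoetherianRing (nonZeroDivisors A) K inferInstance
  haveI : IsReduced K := isReduced_localizationPreserves (nonZeroDivisors A) K inferInstance
  set y := algebraMap B L b with hy
  obtain ⟨f, hf, hfy⟩ : IsIntegral A y := (Algebra.IsIntegral.isIntegral (R := A) b).algebraMap
  let bas := Module.Free.chooseBasis K L
  let N := Algebra.leftMulMatrix bas y
  have hN : Polynomial.aeval N f = 0 := by
    exact (Polynomial.aeval_algHom_apply ((Algebra.leftMulMatrix bas).restrictScalars A) y f).trans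
      (by rw [Polynomial.aeval_def, hfy, map_zero])
  have htr : Algebra.trace K L y = Matrix.trace N := Algebra.trace_eq_matrix_trace bas y
  have hq : ∀ q ∈ minimalPrimes K, ∃ g : Polynomial A, g.Monic ∧ Polynomial.aeval (Algebra.trace K L y) g ∈ q := by
    intro q hq
    haveI : q.IsPrime := hq.1.1
    let F := AlgebraicClosure (FractionRing (K ⧸ q))
    let φ : K →ₐ[A] F :=
      ((IsScalarTower.toAlgHom A (FractionRing (K ⧸ q)) F).comp (IsScalarTower.toAlgHom A (K ⧸ q) (FractionRing (K ⧸ q)))).comp
        (Ideal.Quotient.mkₐ A q)
    let N' := φ.mapMatrix N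
    have hN' : Polynomial.aeval N' f = 0 := by rw [Polynomial.aeval_algHom_apply, hN, map_zero]
    have hint : IsIntegral A (φ (Algebra.trace K L y)) := by
      rw [htr, AddMonoidHom.map_trace φ]
      show IsIntegral A (Matrix.trace N')
      rw [Matrix.trace_eq_sum_roots_charpoly]
      refine IsIntegral.multiset_sum fun r hr => ⟨f, hf, ?_⟩
      rw [Polynomial.mem_roots N'.charpoly_monic.ne_zero] at hr
      have h0 : N'.map id = N' := by simp
      haveI : Nontrivial (Matrix (Module.Free.ChooseBasisIndex K L) (Module.Free.ChooseBasisIndex K L) F) := by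
        by_contra hn
        rw [not_nontrivial_iff_subsingleton] at hn
        have h1 : N'.charpoly = 1 := by
          rcases isEmpty_or_nonempty (Module.Free.ChooseBasisIndex K L) with he | he
          · simp [Matrix.charpoly]
          · exact absurd hn (not_subsingleton _)
        rw [h1] at hr
        simp at hr
      have hmem := spectrum.subset_polynomial_aeval N' (f.map (algebraMap A F))
        ⟨r, Matrix.mem_spectrum_iff_isRoot_charpoly.2 hr, rfl⟩
      rw [Polynomial.aeval_map_algebraMap, hN', spectrum.zero_eq, Set.mem_singleton_iff] at hmem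
      simpa [Polynomial.aeval_def] using hmem
    obtain ⟨g, hg, hgt⟩ := hint
    refine ⟨g, hg, ?_⟩
    have h2 : φ (Polynomial.aeval (Algebra.trace K L y) g) = 0 := by
      rw [← Polynomial.aeval_algHom_apply, Polynomial.aeval_def]; exact hgt
    have hinj : Function.Injective (fun z : K ⧸ q => algebraMap (FractionRing (K ⧸ q)) F (algebraMap (K ⧸ q) (FractionRing (K ⧸ q)) z)) :=
      (algebraMap (FractionRing (K ⧸ q)) F).injective.comp (IsFractionRing.injective _ _)
    exact Ideal.Quotient.eq_zero_iff_mem.1 (hinj (h2.trans (by simp)))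
  choose g hgm hg using hq
  have hfin := minimalPrimes.finite_of_isNoetherianRing K
  have hint : IsIntegral A (Algebra.trace K L y) := by
    refine ⟨∏ q ∈ hfin.toFinset.attach, g q.1 (hfin.mem_toFinset.1 q.2), Polynomial.monic_prod_of_monic _ _ fun q _ => hgm _ _, ?_⟩
    rw [← Polynomial.aeval_def]
    have : Polynomial.aeval (Algebra.trace K L y) (∏ q ∈ hfin.toFinset.attach, g q.1 (hfin.mem_toFinset.1 q.2)) ∈ sInf (minimalPrimes K) := by
      refine Ideal.mem_sInf.2 fun {q} hq => ?_
      rw [map_prod, Finset.prod_eq_mul_prod_sdiff_singleton_of_mem (Finset.mem_attach _ ⟨q, hfin.mem_toFinset.2 hq⟩)]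
      exact Ideal.mul_mem_right _ _ (hg q hq)
    rwa [show sInf (minimalPrimes K) = (⊥ : Ideal K).radical from Ideal.sInf_minimalPrimes, Ideal.radical_bot_of_isReduced, Ideal.mem_bot] at this
  have hic := Groth.Agent.CAlgMisc2.isIntegrallyClosedIn_of_isNormalRing hA
  let e : K ≃ₐ[A] FractionRing A := IsLocalization.algEquiv (nonZeroDivisors A) K (FractionRing A)
  obtain ⟨c, hc⟩ := (isIntegrallyClosedIn_iff.1 hic).2 (hint.map e.toAlgHom)
  exact ⟨c, e.injective (by rw [e.commutes]; exact hc)⟩

end Groth.Agent.S8961
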