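import Groth.Statements.S8972
import Groth.Agent.Synt15.UnivAlg
-- import your own Groth.Agent.* helpers here

set_option autoImplicit false
open Synt

namespace Groth.Agent.S8972

/-- Let n, d ≥ 1 and let B = A[x_1, …, x_n]/(f_1, …, f_n) be the universal algebra over A = ℤ[a_{i,E}],
f_i = Σ_E a_{i,E} x^E summed over exponent vectors E with |E| ≤ d. Then B is an integral domain and
every localization of B at a prime ideal is a regular local ring. (The published statement says that
X_{n,d} = Spec A and the quasi-finite locus Y_{n,d} ⊆ Spec B are regular and irreducible; for A, a
polynomial ring over ℤ, this is standard, and for the open Y_{n,d} it follows from the assertion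
about all of Spec B made here, which is what the printed argument shows. The published statement
also asserts that Y_{n,d} → X_{n,d} is locally quasi-finite and syntomic, an instance of the general
characterisation of quasi-finite syntomic maps; that clause is not part of this row.) -/
theorem result (n d : ℕ) (hn : 1 ≤ n) (hd : 1 ≤ d) : IsDomain (Synt.UnivAlg n d) ∧ ∀ q : PrimeSpectrum (Synt.UnivAlg n d), IsRegularLocalRing (Localization.AtPrime q.asIdeal) := by
  let e := Groth.Agent.Synt15.Univ.equivPoly n d
  haveI : Finite (Groth.Agent.Synt15.Univ.Var n d) := inferInstance
  haveI : IsRegularRing (Synt.UnivAlg n d) := IsRegularRing.of_ringEquiv e.symm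
  exact ⟨e.toMulEquiv.isDomain (Groth.Agent.Synt15.Univ.Q n d),
    fun q => IsRegularRing.isRegularLocalRing_localization q.asIdeal⟩

end Groth.Agent.S8972
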