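import Groth.Statements.S8973
import Groth.Agent.Synt15.UnivAlg
-- import your own Groth.Agent.* helpers here

set_option autoImplicit false
open Synt

namespace Groth.Agent.S8973

/-- Let n, d ≥ 1 and let B = A[x_1, …, x_n]/(f_1, …, f_n) be the universal algebra over A = ℤ[a_{i,E}],
f_i = Σ_E a_{i,E} x^E summed over exponent vectors E with |E| ≤ d. Then there is a prime q of B at
which B is quasi-finite over A and étale over A (that is, B_q is quasi-finite and formally étale
over A). (The published statement asserts a dense open V of the quasi-finite locus Y_{n,d} ⊆ Spec B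
that is étale over Spec A; as Spec B is irreducible and the étale locus is open, that amounts to the
existence of one such point, which is what is stated here and what the printed argument exhibits.) -/
theorem result (n d : ℕ) (hn : 1 ≤ n) (hd : 1 ≤ d) : ∃ q : PrimeSpectrum (Synt.UnivAlg n d), Algebra.QuasiFiniteAt (Synt.UnivBase n d) q.asIdeal ∧ Algebra.IsEtaleAt (Synt.UnivBase n d) q.asIdeal := by
  classical
  haveI : IsDomain (Synt.UnivAlg n d) :=
    (Groth.Agent.Synt15.Univ.equivPoly n d).toMulEquiv.isDomain (Groth.Agent.Synt15.Univ.Q n d)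
  let A := Synt.UnivBase n d
  let δ : Fin n × Synt.UnivIdx n d → ℤ := fun p => if p.2.exponent = Finsupp.single p.1 1 then 1 else 0
  let h : A →+* ℤ := MvPolynomial.eval₂Hom (RingHom.id ℤ) δ
  let D : MvPolynomial (Fin n) A :=
    (Matrix.of fun i j : Fin n => MvPolynomial.pderiv i (Synt.univPoly n d j)).det
  have hinj : Function.Injective (Synt.UnivIdx.exponent (n := n) (d := d)) := fun E E' hEE => by
    refine Subtype.ext (funext fun i => Fin.ext ?_)
    exact congrArg (fun v : Fin n →₀ ℕ => v i) hEE
  have hmap : ∀ i, MvPolynomial.map h (Synt.univPoly n d i) = MvPolynomial.X i := fun i => by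
    let E₀ : Synt.UnivIdx n d := ⟨fun j => if j = i then ⟨1, by omega⟩ else 0, by
      rw [Fintype.sum_eq_single i (fun j hj => by simp [hj])]
      simp; omega⟩
    have hE₀ : E₀.exponent = Finsupp.single i 1 := by
      ext j
      show ((if j = i then (⟨1, by omega⟩ : Fin (d + 1)) else 0 : Fin (d + 1)) : ℕ) = _
      by_cases hj : j = i
      · subst hj; simp
      · simp [hj, Finsupp.single_eq_of_ne hj]
    rw [Synt.univPoly, map_sum, Fintype.sum_eq_single E₀ fun E hE => ?_]
    · rw [MvPolynomial.map_monomial, show h (MvPolynomial.X (i, E₀)) = δ (i, E₀) from MvPolynomial.eval₂Hom_X' _ _ _,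
        show δ (i, E₀) = 1 from if_pos hE₀, hE₀]
      rfl
    · have : E.exponent ≠ Finsupp.single i 1 := fun hE' => hE (hinj (hE'.trans hE₀.symm))
      rw [MvPolynomial.map_monomial, show h (MvPolynomial.X (i, E)) = δ (i, E) from MvPolynomial.eval₂Hom_X' _ _ _,
        show δ (i, E) = 0 from if_neg this, map_zero]
  let η : MvPolynomial (Fin n) A →+* ℤ := (MvPolynomial.eval (0 : Fin n → ℤ)).comp (MvPolynomial.map h)
  have hη : ∀ a ∈ Synt.univIdeal n d, η a = 0 := fun a ha => by
    refine (Ideal.span_le.2 ?_ : Synt.univIdeal n d ≤ RingHom.ker η) ha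
    rintro _ ⟨i, rfl⟩
    show MvPolynomial.eval (0 : Fin n → ℤ) (MvPolynomial.map h (Synt.univPoly n d i)) = 0
    rw [hmap]
    simp
  have hD : η D = 1 := by
    rw [RingHom.map_det]
    have : η.mapMatrix (Matrix.of fun i j : Fin n => MvPolynomial.pderiv i (Synt.univPoly n d j)) = 1 := by
      ext i j
      show MvPolynomial.eval (0 : Fin n → ℤ) (MvPolynomial.map h (MvPolynomial.pderiv i (Synt.univPoly n d j))) = _
      rw [← MvPolynomial.pderiv_map, hmap, MvPolynomial.pderiv_X]
      by_cases hij : i = j
      · subst hij; simp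
      · simp [Matrix.one_apply_ne hij, Pi.single_eq_of_ne' hij]
    rw [this, Matrix.det_one]
  let g : Synt.UnivAlg n d := Synt.UnivAlg.mk n d D
  have hg : g ≠ 0 := fun h0 => by
    have := hη D (Ideal.Quotient.eq_zero_iff_mem.1 h0)
    rw [hD] at this
    exact one_ne_zero this
  let P : Algebra.PreSubmersivePresentation A (MvPolynomial (Fin n) A ⧸ Synt.univIdeal n d) (Fin n) (Fin n) :=
    Algebra.PreSubmersivePresentation.naive id Function.injective_id
  let g' : MvPolynomial (Fin n) A ⧸ Synt.univIdeal n d := g
  have hPj : P.jacobian = g' := by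
    rw [P.jacobian_eq_jacobiMatrix_det]
    show Ideal.Quotient.mk (Synt.univIdeal n d) P.jacobiMatrix.det = Ideal.Quotient.mk (Synt.univIdeal n d) D
    congr 2
    ext i j
    rw [P.jacobiMatrix_apply]
    rfl
  let P' : Algebra.SubmersivePresentation A (Localization.Away g') (Unit ⊕ Fin n) (Unit ⊕ Fin n) :=
    { (Algebra.PreSubmersivePresentation.localizationAway (Localization.Away g') g').comp P with
      jacobian_isUnit := by
        show IsUnit ((Algebra.PreSubmersivePresentation.localizationAway (Localization.Away g') g').comp P).jacobian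
        rw [Algebra.PreSubmersivePresentation.comp_jacobian_eq_jacobian_smul_jacobian, Algebra.smul_def, IsUnit.mul_iff,
          hPj]
        exact ⟨IsLocalization.Away.algebraMap_isUnit g',
          (Algebra.SubmersivePresentation.localizationAway (Localization.Away g') g').jacobian_isUnit⟩ }
  have hstd : Algebra.IsStandardSmoothOfRelativeDimension 0 A (Localization.Away g') :=
    P'.isStandardSmoothOfRelativeDimension (by
      show Nat.card (Unit ⊕ Fin n) - Nat.card (Unit ⊕ Fin n) = 0
      exact Nat.sub_self _)
  have het : (algebraMap A (Localization.Away g')).Etale :=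
    RingHom.etale_iff_isStandardSmoothOfRelativeDimension_zero.2
      ((RingHom.isStandardSmoothOfRelativeDimension_algebraMap 0).2 hstd)
  haveI : Algebra.Etale A (Localization.Away g) := RingHom.etale_algebraMap.1 het
  refine ⟨⟨⊥, Ideal.isPrime_bot⟩, ?_, ?_⟩
  all_goals
    let L := Localization.AtPrime (⊥ : Ideal (Synt.UnivAlg n d))
    let ψ : Localization.Away g →+* L :=
      IsLocalization.Away.lift g (g := algebraMap (Synt.UnivAlg n d) L)
        (IsLocalization.map_units L (⟨g, fun hmem => hg ((Submodule.mem_bot _).1 hmem)⟩ : (⊥ : Ideal (Synt.UnivAlg n d)).primeCompl))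
    letI := ψ.toAlgebra
    haveI : IsScalarTower (Synt.UnivAlg n d) (Localization.Away g) L :=
      .of_algebraMap_eq fun x => (IsLocalization.Away.lift_eq g _ x).symm
    haveI : IsScalarTower A (Localization.Away g) L := .of_algebraMap_eq fun x => by
      rw [IsScalarTower.algebraMap_apply A (Synt.UnivAlg n d) L,
        IsScalarTower.algebraMap_apply A (Synt.UnivAlg n d) (Localization.Away g)]
      exact (IsLocalization.Away.lift_eq g _ _).symm
    haveI : Algebra.FormallyEtale (Localization.Away g) L :=
      Algebra.FormallyEtale.localization_base (R := Synt.UnivAlg n d) (Submonoid.powers g)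
    haveI : Algebra.FormallyEtale A L := Algebra.FormallyEtale.comp A (Localization.Away g) L
  · haveI : Algebra.EssFiniteType A (Synt.UnivAlg n d) :=
      inferInstanceAs (Algebra.EssFiniteType A (MvPolynomial (Fin n) A ⧸ Synt.univIdeal n d))
    haveI : Algebra.EssFiniteType (Synt.UnivAlg n d) L :=
      Algebra.EssFiniteType.of_isLocalization L (⊥ : Ideal (Synt.UnivAlg n d)).primeCompl
    haveI : Algebra.EssFiniteType A L := Algebra.EssFiniteType.comp A (Synt.UnivAlg n d) L
    exact (inferInstance : Algebra.QuasiFinite A L)
  · exact (inferInstance : Algebra.FormallyEtale A L)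

end Groth.Agent.S8973
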