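import Groth.Statements.S8974
import Mathlib.Algebra.MvPolynomial.Degrees
-- import your own Groth.Agent.* helpers here

set_option autoImplicit false
universe u
open Synt

namespace Groth.Agent.S8974

/-- Let R be a ring, n, d ≥ 1 and g_1, …, g_n ∈ R[y_1, …, y_n] of total degree at most d. Then there is
a ring map φ : A = ℤ[a_{i,E}] → R (E running over exponent vectors with |E| ≤ d) such that applying
φ to the coefficients of the universal polynomial f_i = Σ_E a_{i,E} x^E gives g_i for each i. (The
published statement is for a locally quasi-finite syntomic morphism of schemes and asserts, locally,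
a cartesian square with the universal family; this row is its affine core: the coefficient map.) -/
theorem result (R : Type u) [CommRing R] (n d : ℕ) (hn : 1 ≤ n) (hd : 1 ≤ d) (g : Fin n → MvPolynomial (Fin n) R) (hg : ∀ i, (g i).totalDegree ≤ d) : ∃ φ : Synt.UnivBase n d →+* R, ∀ i, MvPolynomial.map φ (Synt.univPoly n d i) = g i := by
  classical
  refine ⟨MvPolynomial.eval₂Hom (Int.castRingHom R) fun iE => (g iE.1).coeff iE.2.exponent, fun i => ?_⟩
  ext m
  rw [Synt.univPoly, map_sum, MvPolynomial.coeff_sum]
  simp only [MvPolynomial.map_monomial, MvPolynomial.coeff_monomial, MvPolynomial.eval₂Hom_X']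
  by_cases hm : ∃ E : Synt.UnivIdx n d, E.exponent = m
  · obtain ⟨E, rfl⟩ := hm
    rw [Finset.sum_eq_single E (fun E' _ hne => if_neg fun h => hne ?_) (fun h => absurd (Finset.mem_univ E) h), if_pos rfl]
    refine Subtype.ext (funext fun j => Fin.ext ?_)
    have := congrArg (fun e : Fin n →₀ ℕ => e j) h
    simpa [Synt.UnivIdx.exponent] using this
  · rw [Finset.sum_eq_zero fun E _ => if_neg fun h => hm ⟨E, h⟩]
    by_contra hne
    have hdeg : (m.sum fun _ e => e) ≤ d :=
      (MvPolynomial.le_totalDegree (MvPolynomial.mem_support_iff.2 (Ne.symm hne))).trans (hg i)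
    rw [Finsupp.sum_fintype _ _ (fun _ => rfl)] at hdeg
    refine hm ⟨⟨fun j => ⟨m j, Nat.lt_succ_of_le ((Finset.single_le_sum (fun j _ => Nat.zero_le _) (Finset.mem_univ j)).trans hdeg)⟩, hdeg⟩, ?_⟩
    ext j
    simp [Synt.UnivIdx.exponent]

end Groth.Agent.S8974
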