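import Groth.Prelude.Def_HTop
import Groth.Prelude.Def_HTop3
import Groth.Agent.HTop16.PairSquare

set_option autoImplicit false
universe u
namespace HTop
end HTop
open HTop

namespace Groth.Agent.S8982

open CategoryTheory CategoryTheory.Limits AlgebraicGeometry Groth.Agent Groth.Agent.HTop16 in
theorem blowUp_supportedOn {X X' X₁ Y : Scheme.{u}} {b : X' ⟶ X} {g : Y ⟶ X} {b₁ : X₁ ⟶ Y} {gX : X₁ ⟶ X'}
    {K : X.IdealSheafData} (hlp : HTop.IsLocPrincipal (K.comap b))
    (hB : BlowUp.IsBlowUp ((HTop.supportedOn (K.comap b)).subschemeι ≫ b) K) (hX : IsPullback gX b₁ b g) :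
    BlowUp.IsBlowUp ((HTop.supportedOn ((K.comap g).comap b₁)).subschemeι ≫ b₁) (K.comap g) := by
  have h𝓘 : (K.comap g).comap b₁ = (K.comap b).comap gX := by
    rw [← Scheme.IdealSheafData.comap_comp, ← Scheme.IdealSheafData.comap_comp, hX.w]
  let A := ModPair.interior (K.comap b)
  let A₁ := ModPair.interior ((K.comap g).comap b₁)
  haveI : IsAffineHom A.ι := PairSquare.isAffineHom_awayFrom hlp
  have hA₁ : A₁ = gX ⁻¹ᵁ A := by
    change ModPair.interior _ = _
    rw [h𝓘, ModPairLib.interior_comap]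
  let ι := (HTop.supportedOn (K.comap b)).subschemeι
  have hP := (IsPullback.of_hasPullback gX ι).paste_horiz hX.flip
  let j := pullback.fst gX ι
  let O := ModPair.interior ((K.comap g).comap (j ≫ b₁))
  have hO : O = j ⁻¹ᵁ A₁ := by
    change ModPair.interior _ = _
    rw [Scheme.IdealSheafData.comap_comp, ModPairLib.interior_comap]
  haveI : IsAffineHom O.ι := PairSquare.isAffineHom_awayFrom (by
    rw [Scheme.IdealSheafData.comap_comp, h𝓘]
    exact PairSquare.isLocPrincipal_comap (PairSquare.isLocPrincipal_comap hlp _) _)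
  have hW := FlatMorAdm.isBlowUp_strict g hB hP O rfl
  have hr₁ : Set.range (A₁.ι ≫ gX) ⊆ Set.range A.ι := by
    rw [Scheme.Opens.range_ι]
    rintro _ ⟨y, rfl⟩
    exact hA₁.le y.2
  let t : A₁.toScheme ⟶ pullback gX ι :=
    pullback.lift A₁.ι (IsOpenImmersion.lift A.ι (A₁.ι ≫ gX) hr₁ ≫ A.ι.toImage) (by
      change _ = (_ ≫ A.ι.toImage) ≫ A.ι.imageι
      rw [Category.assoc, Scheme.Hom.toImage_imageι, IsOpenImmersion.lift_fac])
  have ht : t ≫ j = A₁.ι := pullback.lift_fst _ _ _
  have hrt : Set.range t ⊆ Set.range O.ι := by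
    rw [Scheme.Opens.range_ι]
    rintro _ ⟨y, rfl⟩
    refine hO.ge ?_
    show (t ≫ j) y ∈ A₁
    rw [ht]
    exact y.2
  have hrs : Set.range (O.ι ≫ j) ⊆ Set.range A₁.ι := by
    rw [Scheme.Opens.range_ι]
    rintro _ ⟨y, rfl⟩
    exact hO.le y.2
  let t' := IsOpenImmersion.lift O.ι t hrt
  let s := IsOpenImmersion.lift A₁.ι (O.ι ≫ j) hrs
  have ht' : t' ≫ O.ι = t := IsOpenImmersion.lift_fac _ _ _
  have hs : s ≫ A₁.ι = O.ι ≫ j := IsOpenImmersion.lift_fac _ _ _
  haveI : IsIso s := ⟨t', by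
    rw [← cancel_mono O.ι, ← cancel_mono j, Category.assoc, Category.assoc, ← Category.assoc t',
      ht', ht, hs, Category.id_comp], by
    rw [← cancel_mono A₁.ι, Category.assoc, hs, ← Category.assoc, ht', ht, Category.id_comp]⟩
  have hker : (O.ι.imageι ≫ j).ker = (HTop.supportedOn ((K.comap g).comap b₁)).subschemeι.ker := by
    rw [Scheme.IdealSheafData.ker_subschemeι]
    change O.ι.ker.map j = A₁.ι.ker
    rw [← Scheme.IdealSheafData.map_bot, ← Scheme.IdealSheafData.map_comp, Scheme.IdealSheafData.map_bot,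
      ← hs, Scheme.Hom.ker_comp_of_isIso]
  haveI := IsClosedImmersion.isIso_lift (O.ι.imageι ≫ j) _ hker
  rw [← IsClosedImmersion.lift_fac (O.ι.imageι ≫ j) (HTop.supportedOn ((K.comap g).comap b₁)).subschemeι hker.le,
    Category.assoc]
  refine BlowUpLib.isBlowUp_iso_comp _ ?_
  rw [Category.assoc]
  exact hW

open CategoryTheory CategoryTheory.Limits AlgebraicGeometry in
/-- The base change of an almost blow up square along an arbitrary morphism Y → X is an almost blow up
square over Y. The base-changed corners are introduced through fibre-product squares; the morphism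
from the new exceptional corner to the new centre is the one compatible with them. -/
theorem result {E Z X' X Y E₁ Z₁ X₁ : Scheme.{u}} {e : E ⟶ X'} {π : E ⟶ Z} {b : X' ⟶ X} {i : Z ⟶ X} (h : HTop.IsAlmostBlowUpSquare e π b i) (g : Y ⟶ X) {b₁ : X₁ ⟶ Y} {gX : X₁ ⟶ X'} (hX : IsPullback gX b₁ b g) {i₁ : Z₁ ⟶ Y} {gZ : Z₁ ⟶ Z} (hZ : IsPullback gZ i₁ i g) {e₁ : E₁ ⟶ X₁} {gE : E₁ ⟶ E} (hE : IsPullback gE e₁ e gX) {π₁ : E₁ ⟶ Z₁} (hπ : π₁ ≫ i₁ = e₁ ≫ b₁) : HTop.IsAlmostBlowUpSquare e₁ π₁ b₁ i₁ := by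
  haveI := h.isClosedImmersion
  haveI := h.finitePresentation_base
  haveI := h.isProper
  haveI := h.finitePresentation
  haveI : IsClosedImmersion i₁ := MorphismProperty.of_isPullback hZ inferInstance
  have hker : i₁.ker = i.ker.comap g := by
    rw [← hZ.flip.isoPullback_hom_fst, Scheme.Hom.ker_comp_of_isIso,
      Scheme.IdealSheafData.ker_fst_of_isClosedImmersion]
  have hw : π₁ ≫ gZ = gE ≫ π := by
    rw [← cancel_mono i, Category.assoc, Category.assoc, hZ.w, h.isPullback.w.symm, reassoc_of% hE.w,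
      hX.w, reassoc_of% hπ]
  refine ⟨inferInstance, MorphismProperty.of_isPullback hZ inferInstance, ?_, ?_,
    MorphismProperty.of_isPullback hX inferInstance, MorphismProperty.of_isPullback hX inferInstance, ?_⟩
  · have s := hE.flip.paste_vert h.isPullback
    rw [← hw, hX.w] at s
    exact IsPullback.of_bot s hπ.symm hZ.flip
  · rw [hker, ← Scheme.IdealSheafData.comap_comp, ← hX.w, Scheme.IdealSheafData.comap_comp]
    exact Groth.Agent.HTop16.PairSquare.isLocPrincipal_comap h.locPrincipal gX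
  · rw [hker]
    exact blowUp_supportedOn h.locPrincipal h.isBlowUp hX

end Groth.Agent.S8982
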