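import Groth.Prelude.Def_HTop
import Groth.Prelude.Def_HTop3
import Groth.Agent.HTop16.PairSquare
import Groth.Agent.S7384
import Groth.Agent.S9220

set_option autoImplicit false
universe u
namespace HTop
end HTop
open HTop

namespace Groth.Agent.S8984

open CategoryTheory CategoryTheory.Limits AlgebraicGeometry in
/-- Over a quasi-compact quasi-separated scheme, every closed subscheme cut out by a finite type
quasi-coherent ideal is the centre of some almost blow up square. -/
theorem result {Z X : Scheme.{u}} [CompactSpace X] [QuasiSeparatedSpace X] (i : Z ⟶ X) [IsClosedImmersion i] [LocallyOfFinitePresentation i] : ∃ (E X' : Scheme.{u}) (e : E ⟶ X') (π : E ⟶ Z) (b : X' ⟶ X), HTop.IsAlmostBlowUpSquare e π b i := by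
  obtain ⟨I, _, _, _, DX, DS, φ, cX, cS, hcX, -, eX, -, haff, hfin, -⟩ := Groth.Agent.S7384.result (𝟙 X)
  haveI : ∀ (a b : Iᵒᵖ) (f : a ⟶ b), IsAffineHom (DX.map f) := fun a b f => (haff a b f).1
  haveI : ∀ a, CompactSpace (DX.obj a) := fun a => (hfin a).1
  haveI hN : ∀ a, IsNoetherian (DX.obj a) := fun a => by
    haveI := (hfin a).2.2.1
    haveI : IsNoetherianRing (CommRingCat.of (ULift.{u} ℤ)) :=
      isNoetherianRing_of_ringEquiv ℤ ULift.ringEquiv.symm
    haveI : IsLocallyNoetherian (DX.obj a) :=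
      LocallyOfFiniteType.isLocallyNoetherian (IsTerminal.from specULiftZIsTerminal (DX.obj a))
    exact {}
  obtain ⟨k, Jk, hJk, hcomap⟩ := Groth.Agent.S9220.result DX cX hcX ((i ≫ eX.inv).ker)
    (fun U => Groth.Agent.H8Lim.ker_fg_of_locallyOfFinitePresentation _ U)
  obtain ⟨B, β, hβ⟩ := Groth.Agent.BlowUpLib.exists_isBlowUp Jk
  haveI : IsProper β := Groth.Agent.BlowUpLib.isProper_of_isBlowUp hβ hJk
  haveI : LocallyOfFinitePresentation β :=
    Groth.Agent.HTop16.PhRefine.locallyOfFinitePresentation_of_noetherian β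
  haveI : LocallyOfFinitePresentation Jk.subschemeι :=
    Groth.Agent.HTop16.PhRefine.locallyOfFinitePresentation_of_noetherian _
  let g : X ⟶ DX.obj k := eX.inv ≫ cX.π.app k
  have hker : (pullback.fst g Jk.subschemeι).ker = i.ker := by
    rw [Scheme.IdealSheafData.ker_fst_of_isClosedImmersion, Scheme.IdealSheafData.ker_subschemeι,
      Scheme.IdealSheafData.comap_comp, hcomap, ← Scheme.IdealSheafData.ker_fst_of_isClosedImmersion]
    have e : IsPullback i (𝟙 Z) eX.inv (i ≫ eX.inv) := IsPullback.of_vert_isIso_mono ⟨(Category.id_comp _).symm⟩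
    rw [← Scheme.Hom.ker_comp_of_isIso e.isoPullback.hom (pullback.fst eX.inv (i ≫ eX.inv)),
      e.isoPullback_hom_fst]
  have hsq := Groth.Agent.HTop16.PairSquare.isAlmostBlowUpSquare_baseChange (i := Jk.subschemeι)
    (by rw [Scheme.IdealSheafData.ker_subschemeι]; exact hβ) g
  haveI := IsClosedImmersion.isIso_lift i (pullback.fst g Jk.subschemeι) hker.symm
  have hφ : IsClosedImmersion.lift i (pullback.fst g Jk.subschemeι) hker.ge ≫ i = pullback.fst g Jk.subschemeι :=
    IsClosedImmersion.lift_fac _ _ _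
  refine ⟨_, _, pullback.fst (pullback.fst g β) (pullback.fst g Jk.subschemeι), pullback.snd (pullback.fst g β) (pullback.fst g Jk.subschemeι) ≫
    IsClosedImmersion.lift i (pullback.fst g Jk.subschemeι) hker.ge, _, ‹_›, ‹_›, ?_, ?_, hsq.isProper,
    hsq.finitePresentation, ?_⟩
  · refine IsPullback.of_iso hsq.isPullback (Iso.refl _) (Iso.refl _)
      (asIso (IsClosedImmersion.lift i (pullback.fst g Jk.subschemeι) hker.ge)) (Iso.refl _) (by simp) (by simp)
      (by simp) (by simp [hφ])
  · rw [← hker]; exact hsq.locPrincipal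
  · rw [← hker]; exact hsq.isBlowUp

end Groth.Agent.S8984
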