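import Groth.Prelude.Def_HTop
import Groth.Prelude.Def_HTop3
import Groth.Agent.HTop16.SquareSupp
import Groth.Agent.H8Lim.Absolute
import Groth.Agent.H8Lim.ClosedModels

set_option autoImplicit false
universe u
namespace HTop
end HTop
open HTop

namespace Groth.Agent.S8985

set_option backward.isDefEq.respectTransparency false in
open CategoryTheory CategoryTheory.Limits AlgebraicGeometry Opposite in
theorem exists_common_stage {X₁ X₂ Y B : Scheme.{u}} [CompactSpace X₁] [QuasiSeparatedSpace X₁] [CompactSpace X₂]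
    [QuasiSeparatedSpace X₂] [CompactSpace Y] [QuasiSeparatedSpace Y] (p₁ : Y ⟶ X₁) (p₂ : Y ⟶ X₂)
    [LocallyOfFiniteType p₁] [LocallyOfFinitePresentation p₁] [LocallyOfFiniteType p₂] (δ : B ⟶ Y)
    [IsClosedImmersion δ] [IsClosedImmersion (δ ≫ p₁)] [IsClosedImmersion (δ ≫ p₂)] :
    ∃ (W : Scheme.{u}) (w : W ⟶ Y) (l : B ⟶ W), IsClosedImmersion (w ≫ p₁) ∧
      IsClosedImmersion (w ≫ p₂) ∧ LocallyOfFinitePresentation (w ≫ p₁) ∧ l ≫ w = δ := by
  obtain ⟨I, _, _, _, D, c, hc, hD, ⟨e⟩⟩ := Groth.Agent.H8Lim.exists_limit_closedImmersion_finitePresentation δ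
  haveI := IsCofiltered.isConnected Iᵒᵖ
  haveI : ∀ a, IsClosedImmersion (D.obj a).hom := fun a => (hD a).1
  haveI : ∀ a, LocallyOfFinitePresentation (D.obj a).hom := fun a => (hD a).2
  haveI hcl : ∀ {a b : Iᵒᵖ} (f : a ⟶ b), IsClosedImmersion ((D ⋙ Over.forget Y).map f) := fun {a b} f => by
    haveI : IsClosedImmersion ((D.map f).left ≫ (D.obj b).hom) := by rw [Over.w]; infer_instance
    exact IsClosedImmersion.of_comp (D.map f).left (D.obj b).hom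
  haveI : ∀ {a b : Iᵒᵖ} (f : a ⟶ b), IsAffineHom ((D ⋙ Over.forget Y).map f) := fun f => by
    haveI := hcl f
    infer_instance
  haveI : ∀ a, CompactSpace ((D ⋙ Over.forget Y).obj a) := fun a =>
    haveI : IsClosedImmersion (D.obj a).hom := (hD a).1
    QuasiCompact.compactSpace_of_compactSpace (D.obj a).hom
  haveI : ∀ a, QuasiSeparatedSpace ((D ⋙ Over.forget Y).obj a) := fun a =>
    haveI : IsClosedImmersion (D.obj a).hom := (hD a).1
    quasiSeparatedSpace_of_quasiSeparated (D.obj a).hom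
  have hc' := isLimitOfPreserves (Over.forget Y) hc
  have hcomp : ∀ {T : Scheme.{u}} (p : Y ⟶ T), IsClosedImmersion (δ ≫ p) → LocallyOfFiniteType p →
      CompactSpace T → QuasiSeparatedSpace T →
      ∃ a₁, ∀ a, (a ⟶ a₁) → IsClosedImmersion ((D.obj a).hom ≫ p) := fun {T} p h₁ h₂ _ _ => by
    let t : D ⋙ Over.forget Y ⟶ (Functor.const Iᵒᵖ).obj T :=
      { app := fun a => (D.obj a).hom ≫ p
        naturality := fun a b f => by
          change (D.map f).left ≫ (D.obj b).hom ≫ p = ((D.obj a).hom ≫ p) ≫ 𝟙 _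
          rw [Over.w_assoc, Category.comp_id] }
    let s : ((Over.forget Y).mapCone c).pt ⟶ T := e.hom.left ≫ δ ≫ p
    haveI : IsClosedImmersion s := inferInstanceAs (IsClosedImmersion (e.hom.left ≫ δ ≫ p))
    exact Groth.Agent.H8Lim.exists_forall_isClosedImmersion t hc' (s := s) (fun a => by
      change (c.π.app a).left ≫ (D.obj a).hom ≫ p = e.hom.left ≫ δ ≫ p
      rw [Over.w_assoc, ← Category.assoc e.hom.left, show e.hom.left ≫ δ = c.pt.hom from Over.w e.hom]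
      rfl) (fun f => hcl f) (fun a => inferInstanceAs (LocallyOfFiniteType ((D.obj a).hom ≫ p)))
  obtain ⟨a₁, ha₁⟩ := hcomp p₁ ‹_› ‹_› ‹_› ‹_›
  obtain ⟨a₂, ha₂⟩ := hcomp p₂ ‹_› ‹_› ‹_› ‹_›
  obtain ⟨a, fa₁, fa₂, -⟩ := IsCofilteredOrEmpty.cone_objs a₁ a₂
  refine ⟨_, (D.obj a).hom, e.inv.left ≫ (c.π.app a).left, ha₁ a fa₁, ha₂ a fa₂, inferInstance, ?_⟩
  rw [Category.assoc, Over.w]
  exact Over.w e.inv

open CategoryTheory CategoryTheory.Limits AlgebraicGeometry in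
/-- Two almost blow up squares with the same centre Z → X (X quasi-compact and quasi-separated, Z of
finite presentation) are dominated by a third one whose top right corner embeds as a closed
subscheme, over X, into each of theirs. -/
theorem result {Z X E₁ X₁ E₂ X₂ : Scheme.{u}} [CompactSpace X] [QuasiSeparatedSpace X] (i : Z ⟶ X) [IsClosedImmersion i] [LocallyOfFinitePresentation i] {e₁ : E₁ ⟶ X₁} {π₁ : E₁ ⟶ Z} {b₁ : X₁ ⟶ X} (h₁ : HTop.IsAlmostBlowUpSquare e₁ π₁ b₁ i) {e₂ : E₂ ⟶ X₂} {π₂ : E₂ ⟶ Z} {b₂ : X₂ ⟶ X} (h₂ : HTop.IsAlmostBlowUpSquare e₂ π₂ b₂ i) : ∃ (E X' : Scheme.{u}) (e : E ⟶ X') (π : E ⟶ Z) (b : X' ⟶ X) (j₁ : X' ⟶ X₁) (j₂ : X' ⟶ X₂), HTop.IsAlmostBlowUpSquare e π b i ∧ IsClosedImmersion j₁ ∧ IsClosedImmersion j₂ ∧ j₁ ≫ b₁ = b ∧ j₂ ≫ b₂ = b := by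
  haveI := h₁.isProper
  haveI := h₁.finitePresentation
  haveI := h₂.isProper
  haveI := h₂.finitePresentation
  haveI : CompactSpace X₁ := QuasiCompact.compactSpace_of_compactSpace b₁
  haveI : QuasiSeparatedSpace X₁ := quasiSeparatedSpace_of_quasiSeparated b₁
  haveI : CompactSpace X₂ := QuasiCompact.compactSpace_of_compactSpace b₂
  haveI : QuasiSeparatedSpace X₂ := quasiSeparatedSpace_of_quasiSeparated b₂
  haveI : CompactSpace ↥(pullback b₁ b₂) := QuasiCompact.compactSpace_of_compactSpace (pullback.fst b₁ b₂)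
  haveI : QuasiSeparatedSpace ↥(pullback b₁ b₂) := quasiSeparatedSpace_of_quasiSeparated (pullback.fst b₁ b₂)
  let ι₁ := (HTop.supportedOn (i.ker.comap b₁)).subschemeι
  let ι₂ := (HTop.supportedOn (i.ker.comap b₂)).subschemeι
  have hB₁ : BlowUp.IsBlowUp (ι₁ ≫ b₁) i.ker := h₁.isBlowUp
  have hB₂ : BlowUp.IsBlowUp (ι₂ ≫ b₂) i.ker := h₂.isBlowUp
  obtain ⟨φ, hφ, -⟩ := hB₂.2 _ (ι₁ ≫ b₁) hB₁.1
  obtain ⟨ψ, hψ, -⟩ := hB₁.2 _ (ι₂ ≫ b₂) hB₂.1
  haveI : IsIso φ := by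
    refine ⟨ψ, ?_, ?_⟩
    · obtain ⟨v, -, hv⟩ := hB₁.2 _ (ι₁ ≫ b₁) hB₁.1
      refine (hv _ ?_).trans (hv _ (Category.id_comp _)).symm
      show (φ ≫ ψ) ≫ ι₁ ≫ b₁ = ι₁ ≫ b₁
      rw [Category.assoc, hψ, hφ]
    · obtain ⟨v, -, hv⟩ := hB₂.2 _ (ι₂ ≫ b₂) hB₂.1
      refine (hv _ ?_).trans (hv _ (Category.id_comp _)).symm
      show (ψ ≫ φ) ≫ ι₂ ≫ b₂ = ι₂ ≫ b₂
      rw [Category.assoc, hφ, hψ]
  let δ := pullback.lift ι₁ (φ ≫ ι₂) (by rw [Category.assoc, hφ]) (f := b₁) (g := b₂)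
  haveI : IsClosedImmersion (δ ≫ pullback.fst b₁ b₂) := by
    rw [pullback.lift_fst]; infer_instance
  haveI : IsClosedImmersion (δ ≫ pullback.snd b₁ b₂) := by
    rw [pullback.lift_snd]; infer_instance
  haveI : IsClosedImmersion δ := IsClosedImmersion.of_comp δ (pullback.fst b₁ b₂)
  obtain ⟨W, w, l, hw₁, hw₂, hw₁', hl⟩ := exists_common_stage (pullback.fst b₁ b₂) (pullback.snd b₁ b₂) δ
  have hle : (w ≫ pullback.fst b₁ b₂).ker ≤ HTop.supportedOn (i.ker.comap b₁) := by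
    calc (w ≫ pullback.fst b₁ b₂).ker ≤ (l ≫ w ≫ pullback.fst b₁ b₂).ker := Scheme.Hom.le_ker_comp _ _
      _ = ι₁.ker := by rw [← Category.assoc, hl, pullback.lift_fst]
      _ = _ := Scheme.IdealSheafData.ker_subschemeι _
  exact ⟨_, W, _, _, _, w ≫ pullback.fst b₁ b₂, w ≫ pullback.snd b₁ b₂,
    Groth.Agent.HTop16.SquareSupp.isAlmostBlowUpSquare_of_ker_le h₁ (w ≫ pullback.fst b₁ b₂)
      (IsPullback.of_hasPullback e₁ (w ≫ pullback.fst b₁ b₂)) hle, hw₁, hw₂, rfl, by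
      simp only [Category.assoc, pullback.condition]⟩

end Groth.Agent.S8985
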