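import Groth.Statements.S8986
import Groth.Agent.S7384
import Groth.Agent.HTop16.PairSquare
import Groth.Agent.HTop16.PhRefine
import Groth.Agent.H8Lim.NoetherianModel
import Groth.Agent.H8Lim.FlatDescent
import Groth.Agent.FlatMorFlatten.SubScheme
import Groth.Agent.FlatMorAdm.Bir
import Groth.Agent.FlatMor12.SubtrFlat.Killed
import Groth.Agent.FlatMor12.UnivOpenLimit
-- import your own Groth.Agent.* helpers here

set_option autoImplicit false
set_option backward.isDefEq.respectTransparency false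
set_option backward.isDefEq.respectTransparency.types false
universe u
open HTop

namespace Groth.Agent.S8986

open CategoryTheory CategoryTheory.Limits AlgebraicGeometry in
lemma restrict_sq {X Y X₀ Y₀ : Scheme.{u}} {f : X ⟶ Y} {f₀ : X₀ ⟶ Y₀} {v : Y ⟶ Y₀} {w : X ⟶ X₀}
    (sq : IsPullback w f f₀ v) (U : Y₀.Opens) :
    ∃ m : (f ⁻¹ᵁ v ⁻¹ᵁ U : Scheme.{u}) ⟶ (f₀ ⁻¹ᵁ U : Scheme.{u}),
      IsPullback m (f ∣_ v ⁻¹ᵁ U) (f₀ ∣_ U) (v ∣_ U) := by
  have hout : IsPullback ((f ⁻¹ᵁ v ⁻¹ᵁ U).ι ≫ w) (f ∣_ v ⁻¹ᵁ U) f₀ ((v ∣_ U) ≫ U.ι) := by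
    rw [morphismRestrict_ι]
    exact (isPullback_morphismRestrict f (v ⁻¹ᵁ U)).flip.paste_horiz sq
  refine ⟨(isPullback_morphismRestrict f₀ U).flip.lift ((f ⁻¹ᵁ v ⁻¹ᵁ U).ι ≫ w)
    ((f ∣_ v ⁻¹ᵁ U) ≫ (v ∣_ U)) (by rw [hout.w, Category.assoc]), ?_⟩
  refine IsPullback.of_right ?_ (IsPullback.lift_snd _ _ _ _) (isPullback_morphismRestrict f₀ U).flip
  rw [IsPullback.lift_fst]
  exact hout


open CategoryTheory CategoryTheory.Limits AlgebraicGeometry in
/-- A morphism of finite presentation X → Y over a quasi-compact quasi-separated base, flat over a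
quasi-compact open V, becomes flat after compatible almost blow ups of Y (with centre disjoint from
V) and of X (with centre the preimage of that centre), the exceptional corners also forming a fibre
square. -/
theorem result {X Y : Scheme.{u}} [CompactSpace Y] [QuasiSeparatedSpace Y] (f : X ⟶ Y) [LocallyOfFinitePresentation f] [QuasiCompact f] [QuasiSeparated f] (V : Y.Opens) (hV : IsCompact (V : Set Y)) (hf : Flat (f ∣_ V)) : ∃ (Z Y' E T X' D : Scheme.{u}) (iZ : Z ⟶ Y) (bY : Y' ⟶ Y) (eE : E ⟶ Y') (πE : E ⟶ Z) (iT : T ⟶ X) (bX : X' ⟶ X) (eD : D ⟶ X') (πD : D ⟶ T) (fZ : T ⟶ Z) (f' : X' ⟶ Y') (fE : D ⟶ E), HTop.IsAlmostBlowUpSquare eE πE bY iZ ∧ HTop.IsAlmostBlowUpSquare eD πD bX iT ∧ IsPullback fZ iT iZ f ∧ IsPullback fE eD eE f' ∧ f' ≫ bY = bX ≫ f ∧ πD ≫ fZ = fE ≫ πE ∧ iZ ⁻¹ᵁ V = ⊥ ∧ Flat f' ∧ LocallyOfFinitePresentation f' := by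
  classical
  obtain ⟨I, _, _, _, DX, DS, φ₀, cX, cS, hcX, -, eX, -, haff, hfin, -⟩ := Groth.Agent.S7384.result (𝟙 Y)
  haveI : ∀ (a b : Iᵒᵖ) (f : a ⟶ b), IsAffineHom (DX.map f) := fun a b f => (haff a b f).1
  haveI : ∀ a, CompactSpace (DX.obj a) := fun a => (hfin a).1
  haveI hN : ∀ a, IsNoetherian (DX.obj a) := fun a => by
    haveI := (hfin a).2.2.1
    haveI : IsNoetherianRing (CommRingCat.of (ULift.{u} ℤ)) :=
      isNoetherianRing_of_ringEquiv ℤ ULift.ringEquiv.symm
    haveI : IsLocallyNoetherian (DX.obj a) :=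
      LocallyOfFiniteType.isLocallyNoetherian (IsTerminal.from specULiftZIsTerminal (DX.obj a))
    exact {}
  -- descend `f`
  let f' := f ≫ eX.inv
  obtain ⟨j, Zj, hj, qj, _, _, _, sqj⟩ :=
    Groth.Agent.H8Lim.exists_stage_scheme (D := DX) (c := cX) hcX f'
  let V' := eX.hom ⁻¹ᵁ V
  have hV' : IsCompact (V' : Set cX.pt) := eX.hom.isCompact_preimage hV
  obtain ⟨i, W, hW, hWV⟩ := exists_preimage_eq DX cX hcX V' hV'
  obtain ⟨k, φj, φi, -⟩ := IsCofilteredOrEmpty.cone_objs j i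
  let h := pullback.snd hj (DX.map φj)
  have ej : qj ≫ hj = (f' ≫ cX.π.app k) ≫ DX.map φj := by
    rw [sqj.w]; simp [f']
  have sqk := Groth.Agent.H8Lim.isPullback_later (D := DX) (c := cX) sqj φj ej
  let Wk := DX.map φi ⁻¹ᵁ W
  have hWk : cX.π.app k ⁻¹ᵁ Wk = V' := by
    rw [← Scheme.Hom.comp_preimage, cX.w, hWV]
  -- descend flatness over `V`
  haveI : Flat (f' ∣_ V') := by
    have hh : IsPullback (𝟙 X) f' f eX.hom := IsPullback.of_horiz_isIso ⟨by simp [f']⟩
    obtain ⟨m, hm⟩ := restrict_sq hh V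
    exact MorphismProperty.of_isPullback (P := @Flat.{u}) hm hf
  have hY : IsPullback (cX.π.app k ∣_ Wk) (cX.π.app k ⁻¹ᵁ Wk).ι Wk.ι (cX.π.app k) :=
    isPullback_morphismRestrict (cX.π.app k) Wk
  haveI : Flat (f' ∣_ (cX.π.app k ⁻¹ᵁ Wk)) := by rw [hWk]; infer_instance
  obtain ⟨qX, hX⟩ := restrict_sq sqk Wk
  haveI : LocallyOfFinitePresentation (h ∣_ Wk) :=
    IsZariskiLocalAtTarget.restrict (P := @LocallyOfFinitePresentation.{u}) (MorphismProperty.pullback_snd _ _ ‹_›) _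
  haveI : QuasiCompact h := MorphismProperty.pullback_snd _ _ ‹_›
  haveI : CompactSpace (Wk : Scheme.{u}) :=
    isCompact_iff_compactSpace.1 (TopologicalSpace.NoetherianSpace.isCompact _)
  haveI : QuasiCompact (h ∣_ Wk) := IsZariskiLocalAtTarget.restrict ‹_› _
  haveI : CompactSpace (h ⁻¹ᵁ Wk : Scheme.{u}) := QuasiCompact.compactSpace_of_compactSpace (h ∣_ Wk)
  obtain ⟨l, φ, Xl, Yl, fl, gl, pY, pX, hYl, hXl, hfl⟩ := Groth.Agent.LimSmooth.exists_stage hcX hY hX
    Groth.Agent.H8Lim.affineSpreads_flat (fun _ _ => inferInstance) (P := @Flat.{u})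
    (inferInstance : Flat (f' ∣_ (cX.π.app k ⁻¹ᵁ Wk)))
  let f₀ := pullback.snd h (DX.map φ)
  haveI : LocallyOfFinitePresentation f₀ :=
    MorphismProperty.pullback_snd _ _ (MorphismProperty.pullback_snd _ _ ‹_›)
  haveI : QuasiCompact f₀ := MorphismProperty.pullback_snd _ _ ‹_›
  haveI : QuasiSeparated f₀ := MorphismProperty.pullback_snd _ _ (MorphismProperty.pullback_snd _ _ ‹_›)
  haveI : IsOpenImmersion gl := MorphismProperty.of_isPullback (P := @IsOpenImmersion.{u}) hYl inferInstance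
  let U := DX.map φ ⁻¹ᵁ Wk
  haveI : Flat (f₀ ∣_ U) := by
    have hA : IsPullback (pX ≫ (h ⁻¹ᵁ Wk).ι) fl h (gl ≫ DX.map φ) := by
      rw [← hYl.w]
      exact hXl.paste_horiz (isPullback_morphismRestrict h Wk).flip
    have hA' : IsPullback (pullback.lift (pX ≫ (h ⁻¹ᵁ Wk).ι) (fl ≫ gl) (by rw [hA.w, Category.assoc]))
        fl f₀ gl :=
      IsPullback.of_right (by rw [pullback.lift_fst]; exact hA) (pullback.lift_snd _ _ _)
        (IsPullback.of_hasPullback h (DX.map φ))
    have hr : Set.range U.ι ⊆ Set.range gl := by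
      rw [Scheme.Opens.range_ι]
      intro z hz
      obtain ⟨y, hy, -⟩ := Scheme.exists_preimage_of_isPullback hYl.flip z ⟨DX.map φ z, hz⟩ rfl
      exact ⟨y, hy⟩
    exact Groth.Agent.FlatMor12.UnivOpenLimit.of_isPullback_factor hA' (isPullback_morphismRestrict f₀ U).flip
      (IsOpenImmersion.lift gl U.ι hr) (IsOpenImmersion.lift_fac _ _ _) hfl
  let gY : Y ⟶ DX.obj l := eX.inv ≫ cX.π.app l
  have hgV : gY ⁻¹ᵁ U = V := by
    simp only [U, Wk, gY, ← Scheme.Hom.comp_preimage]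
    rw [Category.assoc, ← DX.map_comp, cX.w, Scheme.Hom.comp_preimage, hWV, ← Scheme.Hom.comp_preimage,
      Iso.inv_hom_id, Scheme.Hom.id_preimage]
  -- the Noetherian model
  have el : pullback.lift qj (f' ≫ cX.π.app k) ej ≫ h = (f' ≫ cX.π.app l) ≫ DX.map φ := by
    rw [sqk.w]; simp [f']
  let g := pullback.lift (pullback.lift qj (f' ≫ cX.π.app k) ej) (f' ≫ cX.π.app l) el
  have sql : IsPullback g f f₀ gY := by
    have h1 : IsPullback (𝟙 X) f f' eX.inv := IsPullback.of_horiz_isIso ⟨by simp [f']⟩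
    simpa using h1.paste_horiz (Groth.Agent.H8Lim.isPullback_later (D := DX) (c := cX) sqk φ el)
  haveI : CompactSpace (U : Scheme.{u}) :=
    isCompact_iff_compactSpace.1 (TopologicalSpace.NoetherianSpace.isCompact _)
  haveI : LocallyOfFinitePresentation (f₀ ∣_ U) := IsZariskiLocalAtTarget.restrict ‹_› _
  obtain ⟨𝓘, B, b, hb, hadm, hsupp, hflat⟩ := Groth.Agent.FlatMorFlatten.exists_flattening_scheme f₀ U
    (TopologicalSpace.NoetherianSpace.isCompact _)
  haveI : IsProper b := Groth.Agent.BlowUpLib.isProper_of_isBlowUp hb hadm.1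
  haveI : LocallyOfFinitePresentation b :=
    Groth.Agent.HTop16.PhRefine.locallyOfFinitePresentation_of_noetherian b
  haveI : LocallyOfFinitePresentation 𝓘.subschemeι :=
    Groth.Agent.HTop16.PhRefine.locallyOfFinitePresentation_of_noetherian _
  have hsqY := Groth.Agent.HTop16.PairSquare.isAlmostBlowUpSquare_baseChange (b := b) (i := 𝓘.subschemeι)
    (by rw [Scheme.IdealSheafData.ker_subschemeι]; exact hb) gY
  let p₁ := pullback.fst f₀ b
  let p₂ := pullback.snd f₀ b
  haveI : IsLocallyNoetherian (pullback h (DX.map φ)) := LocallyOfFiniteType.isLocallyNoetherian f₀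
  haveI : CompactSpace ↥(pullback h (DX.map φ)) := QuasiCompact.compactSpace_of_compactSpace f₀
  haveI : IsNoetherian (pullback h (DX.map φ)) := ⟨⟩
  haveI : IsLocallyNoetherian (pullback f₀ b) := LocallyOfFiniteType.isLocallyNoetherian p₁
  haveI : CompactSpace ↥(pullback f₀ b) := QuasiCompact.compactSpace_of_compactSpace p₁
  haveI : IsNoetherian (pullback f₀ b) := ⟨⟩
  let O := ModPair.interior ((𝓘.comap f₀).comap p₁)
  haveI : QuasiCompact O.ι := inferInstance
  obtain ⟨hfl', hfp', -, -⟩ := hflat _ p₁ p₂ (IsPullback.of_hasPullback f₀ b) O.ι.ker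
    (Groth.Agent.FlatMor12.SubtrFlat.mem_ker_iff_killed _
      (Groth.Agent.FlatMorAdm.isFiniteTypeIdeal_of_noetherian _))
  let a := O.ι.imageι ≫ p₁
  let α := O.ι.imageι ≫ p₂
  haveI : Flat α := hfl'
  haveI : LocallyOfFinitePresentation α := hfp'
  have hab : a ≫ f₀ = α ≫ b := by simp only [a, α, p₁, p₂, Category.assoc, pullback.condition]
  let iT₀ := pullback.fst f₀ 𝓘.subschemeι
  haveI : IsProper a := inferInstanceAs (IsProper (O.ι.imageι ≫ p₁))
  haveI : LocallyOfFinitePresentation a := Groth.Agent.HTop16.PhRefine.locallyOfFinitePresentation_of_noetherian a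
  have hkerT : iT₀.ker = 𝓘.comap f₀ := by
    rw [Scheme.IdealSheafData.ker_fst_of_isClosedImmersion, Scheme.IdealSheafData.ker_subschemeι]
  have hsqX := Groth.Agent.HTop16.PairSquare.isAlmostBlowUpSquare_baseChange (b := a) (i := iT₀)
    (by rw [hkerT]; exact Groth.Agent.FlatMorAdm.isBlowUp_strict f₀ hb (IsPullback.of_hasPullback f₀ b) O rfl) g
  let iZ := pullback.fst gY 𝓘.subschemeι
  let bY := pullback.fst gY b
  let iT := pullback.fst g iT₀
  let bX := pullback.fst g a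
  let fZ : pullback g iT₀ ⟶ pullback gY 𝓘.subschemeι :=
    pullback.lift (iT ≫ f) (pullback.snd g iT₀ ≫ pullback.snd f₀ 𝓘.subschemeι)
      (by rw [Category.assoc, ← sql.w, pullback.condition_assoc, pullback.condition, Category.assoc])
  let F : pullback g a ⟶ pullback gY b :=
    pullback.lift (bX ≫ f) (pullback.snd g a ≫ α)
      (by rw [Category.assoc, ← sql.w, pullback.condition_assoc, hab]; simp [α])
  have hFb : F ≫ bY = bX ≫ f := pullback.lift_fst _ _ _
  have sqF : IsPullback (pullback.snd g a) F α (pullback.snd gY b) := by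
    refine IsPullback.of_bot ?_ (pullback.lift_snd _ _ _).symm (IsPullback.of_hasPullback gY b).flip
    rw [hFb, ← hab]
    exact (IsPullback.of_hasPullback g a).flip.paste_vert sql
  have sqT : IsPullback fZ iT iZ f := by
    refine IsPullback.of_right (h₁₂ := pullback.snd gY 𝓘.subschemeι) (v₁₃ := 𝓘.subschemeι) (h₂₂ := gY) ?_
      (pullback.lift_fst _ _ _) (IsPullback.of_hasPullback gY 𝓘.subschemeι).flip
    rw [pullback.lift_snd, ← sql.w]
    exact (IsPullback.of_hasPullback g iT₀).flip.paste_horiz (IsPullback.of_hasPullback f₀ 𝓘.subschemeι).flip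
  let fE : pullback bX iT ⟶ pullback bY iZ :=
    pullback.lift (pullback.fst bX iT ≫ F) (pullback.snd bX iT ≫ fZ)
      (by rw [Category.assoc, hFb, Category.assoc, sqT.w, pullback.condition_assoc])
  have sqD : IsPullback fE (pullback.fst bX iT) (pullback.fst bY iZ) F := by
    refine IsPullback.of_right (h₁₂ := pullback.snd bY iZ) (v₁₃ := iZ) (h₂₂ := bY) ?_
      (pullback.lift_fst _ _ _) (IsPullback.of_hasPullback bY iZ).flip
    rw [pullback.lift_snd, hFb]
    exact (IsPullback.of_hasPullback bX iT).flip.paste_horiz sqT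
  refine ⟨_, _, _, _, _, _, iZ, bY, pullback.fst bY iZ, pullback.snd bY iZ, iT, bX, pullback.fst bX iT,
    pullback.snd bX iT, fZ, F, fE, hsqY, hsqX, sqT, sqD, hFb, (pullback.lift_snd _ _ _).symm, ?_, ?_, ?_⟩
  · ext z
    simp only [TopologicalSpace.Opens.coe_bot, Set.mem_empty_iff_false, iff_false]
    intro hz
    have hz1 : gY (iZ z) ∈ (U : Set (DX.obj l)) := by
      have : iZ z ∈ gY ⁻¹ᵁ U := hgV ▸ hz
      exact this
    have hz2 : gY (iZ z) ∈ (𝓘.support : Set (DX.obj l)) := by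
      rw [← Scheme.IdealSheafData.range_subschemeι]
      exact ⟨pullback.snd gY 𝓘.subschemeι z, by
        rw [← Scheme.Hom.comp_apply, ← Scheme.Hom.comp_apply, pullback.condition]⟩
    exact (hsupp.le hz2) hz1
  · exact MorphismProperty.of_isPullback (P := @Flat.{u}) sqF ‹_›
  · exact MorphismProperty.of_isPullback (P := @LocallyOfFinitePresentation.{u}) sqF ‹_›


end Groth.Agent.S8986
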