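import Groth.Prelude.Def_HTop
import Groth.Prelude.Def_HTop3
import Groth.Prelude.Def_MoreMor
import Groth.Agent.HTop16.HCrit

set_option autoImplicit false
universe u
namespace HTop
end HTop
open HTop

namespace Groth.Agent.S8988

open CategoryTheory CategoryTheory.Limits AlgebraicGeometry Opposite in
/-- An h sheaf on schemes over S takes the same sections on an S-scheme and on any thickening of it of
finite presentation. -/
theorem result (S : Scheme.{u}) (F : HTop.ShH S) {X X' : Over S} (f : X ⟶ X') (hf : MoreMor.IsThickening f.left) [LocallyOfFinitePresentation f.left] : Function.Bijective (F.obj.map f.op) := by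
  obtain ⟨hci, hsurj⟩ := hf
  haveI : IsProper f.left := inferInstance
  have h : Presieve.IsSheafFor F.obj (Presieve.singleton f) :=
    (Presieve.isSheafFor_iff_generate _).2
      (((isSheaf_iff_isSheaf_of_type _ _).1 F.property) _ (Groth.Agent.HTop16.HCrit.generate_singleton_mem_Jh f))
  rw [← Presieve.ofArrows_pUnit.{0}, Presieve.isSheafFor_arrows_iff] at h
  constructor
  · intro a b hab
    obtain ⟨t, -, huniq⟩ := h (fun _ => F.obj.map f.op a) (fun i j Z p q e => by
      have : p = q := by
        ext : 1
        haveI : Mono f.left := inferInstance
        rw [← cancel_mono f.left]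
        exact congr($(e).left)
      rw [this])
    rw [huniq a fun _ => rfl, huniq b fun _ => hab.symm]
  · intro x
    obtain ⟨t, ht, -⟩ := h (fun _ => x) (fun i j Z p q e => by
      have : p = q := by
        ext : 1
        haveI : Mono f.left := inferInstance
        rw [← cancel_mono f.left]
        exact congr($(e).left)
      rw [this])
    exact ⟨t, ht PUnit.unit⟩

end Groth.Agent.S8988
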