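import Groth.Prelude.Def_HTop
import Groth.Prelude.Def_HTop3
import Groth.Agent.HTop16.PhSheaf
import Groth.Agent.SDiv28.BlowUp
import Groth.Agent.BlowUpLib.Proper
import Groth.Agent.H8Lim.IdealDescent

set_option autoImplicit false
universe u
namespace HTop
end HTop
open HTop

namespace Groth.Agent.S8990

open CategoryTheory CategoryTheory.Limits AlgebraicGeometry Opposite in
/-- A ph sheaf on schemes over S turns every blow up square (centre a closed subscheme of finite
presentation, X' → X the blowing up, E the inverse image of the centre) into a cartesian square of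
sets of sections. -/
theorem result (S : Scheme.{u}) (F : HTop.ShPh S) {E Z X' X : Over S} (e : E ⟶ X') (π : E ⟶ Z) (b : X' ⟶ X) (i : Z ⟶ X) [IsClosedImmersion i.left] [LocallyOfFinitePresentation i.left] (hb : BlowUp.IsBlowUp b.left i.left.ker) (hE : IsPullback e.left π.left b.left i.left) (t : F.obj.obj (op Z)) (s' : F.obj.obj (op X')) (hts : F.obj.map π.op t = F.obj.map e.op s') : ∃! s : F.obj.obj (op X), F.obj.map i.op s = t ∧ F.obj.map b.op s = s' := by
  haveI hbp : IsProper b.left :=
    BlowUpLib.isProper_of_isBlowUp hb fun U => H8Lim.ker_fg_of_locallyOfFinitePresentation i.left U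
  let O : X.left.Opens := i.left.ker.support.compl
  have hO : ∀ x : X.left, x ∉ Set.range i.left → x ∈ O := fun x hx hx' => by
    have hx' := (Scheme.Hom.support_ker i.left).le hx'
    change x ∈ closure (Set.range i.left) at hx'
    rw [i.left.isClosedEmbedding.isClosed_range.closure_eq] at hx'
    exact hx hx'
  haveI hiso : IsIso (b.left ∣_ O) := SDiv28.isIso_off_center hb
  have hcov : ∀ x : X.left, x ∈ Set.range i.left ∨ x ∈ Set.range b.left := fun x => by
    by_cases hx : x ∈ Set.range i.left
    · exact Or.inl hx
    · obtain ⟨y, hy⟩ := (b.left ∣_ O).surjective ⟨x, hO x hx⟩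
      refine Or.inr ⟨(b.left ⁻¹ᵁ O).ι y, ?_⟩
      rw [← Scheme.Hom.comp_apply, ← morphismRestrict_ι, Scheme.Hom.comp_apply, hy]
      rfl
  have main : ∀ {W : Over S} (g g' : W ⟶ X'), g ≫ b = g' ≫ b → F.obj.map g.op s' = F.obj.map g'.op s' := by
    intro W g g' e'
    have el : g.left ≫ b.left = g'.left ≫ b.left := congr($(e').left)
    -- the part over the centre and the part where the two maps agree
    let A : Scheme.{u} := pullback (g.left ≫ b.left) i.left
    haveI : IsSeparated b.left := inferInstance
    let B : Scheme.{u} := pullback (pullback.lift g.left g'.left el) (pullback.diagonal b.left)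
    let a : A ⟶ W.left := pullback.fst _ _
    let d : B ⟶ W.left := pullback.fst _ _
    have hWcov : ∀ w : W.left, w ∈ Set.range a ∨ w ∈ Set.range d := fun w => by
      by_cases hw : b.left (g.left w) ∈ Set.range i.left
      · obtain ⟨z, hz⟩ := hw
        obtain ⟨q, hq, -⟩ := Scheme.Pullback.exists_preimage_pullback (f := g.left ≫ b.left) (g := i.left) w z hz.symm
        exact Or.inl ⟨q, hq⟩
      · have hwO : w ∈ g.left ⁻¹ᵁ (b.left ⁻¹ᵁ O) := hO _ hw
        let P := g.left ⁻¹ᵁ (b.left ⁻¹ᵁ O)
        have hP' : P ≤ g'.left ⁻¹ᵁ (b.left ⁻¹ᵁ O) := fun v hv => by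
          change (g'.left ≫ b.left) v ∈ O
          rw [← el]
          exact hv
        have hagree : P.ι ≫ g.left = P.ι ≫ g'.left := by
          have h2 : g.left.resLE (b.left ⁻¹ᵁ O) P le_rfl = g'.left.resLE (b.left ⁻¹ᵁ O) P hP' := by
            rw [← cancel_mono (b.left ∣_ O), ← cancel_mono O.ι]
            simp only [Category.assoc, morphismRestrict_ι, Scheme.Hom.resLE_comp_ι_assoc, el]
          have := congr($h2 ≫ (b.left ⁻¹ᵁ O).ι)
          simpa only [Scheme.Hom.resLE_comp_ι] using this
        let r : (P : Scheme.{u}) ⟶ B := pullback.lift P.ι (P.ι ≫ g.left) (by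
          apply pullback.hom_ext
          · simp only [Category.assoc, pullback.diagonal_fst, Category.comp_id]
            rw [pullback.lift_fst]
          · simp only [Category.assoc, pullback.diagonal_snd, Category.comp_id]
            rw [pullback.lift_snd]
            exact hagree.symm)
        exact Or.inr ⟨r ⟨w, hwO⟩, congr($(pullback.lift_fst P.ι (P.ι ≫ g.left) _) ⟨w, hwO⟩)⟩
    let AO : Over S := Over.mk (a ≫ W.hom)
    let BO : Over S := Over.mk (d ≫ W.hom)
    haveI : IsProper (Over.homMk (U := AO) (V := W) a rfl).left := inferInstanceAs (IsProper a)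
    haveI : IsProper (Over.homMk (U := BO) (V := W) d rfl).left := inferInstanceAs (IsProper d)
    refine (HTop16.PhSheaf.isSheafFor_pair F (Over.homMk (U := AO) (V := W) a rfl)
      (Over.homMk (U := BO) (V := W) d rfl) hWcov).isSeparatedFor.ext fun Y q hq => ?_
    obtain ⟨t'⟩ := hq
    simp only [← ConcreteCategory.comp_apply, ← Functor.map_comp, ← op_comp]
    rcases t' with _ | _
    · have : Over.homMk (V := W) d rfl ≫ g = Over.homMk (U := BO) (V := W) d rfl ≫ g' := by
        ext
        have h1 := congr($(pullback.condition (f := pullback.lift g.left g'.left el) (g := pullback.diagonal b.left)) ≫ pullback.fst b.left b.left)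
        have h2 := congr($(pullback.condition (f := pullback.lift g.left g'.left el) (g := pullback.diagonal b.left)) ≫ pullback.snd b.left b.left)
        simp only [Category.assoc, pullback.lift_fst, pullback.lift_snd, pullback.diagonal_fst, pullback.diagonal_snd, Category.comp_id] at h1 h2
        exact h1.trans h2.symm
      exact congrArg (fun φ => F.obj.map (Quiver.Hom.op φ) s') this
    · let k : AO ⟶ Z := Over.homMk (pullback.snd _ _) (by
        change pullback.snd (g.left ≫ b.left) i.left ≫ Z.hom = a ≫ W.hom
        rw [← Over.w i, ← pullback.condition_assoc, Category.assoc]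
        simp [a])
      have key : ∀ φ : W ⟶ X', φ.left ≫ b.left = g.left ≫ b.left →
          F.obj.map (Over.homMk (U := AO) (V := W) a rfl ≫ φ).op s' = F.obj.map k.op t := fun φ hφ => by
        have hc : (a ≫ φ.left) ≫ b.left = pullback.snd _ _ ≫ i.left := by
          rw [Category.assoc, hφ]
          exact pullback.condition
        let l : AO ⟶ E := Over.homMk (hE.lift _ _ hc) (by
          rw [← Over.w e, hE.lift_fst_assoc, Category.assoc, Over.w φ]
          rfl)
        have l1 : l ≫ e = Over.homMk (U := AO) (V := W) a rfl ≫ φ := by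
          ext
          exact hE.lift_fst _ _ _
        have l2 : l ≫ π = k := by
          ext
          exact hE.lift_snd _ _ _
        rw [← l1, ← l2, op_comp, op_comp, Functor.map_comp, Functor.map_comp, ConcreteCategory.comp_apply,
          ConcreteCategory.comp_apply, hts]
      exact (key g rfl).trans (key g' el.symm).symm
  haveI : Mono i := Over.mono_of_mono_left i
  have mixed : ∀ {W : Over S} (g : W ⟶ Z) (g' : W ⟶ X'), g ≫ i = g' ≫ b →
      F.obj.map g.op t = F.obj.map g'.op s' := fun {W} g g' hgg => by
    have el : g'.left ≫ b.left = g.left ≫ i.left := congr($(hgg.symm).left)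
    let l : W ⟶ E := Over.homMk (hE.lift _ _ el) (by rw [← Over.w e, hE.lift_fst_assoc, Over.w])
    have l1 : l ≫ e = g' := by ext; exact hE.lift_fst _ _ _
    have l2 : l ≫ π = g := by ext; exact hE.lift_snd _ _ _
    rw [← l1, ← l2, op_comp, op_comp, Functor.map_comp, Functor.map_comp, ConcreteCategory.comp_apply,
      ConcreteCategory.comp_apply, hts]
  let x : ∀ t', F.obj.obj (op (HTop16.PhSheaf.famObj Z X' t')) := fun t' => Bool.rec s' t t'
  obtain ⟨s, hs, hu⟩ := (Presieve.isSheafFor_arrows_iff F.obj (HTop16.PhSheaf.famHom i b)).1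
      (HTop16.PhSheaf.isSheafFor_pair F i b hcov) x (fun p q W g g' hgg => by
    cases p <;> cases q
    · exact main g g' hgg
    · exact (mixed g' g hgg.symm).symm
    · exact mixed g g' hgg
    · change g ≫ i = g' ≫ i at hgg
      rw [(cancel_mono i).1 hgg])
  exact ⟨s, ⟨hs true, hs false⟩, fun s₂ h₂ => hu s₂ fun t' => by
    cases t'
    · exact h₂.2
    · exact h₂.1⟩

end Groth.Agent.S8990
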