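import Groth.Prelude.Def_HTop
import Groth.Prelude.Def_MoreMor
import Groth.Agent.HTop16.PhSheaf

set_option autoImplicit false
universe u
namespace HTop
end HTop
open HTop

namespace Groth.Agent.S8991

open CategoryTheory CategoryTheory.Limits AlgebraicGeometry Opposite in
/-- A ph sheaf on schemes over S takes the same sections on an S-scheme and on any thickening of it. -/
theorem result (S : Scheme.{u}) (F : HTop.ShPh S) {X X' : Over S} (f : X ⟶ X') (hf : MoreMor.IsThickening f.left) : Function.Bijective (F.obj.map f.op) := by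
  obtain ⟨hc, hs⟩ := hf
  haveI := hc
  haveI := hs
  haveI : Mono f := Over.mono_of_mono_left f
  have h := (Presieve.isSheafFor_arrows_iff F.obj (fun _ : PUnit.{1} => f)).1
    (HTop16.PhSheaf.isSheafFor_of_isPhCover F (fun _ : PUnit.{1} => X) (fun _ => f)
      (HTop16.PhSheaf.isPhCover_of_proper _ f.left (fun _ => 𝟙 _) (fun _ => Category.id_comp _)
        fun x => ⟨PUnit.unit, x, rfl⟩))
  refine ⟨fun a b hab => ?_, fun x => ?_⟩
  · obtain ⟨t, -, hu⟩ := h (fun _ => F.obj.map f.op b) (fun _ _ Z g g' e => by
      rw [cancel_mono] at e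
      rw [e])
    exact (hu a fun _ => hab).trans (hu b fun _ => rfl).symm
  · obtain ⟨t, ht, -⟩ := h (fun _ => x) (fun _ _ Z g g' e => by
      rw [cancel_mono] at e
      rw [e])
    exact ⟨t, ht PUnit.unit⟩

end Groth.Agent.S8991
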