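import Groth.Prelude.Def_HTop2
import Mathlib.FieldTheory.PerfectClosure
import Groth.Agent.HTop16.CharP
import Mathlib.FieldTheory.PerfectClosure

set_option autoImplicit false
universe u
namespace HTop
end HTop
open HTop

namespace Groth.Agent.S8993

/-- For a ring A of prime characteristic p, the map from A to the direct limit of A along Frobenius (the
perfect closure) is an absolute weak normalization of A. (The published statement also identifies,
over a base of characteristic p, the h sheafification of the structure sheaf on quasi-compact
quasi-separated objects with this colimit; that part is not stated here.) -/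
theorem result (p : ℕ) [Fact p.Prime] (A : Type u) [CommRing A] [CharP A p] : HTop.IsRingAWN (PerfectClosure.of A p) := by
  have hp := (Fact.out : p.Prime)
  refine HTop16.isRingAWN_of_uh_awn (HTop16.awn_of_perfect hp (CharP.cast_eq_zero _ p)
    (PerfectRing.bijective_frobenius (R := PerfectClosure A p) (p := p))) ?_
  have hpow : ∀ n (x : A), (PerfectClosure.mk A p (n, x)) ^ (p ^ n) = PerfectClosure.of A p x := by
    intro n x
    rw [← PerfectClosure.iterate_frobenius_mk A p n x, ← coe_iterateFrobenius, iterateFrobenius_def]
  refine ⟨fun b => ?_, fun K _ g₁ g₂ hg => ?_, fun a ha => ?_⟩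
  · induction b using PerfectClosure.induction_on with
    | _ x =>
      obtain ⟨n, x⟩ := x
      letI := (PerfectClosure.of A p).toAlgebra
      exact IsIntegral.of_pow (Nat.pow_pos hp.pos)
        ((hpow n x).symm ▸ isIntegral_algebraMap)
  · refine RingHom.ext fun b => ?_
    induction b using PerfectClosure.induction_on with
    | _ x =>
      obtain ⟨n, x⟩ := x
      have h0 : (p : K) = 0 := by
        rw [← map_natCast g₁, CharP.cast_eq_zero, map_zero]
      haveI : CharP K p := (CharP.charP_iff_prime_eq_zero hp).2 h0
      haveI := Fact.mk hp
      refine iterateFrobenius_inj K p n ?_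
      rw [iterateFrobenius_def, iterateFrobenius_def, ← map_pow, ← map_pow, hpow]
      exact RingHom.congr_fun hg x
  · rw [RingHom.mem_ker, PerfectClosure.of_apply, PerfectClosure.zero_def,
      PerfectClosure.mk_eq_iff] at ha
    obtain ⟨z, hz⟩ := ha
    refine mem_nilradical.2 ⟨p ^ z, ?_⟩
    simp only [← coe_iterateFrobenius, map_zero, iterateFrobenius_def, zero_add] at hz
    simpa [hp.ne_zero] using hz

end Groth.Agent.S8993
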