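import Groth.Statements.S8995
import Groth.Agent.SchMor12.FlatDiagonal
import Mathlib.AlgebraicGeometry.Morphisms.Etale

set_option autoImplicit false
universe v u
open FlatMor

namespace Groth.Agent.S8995

open CategoryTheory CategoryTheory.Limits AlgebraicGeometry in
/-- For an etale morphism T → S and a point t of T over s, a module over the local ring of T at t is
flat over the local ring of S at s (through the stalk map) if and only if it is flat over the local
ring of T at t. -/
theorem result {T S : Scheme.{u}} (g : T ⟶ S) [Etale g] (t : T) (M : Type v) [AddCommGroup M] [Module (T.presheaf.stalk t) M] [Algebra (S.presheaf.stalk (g.base t)) (T.presheaf.stalk t)] [Module (S.presheaf.stalk (g.base t)) M] [IsScalarTower (S.presheaf.stalk (g.base t)) (T.presheaf.stalk t) M] (halg : algebraMap (S.presheaf.stalk (g.base t)) (T.presheaf.stalk t) = (g.stalkMap t).hom) : Module.Flat (S.presheaf.stalk (g.base t)) M ↔ Module.Flat (T.presheaf.stalk t) M := by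
  have : Flat g := inferInstance
  have hs : Module.Flat (S.presheaf.stalk (g.base t)) (T.presheaf.stalk t) := by
    rw [← RingHom.flat_algebraMap_iff, halg]
    exact Flat.stalkMap g t
  refine ⟨fun h => ?_, fun h => Module.Flat.trans _ (T.presheaf.stalk t) M⟩
  refine Groth.Agent.SchMor12.flat_stalk_of_flat_diagonal g t M ?_
  let inst : Module (S.presheaf.stalk (g.base t)) M := ‹_›
  suffices inst = Module.compHom M (g.stalkMap t).hom by rw [← this]; exact h
  refine Module.ext' _ _ fun r m => ?_
  change r • m = (g.stalkMap t).hom r • m
  rw [← halg, algebraMap_smul]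

end Groth.Agent.S8995
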