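import Groth.Statements.S8996
import Groth.Agent.FreeDescent.Main

set_option autoImplicit false
universe u
open FlatMor

namespace Groth.Agent.S8996

open CategoryTheory CategoryTheory.Limits AlgebraicGeometry in
/-- Over a normal Noetherian base S, a finite locally free module on a flat proper S-scheme X with f_*
O_X = O_S, which becomes free after base change to the local scheme Spec O_{S,s} at every point s of
S whose local ring has dimension at most one, is isomorphic to the pullback of a finite locally free
module on S. (The published statement asks freeness only at the points whose local ring has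
dimension exactly one; over S = Spec k, with X the projective line over k and E its twisting sheaf
O(1), that condition is empty and the conclusion fails. This row also asks freeness at the points of
dimension zero, which the proof uses and which the conclusion forces.) -/
theorem result {X S : Scheme.{u}} (f : X ⟶ S) [Flat f] [IsProper f] (hO : ∀ U : S.Opens, Function.Bijective (f.app U).hom) [IsNoetherian S] (hS : Pi1.IsNormalScheme S) (E : X.Modules) (hE : FlatMod.IsFinLocFree E) (h1 : ∀ s : S, ringKrullDim (S.presheaf.stalk s) ≤ 1 → ∃ r : ℕ, Nonempty ((Scheme.Modules.pullback (pullback.fst f (S.fromSpecStalk s))).obj E ≅ FlatMod.freeMod (pullback f (S.fromSpecStalk s)) r)) : ∃ G : S.Modules, FlatMod.IsFinLocFree G ∧ Nonempty (E ≅ (Scheme.Modules.pullback f).obj G) := by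
  haveI : Coh.IsQCoh E := (Groth.Agent.Coherent.CohBC.isCoh_of_isFinLocFree hE).1
  have hdom : ∀ s : S, IsDomain (S.presheaf.stalk s) := fun s => (hS s).1
  have hgood := Groth.Agent.FreeDescent.good_all f E hdom hE hO fun s => by
    by_cases hd : ringKrullDim (S.presheaf.stalk s) ≤ 1
    · obtain ⟨r, ⟨e⟩⟩ := h1 s hd
      exact Or.inr (Groth.Agent.FreeDescent.good_of_free f E hE s e)
    · haveI := (hS s).1
      haveI := (hS s).2
      refine Or.inl (Groth.Agent.Misc15.DivDescent.regPair_of_depth _ (Groth.Agent.CAlgH3.two_le_depth_of_normal ?_))
      exact Order.succ_le_of_lt (not_le.1 hd)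
  obtain ⟨hG, hc⟩ := Groth.Agent.SurfBl13.finLocFree_and_isIso_counit f hO E hgood
  exact ⟨(Scheme.Modules.pushforward f).obj E, hG,
    ⟨(@asIso _ _ _ _ ((Scheme.Modules.pullbackPushforwardAdjunction f).counit.app E) hc).symm⟩⟩

end Groth.Agent.S8996
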