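import Groth.Statements.S8998
import Groth.Agent.FlatMorDevissage.ImpurityHensel
import Groth.Agent.S1247
import Groth.Agent.S1246
import Groth.Agent.S1248

set_option autoImplicit false
universe u
open FlatMor

namespace Groth.Agent.S8998

/-- For an affine finite type morphism Spec B → Spec A: if the local ring of A at the prime p is
Noetherian, then a finite B-module is pure along the fibre over p if and only if it is universally
pure along it. -/
theorem result {A B : Type u} [CommRing A] [CommRing B] [Algebra A B] [Algebra.FiniteType A B] (N : Type u) [AddCommGroup N] [Module B N] [Module.Finite B N] (p : Ideal A) [p.IsPrime] [IsNoetherianRing (Localization.AtPrime p)] : FlatCA.IsPureAlong A B N p ↔ FlatCA.IsUnivPureAlong A B N p := by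
  open IsLocalRing TensorProduct in
  refine ⟨fun hpure Aa Ba Na _ _ _ _ _ _ _ _ _ _ _ _ _ _ fa t' t _ _ P _ himp => ?_,
    fun hU A' B' N' _ _ _ _ _ _ _ _ _ _ _ _ _ _ f t' t _ _ P _ _ himp => hU A' B' N' f t' t P himp⟩
  let L := Localization.AtPrime p
  let m := maximalIdeal L
  have hm : m.LiesOver p := ⟨(IsLocalization.AtPrime.under_maximalIdeal L p).symm⟩
  obtain ⟨BL, NL, _, _, _, _, _, _, hpo, _, _, _, _, _, _, fL, hfL⟩ :=
    Groth.Agent.FlatMorDevissage.exists_model A L B N
  have := hpo
  have : Algebra.IsPushout A L B BL := hpo.symm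
  have : Algebra.FiniteType L BL :=
    Algebra.FiniteType.equiv (Algebra.FiniteType.baseChange (A := B) L)
      (Algebra.IsPushout.equiv A L B BL)
  have : Module.Finite BL NL := Module.Finite.equiv hfL.equiv
  have : Module.Flat A (Localization.AtPrime m) := Module.Flat.trans A L (Localization.AtPrime m)
  have h1 : FlatCA.HasImpurity L BL NL m (fun _ _ _ _ => True) :=
    Groth.Agent.FlatMorDevissage.exists_impurity_baseChange N p L BL NL fL hfL m
      (fun _ _ _ _ => True) (fun _ _ _ _ => True) (fun _ _ _ _ _ _ _ _ _ _ _ => trivial)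
      ⟨Aa, Ba, Na, inferInstance, inferInstance, inferInstance, inferInstance, inferInstance,
        inferInstance, inferInstance, inferInstance, inferInstance, inferInstance, inferInstance,
        inferInstance, inferInstance, inferInstance, fa, t', t, inferInstance, inferInstance, P,
        inferInstance, himp, trivial⟩
  have h2 := Groth.Agent.S1246.result NL m (Groth.Agent.S1247.result NL m h1)
  let H := Groth.Agent.HenselLib.LocalH L
  have : (maximalIdeal H).LiesOver m := ⟨(maximalIdeal_comap (algebraMap L H)).symm⟩
  have h3 : FlatCA.HasImpurity L BL NL m (fun A' _ _ t => ∃ (_ : IsLocalRing A')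
      (_ : IsLocalHom (algebraMap L A')), Hensel.IsHenselization L A' ∧ t = maximalIdeal A') :=
    Groth.Agent.FlatMorDevissage.ImpurityHensel.hasImpurity_henselian NL m H h2 _
      ⟨inferInstance, inferInstance, Groth.Agent.HenselLib.isHenselization_localH, rfl⟩
  obtain ⟨A₂, B₂, N₂, _, _, _, _, _, _, _, _, _, _, _, _, _, _, f₂, s', s, _, _, P₂, _, himp₂, _, hs⟩ :=
    Groth.Agent.S1248.result N p
      (Groth.Agent.FlatMorDevissage.ImpurityHensel.hasImpurity_trans N p hfL m _
        (fun A' _ _ t => ∃ (_ : IsLocalRing A') (_ : Algebra (Localization.AtPrime p) A')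
          (_ : IsScalarTower A (Localization.AtPrime p) A')
          (_ : IsLocalHom (algebraMap (Localization.AtPrime p) A')),
          Hensel.IsHenselization (Localization.AtPrime p) A' ∧ t = maximalIdeal A')
        (fun C _ _ _ _ t hC => ⟨hC.1, inferInstance, inferInstance, hC.2.1, hC.2.2⟩) h3)
  exact hpure A₂ B₂ N₂ f₂ s' s P₂ hs himp₂

end Groth.Agent.S8998
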