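import Groth.Statements.S8999
import Groth.Agent.FlatMorDevissage.ImpurityClosed

set_option autoImplicit false
universe u
open FlatMor

namespace Groth.Agent.S8999

/-- For affine finite type schemes over Spec A: purity and universal purity along a fibre of a finite
module are unchanged when the module is pushed forward along a closed immersion Spec C → Spec B (a
surjective algebra map B → C). -/
theorem result {A B C : Type u} [CommRing A] [CommRing B] [CommRing C] [Algebra A B] [Algebra B C] [Algebra A C] [IsScalarTower A B C] [Algebra.FiniteType A B] (hBC : Function.Surjective (algebraMap B C)) (N : Type u) [AddCommGroup N] [Module C N] [Module B N] [IsScalarTower B C N] [Module.Finite C N] (p : Ideal A) [p.IsPrime] : (FlatCA.IsPureAlong A C N p ↔ FlatCA.IsPureAlong A B N p) ∧ (FlatCA.IsUnivPureAlong A C N p ↔ FlatCA.IsUnivPureAlong A B N p) := by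
  have : Algebra.FiniteType A C := Algebra.FiniteType.of_surjective (IsScalarTower.toAlgHom A B C) hBC
  have key := fun Q => Groth.Agent.FlatMorDevissage.ImpurityClosed.hasImpurity_iff hBC N p Q
  refine ⟨⟨fun h A' B' N' _ _ _ _ _ _ _ _ _ _ _ _ _ _ f t' t _ _ P _ ht himp => ?_,
      fun h A' B' N' _ _ _ _ _ _ _ _ _ _ _ _ _ _ f t' t _ _ P _ ht himp => ?_⟩,
    ⟨fun h A' B' N' _ _ _ _ _ _ _ _ _ _ _ _ _ _ f t' t _ _ P _ himp => ?_,
      fun h A' B' N' _ _ _ _ _ _ _ _ _ _ _ _ _ _ f t' t _ _ P _ himp => ?_⟩⟩
  · obtain ⟨A₂, B₂, N₂, _, _, _, _, _, _, _, _, _, _, _, _, _, _, f₂, s', s, _, _, P₂, _, h₂, _, hs⟩ :=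
      (key (fun A' _ _ t => ∃ _ : t.IsPrime, FlatCA.IsEtaleNhd A A' p t)).2 ⟨A', B', N', inferInstance,
        inferInstance, inferInstance, inferInstance, inferInstance, inferInstance, inferInstance,
        inferInstance, inferInstance, inferInstance, inferInstance, inferInstance, inferInstance,
        inferInstance, f, t', t, inferInstance, inferInstance, P, inferInstance, himp, inferInstance, ht⟩
    exact h A₂ B₂ N₂ f₂ s' s P₂ hs h₂
  · obtain ⟨A₂, B₂, N₂, _, _, _, _, _, _, _, _, _, _, _, _, _, _, f₂, s', s, _, _, P₂, _, h₂, _, hs⟩ :=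
      (key (fun A' _ _ t => ∃ _ : t.IsPrime, FlatCA.IsEtaleNhd A A' p t)).1 ⟨A', B', N', inferInstance,
        inferInstance, inferInstance, inferInstance, inferInstance, inferInstance, inferInstance,
        inferInstance, inferInstance, inferInstance, inferInstance, inferInstance, inferInstance,
        inferInstance, f, t', t, inferInstance, inferInstance, P, inferInstance, himp, inferInstance, ht⟩
    exact h A₂ B₂ N₂ f₂ s' s P₂ hs h₂
  · obtain ⟨A₂, B₂, N₂, _, _, _, _, _, _, _, _, _, _, _, _, _, _, f₂, s', s, _, _, P₂, _, h₂, -⟩ :=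
      (key (fun _ _ _ _ => True)).2 ⟨A', B', N', inferInstance,
        inferInstance, inferInstance, inferInstance, inferInstance, inferInstance, inferInstance,
        inferInstance, inferInstance, inferInstance, inferInstance, inferInstance, inferInstance,
        inferInstance, f, t', t, inferInstance, inferInstance, P, inferInstance, himp, trivial⟩
    exact h A₂ B₂ N₂ f₂ s' s P₂ h₂
  · obtain ⟨A₂, B₂, N₂, _, _, _, _, _, _, _, _, _, _, _, _, _, _, f₂, s', s, _, _, P₂, _, h₂, -⟩ :=
      (key (fun _ _ _ _ => True)).1 ⟨A', B', N', inferInstance,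
        inferInstance, inferInstance, inferInstance, inferInstance, inferInstance, inferInstance,
        inferInstance, inferInstance, inferInstance, inferInstance, inferInstance, inferInstance,
        inferInstance, f, t', t, inferInstance, inferInstance, P, inferInstance, himp, trivial⟩
    exact h A₂ B₂ N₂ f₂ s' s P₂ h₂

end Groth.Agent.S8999
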