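import Groth.Statements.S9000
import Groth.Agent.FlatMorDevissage.ImpurityHensel

set_option autoImplicit false
universe u
open FlatMor

namespace Groth.Agent.S9000

open IsLocalRing in
/-- For Spec B → Spec A of finite type, a finite B-module N and a prime p of A, an impurity of N above p
over an elementary etale neighbourhood of (A, p) yields an impurity of N above p over the
henselization of the local ring of A at p, based at its closed point. (The other implications of the
published equivalence are separate results: from the henselization to an elementary etale
neighbourhood, and between elementary etale neighbourhoods and base rings quasi-finite at the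
point.) -/
theorem result {A B : Type u} [CommRing A] [CommRing B] [Algebra A B] [Algebra.FiniteType A B] (N : Type u) [AddCommGroup N] [Module B N] [Module.Finite B N] (p : Ideal A) [p.IsPrime] (h : FlatCA.HasImpurity A B N p (fun A' _ _ t => ∃ _ : t.IsPrime, FlatCA.IsEtaleNhd A A' p t)) : FlatCA.HasImpurity A B N p (fun A' _ _ t => ∃ (_ : IsLocalRing A') (_ : Algebra (Localization.AtPrime p) A') (_ : IsScalarTower A (Localization.AtPrime p) A') (_ : IsLocalHom (algebraMap (Localization.AtPrime p) A')), Hensel.IsHenselization (Localization.AtPrime p) A' ∧ t = maximalIdeal A') := by
  let L := Localization.AtPrime p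
  let H := Groth.Agent.HenselLib.LocalH L
  let _ : Algebra A H := ((algebraMap L H).comp (algebraMap A L)).toAlgebra
  have : IsScalarTower A L H := .of_algebraMap_eq' rfl
  have : Module.Flat A H := Module.Flat.trans A L H
  have hr : (maximalIdeal H).LiesOver p := ⟨by
    rw [Ideal.under_def, IsScalarTower.algebraMap_eq A L H, ← Ideal.comap_comap, maximalIdeal_comap]
    exact (IsLocalization.AtPrime.under_maximalIdeal L p).symm⟩
  exact Groth.Agent.FlatMorDevissage.ImpurityHensel.hasImpurity_henselian N p H h _
    ⟨inferInstance, inferInstance, inferInstance, inferInstance,
      Groth.Agent.HenselLib.isHenselization_localH, rfl⟩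

end Groth.Agent.S9000
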