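import Groth.Statements.S9001
import Groth.Agent.S0589
-- import your own Groth.Agent.* helpers here

set_option autoImplicit false
universe u
open FlatMor

namespace Groth.Agent.S9001

open IsLocalRing TensorProduct in
theorem endo_eq_zero_imp {R : Type u} [CommRing R] [HenselianLocalRing R] {N : Type u} [AddCommGroup N] [Module R N]
    (hcg : CAlg.IsCountablyGenerated R N) (hML : CAlg.IsMittagLeffler R N) (M : Type u) [AddCommGroup M]
    [Module R M] (φ : N →ₗ[R] N) (hφ : ∀ n, φ n - n ∈ maximalIdeal R • (⊤ : Submodule R N))
    (x : N ⊗[R] M) (hx : φ.rTensor M x = 0) : x = 0 := by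
  classical
  obtain ⟨ι, Ns, hint, hfp⟩ := Groth.Agent.S0589.result R N hcg hML
  let e : (DirectSum ι fun i => Ns i) ≃ₗ[R] N := LinearEquiv.ofBijective (DirectSum.coeLinearMap Ns) hint
  let j : (s : Finset ι) → ((i : s) → Ns i) →ₗ[R] N := fun s => ∑ i : s, (Ns i).subtype ∘ₗ LinearMap.proj i
  let p : (s : Finset ι) → N →ₗ[R] ((i : s) → Ns i) := fun s =>
    LinearMap.pi fun i => (DirectSum.component R ι (fun i => Ns i) i) ∘ₗ e.symm.toLinearMap
  have hje : ∀ (i : ι) (v : Ns i), e (DirectSum.lof R ι (fun i => Ns i) i v) = (v : N) := fun i v =>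
    DirectSum.coeLinearMap_of Ns i v
  have hpj : ∀ (s : Finset ι) (y : (i : s) → Ns i), p s (j s y) = y := by
    intro s y
    funext i
    have : e.symm (j s y) = ∑ l : s, DirectSum.lof R ι (fun i => Ns i) l (y l) := by
      apply e.injective
      rw [LinearEquiv.apply_symm_apply, map_sum]
      simp only [hje]
      simp [j, LinearMap.sum_apply]
    simp only [p, LinearMap.pi_apply, LinearMap.comp_apply, LinearEquiv.coe_coe, this, map_sum]
    rw [Finset.sum_eq_single i]
    · rw [DirectSum.component.lof_self]
    · intro l _ hl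
      rw [DirectSum.component.of, dif_neg]
      exact fun h => hl (Subtype.ext h)
    · simp
  have hfix : ∀ z : N ⊗[R] M, ∃ s : Finset ι, ∀ s', s ⊆ s' → (j s' ∘ₗ p s').rTensor M z = z := by
    intro z
    induction z using TensorProduct.induction_on with
    | zero => exact ⟨∅, fun s' _ => map_zero _⟩
    | add a b ha hb =>
      obtain ⟨s, hs⟩ := ha; obtain ⟨t, ht⟩ := hb
      exact ⟨s ∪ t, fun s' h' => by rw [map_add, hs s' (Finset.union_subset_left h'), ht s' (Finset.union_subset_right h')]⟩
    | tmul n m =>
      refine ⟨DFinsupp.support (e.symm n), fun s' h' => ?_⟩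
      rw [LinearMap.rTensor_tmul]
      congr 1
      calc (j s' ∘ₗ p s') n = ∑ i : s', ((e.symm n) (i : ι) : N) := by
            simp [j, p, DirectSum.component]
            rfl
        _ = ∑ i ∈ s', ((e.symm n) i : N) := Finset.sum_coe_sort s' fun i => ((e.symm n) i : N)
        _ = ∑ i ∈ DFinsupp.support (e.symm n), ((e.symm n) i : N) := by
            refine (Finset.sum_subset h' fun i _ hi => ?_).symm
            rw [DFinsupp.notMem_support_iff.mp hi]; rfl
        _ = DirectSum.coeLinearMap Ns (e.symm n) := by
            rw [DirectSum.coeLinearMap_eq_dfinsuppSum, DFinsupp.sum]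
        _ = n := e.apply_symm_apply n
  obtain ⟨s, hs⟩ := hfix x
  have hxs := hs s subset_rfl
  let ψ : ((i : s) → Ns i) →ₗ[R] ((i : s) → Ns i) := p s ∘ₗ φ ∘ₗ j s
  haveI : ∀ i : s, Module.Finite R (Ns i) := fun i => haveI := hfp i; inferInstance
  have hsurj : Function.Surjective ψ := by
    rw [← LinearMap.range_eq_top, eq_top_iff]
    refine Submodule.le_of_le_smul_of_le_jacobson_bot (I := maximalIdeal R) Module.Finite.fg_top
      (IsLocalRing.maximalIdeal_le_jacobson _) ?_
    intro y _
    have h1 : ψ y - y ∈ maximalIdeal R • (⊤ : Submodule R ((i : s) → Ns i)) := by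
      have h2 := Submodule.mem_map_of_mem (f := p s) (hφ (j s y))
      rw [Submodule.map_smul''] at h2
      rw [map_sub, hpj] at h2
      exact Submodule.smul_mono le_rfl le_top h2
    have : y = ψ y + -(ψ y - y) := by abel
    rw [this]
    exact Submodule.add_mem_sup ⟨y, rfl⟩ (neg_mem h1)
  have hinj : Function.Injective ψ := OrzechProperty.injective_of_surjective_endomorphism ψ hsurj
  let E := LinearEquiv.ofBijective ψ ⟨hinj, hsurj⟩
  have key : ψ.rTensor M ((p s).rTensor M x) = 0 := by
    have : ψ.rTensor M ((p s).rTensor M x) = (p s).rTensor M (φ.rTensor M ((j s ∘ₗ p s).rTensor M x)) := by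
      simp only [← LinearMap.rTensor_comp_apply]
      rfl
    rw [this, hxs, hx, map_zero]
  have : (p s).rTensor M x = 0 := by
    have h4 : E.symm.toLinearMap ∘ₗ ψ = LinearMap.id := LinearMap.ext fun y => E.symm_apply_apply y
    have h3 : (E.symm.toLinearMap ∘ₗ ψ).rTensor M ((p s).rTensor M x) = 0 := by
      rw [LinearMap.rTensor_comp_apply, key, map_zero]
    rwa [h4, LinearMap.rTensor_id, LinearMap.id_apply] at h3
  rw [← hxs, LinearMap.rTensor_comp_apply, this, map_zero]

open IsLocalRing TensorProduct in
theorem smul_eq_zero_imp {R S : Type u} [CommRing R] [HenselianLocalRing R] [CommRing S] [Algebra R S] {N : Type u}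
    [AddCommGroup N] [Module S N] [Module R N] [IsScalarTower R S N] (hcg : CAlg.IsCountablyGenerated R N)
    (hML : CAlg.IsMittagLeffler R N) (M : Type u) [AddCommGroup M] [Module R M] (h : S)
    (hh : h - 1 ∈ (maximalIdeal R).map (algebraMap R S)) (x : N ⊗[R] M) (hx : h • x = 0) : x = 0 := by
  refine endo_eq_zero_imp hcg hML M (Algebra.lsmul R R N h) ?_ x ?_
  · intro n
    have key : ∀ a ∈ (maximalIdeal R).map (algebraMap R S), ∀ n : N, a • n ∈ maximalIdeal R • (⊤ : Submodule R N) := by
      intro a ha
      induction ha using Submodule.span_induction with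
      | mem a ha =>
        obtain ⟨r, hr, rfl⟩ := ha
        intro n
        rw [algebraMap_smul]
        exact Submodule.smul_mem_smul hr trivial
      | zero => intro n; rw [zero_smul]; exact zero_mem _
      | add a b _ _ ha hb => intro n; rw [add_smul]; exact add_mem (ha n) (hb n)
      | smul c a _ ha => intro n; rw [smul_eq_mul, mul_comm, mul_smul]; exact ha _
    simpa [sub_smul] using key _ hh n
  · rw [← hx]
    clear hx
    induction x using TensorProduct.induction_on with
    | zero => simp
    | tmul n m => rw [LinearMap.rTensor_tmul, TensorProduct.smul_tmul', Algebra.lsmul_coe]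
    | add a b ha hb => rw [map_add, smul_add, ha, hb]

open IsLocalRing TensorProduct in
/-- Over a henselian local ring R with maximal ideal m, for an R-algebra S and an S-module N which is
countably generated and Mittag-Leffler as an R-module, every associated prime q of the S-module N
⊗_R M (M any R-module) satisfies q + mS ≠ S. (Associated primes are taken here in the sense of
primes equal to the radical of the annihilator of some element, a larger set than the annihilators
of elements used in the published statement; the published argument goes through once the chosen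
element of q is replaced by a suitable power of it, so the row states this slightly stronger form.) -/
theorem result {R S : Type u} [CommRing R] [HenselianLocalRing R] [CommRing S] [Algebra R S] (N : Type u) [AddCommGroup N] [Module S N] [Module R N] [IsScalarTower R S N] (hcg : CAlg.IsCountablyGenerated R N) (hML : CAlg.IsMittagLeffler R N) (M : Type u) [AddCommGroup M] [Module R M] (q : Ideal S) [q.IsPrime] (hq : q ∈ associatedPrimes S (N ⊗[R] M)) : q ⊔ (maximalIdeal R).map (algebraMap R S) ≠ ⊤ := by
  classical
  obtain ⟨hp, x, hx⟩ := hq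
  have hx0 : x ≠ 0 := by
    rintro rfl
    apply hp.ne_top
    rw [hx, Ideal.radical_eq_top, eq_top_iff]
    intro a _
    rw [Submodule.mem_colon]
    intro y hy
    rw [Set.mem_singleton_iff.mp hy, smul_zero]
    exact zero_mem _
  intro htop
  obtain ⟨g, hg, a, ha, hga⟩ := Submodule.mem_sup.mp (htop.symm ▸ Submodule.mem_top : (1 : S) ∈ q ⊔ (maximalIdeal R).map (algebraMap R S))
  rw [hx] at hg
  obtain ⟨n, hn⟩ := hg
  have hgn : g ^ n • x = 0 := by
    have := Submodule.mem_colon.mp hn x rfl
    rwa [Submodule.mem_bot] at this
  have hh : g ^ n - 1 ∈ (maximalIdeal R).map (algebraMap R S) := by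
    obtain ⟨c, hc⟩ := sub_one_dvd_pow_sub_one g n
    rw [hc]
    refine Ideal.mul_mem_right _ _ ?_
    have : g - 1 = -a := by rw [← hga]; ring
    rw [this]; exact neg_mem ha
  exact hx0 (smul_eq_zero_imp hcg hML M (g ^ n) hh x hgn)

end Groth.Agent.S9001
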