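import Groth.Statements.S9002
import Groth.Agent.FlatMorAssOpen.FlatSpec
import Groth.Agent.FlatMorDevissage.FlatAssFibre
-- import your own Groth.Agent.* helpers here

set_option autoImplicit false
universe u
open FlatMor

namespace Groth.Agent.S9002

open CategoryTheory CategoryTheory.Limits AlgebraicGeometry in
set_option linter.unusedVariables false
set_option backward.isDefEq.respectTransparency false
set_option maxHeartbeats 1600000
set_option synthInstance.maxHeartbeats 400000

attribute [local instance] Algebra.TensorProduct.rightAlgebra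

open TensorProduct in
theorem ass_localized {A B N : Type u} [CommRing A] [CommRing B] [Algebra A B] [AddCommGroup N] [Module B N]
    (p : Ideal A) [p.IsPrime] (q : Ideal B) (Q : PrimeSpectrum (p.Fiber B))
    (hQ : Q.asIdeal.comap (algebraMap B (p.Fiber B)) = q)
    (h : FlatCA.fiberIdeal p q ∈ associatedPrimes (p.Fiber B) (FlatCA.fiberMod p B N)) :
    IsLocalRing.maximalIdeal (Localization.AtPrime Q.asIdeal) ∈
      associatedPrimes (Localization.AtPrime Q.asIdeal) (Localization.AtPrime Q.asIdeal ⊗[B] N) := by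
  subst hQ
  haveI := Q.2
  rw [(Groth.Agent.FlatMorDevissage.fiberPrime_spec p Q.asIdeal).2] at h
  let C := p.Fiber B
  let L := Localization.AtPrime Q.asIdeal
  let f : C ⊗[B] N →ₗ[C] L ⊗[C] (C ⊗[B] N) := TensorProduct.mk C L (C ⊗[B] N) 1
  haveI : IsLocalizedModule Q.asIdeal.primeCompl f :=
    (isLocalizedModule_iff_isBaseChange Q.asIdeal.primeCompl L f).2 (TensorProduct.isBaseChange C (C ⊗[B] N) L)
  have h' : IsLocalRing.maximalIdeal L ∈ associatedPrimes L (L ⊗[C] (C ⊗[B] N)) := by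
    refine Module.associatedPrimes.mem_associatedPrimes_of_comap_mem_associatedPrimes_of_isLocalizedModule
      (R' := L) (M := C ⊗[B] N) (M' := L ⊗[C] (C ⊗[B] N)) Q.asIdeal.primeCompl f _ ?_
    rw [show Ideal.comap (algebraMap (p.Fiber B) L) (IsLocalRing.maximalIdeal L) = Q.asIdeal from
      IsLocalization.AtPrime.comap_maximalIdeal L Q.asIdeal]
    exact h
  exact (LinearEquiv.isAssociatedPrime_iff
    (TensorProduct.AlgebraTensorModule.cancelBaseChange B C L L N)).1 h'

open AlgebraicGeometry CategoryTheory Groth.Agent in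
theorem flatAt_gen {X S : Scheme.{u}} [IsAffine S] (f : X ⟶ S) (F : X.Modules) [Coh.IsQCoh F] {w x : X}
    (hwx : w ⤳ x) (hx : FlatMod.IsFlatOverAt f F x) : FlatMod.IsFlatOverAt f F w := by
  obtain ⟨U, hU, hxU, -⟩ := exists_isAffineOpen_mem_and_subset (x := x) (U := ⊤) trivial
  have hwU : w ∈ U := hwx.mem_open U.isOpen hxU
  have e : U ≤ f ⁻¹ᵁ ⊤ := le_top
  let _ := (f.appLE ⊤ U e).hom.toAlgebra
  let _ := EGA43.QcohFlat.overModule f F ⊤ U e
  have : IsScalarTower Γ(S, ⊤) Γ(X, U) Γ(F, U) := IsScalarTower.of_algebraMap_smul fun _ _ => rfl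
  refine (EGA43.QcohFlat.isFlatOverAt_iff f F (isAffineOpen_top S) hU e hwU).2 ?_
  refine FlatMorDevissage.flatAt_of_le ?_ ((EGA43.QcohFlat.isFlatOverAt_iff f F (isAffineOpen_top S) hU e hxU).1 hx)
  refine (PrimeSpectrum.le_iff_specializes _ _).2 ?_
  refine (hU.fromSpec.isOpenEmbedding.isEmbedding.isInducing.specializes_iff).1 ?_
  erw [hU.fromSpec_primeIdealOf, hU.fromSpec_primeIdealOf]
  exact hwx

open AlgebraicGeometry CategoryTheory TensorProduct
/-- Over the spectrum of a local ring, a finite type quasi-coherent module on a scheme locally of finite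
type, all of whose relative associated points specialize into the closed fibre and which is flat
over the base at every point of the closed fibre, is flat over the base. -/
theorem result {R : Type u} [CommRing R] [IsLocalRing R] {X : Scheme.{u}} (f : X ⟶ Spec (CommRingCat.of R)) [LocallyOfFiniteType f] (F : X.Modules) [Coh.IsQCoh F] (hF : CohB1.IsFT F) (h₁ : ∀ x ∈ MoreMor.relAss f F, ∃ x' : X, x ⤳ x' ∧ f.base x' = IsLocalRing.closedPoint R) (h₂ : ∀ x : X, f.base x = IsLocalRing.closedPoint R → FlatMod.IsFlatOverAt f F x) : FlatMod.IsFlatOver f F := by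
  intro x
  obtain ⟨U, hU, hxU, -⟩ := exists_isAffineOpen_mem_and_subset (x := x) (U := ⊤) trivial
  have e : U ≤ f ⁻¹ᵁ ⊤ := le_top
  have hV := isAffineOpen_top (Spec (CommRingCat.of R))
  let A := Γ(Spec (CommRingCat.of R), ⊤)
  let B := Γ(X, U)
  let _ := (f.appLE ⊤ U e).hom.toAlgebra
  let _ := Groth.Agent.EGA43.QcohFlat.overModule f F ⊤ U e
  have : IsScalarTower A B Γ(F, U) := IsScalarTower.of_algebraMap_smul fun _ _ => rfl
  have : Algebra.FiniteType A B := LocallyOfFiniteType.finiteType_appLE f hV hU e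
  have hfinB : Module.Finite B Γ(F, U) := Groth.Agent.H8Lim.finite_sections_of_isFT (M := F) hF hU
  refine (Groth.Agent.EGA43.QcohFlat.isFlatOverAt_iff f F hV hU e hxU).2 ?_
  let q := (hU.primeIdealOf ⟨x, hxU⟩).asIdeal
  have : q.IsPrime := (hU.primeIdealOf ⟨x, hxU⟩).2
  have : q.LiesOver (q.comap (algebraMap A B)) := ⟨rfl⟩
  refine Groth.Agent.FlatMorDevissage.flatAt_of_assFibre (q.comap (algebraMap A B)) q fun q' _ hle hover hass => ?_
  let w := hU.fromSpec ⟨q', inferInstance⟩
  have hwU : w ∈ U := hU.range_fromSpec.le ⟨_, rfl⟩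
  have hwq : hU.primeIdealOf ⟨w, hwU⟩ = ⟨q', inferInstance⟩ :=
    hU.fromSpec.isOpenEmbedding.injective (hU.fromSpec_primeIdealOf _)
  have hflatw : FlatMod.IsFlatOverAt f F w → FlatCA.FlatAt A q' Γ(F, U) := fun hw => by
    have h3 := (Groth.Agent.EGA43.QcohFlat.isFlatOverAt_iff f F hV hU e hwU).1 hw
    rw [hwq] at h3
    exact h3
  apply hflatw
  suffices hrel : w ∈ MoreMor.relAss f F by
    obtain ⟨x', hwx', hx'⟩ := h₁ w hrel
    exact flatAt_gen f F hwx' (h₂ x' hx')
  obtain ⟨z, hz⟩ : w ∈ Set.range (f.fiberι (f w)) := by rw [Scheme.Hom.range_fiberι]; rfl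
  have hzU : f.fiberι (f w) z ∈ U := by rw [hz]; exact hwU
  have hfinB' : letI := Module.compHom Γ(F, U) (RingHom.id B); Module.Finite B Γ(F, U) := hfinB
  obtain ⟨Q, hQ, hdepth, hdim, -⟩ := Groth.Agent.EGA43.FibDepth.exists_fibre_point f F hV hU e
    (RingHom.id B) Function.surjective_id (RingHom.id_comp _) hfinB' (f w) z hzU
  have hqz : (hU.primeIdealOf ⟨f.fiberι (f w) z, hzU⟩).asIdeal = q' := by
    rw [show (⟨f.fiberι (f w) z, hzU⟩ : U) = ⟨w, hwU⟩ from Subtype.ext hz, hwq]
  have hcast : ∀ (p₀ : Ideal A) [p₀.IsPrime] (q₀ : Ideal B), q₀ = q' → p₀ = q.comap (algebraMap A B) →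
      FlatCA.fiberIdeal p₀ q₀ ∈ associatedPrimes (p₀.Fiber B) (FlatCA.fiberMod p₀ B Γ(F, U)) := by
    intro p₀ _ q₀ e1 e2
    subst e1 e2
    exact hass
  have hq0 : (PrimeSpectrum.comap (RingHom.id B) (hU.primeIdealOf ⟨f.fiberι (f w) z, hzU⟩)).asIdeal = q' :=
    hqz
  have hp0 : (PrimeSpectrum.comap (RingHom.id B) (hU.primeIdealOf ⟨f.fiberι (f w) z, hzU⟩)).asIdeal.comap
      (algebraMap A B) = q.comap (algebraMap A B) := by
    rw [hq0]; exact hover.over.symm
  have hm := ass_localized (N := Γ(F, U)) _ _ Q (congrArg PrimeSpectrum.asIdeal hQ) (hcast _ _ hq0 hp0)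
  have hfibN := Groth.Agent.FlatMor12.RelAssBC.isLocallyNoetherian_fiber f (f w)
  rw [← hz, Groth.Agent.FlatMorAssOpen.mem_relAss_iff f F (f w) z]
  have : Coh.IsQCoh ((Scheme.Modules.pullback (f.fiberι (f w))).obj F) :=
    Groth.Agent.EGA43.InjFibre.isQCoh_pullback _ F
  have : Module.Finite ((f.fiber (f w)).presheaf.stalk z)
      (((Scheme.Modules.pullback (f.fiberι (f w))).obj F).presheaf.stalk z) :=
    Groth.Agent.FlatMor12.IsoLocusMod.finite_stalk (Groth.Agent.Coherent.isFT_pullback_qcoh _ inferInstance hF) z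
  have : Nontrivial (((Scheme.Modules.pullback (f.fiberι (f w))).obj F).presheaf.stalk z) := by
    rw [← Module.supportDim_ne_bot_iff_nontrivial ((f.fiber (f w)).presheaf.stalk z), hdim,
      Module.supportDim_ne_bot_iff_nontrivial]
    rcases subsingleton_or_nontrivial (Localization.AtPrime Q.asIdeal ⊗[Γ(X, U)] Γ(F, U)) with hn | hn
    · rw [associatedPrimes.eq_empty_of_subsingleton] at hm
      exact hm.elim
    · exact hn
  show IsLocalRing.maximalIdeal _ ∈ associatedPrimes _ _
  rw [← Groth.Agent.CAlgH3.depth_eq_zero_iff, hdepth]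
  have hn : Nontrivial (Localization.AtPrime Q.asIdeal ⊗[Γ(X, U)] Γ(F, U)) := by
    rcases subsingleton_or_nontrivial (Localization.AtPrime Q.asIdeal ⊗[Γ(X, U)] Γ(F, U)) with hn | hn
    · rw [associatedPrimes.eq_empty_of_subsingleton] at hm
      exact hm.elim
    · exact hn
  have : IsNoetherianRing (((PrimeSpectrum.comap (RingHom.id B) (hU.primeIdealOf ⟨f.fiberι (f w) z, hzU⟩)).asIdeal.comap
      (algebraMap A B)).Fiber B) := Algebra.FiniteType.isNoetherianRing (Ideal.ResidueField ((PrimeSpectrum.comap (RingHom.id B) (hU.primeIdealOf ⟨f.fiberι (f w) z, hzU⟩)).asIdeal.comap (algebraMap A B))) _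
  have : IsNoetherianRing (Localization.AtPrime Q.asIdeal) :=
    IsLocalization.isNoetherianRing Q.asIdeal.primeCompl _ inferInstance
  exact (Groth.Agent.CAlgH3.depth_eq_zero_iff).2 hm

end Groth.Agent.S9002
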