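import Groth.Statements.S9007
import Mathlib.AlgebraicGeometry.Morphisms.Separated
import Mathlib.AlgebraicGeometry.Morphisms.ClosedImmersion

set_option autoImplicit false
universe u
open FlatMor

namespace Groth.Agent.S9007

open CategoryTheory CategoryTheory.Limits AlgebraicGeometry in
/-- For a morphism f of compactifications of X over a quasi-compact quasi-separated S whose source
contains X as a dense open, the preimage under f of the image of X in the target is the image of X
in the source. -/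
theorem result {X S : Scheme.{u}} [CompactSpace S] [QuasiSeparatedSpace S] (p : X ⟶ S) [IsSeparated p] [QuasiCompact p] [LocallyOfFiniteType p] {Y Y' : Scheme.{u}} (j : X ⟶ Y) (q : Y ⟶ S) [IsOpenImmersion j] [IsProper q] (h : j ≫ q = p) (j' : X ⟶ Y') (q' : Y' ⟶ S) [IsOpenImmersion j'] [IsProper q'] (h' : j' ≫ q' = p) (f : Y' ⟶ Y) (hf : f ≫ q = q') (hfj : j' ≫ f = j) (hd : Dense (Set.range j'.base)) : f ⁻¹ᵁ j.opensRange = j'.opensRange := by
  haveI : IsSeparated (f ≫ q) := by rw [hf]; infer_instance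
  haveI : IsSeparated f := IsSeparated.of_comp f q
  let V := f ⁻¹ᵁ j.opensRange
  have hj'V : Set.range j' ⊆ Set.range V.ι := by
    rintro _ ⟨x, rfl⟩
    rw [Scheme.Opens.range_ι]
    exact ⟨x, by rw [← Scheme.Hom.comp_apply, hfj]⟩
  let k : X ⟶ V.toScheme := IsOpenImmersion.lift V.ι j' hj'V
  have hr : Set.range (V.ι ≫ f) ⊆ Set.range j := by
    rintro _ ⟨⟨v, hv⟩, rfl⟩
    exact hv
  let r : V.toScheme ⟶ X := IsOpenImmersion.lift j (V.ι ≫ f) hr
  have hkr : k ≫ r = 𝟙 X := by
    rw [← cancel_mono j, Category.assoc, IsOpenImmersion.lift_fac, IsOpenImmersion.lift_fac_assoc, hfj,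
      Category.id_comp]
  haveI : IsSeparated (r ≫ j) := by rw [IsOpenImmersion.lift_fac]; infer_instance
  haveI : IsSeparated r := IsSeparated.of_comp r j
  haveI : IsClosedImmersion (k ≫ r) := by rw [hkr]; infer_instance
  haveI : IsClosedImmersion k := IsClosedImmersion.of_comp k r
  refine le_antisymm (fun v hv => ?_) (fun v hv => by
    obtain ⟨x, rfl⟩ := hv
    exact ⟨x, by rw [← Scheme.Hom.comp_apply, hfj]⟩)
  by_contra hv'
  let W : V.toScheme.Opens := ⟨(Set.range k)ᶜ, k.isClosedEmbedding.isClosed_range.isOpen_compl⟩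
  obtain ⟨_, hw, ⟨x, rfl⟩⟩ := hd.inter_open_nonempty (V.ι '' (W : Set V.toScheme))
    (V.ι.isOpenEmbedding.isOpenMap _ W.2) ⟨v, ⟨v, hv⟩, fun hk => hv' (by
      obtain ⟨x, hx⟩ := hk
      exact ⟨x, by rw [← IsOpenImmersion.lift_fac V.ι j' hj'V, Scheme.Hom.comp_apply]; exact congrArg V.ι hx⟩), rfl⟩
  obtain ⟨w, hwW, hwx⟩ := hw
  refine hwW ⟨x, V.ι.isOpenEmbedding.injective ?_⟩
  rw [hwx, ← Scheme.Hom.comp_apply, IsOpenImmersion.lift_fac]

end Groth.Agent.S9007
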