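import Groth.Statements.S9008
import Groth.Agent.FlatMorDevissage.ImpurityHensel
import Groth.Agent.FlatMorDevissage.QFPure

set_option autoImplicit false
universe u
open FlatMor

namespace Groth.Agent.S9008

/-- For Spec B → Spec A affine of finite type: a finite B-module is universally pure along the fibre
over a prime p of A exactly when every base change of it along a ring map A → A' is pure along the
fibre over every prime of A' above p. -/
theorem result {A B : Type u} [CommRing A] [CommRing B] [Algebra A B] [Algebra.FiniteType A B] (N : Type u) [AddCommGroup N] [Module B N] [Module.Finite B N] (p : Ideal A) [p.IsPrime] : FlatCA.IsUnivPureAlong A B N p ↔ ∀ (A' B' N' : Type u) [CommRing A'] [CommRing B'] [Algebra A A'] [Algebra B B'] [Algebra A' B'] [Algebra A B'] [IsScalarTower A B B'] [IsScalarTower A A' B'] [Algebra.IsPushout A B A' B'] [AddCommGroup N'] [Module B' N'] [Module B N'] [IsScalarTower B B' N'] (g : N →ₗ[B] N'), IsBaseChange B' g → ∀ (p' : Ideal A') [p'.IsPrime], p'.LiesOver p → FlatCA.IsPureAlong A' B' N' p' := by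
  refine ⟨fun h A' B' N' _ _ _ _ _ _ _ _ _ _ _ _ _ g hg p' _ hp' => ?_,
    fun h A' B' N' _ _ _ _ _ _ _ _ _ _ _ _ _ _ f t' t _ _ P _ himp => ?_⟩
  · intro Aa Ba Na _ _ _ _ _ _ _ _ _ _ _ _ _ _ fa t' t _ _ P _ _ himp
    obtain ⟨A₂, B₂, N₂, _, _, _, _, _, _, _, _, _, _, _, _, _, _, f₂, s', s, _, _, P₂, _, himp₂, -⟩ :=
      Groth.Agent.FlatMorDevissage.ImpurityHensel.hasImpurity_trans N p hg p' (fun _ _ _ _ => True)
        (fun _ _ _ _ => True) (fun _ _ _ _ _ _ _ => trivial)
        ⟨Aa, Ba, Na, inferInstance, inferInstance, inferInstance, inferInstance, inferInstance,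
          inferInstance, inferInstance, inferInstance, inferInstance, inferInstance, inferInstance,
          inferInstance, inferInstance, inferInstance, fa, t', t, inferInstance, inferInstance, P,
          inferInstance, himp, trivial⟩
    exact h A₂ B₂ N₂ f₂ s' s P₂ himp₂
  · obtain ⟨hpo, hf, htt, htp, hover, hass, hno⟩ := himp
    have := hpo
    exact h A' B' N' f hf t htp A' B' N' LinearMap.id t' t P
      (Groth.Agent.FlatMorDevissage.QFPure.isEtaleNhd_self t)
      ⟨inferInstance, IsBaseChange.ofEquiv (LinearEquiv.refl B' N'), htt, ⟨(Ideal.comap_id t).symm⟩,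
        hover, hass, hno⟩

end Groth.Agent.S9008
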