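import Groth.Statements.S9009
import Groth.Agent.FlatMorAssOpen.FlatSpec
import Groth.Agent.FlatMorDevissage.FlatAssFibre
import Groth.Agent.DimLib.Components
import Groth.Agent.FlatMor12.ResTrdeg
-- import your own Groth.Agent.* helpers here

set_option autoImplicit false
universe u
open FlatMor

namespace Groth.Agent.S9009

open CategoryTheory CategoryTheory.Limits AlgebraicGeometry in
set_option linter.unusedVariables false
set_option backward.isDefEq.respectTransparency false
set_option maxHeartbeats 1600000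
set_option synthInstance.maxHeartbeats 400000

attribute [local instance] Algebra.TensorProduct.rightAlgebra

theorem iSup_natCast_lt_iff {ι : Type*} (g : ι → ℕ) (n : ℕ) :
    (⨆ i, (g i : WithBot ℕ∞)) < (n : WithBot ℕ∞) ↔ ∀ i, g i < n := by
  refine ⟨fun h i => by exact_mod_cast (le_iSup (fun i => (g i : WithBot ℕ∞)) i).trans_lt h, fun h => ?_⟩
  rcases n with _ | m
  · have : IsEmpty ι := ⟨fun i => Nat.not_lt_zero _ (h i)⟩
    rw [iSup_of_empty]
    exact WithBot.bot_lt_coe _
  · refine lt_of_le_of_lt (iSup_le fun i => ?_) (show (m : WithBot ℕ∞) < ((m + 1 : ℕ) : WithBot ℕ∞) by exact_mod_cast Nat.lt_succ_self m)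
    exact_mod_cast Nat.le_of_lt_succ (h i)

open AlgebraicGeometry CategoryTheory Groth.Agent in
theorem isClosed_nonflat_fibre {X S : Scheme.{u}} (f : X ⟶ S) [LocallyOfFiniteType f] (F : X.Modules)
    [Coh.IsQCoh F] (hF : CohB1.IsFT F) (s : S) :
    IsClosed {z : f.fiber s | ¬ FlatMod.IsFlatOverAt f F (f.fiberι s z)} := by
  rw [← isOpen_compl_iff, isOpen_iff_forall_mem_open]
  intro z hz
  simp only [Set.mem_compl_iff, Set.mem_setOf_eq, not_not] at hz
  have hfz : f (f.fiberι s z) = s := (f.range_fiberι s).le ⟨z, rfl⟩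
  obtain ⟨V, hV, hsV, -⟩ := exists_isAffineOpen_mem_and_subset (x := s) (U := ⊤) trivial
  obtain ⟨U, hU, hzU, e⟩ := exists_isAffineOpen_mem_and_subset (x := f.fiberι s z) (U := f ⁻¹ᵁ V)
    (show f (f.fiberι s z) ∈ V by rw [hfz]; exact hsV)
  have e : U ≤ f ⁻¹ᵁ V := e
  let A := Γ(S, V)
  let B := Γ(X, U)
  let _ := (f.appLE V U e).hom.toAlgebra
  let _ := EGA43.QcohFlat.overModule f F V U e
  have : IsScalarTower A B Γ(F, U) := IsScalarTower.of_algebraMap_smul fun _ _ => rfl
  have : Algebra.FiniteType A B := LocallyOfFiniteType.finiteType_appLE f hV hU e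
  have : Module.Finite B Γ(F, U) := H8Lim.finite_sections_of_isFT (M := F) hF hU
  let p : Ideal A := (hV.primeIdealOf ⟨s, hsV⟩).asIdeal
  have : p.IsPrime := (hV.primeIdealOf ⟨s, hsV⟩).2
  have hover : ∀ (w : f.fiber s) (hw : f.fiberι s w ∈ U),
      (hU.primeIdealOf ⟨f.fiberι s w, hw⟩).asIdeal.LiesOver p := fun w hw => by
    refine ⟨?_⟩
    show p = ((hU.primeIdealOf ⟨f.fiberι s w, hw⟩).asIdeal).comap (f.appLE V U e).hom
    rw [EGA43.FibDepth.comap_primeIdealOf f hV hU e hw]
    exact congrArg (fun w => (hV.primeIdealOf w).asIdeal)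
      (Subtype.ext ((f.range_fiberι s).le ⟨w, rfl⟩ : f (f.fiberι s w) = s).symm)
  have : IsNoetherianRing (p.Fiber B) := Algebra.FiniteType.isNoetherianRing p.ResidueField _
  have : Module.Finite (p.Fiber B) (FlatCA.fiberMod p B Γ(F, U)) :=
    inferInstanceAs (Module.Finite (p.Fiber B) (TensorProduct B (p.Fiber B) Γ(F, U)))
  let bad : Set (Ideal (p.Fiber B)) := {P | P ∈ associatedPrimes (p.Fiber B) (FlatCA.fiberMod p B Γ(F, U)) ∧
    ∀ [(P.comap (algebraMap B (p.Fiber B))).IsPrime],
      ¬ FlatCA.FlatAt A (P.comap (algebraMap B (p.Fiber B))) Γ(F, U)}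
  have hbad : bad.Finite := (associatedPrimes.finite _ _).subset fun P h => h.1
  let Zs : Set (PrimeSpectrum B) := ⋃ P ∈ bad, PrimeSpectrum.zeroLocus (P.comap (algebraMap B (p.Fiber B)) : Set B)
  have hZs : IsClosed Zs := hbad.isClosed_biUnion fun P _ => PrimeSpectrum.isClosed_zeroLocus _
  refine ⟨(f.fiberι s) ⁻¹' (hU.fromSpec '' Zsᶜ), ?_,
    (hU.fromSpec.isOpenEmbedding.isOpenMap _ hZs.isOpen_compl).preimage (f.fiberι s).continuous, ?_⟩
  · rintro w ⟨q, hq, hqw⟩
    have hwU : f.fiberι s w ∈ U := hqw ▸ hU.range_fromSpec.le ⟨q, rfl⟩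
    have hqp : hU.primeIdealOf ⟨f.fiberι s w, hwU⟩ = q :=
      hU.fromSpec.isOpenEmbedding.injective ((hU.fromSpec_primeIdealOf _).trans hqw.symm)
    simp only [Set.mem_compl_iff, Set.mem_setOf_eq, not_not]
    refine (EGA43.QcohFlat.isFlatOverAt_iff f F hV hU e hwU).2 ?_
    have := (hU.primeIdealOf ⟨f.fiberι s w, hwU⟩).2
    have := hover w hwU
    refine FlatMorDevissage.flatAt_of_assFibre p (hU.primeIdealOf ⟨f.fiberι s w, hwU⟩).asIdeal
      fun q' _ hle hov hass => ?_
    by_contra hnf
    have : q'.LiesOver p := hov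
    have hcq := FlatMorDevissage.comap_fiberIdeal p q'
    refine hq (Set.mem_biUnion (x := FlatCA.fiberIdeal p q') ⟨hass, ?_⟩ ?_)
    · have key : ∀ (a : Ideal B) [a.IsPrime], a = q' → ¬ FlatCA.FlatAt A a Γ(F, U) := by
        intro a _ ha; subst ha; exact hnf
      intro _
      exact key _ hcq
    · rw [hcq, PrimeSpectrum.mem_zeroLocus, ← hqp]
      exact hle
  · refine ⟨hU.primeIdealOf ⟨f.fiberι s z, hzU⟩, fun h => ?_, hU.fromSpec_primeIdealOf _⟩
    obtain ⟨P, hP, hPz⟩ := Set.mem_iUnion₂.1 h
    have := hP.1.isPrime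
    have : (P.comap (algebraMap B (p.Fiber B))).IsPrime := Ideal.comap_isPrime _ _
    have := (hU.primeIdealOf ⟨f.fiberι s z, hzU⟩).2
    exact hP.2 (FlatMorDevissage.flatAt_of_le ((PrimeSpectrum.mem_zeroLocus _ _).1 hPz)
      ((EGA43.QcohFlat.isFlatOverAt_iff f F hV hU e hzU).1 hz))

open AlgebraicGeometry CategoryTheory
/-- For f : X → S locally of finite type and a finite type quasi-coherent O_X-module F, the non-flat
locus of F in every fibre has dimension less than n if and only if every point where F is not flat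
over S has residue field of transcendence degree less than n over the residue field of its image.
(The non-flat locus of the fibre over s is taken with the subspace topology from X, which is that of
the fibre. The published statement adds that when these conditions hold they continue to hold after
any base change S' → S; this row states only the equivalence.) -/
theorem result {X S : Scheme.{u}} (f : X ⟶ S) [LocallyOfFiniteType f] (F : X.Modules) [Coh.IsQCoh F] (hF : CohB1.IsFT F) (n : ℕ) : (∀ s : S, topologicalKrullDim {x : X // f.base x = s ∧ ¬ FlatMod.IsFlatOverAt f F x} < n) ↔ ∀ x : X, ¬ FlatMod.IsFlatOverAt f F x → ∀ [Algebra (S.residueField (f.base x)) (X.residueField x)], algebraMap (S.residueField (f.base x)) (X.residueField x) = (f.residueFieldMap x).hom → Algebra.trdeg (S.residueField (f.base x)) (X.residueField x) < n := by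
  have hdim : ∀ s : S, topologicalKrullDim {x : X // f.base x = s ∧ ¬ FlatMod.IsFlatOverAt f F x} < n ↔
      ∀ x : X, f.base x = s → ¬ FlatMod.IsFlatOverAt f F x → Groth.Agent.DimLib.trdegHom (f.residueFieldMap x).hom < n := by
    intro s
    let W : Set (f.fiber s) := {z | ¬ FlatMod.IsFlatOverAt f F (f.fiberι s z)}
    have : LocallyOfFiniteType (f.fiberToSpecResidueField s) :=
      inferInstanceAs (LocallyOfFiniteType (Limits.pullback.snd f (S.fromSpecResidueField s)))
    let h : W ≃ₜ {x : X // f.base x = s ∧ ¬ FlatMod.IsFlatOverAt f F x} :=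
      { toFun := fun w => ⟨f.fiberι s w.1, (f.range_fiberι s).le ⟨w.1, rfl⟩, w.2⟩
        invFun := fun x => ⟨(f.fiberHomeo s).symm ⟨x.1, x.2.1⟩, by
          show ¬ FlatMod.IsFlatOverAt f F (f.fiberι s _)
          rw [f.fiberι_fiberHomeo_symm]; exact x.2.2⟩
        left_inv := fun w => Subtype.ext ((f.fiberι s).isEmbedding.injective (f.fiberι_fiberHomeo_symm s _))
        right_inv := fun x => Subtype.ext (f.fiberι_fiberHomeo_symm s _)
        continuous_toFun := ((f.fiberι s).continuous.comp continuous_subtype_val).subtype_mk _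
        continuous_invFun := Continuous.subtype_mk ((f.fiberHomeo s).symm.continuous.comp
          (Continuous.subtype_mk continuous_subtype_val fun x => x.2.1)) fun x => by
          show ¬ FlatMod.IsFlatOverAt f F (f.fiberι s _)
          rw [Function.comp_apply, f.fiberι_fiberHomeo_symm]; exact x.2.2 }
    rw [← h.isHomeomorph.topologicalKrullDim_eq, Groth.Agent.DimLib.topologicalKrullDim_closed_eq_iSup (k := S.residueField s)
      (f.fiberToSpecResidueField s) (isClosed_nonflat_fibre f F hF s), iSup_natCast_lt_iff]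
    constructor
    · intro H x hx hnf
      obtain ⟨z, rfl⟩ : x ∈ Set.range (f.fiberι s) := by rw [Scheme.Hom.range_fiberι]; exact hx
      rw [← Groth.Agent.EGA43.FibDepth.ptDim_fiber]
      exact H ⟨z, hnf⟩
    · rintro H ⟨z, hz⟩
      rw [Groth.Agent.EGA43.FibDepth.ptDim_fiber]
      exact H _ ((f.range_fiberι s).le ⟨z, rfl⟩) hz
  refine (forall_congr' hdim).trans ⟨fun H x hnf => ?_, fun H s x hx hnf => ?_⟩
  · intro inst hal
    have hlt : Groth.Agent.DimLib.trdegHom (f.residueFieldMap x).hom < n := H _ x rfl hnf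
    have hfin := Groth.Agent.FlatMor12.trdeg_residueFieldMap_lt f x
    have e : (f.residueFieldMap x).hom.toAlgebra = inst := Algebra.algebra_ext _ _ fun r => by
      rw [hal]; rfl
    rw [Groth.Agent.DimLib.trdegHom, e] at hlt
    rw [e] at hfin
    rw [← Cardinal.cast_toNat_of_lt_aleph0 hfin]
    exact Nat.cast_lt.2 hlt
  · have hfin := Groth.Agent.FlatMor12.trdeg_residueFieldMap_lt f x
    have hlt := @H x hnf (f.residueFieldMap x).hom.toAlgebra rfl
    rw [← Cardinal.cast_toNat_of_lt_aleph0 hfin, Nat.cast_lt] at hlt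
    exact hlt

end Groth.Agent.S9009
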