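import Groth.Statements.S9012
import Groth.Agent.FlatMor12.FlatFun.Sheaf

set_option autoImplicit false
universe u
open FlatMor

namespace Groth.Agent.S9012

open CategoryTheory CategoryTheory.Limits AlgebraicGeometry Opposite in
/-- For f : X → S and a quasi-coherent O_X-module F, the functor F_flat on schemes over S (one point on
T when the base change F_T on X_T = X ×_S T is flat over T, empty otherwise; written as the
subfunctor of the final functor generated by that condition, which agrees with it because flatness
is preserved by base change) satisfies the sheaf condition for the fpqc topology. -/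
theorem result {X S : Scheme.{u}} (f : X ⟶ S) (F : X.Modules) [Coh.IsQCoh F] :
    Presheaf.IsSheaf (QuotSh.J Scheme.fpqcPrecoverage S)
      (FlatFun.genPSp S (fun T => FlatMod.IsFlatOver (PicF.XTproj f T) (FGA.ET f F T))) := by
  exact Groth.Agent.FlatMor12.FlatFun.isSheaf_genPSp _ (fun g h => Groth.Agent.FlatMor12.FlatFun.flat_stable f g h) (fun _ hc => Groth.Agent.FlatMor12.FlatFun.flat_desc f hc)

end Groth.Agent.S9012
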