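import Groth.Statements.S9023
import Groth.Agent.FlatMor12.FlatFun.DimLT

set_option autoImplicit false
universe u
open FlatMor

namespace Groth.Agent.S9023

open CategoryTheory CategoryTheory.Limits AlgebraicGeometry Opposite in
/-- For f : X → S locally of finite type, F a quasi-coherent O_X-module of finite type and n ≥ 0, the
functor F_n on schemes over S (one point on T when the base change F_T on X_T = X ×_S T is flat over
T in dimensions ≥ n, that is every point of X_T at which F_T is not flat over T has residue field of
transcendence degree less than n over the residue field of its image in T; empty otherwise; written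
as the subfunctor of the final functor generated by that condition) satisfies the sheaf condition
for the fpqc topology. -/
theorem result {X S : Scheme.{u}} (f : X ⟶ S) [LocallyOfFiniteType f] (F : X.Modules) [Coh.IsQCoh F] (hF : CohB1.IsFT F)
    (n : ℕ) :
    Presheaf.IsSheaf (QuotSh.J Scheme.fpqcPrecoverage S)
      (FlatFun.genPSp S (fun T => FlatFun.DimFibresLT n (PicF.XTproj f T)
        {x | ¬ FlatMod.IsFlatOverAt (PicF.XTproj f T) (FGA.ET f F T) x})) := by
  exact Groth.Agent.FlatMor12.FlatFun.isSheaf_genPSp _ (fun g h => Groth.Agent.FlatMor12.FlatFun.dimLT_stable f F n g h) (fun _ hc => Groth.Agent.FlatMor12.FlatFun.dimLT_desc f F n hc)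

end Groth.Agent.S9023
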