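import Groth.Statements.S9028
import Groth.Agent.FlatMorAssOpen.FlatSpec
import Groth.Agent.FlatMorDevissage.FlatAssFibre
import Groth.Agent.DimLib.Components
import Groth.Agent.FlatMor12.RelDimComp
import Groth.Agent.EGA43.DvrCrit.Main
-- import your own Groth.Agent.* helpers here

set_option autoImplicit false
universe u
open FlatMor

namespace Groth.Agent.S9028

open CategoryTheory CategoryTheory.Limits AlgebraicGeometry Opposite in
set_option linter.unusedVariables false
set_option backward.isDefEq.respectTransparency false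
set_option maxHeartbeats 1600000
set_option synthInstance.maxHeartbeats 400000

attribute [local instance] Algebra.TensorProduct.rightAlgebra

open TensorProduct in
theorem ass_localized {A B N : Type u} [CommRing A] [CommRing B] [Algebra A B] [AddCommGroup N] [Module B N]
    (p : Ideal A) [p.IsPrime] (q : Ideal B) (Q : PrimeSpectrum (p.Fiber B))
    (hQ : Q.asIdeal.comap (algebraMap B (p.Fiber B)) = q)
    (h : FlatCA.fiberIdeal p q ∈ associatedPrimes (p.Fiber B) (FlatCA.fiberMod p B N)) :
    IsLocalRing.maximalIdeal (Localization.AtPrime Q.asIdeal) ∈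
      associatedPrimes (Localization.AtPrime Q.asIdeal) (Localization.AtPrime Q.asIdeal ⊗[B] N) := by
  subst hQ
  haveI := Q.2
  rw [(Groth.Agent.FlatMorDevissage.fiberPrime_spec p Q.asIdeal).2] at h
  let C := p.Fiber B
  let L := Localization.AtPrime Q.asIdeal
  let f : C ⊗[B] N →ₗ[C] L ⊗[C] (C ⊗[B] N) := TensorProduct.mk C L (C ⊗[B] N) 1
  haveI : IsLocalizedModule Q.asIdeal.primeCompl f :=
    (isLocalizedModule_iff_isBaseChange Q.asIdeal.primeCompl L f).2 (TensorProduct.isBaseChange C (C ⊗[B] N) L)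
  have h' : IsLocalRing.maximalIdeal L ∈ associatedPrimes L (L ⊗[C] (C ⊗[B] N)) := by
    refine Module.associatedPrimes.mem_associatedPrimes_of_comap_mem_associatedPrimes_of_isLocalizedModule
      (R' := L) (M := C ⊗[B] N) (M' := L ⊗[C] (C ⊗[B] N)) Q.asIdeal.primeCompl f _ ?_
    rw [show Ideal.comap (algebraMap (p.Fiber B) L) (IsLocalRing.maximalIdeal L) = Q.asIdeal from
      IsLocalization.AtPrime.comap_maximalIdeal L Q.asIdeal]
    exact h
  exact (LinearEquiv.isAssociatedPrime_iff
    (TensorProduct.AlgebraTensorModule.cancelBaseChange B C L L N)).1 h'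

open AlgebraicGeometry CategoryTheory in
theorem range_of_isPullback' {P X Y Z : Scheme.{u}} {f : P ⟶ X} {g : P ⟶ Y} {f' : X ⟶ Z} {g' : Y ⟶ Z}
    (sq : IsPullback f g f' g') : Set.range f = f' ⁻¹' Set.range g' := by
  rw [← Scheme.Pullback.range_fst (f := f') (g := g'), ← sq.isoPullback_hom_fst]
  rw [Scheme.Hom.comp_base, TopCat.coe_comp, Set.range_comp,
    Set.range_eq_univ.2 (show Function.Surjective sq.isoPullback.hom from
      sq.isoPullback.hom.homeomorph.surjective), Set.image_univ]

open AlgebraicGeometry CategoryTheory TensorProduct in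
/-- A point where `F` is not flat generises, inside its fibre, to a non-flat point of the relative assassin. -/
theorem exists_ass_nonflat {X S : Scheme.{u}} (f : X ⟶ S) [LocallyOfFiniteType f] (F : X.Modules)
    [Coh.IsQCoh F] (hF : CohB1.IsFT F) (x : X) (hx : ¬ FlatMod.IsFlatOverAt f F x) :
    ∃ w : X, w ⤳ x ∧ f w = f x ∧ w ∈ MoreMor.relAss f F ∧ ¬ FlatMod.IsFlatOverAt f F w := by
  obtain ⟨V, hV, hfxV, -⟩ := exists_isAffineOpen_mem_and_subset (x := f x) (U := ⊤) trivial
  obtain ⟨U, hU, hxU, e⟩ := exists_isAffineOpen_mem_and_subset (x := x) (U := f ⁻¹ᵁ V) hfxV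
  have e : U ≤ f ⁻¹ᵁ V := e
  let A := Γ(S, V)
  let B := Γ(X, U)
  let _ := (f.appLE V U e).hom.toAlgebra
  let _ := Groth.Agent.EGA43.QcohFlat.overModule f F V U e
  have : IsScalarTower A B Γ(F, U) := IsScalarTower.of_algebraMap_smul fun _ _ => rfl
  have : Algebra.FiniteType A B := LocallyOfFiniteType.finiteType_appLE f hV hU e
  have hfinB : Module.Finite B Γ(F, U) := Groth.Agent.H8Lim.finite_sections_of_isFT (M := F) hF hU
  by_contra hne
  refine hx ((Groth.Agent.EGA43.QcohFlat.isFlatOverAt_iff f F hV hU e hxU).2 ?_)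
  let q := (hU.primeIdealOf ⟨x, hxU⟩).asIdeal
  have : q.IsPrime := (hU.primeIdealOf ⟨x, hxU⟩).2
  have : q.LiesOver (q.comap (algebraMap A B)) := ⟨rfl⟩
  refine Groth.Agent.FlatMorDevissage.flatAt_of_assFibre (q.comap (algebraMap A B)) q fun q' _ hle hover hass => ?_
  let w := hU.fromSpec ⟨q', inferInstance⟩
  have hwU : w ∈ U := hU.range_fromSpec.le ⟨_, rfl⟩
  have hwq : hU.primeIdealOf ⟨w, hwU⟩ = ⟨q', inferInstance⟩ :=
    hU.fromSpec.isOpenEmbedding.injective (hU.fromSpec_primeIdealOf _)
  have hflatw : FlatMod.IsFlatOverAt f F w → FlatCA.FlatAt A q' Γ(F, U) := fun hw => by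
    have h3 := (Groth.Agent.EGA43.QcohFlat.isFlatOverAt_iff f F hV hU e hwU).1 hw
    rw [hwq] at h3
    exact h3
  apply hflatw
  by_contra hnw
  refine hne ⟨w, ?_, ?_, ?_, hnw⟩
  · have h5 := ((PrimeSpectrum.le_iff_specializes ⟨q', inferInstance⟩ (hU.primeIdealOf ⟨x, hxU⟩)).1 hle).map
      hU.fromSpec.continuous
    erw [hU.fromSpec_primeIdealOf] at h5
    exact h5
  · have h1 := Groth.Agent.EGA43.FibDepth.comap_primeIdealOf f hV hU e hwU
    have h2 := Groth.Agent.EGA43.FibDepth.comap_primeIdealOf f hV hU e hxU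
    rw [hwq] at h1
    have h3 : hV.primeIdealOf ⟨f w, e hwU⟩ = hV.primeIdealOf ⟨f x, e hxU⟩ :=
      PrimeSpectrum.ext (h1.symm.trans (hover.over.symm.trans h2))
    have h4 := congrArg hV.fromSpec h3
    rwa [hV.fromSpec_primeIdealOf, hV.fromSpec_primeIdealOf] at h4
  obtain ⟨z, hz⟩ : w ∈ Set.range (f.fiberι (f w)) := by rw [Scheme.Hom.range_fiberι]; rfl
  have hzU : f.fiberι (f w) z ∈ U := by rw [hz]; exact hwU
  have hfinB' : letI := Module.compHom Γ(F, U) (RingHom.id B); Module.Finite B Γ(F, U) := hfinB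
  obtain ⟨Q, hQ, hdepth, hdim, -⟩ := Groth.Agent.EGA43.FibDepth.exists_fibre_point f F hV hU e
    (RingHom.id B) Function.surjective_id (RingHom.id_comp _) hfinB' (f w) z hzU
  have hqz : (hU.primeIdealOf ⟨f.fiberι (f w) z, hzU⟩).asIdeal = q' := by
    rw [show (⟨f.fiberι (f w) z, hzU⟩ : U) = ⟨w, hwU⟩ from Subtype.ext hz, hwq]
  have hcast : ∀ (p₀ : Ideal A) [p₀.IsPrime] (q₀ : Ideal B), q₀ = q' → p₀ = q.comap (algebraMap A B) →
      FlatCA.fiberIdeal p₀ q₀ ∈ associatedPrimes (p₀.Fiber B) (FlatCA.fiberMod p₀ B Γ(F, U)) := by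
    intro p₀ _ q₀ e1 e2
    subst e1 e2
    exact hass
  have hq0 : (PrimeSpectrum.comap (RingHom.id B) (hU.primeIdealOf ⟨f.fiberι (f w) z, hzU⟩)).asIdeal = q' :=
    hqz
  have hp0 : (PrimeSpectrum.comap (RingHom.id B) (hU.primeIdealOf ⟨f.fiberι (f w) z, hzU⟩)).asIdeal.comap
      (algebraMap A B) = q.comap (algebraMap A B) := by
    rw [hq0]; exact hover.over.symm
  have hm := ass_localized (N := Γ(F, U)) _ _ Q (congrArg PrimeSpectrum.asIdeal hQ) (hcast _ _ hq0 hp0)
  have hfibN := Groth.Agent.FlatMor12.RelAssBC.isLocallyNoetherian_fiber f (f w)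
  rw [← hz, Groth.Agent.FlatMorAssOpen.mem_relAss_iff f F (f w) z]
  have : Coh.IsQCoh ((Scheme.Modules.pullback (f.fiberι (f w))).obj F) :=
    Groth.Agent.EGA43.InjFibre.isQCoh_pullback _ F
  have : Module.Finite ((f.fiber (f w)).presheaf.stalk z)
      (((Scheme.Modules.pullback (f.fiberι (f w))).obj F).presheaf.stalk z) :=
    Groth.Agent.FlatMor12.IsoLocusMod.finite_stalk (Groth.Agent.Coherent.isFT_pullback_qcoh _ inferInstance hF) z
  have : Nontrivial (((Scheme.Modules.pullback (f.fiberι (f w))).obj F).presheaf.stalk z) := by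
    rw [← Module.supportDim_ne_bot_iff_nontrivial ((f.fiber (f w)).presheaf.stalk z), hdim,
      Module.supportDim_ne_bot_iff_nontrivial]
    rcases subsingleton_or_nontrivial (Localization.AtPrime Q.asIdeal ⊗[Γ(X, U)] Γ(F, U)) with hn | hn
    · rw [associatedPrimes.eq_empty_of_subsingleton] at hm
      exact hm.elim
    · exact hn
  show IsLocalRing.maximalIdeal _ ∈ associatedPrimes _ _
  rw [← Groth.Agent.CAlgH3.depth_eq_zero_iff, hdepth]
  have hn : Nontrivial (Localization.AtPrime Q.asIdeal ⊗[Γ(X, U)] Γ(F, U)) := by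
    rcases subsingleton_or_nontrivial (Localization.AtPrime Q.asIdeal ⊗[Γ(X, U)] Γ(F, U)) with hn | hn
    · rw [associatedPrimes.eq_empty_of_subsingleton] at hm
      exact hm.elim
    · exact hn
  have : IsNoetherianRing (((PrimeSpectrum.comap (RingHom.id B) (hU.primeIdealOf ⟨f.fiberι (f w) z, hzU⟩)).asIdeal.comap
      (algebraMap A B)).Fiber B) := Algebra.FiniteType.isNoetherianRing (Ideal.ResidueField ((PrimeSpectrum.comap (RingHom.id B) (hU.primeIdealOf ⟨f.fiberι (f w) z, hzU⟩)).asIdeal.comap (algebraMap A B))) _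
  have : IsNoetherianRing (Localization.AtPrime Q.asIdeal) :=
    IsLocalization.isNoetherianRing Q.asIdeal.primeCompl _ inferInstance
  exact (Groth.Agent.CAlgH3.depth_eq_zero_iff).2 hm

open AlgebraicGeometry CategoryTheory CategoryTheory.Limits Opposite
/-- For f : X → S locally of finite type, F a quasi-coherent O_X-module of finite type, an etale
morphism h : X' → X whose image contains every point of the relative assassin of F over S, and n ≥
0, the functors F_n of F and of h^*F agree: for every scheme T over S, if the base change of h^*F on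
X' ×_S T is flat over T in dimensions ≥ n then so is the base change F_T on X ×_S T (the other
implication holds without the hypothesis on the image). -/
theorem result {X X' S : Scheme.{u}} (f : X ⟶ S) [LocallyOfFiniteType f] (F : X.Modules) [Coh.IsQCoh F] (hF : CohB1.IsFT F)
    (h : X' ⟶ X) [Etale h] (hAss : MoreMor.relAss f F ⊆ Set.range h.base) (n : ℕ) (T : Over S)
    (hT : FlatFun.DimFibresLT n (PicF.XTproj (h ≫ f) T)
        {x | ¬ FlatMod.IsFlatOverAt (PicF.XTproj (h ≫ f) T) (FGA.ET (h ≫ f) ((Scheme.Modules.pullback h).obj F) T) x}) :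
    FlatFun.DimFibresLT n (PicF.XTproj f T)
        {x | ¬ FlatMod.IsFlatOverAt (PicF.XTproj f T) (FGA.ET f F T) x} := by
  let fT := pullback.snd f T.hom
  let gX := pullback.fst f T.hom
  let FT := (Scheme.Modules.pullback gX).obj F
  let gX' := pullback.fst (h ≫ f) T.hom
  let fT' := pullback.snd (h ≫ f) T.hom
  let hT' : pullback (h ≫ f) T.hom ⟶ pullback f T.hom :=
    pullback.lift (gX' ≫ h) fT' (by rw [Category.assoc, pullback.condition])
  have h1 : hT' ≫ gX = gX' ≫ h := pullback.lift_fst _ _ _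
  have h2 : hT' ≫ fT = fT' := pullback.lift_snd _ _ _
  have sq : IsPullback gX' hT' h gX := IsPullback.of_bot (by
    rw [h2]; exact IsPullback.of_hasPullback (h ≫ f) T.hom) h1.symm (IsPullback.of_hasPullback f T.hom)
  have hEt : Etale hT' := MorphismProperty.of_isPullback sq inferInstance
  have hlft : LocallyOfFiniteType fT := MorphismProperty.pullback_snd _ _ inferInstance
  have hqc : Coh.IsQCoh FT := Groth.Agent.EGA43.InjFibre.isQCoh_pullback _ F
  have hft : CohB1.IsFT FT := Groth.Agent.Coherent.isFT_pullback_qcoh _ inferInstance hF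
  show FlatFun.DimFibresLT n fT {x | ¬ FlatMod.IsFlatOverAt fT FT x}
  intro x hx
  obtain ⟨w, hwx, hfw, hass, hnw⟩ := exists_ass_nonflat fT FT hft x hx
  -- the associated point comes from the etale open
  let O : X.Opens := ⟨Set.range h.base, h.isOpenMap.isOpen_range⟩
  have hO : gX w ∈ Set.range h.base :=
    (Groth.Agent.FlatMor12.RelAssBC.fibre_subset_iff f F hF O T.hom fT gX (IsPullback.of_hasPullback f T.hom) (fT w)).1
      (fun a ha => hAss ha.1) ⟨hass, rfl⟩
  obtain ⟨w', hw'⟩ : w ∈ Set.range hT' := by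
    rw [range_of_isPullback' sq.flip]
    exact hO
  subst hw'
  have hnf : ¬ FlatMod.IsFlatOverAt fT' ((Scheme.Modules.pullback gX').obj ((Scheme.Modules.pullback h).obj F)) w' := by
    intro hfl
    have key : ∀ φ, φ = fT' →
        FlatMod.IsFlatOverAt φ ((Scheme.Modules.pullback gX').obj ((Scheme.Modules.pullback h).obj F)) w' := by
      rintro φ rfl; exact hfl
    have h3 := key (hT' ≫ fT) h2
    let e : (Scheme.Modules.pullback gX').obj ((Scheme.Modules.pullback h).obj F) ≅ (Scheme.Modules.pullback hT').obj FT :=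
      (Scheme.Modules.pullbackComp gX' h).app F ≪≫ (Scheme.Modules.pullbackCongr h1.symm).app F ≪≫
        ((Scheme.Modules.pullbackComp hT' gX).app F).symm
    exact hnw ((Groth.Agent.Props12.isFlatOverAt_pullback_iff hT' fT FT w' (Flat.stalkMap hT' w')).2
      (Groth.Agent.EGA43.DvrCrit.isFlatOverAt_of_iso _ e w' h3))
  have hlt := hT w' hnf
  have hlfT' : LocallyOfFiniteType fT' := MorphismProperty.pullback_snd _ _ inferInstance
  have hn' : Groth.Agent.DimLib.trdegHom (fT'.residueFieldMap w').hom < n := by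
    have hfin := Groth.Agent.FlatMor12.trdeg_residueFieldMap_lt fT' w'
    have hlt' : @Algebra.trdeg (T.left.residueField (fT' w')) _ _ _ (fT'.residueFieldMap w').hom.toAlgebra < (n : Cardinal.{u}) := hlt
    rw [← Cardinal.cast_toNat_of_lt_aleph0 hfin, Nat.cast_lt] at hlt'
    exact hlt'
  have key2 : ∀ φ, φ = fT' → Groth.Agent.DimLib.trdegHom (Scheme.Hom.residueFieldMap φ w').hom < n := by
    rintro φ rfl; exact hn'
  have hw : Groth.Agent.DimLib.trdegHom (fT.residueFieldMap (hT' w')).hom < n := by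
    have := key2 _ h2
    rw [Groth.Agent.FlatMor12.trdegHom_comp_residueFieldMap hT' fT w'] at this
    omega
  obtain ⟨s, hs⟩ : ∃ s, fT x = s := ⟨_, rfl⟩
  obtain ⟨zx, rfl⟩ : x ∈ Set.range (fT.fiberι s) := by rw [Scheme.Hom.range_fiberι]; exact hs
  obtain ⟨zw, hzw⟩ : hT' w' ∈ Set.range (fT.fiberι s) := by rw [Scheme.Hom.range_fiberι]; exact hfw.trans hs
  have : LocallyOfFiniteType (fT.fiberToSpecResidueField s) :=
    inferInstanceAs (LocallyOfFiniteType (pullback.snd fT (T.left.fromSpecResidueField s)))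
  have hle : Groth.Agent.DimLib.trdegHom (fT.residueFieldMap (fT.fiberι s zx)).hom ≤
      Groth.Agent.DimLib.trdegHom (fT.residueFieldMap (fT.fiberι s zw)).hom := by
    rw [← Groth.Agent.EGA43.FibDepth.ptDim_fiber, ← Groth.Agent.EGA43.FibDepth.ptDim_fiber]
    have hsp : zw ⤳ zx := by
      rw [← (fT.fiberι s).isEmbedding.isInducing.specializes_iff, hzw]; exact hwx
    by_cases heq : zw = zx
    · rw [heq]
    · exact (Groth.Agent.DimLib.ptDim_lt_of_specializes _ hsp heq).le
  rw [hzw] at hle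
  have hfin := Groth.Agent.FlatMor12.trdeg_residueFieldMap_lt fT (fT.fiberι s zx)
  show @Algebra.trdeg _ _ _ _ (fT.residueFieldMap (fT.fiberι s zx)).hom.toAlgebra < (n : Cardinal.{u})
  rw [← Cardinal.cast_toNat_of_lt_aleph0 hfin, Nat.cast_lt]
  exact hle.trans_lt hw

end Groth.Agent.S9028
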