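import Groth.Statements.S9032
import Groth.Agent.DualLib.RelTop.StalkTensor
import Groth.Agent.DualLib.RelTop.FlatLocusLoc
import Groth.Agent.EGA43.QcohFP
import Groth.Agent.Props12.FinLocFree
import Groth.Agent.FlatMorFlatten.Dominate
import Groth.Agent.EGA43.DvrCrit.Main

set_option autoImplicit false
universe u
open FlatMor

namespace Groth.Agent.S9032

  set_option backward.isDefEq.respectTransparency false
open CategoryTheory CategoryTheory.Limits AlgebraicGeometry IsLocalRing TensorProduct TopologicalSpace
open Groth.Agent Groth.Agent.DualLib.RelTop Groth.Agent.CAlgH.FlatLocusH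

set_option linter.style.haveILetI false
set_option maxHeartbeats 800000

/-- The ring map from an affine base to a local ring is essentially of finite type. -/
theorem essFiniteType_baseHom {A : Type u} [CommRing A] {Y : Scheme.{u}} (f : Y ⟶ Spec (CommRingCat.of A))
    [LocallyOfFiniteType f] (y : Y) [Algebra A (Y.presheaf.stalk y)]
    (hα : algebraMap A (Y.presheaf.stalk y) = baseHom f y) : Algebra.EssFiniteType A (Y.presheaf.stalk y) := by
  let q : PrimeSpectrum A := f y
  let V := (Spec (CommRingCat.of A)).presheaf.stalk (f y)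
  letI : Algebra A V := (StructureSheaf.toStalk A q).hom.toAlgebra
  haveI : IsLocalization.AtPrime V q.asIdeal := StructureSheaf.IsLocalization.to_stalk (CommRingCat.of A) q
  haveI : Algebra.EssFiniteType A V := Algebra.EssFiniteType.of_isLocalization V q.asIdeal.primeCompl
  letI : Algebra V (Y.presheaf.stalk y) := (f.stalkMap y).hom.toAlgebra
  haveI : Algebra.EssFiniteType V (Y.presheaf.stalk y) := LocallyOfFiniteType.stalkMap f y
  haveI : IsScalarTower A V (Y.presheaf.stalk y) := IsScalarTower.of_algebraMap_eq' (by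
    have h : Spec.map (CommRingCat.ofHom (baseHom f y)) =
        Spec.map (StructureSheaf.toStalk (CommRingCat.of A) (f y) ≫ f.stalkMap y) := by
      rw [Spec.map_comp, specMap_baseHom, ← Scheme.SpecMap_stalkMap_fromSpecStalk, Spec.fromSpecStalk_eq']
    rw [hα]
    exact congrArg CommRingCat.Hom.hom (Spec.map_injective h))
  exact Algebra.EssFiniteType.comp A V _

/-- The map to a local ring, read on global sections. -/
theorem baseHom_eq {A : Type u} [CommRing A] {T : Scheme.{u}} (g : T ⟶ Spec (CommRingCat.of A)) (t : T) (a : A) :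
    baseHom g t a = (T.presheaf.germ ⊤ t trivial).hom
      (g.appTop.hom ((Scheme.ΓSpecIso (CommRingCat.of A)).inv.hom a)) := by
  have hg : g = T.toSpecΓ ≫ Spec.map ((Scheme.ΓSpecIso (CommRingCat.of A)).inv ≫ g.appTop) := by
    rw [Spec.map_comp, ← Scheme.toSpecΓ_naturality_assoc, ← SpecMap_ΓSpecIso_hom, ← Spec.map_comp,
      Iso.inv_hom_id, Spec.map_id, Category.comp_id]
  have h : CommRingCat.ofHom (baseHom g t) =
      (Scheme.ΓSpecIso (CommRingCat.of A)).inv ≫ g.appTop ≫ T.presheaf.germ ⊤ t trivial := by
    apply Spec.map_injective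
    rw [specMap_baseHom, ← Category.assoc, Spec.map_comp]
    conv_lhs => rw [hg, ← Category.assoc, Scheme.fromSpecStalk_toSpecΓ]
  exact DFunLike.congr_fun (congrArg CommRingCat.Hom.hom h) a

section

variable {A : Type u} [CommRing A] [HenselianLocalRing A] {X : Scheme.{u}} (f : X ⟶ Spec (CommRingCat.of A))

/-- The flat locus ideal of a module at a point. -/
noncomputable def idealAt (F : X.Modules) (x : X) : Ideal A :=
  @flatIdeal A (F.presheaf.stalk x) _ _ _ (Module.compHom (F.presheaf.stalk x) (baseHom f x))

theorem idealAt_le (F : X.Modules) (x : X) : idealAt f F x ≤ maximalIdeal A :=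
  letI := Module.compHom (F.presheaf.stalk x) (baseHom f x)
  flatIdeal_le

/-- Over a point of the closed fibre, flatness is the vanishing of the ideal. -/
theorem flat_over_iff [LocallyOfFiniteType f] (F : X.Modules) [Coh.IsQCoh F] (hF : CohB1.IsFT F) (x : X)
    (hx : f x = closedPoint A) {T : Scheme.{u}} (g : T ⟶ Spec (CommRingCat.of A)) (t : T)
    (ht : g t = closedPoint A) :
    (∀ x' : ↑(pullback f g), pullback.snd f g x' = t → pullback.fst f g x' = x →
      FlatMod.IsFlatOverAt (pullback.snd f g) ((Scheme.Modules.pullback (pullback.fst f g)).obj F) x') ↔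
      (idealAt f F x).map (baseHom g t) = ⊥ := by
  let O := X.presheaf.stalk x
  letI : Algebra A O := (baseHom f x).toAlgebra
  letI : Module A (F.presheaf.stalk x) := Module.compHom _ (baseHom f x)
  haveI : IsScalarTower A O (F.presheaf.stalk x) := IsScalarTower.of_compHom _ _ _
  haveI : IsLocalHom (algebraMap A O) := isLocalHom_baseHom f x hx
  haveI : Algebra.EssFiniteType A O := essFiniteType_baseHom f x rfl
  haveI : Module.Finite O (F.presheaf.stalk x) := Props12.finite_stalk_of_isFT F hF x
  let B := T.presheaf.stalk t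
  letI : Algebra A B := (baseHom g t).toAlgebra
  haveI : IsLocalHom (algebraMap A B) := isLocalHom_baseHom g t ht
  let ιt : Spec (CommRingCat.of B) ⟶ T := T.fromSpecStalk t
  have hι : Spec.map (CommRingCat.ofHom (algebraMap A B)) = ιt ≫ g := specMap_baseHom g t
  let h := Spec.map (CommRingCat.ofHom (algebraMap A B))
  have hp : IsPullback (pullback.fst f h) (pullback.snd f h) f h := IsPullback.of_hasPullback f h
  letI : Algebra O (B ⊗[A] O) := Algebra.TensorProduct.rightAlgebra
  have key := (flat_pullback_iff_flatAt_tensor f x (pullback.snd f h) (pullback.fst f h) hp rfl F _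
      (LinearEquiv.refl O (F.presheaf.stalk x))).trans
    (flatAt_iff_map_flatIdeal_eq_bot (A := A) (B := O) (M := F.presheaf.stalk x) (A' := B) (B' := B ⊗[A] O)
      (TensorProduct.mk O (B ⊗[A] O) (F.presheaf.stalk x) 1) (TensorProduct.isBaseChange O _ (B ⊗[A] O)))
  refine Iff.trans ?_ key
  let j : pullback f h ⟶ pullback f g := pullback.lift (pullback.fst f h) (pullback.snd f h ≫ ιt)
    (by rw [Category.assoc, ← hι]; exact pullback.condition)
  have hj1 : j ≫ pullback.fst f g = pullback.fst f h := pullback.lift_fst _ _ _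
  have hj2 : j ≫ pullback.snd f g = pullback.snd f h ≫ ιt := pullback.lift_snd _ _ _
  have hsq : IsPullback j (pullback.snd f h) (pullback.snd f g) ιt := by
    refine IsPullback.of_right ?_ hj2 (IsPullback.of_hasPullback f g)
    rw [hj1, ← hι]
    exact hp
  haveI : Flat ιt := Props12.flat_fromSpecStalk t
  haveI : Flat j := MorphismProperty.of_isPullback hsq.flip ‹Flat ιt›
  have hct : ιt (closedPoint B) = t := Scheme.fromSpecStalk_closedPoint
  let G := (Scheme.Modules.pullback (pullback.fst f g)).obj F
  let iso := (Scheme.Modules.pullbackComp j (pullback.fst f g)).app F ≪≫ (Scheme.Modules.pullbackCongr hj1).app F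
  constructor
  · intro H y hy hyc
    refine EGA43.DvrCrit.isFlatOverAt_of_iso _ iso y ?_
    refine Desc19b.isFlatOverAt_baseChange (pullback.snd f g) _ j ιt hsq G y (H (j y) ?_ ?_)
    · rw [← Scheme.Hom.comp_apply, hj2, Scheme.Hom.comp_apply, hyc, hct]
    · rw [← Scheme.Hom.comp_apply, hj1, hy]
  · intro H x' h1 h2
    obtain ⟨y, hy1, hy2⟩ := Scheme.exists_preimage_of_isPullback hsq x' (closedPoint B) (h1.trans hct.symm)
    subst hy1
    rw [Props12.isFlatOverAt_pullback_iff j (pullback.snd f g) G y (Flat.stalkMap j y)]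
    have h' := FlatMorFlatten.isFlatOverAt_comp_of_flat (pullback.snd f h) ιt _ y
      (EGA43.DvrCrit.isFlatOverAt_of_iso _ iso.symm y (H y (by rw [← hj1, Scheme.Hom.comp_apply, h2]) hy2))
    rw [← hj2] at h'
    exact h'

/-- A finitely generated ideal bounding the ideals at the points of `E` in an affine open. -/
theorem exists_fg_affine [LocallyOfFinitePresentation f] (F : X.Modules) [Coh.IsQCoh F] (hF : CohB1.IsFP F)
    {E : Set X} (hE : ∀ x ∈ E, f x = closedPoint A) (hEc : IsClosed E) {U : X.Opens} (hU : IsAffineOpen U)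
    (I : Ideal A) (hI : I ≤ maximalIdeal A) (hIE : ∀ x ∈ E, idealAt f F x ≤ I) :
    ∃ i : Ideal A, i.FG ∧ i ≤ I ∧ ∀ x ∈ E, x ∈ U → idealAt f F x ≤ i := by
  let S := Γ(X, U)
  let α : A →+* S := (Spec.preimage (hU.fromSpec ≫ f)).hom
  have hα : Spec.map (CommRingCat.ofHom α) = hU.fromSpec ≫ f := Spec.map_preimage _
  letI : Algebra A S := α.toAlgebra
  haveI : Algebra.FinitePresentation A S := by
    have h : LocallyOfFinitePresentation (Spec.map (CommRingCat.ofHom α)) := by rw [hα]; infer_instance
    exact (HasRingHomProperty.Spec_iff (P := @LocallyOfFinitePresentation)).1 h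
  let M := Γ(F, U)
  haveI : Module.FinitePresentation S M := EGA43.QcohFP.finitePresentation_sections F hF hU
  letI : Module A M := Module.compHom M α
  haveI : IsScalarTower A S M := IsScalarTower.of_compHom _ _ _
  let Z : Set (PrimeSpectrum S) := hU.fromSpec ⁻¹' E
  have hZ : IsClosed Z := hEc.preimage hU.fromSpec.continuous
  let J := PrimeSpectrum.vanishingIdeal Z
  have hJZ : ∀ p : Spec S, J ≤ p.asIdeal → hU.fromSpec p ∈ E := fun p hp => by
    have h' : p ∈ PrimeSpectrum.zeroLocus (J : Set S) := hp
    rw [PrimeSpectrum.zeroLocus_vanishingIdeal_eq_closure, hZ.closure_eq] at h'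
    exact h'
  have hm : ∀ p : Spec S, hU.fromSpec p ∈ E → p.asIdeal.comap α = maximalIdeal A := fun p hp => by
    have h' : Spec.map (CommRingCat.ofHom α) p = closedPoint A := by rw [hα, Scheme.Hom.comp_apply]; exact hE _ hp
    exact congrArg PrimeSpectrum.asIdeal h'
  have hloc : ∀ (p : Spec S) (x : X), hU.fromSpec p = x →
      flatIdeal A (LocalizedModule p.asIdeal.primeCompl M) ≤ idealAt f F x ∧
      idealAt f F x ≤ flatIdeal A (LocalizedModule p.asIdeal.primeCompl M) := by
    intro p x hpx
    have hxU : x ∈ U := by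
      rw [← hpx]
      exact hU.range_fromSpec.le (Set.mem_range_self p)
    have hp : hU.primeIdealOf ⟨x, hxU⟩ = p :=
      hU.fromSpec.isOpenEmbedding.injective ((hU.fromSpec_primeIdealOf ⟨x, hxU⟩).trans hpx.symm)
    subst hp
    letI : Algebra S (X.presheaf.stalk x) := (X.presheaf.germ U x hxU).hom.toAlgebra
    letI : Module S (F.presheaf.stalk x) := Module.compHom _ (X.presheaf.germ U x hxU).hom
    let φ : M →ₗ[S] F.presheaf.stalk x :=
      { toFun := fun m => F.presheaf.germ U x hxU m
        map_add' := fun a b => map_add _ a b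
        map_smul' := fun r m => QCohLoc.germ_smul' F hxU r m }
    haveI := EGA43.QcohFP.isLocalizedModule_germ F hU hxU φ fun _ => rfl
    let e := IsLocalizedModule.iso (hU.primeIdealOf ⟨x, hxU⟩).asIdeal.primeCompl φ
    letI : Module A (F.presheaf.stalk x) := Module.compHom _ (baseHom f x)
    have hb : CommRingCat.ofHom (baseHom f x) = CommRingCat.ofHom α ≫ X.presheaf.germ U x hxU := by
      apply Spec.map_injective
      rw [specMap_baseHom, Spec.map_comp, hα, ← Category.assoc, ← hU.fromSpecStalk_eq_fromSpecStalk hxU]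
      rfl
    let eA : LocalizedModule (hU.primeIdealOf ⟨x, hxU⟩).asIdeal.primeCompl M ≃ₗ[A] F.presheaf.stalk x :=
      { e with
        map_smul' := fun a z => by
          show e (a • z) = baseHom f x a • e z
          rw [← algebraMap_smul S a z, map_smul]
          have hb' := DFunLike.congr_fun (congrArg CommRingCat.Hom.hom hb) a
          exact congrArg (· • e z) hb'.symm }
    exact ⟨flatIdeal_le_of_equiv eA, flatIdeal_le_of_equiv eA.symm⟩
  obtain ⟨i, hi, hiI, hin⟩ := exists_fg_flatIdeal_le (A := A) (S := S) (M := M) J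
    (fun n _ hn => hm ⟨n, inferInstance⟩ (hJZ _ hn)) I hI
    fun n _ hn => (hloc ⟨n, inferInstance⟩ _ rfl).1.trans (hIE _ (hJZ _ hn))
  refine ⟨i, hi, hiI, fun x hx hxU => ?_⟩
  let p := hU.primeIdealOf ⟨x, hxU⟩
  have hp : hU.fromSpec p = x := hU.fromSpec_primeIdealOf ⟨x, hxU⟩
  have hJp : J ≤ p.asIdeal := fun a ha =>
    (PrimeSpectrum.mem_vanishingIdeal _ _).1 ha p (show hU.fromSpec p ∈ E by rwa [hp])
  exact (hloc p x hp).2.trans (hin p.asIdeal hJp)

end

open CategoryTheory CategoryTheory.Limits AlgebraicGeometry Opposite in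
/-- Let A be a henselian local ring, s the closed point of S = Spec A, f : X → S a morphism locally of
finite type, F a quasi-coherent O_X-module of finite type and E a subset of the closed fibre X_s.
Then there is a closed subscheme Z = V(I) of S with the following property: for every morphism of
pointed schemes (T, t) → (S, s), the base change F_T on X_T = X ×_S T is T-flat at each point over t
whose image in X lies in E if and only if Spec(O_{T,t}) → S factors through Z, that is, the map A →
O_{T,t} sends I to zero. Assume in addition that the morphism f is locally finitely presented, that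
the module F is finitely presented, and that the subset E is both quasi-compact and closed; in that
case the closed immersion Z → S is finitely presented, meaning the ideal I is finitely generated. -/
theorem result {A : Type u} [CommRing A] [HenselianLocalRing A] {X : Scheme.{u}} (f : X ⟶ Spec (CommRingCat.of A))
    [LocallyOfFiniteType f] (F : X.Modules) [Coh.IsQCoh F] (hF : CohB1.IsFT F)
    (E : Set X) (hE : ∀ x ∈ E, f.base x = IsLocalRing.closedPoint A) :
    ∃ I : Ideal A,
      (∀ (T : Scheme.{u}) (g : T ⟶ Spec (CommRingCat.of A)) (t : T), g.base t = IsLocalRing.closedPoint A →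
        ((∀ x' : ↑(pullback f g), (pullback.snd f g).base x' = t → (pullback.fst f g).base x' ∈ E →
            FlatMod.IsFlatOverAt (pullback.snd f g) ((Scheme.Modules.pullback (pullback.fst f g)).obj F) x') ↔
          ∀ a ∈ I, (T.presheaf.germ ⊤ t trivial).hom
            (g.appTop.hom ((Scheme.ΓSpecIso (CommRingCat.of A)).inv.hom a)) = 0)) ∧
      (LocallyOfFinitePresentation f → CohB1.IsFP F → IsClosed E → IsCompact E → I.FG) := by
  classical
  refine ⟨⨆ x : E, idealAt f F x, fun T g t ht => ?_, fun hf hFP hEc hEq => ?_⟩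
  · have key := fun x : E => flat_over_iff f F hF x (hE x x.2) g t ht
    have hI : (⨆ x : E, idealAt f F x).map (baseHom g t) = ⊥ ↔ ∀ x : E, (idealAt f F x).map (baseHom g t) = ⊥ := by
      rw [Ideal.map_iSup, iSup_eq_bot]
    rw [show (∀ a ∈ ⨆ x : E, idealAt f F x, (T.presheaf.germ ⊤ t trivial).hom
        (g.appTop.hom ((Scheme.ΓSpecIso (CommRingCat.of A)).inv.hom a)) = 0) ↔
        (⨆ x : E, idealAt f F x).map (baseHom g t) = ⊥ by
      rw [Ideal.map_eq_bot_iff_le_ker]
      exact forall₂_congr fun a _ => by rw [← baseHom_eq g t a]; rfl, hI]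
    exact ⟨fun H x => (key x).1 fun x' h1 h2 => H x' h1 (by rw [h2]; exact x.2),
      fun H x' h1 h2 => (key ⟨_, h2⟩).2 (H _) x' h1 rfl⟩
  · haveI := hf
    let I : Ideal A := ⨆ x : E, idealAt f F x
    have hI : I ≤ IsLocalRing.maximalIdeal A := iSup_le fun x => idealAt_le f F x
    have hIE : ∀ x ∈ E, idealAt f F x ≤ I := fun x hx => le_iSup (fun x : E => idealAt f F x) ⟨x, hx⟩
    have hcov : ∀ U : X.affineOpens, ∃ i : Ideal A, i.FG ∧ i ≤ I ∧ ∀ x ∈ E, x ∈ U.1 → idealAt f F x ≤ i :=
      fun U => exists_fg_affine f F hFP hE hEc U.2 I hI hIE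
    choose i hi hiI hix using hcov
    obtain ⟨s, hs⟩ := hEq.elim_finite_subcover (fun U : X.affineOpens => (U.1 : Set X)) (fun U => U.1.2)
      fun x _ => by
        obtain ⟨U, hU, hxU, -⟩ := Opens.isBasis_iff_nbhd.mp X.isBasis_affineOpens (Opens.mem_top x)
        exact Set.mem_iUnion.2 ⟨⟨U, hU⟩, hxU⟩
    have e : I = s.sup i := le_antisymm (iSup_le fun x => by
      obtain ⟨U, hUs, hxU⟩ := Set.mem_iUnion₂.1 (hs x.2)
      exact (hix U x x.2 hxU).trans (Finset.le_sup (f := i) hUs)) (Finset.sup_le fun U _ => hiI U)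
    show I.FG
    rw [e]
    exact Finset.sup_induction Submodule.fg_bot (fun a ha b hb => Submodule.FG.sup ha hb) fun U _ => hi U

end Groth.Agent.S9032
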