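import Groth.Statements.S9034
import Mathlib
import Groth.Agent.Cpct15.Basic
-- import your own Groth.Agent.* helpers here

set_option autoImplicit false
universe u
open Cpct

namespace Groth.Agent.S9034

open CategoryTheory CategoryTheory.Limits AlgebraicGeometry Opposite in
/-- Fix a scheme S which is quasi-separated and quasi-compact. Sending a pair (X, X̄) to X gives a
functor from the category of compactifications over S (pairs of a scheme X̄ proper over S and a
quasi-compact open X ⊆ X̄, with morphisms the S-morphisms X̄' → X̄ sending X' into X) to the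
category of compactifyable schemes over S (the full subcategory of schemes over S that are the open
part of such a pair), and this functor is a localization functor for the class of morphisms whose
open part X' → X is an isomorphism: it inverts that class and the induced functor from the localized
category is an equivalence. -/
theorem result (S : Scheme.{u}) [CompactSpace S] [QuasiSeparatedSpace S] :
    (Cpct.openFunctor S).IsLocalization (Cpct.isoOpen S) := by
  haveI := Groth.Agent.Cpct15.hasRightCalculusOfFractions (S := S)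
  let W := Cpct.isoOpen S
  let F := Cpct.openFunctor S
  have hinv : W.IsInvertedBy F := by
    intro A B f hf
    haveI : IsIso (Cpct.restr f) := hf
    haveI : IsIso ((ObjectProperty.ι (Cpct.IsCompactifyable S)).map (F.map f)) := by
      show IsIso (Cpct.openOver.map f)
      haveI : IsIso ((Over.forget S).map (Cpct.openOver.map f)) := by
        show IsIso (Cpct.restr f)
        infer_instance
      exact isIso_of_reflects_iso _ (Over.forget S)
    exact isIso_of_reflects_iso _ (ObjectProperty.ι (Cpct.IsCompactifyable S))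
  let G := Localization.Construction.lift F hinv
  have hG : W.Q ⋙ G = F := Localization.Construction.fac F hinv
  have iso : W.Q ⋙ G ≅ F := eqToIso hG
  have hmap : ∀ {A B : Cpct.Pair S} (φ : W.RightFraction A B),
      G.map (φ.map W.Q (Localization.inverts _ _)) = iso.hom.app A ≫ φ.map F hinv ≫ iso.inv.app B := by
    intro A B φ
    haveI := hinv _ φ.hs
    haveI : IsIso (W.Q.map φ.s) := Localization.inverts W.Q W _ φ.hs
    rw [← cancel_epi (G.map (W.Q.map φ.s)), ← G.map_comp, MorphismProperty.RightFraction.map_s_comp_map]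
    have n1 := iso.hom.naturality φ.s
    have n2 := iso.inv.naturality φ.f
    simp only [Functor.comp_map] at n1 n2
    rw [reassoc_of% n1, MorphismProperty.RightFraction.map_s_comp_map_assoc]
    rw [n2, ← Category.assoc, Iso.hom_inv_id_app]
    exact (Category.id_comp _).symm
  have hfaith : ∀ (A B : Cpct.Pair S), Function.Injective (fun f : W.Q.obj A ⟶ W.Q.obj B => G.map f) := by
    intro A B f g h
    obtain ⟨φ, rfl⟩ := Localization.exists_rightFraction W.Q W f
    obtain ⟨ψ, rfl⟩ := Localization.exists_rightFraction W.Q W g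
    simp only [hmap, cancel_epi, cancel_mono] at h
    obtain ⟨θ, hθ⟩ := (MorphismProperty.LeftFraction.mk φ.s ψ.s ψ.hs).exists_rightFraction
    simp only at hθ
    have hc : W (θ.s ≫ φ.s) := W.comp_mem _ _ θ.hs φ.hs
    have h1 : F.map (θ.s ≫ φ.f) = F.map (θ.f ≫ ψ.f) := by
      rw [F.map_comp, F.map_comp, ← MorphismProperty.RightFraction.map_s_comp_map φ F hinv,
        ← MorphismProperty.RightFraction.map_s_comp_map ψ F hinv, h, ← Category.assoc, ← Category.assoc,
        ← F.map_comp, ← F.map_comp, hθ]
    have h2 : Cpct.restr (θ.s ≫ φ.f) = Cpct.restr (θ.f ≫ ψ.f) :=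
      congrArg (fun k : Cpct.openOver.obj _ ⟶ Cpct.openOver.obj B => k.left) (congrArg (ObjectProperty.ι (Cpct.IsCompactifyable S)).map h1)
    obtain ⟨A', t, ht, hteq⟩ := Groth.Agent.Cpct15.exists_eq _ _ h2
    haveI : IsIso (W.Q.map t) := Localization.inverts W.Q W _ ht
    haveI : IsIso (W.Q.map (θ.s ≫ φ.s)) := Localization.inverts W.Q W _ hc
    rw [← cancel_epi (W.Q.map (θ.s ≫ φ.s))]
    conv_lhs => rw [W.Q.map_comp, Category.assoc, MorphismProperty.RightFraction.map_s_comp_map, ← W.Q.map_comp]
    conv_rhs => rw [hθ, W.Q.map_comp, Category.assoc, MorphismProperty.RightFraction.map_s_comp_map, ← W.Q.map_comp]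
    rw [← cancel_epi (W.Q.map t), ← W.Q.map_comp, ← W.Q.map_comp, hteq]
  have hfull : ∀ (A B : Cpct.Pair S) (g : F.obj A ⟶ F.obj B), ∃ φ : W.RightFraction A B, φ.map F hinv = g := by
    intro A B g
    haveI := B.isProper
    let g0 : Cpct.openOver.obj A ⟶ Cpct.openOver.obj B := (ObjectProperty.ι (Cpct.IsCompactifyable S)).map g
    let gl : (A.U : Scheme.{u}) ⟶ (B.U : Scheme.{u}) := g0.left
    have hgl : gl ≫ B.U.ι ≫ B.bar.hom = A.U.ι ≫ A.bar.hom := Over.w g0
    obtain ⟨A', v, hv, w, hw⟩ := Groth.Agent.Cpct15.exists_extend A B.bar (gl ≫ B.U.ι) (by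
      rw [Category.assoc]
      exact hgl)
    have hwle : ∀ x, x ∈ A'.U → w.left.base x ∈ B.U := by
      intro x hx
      have := congrArg (fun k => k.base ⟨x, hx⟩) hw
      simp only [Scheme.Hom.comp_apply] at this
      rw [show w.left.base x = _ from this.symm]
      exact (gl.base ((Cpct.restr v).base ⟨x, hx⟩)).2
    let w' : A' ⟶ B := ⟨w, hwle⟩
    have hw' : Cpct.restr w' = Cpct.restr v ≫ gl := by
      rw [← cancel_mono B.U.ι, Groth.Agent.Cpct15.restr_ι, Category.assoc]
      exact hw.symm
    refine ⟨⟨v, hv, w'⟩, ?_⟩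
    haveI := hinv _ hv
    rw [← cancel_epi (F.map v)]
    refine ((MorphismProperty.RightFraction.map_s_comp_map (⟨v, hv, w'⟩ : W.RightFraction A B) F hinv)).trans ?_
    apply (ObjectProperty.ι (Cpct.IsCompactifyable S)).map_injective
    ext1
    exact hw'
  haveI : G.Faithful := ⟨fun {X Y} f g h => by
    obtain ⟨A, rfl⟩ := (Localization.Construction.objEquiv W).surjective X
    obtain ⟨B, rfl⟩ := (Localization.Construction.objEquiv W).surjective Y
    exact hfaith A B h⟩
  haveI : G.Full := ⟨fun {X Y} g => by
    obtain ⟨A, rfl⟩ := (Localization.Construction.objEquiv W).surjective X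
    obtain ⟨B, rfl⟩ := (Localization.Construction.objEquiv W).surjective Y
    obtain ⟨φ, hφ⟩ := hfull A B (iso.inv.app A ≫ g ≫ iso.hom.app B)
    refine ⟨φ.map W.Q (Localization.inverts _ _), ?_⟩
    show G.map (φ.map W.Q (Localization.inverts _ _)) = g
    rw [hmap, hφ]
    simp only [Iso.hom_inv_id_app_assoc, Category.assoc]
    exact (Category.assoc _ _ _).trans ((congrArg (g ≫ ·) (iso.hom_inv_id_app B)).trans (Category.comp_id g))⟩
  haveI : G.EssSurj := ⟨fun Y => by
    obtain ⟨A, ⟨e⟩⟩ := Y.property
    exact ⟨W.Q.obj A, ⟨iso.app A ≪≫ (ObjectProperty.ι (Cpct.IsCompactifyable S)).preimageIso e⟩⟩⟩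
  exact { inverts := hinv, isEquivalence := {} }

end Groth.Agent.S9034
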