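import Mathlib.Topology.Compactness.LocallyCompact
import Mathlib.Topology.Separation.Hausdorff
import Mathlib.Data.Finset.Sigma
import Mathlib

set_option autoImplicit false
universe u
namespace Topology
end Topology
open Topology
namespace CohTop
end CohTop
open CohTop

namespace Groth.Agent.S9038

/-- In the category of Hausdorff locally quasi-compact spaces, call a family of continuous maps f_i :
X_i → X a qc covering when every point of X has a neighbourhood of the form ⋃_{i ∈ t} f_i(E_i) with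
t a finite set of indices and E_i ⊆ X_i quasi-compact. If (f_i : X_i → X) is a qc covering and for
each i the family (g_{ij} : X_{ij} → X_i)_j is a qc covering, then the family of composites X_{ij} →
X, indexed by the pairs (i, j), is a qc covering. -/
theorem result
    {B : Type u} [TopologicalSpace B] [T2Space B] [LocallyCompactSpace B]
    {ι : Type u} {X : ι → Type u} [∀ i, TopologicalSpace (X i)] [∀ i, T2Space (X i)]
    [∀ i, LocallyCompactSpace (X i)]
    (f : ∀ i, X i → B) (hf : ∀ i, Continuous (f i))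
    (hcov : ∀ x : B, ∃ (t : Finset ι) (E : ∀ i, Set (X i)),
      (∀ i ∈ t, IsCompact (E i)) ∧ (⋃ i ∈ t, f i '' E i) ∈ 𝓝 x)
    {κ : ι → Type u} {Y : ∀ i, κ i → Type u} [∀ i j, TopologicalSpace (Y i j)] [∀ i j, T2Space (Y i j)]
    [∀ i j, LocallyCompactSpace (Y i j)]
    (g : ∀ i j, Y i j → X i) (hg : ∀ i j, Continuous (g i j))
    (hcov' : ∀ (i : ι) (x : X i), ∃ (t : Finset (κ i)) (E : ∀ j, Set (Y i j)),
      (∀ j ∈ t, IsCompact (E j)) ∧ (⋃ j ∈ t, g i j '' E j) ∈ 𝓝 x) :
    ∀ x : B, ∃ (t : Finset (Σ i, κ i)) (E : ∀ p : (Σ i, κ i), Set (Y p.1 p.2)),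
      (∀ p ∈ t, IsCompact (E p)) ∧ (⋃ p ∈ t, f p.1 '' (g p.1 p.2 '' E p)) ∈ 𝓝 x := by
  intro x
  classical
  obtain ⟨t, K, hK, hx⟩ := hcov x
  choose u F hF hu using hcov'
  have key : ∀ i ∈ t, ∃ s : Finset (X i), K i ⊆ ⋃ z ∈ s, ⋃ j ∈ u i z, g i j '' F i z j := by
    intro i hi
    obtain ⟨s, -, hs⟩ := (hK i hi).elim_nhds_subcover (fun z => ⋃ j ∈ u i z, g i j '' F i z j)
      (fun z _ => hu i z)
    exact ⟨s, hs⟩
  choose s hs using key
  let s' : ∀ i, Finset (X i) := fun i => if hi : i ∈ t then s i hi else ∅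
  refine ⟨t.sigma fun i => (s' i).biUnion (u i),
    fun p => ⋃ z ∈ (s' p.1).filter (fun z => p.2 ∈ u p.1 z), F p.1 z p.2, ?_, ?_⟩
  · intro p _
    exact Finset.isCompact_biUnion _ fun z hz => hF p.1 z p.2 (Finset.mem_filter.1 hz).2
  · refine Filter.mem_of_superset hx ?_
    rintro y hy
    simp only [Set.mem_iUnion, Set.mem_image] at hy
    obtain ⟨i, hi, a, ha, rfl⟩ := hy
    have ha' := hs i hi ha
    simp only [Set.mem_iUnion, Set.mem_image] at ha'
    obtain ⟨z, hz, j, hj, b, hb, rfl⟩ := ha'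
    have hz' : z ∈ s' i := by simp only [s', dif_pos hi]; exact hz
    refine Set.mem_biUnion (x := (⟨i, j⟩ : Σ i, κ i))
      (Finset.mem_sigma.2 ⟨hi, Finset.mem_biUnion.2 ⟨z, hz', hj⟩⟩) ?_
    exact ⟨g i j b, ⟨b, Set.mem_biUnion (x := z) (Finset.mem_filter.2 ⟨hz', hj⟩) hb, rfl⟩, rfl⟩

end Groth.Agent.S9038
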