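import Groth.Prelude.Def_ModSite
import Groth.Prelude.Def_AlgSpPerf
import Groth.Agent.SiteHom16.LocalFree
import Groth.Agent.SiteDer16.FreeHom

set_option autoImplicit false
universe u
namespace CategoryTheory
end CategoryTheory
namespace CategoryTheory.Limits
end CategoryTheory.Limits
namespace Opposite
end Opposite
open CategoryTheory CategoryTheory.Limits Opposite
namespace ModSite
end ModSite
open ModSite

namespace Groth.Agent.S9041

/-- On a ringed site (C, O), let E be a direct summand of a finite free O-module, p : G → F a surjection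
of O-modules and φ : E → F a morphism. Then locally φ lifts through p: every object V has a covering
sieve such that over each of its arrows W → V there is a morphism E|_W → G|_W whose composite with
p|_W is φ|_W. (The published statement is phrased for modules over the localisation (C/U, O_U) at an
object U and a covering of U; a localised ringed site is again a ringed site, and this row states
the conclusion at every object of an arbitrary ringed site.) -/
theorem result
    {C : Type u} [SmallCategory C] {J : GrothendieckTopology C} (O : Sheaf J CommRingCat.{u})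
    (E F G : ModSite.Mod O) (hE : DCoh.IsFinFreeSummandMod (ModSite.ringSh O) E)
    (p : G ⟶ F) [Epi p] (φ : E ⟶ F) (V : C) :
    ∃ R ∈ J V, ∀ ⦃W : C⦄ (g : W ⟶ V), R g →
      ∃ l : (ModSite.restr O W).obj E ⟶ (ModSite.restr O W).obj G,
        l ≫ (ModSite.restr O W).map p = (ModSite.restr O W).map φ := by
  classical
  obtain ⟨n, iE, pE, hip⟩ := hE
  let T := ULift.{u} (Fin n)
  let ψ : (SheafOfModules.free T : ModSite.Mod O) ⟶ F := pE ≫ φ
  let s : T → (W : C) → ModSite.sect F W := fun j W =>
    ((SheafOfModules.ιFree j ≫ ψ).val.app (op W)).hom (1 : O.obj.obj (op W))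
  haveI := Groth.Agent.SiteDer16.preservesFiniteColimits_toSheaf (R := ModSite.ringSh O)
  haveI : Epi ((SheafOfModules.toSheaf.{u} (ModSite.ringSh O)).map p) := inferInstance
  have hsurj : Sheaf.IsLocallySurjective ((SheafOfModules.toSheaf.{u} (ModSite.ringSh O)).map p) :=
    (Sheaf.isLocallySurjective_iff_epi' AddCommGrpCat.{u} _).2 inferInstance
  let Sv : T → Sieve V := fun j =>
    Presheaf.imageSieve ((SheafOfModules.toSheaf.{u} (ModSite.ringSh O)).map p).hom (s j V)
  have hR : ∀ A : Finset T, A.inf Sv ∈ J V := fun A => by
    induction A using Finset.induction_on with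
    | empty => exact J.top_mem V
    | insert a A _ ih =>
      rw [Finset.inf_insert]
      exact J.intersection_covering (Presheaf.imageSieve_mem J _ (U := op V) _) ih
  refine ⟨Finset.univ.inf Sv, hR _, fun W g hg => ?_⟩
  have hl : ∀ j, ∃ t : ModSite.sect G W, (p.val.app (op W)).hom t = s j W := fun j => by
    obtain ⟨t, ht⟩ := (Finset.inf_le (f := Sv) (Finset.mem_univ j)) _ hg
    refine ⟨t, ht.trans ?_⟩
    refine (PresheafOfModules.naturality_apply (SheafOfModules.ιFree j ≫ ψ).val g.op _).symm.trans ?_
    exact congrArg _ (map_one (O.obj.map g.op).hom)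
  choose t ht using hl
  haveI := Groth.Agent.DerCompLib.preservesColimitsOfShape_restr O W (Discrete T)
  let hc := isColimitCofanMkObjOfIsColimit (ModSite.restr O W) _ _
    (SheafOfModules.isColimitFreeCofan T)
  let l₀ : (ModSite.restr O W).obj (SheafOfModules.free T) ⟶ (ModSite.restr O W).obj G :=
    Cofan.IsColimit.desc hc fun j =>
      (Groth.Agent.SiteHom16.topEquiv ((ModSite.restr O W).obj G)).symm (t j)
  have key : l₀ ≫ (ModSite.restr O W).map p = (ModSite.restr O W).map ψ := by
    refine Cofan.IsColimit.hom_ext hc _ _ fun j => ?_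
    change (ModSite.restr O W).map (SheafOfModules.ιFree j) ≫ l₀ ≫ _ = _
    refine (Category.assoc _ _ _).symm.trans ((congrArg (· ≫ (ModSite.restr O W).map p)
      (Cofan.IsColimit.fac hc _ j)).trans ?_)
    change _ = (ModSite.restr O W).map (SheafOfModules.ιFree j) ≫ (ModSite.restr O W).map ψ
    rw [← Functor.map_comp]
    refine (Groth.Agent.SiteHom16.topEquiv ((ModSite.restr O W).obj F)).injective ?_
    refine (Groth.Agent.SiteHom16.topEquiv_comp _ _).trans ?_
    rw [AddEquiv.apply_symm_apply]
    exact ht j
  refine ⟨(ModSite.restr O W).map iE ≫ l₀, ?_⟩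
  rw [Category.assoc, key, ← Functor.map_comp]
  simp [ψ, reassoc_of% hip]

end Groth.Agent.S9041
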