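import Groth.Prelude.Def_ModSite
import Groth.Prelude.Def_CohCx
import Groth.Prelude.Def_CohDer
import Mathlib.Algebra.Homology.DerivedCategory.TStructure
import Groth.Agent.HTop16.CollCompact

set_option autoImplicit false
universe u
namespace CategoryTheory
end CategoryTheory
namespace CategoryTheory.Limits
end CategoryTheory.Limits
namespace Opposite
end Opposite
open CategoryTheory CategoryTheory.Limits Opposite
namespace ModSite
end ModSite
open ModSite

namespace Groth.Agent.S9047

/-- Let (C, O) be a ringed site with fibre products, B a class of objects and Cov a class of finite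
covering families such that (1) for a family in Cov over U, U and all iterated fibre products of its
members lie in B, and (2) every covering sieve of a member of B contains a family from Cov. Then for
U in B the module j_{U!} O_U behaves as a compact object of D^+(O), meaning: for every family (M_i)
of objects of D(O) which is uniformly bounded below and whose direct sum exists, ⊕_i Hom(j_{U!} O_U,
M_i) → Hom(j_{U!} O_U, ⊕_i M_i) is bijective. The derived category of O-modules is an instance
hypothesis. -/
theorem result
    {C : Type u} [SmallCategory C] [HasPullbacks C] {J : GrothendieckTopology C} (O : Sheaf J CommRingCat.{u})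
    (B : Set C) (Cov : ∀ (U : C) (ι : Type u), (ι → Over U) → Prop)
    (h1 : ∀ (U : C) (ι : Type u) (Y : ι → Over U), Cov U ι Y → Finite ι ∧ U ∈ B ∧
      Sieve.ofArrows (fun i => (Y i).left) (fun i => (Y i).hom) ∈ J U ∧
      ∀ (p : ℕ) (a : Fin (p + 1) → ι), (∏ᶜ fun k => Y (a k)).left ∈ B)
    (h2 : ∀ U ∈ B, ∀ T ∈ J U, ∃ (ι : Type u) (Y : ι → Over U), Cov U ι Y ∧ ∀ i, T.arrows (Y i).hom)
    [HasDerivedCategory.{u} (ModSite.Mod O)]
    (U : C) (hU : U ∈ B) {I : Type u} (M : I → DerivedCategory (ModSite.Mod O)) [HasCoproduct M]
    (a : ℤ) (hM : ∀ i, (M i).IsGE a) :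
    Function.Bijective (CohDer.homSumToHomCoprod
      ((DerivedCategory.singleFunctor (ModSite.Mod O) 0).obj (ModSite.freeOn O U)) M) := by
  haveI := HTop16.CompactBdd.hasCoproducts_derived (A := ModSite.Mod O)
  have hH : ∀ (n : ℕ) (Λ : Type u) [SmallCategory Λ] [IsFiltered Λ] (G : Λ ⥤ Sheaf J AddCommGrpCat.{u}),
      PreservesColimit G ((Abelian.extFunctor.{u} n).obj (op (CohCx.freeSheaf J U))) := by
    intro n Λ _ _ G
    haveI := HTop16.CollColim.preservesColimit_H (J := J) B Cov h1 h2 hU n G
    exact preservesColimit_of_natIso G
      (NatIso.ofComponents (fun F => Iso.refl _) (fun f => (Category.comp_id _).trans (Category.id_comp _).symm) :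
        (Sheaf.cohomologyPresheafFunctor J n).flip.obj (op U) ≅
          (Abelian.extFunctor.{u} n).obj (op (CohCx.freeSheaf J U)))
  exact HTop16.CompactBdd.bijective_of_fin' M _ (HTop16.CompactBdd.fin'_pt
    (fun p ι => HTop16.QcSum.preservesCoproducts_of_finite_support (Abelian.extFunctorObj (ModSite.freeOn O U) p) ι
      (fun F x => HTop16.CollCompact.ext_finite_support O U hH F p x)) M a hM 0)

end Groth.Agent.S9047
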