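import Groth.Prelude.Def_ModSite
import Groth.Prelude.Def_CohCx
import Mathlib.Algebra.Category.ModuleCat.Presheaf.Free
import Mathlib.Algebra.Homology.DerivedCategory.Ext.Basic
import Groth.Agent.SiteDer16.ExtCompare
import Groth.Agent.SiteDer16.ModAcyclic
import Groth.Agent.DCat.ModulesGrothendieck
import Groth.Agent.Coherent.ModulesExact
import Groth.Agent.SiteDer16.FreeHom

set_option autoImplicit false
universe u
namespace CategoryTheory
end CategoryTheory
namespace CategoryTheory.Limits
end CategoryTheory.Limits
namespace Opposite
end Opposite
open CategoryTheory CategoryTheory.Limits Opposite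
namespace ModSite
end ModSite
open ModSite

namespace Groth.Agent.S9048

/-- On a ringed site (C, O), for a sheaf of sets K and an O-module F with underlying abelian sheaf F_ab,
the cohomology groups H^p(K, F) computed on Mod(O) — the derived functors of F ↦ Mor(K, F), i.e. the
Ext groups out of the free O-module O[K] on K — agree with H^p(K, F_ab) computed on abelian sheaves.
Stated as the existence of a group isomorphism; the Ext groups of Mod(O) are an instance hypothesis. -/
theorem result
    {C : Type u} [SmallCategory C] {J : GrothendieckTopology C} (O : Sheaf J CommRingCat.{u})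
    [HasExt.{u} (ModSite.Mod O)] (K : Sheaf J (Type u)) (F : ModSite.Mod O) (p : ℕ) :
    Nonempty (Abelian.Ext ((ModSite.sheafify O).obj ((PresheafOfModules.free (ModSite.ringSh O).obj).obj K.obj)) F p ≃+
      CohCx.HK K (ModSite.toAb F) p) := by
  haveI := Groth.Agent.SiteDer16.preservesFiniteColimits_toSheaf (ModSite.ringSh O)
  refine Groth.Agent.SiteDer16.nonempty_ext_equiv (SheafOfModules.toSheaf.{u} (ModSite.ringSh O))
    (fun G => Groth.Agent.SiteDer16.freeHomEquiv (ModSite.ringSh O) K.obj G)
    (fun x f => Groth.Agent.SiteDer16.freeHomEquiv_comp (ModSite.ringSh O) K.obj x f) (fun I hI m => ?_) F p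
  exact Groth.Agent.SiteDer16.ModAcyclic.isTotallyAcyclic_toSheaf (ModSite.ringSh O) I K m

end Groth.Agent.S9048
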