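import Groth.Prelude.Def_ModSite
import Groth.Prelude.Def_AlgSpPerf
import Mathlib.Algebra.Homology.DerivedCategory.ExactFunctor
import Groth.Agent.HTop16.SiteHtpy

set_option autoImplicit false
universe u
namespace CategoryTheory
end CategoryTheory
namespace CategoryTheory.Limits
end CategoryTheory.Limits
namespace Opposite
end Opposite
open CategoryTheory CategoryTheory.Limits Opposite
namespace ModSite
end ModSite
open ModSite

namespace Groth.Agent.S9053

/-- On a ringed site (C, O), let E be a strictly perfect complex of O-modules, F a complex of O-modules
and α : E → F a morphism in D(O). Then locally α is represented by a morphism of complexes: every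
object V has a covering sieve such that over each of its arrows W → V the restriction α|_W in
D(O_W), namely the image of α under the derived functor of the exact restriction functor, equals the
class of a morphism of complexes E|_W → F|_W (up to the canonical identifications of the derived
restriction of a complex with the restricted complex). Only this first part is stated; the second
part of the published lemma carries no proof in the text. The derived categories, additivity and
right exactness of restriction are instance hypotheses (always satisfied). (The published statement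
is phrased over the localisation (C/U, O_U) at an object U with a covering of U; this row states it
at every object of an arbitrary ringed site, which covers that case.) -/
theorem result
    {C : Type u} [SmallCategory C] {J : GrothendieckTopology C} (O : Sheaf J CommRingCat.{u})
    [HasDerivedCategory.{u} (ModSite.Mod O)] [∀ W : C, HasDerivedCategory.{u} (ModSite.Mod (O.over W))]
    [∀ W : C, (ModSite.restr O W).Additive] [∀ W : C, PreservesFiniteColimits (ModSite.restr O W)]
    (E F : CochainComplex (ModSite.Mod O) ℤ) (hE : DCoh.IsStrictlyPerfectMod (ModSite.ringSh O) E)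
    (α : DerivedCategory.Q.obj E ⟶ DerivedCategory.Q.obj F) (V : C) :
    ∃ R ∈ J V, ∀ ⦃W : C⦄ (g : W ⟶ V), R g →
      ∃ α' : ((ModSite.restr O W).mapHomologicalComplex (ComplexShape.up ℤ)).obj E ⟶
          ((ModSite.restr O W).mapHomologicalComplex (ComplexShape.up ℤ)).obj F,
        (ModSite.restr O W).mapDerivedCategory.map α =
          (ModSite.restr O W).mapDerivedCategoryFactors.hom.app E ≫ DerivedCategory.Q.map α' ≫
            (ModSite.restr O W).mapDerivedCategoryFactors.inv.app F := by
  obtain ⟨F', γ, s, hs, rfl⟩ := DerivedCategory.left_fac α
  obtain ⟨⟨a, b, hab⟩, hf⟩ := hE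
  have hq : ∀ j, IsIso (HomologicalComplex.homologyMap s j) := fun j =>
    (NatIso.isIso_map_iff (DerivedCategory.homologyFunctorFactors (ModSite.Mod O) j) s).1
      (haveI := hs; inferInstanceAs (IsIso ((DerivedCategory.homologyFunctor (ModSite.Mod O) j).map (DerivedCategory.Q.map s))))
  haveI := hq a
  obtain ⟨R, hR, hlift⟩ := Groth.Agent.HTop16.SiteHtpy.exists_lift (G := F) ⟨⟨a, b, hab⟩, hf⟩ γ s a
    (fun i hi => hab i (Or.inl hi)) (fun j _ => hq j) inferInstance V
  refine ⟨R, hR, fun W g hg => ?_⟩
  obtain ⟨β, ⟨H⟩⟩ := hlift g hg
  refine ⟨β, ?_⟩
  let T := ModSite.restr O W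
  haveI := hs
  have hH : DerivedCategory.Q.map β ≫ DerivedCategory.Q.map ((T.mapHomologicalComplex (ComplexShape.up ℤ)).map s) =
      DerivedCategory.Q.map ((T.mapHomologicalComplex (ComplexShape.up ℤ)).map γ) := by
    rw [← Functor.map_comp]
    have h₁ := congrArg DerivedCategory.Qh.map (HomotopyCategory.eq_of_homotopy _ _ H)
    exact (NatIso.naturality_1 (DerivedCategory.quotientCompQhIso _) _).symm.trans
      ((congrArg (fun t => _ ≫ t ≫ _) h₁).trans (NatIso.naturality_1 (DerivedCategory.quotientCompQhIso _) _))
  rw [Functor.map_comp, Functor.map_inv, IsIso.comp_inv_eq]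
  rw [Category.assoc, Category.assoc]
  have nγ := T.mapDerivedCategoryFactors.hom.naturality γ
  have ns := T.mapDerivedCategoryFactors.hom.naturality s
  dsimp [T] at nγ ns hH
  rw [← cancel_mono (T.mapDerivedCategoryFactors.hom.app F')]
  dsimp [T]
  simp only [Category.assoc]
  rw [ns, Iso.inv_hom_id_app_assoc, hH, nγ]

end Groth.Agent.S9053
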