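import Groth.Statements.S9055
import Groth.Agent.SiteTen.KFlat
import Mathlib.Algebra.Homology.BifunctorAssociator

set_option autoImplicit false
set_option backward.isDefEq.respectTransparency false
set_option backward.defeqAttrib.useBackward true
universe u
open CategoryTheory CategoryTheory.Limits Opposite
attribute [local instance] HasDerivedCategory.standard
open ModSite

namespace Groth.Agent.S9055

open CategoryTheory CategoryTheory.Limits Opposite MonoidalCategory HomologicalComplex
open Groth.Agent.DCat Groth.Agent.SiteTen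

section

variable {C : Type u} [SmallCategory C] {J : GrothendieckTopology C} {O : Sheaf J CommRingCat.{u}}

local notation "sh" => ModSite.shPre O
local notation "toP" => ModSite.toPre O

variable (M N P : ModSite.Mod O)

/-- The first comparison. -/
noncomputable def leftIso : (sh).obj (((toP).obj M ⊗ (toP).obj N) ⊗ (toP).obj P) ≅ ten O (ten O M N) P :=
  @asIso _ _ _ _ ((sh).map (η O ((toP).obj M ⊗ (toP).obj N) ▷ (toP).obj P))
    (isIso_shPre_whiskerRight _ _ (isW_unit _))

/-- The second comparison. -/
noncomputable def rightIso : (sh).obj ((toP).obj M ⊗ ((toP).obj N ⊗ (toP).obj P)) ≅ ten O M (ten O N P) :=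
  @asIso _ _ _ _ ((sh).map ((toP).obj M ◁ η O ((toP).obj N ⊗ (toP).obj P)))
    (isIso_shPre_whiskerLeft _ _ (isW_unit _))

/-- The associator. -/
noncomputable def assocIso : ten O (ten O M N) P ≅ ten O M (ten O N P) :=
  (leftIso M N P).symm ≪≫ (sh).mapIso (α_ _ _ _) ≪≫ rightIso M N P

variable {M N P}

lemma η_naturality {A B : ModSite.preMod O} (φ : A ⟶ B) : φ ≫ η O B = η O A ≫ (toP).map ((sh).map φ) :=
  (shAdj O).unit.naturality φ

lemma assocIso_nat {M' N' P' : ModSite.Mod O} (f : M ⟶ M') (g : N ⟶ N') (h : P ⟶ P') :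
    (sh).map ((toP).map ((sh).map ((toP).map f ⊗ₘ (toP).map g)) ⊗ₘ (toP).map h) ≫ (assocIso M' N' P').hom =
      (assocIso M N P).hom ≫ (sh).map ((toP).map f ⊗ₘ (toP).map ((sh).map ((toP).map g ⊗ₘ (toP).map h))) := by
  simp only [assocIso, Iso.trans_hom, Iso.symm_hom, Functor.mapIso_hom, Category.assoc]
  rw [Iso.eq_inv_comp, ← Category.assoc, ← Category.assoc]
  have hi : (leftIso M' N' P').hom ≫ (leftIso M' N' P').inv = 𝟙 _ := Iso.hom_inv_id _
  have e₁ : (leftIso M N P).hom ≫
      (sh).map ((toP).map ((sh).map ((toP).map f ⊗ₘ (toP).map g)) ⊗ₘ (toP).map h) =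
      (sh).map (((toP).map f ⊗ₘ (toP).map g) ⊗ₘ (toP).map h) ≫ (leftIso M' N' P').hom := by
    show (sh).map (η O ((toP).obj M ⊗ (toP).obj N) ▷ (toP).obj P) ≫ _ =
      _ ≫ (sh).map (η O ((toP).obj M' ⊗ (toP).obj N') ▷ (toP).obj P')
    rw [← Functor.map_comp, ← Functor.map_comp, ← MonoidalCategory.tensorHom_id, ← MonoidalCategory.tensorHom_id,
      MonoidalCategory.tensorHom_comp_tensorHom, MonoidalCategory.tensorHom_comp_tensorHom, ← η_naturality,
      Category.id_comp, Category.comp_id]
  rw [e₁, Category.assoc ((sh).map _) _ _, hi, Category.comp_id]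
  simp only [rightIso, asIso_hom]
  rw [← Functor.map_comp, ← Functor.map_comp, ← Functor.map_comp, ← Functor.map_comp]
  congr 1
  rw [MonoidalCategory.associator_naturality_assoc, ← MonoidalCategory.id_tensorHom,
    ← MonoidalCategory.id_tensorHom,
    MonoidalCategory.tensorHom_comp_tensorHom, MonoidalCategory.tensorHom_comp_tensorHom, ← η_naturality,
    Category.id_comp, Category.comp_id]

lemma assocIso_nat₁ {M' : ModSite.Mod O} (f : M ⟶ M') :
    ((tT O).map (((tT O).map f).app N)).app P ≫ (assocIso M' N P).hom =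
      (assocIso M N P).hom ≫ ((tT O).map f).app (((tT O).obj N).obj P) := by
  have h := assocIso_nat f (𝟙 N) (𝟙 P)
  simp only [CategoryTheory.Functor.map_id, MonoidalCategory.tensorHom_id, MonoidalCategory.id_tensorHom,
    MonoidalCategory.id_whiskerRight, MonoidalCategory.whiskerLeft_id] at h
  erw [MonoidalCategory.id_tensorHom_id, CategoryTheory.Functor.map_id, CategoryTheory.Functor.map_id,
    MonoidalCategory.tensorHom_id] at h
  exact h

lemma assocIso_nat₂ {N' : ModSite.Mod O} (g : N ⟶ N') :
    ((tT O).map (((tT O).obj M).map g)).app P ≫ (assocIso M N' P).hom =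
      (assocIso M N P).hom ≫ ((tT O).obj M).map (((tT O).map g).app P) := by
  have h := assocIso_nat (𝟙 M) g (𝟙 P)
  simp only [CategoryTheory.Functor.map_id, MonoidalCategory.tensorHom_id, MonoidalCategory.id_tensorHom,
    MonoidalCategory.id_whiskerRight, MonoidalCategory.whiskerLeft_id] at h
  exact h

lemma assocIso_nat₃ {P' : ModSite.Mod O} (h' : P ⟶ P') :
    ((tT O).obj (((tT O).obj M).obj N)).map h' ≫ (assocIso M N P').hom =
      (assocIso M N P).hom ≫ ((tT O).obj M).map (((tT O).obj N).map h') := by
  have h := assocIso_nat (𝟙 M) (𝟙 N) h'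
  simp only [CategoryTheory.Functor.map_id, MonoidalCategory.tensorHom_id, MonoidalCategory.id_tensorHom,
    MonoidalCategory.id_whiskerRight, MonoidalCategory.whiskerLeft_id] at h
  exact h

variable (O) in
/-- The associator as a natural isomorphism of trifunctors. -/
noncomputable def associator : bifunctorComp₁₂ (tT O) (tT O) ≅ bifunctorComp₂₃ (tT O) (tT O) :=
  NatIso.ofComponents (fun M => NatIso.ofComponents (fun N => NatIso.ofComponents (fun P => assocIso M N P)
    fun h => assocIso_nat₃ h)
    fun g => by ext P : 2; exact assocIso_nat₂ g)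
    fun f => by ext N P : 4; exact assocIso_nat₁ f

instance preservesDiscrete_obj {K : Type} (M : ModSite.Mod O) :
    PreservesColimitsOfShape (Discrete K) ((tT O).obj M) :=
  preservesColimitsOfShape_of_equiv (Discrete.equivalence (Equiv.ulift.{u, 0} (α := K))) _

instance preservesDiscrete_flip {K : Type} (M : ModSite.Mod O) :
    PreservesColimitsOfShape (Discrete K) ((tT O).flip.obj M) :=
  preservesColimitsOfShape_of_equiv (Discrete.equivalence (Equiv.ulift.{u, 0} (α := K))) _

variable (O) in
theorem isKFlatFor_tot {K L : CochainComplex (ModSite.Mod O) ℤ} (hK : IsKFlatFor (tT O) K)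
    (hL : IsKFlatFor (tT O) L) : IsKFlatFor (tT O) (tot (tT O) K L) := fun F hF =>
  acyclic_of_iso' (mapBifunctorAssociator (associator O) F K L (ComplexShape.up ℤ) (ComplexShape.up ℤ)
    (ComplexShape.up ℤ)) (hL _ (hK F hF))

end


/-- On a ringed site (C, O), if K and L are both K-flat complexes of O-modules, so is the total complex
Tot(K ⊗_O L). -/
theorem result
    {C : Type u} [SmallCategory C] {J : GrothendieckTopology C} (O : Sheaf J CommRingCat.{u})
    (K L : CochainComplex (ModSite.Mod O) ℤ) (hK : ModSite.IsKFlat K) (hL : ModSite.IsKFlat L) :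
    ModSite.IsKFlat (((ModSite.tensorCx O).obj K).obj L) := by
  exact (isKFlat_iff _).2 (isKFlatFor_tot O ((isKFlat_iff K).1 hK) ((isKFlat_iff L).1 hL))

end Groth.Agent.S9055
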