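import Groth.Statements.S9056
import Groth.Agent.SiteTen.KFlat

set_option autoImplicit false
universe u
open CategoryTheory CategoryTheory.Limits Opposite
attribute [local instance] HasDerivedCategory.standard
open ModSite

namespace Groth.Agent.S9056

open Groth.Agent Groth.Agent.SiteTen CategoryTheory.Limits Groth.Agent.DCat

/-- On a ringed site (C, O), in a distinguished triangle of K(Mod(O)), if two of the three complexes are
K-flat then so is the third. Distinguished triangles are represented here by mapping cones: for a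
morphism φ : K₁ → K₂ of complexes of O-modules with mapping cone C(φ), each of the three
two-out-of-three implications among K₁, K₂, C(φ) holds. -/
theorem result
    {C : Type u} [SmallCategory C] {J : GrothendieckTopology C} (O : Sheaf J CommRingCat.{u})
    {K₁ K₂ : CochainComplex (ModSite.Mod O) ℤ} (φ : K₁ ⟶ K₂) :
    (ModSite.IsKFlat K₁ → ModSite.IsKFlat K₂ → ModSite.IsKFlat (CochainComplex.mappingCone φ)) ∧
    (ModSite.IsKFlat K₁ → ModSite.IsKFlat (CochainComplex.mappingCone φ) → ModSite.IsKFlat K₂) ∧
    (ModSite.IsKFlat K₂ → ModSite.IsKFlat (CochainComplex.mappingCone φ) → ModSite.IsKFlat K₁) := by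
  simp only [isKFlat_iff]
  let S := CochainComplex.mappingCone.triangleRotateShortComplex φ
  have h : ∀ (a : ModSite.Mod O) (q : ℤ),
      ((S.map (HomologicalComplex.eval _ (ComplexShape.up ℤ) q)).map ((tT O).obj a)).ShortExact :=
    fun a q => shortExact_map_of_splitting
      (fun n => ⟨CochainComplex.mappingCone.triangleRotateShortComplexSplitting φ n⟩) a q
  have hback : IsKFlatFor (tT O) (K₁⟦(1 : ℤ)⟧) → IsKFlatFor (tT O) K₁ := fun h' =>
    (h'.shift (-1)).of_iso ((shiftFunctorCompIsoId _ (1 : ℤ) (-1) (by omega)).app K₁)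
  exact ⟨fun h₁ h₂ => IsKFlatFor.ext₂ (S := S) h h₂ (h₁.shift 1),
    fun h₁ h₃ => IsKFlatFor.ext₁ (S := S) h h₃ (h₁.shift 1),
    fun h₂ h₃ => hback (IsKFlatFor.ext₃ (S := S) h h₂ h₃)⟩

end Groth.Agent.S9056
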