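import Groth.Prelude.Def_SiteCmp
import Groth.Prelude.Def_WeakSerre
import Mathlib.CategoryTheory.Sites.Abelian
import Groth.Agent.SiteDer16.Torsion
import Groth.Agent.SiteDer16.SubcatEquiv
import Groth.Agent.DCat.KInjRes

set_option autoImplicit false
universe u
namespace CategoryTheory
end CategoryTheory
namespace CategoryTheory.Limits
end CategoryTheory.Limits
namespace Opposite
end Opposite
open CategoryTheory CategoryTheory.Limits Opposite
attribute [local instance] HasDerivedCategory.standard
namespace SiteCmp
end SiteCmp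
open SiteCmp

namespace Groth.Agent.S9063

/-- Let C be a site and A ⊂ Ab(C) the Serre subcategory of torsion abelian sheaves. Then the functor
from D(A) to D_A(C) gives an equivalence: the canonical functor D(A) → D(Ab(C)) induced by the exact
inclusion is fully faithful, and a complex lies in its essential image exactly when every cohomology
sheaf of it is torsion. That torsion abelian sheaves form a Serre subcategory is carried as an
instance hypothesis. -/
theorem result
    {C : Type u} [SmallCategory C] (J : GrothendieckTopology C)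
    [(SiteCmp.torsionSh J).IsSerreClass] :
    (WSerre.toDerived (SiteCmp.torsionSh J)).Full ∧ (WSerre.toDerived (SiteCmp.torsionSh J)).Faithful ∧
      ∀ K : DerivedCategory (Sheaf J AddCommGrpCat.{u}),
        WSerre.cohIn (SiteCmp.torsionSh J) K ↔ (WSerre.toDerived (SiteCmp.torsionSh J)).essImage K := by
  open Groth.Agent.SiteDer16 in
  have hB : ∀ M : CochainComplex (Sheaf J AddCommGrpCat.{u}) ℤ, ∃ (I : CochainComplex (Sheaf J AddCommGrpCat.{u}) ℤ)
      (f : M ⟶ I), I.IsKInjective ∧ QuasiIso f ∧ ∀ n, Injective (I.X n) := fun M => by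
    obtain ⟨I, f, hI, hf, -, hinj⟩ := Groth.Agent.DCat.exists_kInj_res M
    exact ⟨I, f, hI, hf, hinj⟩
  haveI : ObjectProperty.IsSerreClass (SiteCmp.torsionSh J) := inferInstance
  haveI : WSerre.IsWeakSerre (SiteCmp.torsionSh J) := inferInstance
  open Groth.Agent.SiteDer16 in
  have hε : ∀ I : CochainComplex (Sheaf J AddCommGrpCat.{u}) ℤ, (∀ n, Injective (I.X n)) →
      (∀ i, SiteCmp.torsionSh J (I.homology i)) →
      QuasiIso ((SubcatEquiv.adjCx (ComplexShape.up ℤ) (Torsion.torsAdj J)).counit.app I) := fun I hI h => by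
    haveI := hI
    exact Torsion.quasiIso_torsι I h
  have hG : ∀ (M : CochainComplex (SiteCmp.torsionSh J).FullSubcategory ℤ) (i : ℤ), SiteCmp.torsionSh J
      ((((SiteCmp.torsionSh J).ι.mapHomologicalComplex (ComplexShape.up ℤ)).obj M).homology i) := fun M i =>
    ObjectProperty.prop_of_epi (P := SiteCmp.torsionSh J) (HomologicalComplex.homologyπ _ i)
      (ObjectProperty.prop_of_mono (P := SiteCmp.torsionSh J) (HomologicalComplex.iCycles _ i) (M.X i).property)
  obtain ⟨h₁, h₂⟩ := Groth.Agent.SiteDer16.SubcatEquiv.fullyFaithful (Groth.Agent.SiteDer16.Torsion.torsAdj J)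
    (SiteCmp.torsionSh J) hB hε hG
  exact ⟨h₁, h₂, fun K => Groth.Agent.SiteDer16.SubcatEquiv.cohIn_iff (Groth.Agent.SiteDer16.Torsion.torsAdj J)
    (SiteCmp.torsionSh J) hB hε hG K⟩

end Groth.Agent.S9063
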