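import Groth.Prelude.Def_SiteCmp
import Groth.Prelude.Def_WeakSerre
import Groth.Agent.SiteDer16.EpsEquiv

set_option autoImplicit false
universe u
namespace CategoryTheory
end CategoryTheory
namespace CategoryTheory.Limits
end CategoryTheory.Limits
namespace Opposite
end Opposite
open CategoryTheory CategoryTheory.Limits Opposite
attribute [local instance] HasDerivedCategory.standard
namespace SiteCmp
end SiteCmp
open SiteCmp

namespace Groth.Agent.S9071

/-- Let τ' be a coarser topology than τ on a category C, O a τ-sheaf of rings and ε the comparison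
morphism from (C_τ, O) to (C_τ', O). Let B be a set of objects and A a full subcategory of
presheaves of O-modules such that (1) every object of A is a τ-sheaf, (2) A forms a weak Serre
subcategory inside Mod(O_τ), (3) each object of C admits a τ'-covering by members of B, and (4)
H^p_τ(U, F) = 0 for U ∈ B, F ∈ A, p > 0. Then the essential image of A under ε_* forms a weak Serre
subcategory inside Mod(O_τ') and ε^*, Rε_* are quasi-inverse equivalences between D_A(O_τ') and
D_A(O_τ): on objects with cohomology sheaves in the respective subcategory, ε^* and Rε_* preserve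
that condition and the unit and counit are isomorphisms. In the order of topologies used here the
finer topology τ is the larger one, J, and τ' is J' ≤ J; A is given as a property of τ-sheaves of
modules (condition (1) built in); flatness of ε, existence of the unbounded Rε_* and an adjunction
ε^* ⊣ Rε_* are hypotheses. -/
theorem result
    {C : Type u} [SmallCategory C] {J J' : GrothendieckTopology C} (h : J' ≤ J) (O : Sheaf J CommRingCat.{u})
    [PreservesFiniteLimits (SiteCmp.eps h O).pull] [SiteCmp.HasRpushD (SiteCmp.eps h O)]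
    (adj : SiteCmp.pullD (SiteCmp.eps h O) ⊣ SiteCmp.RpushD (SiteCmp.eps h O))
    (A : ObjectProperty (ModSite.Mod O)) [WSerre.IsWeakSerre A] (B : Set C)
    (h3 : ∀ U : C, ∃ (ι : Type u) (Y : ι → C) (g : ∀ i, Y i ⟶ U), Sieve.ofArrows Y g ∈ J' U ∧ ∀ i, Y i ∈ B)
    (h4 : ∀ U ∈ B, ∀ F : ModSite.Mod O, A F → ∀ p : ℕ, 0 < p → Subsingleton (ModSite.HU O F p U)) :
    WSerre.IsWeakSerre (A.map (SiteCmp.eps h O).push) ∧
    (∀ Y : DerivedCategory (ModSite.Mod (SiteCmp.epsRing h O)), WSerre.cohIn (A.map (SiteCmp.eps h O).push) Y →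
      WSerre.cohIn A ((SiteCmp.pullD (SiteCmp.eps h O)).obj Y) ∧ IsIso (adj.unit.app Y)) ∧
    (∀ X : DerivedCategory (ModSite.Mod O), WSerre.cohIn A X →
      WSerre.cohIn (A.map (SiteCmp.eps h O).push) ((SiteCmp.RpushD (SiteCmp.eps h O)).obj X) ∧
      IsIso (adj.counit.app X)) := by
  let f := SiteCmp.eps h O
  haveI : HasInjectiveResolutions (ModSite.Mod O) := inferInstance
  haveI hW := SiteDer16.isWeakSerre_map_eps h O A B h3 h4
  haveI := fun F => SiteDer16.isIso_eps_counit h O F
  refine ⟨hW, ?_⟩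
  have hB : ∀ U : C, ∃ (ι : Type u) (Y : ι → C) (g : ∀ i, Y i ⟶ U), Sieve.ofArrows Y g ∈ J U ∧ ∀ i, Y i ∈ B :=
    fun U => by
      obtain ⟨ι, Y, g, hg, hY⟩ := h3 U
      exact ⟨ι, Y, g, h U hg, hY⟩
  have hz : ∀ F : ModSite.Mod O, A F → ∀ p : ℕ, 0 < p → IsZero ((f.Rpush p).obj F) := fun F hF p hp =>
    SiteDer16.isZero_rpush_of_cover f B h3 F p fun V hV => h4 V hV F hF p hp
  refine SiteDer16.equivalence_cohIn adj A (A.map f.push) ?_ ?_ ?_ ?_
  · rintro F' ⟨X, hX, ⟨e⟩⟩
    exact A.prop_of_iso ((asIso (f.adj.counit.app X)).symm ≪≫ f.pull.mapIso e) hX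
  · exact fun F hF => ⟨f.push.obj F, ⟨F, hF, ⟨Iso.refl _⟩⟩, ⟨asIso (f.adj.counit.app F)⟩⟩
  · rintro F' ⟨X, hX, ⟨e⟩⟩
    haveI : IsIso (f.adj.counit.app X) := SiteDer16.isIso_eps_counit h O X
    have h' := SiteDer16.isIso_unit_push f adj X (hz X hX)
    exact (NatTrans.isIso_app_iff_of_iso adj.unit
      ((DerivedCategory.singleFunctor _ 0).mapIso e)).1 h'
  · intro X hX j
    refine ⟨(-j).toNat, fun n hn => ?_⟩
    refine SiteDer16.isIso_homology_rpushD_truncGEπ f A B hB (fun V hV => ⟨0, fun T hT => ?_⟩) 0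
      (fun F hF p hp => hz F hF p (by exact_mod_cast hp)) X hX B h3 (fun V hV => ⟨0, fun T hT => ?_⟩) n j (by omega)
    · obtain ⟨ι, Y, g, h1, h2, h5⟩ := SiteDer16.exists_refinement B hB T hT
      exact ⟨ι, Y, g, h1, h2, fun i F hF k hk => h4 _ (h5 i) F hF k hk⟩
    · obtain ⟨ι, Y, g, h1, h2, h5⟩ := SiteDer16.exists_refinement B h3 T hT
      exact ⟨ι, Y, g, h1, h2, fun i F hF k hk => h4 _ (h5 i) F hF k hk⟩

end Groth.Agent.S9071
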