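import Groth.Prelude.Def_ModSite
import Mathlib.RingTheory.Ideal.Span
import Mathlib.CategoryTheory.Sites.Grothendieck
import Mathlib.RingTheory.Ideal.Span
import Mathlib.RingTheory.Finiteness.Ideal

set_option autoImplicit false
universe u
namespace CategoryTheory
end CategoryTheory
namespace Opposite
end Opposite
open CategoryTheory Opposite
namespace ModSite
end ModSite
open ModSite

namespace Groth.Agent.S9089

/-- Part (1): ⇔ (2), for a ringed site (C, O) with C small and O a sheaf of commutative rings: the
following are equivalent. (1) For every object U and every section f of O over U there is a covering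
sieve on U on each of whose arrows either f or 1 - f restricts to a unit. (2) For every object U,
every n ≥ 1 and all sections f₁, …, fₙ of O over U generating the unit ideal of O(U), there is a
covering sieve on U on each of whose arrows some fᵢ restricts to a unit. -/
theorem result {C : Type u} [SmallCategory C] (J : GrothendieckTopology C)
    (O : Sheaf J CommRingCat.{u}) :
    (∀ (U : C) (f : O.obj.obj (op U)), ∃ S ∈ J U, ∀ ⦃V : C⦄ (g : V ⟶ U), S g →
        IsUnit ((O.obj.map g.op).hom f) ∨ IsUnit ((O.obj.map g.op).hom (1 - f))) ↔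
    (∀ (U : C) (n : ℕ) (f : Fin n → O.obj.obj (op U)), 1 ≤ n → Ideal.span (Set.range f) = ⊤ →
        ∃ S ∈ J U, ∀ ⦃V : C⦄ (g : V ⟶ U), S g → ∃ i, IsUnit ((O.obj.map g.op).hom (f i))) := by
  classical
  refine ⟨fun h => ?_, fun h U f => ?_⟩
  · have key : ∀ (n : ℕ) (U : C) (f a : Fin n → O.obj.obj (op U)), ∑ i, a i * f i = 1 →
        ∃ S ∈ J U, ∀ ⦃V : C⦄ (g : V ⟶ U), S g →
          (∃ i, IsUnit ((O.obj.map g.op).hom (f i))) ∨ Subsingleton (O.obj.obj (op V)) := by
      intro n
      induction n with
      | zero =>
        intro U f a hsum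
        refine ⟨⊤, J.top_mem U, fun V g _ => Or.inr ?_⟩
        have h01 := congrArg (O.obj.map g.op).hom hsum
        rw [Finset.univ_eq_empty, Finset.sum_empty, map_zero, map_one] at h01
        exact subsingleton_of_zero_eq_one h01
      | succ n ih =>
        intro U f a hsum
        obtain ⟨S, hS, hu⟩ := h U (a (Fin.last n) * f (Fin.last n))
        rw [Fin.sum_univ_castSucc] at hsum
        have hloc : ∀ ⦃V : C⦄ (g : V ⟶ U), S g → ∃ T ∈ J V, ∀ ⦃W : C⦄ (k : W ⟶ V), T k →
            (∃ i, IsUnit ((O.obj.map (k ≫ g).op).hom (f i))) ∨ Subsingleton (O.obj.obj (op W)) := by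
          intro V g hg
          rcases hu g hg with h1 | h1
          · refine ⟨⊤, J.top_mem V, fun W k _ => Or.inl ⟨Fin.last n, ?_⟩⟩
            rw [map_mul] at h1
            have h2 := (isUnit_of_mul_isUnit_right h1).map (O.obj.map k.op).hom
            rw [op_comp, Functor.map_comp, CommRingCat.comp_apply]
            exact h2
          · obtain ⟨w, hw⟩ := h1
            obtain ⟨T, hT, hT'⟩ := ih V (fun i => (O.obj.map g.op).hom (f i.castSucc))
              (fun i => ↑w⁻¹ * (O.obj.map g.op).hom (a i.castSucc)) (by
                simp only [mul_assoc]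
                rw [← Finset.mul_sum]
                simp only [← map_mul]
                rw [← map_sum, eq_sub_of_add_eq hsum, ← hw, Units.inv_mul])
            refine ⟨T, hT, fun W k hk => (hT' k hk).imp (fun ⟨i, hi⟩ => ⟨i.castSucc, ?_⟩) id⟩
            rw [op_comp, Functor.map_comp, CommRingCat.comp_apply]
            exact hi
        choose T hT hT' using hloc
        refine ⟨Sieve.bind S.arrows T, J.bind_covering hS fun _ _ hg => hT _ hg, ?_⟩
        rintro W g' ⟨V, k, g, hg, hk, rfl⟩
        exact hT' g hg k hk
    intro U n f hn hspan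
    obtain ⟨a, ha⟩ := (Ideal.mem_span_range_iff_exists_fun).1
      (show (1 : O.obj.obj (op U)) ∈ Ideal.span (Set.range f) from hspan ▸ Submodule.mem_top)
    obtain ⟨S, hS, hS'⟩ := key n U f a ha
    exact ⟨S, hS, fun V g hg => (hS' g hg).elim id fun hs => ⟨⟨0, hn⟩, isUnit_of_subsingleton _⟩⟩
  · obtain ⟨S, hS, hu⟩ := h U 2 ![f, 1 - f] (by norm_num) (by
      refine (Ideal.eq_top_iff_one _).2 (Ideal.mem_span_range_iff_exists_fun.2 ⟨![1, 1], ?_⟩)
      simp [Fin.sum_univ_two])
    refine ⟨S, hS, fun V g hg => ?_⟩
    obtain ⟨i, hi⟩ := hu g hg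
    fin_cases i
    · exact Or.inl hi
    · exact Or.inr hi

end Groth.Agent.S9089
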