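import Groth.Prelude.Def_ModSite2
import Mathlib.RingTheory.LocalRing.Basic
import Mathlib.CategoryTheory.Sites.Point.Basic
import Mathlib.RingTheory.LocalRing.Basic
import Mathlib.Algebra.Category.Ring.FilteredColimits

set_option autoImplicit false
universe u
namespace CategoryTheory
end CategoryTheory
namespace Opposite
end Opposite
open CategoryTheory Opposite
namespace ModSite
end ModSite
open ModSite

namespace Groth.Agent.S9090

/-- Part (1): ⇒ (2), for a ringed site (C, O) with C small and O a sheaf of commutative rings: if for
every object U and every section f of O over U there is a covering sieve on U on each of whose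
arrows either f or 1 - f restricts to a unit, then at every point p of the site the stalk O_p is the
zero ring or is local. -/
theorem result {C : Type u} [SmallCategory C] {J : GrothendieckTopology C}
    (O : Sheaf J CommRingCat.{u})
    (h : ∀ (U : C) (f : O.obj.obj (op U)), ∃ S ∈ J U, ∀ ⦃V : C⦄ (g : V ⟶ U), S g →
        IsUnit ((O.obj.map g.op).hom f) ∨ IsUnit ((O.obj.map g.op).hom (1 - f)))
    (p : GrothendieckTopology.Point.{u} J) :
    Subsingleton (ModSite.stalkRing p O) ∨ IsLocalRing (ModSite.stalkRing p O) := by
  classical
  by_cases hs : Subsingleton (ModSite.stalkRing p O)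
  · exact Or.inl hs
  right
  haveI := not_subsingleton_iff_nontrivial.1 hs
  refine IsLocalRing.of_isUnit_or_isUnit_one_sub_self fun a => ?_
  obtain ⟨X, x, r, rfl⟩ := p.toPresheafFiber_jointly_surjective (P := O.obj) a
  obtain ⟨S, hS, hu⟩ := h X r
  obtain ⟨V, g, hg, v, rfl⟩ := p.jointly_surjective S hS x
  have e : ∀ t, (p.toPresheafFiber X (p.fiber.map g v) O.obj).hom t =
      (p.toPresheafFiber V v O.obj).hom ((O.obj.map g.op).hom t) :=
    fun t => (p.toPresheafFiber_w_apply g v O.obj t).symm
  rcases hu g hg with h1 | h1
  · left
    show IsUnit ((p.toPresheafFiber X (p.fiber.map g v) O.obj).hom r)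
    rw [e]; exact h1.map _
  · right
    show IsUnit (1 - (p.toPresheafFiber X (p.fiber.map g v) O.obj).hom r)
    have h2 : IsUnit ((p.toPresheafFiber X (p.fiber.map g v) O.obj).hom (1 - r)) := by
      rw [e]; exact h1.map _
    rw [map_sub, map_one] at h2
    exact h2

end Groth.Agent.S9090
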