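import Groth.Prelude.Def_ModSite2
import Mathlib.RingTheory.LocalRing.Basic
import Groth.Agent.SiteHom16.StalkFlat
import Mathlib.CategoryTheory.Sites.Point.Conservative
import Groth.Agent.SiteHom16.StalkFlat
import Mathlib.CategoryTheory.Sites.Point.Conservative
import Mathlib.RingTheory.LocalRing.Basic
import Mathlib.Algebra.Category.Ring.FilteredColimits

set_option autoImplicit false
universe u
namespace CategoryTheory
end CategoryTheory
namespace Opposite
end Opposite
open CategoryTheory Opposite
namespace ModSite
end ModSite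
open ModSite

namespace Groth.Agent.S9091

/-- Part (2): ⇒ (1) when the site has enough points, for a ringed site (C, O) with C small and O a sheaf
of commutative rings: if at every point p of the site the stalk O_p is the zero ring or is local,
then for every object U and every section f of O over U there is a covering sieve on U on each of
whose arrows either f or 1 - f restricts to a unit. -/
theorem result {C : Type u} [SmallCategory C] {J : GrothendieckTopology C}
    (O : Sheaf J CommRingCat.{u}) [GrothendieckTopology.HasEnoughPoints.{u} J]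
    (h : ∀ p : GrothendieckTopology.Point.{u} J, Subsingleton (ModSite.stalkRing p O) ∨ IsLocalRing (ModSite.stalkRing p O))
    (U : C) (f : O.obj.obj (op U)) :
    ∃ S ∈ J U, ∀ ⦃V : C⦄ (g : V ⟶ U), S g →
        IsUnit ((O.obj.map g.op).hom f) ∨ IsUnit ((O.obj.map g.op).hom (1 - f)) := by
  classical
  let S : Sieve U :=
    { arrows := fun V g => IsUnit ((O.obj.map g.op).hom f) ∨ IsUnit ((O.obj.map g.op).hom (1 - f))
      downward_closed := fun {V W g} hg k => by
        simp only [op_comp, Functor.map_comp, CommRingCat.comp_apply]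
        exact hg.imp (fun h => h.map _) (fun h => h.map _) }
  refine ⟨S, ?_, fun V g hg => hg⟩
  obtain ⟨P, hsmall, hP⟩ := GrothendieckTopology.HasEnoughPoints.exists_objectProperty.{u} J
  rw [show S = Sieve.ofArrows (fun i : S.arrows.category => i.obj.left) (fun i => i.obj.hom) from
    (Sieve.ofArrows_category S).symm, hP.jointly_reflect_ofArrows_mem_of_small]
  intro Φ x
  let p := Φ.obj
  have key : ∀ t : O.obj.obj (op U), IsUnit ((p.toPresheafFiber U x O.obj).hom t) →
      ∃ (V : C) (g : V ⟶ U) (v : p.fiber.obj V), p.fiber.map g v = x ∧ IsUnit ((O.obj.map g.op).hom t) := by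
    intro t ht
    obtain ⟨c, hc⟩ := isUnit_iff_exists_inv.1 ht
    obtain ⟨Y, y, r, rfl⟩ := p.toPresheafFiber_jointly_surjective (P := O.obj) c
    obtain ⟨W, w, g, k, hgw, hkw⟩ := Groth.Agent.SiteHom16.exists_refine p x y
    subst hgw hkw
    have h1 : (p.toPresheafFiber W w O.obj).hom ((O.obj.map g.op).hom t * (O.obj.map k.op).hom r) =
        (p.toPresheafFiber W w O.obj).hom 1 := by
      rw [map_mul, map_one, p.toPresheafFiber_w_apply, p.toPresheafFiber_w_apply]
      exact hc
    obtain ⟨Z, a, z, hab, he⟩ := (p.toPresheafFiber_eq_iff' W w _ _).1 h1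
    refine ⟨Z, a ≫ g, z, ?_, ?_⟩
    · rw [Functor.map_comp_apply, hab]
    · rw [op_comp, Functor.map_comp, CommRingCat.comp_apply]
      refine IsUnit.of_mul_eq_one ((O.obj.map a.op).hom ((O.obj.map k.op).hom r)) ?_
      rw [← map_mul]
      exact he.trans (map_one _)
  rcases h p with hs | hl
  · obtain ⟨V, g, v, hv, hu⟩ := key f (@isUnit_of_subsingleton _ _ hs _)
    exact ⟨⟨Over.mk g, Or.inl hu⟩, v, hv⟩
  · haveI : IsLocalRing ((p.presheafFiber (A := CommRingCat.{u})).obj O.obj) := hl
    rcases IsLocalRing.isUnit_or_isUnit_one_sub_self ((p.toPresheafFiber U x O.obj).hom f) with h1 | h1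
    · obtain ⟨V, g, v, hv, hu⟩ := key f h1
      exact ⟨⟨Over.mk g, Or.inl hu⟩, v, hv⟩
    · obtain ⟨V, g, v, hv, hu⟩ := key (1 - f) (by rw [map_sub, map_one]; exact h1)
      exact ⟨⟨Over.mk g, Or.inr hu⟩, v, hv⟩

end Groth.Agent.S9091
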