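import Groth.Prelude.Def_CohSite
import Mathlib.CategoryTheory.Sites.ConstantSheaf
import Mathlib.Algebra.Homology.ShortComplex.ShortExact
import Groth.Agent.SiteCoh.SheafTools
import Groth.Agent.S13791

set_option autoImplicit false
universe u
open CategoryTheory Opposite
open CohSite

namespace Groth.Agent.S9097

open CategoryTheory CategoryTheory.Limits in
/-- A surjection of abelian groups is surjective on sections of constant sheaves. -/
lemma surjective_sections {C : Type u} [SmallCategory C] (J : GrothendieckTopology C)
    {M N : AddCommGrpCat.{u}} (g : M ⟶ N) (hg : Function.Surjective g) (V : Cᵒᵖ) :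
    Function.Surjective (((constantSheaf J AddCommGrpCat.{u}).map g).hom.app V) := by
  choose s hs using hg
  let e := constantCommuteCompose J (forget AddCommGrpCat.{u})
  let t : (forget AddCommGrpCat.{u}).obj N ⟶ (forget AddCommGrpCat.{u}).obj M := TypeCat.ofHom s
  let σ := e.hom.app N ≫ (constantSheaf J (Type u)).map t ≫ e.inv.app M
  have hσ : σ ≫ (sheafCompose J (forget AddCommGrpCat.{u})).map
      ((constantSheaf J AddCommGrpCat.{u}).map g) = 𝟙 _ := by
    simp only [σ, Category.assoc]
    erw [← e.inv.naturality g]
    rw [← Category.assoc ((constantSheaf J (Type u)).map _)]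
    erw [← (constantSheaf J (Type u)).map_comp,
      show t ≫ (forget AddCommGrpCat.{u}).map g = 𝟙 _ from by ext x; exact hs x,
      (constantSheaf J (Type u)).map_id, Category.id_comp, e.hom_inv_id_app]
  exact fun z => ⟨σ.hom.app V z,
    ConcreteCategory.congr_hom (NatTrans.congr_app (congrArg InducedCategory.Hom.hom hσ) V) z⟩

/-- If 0 → A → B → C → 0 is short exact in the category of abelian groups then, for every object U, the
sequence 0 → A̲(U) → B̲(U) → C̲(U) → 0 of sections of the constant abelian sheaves is short exact;
in other words the sequence of constant sheaves is exact even as a sequence of abelian presheaves.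
The instance binder on the sections-of-constant-sheaf functor (it preserves zero morphisms) always
holds and is only needed to form the complex. -/
theorem result {C : Type u} [SmallCategory C] (J : GrothendieckTopology C)
    (S : ShortComplex AddCommGrpCat.{u}) (hS : S.ShortExact) (U : C)
    [(constantSheaf J AddCommGrpCat.{u} ⋙ (sheafSections J AddCommGrpCat.{u}).obj (op U)).PreservesZeroMorphisms] :
    (S.map (constantSheaf J AddCommGrpCat.{u} ⋙ (sheafSections J AddCommGrpCat.{u}).obj (op U))).ShortExact := by
  have h := hS.map_of_exact (constantSheaf J AddCommGrpCat.{u})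
  exact
    { exact := (ShortComplex.ab_exact_iff _).2 fun y hy => Groth.Agent.SiteCoh.sections_exact h U y hy
      mono_f := (AddCommGrpCat.mono_iff_injective _).2
        (@Groth.Agent.SiteCoh.sections_injective _ _ _ _ _ _ h.mono_f U)
      epi_g := (AddCommGrpCat.epi_iff_surjective _).2
        (surjective_sections J S.g ((AddCommGrpCat.epi_iff_surjective _).1 hS.epi_g) (Opposite.op U)) }

end Groth.Agent.S9097
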