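import Groth.Prelude.Def_CohSite
import Mathlib.CategoryTheory.Sites.CoverLifting
import Mathlib.CategoryTheory.Sites.Pullback
import Mathlib.CategoryTheory.Sites.CoverPreserving
import Mathlib.CategoryTheory.Adjunction.Triple

set_option autoImplicit false
universe u
namespace CategoryTheory
end CategoryTheory
open CategoryTheory
namespace CohSite
end CohSite
open CohSite

namespace Groth.Agent.S9108

/-- Let u : C ⥤ D be a functor between small sites which is cocontinuous, continuous (restriction along
u preserves sheaves, and u sends covering families to covering families) and fully faithful; let g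
be the morphism of topoi attached to u, so that g⁻¹ is restriction along u, g_* its right adjoint
and g_! its left adjoint on abelian sheaves. Then for every abelian sheaf F on C the canonical maps
F → g⁻¹g_!F (unit) and g⁻¹g_*F → F (counit) are isomorphisms. -/
theorem result {C D : Type u} [SmallCategory C] [SmallCategory D]
    (J : GrothendieckTopology C) (K : GrothendieckTopology D) (u : C ⥤ D)
    [u.IsCocontinuous J K] [u.IsContinuous J K] (hu : CoverPreserving J K u) [u.Full] [u.Faithful]
    (F : Sheaf J AddCommGrpCat.{u}) :
    IsIso ((u.sheafAdjunctionContinuous AddCommGrpCat.{u} J K).unit.app F) ∧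
      IsIso ((u.sheafAdjunctionCocontinuous AddCommGrpCat.{u} J K).counit.app F) := by
  have hc : ∀ G : Sheaf J AddCommGrpCat.{u},
      IsIso ((u.sheafAdjunctionCocontinuous AddCommGrpCat.{u} J K).counit.app G) := fun G => by
    haveI : IsIso ((sheafToPresheaf J AddCommGrpCat.{u}).map
        ((u.sheafAdjunctionCocontinuous AddCommGrpCat.{u} J K).counit.app G)) := by
      change IsIso ((u.sheafAdjunctionCocontinuous AddCommGrpCat.{u} J K).counit.app G).hom
      rw [Functor.sheafAdjunctionCocontinuous_counit_app_hom]
      haveI : ∀ X, IsIso ((u.op.ranCounit.app G.obj).app X) := fun X =>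
        (u.op.isPointwiseRightKanExtensionRanCounit G.obj (u.op.obj X)).isIso_hom_app
      haveI hcu : IsIso (u.op.ranCounit.app G.obj) := NatIso.isIso_of_isIso_app _
      rw [Functor.ranAdjunction_counit]
      exact hcu
    exact isIso_of_reflects_iso _ (sheafToPresheaf J AddCommGrpCat.{u})
  haveI : IsIso (u.sheafAdjunctionCocontinuous AddCommGrpCat.{u} J K).counit := NatIso.isIso_of_isIso_app _
  let t : Adjunction.Triple (u.sheafPullback AddCommGrpCat.{u} J K)
      (u.sheafPushforwardContinuous AddCommGrpCat.{u} J K)
      (u.sheafPushforwardCocontinuous AddCommGrpCat.{u} J K) :=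
    ⟨u.sheafAdjunctionContinuous AddCommGrpCat.{u} J K, u.sheafAdjunctionCocontinuous AddCommGrpCat.{u} J K⟩
  haveI : IsIso (u.sheafAdjunctionContinuous AddCommGrpCat.{u} J K).unit :=
    t.isIso_unit_iff_isIso_counit.2 this
  exact ⟨inferInstance, hc F⟩

end Groth.Agent.S9108
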