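import Groth.Statements.S9109
import Mathlib.CategoryTheory.Sites.LocallySurjective
import Mathlib.CategoryTheory.Sites.EpiMono
import Mathlib.Algebra.Homology.ShortComplex.ExactFunctor
import Mathlib.Algebra.Category.Grp.Abelian
import Mathlib.CategoryTheory.Sites.Abelian
import Mathlib.CategoryTheory.Preadditive.AdditiveFunctor
import Mathlib.CategoryTheory.Abelian.Exact

set_option autoImplicit false
universe u
open CategoryTheory CategoryTheory.Limits
open CohSite

set_option backward.isDefEq.respectTransparency.types false
set_option backward.isDefEq.respectTransparency false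

namespace Groth.Agent.S9109


/-- Part (1): on a small site (C, J) with a point p: the skyscraper functor p_* from abelian groups to
abelian sheaves on C (right adjoint to the stalk functor at p; its value on A is the sheaf U ↦ ∏_{x
∈ p⁻¹U} A) is exact. As a right adjoint it preserves limits; the statement here is that it also
preserves finite colimits. -/
theorem result {C : Type u} [SmallCategory C] {J : GrothendieckTopology C}
    (p : GrothendieckTopology.Point.{u} J) :
    PreservesFiniteColimits (p.skyscraperSheafFunctor (A := AddCommGrpCat.{u})) := by
  let F := p.skyscraperSheafFunctor (A := AddCommGrpCat.{u})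
  haveI : F.IsRightAdjoint := p.skyscraperSheafAdjunction.isRightAdjoint
  haveI : F.Additive := Functor.additive_of_preserves_binary_products _
  haveI : F.PreservesEpimorphisms := ⟨fun {M N} g hg => by
    haveI : ∀ U, Epi ((((sheafToPresheaf J AddCommGrpCat.{u}).map (F.map g))).app U) := fun U => by
      refine (AddCommGrpCat.epi_iff_surjective _).2 fun t => ?_
      have hg' := (AddCommGrpCat.epi_iff_surjective g).1 hg
      choose a ha using fun x : p.fiber.obj U.unop => hg' (Pi.π (fun _ : p.fiber.obj U.unop => N) x t)
      refine ⟨(CategoryTheory.Limits.Concrete.productEquiv (fun _ : p.fiber.obj U.unop => M)).symm a, ?_⟩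
      refine (Concrete.productEquiv (fun _ : p.fiber.obj U.unop => N)).injective (funext fun x => ?_)
      rw [Concrete.productEquiv_apply_apply, Concrete.productEquiv_apply_apply]
      refine Eq.trans ?_ (ha x)
      show (CategoryTheory.Limits.Pi.map (f := fun _ : p.fiber.obj U.unop => M) (g := fun _ => N) (fun _ => g) ≫ CategoryTheory.Limits.Pi.π (fun _ : p.fiber.obj U.unop => N) x) _ = _
      rw [CategoryTheory.Limits.Pi.map_π, ConcreteCategory.comp_apply, Concrete.productEquiv_symm_apply_π]
    haveI : Epi ((sheafToPresheaf J AddCommGrpCat.{u}).map (F.map g)) := NatTrans.epi_of_epi_app _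
    exact (sheafToPresheaf J AddCommGrpCat.{u}).epi_of_epi_map inferInstance⟩
  haveI : F.PreservesHomology := Functor.preservesHomology_of_preservesEpis_and_kernels F
  exact F.preservesFiniteColimits_of_preservesHomology

end Groth.Agent.S9109
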