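import Groth.Statements.S9110
import Mathlib.RingTheory.Flat.CategoryTheory
import Mathlib.Algebra.Category.ModuleCat.Presheaf.Monoidal
-- import your own Groth.Agent.* helpers here

set_option autoImplicit false
universe u
open CategoryTheory CategoryTheory.Limits
open ModSite MonoidalCategory

namespace Groth.Agent.S9110

variable {C : Type u} [SmallCategory C] {O : Cᵒᵖ ⥤ CommRingCat.{u}}

/-- Tensoring presheaves of modules is computed sectionwise. -/
noncomputable def evalTensorIso (F : PresheafOfModules.{u} (O ⋙ forget₂ CommRingCat.{u} RingCat.{u}))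
    (X : Cᵒᵖ) : tensorRight F ⋙ PresheafOfModules.evaluation _ X ≅
      PresheafOfModules.evaluation _ X ⋙ tensorRight (F.obj X) :=
  NatIso.ofComponents (fun _ => Iso.refl _) (fun f => by
    refine (Category.comp_id _).trans (Eq.trans ?_ (Category.id_comp _).symm)
    exact MonoidalCategory.tensorHom_id _ _)

/-- Let C be a small category, O a presheaf of commutative rings on C and F a presheaf of O-modules such
that each F(U) is a flat O(U)-module. Then F is flat as a presheaf of modules, i.e. the functor G ↦
G ⊗_{p,O} F given by the sectionwise tensor product of presheaves of modules is exact (preserves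
finite limits and finite colimits). -/
theorem result {C : Type u} [SmallCategory C] (O : Cᵒᵖ ⥤ CommRingCat.{u})
    (F : PresheafOfModules.{u} (O ⋙ forget₂ CommRingCat.{u} RingCat.{u}))
    (hF : ∀ X : Cᵒᵖ, Module.Flat (O.obj X) (F.obj X)) :
    PreservesFiniteLimits (MonoidalCategory.tensorRight F) ∧ PreservesFiniteColimits (MonoidalCategory.tensorRight F) := by
  constructor
  · refine ⟨fun J _ _ => ⟨fun {K} => ⟨fun {c} hc =>
      ⟨PresheafOfModules.evaluationJointlyReflectsLimits _ _ fun X => ?_⟩⟩⟩⟩
    haveI : Module.Flat ((O ⋙ forget₂ CommRingCat.{u} RingCat.{u}).obj X) (F.obj X) := hF X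
    haveI : PreservesFiniteLimits (tensorRight (F.obj X)) := inferInstance
    haveI : PreservesLimit K (tensorRight F ⋙ PresheafOfModules.evaluation _ X) :=
      preservesLimit_of_natIso K (evalTensorIso F X).symm
    exact isLimitOfPreserves (tensorRight F ⋙ PresheafOfModules.evaluation _ X) hc
  · refine ⟨fun J _ _ => ⟨fun {K} => ⟨fun {c} hc =>
      ⟨PresheafOfModules.evaluationJointlyReflectsColimits _ _ fun X => ?_⟩⟩⟩⟩
    haveI : PreservesFiniteColimits (tensorRight (F.obj X)) :=
      preservesFiniteColimits_of_natIso (BraidedCategory.tensorLeftIsoTensorRight (F.obj X))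
    haveI : PreservesColimit K (tensorRight F ⋙ PresheafOfModules.evaluation _ X) :=
      preservesColimit_of_natIso K (evalTensorIso F X).symm
    exact isColimitOfPreserves (tensorRight F ⋙ PresheafOfModules.evaluation _ X) hc

end Groth.Agent.S9110
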