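import Groth.Statements.S9111
import Mathlib.RingTheory.Flat.CategoryTheory
import Mathlib.Algebra.Category.ModuleCat.Presheaf.Monoidal
import Mathlib.Algebra.Category.ModuleCat.Presheaf.EpiMono
import Mathlib.Algebra.Category.ModuleCat.Presheaf.Free
import Mathlib.Algebra.Category.ModuleCat.Presheaf.Abelian
-- import your own Groth.Agent.* helpers here

set_option autoImplicit false
set_option linter.style.haveILetI false
universe u
open CategoryTheory CategoryTheory.Limits
open ModSite MonoidalCategory

namespace Groth.Agent.S9111

lemma rTensor_injective_of_presentation {R : Type u} [CommRing R] {a K Q : Type u} [AddCommGroup a] [Module R a]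
    [AddCommGroup K] [Module R K] [AddCommGroup Q] [Module R Q] [Module.Flat R Q]
    {i : K →ₗ[R] Q} {p : Q →ₗ[R] a} (hp : Function.Surjective p) (hip : Function.Exact i p)
    {M N P : Type u} [AddCommGroup M] [Module R M] [AddCommGroup N] [Module R N] [AddCommGroup P] [Module R P]
    (hiP : Function.Injective (i.rTensor P)) {f : M →ₗ[R] N} {g : N →ₗ[R] P} (hf : Function.Injective f)
    (hg : Function.Surjective g) (hfg : Function.Exact f g) : Function.Injective (f.rTensor a) := by
  rw [← LinearMap.lTensor_inj_iff_rTensor_inj]
  rw [injective_iff_map_eq_zero]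
  intro z hz
  obtain ⟨v, rfl⟩ := LinearMap.rTensor_surjective M hp z
  have h1 : p.rTensor N (f.lTensor Q v) = 0 := by
    rw [← LinearMap.comp_apply, LinearMap.rTensor_comp_lTensor, ← LinearMap.lTensor_comp_rTensor]
    exact hz
  obtain ⟨w, hw⟩ := (rTensor_exact N hip hp (f.lTensor Q v)).1 h1
  have h2 : i.rTensor P (g.lTensor K w) = 0 := by
    rw [← LinearMap.comp_apply, LinearMap.rTensor_comp_lTensor, ← LinearMap.lTensor_comp_rTensor,
      LinearMap.comp_apply, hw, ← LinearMap.comp_apply, ← LinearMap.lTensor_comp, hfg.linearMap_comp_eq_zero,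
      LinearMap.lTensor_zero, LinearMap.zero_apply]
  have h3 : g.lTensor K w = 0 := hiP (by rw [h2, map_zero])
  obtain ⟨t, rfl⟩ := (lTensor_exact K hfg hg w).1 h3
  have h4 : v = i.rTensor M t := by
    apply Module.Flat.lTensor_preserves_injective_linearMap (M := Q) f hf
    rw [← hw, ← LinearMap.comp_apply, ← LinearMap.comp_apply, LinearMap.rTensor_comp_lTensor,
      LinearMap.lTensor_comp_rTensor]
  rw [h4, ← LinearMap.comp_apply, ← LinearMap.rTensor_comp, hip.linearMap_comp_eq_zero,
    LinearMap.rTensor_zero, LinearMap.zero_apply]

/-- Let C be a small category and O a presheaf of commutative rings on C. If 0 → F'' → F' → F → 0 is a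
short exact sequence of presheaves of O-modules whose right-hand term F is flat (the sectionwise
tensor product functor - ⊗_{p,O} F is exact), then for every presheaf of O-modules G the tensored
sequence 0 → F'' ⊗_{p,O} G → F' ⊗_{p,O} G → F ⊗_{p,O} G → 0 is short exact. The instance binder (the
functor - ⊗_{p,O} G preserves zero morphisms) always holds and is only needed to form the complex. -/
theorem result {C : Type u} [SmallCategory C] (O : Cᵒᵖ ⥤ CommRingCat.{u})
    (S : ShortComplex (PresheafOfModules.{u} (O ⋙ forget₂ CommRingCat.{u} RingCat.{u}))) (hS : S.ShortExact)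
    (hF : PreservesFiniteLimits (MonoidalCategory.tensorRight S.X₃) ∧ PreservesFiniteColimits (MonoidalCategory.tensorRight S.X₃))
    (G : PresheafOfModules.{u} (O ⋙ forget₂ CommRingCat.{u} RingCat.{u})) [(MonoidalCategory.tensorRight G).PreservesZeroMorphisms] :
    (S.map (MonoidalCategory.tensorRight G)).ShortExact := by
  haveI := hS.mono_f
  haveI := hS.epi_g
  haveI := hF.1
  haveI : PreservesFiniteColimits (tensorRight G) := by
    refine ⟨fun J _ _ => ⟨fun {K} => ⟨fun {c} hc =>
      ⟨PresheafOfModules.evaluationJointlyReflectsColimits _ _ fun X => ?_⟩⟩⟩⟩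
    haveI : PreservesFiniteColimits (tensorRight (G.obj X)) :=
      preservesFiniteColimits_of_natIso (BraidedCategory.tensorLeftIsoTensorRight (G.obj X))
    haveI : PreservesColimit K (tensorRight G ⋙ PresheafOfModules.evaluation _ X) :=
      preservesColimit_of_natIso K (NatIso.ofComponents (fun _ => Iso.refl _) (fun f => by
        refine (Category.comp_id _).trans (Eq.trans ?_ (Category.id_comp _).symm)
        exact (MonoidalCategory.tensorHom_id _ _).symm) :
          PresheafOfModules.evaluation _ X ⋙ tensorRight (G.obj X) ≅ _)
    exact isColimitOfPreserves (tensorRight G ⋙ PresheafOfModules.evaluation _ X) hc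
  -- a sectionwise free cover of `G`
  let R := O ⋙ forget₂ CommRingCat.{u} RingCat.{u}
  let P : PresheafOfModules.{u} R := PresheafOfModules.freeObj (G.presheaf ⋙ forget _)
  let p : P ⟶ G := PresheafOfModules.freeObjDesc (𝟙 _)
  let i : kernel p ⟶ P := kernel.ι p
  refine ShortComplex.ShortExact.mk' (hS.exact.map_of_epi_of_preservesCokernel _ hS.epi_g inferInstance) ?_ ?_
  · apply PresheafOfModules.mono_of_injective
    intro X
    haveI : Module.Flat (R.obj X) (P.obj X) := inferInstanceAs (Module.Flat (R.obj X) (_ →₀ R.obj X))
    haveI : (PresheafOfModules.evaluation R X).Additive := inferInstance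
    have hp : Function.Surjective (p.app X) := fun m => ⟨ModuleCat.freeMk m, ModuleCat.freeDesc_apply _ _⟩
    haveI : Epi p := PresheafOfModules.epi_of_surjective (fun {X} m => ⟨ModuleCat.freeMk m, ModuleCat.freeDesc_apply _ _⟩)
    have hT : (ShortComplex.mk i p (kernel.condition p)).ShortExact :=
      { exact := ShortComplex.exact_of_f_is_kernel _ (kernelIsKernel p) }
    have hT' := hT.map_of_exact (PresheafOfModules.evaluation R X)
    have hS' := hS.map_of_exact (PresheafOfModules.evaluation R X)
    have hiP : Function.Injective ((tensorRight S.X₃).map i |>.app X) :=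
      PresheafOfModules.injective_of_mono _ X
    refine rTensor_injective_of_presentation (a := G.obj X) (P := S.X₃.obj X) hp
      ((ShortComplex.ShortExact.moduleCat_exact_iff_function_exact _).1 hT'.exact) ?_
      ((ModuleCat.mono_iff_injective _).1 hS'.mono_f)
      ((ModuleCat.epi_iff_surjective _).1 hS'.epi_g)
      ((ShortComplex.ShortExact.moduleCat_exact_iff_function_exact _).1 hS'.exact)
    exact hiP
  · exact inferInstanceAs (Epi ((tensorRight G).map S.g))

end Groth.Agent.S9111
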