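import Groth.Prelude.Def_CohSite
import Mathlib.CategoryTheory.Sites.Pullback
import Mathlib.CategoryTheory.Limits.Preserves.Finite
import Mathlib.Algebra.Homology.ShortComplex.ExactFunctor
import Mathlib.CategoryTheory.Sites.EpiMono

set_option autoImplicit false
universe u
open CategoryTheory CategoryTheory.Limits
open CohSite

namespace Groth.Agent.S9121

/-- Part (1): for the morphism of topoi f : Sh(C) → Sh(D) attached to a continuous functor u : D ⥤ C
between small sites whose induced pullback of sheaves of sets is exact (f_* is restriction along u):
if f_* transforms epimorphisms of sheaves of sets into epimorphisms, then f_* on abelian sheaves is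
exact; being a right adjoint it preserves finite limits, and the statement is that it also preserves
finite colimits. -/
theorem result {C D : Type u} [SmallCategory C] [SmallCategory D]
    (J : GrothendieckTopology C) (K : GrothendieckTopology D) (u : D ⥤ C) [u.IsContinuous K J]
    [PreservesFiniteLimits (u.sheafPullback (Type u) K J)]
    [(u.sheafPushforwardContinuous (Type u) K J).PreservesEpimorphisms] :
    PreservesFiniteColimits (u.sheafPushforwardContinuous AddCommGrpCat.{u} K J) := by
  let F := u.sheafPushforwardContinuous AddCommGrpCat.{u} K J
  have : F.IsRightAdjoint :=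
    (u.sheafAdjunctionContinuous AddCommGrpCat.{u} K J).isRightAdjoint
  have : PreservesFiniteLimits F :=
    ⟨fun I _ _ => inferInstance⟩
  have : F.Additive := Functor.additive_of_preserves_binary_products _
  have : F.PreservesEpimorphisms := ⟨fun {X Y} φ hφ => by
    rw [← Sheaf.isLocallySurjective_iff_epi'] at hφ ⊢
    have h1 : Sheaf.IsLocallySurjective ((sheafCompose J (forget AddCommGrpCat.{u})).map φ) :=
      (Presheaf.isLocallySurjective_iff_whisker_forget J φ.hom).1 hφ
    have h2 : Epi ((sheafCompose J (forget AddCommGrpCat.{u})).map φ) :=
      (Sheaf.isLocallySurjective_iff_epi _).1 h1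
    have h3 : Epi ((u.sheafPushforwardContinuous (Type u) K J).map
        ((sheafCompose J (forget AddCommGrpCat.{u})).map φ)) :=
      (u.sheafPushforwardContinuous (Type u) K J).map_epi _
    have h4 := (Sheaf.isLocallySurjective_iff_epi _).2 h3
    exact (Presheaf.isLocallySurjective_iff_whisker_forget K _).2 h4⟩
  rw [Functor.preservesFiniteColimits_iff_forall_exact_map_and_epi]
  intro S hS
  have := hS.epi_g
  exact ⟨((Functor.preservesFiniteLimits_iff_forall_exact_map_and_mono F).1 inferInstance S hS).1,
    inferInstance⟩

end Groth.Agent.S9121
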