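import Groth.Statements.S9128
import Groth.Agent.CommAlg6.CatenaryHeight


set_option autoImplicit false
universe u
open CAlg

namespace Groth.Agent.S9128

/-- A Noetherian local ring A is catenary if and only if the assignment sending a prime p to the Krull
dimension of A/p is a dimension function on Spec A, i.e. it decreases strictly along strict
inclusions of primes and drops by exactly one along inclusions with no prime strictly in between. -/
theorem result (A : Type u) [CommRing A] [IsNoetherianRing A]
    [IsLocalRing A] :
    CAlg.IsCatenary A ↔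
      ∀ p q : PrimeSpectrum A, p < q →
        ringKrullDim (A ⧸ q.asIdeal) < ringKrullDim (A ⧸ p.asIdeal) ∧
          (p ⋖ q → ringKrullDim (A ⧸ p.asIdeal) = ringKrullDim (A ⧸ q.asIdeal) + 1) := by
  let m := IsLocalRing.maximalIdeal A
  have hle : ∀ p : PrimeSpectrum A, p.asIdeal ≤ m := fun p => IsLocalRing.le_maximalIdeal p.2.ne_top
  have hdim : ∀ p : PrimeSpectrum A, ringKrullDim (A ⧸ p.asIdeal) = ((LocCoh.hq p.asIdeal m : ℕ∞) : WithBot ℕ∞) :=
    fun p => (CommAlg6.hq_eq_ringKrullDim_quotient p.asIdeal).symm
  have hfin : ∀ p q : PrimeSpectrum A, p ≤ q → ∃ n : ℕ, LocCoh.hq p.asIdeal q.asIdeal = n := fun p q h =>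
    ⟨_, (ENat.coe_toNat (LocCoh.hq_ne_top h)).symm⟩
  constructor
  · intro hcat p q hpq
    have hadd := CommAlg6.hq_add_eq hcat (p := p.asIdeal) (s := q.asIdeal) (q := m) hpq.le (hle q)
    obtain ⟨a, ha⟩ := hfin p q hpq.le
    obtain ⟨b, hb⟩ := hfin q ⟨m, inferInstance⟩ (hle q)
    obtain ⟨s, hs1, hs2, hs3, hs4⟩ := CommAlg6.exists_saturated_series hpq.le
    have hb' : LocCoh.hq q.asIdeal m = b := hb
    rw [ha] at hs4
    have hlen : s.length = a := by exact_mod_cast hs4
    have hpos : 1 ≤ a := by
      by_contra h0
      have h1 : s.length = 0 := by omega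
      refine hpq.ne ?_
      rw [← hs1, ← hs2]
      exact congrArg s (Fin.ext (by simp [h1]))
    rw [hdim, hdim, ← hadd, ha, hb']
    refine ⟨?_, fun hcov => ?_⟩
    · norm_cast; omega
    · let t : LTSeries (PrimeSpectrum A) := ⟨1, ![p, q], fun i => by fin_cases i; simpa using hpq⟩
      have h1 : s.length = t.length := hcat.2 s t hs1 hs2 hs3 (fun i => by fin_cases i; exact hcov)
      have h2 : t.length = 1 := rfl
      have : a = 1 := by omega
      subst this
      norm_cast; omega
  · intro h
    refine ⟨fun p q hpq => ?_, fun s t h1 h2 hs ht => ?_⟩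
    · obtain ⟨a, ha⟩ := hfin p q hpq
      exact ⟨a, fun s hs1 hs2 => by have := CommAlg6.length_le_hq s hs1 hs2; rw [ha] at this; exact_mod_cast this⟩
    · choose d hd using fun p : PrimeSpectrum A => hfin p ⟨m, inferInstance⟩ (hle p)
      have hd' : ∀ p, ringKrullDim (A ⧸ p.asIdeal) = (d p : WithBot ℕ∞) := fun p => by rw [hdim]; exact congrArg _ (hd p)
      have key : ∀ u : LTSeries (PrimeSpectrum A), (∀ i : Fin u.length, u (Fin.castSucc i) ⋖ u (Fin.succ i)) →
          d u.head = d u.last + u.length := by
        intro u hu
        have : ∀ i : Fin (u.length + 1), d u.head = d (u i) + (i : ℕ) := by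
          intro i
          induction i using Fin.induction with
          | zero => simp [RelSeries.head]
          | succ i ih =>
            have h3 := (h _ _ (hu i).lt).2 (hu i)
            rw [hd', hd'] at h3
            have : d (u i.castSucc) = d (u i.succ) + 1 := by exact_mod_cast h3
            rw [ih, this]; simp; omega
        simpa [RelSeries.last] using this (Fin.last _)
      have k1 := key s hs
      have k2 := key t ht
      rw [h1, h2, k2] at k1
      omega

end Groth.Agent.S9128
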