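import Groth.Statements.S9129
import Groth.Agent.CAlgH3.FlatDepth


set_option autoImplicit false
universe u
open CAlg

namespace Groth.Agent.S9129

/-- Suppose R → S is a flat local homomorphism between Noetherian local rings, with R Cohen–Macaulay.
Assume either that S is finite over R or that the Krull dimension of S is at most that of R. Then
the two rings have equal dimension and S is itself Cohen–Macaulay. -/
theorem result (R S : Type u) [CommRing R] [CommRing S]
    [LocCoh.IsCohenMacaulayLocalRing R] [IsNoetherianRing S] [IsLocalRing S] [Algebra R S]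
    [IsLocalHom (algebraMap R S)] [Module.Flat R S]
    (h : Module.Finite R S ∨ ringKrullDim S ≤ ringKrullDim R) :
    LocCoh.IsCohenMacaulayLocalRing S ∧ ringKrullDim R = ringKrullDim S := by
  let J := (IsLocalRing.maximalIdeal R).map (algebraMap R S)
  have hJ : J ≤ IsLocalRing.maximalIdeal S := ((IsLocalRing.local_hom_TFAE (algebraMap R S)).out 0 2).mp ‹_›
  haveI : Nontrivial (S ⧸ J) := Ideal.Quotient.nontrivial_iff.mpr (ne_top_of_le_ne_top (IsLocalRing.maximalIdeal.isMaximal S).ne_top hJ)
  haveI : IsLocalRing (S ⧸ J) := IsLocalRing.of_surjective' _ Ideal.Quotient.mk_surjective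
  haveI : (IsLocalRing.maximalIdeal S).LiesOver (IsLocalRing.maximalIdeal R) :=
    ⟨((((IsLocalRing.local_hom_TFAE (algebraMap R S)).out 0 4 : _ ↔ (IsLocalRing.maximalIdeal S).comap (algebraMap R S) = IsLocalRing.maximalIdeal R).mp ‹_›)).symm⟩
  haveI : IsNoetherianRing R := inferInstance
  have hadd := Ideal.height_eq_height_add_of_liesOver_of_hasGoingDown (IsLocalRing.maximalIdeal R) (IsLocalRing.maximalIdeal S)
  rw [IsLocalRing.map_maximalIdeal_of_surjective (Ideal.Quotient.mk J) Ideal.Quotient.mk_surjective] at hadd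
  have hle : ringKrullDim S ≤ ringKrullDim R := by
    rcases h with h | h
    · haveI := h
      letI := Ideal.Quotient.field (IsLocalRing.maximalIdeal R)
      haveI : Module.Finite (R ⧸ IsLocalRing.maximalIdeal R) (S ⧸ J) := Module.Finite.of_restrictScalars_finite R _ _
      haveI : IsArtinianRing (S ⧸ J) := IsArtinianRing.of_finite (R ⧸ IsLocalRing.maximalIdeal R) _
      have h0 : (IsLocalRing.maximalIdeal (S ⧸ J)).height = 0 := by
        have h1 : ringKrullDim (S ⧸ J) ≤ 0 := Ring.krullDimLE_iff.mp inferInstance
        rw [← IsLocalRing.maximalIdeal_height_eq_ringKrullDim] at h1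
        exact nonpos_iff_eq_zero.mp (WithBot.coe_le_coe.mp h1)
      rw [← IsLocalRing.maximalIdeal_height_eq_ringKrullDim, ← IsLocalRing.maximalIdeal_height_eq_ringKrullDim, hadd, h0, add_zero]
    · exact h
  refine ⟨CAlgH3.isCohenMacaulayLocalRing_of_flat (A := R) (hle.trans (le_add_of_nonneg_right ?_)), le_antisymm ?_ hle⟩
  · exact WithBot.coe_le_coe.mpr bot_le
  · rw [← IsLocalRing.maximalIdeal_height_eq_ringKrullDim, ← IsLocalRing.maximalIdeal_height_eq_ringKrullDim, hadd]
    exact WithBot.coe_le_coe.mpr le_self_add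

end Groth.Agent.S9129
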