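import Groth.Statements.S9133
import Groth.Agent.CAlgMisc2.KrullAkizuki


set_option autoImplicit false
universe u
open CAlg

namespace Groth.Agent.S9133

/-- Let R → S be a homomorphism of domains compatible with field maps K → L of their fraction fields (so
R → S is injective), where R is Noetherian local of dimension one and L is finite over K. Then each
prime n of S whose contraction to R is the maximal ideal of R is a maximal ideal of S, only finitely
many such n exist, and each quotient S/n is a finite R-module (its residue field is a finite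
extension of that of R). -/
theorem result (R S K L : Type u)
    [CommRing R] [IsDomain R] [IsNoetherianRing R] [IsLocalRing R] (hdim : ringKrullDim R = 1)
    [CommRing S] [IsDomain S] [Algebra R S] [Field K] [Field L] [Algebra R K] [IsFractionRing R K]
    [Algebra S L] [IsFractionRing S L] [Algebra K L] [Algebra R L] [IsScalarTower R K L]
    [IsScalarTower R S L] [FiniteDimensional K L] :
    (∀ n ∈ (IsLocalRing.maximalIdeal R).primesOver S, n.IsMaximal) ∧
      ((IsLocalRing.maximalIdeal R).primesOver S).Finite ∧
      ∀ n ∈ (IsLocalRing.maximalIdeal R).primesOver S, Module.Finite R (S ⧸ n) := by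
  have : Ring.KrullDimLE 1 R := Ring.krullDimLE_iff.mpr (by rw [hdim]; norm_num)
  have hnf : ¬ IsField R := fun h => by
    rw [ringKrullDim_eq_zero_of_isField h] at hdim; exact absurd hdim (by norm_num)
  obtain ⟨x, hxm, hx⟩ := Submodule.exists_mem_ne_zero_of_ne_bot
    ((IsLocalRing.isField_iff_maximalIdeal_eq).not.1 hnf)
  let J : Ideal S := (Ideal.span {x}).map (algebraMap R S)
  let e0 := (Module.finBasis K L).equivFun
  let φ : S →ₗ[R] (Fin (Module.finrank K L) → K) :=
    (e0.toLinearMap.restrictScalars R).comp (IsScalarTower.toAlgHom R S L).toLinearMap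
  have hlen := CAlgH.length_quot_ne_top (K := K) (r := Module.finrank K L) hx S φ
    (e0.injective.comp (IsFractionRing.injective S L))
  have hfl := isFiniteLength_iff_isNoetherian_isArtinian.mp (Module.length_ne_top_iff.mp hlen)
  let e : (S ⧸ (Ideal.span {x} • ⊤ : Submodule R S)) ≃ₗ[R] (S ⧸ J) :=
    (Submodule.quotEquivOfEq _ _ (Ideal.smul_top_eq_map (Ideal.span {x}))).trans
      (Submodule.Quotient.restrictScalarsEquiv R J)
  have hA : IsArtinian R (S ⧸ J) := by
    have := hfl.2; exact isArtinian_of_linearEquiv e
  have hN : IsNoetherian R (S ⧸ J) := by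
    have := hfl.1; exact isNoetherian_of_linearEquiv e
  have hAT : IsArtinianRing (S ⧸ J) := isArtinian_of_tower R hA
  have key : ∀ n ∈ (IsLocalRing.maximalIdeal R).primesOver S, n.IsPrime ∧ J ≤ n := by
    rintro n ⟨hn, ho⟩
    refine ⟨hn, Ideal.map_le_iff_le_comap.2 ((Ideal.span_singleton_le_iff_mem _).2 ?_)⟩
    have h := hxm; rw [ho.over] at h; exact h
  have hmax : ∀ n ∈ (IsLocalRing.maximalIdeal R).primesOver S,
      n.IsMaximal ∧ (n.map (Ideal.Quotient.mk J)).IsPrime ∧
        (n.map (Ideal.Quotient.mk J)).comap (Ideal.Quotient.mk J) = n := by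
    intro n hn
    obtain ⟨hp, hle⟩ := key n hn
    have hk : RingHom.ker (Ideal.Quotient.mk J) ≤ n := Ideal.mk_ker.trans_le hle
    have hp' := Ideal.map_isPrime_of_surjective Ideal.Quotient.mk_surjective hk
    have hc : (n.map (Ideal.Quotient.mk J)).comap (Ideal.Quotient.mk J) = n := by
      rw [Ideal.comap_map_of_surjective _ Ideal.Quotient.mk_surjective,
        ← RingHom.ker_eq_comap_bot, sup_eq_left.2 hk]
    have : (n.map (Ideal.Quotient.mk J)).IsMaximal := IsArtinianRing.isMaximal_of_isPrime _
    exact ⟨hc ▸ Ideal.comap_isMaximal_of_surjective _ Ideal.Quotient.mk_surjective, hp', hc⟩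
  refine ⟨fun n hn => (hmax n hn).1, ?_, fun n hn => ?_⟩
  · refine Set.Finite.of_finite_image ((IsArtinianRing.setOf_isPrime_finite (S ⧸ J)).subset ?_)
      (f := Ideal.map (Ideal.Quotient.mk J)) ?_
    · rintro _ ⟨n, hn, rfl⟩; exact (hmax n hn).2.1
    · intro a ha b hb h
      rw [← (hmax a ha).2.2, ← (hmax b hb).2.2, h]
  · exact Module.Finite.of_surjective (Ideal.Quotient.factorₐ R (key n hn).2).toLinearMap
      (Ideal.Quotient.factor_surjective (key n hn).2)

end Groth.Agent.S9133
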