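import Groth.Statements.S9130
import Groth.Agent.S9133


set_option autoImplicit false
universe u
open CAlg

namespace Groth.Agent.S9130

/-- Let A ⊆ B be domains with B of finite type over A and A Noetherian, and assume every element of B is
algebraic over A. For a height-one prime p of A, only finitely many primes of B lie over p and each
of them has height one. (The published statement assumes that Frac(B) is finite over Frac(A); this
row assumes B algebraic over A, which is equivalent for a finite type extension of domains.) -/
theorem result (A B : Type u) [CommRing A] [IsDomain A]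
    [IsNoetherianRing A] [CommRing B] [IsDomain B] [Algebra A B] [FaithfulSMul A B]
    [Algebra.FiniteType A B] [Algebra.IsAlgebraic A B] (p : Ideal A) [p.IsPrime]
    (hp : p.height = 1) :
    (p.primesOver B).Finite ∧ ∀ q ∈ p.primesOver B, q.height = 1 := by
  classical
  let K := FractionRing A
  let L := FractionRing B
  letI : Algebra K L := FractionRing.liftAlgebra A L
  have : IsScalarTower A K L := FractionRing.isScalarTower_liftAlgebra A L
  have : FiniteDimensional K L := by
    obtain ⟨s, hs⟩ := Algebra.FiniteType.out (R := A) (A := B)
    let T : Set L := algebraMap B L '' s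
    have hT : ∀ x ∈ T, IsIntegral K x := by
      rintro _ ⟨b, -, rfl⟩
      exact ((((Algebra.IsAlgebraic.isAlgebraic (R := A) b).algHom (IsScalarTower.toAlgHom A B L)).extendScalars
        (IsFractionRing.injective A K)).isIntegral)
    have hfin : Finite T := (s.finite_toSet.image _).to_subtype
    have := IntermediateField.finiteDimensional_adjoin (K := K) hT
    have htop : IntermediateField.adjoin K T = ⊤ := by
      rw [eq_top_iff]
      intro z _
      obtain ⟨a, b, hb, rfl⟩ := IsFractionRing.div_surjective B z
      have hB : ∀ b : B, algebraMap B L b ∈ IntermediateField.adjoin K T := by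
        intro b
        have : b ∈ Algebra.adjoin A (s : Set B) := hs ▸ Algebra.mem_top
        induction this using Algebra.adjoin_induction with
        | mem x hx => exact IntermediateField.subset_adjoin K T ⟨x, hx, rfl⟩
        | algebraMap r =>
          rw [← IsScalarTower.algebraMap_apply A B L, IsScalarTower.algebraMap_apply A K L]
          exact IntermediateField.algebraMap_mem _ _
        | add x y _ _ h1 h2 => rw [map_add]; exact add_mem h1 h2
        | mul x y _ _ h1 h2 => rw [map_mul]; exact mul_mem h1 h2
      exact div_mem (hB a) (hB b)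
    rw [htop] at this
    exact Module.Finite.equiv IntermediateField.topEquiv.toLinearEquiv
  let M := Algebra.algebraMapSubmonoid B p.primeCompl
  have hM : M ≤ nonZeroDivisors B := by
    rintro _ ⟨a, ha, rfl⟩
    refine mem_nonZeroDivisors_of_ne_zero fun h => ha ?_
    rw [(map_eq_zero_iff _ (FaithfulSMul.algebraMap_injective A B)).1 h]
    exact p.zero_mem
  let R := Localization.AtPrime p
  let S := Localization M
  have : IsDomain S := IsLocalization.isDomain_localization hM
  letI : Algebra R S := localizationAlgebra p.primeCompl B
  have : IsScalarTower A R S := IsScalarTower.of_algebraMap_eq' (IsLocalization.map_comp _).symm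
  letI : Algebra S L := IsLocalization.localizationAlgebraOfSubmonoidLe S L M (nonZeroDivisors B) hM
  have : IsScalarTower B S L :=
    IsLocalization.localization_isScalarTower_of_submonoid_le S L M (nonZeroDivisors B) hM
  have : IsFractionRing S L := IsFractionRing.isFractionRing_of_isDomain_of_isLocalization M S L
  letI : Algebra R K := IsLocalization.localizationAlgebraOfSubmonoidLe R K p.primeCompl (nonZeroDivisors A)
    p.primeCompl_le_nonZeroDivisors
  have : IsScalarTower A R K :=
    IsLocalization.localization_isScalarTower_of_submonoid_le R K p.primeCompl (nonZeroDivisors A) _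
  have : IsFractionRing R K := IsFractionRing.isFractionRing_of_isDomain_of_isLocalization p.primeCompl R K
  letI : Algebra R L := ((algebraMap S L).comp (algebraMap R S)).toAlgebra
  have : IsScalarTower R S L := IsScalarTower.of_algebraMap_eq' rfl
  have : IsScalarTower R K L := IsScalarTower.of_algebraMap_eq' <| by
    refine IsLocalization.ringHom_ext p.primeCompl (RingHom.ext fun a => ?_)
    show algebraMap S L (algebraMap R S (algebraMap A R a)) = algebraMap K L (algebraMap R K (algebraMap A R a))
    rw [← IsScalarTower.algebraMap_apply A R S, ← IsScalarTower.algebraMap_apply A R K,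
      IsScalarTower.algebraMap_apply A B S, ← IsScalarTower.algebraMap_apply B S L,
      ← IsScalarTower.algebraMap_apply A B L, ← IsScalarTower.algebraMap_apply A K L]
  have hdim : ringKrullDim R = 1 := by
    rw [IsLocalization.AtPrime.ringKrullDim_eq_height p R, hp]; rfl
  obtain ⟨hmax, hfin, -⟩ := S9133.result R S K L hdim
  have disj : ∀ q ∈ p.primesOver B, q.IsPrime ∧ Disjoint (M : Set B) q := by
    rintro q ⟨hq, ho⟩
    refine ⟨hq, Set.disjoint_left.2 ?_⟩
    rintro _ ⟨a, ha, rfl⟩ h
    exact ha (ho.over.symm ▸ h : a ∈ p)
  have hmem : ∀ q ∈ p.primesOver B, q.map (algebraMap B S) ∈ (IsLocalRing.maximalIdeal R).primesOver S := by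
    intro q hq
    obtain ⟨hqp, hd⟩ := disj q hq
    have hP := IsLocalization.isPrime_of_isPrime_disjoint M S q hqp hd
    refine ⟨hP, ⟨?_⟩⟩
    have h1 : ((q.map (algebraMap B S)).under R).under A = p := by
      rw [Ideal.under_under, ← Ideal.under_under (B := B)]
      show Ideal.comap (algebraMap A B) (Ideal.comap (algebraMap B S) (q.map (algebraMap B S))) = p
      rw [show Ideal.comap (algebraMap B S) (q.map (algebraMap B S)) = q from IsLocalization.comap_map_of_isPrime_disjoint M S hqp hd]
      exact hq.2.over.symm
    rw [← Localization.AtPrime.map_eq_maximalIdeal, ← IsLocalization.map_comap p.primeCompl R ((q.map (algebraMap B S)).under R)]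
    exact congrArg (Ideal.map (algebraMap A R)) h1.symm
  have hinv : ∀ q ∈ p.primesOver B, (q.map (algebraMap B S)).comap (algebraMap B S) = q := fun q hq =>
    IsLocalization.comap_map_of_isPrime_disjoint M S (disj q hq).1 (disj q hq).2
  refine ⟨(hfin.subset (Set.image_subset_iff.2 hmem)).of_finite_image
    (f := Ideal.map (algebraMap B S)) fun a ha b hb h => ?_, fun q hq => ?_⟩
  · rw [← hinv a ha, ← hinv b hb, h]
  · obtain ⟨hqp, hd⟩ := disj q hq
    have hp0 : p ≠ ⊥ := fun h => by rw [h, Ideal.height_bot] at hp; exact zero_ne_one hp
    have hq0 : q ≠ ⊥ := fun h => hp0 <| by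
      rw [hq.2.over, h]; exact Ideal.comap_bot_of_injective _ (FaithfulSMul.algebraMap_injective A B)
    refine le_antisymm ?_ ?_
    · have : IsNoetherianRing B := Algebra.FiniteType.isNoetherianRing A B
      rw [show (1 : ℕ∞) = ((1 : ℕ) : ℕ∞) from rfl, Ideal.height_le_iff]
      intro Q hQ hQq
      rw [show ((1 : ℕ) : ℕ∞) = 1 from rfl, Order.lt_one_iff]
      by_contra h0
      have hQ0 : Q ≠ ⊥ := fun h => h0 (h ▸ Ideal.height_bot)
      have hne : Q.under A ≠ ⊥ := by
        obtain ⟨x, hxQ, hx⟩ := Submodule.exists_mem_ne_zero_of_ne_bot hQ0
        obtain ⟨a, ha, hdvd⟩ := (Algebra.IsAlgebraic.isAlgebraic (R := A) x).exists_nonzero_dvd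
          (mem_nonZeroDivisors_of_ne_zero hx)
        exact fun h => ha (h.le (Q.mem_of_dvd hdvd hxQ : a ∈ Q.under A))
      have hle : Q.under A ≤ p := hq.2.over ▸ Ideal.comap_mono hQq.le
      have heq : Q.under A = p := by
        rcases hle.eq_or_lt with h | h
        · exact h
        · exfalso
          have := Ideal.height_strict_mono_of_isPrime_of_isPrime (I := Q.under A) (J := p) h
          rw [hp, Order.lt_one_iff, Ideal.height_eq_zero_iff,
            IsDomain.minimalPrimes_eq_singleton_bot] at this
          exact hne this
      have hQm : Q ∈ p.primesOver B := ⟨hQ, ⟨heq.symm⟩⟩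
      have h1 := (hmax _ (hmem Q hQm)).eq_of_le (hmem q hq).1.ne_top (Ideal.map_mono hQq.le)
      exact hQq.ne ((hinv Q hQm).symm.trans (h1 ▸ hinv q hq))
    · rw [Order.one_le_iff_ne_zero]
      intro h0
      rw [Ideal.height_eq_zero_iff, IsDomain.minimalPrimes_eq_singleton_bot] at h0
      exact hq0 h0

end Groth.Agent.S9130
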