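import Groth.Statements.S9135
import Groth.Agent.FlatMorQF.GenFinite
import Mathlib

set_option autoImplicit false
universe u
open CAlg

namespace Groth.Agent.S9135

open scoped TensorProduct
open Groth.Agent.FlatMorQF (exists_mul_mem_nilradical)

/-- Every element of a quasi-finite algebra is integral over a localisation near a minimal prime. -/
theorem exists_isIntegral_away {A B : Type u} [CommRing A] [CommRing B] [Algebra A B]
    (p : Ideal A) [p.IsPrime] [Module.Finite p.ResidueField (p.Fiber B)] (hp : p ∈ minimalPrimes A) (b : B) :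
    ∃ c ∉ p, ∀ (A' : Type u) [CommRing A'] [Algebra A A'] (B' : Type u) [CommRing B'] [Algebra B B']
      [Algebra A' B'] [Algebra A B'] [IsScalarTower A A' B'] [IsScalarTower A B B'],
      IsUnit (algebraMap A A' c) → IsIntegral A' (algebraMap B B' b) := by
  let F := p.Fiber B
  haveI : Module.Finite p.ResidueField F := ‹Module.Finite p.ResidueField (p.Fiber B)›
  have hb : IsIntegral p.ResidueField ((1 : p.ResidueField) ⊗ₜ[A] b : F) :=
    Algebra.IsIntegral.isIntegral _
  obtain ⟨⟨m, hm⟩, hint⟩ :=
    IsIntegral.exists_multiple_integral_of_isLocalization (R := A ⧸ p)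
      (nonZeroDivisors (A ⧸ p)) ((1 : p.ResidueField) ⊗ₜ[A] b : F) hb
  obtain ⟨s, rfl⟩ := Ideal.Quotient.mk_surjective m
  have hs : s ∉ p := fun h =>
    nonZeroDivisors.ne_zero hm (Ideal.Quotient.eq_zero_iff_mem.mpr h)
  obtain ⟨P, hPm, hP⟩ := hint
  obtain ⟨P', hP', -, hP'm⟩ := Polynomial.lifts_and_degree_eq_and_monic
    (f := Ideal.Quotient.mk p) ((Polynomial.mem_lifts P).mpr
      ((Polynomial.map_surjective _ Ideal.Quotient.mk_surjective) P)) hPm
  have hF : Polynomial.aeval ((1 : p.ResidueField) ⊗ₜ[A] (algebraMap A B s * b) : F) P' = 0 := by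
    rw [← hP', Polynomial.eval₂_map] at hP
    rw [Polynomial.aeval_def]
    have h1 : (algebraMap A F) = (algebraMap (A ⧸ p) F).comp (Ideal.Quotient.mk p) :=
      RingHom.ext fun a => IsScalarTower.algebraMap_apply A (A ⧸ p) F a
    have h2 : ((1 : p.ResidueField) ⊗ₜ[A] (algebraMap A B s * b) : F) =
        (⟨Ideal.Quotient.mk p s, hm⟩ : nonZeroDivisors (A ⧸ p)) •
          ((1 : p.ResidueField) ⊗ₜ[A] b : F) := by
      rw [Submonoid.smul_def, ← Algebra.smul_def, TensorProduct.tmul_smul]
      exact (IsScalarTower.algebraMap_smul (A ⧸ p) s ((1 : p.ResidueField) ⊗ₜ[A] b : F)).symm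
    rw [h2, h1]
    exact hP
  obtain ⟨t, ht, hnil⟩ := exists_mul_mem_nilradical p hp
    (Polynomial.aeval (algebraMap A B s * b) P') (fun q hq hqp => by
      haveI := hq
      let g : F →ₐ[A] q.ResidueField := Algebra.TensorProduct.lift
        (Ideal.ResidueField.mapₐ p q (Algebra.ofId A B) hqp.symm)
        (IsScalarTower.toAlgHom A B q.ResidueField) (fun _ _ => Commute.all _ _)
      have hg : g ((1 : p.ResidueField) ⊗ₜ[A] (algebraMap A B s * b)) =
          IsScalarTower.toAlgHom A B q.ResidueField (algebraMap A B s * b) := by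
        exact (Algebra.TensorProduct.lift_tmul _ _ _ _ _).trans (by rw [map_one, one_mul])
      have h1 := congrArg g hF
      rw [← Polynomial.aeval_algHom_apply, map_zero, hg, Polynomial.aeval_algHom_apply] at h1
      exact Ideal.algebraMap_residueField_eq_zero.mp h1)
  refine ⟨s * t, fun h => ((‹p.IsPrime›).mem_or_mem h).elim hs ht, fun A' _ _ B' _ _ _ _ _ _ hu => ?_⟩
  rw [map_mul] at hu
  have hus : IsUnit (algebraMap A A' s) := isUnit_of_mul_isUnit_left hu
  have hut : IsUnit (algebraMap A B' t) := by
    rw [IsScalarTower.algebraMap_apply A A' B']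
    exact (isUnit_of_mul_isUnit_right hu).map _
  obtain ⟨k, hk⟩ := hnil.map (algebraMap B B')
  rw [map_mul, ← IsScalarTower.algebraMap_apply A B B', mul_pow,
    (hut.pow k).mul_right_eq_zero] at hk
  have hsb : IsIntegral A (algebraMap B B' (algebraMap A B s * b)) := by
    refine ⟨P' ^ k, hP'm.pow k, ?_⟩
    rw [← Polynomial.aeval_def, map_pow,
      Polynomial.aeval_algebraMap_apply B' (algebraMap A B s * b) P', hk]
  have hsb' : IsIntegral A' (algebraMap B B' (algebraMap A B s * b)) := hsb.tower_top
  rw [map_mul, ← IsScalarTower.algebraMap_apply A B B', IsScalarTower.algebraMap_apply A A' B'] at hsb'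
  obtain ⟨w, hw⟩ := hus.exists_left_inv
  have := (isIntegral_algebraMap (R := A') (A := B') (x := w)).mul hsb'
  rwa [← mul_assoc, ← map_mul, hw, map_one, one_mul] at this

theorem exists_awayMap_finite {A B : Type u} [CommRing A] [CommRing B] [Algebra A B]
    [Algebra.FiniteType A B] (p : Ideal A) [p.IsPrime] [Module.Finite p.ResidueField (p.Fiber B)]
    (hp : p ∈ minimalPrimes A) :
    ∃ c ∉ p, ∀ a, c ∣ a → (Localization.awayMap (algebraMap A B) a).Finite := by
  classical
  obtain ⟨gens, hgens⟩ := Algebra.FiniteType.out (R := A) (A := B)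
  choose cf hcf hint using fun b : B => exists_isIntegral_away p hp b
  refine ⟨∏ b ∈ gens, cf b, fun h => ?_, fun a ha => ?_⟩
  · obtain ⟨b, -, hb⟩ := Ideal.IsPrime.prod_mem_iff.mp h
    exact hcf b hb
  let A' := Localization.Away a
  let B' := Localization.Away (algebraMap A B a)
  let φ : A' →+* B' := Localization.awayMap (algebraMap A B) a
  letI := φ.toAlgebra
  haveI : IsScalarTower A A' B' := IsScalarTower.of_algebraMap_eq fun x => by
    change _ = φ (algebraMap A A' x)
    rw [IsScalarTower.algebraMap_apply A B B']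
    exact (IsLocalization.map_eq _ _).symm
  have hua : IsUnit (algebraMap A A' a) :=
    IsLocalization.map_units A' (⟨a, Submonoid.mem_powers a⟩ : Submonoid.powers a)
  have hft : φ.FiniteType := by
    have h : (algebraMap A B).FiniteType := RingHom.finiteType_algebraMap.mpr ‹_›
    exact RingHom.finiteType_localizationPreserves.away (algebraMap A B) a A' B' h
  refine RingHom.IsIntegral.to_finite (fun y => ?_) hft
  change IsIntegral A' y
  obtain ⟨⟨x, _, k, rfl⟩, hx⟩ := IsLocalization.surj (Submonoid.powers (algebraMap A B a)) y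
  have hxint : IsIntegral A' (algebraMap B B' x) := by
    have hxmem : x ∈ Algebra.adjoin A (gens : Set B) := hgens ▸ Algebra.mem_top
    refine Algebra.adjoin_induction (p := fun x _ => IsIntegral A' (algebraMap B B' x))
      (fun b hb => ?_) (fun r => ?_) (fun x y _ _ h h' => ?_) (fun x y _ _ h h' => ?_) hxmem
    · exact hint b A' B' (isUnit_of_dvd_unit
        (map_dvd _ ((Finset.dvd_prod_of_mem cf hb).trans ha)) hua)
    · rw [← IsScalarTower.algebraMap_apply A B B', IsScalarTower.algebraMap_apply A A' B']
      exact isIntegral_algebraMap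
    · rw [map_add]; exact h.add h'
    · rw [map_mul]; exact h.mul h'
  obtain ⟨w, hw⟩ := (hua.pow k).exists_left_inv
  have h1 : algebraMap A' B' w * algebraMap B B' x = y := by
    dsimp only at hx
    rw [← hx, map_pow, ← IsScalarTower.algebraMap_apply A B B',
      IsScalarTower.algebraMap_apply A A' B', mul_comm y, ← mul_assoc, ← map_pow, ← map_mul, hw,
      map_one, one_mul]
  exact h1 ▸ isIntegral_algebraMap.mul hxint

/-- Let R → S be of finite type and p a minimal prime of R over which only finitely many primes of S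
lie. Then for some g ∈ R outside p the localized map R_g → S_g is finite. -/
theorem result (R S : Type u) [CommRing R] [CommRing S]
    [Algebra R S] [Algebra.FiniteType R S] (p : Ideal R) (hp : p ∈ minimalPrimes R)
    (hfin : (p.primesOver S).Finite) :
    ∃ g : R, g ∉ p ∧ (Localization.awayMap (algebraMap R S) g).Finite := by
  haveI : p.IsPrime := hp.1.1
  have hP : (PrimeSpectrum.comap (algebraMap R S) ⁻¹' {⟨p, inferInstance⟩}).Finite := by
    refine Set.Finite.of_finite_image (hfin.subset ?_)
      (Function.Injective.injOn (f := PrimeSpectrum.asIdeal) fun _ _ => PrimeSpectrum.ext)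
    rintro _ ⟨q, hq, rfl⟩
    exact ⟨q.2, ⟨congrArg PrimeSpectrum.asIdeal hq.symm⟩⟩
  haveI : Module.Finite p.ResidueField (p.Fiber S) := by
    rw [Module.finite_iff_isArtinianRing, isArtinianRing_iff_isNoetherianRing_krullDimLE_zero]
    have : IsJacobsonRing (p.Fiber S) := isJacobsonRing_of_finiteType (A := p.ResidueField)
    have : Finite (PrimeSpectrum (p.Fiber S)) :=
      (PrimeSpectrum.preimageEquivFiber R S ⟨p, inferInstance⟩).finite_iff.mp hP
    exact ⟨Algebra.FiniteType.isNoetherianRing p.ResidueField _,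
      (PrimeSpectrum.discreteTopology_iff_finite_and_krullDimLE_zero.mp inferInstance).right⟩
  obtain ⟨c, hc, h⟩ := exists_awayMap_finite (B := S) p hp
  exact ⟨c, hc, h c dvd_rfl⟩

end Groth.Agent.S9135
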