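import Groth.Statements.S9136
import Groth.Agent.RamH2.Lattice
import Groth.Agent.CAlgSmall.ClopenSplit
import Groth.Agent.CycTameLib.Semilocal

set_option autoImplicit false
universe u
open CAlg

namespace Groth.Agent.S9136

open Groth.Agent.RamH2 nonZeroDivisors

theorem span_range_eq_top (A B K L : Type u) [CommRing A] [CommRing B] [Algebra A B]
    [Field K] [Field L] [Algebra A K] [Algebra B L] [IsFractionRing B L]
    [Algebra K L] [FiniteDimensional K L] :
    Submodule.span K (Set.range (algebraMap B L)) = ⊤ := by
  let T : Subalgebra K L := Algebra.adjoin K (Set.range (algebraMap B L))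
  have hT : (Subalgebra.toSubmodule T : Submodule K L) = Submodule.span K (Set.range (algebraMap B L)) := by
    rw [Algebra.adjoin_eq_span]
    exact congrArg _ (congrArg SetLike.coe (Submonoid.closure_eq
      (MonoidHom.mrange ((algebraMap B L) : B →* L))))
  haveI : Algebra.IsIntegral K L := inferInstance
  have hinv : ∀ c ∈ T, c⁻¹ ∈ T := fun c hc => T.inv_mem_of_algebraic (x := ⟨c, hc⟩)
    (Algebra.IsAlgebraic.isAlgebraic c)
  rw [← hT, eq_top_iff]
  intro l _
  obtain ⟨b, c, _, rfl⟩ := IsFractionRing.div_surjective B l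
  show _ ∈ T
  rw [div_eq_mul_inv]
  exact T.mul_mem (Algebra.subset_adjoin ⟨b, rfl⟩) (hinv _ (Algebra.subset_adjoin ⟨c, rfl⟩))


theorem sum_formula {A B : Type u} [CommRing A] [IsLocalRing A] [CommRing B] [Algebra A B]
    [Finite (MaximalSpectrum B)] (I : Ideal B) [IsNoetherian A (B ⧸ I)]
    (hover : ∀ n : MaximalSpectrum B, n.asIdeal.comap (algebraMap A B) = IsLocalRing.maximalIdeal A)
    (hle : ∀ m : MaximalSpectrum B, I ≤ m.asIdeal) (hfl : IsFiniteLength B (B ⧸ I)) :
    (∑ᶠ m : MaximalSpectrum B, Module.length A (B ⧸ m.asIdeal) * CAlgSmall.lenAt m.asIdeal (B ⧸ I)) =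
      Module.length A (B ⧸ I) := by
  have hfinq : ∀ m : MaximalSpectrum B,
      Module.Finite (A ⧸ m.asIdeal.comap (algebraMap A B)) (B ⧸ m.asIdeal) := fun m => by
    let g : (B ⧸ I) →ₗ[A] B ⧸ m.asIdeal := (Submodule.factor (hle m)).restrictScalars A
    haveI : Module.Finite A (B ⧸ m.asIdeal) :=
      Module.Finite.of_surjective g (Submodule.factor_surjective (hle m))
    exact Module.Finite.of_restrictScalars_finite A _ _
  rw [CAlgSmall.length_eq_sum_semilocal hover (B ⧸ I) hfinq hfl]
  refine finsum_congr fun m => ?_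
  congr 1
  haveI : (m.asIdeal.comap (algebraMap A B)).IsMaximal :=
    (hover m).symm ▸ IsLocalRing.maximalIdeal.isMaximal A
  letI := Ideal.Quotient.field (m.asIdeal.comap (algebraMap A B))
  haveI := hfinq m
  haveI : IsScalarTower A (A ⧸ m.asIdeal.comap (algebraMap A B)) (B ⧸ m.asIdeal) :=
    IsScalarTower.of_algebraMap_eq fun a => rfl
  rw [Module.length_eq_of_surjective (R := A ⧸ m.asIdeal.comap (algebraMap A B)) (S := A)
    Ideal.Quotient.mk_surjective, Module.length_eq_finrank]

/-- Let A ⊆ B be a finite type extension of domains, A Noetherian local of dimension one, with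
compatible fraction fields K ⊆ L and L finite over K. Then B has finitely many maximal ideals, and
for a nonzero x in the maximal ideal of A the sum over the maximal ideals m of B of (length of B/m
over A, i.e. the residue degree) times (length of B_m / x B_m over B_m) is at most the degree of L
over K times the length of A/xA; equality holds exactly when B is a finite A-module. -/
theorem result (A B K L : Type u)
    [CommRing A] [IsDomain A] [IsNoetherianRing A] [IsLocalRing A] (hdim : ringKrullDim A = 1)
    [CommRing B] [IsDomain B] [Algebra A B] [FaithfulSMul A B] [Algebra.FiniteType A B]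
    [Field K] [Field L] [Algebra A K] [IsFractionRing A K] [Algebra B L] [IsFractionRing B L]
    [Algebra K L] [Algebra A L] [IsScalarTower A K L] [IsScalarTower A B L] [FiniteDimensional K L]
    (x : A) (hx : x ∈ IsLocalRing.maximalIdeal A) (hx0 : x ≠ 0) :
    Finite (MaximalSpectrum B) ∧
      (∑ᶠ m : MaximalSpectrum B,
          Module.length A (B ⧸ m.asIdeal) *
            Module.length (Localization.AtPrime m.asIdeal)
              (Localization.AtPrime m.asIdeal ⧸
                Ideal.span ({algebraMap A (Localization.AtPrime m.asIdeal) x} : Set _)) ≤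
        (Module.finrank K L : ℕ∞) * Module.length A (A ⧸ Ideal.span ({x} : Set A))) ∧
      ((∑ᶠ m : MaximalSpectrum B,
          Module.length A (B ⧸ m.asIdeal) *
            Module.length (Localization.AtPrime m.asIdeal)
              (Localization.AtPrime m.asIdeal ⧸
                Ideal.span ({algebraMap A (Localization.AtPrime m.asIdeal) x} : Set _)) =
        (Module.finrank K L : ℕ∞) * Module.length A (A ⧸ Ideal.span ({x} : Set A))) ↔ Module.Finite A B) := by
  classical
  haveI : Ring.KrullDimLE 1 A := Ring.krullDimLE_iff.mpr (by rw [hdim]; norm_num)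
  set d := Module.finrank K L
  set xB := algebraMap A B x with hxB
  have hinjB : Function.Injective (algebraMap A B) := FaithfulSMul.algebraMap_injective A B
  have hxB0 : xB ≠ 0 := fun h => hx0 (hinjB (by rw [map_zero]; exact h))
  -- a basis of `L` coming from `B`
  obtain ⟨s, hsub, hsp, hli⟩ := exists_linearIndependent K (Set.range (algebraMap B L))
  rw [span_range_eq_top A B K L] at hsp
  let bs : Module.Basis s K L := Module.Basis.mk hli (by rw [Subtype.range_coe]; exact hsp.ge)
  haveI : Fintype s := FiniteDimensional.fintypeBasisIndex bs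
  let e : s ≃ Fin d := Fintype.equivFinOfCardEq (Module.finrank_eq_card_basis bs).symm
  let bd : Module.Basis (Fin d) K L := bs.reindex e
  have hbd : ∀ i, ∃ b : B, algebraMap B L b = bd i := fun i => by
    simp only [bd, Module.Basis.reindex_apply, bs, Module.Basis.mk_apply]
    exact hsub (e.symm i).2
  choose v hv using hbd
  let ψ : (Fin d → A) →ₗ[A] B := Fintype.linearCombination A v
  let ι : B →ₗ[A] L := (IsScalarTower.toAlgHom A B L).toLinearMap
  have hι : Function.Injective ι := IsFractionRing.injective B L
  have hψv : ∀ c, ι (ψ c) = ∑ i, algebraMap A K (c i) • bd i := fun c => by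
    simp only [ψ, Fintype.linearCombination_apply, map_sum, map_smul]
    refine Finset.sum_congr rfl fun i _ => ?_
    rw [← hv i, ← algebraMap_smul K (c i) (ι (v i))]
    rfl
  have hψ : Function.Injective ψ := by
    intro a b hab
    have h := congrArg ι hab
    rw [hψv, hψv] at h
    have h2 := congrArg (fun l => (bd.equivFun l)) h
    simp only [← Module.Basis.equivFun_symm_apply, LinearEquiv.apply_symm_apply] at h2
    exact funext fun i => IsFractionRing.injective A K (congrFun h2 i)
  have htor : ∀ b : B, ∃ r : A, r ≠ 0 ∧ r • b ∈ LinearMap.range ψ := by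
    intro b
    obtain ⟨⟨r, hr⟩, hr'⟩ :=
      IsLocalization.exist_integer_multiples_of_finite A⁰ (fun i => bd.equivFun (ι b) i)
    choose c hc using hr'
    refine ⟨r, nonZeroDivisors.ne_zero hr, c, hι ?_⟩
    rw [hψv, map_smul, ← algebraMap_smul K r (ι b)]
    conv_rhs => rw [← bd.sum_equivFun (ι b), Finset.smul_sum]
    refine Finset.sum_congr rfl fun i _ => ?_
    rw [smul_smul]
    congr 1
    rw [hc i, Algebra.smul_def]
  have hsmi : Function.Injective fun b : B => x • b := fun a b h => by
    simp only [Algebra.smul_def] at h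
    exact mul_left_cancel₀ hxB0 h
  let φ : B →ₗ[A] (Fin d → K) := (bd.equivFun.restrictScalars A).toLinearMap ∘ₗ ι
  have hφ : Function.Injective φ := bd.equivFun.injective.comp hι
  have hsm : sm x B = (Ideal.span ({xB} : Set B)).restrictScalars A := by
    ext z
    rw [mem_sm, Submodule.restrictScalars_mem, Ideal.mem_span_singleton']
    exact ⟨fun ⟨y, hy⟩ => ⟨y, by rw [hy, Algebra.smul_def, mul_comm]⟩,
      fun ⟨y, hy⟩ => ⟨y, by rw [← hy, Algebra.smul_def, mul_comm]⟩⟩
  have hlq : Module.length A (B ⧸ sm x B) = Module.length A (B ⧸ Ideal.span ({xB} : Set B)) :=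
    ((Submodule.quotEquivOfEq _ _ hsm).trans
      (Submodule.Quotient.restrictScalarsEquiv A (Ideal.span ({xB} : Set B)))).length_eq
  have hle : Module.length A (B ⧸ sm x B) ≤ (d : ℕ∞) * Ring.ord A x := length_quot_le hx0 B φ hφ
  have hfin : Module.length A (B ⧸ Ideal.span ({xB} : Set B)) < ⊤ := by
    rw [← hlq]
    refine lt_of_le_of_lt hle (lt_top_iff_ne_top.2 (WithTop.mul_ne_top (ENat.coe_ne_top d) ?_))
    exact Ring.ord_ne_top (mem_nonZeroDivisors_of_ne_zero hx0)
  have hflB : IsFiniteLength B (B ⧸ Ideal.span ({xB} : Set B)) := by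
    have h := Module.length_ne_top_iff.1 hfin.ne
    rw [isFiniteLength_iff_isNoetherian_isArtinian] at h ⊢
    exact h.imp (isNoetherian_of_tower A) (isArtinian_of_tower A)
  haveI : Algebra.IsAlgebraic A B := by
    refine ⟨fun b => (isAlgebraic_algebraMap_iff (hι : Function.Injective (algebraMap B L))).1 ?_⟩
    exact (IsFractionRing.isAlgebraic_iff A K L).2 (Algebra.IsAlgebraic.isAlgebraic _)
  -- maximal ideals not containing `x` are zero
  have hbot : ∀ m : Ideal B, m.IsMaximal → xB ∉ m → m = ⊥ := by
    intro m hm hxm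
    by_contra hne
    obtain ⟨b, hb, hb0⟩ := Submodule.exists_mem_ne_zero_of_ne_bot hne
    have := hm.isPrime
    have h0 : m.comap (algebraMap A B) ≠ ⊥ :=
      Ideal.comap_ne_bot_of_algebraic_mem hb0 hb (Algebra.IsAlgebraic.isAlgebraic b)
    haveI := Ideal.IsPrime.isMaximal_of_ne_bot (hm.isPrime.comap (algebraMap A B)) h0
    exact hxm (show x ∈ m.comap (algebraMap A B) from
      IsLocalRing.eq_maximalIdeal (I := m.comap (algebraMap A B)) inferInstance ▸ hx)
  have hterm : ∀ m : MaximalSpectrum B, Module.length (Localization.AtPrime m.asIdeal)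
      (Localization.AtPrime m.asIdeal ⧸
        Ideal.span ({algebraMap A (Localization.AtPrime m.asIdeal) x} : Set _)) =
      CAlgSmall.lenAt m.asIdeal (B ⧸ Ideal.span {xB}) := fun m => by
    rw [CycTameLib.lenAt_quot, Ring.ord, hxB, ← IsScalarTower.algebraMap_apply]
  have key : Finite (MaximalSpectrum B) ∧ (∑ᶠ m : MaximalSpectrum B,
      Module.length A (B ⧸ m.asIdeal) * CAlgSmall.lenAt m.asIdeal (B ⧸ Ideal.span {xB})) =
        Module.length A (B ⧸ Ideal.span ({xB} : Set B)) := by
    by_cases hf : (⊥ : Ideal B).IsMaximal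
    · haveI hB : ∀ m : MaximalSpectrum B, m.asIdeal = ⊥ := fun m =>
        (hf.eq_of_le m.isMaximal.ne_top bot_le).symm
      haveI : Subsingleton (MaximalSpectrum B) :=
        ⟨fun a b => MaximalSpectrum.ext ((hB a).trans (hB b).symm)⟩
      have htop : Ideal.span ({xB} : Set B) = ⊤ := by
        by_contra h
        have := hf.eq_of_le h bot_le
        exact hxB0 ((Ideal.mem_bot).1 (this ▸ Ideal.mem_span_singleton_self xB))
      haveI : Subsingleton (B ⧸ Ideal.span ({xB} : Set B)) := Ideal.Quotient.subsingleton_iff.2 htop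
      refine ⟨inferInstance, ?_⟩
      rw [Module.length_eq_zero (R := A) (M := B ⧸ Ideal.span ({xB} : Set B))]
      refine finsum_eq_zero_of_forall_eq_zero fun m => ?_
      rw [CAlgSmall.lenAt, Module.length_eq_zero (M := LocalizedModule m.asIdeal.primeCompl
        (B ⧸ Ideal.span ({xB} : Set B))), mul_zero]
    have hmem : ∀ m : MaximalSpectrum B, xB ∈ m.asIdeal := fun m => by
      by_contra h
      exact hf (hbot _ m.isMaximal h ▸ m.isMaximal)
    have hover : ∀ m : MaximalSpectrum B,
        m.asIdeal.comap (algebraMap A B) = IsLocalRing.maximalIdeal A := fun m => by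
      have := m.isMaximal.isPrime
      haveI := Ideal.IsPrime.isMaximal_of_ne_bot (this.comap (algebraMap A B))
        (fun e => hx0 (by
          have h : x ∈ m.asIdeal.comap (algebraMap A B) := hmem m
          rwa [e, Ideal.mem_bot] at h))
      exact IsLocalRing.eq_maximalIdeal inferInstance
    haveI : IsArtinianRing (B ⧸ Ideal.span ({xB} : Set B)) :=
      isArtinian_of_tower B ((isFiniteLength_iff_isNoetherian_isArtinian.1 hflB).2)
    haveI : Finite (MaximalSpectrum B) := by
      refine Finite.of_injective (fun m : MaximalSpectrum B =>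
        (⟨m.asIdeal.map (Ideal.Quotient.mk (Ideal.span ({xB} : Set B))), ?_⟩ :
          PrimeSpectrum (B ⧸ Ideal.span ({xB} : Set B)))) fun a b h => ?_
      · haveI := m.isMaximal.isPrime
        exact Ideal.map_isPrime_of_surjective Ideal.Quotient.mk_surjective
          (by rw [Ideal.mk_ker, Ideal.span_singleton_le_iff_mem]; exact hmem m)
      · have h' := congrArg (fun I => (PrimeSpectrum.asIdeal I).comap
          (Ideal.Quotient.mk (Ideal.span ({xB} : Set B)))) h
        simp only [Ideal.comap_map_of_surjective _ Ideal.Quotient.mk_surjective,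
          ← RingHom.ker_eq_comap_bot, Ideal.mk_ker] at h'
        rw [sup_eq_left.2 ((Ideal.span_singleton_le_iff_mem _).2 (hmem a)),
          sup_eq_left.2 ((Ideal.span_singleton_le_iff_mem _).2 (hmem b))] at h'
        exact MaximalSpectrum.ext h'
    haveI := (isFiniteLength_iff_isNoetherian_isArtinian.1 (Module.length_ne_top_iff.1 hfin.ne)).1
    exact ⟨inferInstance, sum_formula (Ideal.span ({xB} : Set B)) hover
      (fun m => (Ideal.span_singleton_le_iff_mem _).2 (hmem m)) hflB⟩
  refine ⟨key.1, ?_, ?_⟩
  · simp only [hterm]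
    rw [key.2, ← hlq]
    exact hle
  · simp only [hterm]
    rw [key.2, ← hlq]
    constructor
    · exact fun h => finite_of_length_quot_eq hx hx0 hsmi ψ hψ htor h
    · intro hB
      exact length_quot_eq hsmi ψ hψ htor

end Groth.Agent.S9136
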