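import Groth.Statements.S9137
import Mathlib

set_option autoImplicit false
universe u
open CAlg
open IsLocalRing

namespace Groth.Agent.S9137

/-- A localization at a prime only depends on an open neighbourhood `D(r)`. -/
theorem isLocalization_comap {B A S : Type u} [CommRing B] [CommRing A] [CommRing S] [Algebra A S]
    [Algebra B S] (i : B →+* A) (hi : Function.Injective i) (q : Ideal A) [q.IsPrime]
    [IsLocalization.AtPrime S q] (r : B) (hrq : i r ∉ q)
    (hbij : Function.Bijective (Localization.awayMap i r))
    (hmap : ∀ b, algebraMap B S b = algebraMap A S (i b)) :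
    IsLocalization.AtPrime S (q.comap i) := by
  have hA : ∀ a : A, ∃ (N : ℕ) (b : B), a * i r ^ N = i b := by
    intro a
    obtain ⟨z, hz⟩ := hbij.2 (algebraMap A _ a)
    obtain ⟨⟨b, _, N, rfl⟩, hb⟩ := IsLocalization.surj (Submonoid.powers r) z
    have := congrArg (Localization.awayMap i r) hb
    rw [map_mul, hz, Localization.awayMap, IsLocalization.Away.map, IsLocalization.map_eq,
      IsLocalization.map_eq, ← map_mul, IsLocalization.eq_iff_exists (Submonoid.powers (i r))] at this
    obtain ⟨⟨_, M, rfl⟩, hM'⟩ := this
    refine ⟨N + M, r ^ M * b, ?_⟩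
    simp only [map_pow] at hM'
    rw [map_mul, map_pow, ← hM', pow_add]; ring
  constructor
  refine ⟨fun y => ?_, fun z => ?_, fun {x y} h => ?_⟩
  · rw [hmap]; exact IsLocalization.map_units S (⟨i y.1, y.2⟩ : q.primeCompl)
  · obtain ⟨⟨a, s, hs⟩, ha⟩ := IsLocalization.surj q.primeCompl z
    obtain ⟨N, b, hb⟩ := hA a
    obtain ⟨M, c, hc⟩ := hA s
    have hc' : r ^ N * c ∈ (q.comap i).primeCompl := by
      show i (r ^ N * c) ∉ q
      rw [map_mul, map_pow, ← hc]
      intro h
      rcases (inferInstance : q.IsPrime).mem_or_mem h with h | h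
      · exact hrq ((inferInstance : q.IsPrime).mem_of_pow_mem N h)
      · rcases (inferInstance : q.IsPrime).mem_or_mem h with h | h
        · exact hs h
        · exact hrq ((inferInstance : q.IsPrime).mem_of_pow_mem M h)
    refine ⟨⟨r ^ M * b, r ^ N * c, hc'⟩, ?_⟩
    show z * algebraMap B S (r ^ N * c) = algebraMap B S (r ^ M * b)
    simp only [hmap, map_mul, map_pow, ← hb, ← hc]
    dsimp only at ha
    rw [← ha]; ring
  · rw [hmap, hmap, IsLocalization.eq_iff_exists q.primeCompl] at h
    obtain ⟨⟨s, hs⟩, hsxy⟩ := h
    obtain ⟨M, c, hc⟩ := hA s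
    refine ⟨⟨c, fun h => ?_⟩, hi ?_⟩
    · change i c ∈ q at h
      rw [← hc] at h
      rcases (inferInstance : q.IsPrime).mem_or_mem h with h | h
      · exact hs h
      · exact hrq ((inferInstance : q.IsPrime).mem_of_pow_mem M h)
    · change s * i x = s * i y at hsxy
      simp only [map_mul, ← hc]
      linear_combination (i r ^ M) * hsxy

/-- Let R → S be a local ring homomorphism between local rings, essentially of finite type, such that
the residue field of S is finite over that of R and S/m_R S has dimension zero. Then S is, as an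
R-algebra, the localization of a finite R-algebra at a prime. -/
theorem result (R S : Type u) [CommRing R] [CommRing S]
    [IsLocalRing R] [IsLocalRing S] [Algebra R S] [IsLocalHom (algebraMap R S)]
    [Algebra.EssFiniteType R S]
    (hres : Module.Finite (IsLocalRing.ResidueField R) (IsLocalRing.ResidueField S))
    (hdim : ringKrullDim (S ⧸ (IsLocalRing.maximalIdeal R).map (algebraMap R S)) = 0) :
    ∃ (S' : Type u) (_ : CommRing S') (_ : Algebra R S') (_ : Algebra S' S) (_ : IsScalarTower R S' S)
      (q : Ideal S') (_ : q.IsPrime), Module.Finite R S' ∧ IsLocalization.AtPrime S q := by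
  classical
  let A := Algebra.EssFiniteType.subalgebra R S
  let q : Ideal A := (maximalIdeal S).comap (algebraMap A S)
  have hM : Algebra.EssFiniteType.submonoid R S = q.primeCompl := by
    ext a
    exact (IsLocalRing.notMem_maximalIdeal (R := S)).symm
  have hloc : IsLocalization.AtPrime S q := by
    show IsLocalization q.primeCompl S
    rw [← hM]; infer_instance
  have hunder : q.under R = maximalIdeal R := by
    rw [Ideal.under_def, Ideal.comap_comap, ← IsScalarTower.algebraMap_eq]
    exact maximalIdeal_comap (algebraMap R S)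
  -- the closed fibre is finite over R
  let J := (maximalIdeal R).map (algebraMap R S)
  have hJ : J ≤ maximalIdeal S := Ideal.map_le_iff_le_comap.2 (maximalIdeal_comap (algebraMap R S)).ge
  haveI : Nontrivial (S ⧸ J) := Ideal.Quotient.nontrivial_iff.2 fun h =>
    (inferInstance : (maximalIdeal S).IsMaximal).ne_top (top_le_iff.1 (h ▸ hJ))
  haveI : IsLocalRing (S ⧸ J) := .of_surjective' (Ideal.Quotient.mk J) Ideal.Quotient.mk_surjective
  haveI : IsNoetherianRing (S ⧸ J) := by
    letI : Algebra (R ⧸ maximalIdeal R) (S ⧸ J) := (Ideal.quotientMap J (algebraMap R S)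
      Ideal.le_comap_map).toAlgebra
    haveI : IsScalarTower R (R ⧸ maximalIdeal R) (S ⧸ J) := .of_algebraMap_eq fun _ => rfl
    haveI : Algebra.EssFiniteType R (S ⧸ J) :=
      Algebra.EssFiniteType.of_surjective (Ideal.Quotient.mkₐ R J) Ideal.Quotient.mk_surjective
    haveI := Algebra.EssFiniteType.of_comp R (R ⧸ maximalIdeal R) (S ⧸ J)
    letI := Ideal.Quotient.field (maximalIdeal R)
    exact Algebra.EssFiniteType.isNoetherianRing (R ⧸ maximalIdeal R) (S ⧸ J)
  haveI : Ring.KrullDimLE 0 (S ⧸ J) := Ring.krullDimLE_iff.2 (by rw [hdim]; rfl)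
  haveI : Module.Finite R (ResidueField S) := Module.Finite.trans (ResidueField R) _
  haveI : Module.Finite R (S ⧸ J) := by
    let g : (S ⧸ J) →ₐ[R] ResidueField S :=
      Ideal.Quotient.liftₐ J (IsScalarTower.toAlgHom R S (ResidueField S))
        fun a ha => (residue_eq_zero_iff a).2 (hJ ha)
    refine Module.finite_of_surjective_of_ker_le_nilradical g ?_ ?_ (IsNoetherian.noetherian _)
    · intro z
      obtain ⟨a, rfl⟩ := residue_surjective z
      exact ⟨Ideal.Quotient.mk J a, rfl⟩
    · intro a ha
      obtain ⟨a, rfl⟩ := Ideal.Quotient.mk_surjective a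
      rw [Ring.KrullDimLE.nilradical_eq_maximalIdeal]
      refine fun hu => ?_
      obtain ⟨b, hb⟩ := isUnit_iff_exists_inv.1 hu
      have := congrArg g hb
      rw [map_mul, ha, zero_mul, map_one] at this
      exact zero_ne_one this
  let e := IsLocalization.algEquiv q.primeCompl (Localization.AtPrime q) S
  haveI : Algebra.WeaklyQuasiFiniteAt R q := by
    rw [Algebra.weaklyQuasiFiniteAt_iff, hunder]
    haveI : Algebra.QuasiFinite R (S ⧸ J) := inferInstance
    refine (Algebra.QuasiFinite.iff_of_algEquiv
      (Ideal.quotientEquivAlg _ J (e.restrictScalars R) ?_)).2 ‹_›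
    rw [Ideal.map_map]
    refine congrArg (fun f : R →+* S => (maximalIdeal R).map f) (RingHom.ext fun r => ?_)
    exact ((e.restrictScalars R).commutes r).symm
  obtain ⟨S', hS', r, hrq, hbij⟩ :=
    Algebra.QuasiFiniteAt.exists_fg_and_exists_notMem_and_awayMap_bijective (R := R) q
  haveI : Module.Finite R S' := ⟨(Submodule.fg_top _).mpr hS'⟩
  let q' : Ideal S' := q.comap S'.val.toRingHom
  letI : Algebra S' S := ((algebraMap A S).comp S'.val.toRingHom).toAlgebra
  refine ⟨S', inferInstance, inferInstance, inferInstance,
    .of_algebraMap_eq fun x => IsScalarTower.algebraMap_apply R A S x, q', inferInstance,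
    inferInstance, ?_⟩
  exact isLocalization_comap S'.val.toRingHom Subtype.val_injective q r hrq hbij fun _ => rfl

end Groth.Agent.S9137
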