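import Groth.Statements.S9138
import Groth.Agent.AdicRing.ComplHom
import Groth.Agent.AdicRing.Basic
import Groth.Agent.FSchLib.Completion

set_option autoImplicit false
universe u
open CAlg

namespace Groth.Agent.S9138

theorem exists_pow_maximalIdeal_le {R S : Type u} [CommRing R] [CommRing S] [IsLocalRing S] [Algebra R S]
    (m : Ideal R) [m.IsMaximal] (J : Ideal S) (hJ : m.map (algebraMap R S) ≤ J) (hJn : J ≤ IsLocalRing.maximalIdeal S)
    [Module.Finite R (S ⧸ J)] : ∃ c, IsLocalRing.maximalIdeal S ^ c ≤ J := by
  letI : Algebra (R ⧸ m) (S ⧸ J) := (Ideal.quotientMap J (algebraMap R S) (Ideal.map_le_iff_le_comap.1 hJ)).toAlgebra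
  haveI : IsScalarTower R (R ⧸ m) (S ⧸ J) := IsScalarTower.of_algebraMap_eq fun _ => rfl
  haveI : Module.Finite (R ⧸ m) (S ⧸ J) := Module.Finite.of_restrictScalars_finite R _ _
  haveI : IsArtinianRing (R ⧸ m) := by letI := Ideal.Quotient.field m; infer_instance
  haveI : IsArtinianRing (S ⧸ J) := IsArtinianRing.of_finite (R ⧸ m) (S ⧸ J)
  obtain ⟨c, hc⟩ := IsArtinianRing.isNilpotent_jacobson_bot (R := S ⧸ J)
  refine ⟨c, ?_⟩
  have hle : (IsLocalRing.maximalIdeal S).map (Ideal.Quotient.mk J) ≤ Ideal.jacobson ⊥ := by
    refine le_sInf fun M hM => ?_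
    haveI := hM.2
    rw [← IsLocalRing.eq_maximalIdeal (Ideal.comap_isMaximal_of_surjective _ Ideal.Quotient.mk_surjective (K := M))]
    exact Ideal.map_comap_le
  have h0 := Ideal.pow_right_mono hle c
  rw [hc, ← Ideal.map_pow, Submodule.zero_eq_bot, le_bot_iff, Ideal.map_eq_bot_iff_le_ker, Ideal.mk_ker] at h0
  exact h0

/-- Let R → S be a local ring homomorphism between local rings with finitely generated maximal ideals m
and n, such that S/mS is a finite-dimensional κ(m)-vector space. Then (1) the canonical ring map
from the mS-adic completion of S to the n-adic completion of S is bijective, and (2) the induced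
ring map from the m-adic completion of R to the n-adic completion of S is finite. (The hypotheses h
and h' record the inclusion mS ⊆ n, which holds for any local homomorphism; they are the arguments
the completion maps take.) -/
theorem result (R S : Type u) [CommRing R] [CommRing S]
    [IsLocalRing R] [IsLocalRing S] [Algebra R S] [IsLocalHom (algebraMap R S)]
    (hm : (IsLocalRing.maximalIdeal R).FG) (hn : (IsLocalRing.maximalIdeal S).FG)
    (hfib : Module.Finite (IsLocalRing.maximalIdeal R).ResidueField ((IsLocalRing.maximalIdeal R).Fiber S))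
    (h : (IsLocalRing.maximalIdeal R).map (algebraMap R S) ≤ IsLocalRing.maximalIdeal S)
    (h' : ((IsLocalRing.maximalIdeal R).map (algebraMap R S)).map (RingHom.id S) ≤ IsLocalRing.maximalIdeal S) :
    Function.Bijective (FSch.complMap ((IsLocalRing.maximalIdeal R).map (algebraMap R S))
        (IsLocalRing.maximalIdeal S) (RingHom.id S) h') ∧
      (FSch.complMap (IsLocalRing.maximalIdeal R) (IsLocalRing.maximalIdeal S) (algebraMap R S) h).Finite := by
  classical
  set m := IsLocalRing.maximalIdeal R
  set n := IsLocalRing.maximalIdeal S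
  set J := m.map (algebraMap R S) with hJ
  -- the closed fibre is finite over `R`
  haveI : Module.Finite R m.ResidueField :=
    Module.Finite.of_surjective (Algebra.linearMap R m.ResidueField) (Ideal.algebraMap_residueField_surjective m)
  haveI : Module.Finite R (m.Fiber S) := Module.Finite.trans m.ResidueField (m.Fiber S)
  haveI hfin : Module.Finite R (S ⧸ (m • ⊤ : Submodule R S)) := by
    let e : (R ⧸ m) ≃ₗ[R] m.ResidueField :=
      (AlgEquiv.ofBijective (IsScalarTower.toAlgHom R (R ⧸ m) m.ResidueField)
        (Ideal.bijective_algebraMap_quotient_residueField m)).toLinearEquiv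
    exact Module.Finite.equiv ((e.symm.rTensor S).trans (TensorProduct.quotTensorEquivQuotSMul S m))
  haveI : Module.Finite R (S ⧸ J) :=
    Module.Finite.equiv ((Submodule.quotEquivOfEq _ _ (Ideal.smul_top_eq_map m)).trans
      (Submodule.Quotient.restrictScalarsEquiv R J))
  obtain ⟨c, hc⟩ := exists_pow_maximalIdeal_le m J hJ.ge h
  have hbij : Function.Bijective (FSch.complMap J n (RingHom.id S) h') := by
    have hcn : ∀ i, n ^ (c * i) ≤ J ^ i := fun i => by rw [pow_mul]; exact Ideal.pow_right_mono hc i
    refine ⟨fun x y hxy => AdicCompletion.ext_evalₐ fun i => ?_, fun y => ?_⟩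
    · obtain ⟨x, rfl⟩ := AdicCompletion.mk_surjective J S x
      obtain ⟨y, rfl⟩ := AdicCompletion.mk_surjective J S y
      have h2 := congrArg (AdicCompletion.evalₐ n (c * i)) hxy
      rw [_root_.Groth.Agent.FSchLib.evalₐ_complMap, _root_.Groth.Agent.FSchLib.evalₐ_complMap, AdicCompletion.evalₐ_mk,
        AdicCompletion.evalₐ_mk, Ideal.quotientMap_mk, Ideal.quotientMap_mk, Ideal.Quotient.eq] at h2
      rw [AdicCompletion.evalₐ_mk, AdicCompletion.evalₐ_mk, Ideal.Quotient.eq]
      have key : ∀ (z : AdicCompletion.AdicCauchySequence J S) (j : ℕ), z i - z j ∈ J ^ min i j := fun z j => by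
        rcases le_total i j with hij | hij
        · have h3 := z.2 hij
          rw [SModEq.sub_mem, smul_eq_mul, Ideal.mul_top] at h3
          rwa [min_eq_left hij]
        · have h3 := z.2 hij
          rw [SModEq.sub_mem, smul_eq_mul, Ideal.mul_top] at h3
          rw [min_eq_right hij, ← neg_sub]
          exact neg_mem h3
      by_cases hci : i ≤ c * i
      · have hx := key x (c * i)
        have hy := key y (c * i)
        rw [min_eq_left hci] at hx hy
        simp only [RingHom.id_apply] at h2
        have := sub_mem (add_mem hx (hcn i h2)) hy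
        rwa [show x i - x (c * i) + (x (c * i) - y (c * i)) - (y i - y (c * i)) = x i - y i by ring] at this
      · have hc0 : c = 0 := by
          by_contra h0
          exact hci (Nat.le_mul_of_pos_left i (Nat.pos_of_ne_zero h0))
        exact hcn i (by simp [hc0])
    · obtain ⟨y, rfl⟩ := AdicCompletion.mk_surjective n S y
      let z : ℕ → S := fun i => y ((c + 1) * i)
      have hy : ∀ {a b}, a ≤ b → y a - y b ∈ n ^ a := fun {a b} hab => by
        have h3 := y.2 hab
        rwa [SModEq.sub_mem, smul_eq_mul, Ideal.mul_top] at h3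
      have hz : ∀ i, z i ≡ z (i + 1) [SMOD (J ^ i • ⊤ : Submodule S S)] := fun i => by
        rw [SModEq.sub_mem, smul_eq_mul, Ideal.mul_top]
        exact hcn i (Ideal.pow_le_pow_right (Nat.mul_le_mul_right i (Nat.le_succ c)) (hy (Nat.mul_le_mul_left _ (Nat.le_succ i))))
      refine ⟨AdicCompletion.mk J S (AdicCompletion.AdicCauchySequence.mk J S z hz), AdicCompletion.ext_evalₐ fun i => ?_⟩
      rw [_root_.Groth.Agent.FSchLib.evalₐ_complMap, AdicCompletion.evalₐ_mk, AdicCompletion.evalₐ_mk,
        Ideal.quotientMap_mk, Ideal.Quotient.eq, ← neg_sub]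
      exact neg_mem (hy (Nat.le_mul_of_pos_left i (Nat.succ_pos c)))
  refine ⟨hbij, ?_⟩
  -- finiteness of the map to the `J`-adic completion
  let ψ := FSch.complMap m J (algebraMap R S) le_rfl
  have hψ : ψ.Finite := by
    letI := ψ.toAlgebra
    let R' := AdicCompletion m R
    let T' := AdicCompletion J S
    haveI : IsAdicComplete (m.map (algebraMap R R')) R' := AdicCompletion.isAdicComplete_self m hm
    have hmap : (m.map (algebraMap R R')).map (algebraMap R' T') = J.map (algebraMap S T') := by
      rw [Ideal.map_map, show (algebraMap R' T').comp (algebraMap R R') = (algebraMap S T').comp (algebraMap R S) from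
        RingHom.ext fun r => _root_.Groth.Agent.FSchLib.complMap_algebraMap m J (algebraMap R S) le_rfl r, ← Ideal.map_map]
    haveI : IsHausdorff (m.map (algebraMap R R')) T' := by
      refine ⟨fun x hx => ?_⟩
      have := AdicCompletion.isAdicComplete_self J (hm.map (algebraMap R S))
      refine IsHausdorff.haus (I := J.map (algebraMap S T')) (M := T') inferInstance x fun i => ?_
      have h2 := hx i
      rw [SModEq.zero, Ideal.smul_top_eq_map, Submodule.restrictScalars_mem, Ideal.map_pow, hmap] at h2
      rwa [SModEq.zero, smul_eq_mul, Ideal.mul_top]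
    obtain ⟨r, g, hg⟩ := Module.Finite.exists_fin' R (S ⧸ J)
    choose s hs using fun i => Ideal.Quotient.mk_surjective (g (Pi.single i 1))
    haveI := _root_.Groth.Agent.AdicRing.isPrecomplete_pi (m.map (algebraMap R R')) (A := R') (Fin r)
    let f : (Fin r → R') →ₗ[R'] T' := Fintype.linearCombination R' fun i => algebraMap S T' (s i)
    refine Module.Finite.of_surjective f
      (_root_.Groth.Agent.AdicRing.surjective_of_sup_smul_top (M := Fin r → R') (m.map (algebraMap R R')) f ?_)
    rw [eq_top_iff]
    intro y _
    obtain ⟨t, ht⟩ := _root_.Groth.Agent.AdicRing.surjective_mk_algebraMap_completion J (hm.map (algebraMap R S))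
      (Ideal.Quotient.mk (J.map (algebraMap S T')) y)
    obtain ⟨v, hv⟩ := hg (Ideal.Quotient.mk J t)
    refine Submodule.mem_sup.2 ⟨f fun i => algebraMap R R' (v i), ⟨_, rfl⟩, y - f fun i => algebraMap R R' (v i), ?_, add_sub_cancel _ _⟩
    rw [Ideal.smul_top_eq_map, Submodule.restrictScalars_mem, hmap]
    have hfv : f (fun i => algebraMap R R' (v i)) = algebraMap S T' (∑ i, algebraMap R S (v i) * s i) := by
      rw [Fintype.linearCombination_apply, map_sum]
      refine Finset.sum_congr rfl fun i _ => ?_
      rw [map_mul, Algebra.smul_def]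
      congr 1
    have hmem : t - ∑ i, algebraMap R S (v i) * s i ∈ J := by
      rw [← Ideal.Quotient.eq, ← hv, map_sum, pi_eq_sum_univ' v, map_sum]
      refine Finset.sum_congr rfl fun i _ => ?_
      rw [map_smul, map_mul, hs, Algebra.smul_def]
      simp [Pi.single_apply]
    rw [show y - f (fun i => algebraMap R R' (v i)) =
      (y - algebraMap S T' t) + algebraMap S T' (t - ∑ i, algebraMap R S (v i) * s i) by rw [hfv, map_sub]; ring]
    exact add_mem (Ideal.Quotient.eq.1 ht.symm) (Ideal.mem_map_of_mem _ hmem)
  have hcomp : FSch.complMap m n (algebraMap R S) h = (FSch.complMap J n (RingHom.id S) h').comp ψ :=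
    RingHom.ext fun x => (_root_.Groth.Agent.FSchLib.complMap_complMap m J (algebraMap R S) n (RingHom.id S) le_rfl h' (by simpa using h) x).symm
  rw [hcomp]
  exact RingHom.Finite.comp (RingHom.Finite.of_surjective _ hbij.2) hψ

end Groth.Agent.S9138
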