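import Groth.Statements.S9139
import Mathlib.RingTheory.Finiteness.Ideal
import Mathlib.RingTheory.Nilpotent.Lemmas
import Mathlib.RingTheory.Noetherian.Nilpotent

set_option autoImplicit false
universe u
open CAlg

namespace Groth.Agent.S9139

/-- Let I be a locally nilpotent ideal of a ring R (every element of I is nilpotent) and S → S' a map of
R-algebras with S' of finite type over R. If S → S'/IS' is surjective then so is S → S'. -/
theorem result (R S S' : Type u) [CommRing R] [CommRing S]
    [CommRing S'] [Algebra R S] [Algebra R S'] [Algebra.FiniteType R S'] (I : Ideal R)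
    (hI : ∀ x ∈ I, IsNilpotent x) (f : S →ₐ[R] S')
    (hf : Function.Surjective ((Ideal.Quotient.mk (I.map (algebraMap R S'))).comp f.toRingHom)) :
    Function.Surjective f := by
  classical
  obtain ⟨g, hg⟩ := (Algebra.FiniteType.out : (⊤ : Subalgebra R S').FG)
  have h1 : ∀ x : S', ∃ (J : Ideal R), J.FG ∧ J ≤ I ∧ ∃ s, x - f s ∈ J • (⊤ : Submodule R S') := by
    intro x
    obtain ⟨s, hs⟩ := hf (Ideal.Quotient.mk _ x)
    have hs' : x - f s ∈ I • (⊤ : Submodule R S') := by
      rw [Ideal.smul_top_eq_map]
      exact (Ideal.Quotient.eq.mp hs.symm)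
    suffices ∀ y ∈ I • (⊤ : Submodule R S'), ∃ J : Ideal R, J.FG ∧ J ≤ I ∧ y ∈ J • (⊤ : Submodule R S') by
      obtain ⟨J, a, b, c⟩ := this _ hs'; exact ⟨J, a, b, s, c⟩
    intro y hy
    refine Submodule.smul_induction_on hy ?_ ?_
    · intro r hr n _
      exact ⟨Ideal.span {r}, Submodule.fg_span_singleton r, by simpa [Ideal.span_le] using hr,
        Submodule.smul_mem_smul (Ideal.mem_span_singleton_self r) trivial⟩
    · intro a b ha hb
      obtain ⟨J, h1, h2, h3⟩ := ha; obtain ⟨K, k1, k2, k3⟩ := hb
      exact ⟨J ⊔ K, Submodule.FG.sup h1 k1, sup_le h2 k2, add_mem (Submodule.smul_mono_left le_sup_left h3)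
        (Submodule.smul_mono_left le_sup_right k3)⟩
  choose J hJ hJI s hs using h1
  let K : Ideal R := g.sup J
  have hK : K.FG := by
    show (g.sup J).FG
    clear hg
    induction g using Finset.induction with
    | empty => exact ⟨∅, by simp⟩
    | insert a g _ ih => rw [Finset.sup_insert]; exact Submodule.FG.sup (hJ a) ih
  have hKI : K ≤ I := Finset.sup_le fun x _ => hJI x
  obtain ⟨N, hN⟩ : IsNilpotent K := by
    rw [Ideal.FG.isNilpotent_iff_le_nilradical hK]
    exact fun x hx => hI x (hKI hx)
  let A := f.range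
  let T : Subalgebra R S' :=
    ((A.toSubmodule ⊔ K • (⊤ : Submodule R S'))).toSubalgebra
      (Submodule.mem_sup_left A.one_mem) (by
        intro x y hx hy
        obtain ⟨a, ha, b, hb, rfl⟩ := Submodule.mem_sup.mp hx
        obtain ⟨c, hc, d, hd, rfl⟩ := Submodule.mem_sup.mp hy
        rw [Ideal.smul_top_eq_map] at hb hd ⊢
        have : (a + b) * (c + d) = a * c + ((a + b) * d + b * c) := by ring
        rw [this]
        exact Submodule.add_mem_sup (A.mul_mem ha hc)
          (Ideal.add_mem _ (Ideal.mul_mem_left _ _ hd) (Ideal.mul_mem_right _ _ hb)))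
  have hT : T = ⊤ := by
    rw [← top_le_iff, ← hg, Algebra.adjoin_le_iff]
    intro x hx
    refine Submodule.mem_sup.mpr ⟨f (s x), ⟨_, rfl⟩, x - f (s x), ?_, add_sub_cancel _ _⟩
    exact Submodule.smul_mono_left (Finset.le_sup (f := J) hx) (hs x)
  have htop : (⊤ : Submodule R S') ≤ A.toSubmodule ⊔ K • ⊤ := fun x _ =>
    (show x ∈ T from hT ▸ Algebra.mem_top)
  have hk : ∀ m : ℕ, (⊤ : Submodule R S') ≤ A.toSubmodule ⊔ K ^ m • ⊤ := by
    intro m
    induction m with
    | zero => rw [pow_zero, Ideal.one_eq_top, Submodule.top_smul]; exact le_sup_right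
    | succ m ih =>
      refine ih.trans (sup_le le_sup_left ?_)
      refine le_trans (Submodule.smul_mono le_rfl htop) ?_
      rw [Submodule.smul_sup, ← Submodule.mul_smul, ← pow_succ]
      exact sup_le_sup_right (Submodule.smul_le_right) _
  intro x
  have := hk N (x := x) trivial
  rw [hN] at this
  simpa [A] using this

end Groth.Agent.S9139
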