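import Groth.Statements.S9140
import Groth.Agent.S9139
import Groth.Agent.CAlgH.FlatQuotient
import Mathlib.RingTheory.Nakayama
import Mathlib.RingTheory.FinitePresentation
import Mathlib.RingTheory.Jacobson.Ideal

set_option autoImplicit false
universe u
open CAlg

namespace Groth.Agent.S9140

/-- Let I be a locally nilpotent ideal of a ring R and S → S' a map of R-algebras with S of finite type
over R and S' of finite presentation and flat over R. If the induced map S/IS → S'/IS' is bijective
(stated as: S → S'/IS' is surjective with kernel IS), then S → S' is bijective. -/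
theorem result (R S S' : Type u)
    [CommRing R] [CommRing S] [CommRing S'] [Algebra R S] [Algebra R S'] [Algebra.FiniteType R S]
    [Algebra.FinitePresentation R S'] [Module.Flat R S'] (I : Ideal R) (hI : ∀ x ∈ I, IsNilpotent x)
    (f : S →ₐ[R] S')
    (hsurj : Function.Surjective ((Ideal.Quotient.mk (I.map (algebraMap R S'))).comp f.toRingHom))
    (hker : ∀ s : S, f s ∈ I.map (algebraMap R S') → s ∈ I.map (algebraMap R S)) :
    Function.Bijective f := by
  have hs : Function.Surjective f := Groth.Agent.S9139.result R S S' I hI f hsurj
  refine ⟨?_, hs⟩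
  let K : Ideal S := RingHom.ker f.toRingHom
  have hKfg : K.FG := by
    obtain ⟨n, q, hq⟩ := Algebra.FiniteType.iff_quotient_mvPolynomial''.mp
      (inferInstance : Algebra.FiniteType R S)
    have h1 := Algebra.FinitePresentation.ker_fG_of_surjective (f.comp q) (hs.comp hq)
    convert Ideal.FG.map h1 q.toRingHom using 1
    exact (Ideal.map_comap_of_surjective q.toRingHom hq K).symm
  have : Module.Flat R (S ⧸ (K.restrictScalars R)) :=
    Module.Flat.of_linearEquiv (f.toLinearMap.quotKerEquivOfSurjective hs)
  have hle : K ≤ K • I.map (algebraMap R S) := by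
    intro x hx
    have h1 : x ∈ I • (K.restrictScalars R) := Groth.Agent.CAlgH.inf_smul_top_le_of_flat_quotient _ I
      ⟨hx, by rw [Ideal.smul_top_eq_map]; exact hker x (by
        rw [show f x = 0 from hx]; exact Ideal.zero_mem _)⟩
    rw [smul_eq_mul, mul_comm]
    refine Submodule.smul_induction_on h1 ?_ ?_
    · intro r hr n hn
      rw [Algebra.smul_def]; exact Ideal.mul_mem_mul (Ideal.mem_map_of_mem _ hr) hn
    · intro a b ha hb
      exact Ideal.add_mem _ ha hb
  have : K = ⊥ := Submodule.eq_bot_of_le_smul_of_le_jacobson_bot (I.map (algebraMap R S)) K hKfg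
    (by rwa [smul_eq_mul, mul_comm, ← smul_eq_mul]) (by
      refine le_trans ?_ (Ideal.radical_le_jacobson)
      rw [Ideal.map_le_iff_le_comap]
      intro r hr
      exact (hI r hr).map _)
  exact (RingHom.injective_iff_ker_eq_bot f.toRingHom).mpr this

end Groth.Agent.S9140
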