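import Groth.Statements.S9143
import Groth.Agent.Synt15.FieldLCI
-- import your own Groth.Agent.* helpers here

set_option autoImplicit false
universe u
open Synt

namespace Groth.Agent.S9143

/-- For a local k-algebra S which is essentially of finite type over a field k, being a complete
intersection over k is equivalent to each of: (2) whenever a regular local ring R, essentially of
finite type over k, maps onto S by a surjective k-algebra map, the kernel is generated by a regular
sequence; (3) some regular local ring R, essentially of finite type over k, maps onto S by a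
surjective k-algebra map whose kernel is generated by a list of dim R − dim S elements (stated as
dim R = dim S + the length of the list); (4) S is isomorphic over k to a localization at a prime of
a global complete intersection over k; (5) the same with a local complete intersection over k. -/
theorem result (k S : Type u) [Field k] [CommRing S]
    [IsLocalRing S] [Algebra k S] [Algebra.EssFiniteType k S] :
    (Synt.IsCIOver k S ↔
        ∀ (R : Type u) [CommRing R] [IsRegularLocalRing R] [Algebra k R], Algebra.EssFiniteType k R →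
          ∀ π : R →ₐ[k] S, Function.Surjective π →
            ∃ rs : List R, RingTheory.Sequence.IsRegular R rs ∧ RingHom.ker π.toRingHom = Ideal.ofList rs) ∧
      (Synt.IsCIOver k S ↔
        ∃ (R : Type u) (_ : CommRing R) (_ : IsRegularLocalRing R) (_ : Algebra k R),
          Algebra.EssFiniteType k R ∧ ∃ π : R →ₐ[k] S, Function.Surjective π ∧
            ∃ rs : List R, RingHom.ker π.toRingHom = Ideal.ofList rs ∧
              ringKrullDim R = ringKrullDim S + (rs.length : WithBot ℕ∞)) ∧
      (Synt.IsCIOver k S ↔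
        ∃ (A : Type u) (_ : CommRing A) (_ : Algebra k A) (a : Ideal A) (_ : a.IsPrime),
          Algebra.FiniteType k A ∧ Synt.IsGlobalCI k A ∧ Nonempty (S ≃ₐ[k] Localization.AtPrime a)) ∧
      (Synt.IsCIOver k S ↔
        ∃ (A : Type u) (_ : CommRing A) (_ : Algebra k A) (a : Ideal A) (_ : a.IsPrime),
          Synt.IsLCIOver k A ∧ Nonempty (S ≃ₐ[k] Localization.AtPrime a)) := by
  haveI : IsNoetherianRing S := Algebra.EssFiniteType.isNoetherianRing k S
  have h24 : Synt.IsCIOver k S → ∃ (A : Type u) (_ : CommRing A) (_ : Algebra k A) (a : Ideal A) (_ : a.IsPrime),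
      Algebra.FiniteType k A ∧ Synt.IsGlobalCI k A ∧ Nonempty (S ≃ₐ[k] Localization.AtPrime a) := by
    intro h
    obtain ⟨n, p, _, f, hf⟩ := Groth.Agent.Synt15.exists_pres (K := k) S
    let P := MvPolynomial (Fin n) k
    let I : Ideal P := (RingHom.ker f.toRingHom).comap (algebraMap P (Localization.AtPrime p))
    let fP : P →ₐ[k] S := f.comp (IsScalarTower.toAlgHom k P (Localization.AtPrime p))
    let σ : (P ⧸ I) →ₐ[k] S := Ideal.Quotient.liftₐ I fP (fun z hz => hz)
    let q : Ideal (P ⧸ I) := (IsLocalRing.maximalIdeal S).comap σ.toRingHom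
    haveI : q.IsPrime := inferInstance
    letI := σ.toRingHom.toAlgebra
    haveI : IsScalarTower k (P ⧸ I) S := IsScalarTower.of_algebraMap_eq fun r => (σ.commutes r).symm
    haveI : IsLocalHom f.toRingHom := .of_surjective _ hf
    have hT : p.primeCompl.map (Ideal.Quotient.mk I) = q.primeCompl := by
      ext y
      obtain ⟨z, rfl⟩ := Ideal.Quotient.mk_surjective y
      have hz : Ideal.Quotient.mk I z ∈ q ↔ z ∈ p := by
        show fP z ∈ IsLocalRing.maximalIdeal S ↔ _
        show f.toRingHom (algebraMap P (Localization.AtPrime p) z) ∈ _ ↔ _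
        rw [IsLocalRing.mem_maximalIdeal, map_mem_nonunits_iff f.toRingHom]
        exact IsLocalization.AtPrime.to_map_mem_maximal_iff (Localization.AtPrime p) p z
      constructor
      · rintro ⟨x, hx, hxy⟩
        show _ ∉ q
        rw [← hxy]
        intro h2
        have : f.toRingHom (algebraMap P (Localization.AtPrime p) x) ∈ IsLocalRing.maximalIdeal S := h2
        rw [IsLocalRing.mem_maximalIdeal, map_mem_nonunits_iff f.toRingHom] at this
        exact hx ((IsLocalization.AtPrime.to_map_mem_maximal_iff (Localization.AtPrime p) p x).1 this)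
      · exact fun h2 => ⟨z, fun h3 => h2 (hz.2 h3), rfl⟩
    haveI : IsLocalization.AtPrime S q := by
      show IsLocalization q.primeCompl S
      rw [← hT]
      refine IsLocalization.of_surjective (M := p.primeCompl) (S := Localization.AtPrime p) (Ideal.Quotient.mk I)
        Ideal.Quotient.mk_surjective f.toRingHom hf rfl ?_
      rw [Ideal.mk_ker, IsLocalization.map_under p.primeCompl (Localization.AtPrime p)]
    let e : S ≃ₐ[k] Localization.AtPrime q :=
      (IsLocalization.algEquiv q.primeCompl S (Localization.AtPrime q)).restrictScalars k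
    obtain ⟨g, hg, hG⟩ := Groth.Agent.Synt15.exists_isGlobalCI_of_isCIOver q (Groth.Agent.Synt15.isCIOver_congr e h)
    obtain ⟨Q, hQ, -, ⟨e'⟩⟩ := Groth.Agent.Synt15.exists_atPrimeEquiv (k := k) q hg
    exact ⟨Localization.Away g, inferInstance, inferInstance, Q, hQ,
      Algebra.FiniteType.trans (S := P ⧸ I) inferInstance
        (IsLocalization.finiteType_of_monoid_fg (Submonoid.powers g) (Localization.Away g)), hG, ⟨e.trans e'.symm⟩⟩
  have h45 : (∃ (A : Type u) (_ : CommRing A) (_ : Algebra k A) (a : Ideal A) (_ : a.IsPrime),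
      Synt.IsLCIOver k A ∧ Nonempty (S ≃ₐ[k] Localization.AtPrime a)) → Synt.IsCIOver k S := by
    rintro ⟨A, _, _, a, _, hA, ⟨e⟩⟩
    exact Groth.Agent.Synt15.isCIOver_congr e.symm (Groth.Agent.Synt15.isCIOver_of_isLCIOver hA a)
  refine ⟨⟨fun h R _ _ _ hR π hπ => ?_, fun h => ?_⟩, ⟨fun h => ?_, ?_⟩,
    ⟨h24, fun ⟨A, i1, i2, a, i3, _, hA, he⟩ => h45 ⟨A, i1, i2, a, i3, Groth.Agent.Synt15.isLCIOver_of_isGlobalCI hA, he⟩⟩,
    ⟨fun h => ?_, h45⟩⟩
  · obtain ⟨rs, hrs, hl⟩ := (Groth.Agent.CAlgH.CIPresentation.isCompleteIntersection_iff π.toRingHom hπ).1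
      ((Groth.Agent.Synt15.isCIOver_iff (k := k) S).1 h)
    exact ⟨rs, hrs, hl.symm⟩
  · obtain ⟨n, p, _, f, hf⟩ := Groth.Agent.Synt15.exists_pres (K := k) S
    haveI := Groth.Agent.Synt15.isRegularLocalRing_atPrime p
    obtain ⟨rs, hrs, hl⟩ := h (Localization.AtPrime p) inferInstance f hf
    exact Groth.Agent.Synt15.isCIOver_of_surjective f hf ⟨rs, hrs, hl.symm⟩
  · obtain ⟨R, i1, i2, i3, hR, rs, hm, hrs, ⟨e⟩⟩ := h
    refine ⟨R, i1, i2, i3, hR, e.symm.toAlgHom.comp (Ideal.Quotient.mkₐ k _),
      e.symm.surjective.comp Ideal.Quotient.mk_surjective, rs, ?_, ?_⟩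
    · ext x
      show e.symm (Ideal.Quotient.mk _ x) = 0 ↔ _
      rw [map_eq_zero_iff _ e.symm.injective, Ideal.Quotient.eq_zero_iff_mem]
    · rw [← ringKrullDim_add_length_eq_ringKrullDim_of_isRegular rs hrs]
      exact congrArg (· + _) (ringKrullDim_eq_of_ringEquiv e.symm.toRingEquiv)
  · rintro ⟨R, _, _, _, hR, π, hπ, rs, hker, hdim⟩
    haveI := hR
    refine Groth.Agent.Synt15.isCIOver_of_surjective π hπ ⟨rs, Groth.Agent.CAlgH.Avramov.isRegular_of_dim
      (fun x hx => IsLocalRing.le_maximalIdeal (RingHom.ker_ne_top π.toRingHom) (hker ▸ Ideal.subset_span hx)) ?_, hker.symm⟩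
    rw [hdim, ringKrullDim_eq_of_ringEquiv ((Ideal.quotEquivOfEq hker.symm).trans (RingHom.quotientKerEquivOfSurjective hπ))]
  · obtain ⟨A, i1, i2, a, i3, hA0, hA, he⟩ := h24 h
    haveI := hA0
    exact ⟨A, i1, i2, a, i3, Groth.Agent.Synt15.isLCIOver_of_isGlobalCI hA, he⟩

end Groth.Agent.S9143
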