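import Groth.Statements.S9150
import Groth.Agent.Synt15.Lift
-- import your own Groth.Agent.* helpers here

set_option autoImplicit false
universe u
open Synt

namespace Groth.Agent.S9150

/-- Let I be an ideal of a ring R and S̄ an R-algebra killed by I which is syntomic over R/I. Then S̄ is
covered by finitely many basic opens S̄_g each isomorphic, as an R-algebra, to S/IS for some
relative global complete intersection S over R. -/
theorem result (R : Type u) [CommRing R] (I : Ideal R) (Sb : Type u) [CommRing Sb]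
    [Algebra R Sb] [Algebra (R ⧸ I) Sb] [IsScalarTower R (R ⧸ I) Sb] (h : Synt.IsSyntomic (R ⧸ I) Sb) :
    ∃ s : Finset Sb, Ideal.span (s : Set Sb) = ⊤ ∧ ∀ g ∈ s,
      ∃ (n c : ℕ) (F : Fin c → MvPolynomial (Fin n) R), Synt.IsRelGCI R n c F ∧
        Nonempty (Localization.Away g ≃ₐ[R]
          (Synt.RelGCIRing R n c F ⧸ I.map (algebraMap R (Synt.RelGCIRing R n c F)))) := by
  haveI := h.1
  haveI := h.2.1
  let t : Set Sb := {g | ∃ (n c : ℕ) (F : Fin c → MvPolynomial (Fin n) R), Synt.IsRelGCI R n c F ∧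
    Nonempty (Localization.Away g ≃ₐ[R]
      (Synt.RelGCIRing R n c F ⧸ I.map (algebraMap R (Synt.RelGCIRing R n c F))))}
  have ht : Ideal.span t = ⊤ := by
    by_contra hne
    obtain ⟨M, hM, hle⟩ := Ideal.exists_le_maximal _ hne
    haveI := hM.isPrime
    let p := M.comap (algebraMap (R ⧸ I) Sb)
    obtain ⟨Q, _, hQ⟩ := Groth.Agent.Synt15.exists_fibre_point (R := R ⧸ I) M p rfl
    haveI : Module.Flat Sb (Localization.AtPrime M) := IsLocalization.flat _ M.primeCompl
    obtain ⟨g, hg, n, c, F, hF, ⟨e⟩⟩ := Groth.Agent.Synt15.exists_relGCI_nhd (R ⧸ I) M p rfl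
      (Module.Flat.trans (R ⧸ I) Sb (Localization.AtPrime M)) Q hQ
      (Groth.Agent.Synt15.isCIOver_of_isLCIOver (h.2.2 ⟨p, inferInstance⟩) Q)
    exact hg (hle (Ideal.subset_span (Groth.Agent.Synt15.exists_relGCI_lift I F hF e)))
  obtain ⟨s, hst, hs⟩ := (Ideal.span_eq_top_iff_finite t).1 ht
  exact ⟨s, hs, fun g hg => hst hg⟩

end Groth.Agent.S9150
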