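import Groth.Statements.S9153
import Groth.Agent.DimLib.Algebra


set_option autoImplicit false
universe u
open CAlg

namespace Groth.Agent.S9153

/-- In a polynomial ring in finitely many variables over a field, every saturated chain of primes
between two primes p ⊆ q has length equal to the difference of their heights (stated additively:
length + height p = height q). -/
theorem result (k : Type u) [Field k] (n : ℕ)
    (s : LTSeries (PrimeSpectrum (MvPolynomial (Fin n) k)))
    (hsat : ∀ i : Fin s.length, s (Fin.castSucc i) ⋖ s (Fin.succ i)) :
    (s.length : ℕ∞) + s.head.asIdeal.height = s.last.asIdeal.height := by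
  have key : ∀ i : Fin (s.length + 1), (s i).asIdeal.height = (i.val : ℕ∞) + s.head.asIdeal.height := by
    intro i
    induction i using Fin.induction with
    | zero => show s.head.asIdeal.height = _; simp
    | succ i ih =>
      rw [DimLib.height_eq_height_add_one_of_covBy (k := k) (hsat i), ih]
      simp only [Fin.val_castSucc, Fin.val_succ, Nat.cast_add, Nat.cast_one]; ac_rfl
  have := key (Fin.last _)
  rw [show s.last = s (Fin.last _) from rfl, this, Fin.val_last]

end Groth.Agent.S9153
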