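import Groth.Statements.S9154
import Groth.Agent.DimLib.Algebra
import Groth.Agent.EGA41Lib.CMParameters
import Groth.Agent.EGA41Lib.FlatRegularSeq
-- import your own Groth.Agent.* helpers here

set_option autoImplicit false
universe u
open CAlg

namespace Groth.Agent.S9154

/-- Let S be a Cohen–Macaulay finite type algebra over a field k, equidimensional of dimension d, and
f_1, …, f_i elements (i ≤ d) generating a proper ideal whose zero locus has dimension at most d − i.
Then that dimension equals d − i and the f_j form a regular sequence in S_q for every prime q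
containing them. (The published statement also allows the f_j to generate the unit ideal, where the
zero locus is empty and the equality fails, e.g. f_1 = 1 in k[x]; this row assumes the ideal is
proper.) -/
theorem result (k S : Type u) [Field k] [CommRing S] [Algebra k S]
    [Algebra.FiniteType k S] [LocCoh.IsCohenMacaulayRing S] (d : ℕ)
    (heq : ∀ p ∈ minimalPrimes S, ringKrullDim (S ⧸ p) = d) (f : List S) (hi : f.length ≤ d)
    (hne : Ideal.ofList f ≠ ⊤)
    (hle : ringKrullDim (S ⧸ Ideal.ofList f) ≤ ((d - f.length : ℕ) : WithBot ℕ∞)) :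
    ringKrullDim (S ⧸ Ideal.ofList f) = ((d - f.length : ℕ) : WithBot ℕ∞) ∧
      ∀ (q : Ideal S) [q.IsPrime], Ideal.ofList f ≤ q →
        RingTheory.Sequence.IsRegular (Localization.AtPrime q)
          (f.map (algebraMap S (Localization.AtPrime q))) := by
  classical
  haveI : IsNoetherianRing S := inferInstance
  have key : ∀ (m : Ideal S) [m.IsMaximal], Ideal.ofList f ≤ m →
      ((d - f.length : ℕ) : WithBot ℕ∞) ≤ ringKrullDim (S ⧸ Ideal.ofList f) ∧
      RingTheory.Sequence.IsWeaklyRegular (Localization.AtPrime m) (f.map (algebraMap S (Localization.AtPrime m))) := by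
    intro m _ hm
    let Sm := Localization.AtPrime m
    haveI : LocCoh.IsCohenMacaulayLocalRing Sm := LocCoh.IsCohenMacaulayRing.isCohenMacaulayLocalRing_localization m
    let J := Ideal.ofList (f.map (algebraMap S Sm))
    have hd : (d : WithBot ℕ∞) ≤ ringKrullDim Sm := by
      obtain ⟨P, hP, hPm⟩ := Ideal.exists_minimalPrimes_le (I := ⊥) (J := m) bot_le
      haveI := hP.1.1
      let m' := m.map (Ideal.Quotient.mk P)
      haveI : m'.IsMaximal := Ideal.IsMaximal.map_of_surjective_of_ker_le Ideal.Quotient.mk_surjective
        (by rw [Ideal.mk_ker]; exact hPm)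
      rw [IsLocalization.AtPrime.ringKrullDim_eq_height m Sm, ← heq P hP,
        ← DimLib.height_eq_of_isMaximal (k := k) m']
      refine WithBot.coe_le_coe.2 ?_
      have hc : m'.comap (Ideal.Quotient.mk P) = m := by
        rw [Ideal.comap_map_of_surjective _ Ideal.Quotient.mk_surjective, ← RingHom.ker_eq_comap_bot, Ideal.mk_ker]
        exact sup_eq_left.2 hPm
      have hsm : StrictMono (PrimeSpectrum.comap (Ideal.Quotient.mk P)) :=
        Monotone.strictMono_of_injective (fun a b h => Ideal.comap_mono h)
          (PrimeSpectrum.comap_injective_of_surjective _ Ideal.Quotient.mk_surjective)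
      have h := Order.height_le_height_apply_of_strictMono _ hsm ⟨m', inferInstance⟩
      have e1 : PrimeSpectrum.comap (Ideal.Quotient.mk P) ⟨m', inferInstance⟩ = (⟨m, inferInstance⟩ : PrimeSpectrum S) :=
        PrimeSpectrum.ext hc
      rw [e1] at h
      rw [← PrimeSpectrum.height_eq_orderHeight, ← PrimeSpectrum.height_eq_orderHeight] at h
      exact h
    have hmem : ∀ x ∈ f.map (algebraMap S Sm), x ∈ IsLocalRing.maximalIdeal Sm := by
      intro x hx
      obtain ⟨y, hy, rfl⟩ := List.mem_map.1 hx
      rw [← Localization.AtPrime.map_eq_maximalIdeal]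
      exact Ideal.mem_map_of_mem _ (hm (Ideal.subset_span hy))
    have hJ : (Ideal.ofList f).map (algebraMap S Sm) = J := Ideal.map_ofList _ _
    have hdimQ : ringKrullDim (Sm ⧸ J) ≤ ringKrullDim (S ⧸ Ideal.ofList f) := by
      let g : S ⧸ Ideal.ofList f →+* Sm ⧸ J :=
        Ideal.quotientMap J (algebraMap S Sm) (Ideal.map_le_iff_le_comap.1 hJ.le)
      refine Order.krullDim_le_of_strictMono (PrimeSpectrum.comap g) (Monotone.strictMono_of_injective ?_ ?_)
      · exact fun a b h => Ideal.comap_mono h
      · intro a b hab
        have h1 := congrArg (PrimeSpectrum.comap (Ideal.Quotient.mk (Ideal.ofList f))) hab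
        have h2 : PrimeSpectrum.comap (algebraMap S Sm) (PrimeSpectrum.comap (Ideal.Quotient.mk J) a) =
            PrimeSpectrum.comap (algebraMap S Sm) (PrimeSpectrum.comap (Ideal.Quotient.mk J) b) := h1
        exact PrimeSpectrum.comap_injective_of_surjective _ Ideal.Quotient.mk_surjective
          (PrimeSpectrum.localization_comap_injective Sm m.primeCompl h2)
    have hsd : Module.supportDim Sm (Sm ⧸ (J • (⊤ : Submodule Sm Sm))) = ringKrullDim (Sm ⧸ J) := by
      rw [Module.supportDim_eq_of_equiv (Submodule.quotEquivOfEq _ J (by simp)), Module.supportDim_quotient_eq_ringKrullDim]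
    have hcm : LocCoh.IsCohenMacaulayModule Sm Sm := LocCoh.IsCohenMacaulayLocalRing.supportDim_eq_depth
    obtain ⟨h1, h2⟩ := EGA41Lib.cm_regular_sequence (f.map (algebraMap S Sm)) Sm hcm hmem
    have hlen : (f.map (algebraMap S Sm)).length = f.length := List.length_map _
    have hw : RingTheory.Sequence.IsWeaklyRegular Sm (f.map (algebraMap S Sm)) := by
      refine h2 ?_
      rw [hsd, hlen, Module.supportDim_self_eq_ringKrullDim]
      refine le_trans (add_le_add_left (hdimQ.trans hle) _) (le_trans (le_of_eq ?_) hd)
      rw [← Nat.cast_add, Nat.sub_add_cancel hi]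
    refine ⟨?_, hw⟩
    have h3 := (h1 hw).1
    rw [hsd, hlen, Module.supportDim_self_eq_ringKrullDim] at h3
    have h4 : (d : WithBot ℕ∞) ≤ ringKrullDim (S ⧸ Ideal.ofList f) + f.length :=
      hd.trans (h3.symm.le.trans (add_le_add_left hdimQ _))
    generalize ringKrullDim (S ⧸ Ideal.ofList f) = z at h4
    induction z with
    | bot => simp at h4
    | coe z =>
      induction z with
      | top => simp
      | coe z =>
        have := hlen
        have h5 : d ≤ z + f.length := by exact_mod_cast h4
        have h6 : d - f.length ≤ z := by omega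
        exact WithBot.coe_le_coe.2 (Nat.cast_le.2 h6)
  obtain ⟨m, hmax, hm⟩ := Ideal.exists_le_maximal _ hne
  refine ⟨le_antisymm hle (key m hm).1, fun q _ hq => ?_⟩
  obtain ⟨m, hmax, hqm⟩ := Ideal.exists_le_maximal q (Ideal.IsPrime.ne_top ‹_›)
  obtain ⟨-, hw⟩ := key m (hq.trans hqm)
  let Sm := Localization.AtPrime m
  let Sq := Localization.AtPrime q
  have hle' : m.primeCompl ≤ q.primeCompl := fun x hx hxq => hx (hqm hxq)
  letI : Algebra Sm Sq := (IsLocalization.map (M := m.primeCompl) (T := q.primeCompl) Sq (RingHom.id S) hle').toAlgebra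
  haveI : IsScalarTower S Sm Sq := .of_algebraMap_eq fun x =>
    (IsLocalization.map_eq (M := m.primeCompl) (T := q.primeCompl) (Q := Sq) (g := RingHom.id S) hle' x).symm
  haveI : Module.Flat Sm Sq :=
    (Module.flat_iff_of_isLocalization Sm m.primeCompl Sq).2 (IsLocalization.flat Sq q.primeCompl)
  haveI : Module.Finite Sq Sq := inferInstance
  refine ⟨?_, ?_⟩
  · have := (RingTheory.Sequence.isWeaklyRegular_map_algebraMap_iff Sq Sq _).2
      (EGA41Lib.isWeaklyRegular_of_flat Sq hw)
    rwa [List.map_map, ← RingHom.coe_comp, ← IsScalarTower.algebraMap_eq] at this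
  · intro h
    have hJq : Ideal.ofList (f.map (algebraMap S Sq)) ≤ IsLocalRing.maximalIdeal Sq := by
      rw [← Ideal.map_ofList, ← Localization.AtPrime.map_eq_maximalIdeal]
      exact Ideal.map_mono hq
    have : (⊤ : Submodule Sq Sq) ≤ IsLocalRing.maximalIdeal Sq := by
      rw [h]; simpa using hJq
    exact (IsLocalRing.maximalIdeal.isMaximal Sq).ne_top (top_le_iff.1 this)

end Groth.Agent.S9154
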