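import Groth.Statements.S9156
import Mathlib
import Groth.Agent.DimLib.Algebra
import Groth.Agent.CAlgH3.QuotientLocal
-- import your own Groth.Agent.* helpers here

set_option autoImplicit false
universe u
open CAlg

namespace Groth.Agent.S9156

/-- A Cohen–Macaulay finite type algebra S over a field k decomposes as a finite product of k-algebras
S_0 × ⋯ × S_N in which every maximal ideal of the factor S_d has height d (so Spec S is a finite
disjoint union of equidimensional open and closed pieces). -/
theorem result (k S : Type u) [Field k] [CommRing S]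
    [Algebra k S] [Algebra.FiniteType k S] [LocCoh.IsCohenMacaulayRing S] :
    ∃ (N : ℕ) (T : Fin (N + 1) → Type u) (_ : ∀ d, CommRing (T d)) (_ : ∀ d, Algebra k (T d)),
      Nonempty (S ≃ₐ[k] ((d : Fin (N + 1)) → T d)) ∧
        ∀ (d : Fin (N + 1)) (m : Ideal (T d)), m.IsMaximal → m.height = (d : ℕ) := by
  classical
  haveI : IsNoetherianRing S := Algebra.FiniteType.isNoetherianRing k S
  have hfin := minimalPrimes.finite_of_isNoetherianRing S
  haveI hprime : ∀ q : minimalPrimes S, (q.1).IsPrime := fun q => q.2.isPrime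
  choose d hd using fun q : minimalPrimes S => Groth.Agent.DimLib.exists_nat_ringKrullDim (k := k) (A := S ⧸ q.1)
  -- height of a maximal ideal is the dimension of every component through it
  have key : ∀ (q : minimalPrimes S) (m : Ideal S) [m.IsMaximal], q.1 ≤ m →
      m.height = (d q : ℕ∞) ∧ (m.map (Ideal.Quotient.mk q.1)).height = (d q : ℕ∞) := by
    intro q m _ hqm
    haveI hmb : (m.map (Ideal.Quotient.mk q.1)).IsMaximal :=
      Ideal.IsMaximal.map_of_surjective_of_ker_le Ideal.Quotient.mk_surjective (by rwa [Ideal.mk_ker])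
    have hmc : (m.map (Ideal.Quotient.mk q.1)).comap (Ideal.Quotient.mk q.1) = m :=
      Ideal.comap_map_of_surjective' _ Ideal.Quotient.mk_surjective m |>.trans (by rw [Ideal.mk_ker, sup_eq_left.2 hqm])
    have h1 : ((m.map (Ideal.Quotient.mk q.1)).height : WithBot ℕ∞) = (d q : WithBot ℕ∞) := by
      rw [Groth.Agent.DimLib.height_eq_of_isMaximal (k := k), hd]
    have h1' : (m.map (Ideal.Quotient.mk q.1)).height = (d q : ℕ∞) := by exact_mod_cast h1
    refine ⟨?_, h1'⟩
    set mb := m.map (Ideal.Quotient.mk q.1) with hmb'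
    let L := Localization.AtPrime (mb.comap (Ideal.Quotient.mk q.1))
    haveI : LocCoh.IsCohenMacaulayLocalRing L := LocCoh.IsCohenMacaulayRing.isCohenMacaulayLocalRing_localization _
    have hdisj : Disjoint ((mb.comap (Ideal.Quotient.mk q.1)).primeCompl : Set S) (q.1 : Set S) :=
      Set.disjoint_left.2 fun x hx hq => hx (hmc.symm ▸ hqm hq)
    haveI : (q.1.map (algebraMap S L)).IsPrime :=
      IsLocalization.isPrime_of_isPrime_disjoint _ L q.1 (hprime q) hdisj
    have hq0 : (q.1.map (algebraMap S L)).height = 0 := by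
      rw [IsLocalization.height_map_of_disjoint (mb.comap (Ideal.Quotient.mk q.1)).primeCompl _ hdisj]
      exact Ideal.height_eq_zero_iff.2 q.2
    have h2 := Groth.Agent.CAlgH3.height_add_ringKrullDim_quotient (q.1.map (algebraMap S L))
    obtain ⟨e, -⟩ := Groth.Agent.CAlgH3.exists_quotientLocalEquiv q.1 mb
    rw [hq0, ringKrullDim_eq_of_ringEquiv e, IsLocalization.AtPrime.ringKrullDim_eq_height mb,
      IsLocalization.AtPrime.ringKrullDim_eq_height (mb.comap (Ideal.Quotient.mk q.1)) L, h1'] at h2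
    simp only [hmc] at h2
    norm_num at h2
    exact_mod_cast h2.symm
  haveI := hfin.fintype
  let N := Finset.univ.sup d
  let I : Fin (N + 1) → Ideal S := fun i => (Finset.univ.filter fun q : minimalPrimes S => d q = (i : ℕ)).inf (fun q => q.1)
  have hIq : ∀ i (m : Ideal S), m.IsPrime → I i ≤ m → ∃ q : minimalPrimes S, d q = (i : ℕ) ∧ q.1 ≤ m := by
    intro i m hm h
    obtain ⟨q, hq, hqm⟩ := (Ideal.IsPrime.inf_le' hm).1 h
    exact ⟨q, (Finset.mem_filter.1 hq).2, hqm⟩
  have hcop : Pairwise (Function.onFun IsCoprime I) := by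
    intro i j hij
    rw [Function.onFun, Ideal.isCoprime_iff_sup_eq]
    by_contra h
    obtain ⟨m, hm, hle⟩ := Ideal.exists_le_maximal _ h
    obtain ⟨q, hq, hqm⟩ := hIq i m hm.isPrime (le_sup_left.trans hle)
    obtain ⟨q', hq', hqm'⟩ := hIq j m hm.isPrime (le_sup_right.trans hle)
    have e := ((key q m hqm).1.symm.trans (key q' m hqm').1)
    rw [Nat.cast_inj, hq, hq'] at e
    exact hij (Fin.ext e)
  have hnil : ∏ i, I i ≤ nilradical S := by
    rw [nilradical_eq_sInf]
    refine le_sInf fun p (hp : p.IsPrime) => ?_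
    obtain ⟨q, hq, hqp⟩ := Ideal.exists_minimalPrimes_le (I := (⊥ : Ideal S)) (J := p) bot_le
    have hi : d ⟨q, hq⟩ < N + 1 := Nat.lt_succ_of_le (Finset.le_sup (f := d) (Finset.mem_univ _))
    refine le_trans Ideal.prod_le_inf (le_trans (Finset.inf_le (Finset.mem_univ (⟨_, hi⟩ : Fin (N + 1)))) ?_)
    exact (Finset.inf_le (f := fun q : minimalPrimes S => q.1) (s := Finset.univ.filter fun q' : minimalPrimes S => d q' = d ⟨q, hq⟩) (Finset.mem_filter.2 ⟨Finset.mem_univ (⟨q, hq⟩ : minimalPrimes S), rfl⟩)).trans hqp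
  obtain ⟨M, hM⟩ := IsNoetherianRing.isNilpotent_nilradical S
  let J : Fin (N + 1) → Ideal S := fun i => I i ^ (M + 1)
  have hJcop : Pairwise (Function.onFun IsCoprime J) := fun i j hij => (hcop hij).pow
  have hJbot : ⨅ i, J i = ⊥ := by
    have := Ideal.prod_eq_iInf_of_pairwise_isCoprime (s := Finset.univ) (J := J) (hJcop.set_pairwise _)
    simp only [Finset.mem_univ, iInf_pos] at this
    rw [← this, eq_bot_iff]
    calc ∏ i, J i = (∏ i, I i) ^ (M + 1) := Finset.prod_pow _ _ _
      _ ≤ nilradical S ^ (M + 1) := Ideal.pow_right_mono hnil _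
      _ = ⊥ := by rw [pow_succ, hM]; simp
  let φ : S →ₐ[k] ((i : Fin (N + 1)) → S ⧸ J i) := Pi.algHom k _ fun i => Ideal.Quotient.mkₐ k (J i)
  have hφ : Function.Bijective φ := by
    constructor
    · rw [injective_iff_map_eq_zero]
      intro x hx
      rw [← Ideal.mem_bot, ← hJbot, Submodule.mem_iInf]
      exact fun i => Ideal.Quotient.eq_zero_iff_mem.1 (congr_fun hx i)
    · intro y
      obtain ⟨r, hr⟩ := Ideal.pi_quotient_surjective hJcop y
      exact ⟨r, funext hr⟩
  refine ⟨N, fun i => S ⧸ J i, inferInstance, inferInstance, ⟨AlgEquiv.ofBijective φ hφ⟩, fun i mb hmb => ?_⟩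
  let m := mb.comap (Ideal.Quotient.mk (J i))
  haveI : m.IsMaximal := Ideal.comap_isMaximal_of_surjective _ Ideal.Quotient.mk_surjective
  have hJm : J i ≤ m := fun x hx => by
    show Ideal.Quotient.mk (J i) x ∈ mb
    rw [Ideal.Quotient.eq_zero_iff_mem.2 hx]
    exact Ideal.zero_mem _
  obtain ⟨q, hq, hqm⟩ := hIq i m inferInstance (Ideal.IsPrime.le_of_pow_le (n := M + 1) hJm)
  have hJq : J i ≤ q.1 := (Ideal.pow_le_self (by omega)).trans (Finset.inf_le (Finset.mem_filter.2 ⟨Finset.mem_univ q, hq⟩))
  haveI : (m.map (Ideal.Quotient.mk q.1)).IsMaximal :=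
    Ideal.IsMaximal.map_of_surjective_of_ker_le Ideal.Quotient.mk_surjective (by rwa [Ideal.mk_ker])
  haveI := hmb.isPrime
  have hmono : ∀ {A B : Type u} [CommRing A] [CommRing B] (f : A →+* B) (_ : Function.Surjective f) (P : Ideal B) [P.IsPrime],
      P.height ≤ (P.comap f).height := by
    intro A B _ _ f hf P _
    have hsm : StrictMono (PrimeSpectrum.comap f) :=
      Monotone.strictMono_of_injective (fun p q h => Ideal.comap_mono h) (PrimeSpectrum.comap_injective_of_surjective f hf)
    exact ((PrimeSpectrum.height_eq_orderHeight ⟨P, inferInstance⟩).le.trans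
      (Order.height_le_height_apply_of_strictMono _ hsm _)).trans
      (PrimeSpectrum.height_eq_orderHeight (PrimeSpectrum.comap f ⟨P, inferInstance⟩)).ge
  refine le_antisymm ?_ ?_
  · rw [← hq, ← (key q m hqm).1]
    exact hmono _ Ideal.Quotient.mk_surjective mb
  · rw [← hq, ← (key q m hqm).2]
    refine (hmono (Ideal.Quotient.factor hJq) (Ideal.Quotient.factor_surjective hJq) _).trans (le_of_eq ?_)
    congr 1
    apply Ideal.comap_injective_of_surjective _ Ideal.Quotient.mk_surjective
    rw [Ideal.comap_comap, Ideal.Quotient.factor_comp_mk, Ideal.comap_map_of_surjective' _ Ideal.Quotient.mk_surjective,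
      Ideal.mk_ker, sup_eq_left.2 hqm]

end Groth.Agent.S9156
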