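import Groth.Statements.S9157
import Mathlib.Algebra.Module.FinitePresentation

set_option autoImplicit false
universe u
open CAlg

namespace Groth.Agent.S9157

/-- If the localization S⁻¹M of an R-module M is finitely presented over S⁻¹R, then some finitely
presented R-module M' maps to M inducing an isomorphism S⁻¹M' → S⁻¹M. -/
theorem result (R : Type u) [CommRing R] (S : Submonoid R)
    (M : Type u) [AddCommGroup M] [Module R M]
    [Module.FinitePresentation (Localization S) (LocalizedModule S M)] :
    ∃ (M' : Type u) (_ : AddCommGroup M') (_ : Module R M') (φ : M' →ₗ[R] M),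
      Module.FinitePresentation R M' ∧ Function.Bijective (LocalizedModule.map S φ) := by
  classical
  obtain ⟨k, gen, hgen⟩ := Module.Finite.exists_fin (R := Localization S) (M := LocalizedModule S M)
  choose num hnum using fun i => IsLocalizedModule.surj S (LocalizedModule.mkLinearMap S M) (gen i)
  let φ0 : (Fin k → R) →ₗ[R] M := Fintype.linearCombination R (fun i => (num i).1)
  let L := LocalizedModule.map S φ0
  have hL : Function.Surjective L := by
    rw [← LinearMap.range_eq_top, ← top_le_iff, ← hgen, Submodule.span_le]
    rintro _ ⟨i, rfl⟩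
    refine ⟨LocalizedModule.mk (Pi.single i 1) (num i).2, ?_⟩
    rw [LocalizedModule.map_mk, Fintype.linearCombination_apply_single, one_smul]
    apply ((Module.End.isUnit_iff _).mp (IsLocalizedModule.map_units (LocalizedModule.mkLinearMap S M) (num i).2)).1
    show (num i).2.1 • _ = (num i).2.1 • gen i
    rw [← Submonoid.smul_def, ← Submonoid.smul_def, hnum i, Module.End.one_apply,
      Submonoid.smul_def, LocalizedModule.smul'_mk, ← Submonoid.smul_def, LocalizedModule.mk_cancel,
      LocalizedModule.mkLinearMap_apply]
  have hfin : Module.Finite (Localization S) (LocalizedModule S (Fin k → R)) := inferInstance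
  obtain ⟨t, ht⟩ := Module.FinitePresentation.fg_ker L hL
  have : ∀ z : t, ∃ v : Fin k → R, φ0 v = 0 ∧ ∃ (a : S) (b : S), a • (z : LocalizedModule S (Fin k → R)) = b • LocalizedModule.mk v 1 := by
    rintro ⟨z, hz⟩
    induction z using LocalizedModule.induction_on with
    | h v s =>
      have hz0 : LocalizedModule.mk v s ∈ LinearMap.ker L := ht ▸ Submodule.subset_span hz
      rw [LinearMap.mem_ker, LocalizedModule.map_mk, ← LocalizedModule.zero_mk 1,
        LocalizedModule.mk_eq] at hz0
      obtain ⟨c, hc⟩ := hz0
      simp only [smul_zero, one_smul] at hc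
      refine ⟨c • v, by rw [Submonoid.smul_def, map_smul, ← Submonoid.smul_def]; exact hc, c * s, 1, ?_⟩
      simp only [one_smul, Submonoid.smul_def, LocalizedModule.smul'_mk, Submonoid.coe_mul]
      rw [LocalizedModule.mk_eq]
      exact ⟨1, by simp [Submonoid.smul_def, mul_smul, smul_comm (s:R) (c:R)]⟩
  choose v hv a b hab using this
  let N : Submodule R (Fin k → R) := Submodule.span R (Set.range v)
  have hN : N ≤ LinearMap.ker φ0 := Submodule.span_le.mpr (by rintro _ ⟨z, rfl⟩; exact hv z)
  refine ⟨(Fin k → R) ⧸ N, inferInstance, inferInstance, N.liftQ φ0 hN,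
    Module.finitePresentation_of_surjective N.mkQ N.mkQ_surjective (by
      rw [Submodule.ker_mkQ]; exact Submodule.fg_span (Set.finite_range v)), ?_⟩
  let Lq := LocalizedModule.map S N.mkQ
  have hcomp : ∀ w, LocalizedModule.map S (N.liftQ φ0 hN) (Lq w) = L w := by
    intro w
    induction w using LocalizedModule.induction_on with
    | h v s => simp [Lq, L, LocalizedModule.map_mk]
  refine ⟨?_, fun y => ?_⟩
  · rw [injective_iff_map_eq_zero]
    intro q hq
    obtain ⟨w, rfl⟩ := LocalizedModule.map_surjective S N.mkQ N.mkQ_surjective q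
    rw [hcomp] at hq
    have hw : w ∈ Submodule.span (Localization S) (t : Set (LocalizedModule S (Fin k → R))) := ht ▸ hq
    have : Submodule.span (Localization S) (t : Set (LocalizedModule S (Fin k → R))) ≤ LinearMap.ker Lq := by
      rw [Submodule.span_le]
      intro z hz
      show Lq z = 0
      have h1 := congrArg Lq (hab ⟨z, hz⟩)
      simp only [Submonoid.smul_def, LinearMap.map_smul_of_tower, Lq, LocalizedModule.map_mk] at h1
      rw [show N.mkQ (v ⟨z, hz⟩) = 0 from (Submodule.Quotient.mk_eq_zero N).mpr (Submodule.subset_span ⟨_, rfl⟩),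
        LocalizedModule.zero_mk, smul_zero] at h1
      exact ((Module.End.isUnit_iff _).mp (IsLocalizedModule.map_units (LocalizedModule.mkLinearMap S _) (a ⟨z, hz⟩))).1
        (by simpa [Submonoid.smul_def] using h1)
    exact this hw
  · obtain ⟨w, rfl⟩ := hL y
    exact ⟨Lq w, hcomp w⟩

end Groth.Agent.S9157
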