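import Groth.Statements.S9159
import Groth.Agent.CAlgH3.MiracleFlat
import Groth.Agent.CAlgH3.FlatDepth
import Groth.Agent.CAlgSmall.LocalDim
import Groth.Agent.CAlgH3.RegularHom
import Groth.Agent.DimLib.Algebra
import Groth.Agent.Misc15.CMCI
import Mathlib

set_option autoImplicit false
universe u
open CAlg
open IsLocalRing

namespace Groth.Agent.S9159

/-- The residue field and the quotient have the same transcendence degree. -/
theorem trdeg_quotient_eq (k A : Type u) [Field k] [CommRing A] [Algebra k A] (p : Ideal A) [p.IsPrime] :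
    Algebra.trdeg k (A ⧸ p) = Algebra.trdeg k p.ResidueField := by
  haveI : Algebra.IsAlgebraic (A ⧸ p) p.ResidueField := IsLocalization.isAlgebraic _ (nonZeroDivisors _)
  have h0 : Algebra.trdeg (A ⧸ p) p.ResidueField = 0 := trdeg_eq_zero
  have := trdeg_add_eq k (A ⧸ p) (A := p.ResidueField)
  rwa [h0, add_zero] at this

/-- Fix a field k, a k-algebra S of finite type, and a quasi-finite map of k-algebras k[y_1, …, y_d] →
S. A prime q of S has S_q flat over k[y_1, …, y_d] exactly when S_q is Cohen–Macaulay and Spec S has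
local dimension d at q. -/
theorem result (k S : Type u) [Field k] [CommRing S]
    [Algebra k S] [Algebra.FiniteType k S] (d : ℕ) [Algebra (MvPolynomial (Fin d) k) S]
    [IsScalarTower k (MvPolynomial (Fin d) k) S] [Algebra.QuasiFinite (MvPolynomial (Fin d) k) S]
    (q : Ideal S) [q.IsPrime] :
    Module.Flat (MvPolynomial (Fin d) k) (Localization.AtPrime q) ↔
      (LocCoh.IsCohenMacaulayLocalRing (Localization.AtPrime q) ∧
        FlatMor.localDim (PrimeSpectrum S) ⟨q, inferInstance⟩ = (d : WithBot ℕ∞)) := by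
  classical
  haveI : IsNoetherianRing S := Algebra.FiniteType.isNoetherianRing k S
  let p := q.under (MvPolynomial (Fin d) k)
  haveI : q.LiesOver p := ⟨rfl⟩
  letI := Localization.AtPrime.algebraOfLiesOver p q
  let Pp := Localization.AtPrime p
  let Sq := Localization.AtPrime q
  haveI : IsRegularLocalRing Pp := IsRegularRing.isRegularLocalRing_localization p
  let J := (maximalIdeal Pp).map (algebraMap Pp Sq)
  have hJ : J = p.map (algebraMap (MvPolynomial (Fin d) k) Sq) := by
    show (maximalIdeal Pp).map (algebraMap Pp Sq) = _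
    rw [← Localization.AtPrime.map_eq_maximalIdeal, Ideal.map_map, ← IsScalarTower.algebraMap_eq]
  have hJM : J ≤ maximalIdeal Sq := by
    refine Ideal.map_le_iff_le_comap.2 ?_
    rw [maximalIdeal_comap]
  haveI : Nontrivial (Sq ⧸ J) := Ideal.Quotient.nontrivial_iff.2 fun h =>
    (inferInstance : (maximalIdeal Sq).IsMaximal).ne_top (top_le_iff.1 (h ▸ hJM))
  haveI : Ring.KrullDimLE 0 (Sq ⧸ J) := Ring.KrullDimLE.mk₀ fun Q hQ => by
    have hQc : (Q.comap (Ideal.Quotient.mk J)).comap (algebraMap S Sq) = q := by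
      have hle : (Q.comap (Ideal.Quotient.mk J)).comap (algebraMap S Sq) ≤ q := by
        intro a ha
        by_contra haq
        exact (Ideal.IsPrime.comap (Ideal.Quotient.mk J) (K := Q)).ne_top
          (Ideal.eq_top_of_isUnit_mem _ ha (IsLocalization.map_units Sq (⟨a, haq⟩ : q.primeCompl)))
      refine Algebra.QuasiFinite.eq_of_le_of_under_eq (R := MvPolynomial (Fin d) k) _ _ hle
        (le_antisymm (Ideal.comap_mono hle) fun a ha => ?_)
      show Ideal.Quotient.mk J (algebraMap S Sq (algebraMap _ S a)) ∈ Q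
      rw [← IsScalarTower.algebraMap_apply, Ideal.Quotient.eq_zero_iff_mem.2
        (hJ ▸ Ideal.mem_map_of_mem _ ha)]
      exact Q.zero_mem
    have : Q.comap (Ideal.Quotient.mk J) = maximalIdeal Sq := by
      rw [← IsLocalization.map_comap q.primeCompl Sq (Q.comap (Ideal.Quotient.mk J)), Ideal.under_def, hQc,
        Localization.AtPrime.map_eq_maximalIdeal]
    rw [← Ideal.map_comap_of_surjective _ Ideal.Quotient.mk_surjective Q, this]
    refine (Ideal.map_eq_top_or_isMaximal_of_surjective _ Ideal.Quotient.mk_surjective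
      inferInstance).resolve_left fun h => hQ.ne_top ?_
    rw [← Ideal.map_comap_of_surjective _ Ideal.Quotient.mk_surjective Q, this, h]
  have hfib : ringKrullDim (Sq ⧸ J) = 0 := ringKrullDimZero_iff_ringKrullDim_eq_zero.1 ‹_›
  -- dimensions
  have hP : (p.height : WithBot ℕ∞) + ringKrullDim (MvPolynomial (Fin d) k ⧸ p) = d := by
    rw [DimLib.height_add_ringKrullDim_quotient (k := k) p]
    simp
  have hquot : ringKrullDim (S ⧸ q) = ringKrullDim (MvPolynomial (Fin d) k ⧸ p) := by
    rw [DimLib.ringKrullDim_eq_trdeg (k := k), DimLib.ringKrullDim_eq_trdeg (k := k),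
      trdeg_quotient_eq, trdeg_quotient_eq]
    congr 2
    haveI : Module.Finite p.ResidueField q.ResidueField := inferInstance
    have h0 : Algebra.trdeg p.ResidueField q.ResidueField = 0 := trdeg_eq_zero
    rw [← trdeg_add_eq k p.ResidueField (A := q.ResidueField), h0, add_zero]
  have hloc : FlatMor.localDim (PrimeSpectrum S) ⟨q, inferInstance⟩ =
      ringKrullDim Sq + ringKrullDim (S ⧸ q) := Unram17Lib.localDim_spec k S ⟨q, inferInstance⟩
  have hiff : FlatMor.localDim (PrimeSpectrum S) ⟨q, inferInstance⟩ = (d : WithBot ℕ∞) ↔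
      ringKrullDim Sq = ringKrullDim Pp := by
    rw [hloc, hquot, ← hP, IsLocalization.AtPrime.ringKrullDim_eq_height p Pp]
    obtain ⟨e, he⟩ : ∃ e : ℕ, ringKrullDim (MvPolynomial (Fin d) k ⧸ p) = e :=
      ⟨_, DimLib.ringKrullDim_eq_trdeg (k := k)⟩
    rw [he]
    exact ⟨fun h => le_antisymm (Misc15.le_of_add_natCast_le e h.le) (Misc15.le_of_add_natCast_le e h.ge),
      fun h => by rw [h]⟩
  rw [hiff]
  constructor
  · intro hflat
    haveI : Module.Flat Pp Sq :=
      (Module.flat_iff_of_isLocalization Pp p.primeCompl Sq).2 hflat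
    have hdim : ringKrullDim Sq = ringKrullDim Pp := by
      have h := Ideal.height_eq_height_add_of_liesOver_of_hasGoingDown (maximalIdeal Pp) (maximalIdeal Sq)
      have h0 : ((maximalIdeal Sq).map (Ideal.Quotient.mk J)).height = 0 := by
        refine le_antisymm ?_ bot_le
        have hne : (maximalIdeal Sq).map (Ideal.Quotient.mk J) ≠ ⊤ := fun h => by
          have := congrArg (Ideal.comap (Ideal.Quotient.mk J)) h
          rw [Ideal.comap_map_of_surjective _ Ideal.Quotient.mk_surjective, ← RingHom.ker_eq_comap_bot,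
            Ideal.mk_ker, sup_eq_left.2 hJM, Ideal.comap_top] at this
          exact (inferInstance : (maximalIdeal Sq).IsMaximal).ne_top this
        exact WithBot.coe_le_coe.1 ((Ideal.height_le_ringKrullDim_of_ne_top hne).trans_eq hfib)
      rw [h0, add_zero] at h
      rw [← maximalIdeal_height_eq_ringKrullDim (R := Sq), ← maximalIdeal_height_eq_ringKrullDim (R := Pp), h]
    refine ⟨?_, hdim⟩
    haveI : _root_.LocCoh.IsCohenMacaulayLocalRing Pp := CAlgH3.isCohenMacaulayLocalRing_of_regular Pp
    exact CAlgH3.isCohenMacaulayLocalRing_of_flat (A := Pp) (hdim.le.trans (le_add_of_nonneg_right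
      (WithBot.coe_le_coe.2 bot_le)))
  · rintro ⟨hcm, hdim⟩
    haveI := hcm
    haveI : Module.Flat Pp Sq := CAlgH3.flat_of_dim_eq _ Pp rfl Sq (by rw [hdim, hfib, add_zero])
    exact Module.Flat.trans (MvPolynomial (Fin d) k) Pp Sq

end Groth.Agent.S9159
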