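import Groth.Statements.S9161
import Mathlib.Tactic.Abel

set_option autoImplicit false
universe u
open CAlg

namespace Groth.Agent.S9161

/-- If two two-term complexes of R-modules A₁ → A₀ and B₁ → B₀ are homotopy equivalent (maps of
complexes both ways whose composites are homotopic to the identity maps), then A₁ ⊕ B₀ and B₁ ⊕ A₀
are isomorphic R-modules. -/
theorem result (R : Type u) [CommRing R]
    (A₁ A₀ B₁ B₀ : Type u) [AddCommGroup A₁] [Module R A₁] [AddCommGroup A₀] [Module R A₀]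
    [AddCommGroup B₁] [Module R B₁] [AddCommGroup B₀] [Module R B₀]
    (dA : A₁ →ₗ[R] A₀) (dB : B₁ →ₗ[R] B₀) (φ₁ : A₁ →ₗ[R] B₁) (φ₀ : A₀ →ₗ[R] B₀)
    (ψ₁ : B₁ →ₗ[R] A₁) (ψ₀ : B₀ →ₗ[R] A₀) (hφ : dB ∘ₗ φ₁ = φ₀ ∘ₗ dA) (hψ : dA ∘ₗ ψ₁ = ψ₀ ∘ₗ dB)
    (h : A₀ →ₗ[R] A₁) (hh₁ : LinearMap.id - ψ₁ ∘ₗ φ₁ = h ∘ₗ dA) (hh₀ : LinearMap.id - ψ₀ ∘ₗ φ₀ = dA ∘ₗ h)
    (h' : B₀ →ₗ[R] B₁) (hh'₁ : LinearMap.id - φ₁ ∘ₗ ψ₁ = h' ∘ₗ dB)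
    (hh'₀ : LinearMap.id - φ₀ ∘ₗ ψ₀ = dB ∘ₗ h') :
    Nonempty ((A₁ × B₀) ≃ₗ[R] (B₁ × A₀)) := by
  let Φ : (A₁ × B₀) →ₗ[R] (B₁ × A₀) :=
    (φ₁.coprod h').prod ((-dA).coprod ψ₀)
  let Ψ : (B₁ × A₀) →ₗ[R] (A₁ × B₀) := (ψ₁.coprod (-h)).prod (dB.coprod φ₀)
  have e1 : ∀ p, Ψ (Φ p) = (p.1 + (ψ₁ (h' p.2) - h (ψ₀ p.2)), p.2) := by
    rintro ⟨a, c⟩
    have a1 := LinearMap.congr_fun hh₁ a
    have a2 := LinearMap.congr_fun hφ a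
    have a3 := LinearMap.congr_fun hh'₀ c
    simp only [LinearMap.sub_apply, LinearMap.id_apply, LinearMap.comp_apply] at a1 a2 a3
    simp [Φ, Ψ, ← a1, a2, ← a3]
    constructor <;> abel
  have e2 : ∀ p, Φ (Ψ p) = (p.1 + (h' (φ₀ p.2) - φ₁ (h p.2)), p.2) := by
    rintro ⟨b, a⟩
    have a1 := LinearMap.congr_fun hh'₁ b
    have a2 := LinearMap.congr_fun hψ b
    have a3 := LinearMap.congr_fun hh₀ a
    simp only [LinearMap.sub_apply, LinearMap.id_apply, LinearMap.comp_apply] at a1 a2 a3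
    simp [Φ, Ψ, ← a1, a2, ← a3]
    abel
  refine ⟨LinearEquiv.ofBijective Φ ⟨?_, ?_⟩⟩
  · intro p q hpq
    have := congrArg Ψ hpq
    rw [e1, e1, Prod.ext_iff] at this
    obtain ⟨h1, h2⟩ := this
    simp only at h1 h2
    rw [h2] at h1
    exact Prod.ext (add_right_cancel h1) h2
  · intro p
    refine ⟨Ψ (p.1 - (h' (φ₀ p.2) - φ₁ (h p.2)), p.2), ?_⟩
    rw [e2]
    simp

end Groth.Agent.S9161
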