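import Groth.Statements.S9163
import Mathlib.RingTheory.IntegralClosure.IsIntegralClosure.Basic
import Mathlib.RingTheory.Polynomial.Subring
import Mathlib.RingTheory.FiniteType

set_option autoImplicit false
universe u
open CAlg Polynomial

namespace Groth.Agent.S9163

/-- If S is integral over R, then any finitely many elements of R and of S lie in a pair R₀ ⊆ R, S₀ ⊆ S
with R₀ a finite type ℤ-subalgebra, S₀ an R₀-subalgebra of S, and S₀ finite as an R₀-module; so R →
S is the directed colimit of finite maps between finite type ℤ-algebras. -/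
theorem result (R S : Type u) [CommRing R] [CommRing S] [Algebra R S]
    [Algebra.IsIntegral R S] (E : Finset R) (F : Finset S) :
    ∃ (R₀ : Subalgebra ℤ R) (S₀ : Subalgebra R₀ S), Algebra.FiniteType ℤ R₀ ∧ (E : Set R) ⊆ R₀ ∧
      (F : Set S) ⊆ S₀ ∧ Module.Finite R₀ S₀ := by
  classical
  choose p hp hp0 using fun x : S => Algebra.IsIntegral.isIntegral (R := R) x
  let E' : Finset R := E ∪ F.biUnion fun x => (p x).coeffs
  let R₀ := Algebra.adjoin ℤ (E' : Set R)
  refine ⟨R₀, Algebra.adjoin R₀ (F : Set S), ?_, ?_, Algebra.subset_adjoin, ?_⟩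
  · exact ⟨(Subalgebra.fg_top _).mpr ⟨E', rfl⟩⟩
  · exact fun x hx => Algebra.subset_adjoin (Finset.mem_union_left _ hx)
  · refine Module.Finite.iff_fg.mpr (?_ : (Subalgebra.toSubmodule (Algebra.adjoin R₀ (F : Set S))).FG)
    refine fg_adjoin_of_finite F.finite_toSet fun x hx => ?_
    have hc : ↑(p x).coeffs ⊆ (R₀.toSubring : Set R) := fun c hc => Algebra.subset_adjoin
      (Finset.mem_union_right _ (Finset.mem_biUnion.mpr ⟨x, hx, hc⟩))
    refine ⟨(p x).toSubring R₀.toSubring hc, (monic_toSubring _ _ _).mpr (hp x), ?_⟩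
    have e := map_toSubring (p x) R₀.toSubring hc
    have h0 := hp0 x
    rw [← e, eval₂_map] at h0
    exact h0

end Groth.Agent.S9163
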