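import Mathlib
import Groth.Statements.S9164

set_option autoImplicit false
universe u
open CAlg
open scoped nonZeroDivisors TensorProduct

namespace Groth.Agent.S9164

/-- Let R be a one-dimensional Noetherian local domain with fraction field K and V a finite-dimensional
K-vector space; a lattice is a finitely generated R-submodule of V spanning V over K. (1) For a
lattice M and an R-submodule M' ⊇ M: M' is a lattice iff M'/M has finite length over R iff M' is
finitely generated. (2) For a lattice M and M' ⊆ M: M' is a lattice iff M/M' has finite length. (3)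
The intersection of two lattices is a lattice. (The published statement also asserts that the sum M
+ M' of two lattices is a lattice and two identities between lengths of quotients of nested
lattices; this row states (1), (2) and the intersection half of (3).) -/
theorem result (R K V : Type u) [CommRing R] [IsDomain R]
    [IsNoetherianRing R] [IsLocalRing R] (hdim : ringKrullDim R = 1) [Field K] [Algebra R K]
    [IsFractionRing R K] [AddCommGroup V] [Module K V] [Module R V] [IsScalarTower R K V]
    [FiniteDimensional K V] (M : Submodule R V) [Submodule.IsLattice K M] :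
    (∀ M' : Submodule R V, M ≤ M' →
        (Submodule.IsLattice K M' ↔ Module.length R (M' ⧸ Submodule.comap M'.subtype M) ≠ ⊤) ∧
          (Submodule.IsLattice K M' ↔ M'.FG)) ∧
      (∀ M' : Submodule R V, M' ≤ M →
        (Submodule.IsLattice K M' ↔ Module.length R (M ⧸ Submodule.comap M.subtype M') ≠ ⊤)) ∧
      ∀ M' : Submodule R V, Submodule.IsLattice K M' → Submodule.IsLattice K (M ⊓ M') := by
  classical
  have : Ring.KrullDimLE 1 R := Ring.krullDimLE_iff.mpr (by rw [hdim]; norm_num)
  have hnotart : ¬ IsArtinianRing R := fun h => by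
    have := (isArtinianRing_iff_krullDimLE_zero).mp h
    rw [Ring.krullDimLE_iff, hdim] at this
    norm_num at this
  have tors : ∀ {N : Submodule R V}, Submodule.span K (N : Set V) = ⊤ → ∀ v : V, ∃ r : R, r ≠ 0 ∧ r • v ∈ N := by
    intro N hN v
    have hv : v ∈ Submodule.span K (N : Set V) := hN ▸ Submodule.mem_top
    induction hv using Submodule.span_induction with
    | mem y hy => exact ⟨1, one_ne_zero, by simpa using hy⟩
    | zero => exact ⟨1, one_ne_zero, by simp⟩
    | add a b _ _ ha hb =>
      obtain ⟨r, hr, hra⟩ := ha; obtain ⟨s, hs, hsb⟩ := hb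
      refine ⟨r * s, mul_ne_zero hr hs, ?_⟩
      rw [smul_add]
      refine N.add_mem ?_ ?_
      · rw [mul_comm, mul_smul]; exact N.smul_mem _ hra
      · rw [mul_smul]; exact N.smul_mem _ hsb
    | smul c a _ ha =>
      obtain ⟨r, hr, hra⟩ := ha
      obtain ⟨p, q, hq, rfl⟩ := IsFractionRing.div_surjective R c
      refine ⟨q * r, mul_ne_zero (nonZeroDivisors.ne_zero hq) hr, ?_⟩
      have : (q * r) • (algebraMap R K p / algebraMap R K q) • a = p • r • a := by
        rw [← algebraMap_smul K (q * r), ← algebraMap_smul K p, ← algebraMap_smul K r, smul_smul, smul_smul,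
          map_mul]
        congr 1
        have : algebraMap R K q ≠ 0 := (map_ne_zero_iff _ (IsFractionRing.injective R K)).mpr (nonZeroDivisors.ne_zero hq)
        field_simp
      rw [this]; exact N.smul_mem _ hra
  have finlen : ∀ (P Q : Submodule R V), Q ≤ P → P.FG → (∀ v ∈ P, ∃ r : R, r ≠ 0 ∧ r • v ∈ Q) →
      Module.length R (P ⧸ Submodule.comap P.subtype Q) ≠ ⊤ := by
    intro P Q _ hP ht
    obtain ⟨g, hg⟩ := hP
    choose! c hc0 hc using ht
    let r := ∏ y ∈ g, c y
    have hr : r ≠ 0 := Finset.prod_ne_zero_iff.mpr fun y hy => hc0 y (hg ▸ Submodule.subset_span hy)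
    have hall : ∀ v ∈ P, r • v ∈ Q := by
      intro v hv
      rw [← hg] at hv
      induction hv using Submodule.span_induction with
      | mem y hy =>
        have e : r = (∏ z ∈ g.erase y, c z) * c y := (Finset.prod_erase_mul g c hy).symm
        rw [e, mul_smul]
        exact Q.smul_mem _ (hc y (hg ▸ Submodule.subset_span hy))
      | zero => simp
      | add a b _ _ ha hb => rw [smul_add]; exact Q.add_mem ha hb
      | smul t a _ ha => rw [smul_comm]; exact Q.smul_mem _ ha
    have : Module.Finite R P := Module.Finite.iff_fg.mpr ⟨g, hg⟩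
    let X := P ⧸ Submodule.comap P.subtype Q
    obtain ⟨n, s, hs⟩ := Module.Finite.exists_fin' R X
    let F := Fin n → R
    let bar : (Fin n → R ⧸ Ideal.span {r}) →ₗ[R] X := (LinearMap.lsum R (fun _ : Fin n => R ⧸ Ideal.span {r}) R)
      (fun i => (Ideal.span {r}).liftQ (LinearMap.toSpanSingleton R X (s (Pi.single i 1))) (by
        rw [Ideal.span_le, Set.singleton_subset_iff, SetLike.mem_coe, LinearMap.mem_ker, LinearMap.toSpanSingleton_apply]
        obtain ⟨v, hv⟩ := Submodule.Quotient.mk_surjective _ (s (Pi.single i 1))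
        rw [← hv, ← Submodule.Quotient.mk_smul, Submodule.Quotient.mk_eq_zero]
        exact hall v.1 v.2))
    have hbar : Function.Surjective bar := by
      intro y
      obtain ⟨w, rfl⟩ := hs y
      refine ⟨fun i => Submodule.Quotient.mk (w i), ?_⟩
      conv_rhs => rw [pi_eq_sum_univ' w, map_sum]
      simp only [bar, LinearMap.lsum_apply, LinearMap.sum_apply, LinearMap.comp_apply, LinearMap.proj_apply,
        map_smul]
      refine Finset.sum_congr rfl fun i _ => ?_
      rw [Submodule.liftQ_apply, LinearMap.toSpanSingleton_apply]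
    refine ne_top_of_le_ne_top ?_ (Module.length_le_of_surjective bar hbar)
    rw [Module.length_pi_of_fintype]
    exact (WithTop.sum_lt_top.mpr fun i _ => Ring.ord_lt_top (mem_nonZeroDivisors_of_ne_zero hr)).ne
  have fgM : M.FG := Submodule.IsLattice.fg (A := K)
  have spM : Submodule.span K (M : Set V) = ⊤ := Submodule.IsLattice.span_eq_top
  have up : ∀ M' : Submodule R V, M ≤ M' → (Submodule.IsLattice K M' ↔ M'.FG) := fun M' h =>
    ⟨fun h' => h'.fg, Submodule.IsLattice.of_le_of_isLattice_of_fg K h⟩
  refine ⟨fun M' hle => ⟨?_, up M' hle⟩, fun M' hle => ⟨fun h => ?_, fun h => ?_⟩, fun M' h => ?_⟩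
  · rw [up M' hle]
    refine ⟨fun h => finlen M' M hle h fun v _ => tors spM v, fun h => ?_⟩
    have h2 := ((isFiniteLength_iff_isNoetherian_isArtinian).mp (Module.length_ne_top_iff.mp h)).1
    refine Submodule.fg_of_fg_map_of_fg_inf_ker (M := V) (Submodule.mkQ M) ?_ ?_
    · have : M'.map M.mkQ = LinearMap.range ((Submodule.comap M'.subtype M).liftQ (M.mkQ ∘ₗ M'.subtype)
          (fun z hz => LinearMap.mem_ker.mpr ((Submodule.Quotient.mk_eq_zero M).mpr hz))) := by
        rw [Submodule.range_liftQ, LinearMap.range_comp, Submodule.range_subtype]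
      rw [this, ← Submodule.map_top]
      exact Submodule.FG.map _ (IsNoetherian.noetherian _)
    · rw [Submodule.ker_mkQ, inf_eq_right.mpr hle]; exact fgM
  · exact finlen M M' hle fgM fun v _ => tors h.span_eq_top v
  · have hfg : M'.FG := by
      have : IsNoetherian R M := isNoetherian_of_fg_of_noetherian M fgM
      exact Submodule.FG.of_le fgM hle
    refine ⟨hfg, ?_⟩
    rw [eq_top_iff, ← spM, Submodule.span_le]
    intro v hv
    let z : M ⧸ Submodule.comap M.subtype M' := Submodule.Quotient.mk ⟨v, hv⟩
    have hnot : ¬ Function.Injective (LinearMap.toSpanSingleton R _ z) := fun hinj => hnotart (by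
      have hlen := ne_top_of_le_ne_top h (Module.length_le_of_injective _ hinj)
      exact ((isFiniteLength_iff_isNoetherian_isArtinian).mp (Module.length_ne_top_iff.mp hlen)).2)
    rw [← LinearMap.ker_eq_bot] at hnot
    obtain ⟨a, ha, ha0⟩ := Submodule.exists_mem_ne_zero_of_ne_bot hnot
    rw [LinearMap.mem_ker, LinearMap.toSpanSingleton_apply] at ha
    have ha' : a • v ∈ M' := by
      rw [← Submodule.Quotient.mk_smul, Submodule.Quotient.mk_eq_zero] at ha
      exact ha
    have h1 : algebraMap R K a ≠ 0 := (map_ne_zero_iff _ (IsFractionRing.injective R K)).mpr ha0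
    have h2 : algebraMap R K a • v ∈ Submodule.span K (M' : Set V) := by
      rw [algebraMap_smul]; exact Submodule.subset_span ha'
    have h3 := Submodule.smul_mem _ (algebraMap R K a)⁻¹ h2
    rwa [inv_smul_smul₀ h1] at h3
  · have hinf : (M ⊓ M').FG := by
      have : IsNoetherian R M := isNoetherian_of_fg_of_noetherian M fgM
      exact Submodule.FG.of_le fgM inf_le_left
    refine ⟨hinf, eq_top_iff.mpr fun v _ => ?_⟩
    obtain ⟨r, hr, hrv⟩ := tors spM v
    obtain ⟨s, hs, hsv⟩ := tors h.span_eq_top v
    have hmem : (r * s) • v ∈ M ⊓ M' :=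
      ⟨by rw [mul_comm, mul_smul]; exact M.smul_mem _ hrv, by rw [mul_smul]; exact M'.smul_mem _ hsv⟩
    have h1 : algebraMap R K (r * s) ≠ 0 :=
      (map_ne_zero_iff _ (IsFractionRing.injective R K)).mpr (mul_ne_zero hr hs)
    have h2 : algebraMap R K (r * s) • v ∈ Submodule.span K ((M ⊓ M' : Submodule R V) : Set V) := by
      rw [algebraMap_smul]; exact Submodule.subset_span hmem
    have h3 := Submodule.smul_mem _ (algebraMap R K (r * s))⁻¹ h2
    rwa [inv_smul_smul₀ h1] at h3

end Groth.Agent.S9164
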