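import Groth.Statements.S9167
import Mathlib
-- import your own Groth.Agent.* helpers here

set_option autoImplicit false
universe u
open CAlg

namespace Groth.Agent.S9167

/-- With R' = S⁻¹(R/I), every finitely presented R'-module is of the form S⁻¹(M/IM) for some finitely
presented R-module M. -/
theorem result (R : Type u) [CommRing R] (I : Ideal R)
    (S : Submonoid R) (M' : Type u) [AddCommGroup M']
    [Module (Localization (S.map (Ideal.Quotient.mk I))) M']
    [Module.FinitePresentation (Localization (S.map (Ideal.Quotient.mk I))) M'] :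
    ∃ (M : Type u) (_ : AddCommGroup M) (_ : Module R M), Module.FinitePresentation R M ∧
      Nonempty (LocalizedModule (S.map (Ideal.Quotient.mk I)) (M ⧸ (I • ⊤ : Submodule R M))
        ≃ₗ[Localization (S.map (Ideal.Quotient.mk I))] M') := by
  classical
  let A := R ⧸ I
  let T := S.map (Ideal.Quotient.mk I)
  let A' := Localization T
  obtain ⟨n, W, e, hW⟩ := Module.FinitePresentation.exists_fin A' M'
  let f : (Fin n → A) →ₗ[A] (Fin n → A') := LinearMap.pi fun i => Algebra.linearMap A A' ∘ₗ LinearMap.proj i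
  haveI : IsLocalizedModule T f := IsLocalizedModule.pi T fun _ : Fin n => Algebra.linearMap A A'
  obtain ⟨s, hs⟩ := hW
  obtain ⟨b, hb⟩ := IsLocalizedModule.exist_integer_multiples_of_finset T f s
  choose w hw using hb
  let π : (Fin n → R) →ₗ[R] (Fin n → A) := LinearMap.pi fun i => (Ideal.Quotient.mkₐ R I).toLinearMap ∘ₗ LinearMap.proj i
  have hπ : Function.Surjective π := fun y => by
    choose x hx using fun i => Ideal.Quotient.mk_surjective (y i)
    exact ⟨x, funext hx⟩
  choose v hv using fun (a : {a // a ∈ s}) => hπ (w a.1 a.2)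
  let N : Submodule R (Fin n → R) := Submodule.span R (Set.range v)
  let N₀ : Submodule A (Fin n → A) := Submodule.span A (Set.range fun a : {a // a ∈ s} => w a.1 a.2)
  have hN₀ : N₀.localized' A' T f = W := by
    rw [Submodule.localized'_span, ← hs]
    refine le_antisymm (Submodule.span_le.2 ?_) (Submodule.span_le.2 fun a ha => ?_)
    · rintro _ ⟨_, ⟨a, rfl⟩, rfl⟩
      rw [SetLike.mem_coe, hw a.1 a.2]
      exact Submodule.smul_of_tower_mem _ _ (Submodule.subset_span a.2)
    · have hbu : IsUnit (algebraMap A A' (b : A)) := IsLocalization.map_units A' b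
      have : a = (↑hbu.unit⁻¹ : A') • f (w a ha) := by
        rw [hw a ha, ← IsScalarTower.algebraMap_smul A' (b : A) a, smul_smul, IsUnit.val_inv_mul, one_smul]
      rw [SetLike.mem_coe, this]
      exact Submodule.smul_mem _ _ (Submodule.subset_span ⟨_, ⟨⟨a, ha⟩, rfl⟩, rfl⟩)
  let M := (Fin n → R) ⧸ N
  refine ⟨M, inferInstance, inferInstance,
    Module.finitePresentation_of_surjective N.mkQ N.mkQ_surjective (by rw [Submodule.ker_mkQ]; exact Submodule.fg_span (Set.finite_range v)), ?_⟩
  have hNle : N ≤ (N₀.restrictScalars R).comap π := Submodule.span_le.2 (by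
    rintro _ ⟨a, rfl⟩
    show π (v a) ∈ N₀
    rw [hv]; exact Submodule.subset_span ⟨a, rfl⟩)
  let g₀ : M →ₗ[R] (Fin n → A) ⧸ N₀ := N.liftQ ((N₀.mkQ.restrictScalars R) ∘ₗ π) (by
    refine hNle.trans fun x hx => ?_
    exact (Submodule.Quotient.mk_eq_zero N₀).2 hx)
  let g₁ : M ⧸ (I • ⊤ : Submodule R M) →ₗ[R] (Fin n → A) ⧸ N₀ := Submodule.liftQ _ g₀ (by
    refine Submodule.smul_le.2 fun r hr x _ => ?_
    rw [LinearMap.mem_ker, map_smul, ← IsScalarTower.algebraMap_smul A r (g₀ x),
      Ideal.Quotient.algebraMap_eq, Ideal.Quotient.eq_zero_iff_mem.2 hr, zero_smul])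
  have hsurj : Function.Surjective g₁ := fun y => by
    obtain ⟨y, rfl⟩ := N₀.mkQ_surjective y
    obtain ⟨x, rfl⟩ := hπ y
    exact ⟨Submodule.Quotient.mk (Submodule.Quotient.mk x), rfl⟩
  have hinj : Function.Injective g₁ := by
    rw [← LinearMap.ker_eq_bot, eq_bot_iff]
    intro z hz
    obtain ⟨z, rfl⟩ := Submodule.mkQ_surjective _ z
    obtain ⟨x, rfl⟩ := N.mkQ_surjective z
    have hx : π x ∈ N₀ := (Submodule.Quotient.mk_eq_zero N₀).1 hz
    obtain ⟨c, hc⟩ := (Submodule.mem_span_range_iff_exists_fun A).1 hx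
    choose c' hc' using fun a => Ideal.Quotient.mk_surjective (c a)
    rw [Submodule.mem_bot]
    refine (Submodule.Quotient.mk_eq_zero _).2 ?_
    have hd : ∀ i, (x - ∑ a, c' a • v a) i ∈ I := by
      intro i
      rw [← Ideal.Quotient.eq_zero_iff_mem]
      have hh : π (x - ∑ a, c' a • v a) = 0 := by
        rw [map_sub, map_sum, sub_eq_zero, ← hc]
        refine Finset.sum_congr rfl fun a _ => ?_
        rw [map_smul, hv, ← hc' a]
        exact (IsScalarTower.algebraMap_smul A (c' a) (w a.1 a.2))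
      exact congrFun hh i
    have hmem : N.mkQ x = ∑ i, (x - ∑ a, c' a • v a) i • N.mkQ (Pi.single i 1) := by
      conv_rhs => enter [2, i]; rw [← map_smul]
      rw [← map_sum]
      refine (Submodule.Quotient.eq N).2 ?_
      have : ∑ i, (x - ∑ a, c' a • v a) i • (Pi.single i 1 : Fin n → R) = x - ∑ a, c' a • v a :=
        (pi_eq_sum_univ' _).symm
      rw [this, sub_sub_cancel]
      exact Submodule.sum_mem _ fun a _ => Submodule.smul_mem _ _ (Submodule.subset_span ⟨a, rfl⟩)
    show N.mkQ x ∈ (I • ⊤ : Submodule R M)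
    rw [hmem]
    exact Submodule.sum_mem _ fun i _ => Submodule.smul_mem_smul (hd i) trivial
  let g : (M ⧸ (I • ⊤ : Submodule R M)) ≃ₗ[A] (Fin n → A) ⧸ N₀ :=
    { LinearEquiv.ofBijective g₁ ⟨hinj, hsurj⟩ with
      map_smul' := fun a z => by
        obtain ⟨r, rfl⟩ := Ideal.Quotient.mk_surjective a
        show g₁ (r • z) = _
        rw [map_smul]
        exact (IsScalarTower.algebraMap_smul A r (g₁ z)).symm }
  haveI : IsLocalizedModule T ((N₀.toLocalizedQuotient' A' T f) ∘ₗ g.toLinearMap) :=
    IsLocalizedModule.of_linearEquiv_right T (N₀.toLocalizedQuotient' A' T f) g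
  exact ⟨((IsLocalizedModule.iso T ((N₀.toLocalizedQuotient' A' T f) ∘ₗ g.toLinearMap)).extendScalarsOfIsLocalization T A').trans
    ((Submodule.quotEquivOfEq _ _ hN₀).trans e.symm)⟩

end Groth.Agent.S9167
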