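import Groth.Statements.S9168
import Groth.Agent.CAlgH.LocSubring
import Mathlib.RingTheory.EssentialFiniteness

set_option autoImplicit false
universe u
open CAlg

namespace Groth.Agent.S9168

/-- For a local homomorphism of local rings R → S and finite subsets E ⊆ R, F ⊆ S there are local
subrings R₀ ⊆ R and S₀ ⊆ S containing E and F, with R → S mapping R₀ into S₀, such that the
inclusions and the induced map R₀ → S₀ are local homomorphisms, R₀ is essentially of finite type
over ℤ and S₀ is essentially of finite type over R₀. (So R → S is the directed colimit of such R₀ →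
S₀.) -/
theorem result (R S : Type u) [CommRing R] [CommRing S] [IsLocalRing R]
    [IsLocalRing S] [Algebra R S] [IsLocalHom (algebraMap R S)] (E : Finset R) (F : Finset S) :
    ∃ (R₀ : Subring R) (S₀ : Subring S) (h : ∀ x ∈ R₀, algebraMap R S x ∈ S₀),
      (E : Set R) ⊆ R₀ ∧ (F : Set S) ⊆ S₀ ∧ ∃ (_ : IsLocalRing R₀) (_ : IsLocalRing S₀),
        IsLocalHom R₀.subtype ∧ IsLocalHom S₀.subtype ∧
          IsLocalHom ((algebraMap R S).restrict R₀ S₀ h) ∧
          (algebraMap ℤ R₀).EssFiniteType ∧ ((algebraMap R S).restrict R₀ S₀ h).EssFiniteType := by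
  classical
  let T := Subring.closure (E : Set R)
  let R₀ := Groth.Agent.CAlgH.locCl T
  let U := Subring.closure (algebraMap R S '' (R₀ : Set R) ∪ (F : Set S))
  let S₀ := Groth.Agent.CAlgH.locCl U
  have h : ∀ x ∈ R₀, algebraMap R S x ∈ S₀ := fun x hx =>
    Groth.Agent.CAlgH.locCl_le U (Subring.subset_closure (Or.inl ⟨x, hx, rfl⟩))
  obtain ⟨l1, i1⟩ := Groth.Agent.CAlgH.locSubring R₀ (Groth.Agent.CAlgH.locCl_inv T)
  obtain ⟨l2, i2⟩ := Groth.Agent.CAlgH.locSubring S₀ (Groth.Agent.CAlgH.locCl_inv U)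
  refine ⟨R₀, S₀, h, fun x hx => Groth.Agent.CAlgH.locCl_le T (Subring.subset_closure hx),
    fun x hx => Groth.Agent.CAlgH.locCl_le U (Subring.subset_closure (Or.inr hx)), l1, l2, i1, i2, ?_, ?_, ?_⟩
  · refine ⟨fun a ha => ?_⟩
    exact i1.map_nonunit a (IsLocalHom.map_nonunit (f := algebraMap R S) _ (ha.map S₀.subtype))
  · refine RingHom.essFiniteType_algebraMap.mpr ?_
    rw [Algebra.essFiniteType_iff]
    let E' : Finset R₀ := E.attach.image fun e => ⟨e.1, Groth.Agent.CAlgH.locCl_le T (Subring.subset_closure e.2)⟩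
    refine ⟨E', ?_⟩
    have key : ∀ x, ∀ hx : x ∈ T, (⟨x, Groth.Agent.CAlgH.locCl_le T hx⟩ : R₀) ∈ Algebra.adjoin ℤ (E' : Set R₀) := by
      intro x hx
      induction hx using Subring.closure_induction with
      | mem x hx => exact Algebra.subset_adjoin (Finset.mem_image.mpr ⟨⟨x, hx⟩, Finset.mem_attach _ _, rfl⟩)
      | zero => exact Subalgebra.zero_mem _
      | one => exact Subalgebra.one_mem _
      | add a b _ _ ha hb => exact Subalgebra.add_mem _ ha hb
      | neg a _ ha => exact Subalgebra.neg_mem _ ha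
      | mul a b _ _ ha hb => exact Subalgebra.mul_mem _ ha hb
    rintro ⟨x, b, hb, hub, hxb⟩
    exact ⟨⟨b, Groth.Agent.CAlgH.locCl_le T hb⟩, key b hb, i1.map_nonunit _ hub, key _ hxb⟩
  · letI : Algebra R₀ S₀ := ((algebraMap R S).restrict R₀ S₀ h).toAlgebra
    refine RingHom.essFiniteType_algebraMap.mpr ?_
    rw [Algebra.essFiniteType_iff]
    let F' : Finset S₀ := F.attach.image fun e => ⟨e.1, Groth.Agent.CAlgH.locCl_le U (Subring.subset_closure (Or.inr e.2))⟩
    refine ⟨F', ?_⟩
    have key : ∀ x, ∀ hx : x ∈ U, (⟨x, Groth.Agent.CAlgH.locCl_le U hx⟩ : S₀) ∈ Algebra.adjoin R₀ (F' : Set S₀) := by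
      intro x hx
      induction hx using Subring.closure_induction with
      | mem x hx =>
        rcases hx with ⟨a, ha, rfl⟩ | hx
        · exact Subalgebra.algebraMap_mem (Algebra.adjoin R₀ (F' : Set S₀)) ⟨a, ha⟩
        · exact Algebra.subset_adjoin (Finset.mem_image.mpr ⟨⟨x, hx⟩, Finset.mem_attach _ _, rfl⟩)
      | zero => exact Subalgebra.zero_mem _
      | one => exact Subalgebra.one_mem _
      | add a b _ _ ha hb => exact Subalgebra.add_mem _ ha hb
      | neg a _ ha => exact Subalgebra.neg_mem _ ha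
      | mul a b _ _ ha hb => exact Subalgebra.mul_mem _ ha hb
    rintro ⟨x, b, hb, hub, hxb⟩
    exact ⟨⟨b, Groth.Agent.CAlgH.locCl_le U hb⟩, key b hb, i2.map_nonunit _ hub, key _ hxb⟩

end Groth.Agent.S9168
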