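import Groth.Statements.S9169
import Groth.Agent.Synt15.Syntomic
-- import your own Groth.Agent.* helpers here

set_option autoImplicit false
universe u
open Synt

namespace Groth.Agent.S9169

open TensorProduct in
/-- Let R → S be a ring map and q a prime of S lying over p; write Q for the prime of the fibre ring
κ(p) ⊗ S that pulls back to q. Equivalent: (1) some basic open neighbourhood S_g of q is syntomic
over R; (2) some S_g is isomorphic over R to a relative global complete intersection; (3) some S_g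
is of finite presentation over R, the local ring S_q is flat over R (equivalently over R_p), and the
fibre local ring (κ(p) ⊗ S)_Q is a complete intersection over κ(p). Stated as (1) ↔ (2) and (1) ↔
(3). -/
theorem result (R S : Type u) [CommRing R] [CommRing S] [Algebra R S]
    (p : Ideal R) [p.IsPrime] (q : Ideal S) [q.IsPrime] [q.LiesOver p]
    (Q : Ideal (p.Fiber S)) [Q.IsPrime]
    (hQ : Q.comap (Algebra.TensorProduct.includeRight.toRingHom) = q) :
    ((∃ g : S, g ∉ q ∧ Synt.IsSyntomic R (Localization.Away g)) ↔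
        ∃ g : S, g ∉ q ∧ ∃ (n c : ℕ) (F : Fin c → MvPolynomial (Fin n) R), Synt.IsRelGCI R n c F ∧
          Nonempty (Localization.Away g ≃ₐ[R] Synt.RelGCIRing R n c F)) ∧
      ((∃ g : S, g ∉ q ∧ Synt.IsSyntomic R (Localization.Away g)) ↔
        ∃ g : S, g ∉ q ∧ Algebra.FinitePresentation R (Localization.Away g) ∧
          Module.Flat R (Localization.AtPrime q) ∧
          Synt.IsCIOver p.ResidueField (Localization.AtPrime Q)) := by
  have hqp : q.comap (algebraMap R S) = p := (Ideal.LiesOver.over (P := q) (p := p)).symm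
  have hfp : ∀ g : S, Synt.IsSyntomic R (Localization.Away g) → g ∉ q →
      Algebra.FinitePresentation R (Localization.Away g) ∧ Module.Flat R (Localization.AtPrime q) ∧
        Synt.IsCIOver p.ResidueField (Localization.AtPrime Q) := fun g h hg =>
    ⟨h.2.1, Groth.Agent.Synt15.flat_atPrime_of_away q hg h.1,
      Groth.Agent.Synt15.isCIOver_fibre_of_isSyntomic_away h q hg p Q hQ hqp⟩
  have h21 : (∃ g : S, g ∉ q ∧ ∃ (n c : ℕ) (F : Fin c → MvPolynomial (Fin n) R), Synt.IsRelGCI R n c F ∧
      Nonempty (Localization.Away g ≃ₐ[R] Synt.RelGCIRing R n c F)) →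
      ∃ g : S, g ∉ q ∧ Synt.IsSyntomic R (Localization.Away g) :=
    fun ⟨g, hg, n, c, F, hF, ⟨e⟩⟩ => ⟨g, hg, Groth.Agent.Synt15.isSyntomic_congr e.symm (Groth.Agent.Synt15.isSyntomic_relGCI hF)⟩
  have h32 : ∀ g : S, g ∉ q → Algebra.FinitePresentation R (Localization.Away g) →
      Module.Flat R (Localization.AtPrime q) → Synt.IsCIOver p.ResidueField (Localization.AtPrime Q) →
      ∃ g : S, g ∉ q ∧ ∃ (n c : ℕ) (F : Fin c → MvPolynomial (Fin n) R), Synt.IsRelGCI R n c F ∧
        Nonempty (Localization.Away g ≃ₐ[R] Synt.RelGCIRing R n c F) := fun g hg h1 h2 h3 =>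
    Groth.Agent.Synt15.exists_relGCI_of_local q p hqp hg h1 h2 Q hQ h3
  refine ⟨⟨fun ⟨g, hg, h⟩ => ?_, h21⟩, ⟨fun ⟨g, hg, h⟩ => ⟨g, hg, hfp g h hg⟩, fun ⟨g, hg, h1, h2, h3⟩ => h21 (h32 g hg h1 h2 h3)⟩⟩
  obtain ⟨h1, h2, h3⟩ := hfp g h hg
  exact h32 g hg h1 h2 h3

end Groth.Agent.S9169
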