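import Groth.Statements.S9171
import Groth.Agent.Synt15.FieldLCI
-- import your own Groth.Agent.* helpers here

set_option autoImplicit false
universe u
open Synt

namespace Groth.Agent.S9171

/-- Let S = k[x_1, …, x_n]/I over a field k, q a prime of S, q' the corresponding prime of the
polynomial ring and c the integer with c + ht(q) = ht(q'). Equivalent: (1) S_g is a global complete
intersection over k for some g ∉ q; (2) the extension of I to the local ring k[x]_{q'} is generated
by c elements; (5) that extension is generated by a regular sequence. Stated as (1) ↔ (2) and (1) ↔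
(5). -/
theorem result (k : Type u) [Field k] (n : ℕ)
    (I : Ideal (MvPolynomial (Fin n) k)) (q : Ideal (MvPolynomial (Fin n) k ⧸ I)) [q.IsPrime] (c : ℕ)
    (hc : (c : ℕ∞) + q.height = (q.comap (Ideal.Quotient.mk I)).height) :
    ((∃ g : MvPolynomial (Fin n) k ⧸ I, g ∉ q ∧ Synt.IsGlobalCI k (Localization.Away g)) ↔
        ∃ s : Finset (Localization.AtPrime (q.comap (Ideal.Quotient.mk I))), s.card = c ∧
          Ideal.span (s : Set _) =
            I.map (algebraMap _ (Localization.AtPrime (q.comap (Ideal.Quotient.mk I))))) ∧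
      ((∃ g : MvPolynomial (Fin n) k ⧸ I, g ∉ q ∧ Synt.IsGlobalCI k (Localization.Away g)) ↔
        ∃ rs : List (Localization.AtPrime (q.comap (Ideal.Quotient.mk I))),
          RingTheory.Sequence.IsRegular (Localization.AtPrime (q.comap (Ideal.Quotient.mk I))) rs ∧
          Ideal.ofList rs =
            I.map (algebraMap _ (Localization.AtPrime (q.comap (Ideal.Quotient.mk I))))) := by
  have hd := Groth.Agent.Synt15.localMap_dims I q hc
  set q' := q.comap (Ideal.Quotient.mk I)
  haveI : IsRegularLocalRing (Localization.AtPrime q') := Groth.Agent.Synt15.isRegularLocalRing_atPrime q'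
  obtain ⟨f, hf, hfk⟩ := Groth.Agent.Synt15.exists_localMap (Ideal.Quotient.mkₐ k I) (Ideal.Quotient.mkₐ_surjective k I) q
  have hker : RingHom.ker f.toRingHom = I.map (algebraMap _ (Localization.AtPrime q')) := by
    rw [hfk, show RingHom.ker (Ideal.Quotient.mkₐ k I).toRingHom = I from Ideal.Quotient.mkₐ_ker k I]
    rfl
  haveI : IsNoetherianRing (Localization.AtPrime q) := isNoetherianRing_of_surjective _ _ f.toRingHom hf
  set K := I.map (algebraMap _ (Localization.AtPrime q'))
  have key : (∃ g : MvPolynomial (Fin n) k ⧸ I, g ∉ q ∧ Synt.IsGlobalCI k (Localization.Away g)) ↔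
      CInt.IsRegularIdeal K := by
    rw [← hker]
    refine Iff.trans ⟨?_, fun h => Groth.Agent.Synt15.exists_isGlobalCI_of_isCIOver q h⟩
      (((Groth.Agent.Synt15.isCIOver_iff (k := k) _).trans (Groth.Agent.CAlgH.CIPresentation.isCompleteIntersection_iff f.toRingHom hf)))
    rintro ⟨g, hg, hG⟩
    exact Groth.Agent.Synt15.isCIOver_atPrime_of_away q hg fun Q => Groth.Agent.Synt15.isCIOver_of_isGlobalCI hG Q
  have hK : K ≤ IsLocalRing.maximalIdeal _ := hker ▸ IsLocalRing.le_maximalIdeal (RingHom.ker_ne_top f.toRingHom)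
  haveI : Nontrivial (Localization.AtPrime q' ⧸ K) :=
    Ideal.Quotient.nontrivial_iff.2 (hker ▸ RingHom.ker_ne_top f.toRingHom)
  haveI : IsLocalRing (Localization.AtPrime q' ⧸ K) := .of_surjective' _ Ideal.Quotient.mk_surjective
  obtain ⟨d, hdK⟩ := Groth.Agent.Synt15.exists_nat_dim (Localization.AtPrime q' ⧸ K)
  refine ⟨key.trans ?_, key.trans Iff.rfl⟩
  classical
  constructor
  · rintro ⟨rs, hrs, hl⟩
    have h1 := ringKrullDim_add_length_eq_ringKrullDim_of_isRegular rs hrs
    rw [hl, hd, hdK] at h1
    have hlen : rs.length = c := by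
      have : d + rs.length = d + c := by exact_mod_cast h1
      omega
    have hs : Ideal.span (rs.toFinset : Set (Localization.AtPrime q')) = K := by
      rw [← hl, Ideal.ofList]
      congr 1
      ext; simp
    refine ⟨rs.toFinset, le_antisymm (hlen ▸ List.toFinset_card_le rs) ?_, hs⟩
    have h2 := ringKrullDim_le_ringKrullDim_quotient_add_card rs.toFinset (by
      rw [IsLocalRing.ringJacobson_eq_maximalIdeal]
      exact fun x hx => hK (hs ▸ Ideal.subset_span hx))
    rw [hs, hd, hdK] at h2
    have : d + c ≤ d + rs.toFinset.card := by exact_mod_cast h2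
    omega
  · rintro ⟨s, hcard, hs⟩
    have hl : Ideal.ofList s.toList = K := by
      rw [← hs, Ideal.ofList]
      congr 1
      ext; simp
    refine ⟨s.toList, Groth.Agent.CAlgH.Avramov.isRegular_of_dim (fun x hx => hK (hl ▸ Ideal.subset_span hx)) ?_, hl⟩
    rw [hl, hd, Finset.length_toList, hcard]

end Groth.Agent.S9171
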