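import Groth.Statements.S9176
import Groth.Agent.S9355
import Groth.Agent.EGA43.DimFormula.Sub


set_option autoImplicit false
universe u
open CAlg

namespace Groth.Agent.S9176

/-- For a ring map R → S of finite presentation and n ≥ 0, the set of primes q of S whose fibre
Spec(κ(p) ⊗ S), p = q ∩ R, has local dimension at most n at the point over q is open and
quasi-compact in Spec S. -/
theorem result (R S : Type u) [CommRing R]
    [CommRing S] [Algebra R S] [Algebra.FinitePresentation R S] (n : ℕ) :
    IsOpen {q : PrimeSpectrum S | ∀ Q : PrimeSpectrum ((q.asIdeal.under R).Fiber S),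
        Q.asIdeal.comap (Algebra.TensorProduct.includeRight.toRingHom) = q.asIdeal →
          FlatMor.localDim (PrimeSpectrum ((q.asIdeal.under R).Fiber S)) Q ≤ (n : WithBot ℕ∞)} ∧
      IsCompact {q : PrimeSpectrum S | ∀ Q : PrimeSpectrum ((q.asIdeal.under R).Fiber S),
        Q.asIdeal.comap (Algebra.TensorProduct.includeRight.toRingHom) = q.asIdeal →
          FlatMor.localDim (PrimeSpectrum ((q.asIdeal.under R).Fiber S)) Q ≤ (n : WithBot ℕ∞)} := by
  classical
  let A : CommRingCat.{u} := CommRingCat.of R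
  let B : CommRingCat.{u} := CommRingCat.of S
  let φ : A ⟶ B := CommRingCat.ofHom (algebraMap R S)
  let f := AlgebraicGeometry.Spec.map φ
  have : AlgebraicGeometry.LocallyOfFinitePresentation f := by
    rw [AlgebraicGeometry.HasRingHomProperty.Spec_iff (P := @AlgebraicGeometry.LocallyOfFinitePresentation)]
    exact RingHom.finitePresentation_algebraMap.2 inferInstance
  have key : ∀ (q : PrimeSpectrum S) (Q : PrimeSpectrum ((q.asIdeal.under R).Fiber S)),
      Q.asIdeal.comap (Algebra.TensorProduct.includeRight.toRingHom) = q.asIdeal →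
      FlatMor.localDim (PrimeSpectrum ((q.asIdeal.under R).Fiber S)) Q = FlatMor.fibreDimAt f q := by
    intro q Q hQ
    let p : PrimeSpectrum R := PrimeSpectrum.comap (algebraMap R S) q
    let h2 : ↥(PrimeSpectrum.comap (algebraMap R S) ⁻¹' {p}) ≃ₜ PrimeSpectrum ((q.asIdeal.under R).Fiber S) :=
      PrimeSpectrum.preimageHomeomorphFiber R S p
    let h1 : f.fiber (f.base q) ≃ₜ ↥(PrimeSpectrum.comap (algebraMap R S) ⁻¹' {p}) := f.fiberHomeo (f.base q)
    have e : (h1.trans h2) (f.asFiber q) = Q := by
      refine h2.symm.injective (Subtype.ext ?_)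
      show (h2.symm (h2 (h1 (f.asFiber q)))).1 = (h2.symm Q).1
      rw [h2.symm_apply_apply]
      show f.fiberι _ (f.asFiber q) = _
      exact (AlgebraicGeometry.Scheme.Hom.fiberι_asFiber f q).trans (PrimeSpectrum.ext hQ).symm
    rw [← e]
    exact (_root_.Groth.Agent.EGA43.DimFormula.localDim_homeomorph (h1.trans h2) (f.asFiber q)).symm
  have hset : {q : PrimeSpectrum S | ∀ Q : PrimeSpectrum ((q.asIdeal.under R).Fiber S),
      Q.asIdeal.comap (Algebra.TensorProduct.includeRight.toRingHom) = q.asIdeal →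
        FlatMor.localDim (PrimeSpectrum ((q.asIdeal.under R).Fiber S)) Q ≤ (n : WithBot ℕ∞)} =
      {x : PrimeSpectrum S | FlatMor.fibreDimAt f x ≤ (n : WithBot ℕ∞)} := by
    ext q
    refine ⟨fun h => ?_, fun h Q hQ => (key q Q hQ).trans_le h⟩
    let p : PrimeSpectrum R := PrimeSpectrum.comap (algebraMap R S) q
    let Q : PrimeSpectrum ((q.asIdeal.under R).Fiber S) := PrimeSpectrum.preimageHomeomorphFiber R S p ⟨q, rfl⟩
    have hQ : Q.asIdeal.comap (Algebra.TensorProduct.includeRight.toRingHom) = q.asIdeal :=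
      congrArg (fun z : ↥(PrimeSpectrum.comap (algebraMap R S) ⁻¹' {p}) => z.1.asIdeal)
        ((PrimeSpectrum.preimageHomeomorphFiber R S p).symm_apply_apply ⟨q, rfl⟩)
    exact (key q Q hQ).symm.trans_le (h Q hQ)
  rw [hset]
  refine ⟨_root_.Groth.Agent.FlatMorDim.isOpen_fibreDimAt_le f n, ?_⟩
  have h := _root_.Groth.Agent.S9355.result f n
  simpa using! h isCompact_univ isOpen_univ

end Groth.Agent.S9176
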