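import Groth.Statements.S9177
import Groth.Agent.CAlgH.Spreading
import Mathlib.Algebra.Colimit.Ring

set_option autoImplicit false
universe u
open CAlg

namespace Groth.Agent.S9177

open TensorProduct in
/-- Let R = colim R_i be a directed colimit of A-algebras (compatible transition maps), B and C
A-algebras. (1) If B is of finite type over A, two A-algebra maps B → C whose base changes to R
coincide already have equal base changes to some R_i. (2) If C is of finite type over A and u : B →
C has surjective base change to R, then its base change to some R_i is surjective. (The A-algebra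
structure on R is through any stage R_l; it does not depend on l.) -/
theorem result {ι : Type u} [Preorder ι]
    [Nonempty ι] [IsDirectedOrder ι] (G : ι → Type u) [∀ i, CommRing (G i)]
    (f : ∀ i j, i ≤ j → G i →+* G j) [DirectedSystem G (fun i j h => f i j h)]
    (A : Type u) [CommRing A] [∀ i, Algebra A (G i)]
    (hf : ∀ i j (h : i ≤ j), (f i j h).comp (algebraMap A (G i)) = algebraMap A (G j)) (l : ι)
    (B C : Type u) [CommRing B] [CommRing C] [Algebra A B] [Algebra A C] :
    letI : Algebra A (Ring.DirectLimit G (fun i j h => f i j h)) :=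
      ((Ring.DirectLimit.of G (fun i j h => f i j h) l).comp (algebraMap A (G l))).toAlgebra
    (Algebra.FiniteType A B → ∀ u u' : B →ₐ[A] C,
        Algebra.TensorProduct.map (AlgHom.id A (Ring.DirectLimit G (fun i j h => f i j h))) u =
            Algebra.TensorProduct.map (AlgHom.id A (Ring.DirectLimit G (fun i j h => f i j h))) u' →
          ∃ i : ι, Algebra.TensorProduct.map (AlgHom.id A (G i)) u =
            Algebra.TensorProduct.map (AlgHom.id A (G i)) u') ∧
      (Algebra.FiniteType A C → ∀ u : B →ₐ[A] C,
        Function.Surjective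
            (Algebra.TensorProduct.map (AlgHom.id A (Ring.DirectLimit G (fun i j h => f i j h))) u) →
          ∃ i : ι, Function.Surjective (Algebra.TensorProduct.map (AlgHom.id A (G i)) u)) := by
  classical
  let L := Ring.DirectLimit G (fun i j h => f i j h)
  letI : Algebra A L := ((Ring.DirectLimit.of G (fun i j h => f i j h) l).comp (algebraMap A (G l))).toAlgebra
  let g : ∀ i, G i →ₐ[A] L := fun i =>
    { Ring.DirectLimit.of G (fun i j h => f i j h) i with
      commutes' := fun a => by
        obtain ⟨m, h1, h2⟩ := directed_of (· ≤ ·) i l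
        show Ring.DirectLimit.of G _ i (algebraMap A (G i) a) = Ring.DirectLimit.of G _ l (algebraMap A (G l) a)
        rw [← Ring.DirectLimit.of_f (G := G) (f := fun i j h => f i j h) h1,
          ← Ring.DirectLimit.of_f (G := G) (f := fun i j h => f i j h) h2]
        have e1 := RingHom.congr_fun (hf i m h1) a
        have e2 := RingHom.congr_fun (hf l m h2) a
        simp only [RingHom.comp_apply] at e1 e2
        rw [e1, e2] }
  let fa : ∀ i j, i ≤ j → (G i →ₐ[A] G j) := fun i j h =>
    { f i j h with commutes' := fun a => RingHom.congr_fun (hf i j h) a }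
  have hs : Groth.Agent.CAlgH.ColimSys g := Groth.Agent.CAlgH.ColimSys.of_directed fa g
    (fun i j h => AlgHom.ext fun x => Ring.DirectLimit.of_f h x)
    (fun z => Ring.DirectLimit.exists_of z)
    (fun i x hx => Ring.DirectLimit.of.zero_exact hx)
  refine ⟨fun hB u u' huu => ?_, fun hC u hu => ?_⟩
  · obtain ⟨s, hsB⟩ := hB.out
    obtain ⟨j, h, hh⟩ := hs.bc_kill_finite C (i := l)
      (fun b : s => (1 : G l) ⊗ₜ[A] u b - (1 : G l) ⊗ₜ[A] u' b) (fun b => by
        rw [map_sub, sub_eq_zero]
        have e := AlgHom.congr_fun huu ((1 : L) ⊗ₜ[A] (b : B))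
        simpa using e)
    refine ⟨j, Algebra.TensorProduct.ext (by ext x; simp) (AlgHom.ext_of_adjoin_eq_top hsB fun b hb => ?_)⟩
    have := hh ⟨b, hb⟩
    simpa [sub_eq_zero] using this
  · obtain ⟨s, hsC⟩ := hC.out
    choose z hz using fun c : s => hu ((1 : L) ⊗ₜ[A] (c : C))
    obtain ⟨i, -, w, hw⟩ := hs.bc_lift_finite B z l
    obtain ⟨j, h, hh⟩ := hs.bc_kill_finite C
      (fun c : s => Algebra.TensorProduct.map (AlgHom.id A (G i)) u (w c) - (1 : G i) ⊗ₜ[A] (c : C)) (fun c => by
        rw [map_sub, sub_eq_zero]
        have e : ∀ t : G i ⊗[A] B, Groth.Agent.CAlgH.bcMap C (g i) (Algebra.TensorProduct.map (AlgHom.id A (G i)) u t)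
            = Algebra.TensorProduct.map (AlgHom.id A L) u (Groth.Agent.CAlgH.bcMap B (g i) t) := fun t => by
          induction t using TensorProduct.induction_on with
          | zero => simp
          | tmul p q => simp
          | add p q hp hq => simp only [map_add, hp, hq]
        rw [e, hw, hz]; simp)
    refine ⟨j, ?_⟩
    let K := (Algebra.TensorProduct.map (AlgHom.id A (G j)) u).range
    have hK : ∀ c : C, (1 : G j) ⊗ₜ[A] c ∈ K := by
      have h1 : Algebra.adjoin A (s : Set C) ≤
          K.comap (Algebra.TensorProduct.includeRight : C →ₐ[A] G j ⊗[A] C) := by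
        rw [Algebra.adjoin_le_iff]
        intro c hc
        refine ⟨Algebra.TensorProduct.map h.1 (AlgHom.id A B) (w ⟨c, hc⟩), ?_⟩
        have h2 := hh ⟨c, hc⟩
        rw [map_sub, sub_eq_zero] at h2
        simp only [Algebra.TensorProduct.map_tmul, map_one, AlgHom.coe_id, id_eq] at h2
        show _ = (1 : G j) ⊗ₜ[A] c
        rw [← h2]
        generalize w ⟨c, hc⟩ = t
        show Algebra.TensorProduct.map (AlgHom.id A (G j)) u (Algebra.TensorProduct.map h.1 (AlgHom.id A B) t) = _
        induction t using TensorProduct.induction_on with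
        | zero => simp
        | tmul p q => simp
        | add p q hp hq => simp only [map_add, hp, hq]
      intro c
      exact h1 (show c ∈ Algebra.adjoin A (s : Set C) from hsC ▸ Algebra.mem_top)
    intro t
    show t ∈ K
    induction t using TensorProduct.induction_on with
    | zero => exact K.zero_mem
    | tmul p c =>
      rw [show p ⊗ₜ[A] c = (p ⊗ₜ[A] (1:C)) * ((1 : G j) ⊗ₜ[A] c) by simp]
      exact K.mul_mem ⟨p ⊗ₜ[A] (1:B), by simp⟩ (hK c)
    | add p q hp hq => exact K.add_mem hp hq

end Groth.Agent.S9177
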