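import Groth.Statements.S9178
import Mathlib.RingTheory.Kaehler.Basic
import Mathlib.LinearAlgebra.TensorProduct.Quotient

set_option autoImplicit false
universe u
open CAlg

namespace Groth.Agent.S9178

/-- For ring maps A → B → C with A → C surjective, writing I = ker(A → C) and J = ker(B → C), the
sequence I/I² → J/J² → C ⊗_B Ω_{B/A} → 0 is exact. Stated: the image of I/I² in J/J² is exactly the
kernel of J/J² → C ⊗_B Ω_{B/A} (surjectivity of the latter map is the standard conormal sequence for
the surjection B → C). -/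
theorem result (A B C : Type u) [CommRing A] [CommRing B]
    [CommRing C] [Algebra A B] [Algebra B C] [Algebra A C] [IsScalarTower A B C]
    (hAC : Function.Surjective (algebraMap A C))
    (h : RingHom.ker (algebraMap A C) ≤ (RingHom.ker (algebraMap B C)).comap (Algebra.ofId A B)) :
    Function.Exact
      (Ideal.mapCotangent (RingHom.ker (algebraMap A C)) (RingHom.ker (algebraMap B C)) (Algebra.ofId A B) h)
      (KaehlerDifferential.kerCotangentToTensor A B C) := by
  classical
  let I : Ideal A := RingHom.ker (algebraMap A C)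
  let J : Ideal B := RingHom.ker (algebraMap B C)
  have hmap : ∀ a : I, Ideal.mapCotangent I J (Algebra.ofId A B) h (I.toCotangent a)
      = J.toCotangent ⟨algebraMap A B a, h a.2⟩ := fun a => rfl
  intro z
  constructor
  swap
  · rintro ⟨w, rfl⟩
    obtain ⟨a, rfl⟩ := I.toCotangent_surjective w
    show KaehlerDifferential.kerCotangentToTensor A B C (Ideal.mapCotangent I J (Algebra.ofId A B) h (I.toCotangent a)) = 0
    rw [hmap, KaehlerDifferential.kerCotangentToTensor_toCotangent]
    simp
  intro hz
  obtain ⟨x, rfl⟩ := J.toCotangent_surjective z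
  let IB : Ideal B := I.map (algebraMap A B)
  let Q := B ⧸ (IB ⊔ J ^ 2)
  choose sec hsec using fun b : B => hAC (algebraMap B C b)
  have hsecJ : ∀ b, b - algebraMap A B (sec b) ∈ J := fun b => by
    show algebraMap B C _ = 0
    rw [map_sub, ← IsScalarTower.algebraMap_apply, hsec, sub_self]
  let δf : B → Q := fun b => Ideal.Quotient.mk _ (b - algebraMap A B (sec b))
  have hδ : ∀ b a, algebraMap A C a = algebraMap B C b → δf b = Ideal.Quotient.mk _ (b - algebraMap A B a) := by
    intro b a hab
    apply Ideal.Quotient.eq.mpr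
    refine Ideal.mem_sup_left ?_
    have : b - algebraMap A B (sec b) - (b - algebraMap A B a) = algebraMap A B (a - sec b) := by
      rw [map_sub]; ring
    rw [this]
    exact Ideal.mem_map_of_mem _ (by show algebraMap A C _ = 0; rw [map_sub, hab, hsec, sub_self])
  let δ : Derivation A B Q := Derivation.mk'
    { toFun := δf
      map_add' := fun b b' => by
        rw [hδ (b + b') (sec b + sec b') (by rw [map_add, map_add, hsec, hsec])]
        simp only [δf, ← map_add]
        congr 1; rw [map_add]; ring
      map_smul' := fun a b => by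
        rw [hδ (a • b) (a * sec b) (by rw [map_mul, hsec, Algebra.smul_def, map_mul, ← IsScalarTower.algebraMap_apply])]
        simp only [δf, RingHom.id_apply]
        rw [Algebra.smul_def, map_mul, ← mul_sub, map_mul, Algebra.smul_def]
        rfl }
    (fun b b' => by
      show δf (b * b') = b • δf b' + b' • δf b
      rw [hδ (b * b') (sec b * sec b') (by rw [map_mul, map_mul, hsec, hsec])]
      simp only [δf, Algebra.smul_def, Ideal.Quotient.algebraMap_eq, ← map_mul, ← map_add]
      apply Ideal.Quotient.eq.mpr
      refine Ideal.mem_sup_right ?_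
      rw [pow_two]
      have := Ideal.neg_mem_iff _ |>.mpr (Ideal.mul_mem_mul (hsecJ b) (hsecJ b'))
      convert this using 1
      rw [map_mul]; simp only [Algebra.algebraMap_self, RingHom.id_apply]; ring)
  let L := δ.liftKaehlerDifferential
  have hrange : ∀ ω, L ω ∈ Submodule.map (Submodule.mkQ (IB ⊔ J ^ 2)) J := by
    intro ω
    have hω : ω ∈ Submodule.span B (Set.range (KaehlerDifferential.D A B)) := by
      rw [KaehlerDifferential.span_range_derivation]; trivial
    induction hω using Submodule.span_induction with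
    | mem y hy =>
      obtain ⟨b, rfl⟩ := hy
      rw [Derivation.liftKaehlerDifferential_comp_D]
      exact ⟨_, hsecJ b, rfl⟩
    | zero => simp
    | add a b _ _ ha hb => rw [map_add]; exact add_mem ha hb
    | smul r a _ ha => rw [map_smul]; exact Submodule.smul_mem _ r ha
  have hzero : ∀ ω ∈ J • (⊤ : Submodule B Ω[B⁄A]), L ω = 0 := by
    intro ω hω
    refine Submodule.smul_induction_on hω ?_ ?_
    · intro j hj n _
      obtain ⟨y, hy, hy'⟩ := hrange n
      rw [map_smul, ← hy', ← map_smul]
      apply (Submodule.Quotient.mk_eq_zero _).mpr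
      refine Ideal.mem_sup_right ?_
      rw [pow_two]; exact Ideal.mul_mem_mul hj hy
    · intro a b ha hb; rw [map_add, ha, hb, add_zero]
  have hsurjBC : Function.Surjective (Algebra.linearMap B C) := fun c => by
    obtain ⟨a, rfl⟩ := hAC c
    exact ⟨algebraMap A B a, (IsScalarTower.algebraMap_apply A B C a).symm⟩
  let e : (B ⧸ J) ≃ₗ[B] C := (Algebra.linearMap B C).quotKerEquivOfSurjective hsurjBC
  have hmem : KaehlerDifferential.D A B x.1 ∈ J • (⊤ : Submodule B Ω[B⁄A]) := by
    rw [KaehlerDifferential.kerCotangentToTensor_toCotangent] at hz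
    have h0 : (Ideal.Quotient.mk J 1) ⊗ₜ[B] (KaehlerDifferential.D A B x.1) = 0 := by
      apply (TensorProduct.congr e (LinearEquiv.refl B Ω[B⁄A])).injective
      rw [map_zero, TensorProduct.congr_tmul]
      convert hz using 2
      · exact map_one (algebraMap B C)
      · rfl
    have := congrArg (TensorProduct.quotTensorEquivQuotSMul Ω[B⁄A] J) h0
    rw [map_zero, TensorProduct.quotTensorEquivQuotSMul_mk_tmul, one_smul] at this
    exact (Submodule.Quotient.mk_eq_zero _).mp this
  have hLx := hzero _ hmem
  rw [Derivation.liftKaehlerDifferential_comp_D] at hLx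
  have hx : x.1 ∈ IB ⊔ J ^ 2 := by
    apply Ideal.Quotient.eq_zero_iff_mem.mp
    have : δf x.1 = Ideal.Quotient.mk _ x.1 := by
      rw [hδ x.1 0 (by rw [map_zero]; exact x.2.symm), map_zero, sub_zero]
    rw [← this]; exact hLx
  obtain ⟨y, hy, w, hw, hyw⟩ := Submodule.mem_sup.mp hx
  suffices ∀ y ∈ IB, ∀ hyJ : y ∈ J, J.toCotangent ⟨y, hyJ⟩ ∈
      Set.range (Ideal.mapCotangent I J (Algebra.ofId A B) h) by
    have hyJ : y ∈ J := by
      have : y = x.1 - w := by rw [← hyw]; ring
      rw [this]; exact J.sub_mem x.2 (Ideal.pow_le_self two_ne_zero hw)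
    have e1 : J.toCotangent x = J.toCotangent ⟨y, hyJ⟩ := by
      rw [Ideal.toCotangent_eq]
      show x.1 - y ∈ J ^ 2
      rw [← hyw]; simpa using hw
    show J.toCotangent x ∈ _
    rw [e1]; exact this y hy hyJ
  intro y hy
  induction hy using Submodule.span_induction with
  | mem y hy =>
    obtain ⟨a, ha, rfl⟩ := hy
    exact fun hyJ => ⟨I.toCotangent ⟨a, ha⟩, hmap _⟩
  | zero => exact fun _ => ⟨0, by rw [map_zero]; exact (map_zero J.toCotangent).symm⟩
  | add a b ha hb iha ihb =>
    intro hab
    have haJ : a ∈ J := (Ideal.map_le_iff_le_comap.mpr h) ha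
    have hbJ : b ∈ J := (Ideal.map_le_iff_le_comap.mpr h) hb
    obtain ⟨p, hp⟩ := iha haJ; obtain ⟨q, hq⟩ := ihb hbJ
    exact ⟨p + q, by rw [map_add, hp, hq, ← map_add]; rfl⟩
  | smul b a ha iha =>
    intro hba
    have haJ : a ∈ J := (Ideal.map_le_iff_le_comap.mpr h) ha
    obtain ⟨p, hp⟩ := iha haJ
    refine ⟨sec b • p, ?_⟩
    rw [map_smul, hp, ← algebraMap_smul B (sec b), ← map_smul, Ideal.toCotangent_eq]
    show algebraMap A B (sec b) * a - b * a ∈ J ^ 2
    rw [← sub_mul, pow_two]
    refine Ideal.mul_mem_mul ?_ haJ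
    simpa using J.neg_mem (hsecJ b)

end Groth.Agent.S9178
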