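import Groth.Statements.S9179
import Groth.Agent.CAlgH.UnderColimit

set_option autoImplicit false
universe u
open CategoryTheory CategoryTheory.Limits
open CAlg

namespace Groth.Agent.S9179

/-- An R-algebra of finite type is the colimit of a filtered system of finitely presented R-algebras
whose transition maps are all surjective. -/
theorem result (R A : Type u) [CommRing R] [CommRing A]
    [Algebra R A] [Algebra.FiniteType R A] :
    ∃ (I : Type u) (_ : SmallCategory I) (_ : IsFiltered I) (D : I ⥤ Under (CommRingCat.of R))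
      (c : Cocone D) (_ : IsColimit c),
      (∀ i, (D.obj i).hom.hom.FinitePresentation) ∧
      (∀ (i j : I) (φ : i ⟶ j), Function.Surjective (D.map φ).right.hom) ∧
      Nonempty (c.pt ≅ Under.mk (CommRingCat.ofHom (algebraMap R A))) := by
  classical
  obtain ⟨n, π, hπ⟩ := Algebra.FiniteType.iff_quotient_mvPolynomial''.mp (inferInstance : Algebra.FiniteType R A)
  let P := MvPolynomial (Fin n) R
  let I := {J : Ideal P // J.FG ∧ J ≤ RingHom.ker π.toRingHom}
  have : Nonempty I := ⟨⟨⊥, Submodule.fg_bot, bot_le⟩⟩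
  have : IsDirected I (· ≤ ·) := ⟨fun a b => ⟨⟨a.1 ⊔ b.1, Submodule.FG.sup a.2.1 b.2.1, sup_le a.2.2 b.2.2⟩,
    (le_sup_left : a.1 ≤ a.1 ⊔ b.1), (le_sup_right : b.1 ≤ a.1 ⊔ b.1)⟩⟩
  let g : ∀ J : I, (P ⧸ J.1) →ₐ[R] A := fun J => Ideal.Quotient.liftₐ J.1 π (fun x hx => J.2.2 hx)
  obtain ⟨D, c, hc, hD, hsur, hiso⟩ := Groth.Agent.CAlgH.under_colimit (I := I) (fun J => P ⧸ J.1)
    (fun J J' h => Ideal.Quotient.factorₐ R (h : J.1 ≤ J'.1))
    (fun J => Ideal.Quotient.algHom_ext R (AlgHom.ext fun x => rfl))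
    (fun J J' J'' h1 h2 => Ideal.Quotient.algHom_ext R (AlgHom.ext fun x => rfl)) g
    (fun J J' h => Ideal.Quotient.algHom_ext R (AlgHom.ext fun x => rfl))
    (fun a => ⟨⟨⊥, Submodule.fg_bot, bot_le⟩, by obtain ⟨p, rfl⟩ := hπ a; exact ⟨Ideal.Quotient.mk _ p, rfl⟩⟩)
    (fun J x hx => by
      obtain ⟨p, rfl⟩ := Ideal.Quotient.mk_surjective x
      refine ⟨⟨J.1 ⊔ Ideal.span {p}, Submodule.FG.sup J.2.1 (Submodule.fg_span_singleton p),
        sup_le J.2.2 ((Ideal.span_singleton_le_iff_mem _).mpr hx)⟩, (le_sup_left : J.1 ≤ _), ?_⟩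
      exact Ideal.Quotient.eq_zero_iff_mem.mpr (Ideal.mem_sup_right (Ideal.mem_span_singleton_self p)))
  refine ⟨I, inferInstance, inferInstance, D, c, hc, fun J => ?_, fun i j φ => hsur i j φ ?_, hiso⟩
  · rw [hD J]
    exact (RingHom.finitePresentation_algebraMap).mpr (Algebra.FinitePresentation.quotient J.2.1)
  · intro x
    obtain ⟨p, rfl⟩ := Ideal.Quotient.mk_surjective x
    exact ⟨Ideal.Quotient.mk _ p, rfl⟩

structure Groth.Agent.CAlgH.FPIdx (R A : Type u) [CommRing R] [CommRing A] [Algebra R A] : Type u where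
  s : Finset A
  J : Ideal (MvPolynomial s R)
  fg : J.FG
  le : J ≤ RingHom.ker (MvPolynomial.aeval (R := R) fun a : s => (a : A)).toRingHom

end Groth.Agent.S9179
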