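import Groth.Statements.S9180
import Groth.Agent.CAlgH.FieldExtFibreDim

set_option backward.isDefEq.respectTransparency false

set_option autoImplicit false
universe u
open CAlg

namespace Groth.Agent.S9180

open TensorProduct in
/-- Let S be of finite type over a field k, K an extension field of k, S_K = S ⊗_k K, q a prime of S
whose residue field has transcendence degree r over k, and q_K a prime of S_K lying over q whose
residue field has transcendence degree r_K over K. Then the local ring at q_K of the fibre of S →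
S_K over q has dimension dim (S_K)_{q_K} − dim S_q = r − r_K (stated additively), and there is a
prime of S_K over q for which this dimension is zero. -/
theorem result (k S K : Type u) [Field k] [CommRing S] [Algebra k S]
    [Algebra.FiniteType k S] [Field K] [Algebra k K] (q : Ideal S) [q.IsPrime] (r : ℕ)
    (hr : Algebra.trdeg k q.ResidueField = r) (qK : Ideal (S ⊗[k] K)) [qK.IsPrime] [qK.LiesOver q]
    (rK : ℕ)
    (hrK : letI : Algebra K (S ⊗[k] K) := Algebra.TensorProduct.rightAlgebra
      Algebra.trdeg K qK.ResidueField = rK) :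
    ringKrullDim (EGA4.FibLocRing S (S ⊗[k] K) qK) + ringKrullDim (Localization.AtPrime q) =
        ringKrullDim (Localization.AtPrime qK) ∧
      ringKrullDim (EGA4.FibLocRing S (S ⊗[k] K) qK) + (rK : WithBot ℕ∞) = (r : WithBot ℕ∞) ∧
      ∃ (q' : Ideal (S ⊗[k] K)) (_ : q'.IsPrime), q'.LiesOver q ∧
        ringKrullDim (EGA4.FibLocRing S (S ⊗[k] K) q') = 0 := by
  letI : Algebra K (S ⊗[k] K) := Algebra.TensorProduct.rightAlgebra
  let c := Algebra.TensorProduct.commRight k K S
  haveI : Algebra.FiniteType K (S ⊗[k] K) := Algebra.FiniteType.equiv inferInstance c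
  haveI : IsNoetherianRing S := Algebra.FiniteType.isNoetherianRing k S
  haveI : IsNoetherianRing (S ⊗[k] K) := Algebra.FiniteType.isNoetherianRing K _
  haveI : Module.Flat S (S ⊗[k] K) := inferInstance
  -- every minimal prime of the fibre has coheight `r`
  have hmin : ∀ Q ∈ (q.map (algebraMap S (S ⊗[k] K))).minimalPrimes,
      Q.comap (algebraMap S (S ⊗[k] K)) = q → ringKrullDim ((S ⊗[k] K) ⧸ Q) = r := by
    intro Q hQ hQq
    haveI := hQ.1.1
    let Q' : PrimeSpectrum (K ⊗[k] S) := ⟨Q.comap c.toRingEquiv.toRingHom, inferInstance⟩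
    have hc : c.toRingEquiv.toRingHom.comp
        (Algebra.TensorProduct.includeRight (R := k) (A := K) (B := S)).toRingHom =
          algebraMap S (S ⊗[k] K) := RingHom.ext fun s => by
      show c ((1 : K) ⊗ₜ[k] s) = s ⊗ₜ[k] (1 : K)
      rfl
    have h1 := Groth.Agent.CAlgH.FieldExtFibreDim.dim_quotient_of_minimal (K := K) ⟨q, ‹_›⟩ Q' (by
      refine PrimeSpectrum.ext ?_
      show (Q.comap c.toRingEquiv.toRingHom).comap _ = q
      rw [Ideal.comap_comap, hc, hQq]) (fun Q'' hQ'' hle => by
      refine PrimeSpectrum.ext (le_antisymm hle ?_)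
      let R : Ideal (S ⊗[k] K) := Q''.asIdeal.comap c.symm.toRingEquiv.toRingHom
      have hR : Q''.asIdeal = R.comap c.toRingEquiv.toRingHom := by
        ext x
        show x ∈ Q''.asIdeal ↔ c.symm (c x) ∈ Q''.asIdeal
        rw [c.symm_apply_apply]
      have hRQ : R ≤ Q := fun x hx => by
        have h2 : c (c.symm x) ∈ Q := hle hx
        rwa [c.apply_symm_apply] at h2
      rw [hR]
      refine Ideal.comap_mono (hQ.2 ⟨Ideal.IsPrime.comap _, Ideal.map_le_iff_le_comap.2 (le_of_eq ?_)⟩ hRQ)
      have h3 : (PrimeSpectrum.comap _ Q'').asIdeal = q := congrArg PrimeSpectrum.asIdeal hQ''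
      rw [← h3, ← hc, ← Ideal.comap_comap, ← hR]
      rfl)
    let e : (K ⊗[k] S) ⧸ Q'.asIdeal ≃+* (S ⊗[k] K) ⧸ Q :=
      Ideal.quotientEquiv _ _ c.toRingEquiv
        (Ideal.map_comap_of_surjective c.toRingEquiv.toRingHom c.surjective Q).symm
    rw [← ringKrullDim_eq_of_ringEquiv e, h1]
    simp only [hr, Cardinal.toNat_natCast]
  have hover : qK.comap (algebraMap S (S ⊗[k] K)) = q := (Ideal.LiesOver.over (p := q) (P := qK)).symm
  have hle : q.map (algebraMap S (S ⊗[k] K)) ≤ qK := Ideal.map_le_iff_le_comap.2 hover.ge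
  have hQq : ∀ Q ∈ (q.map (algebraMap S (S ⊗[k] K))).minimalPrimes, Q ≤ qK →
      Q.comap (algebraMap S (S ⊗[k] K)) = q := fun Q hQ h =>
    le_antisymm ((Ideal.comap_mono h).trans hover.le) (Ideal.map_le_iff_le_comap.1 hQ.1.2)
  have hfib : ∀ (Q : Ideal (S ⊗[k] K)) [Q.IsPrime], Q.comap (algebraMap S (S ⊗[k] K)) = q →
      ringKrullDim (EGA4.FibLocRing S (S ⊗[k] K) Q) = ringKrullDim (Localization.AtPrime Q ⧸
        (q.map (algebraMap S (S ⊗[k] K))).map (algebraMap (S ⊗[k] K) (Localization.AtPrime Q))) := by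
    intro Q _ hQ
    refine ringKrullDim_eq_of_ringEquiv (Ideal.quotEquivOfEq ?_)
    rw [hQ, Ideal.map_map, ← IsScalarTower.algebraMap_eq]
  refine ⟨?_, ?_, ?_⟩
  · have h := (Groth.Agent.CommAlg6.local_fibre (A := S) qK).1
    rw [h, add_comm]
    congr 1
    rw [IsLocalization.AtPrime.ringKrullDim_eq_height q (Localization.AtPrime q),
      IsLocalization.AtPrime.ringKrullDim_eq_height (qK.comap (algebraMap S (S ⊗[k] K)))
        (Localization.AtPrime (qK.comap (algebraMap S (S ⊗[k] K)))), hover]
  · have h := Groth.Agent.CAlgH.FieldExtFibreDim.dim_add_eq (K := K) _ qK hle r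
      fun Q hQ h => hmin Q hQ (hQq Q hQ h)
    rw [Groth.Agent.CAlgH.FieldExtFibreDim.dim_quotient_eq_trdeg (k := K) qK, hrK,
      Cardinal.toNat_natCast] at h
    rwa [hfib qK hover]
  · obtain ⟨Q, hQ, hQle⟩ := Ideal.exists_minimalPrimes_le hle
    haveI := hQ.1.1
    have hQo := hQq Q hQ hQle
    refine ⟨Q, inferInstance, ⟨hQo.symm⟩, ?_⟩
    have h := Groth.Agent.CAlgH.FieldExtFibreDim.dim_add_eq (K := K) _ Q hQ.1.2 r
      fun Q' hQ' h => hmin Q' hQ' (hQq Q' hQ' (h.trans hQle))
    rw [hmin Q hQ hQo] at h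
    rw [hfib Q hQo]
    generalize ringKrullDim (Localization.AtPrime Q ⧸ (q.map (algebraMap S (S ⊗[k] K))).map
      (algebraMap (S ⊗[k] K) (Localization.AtPrime Q))) = a at h ⊢
    induction a using WithBot.recBotCoe with
    | bot => simp at h
    | coe a =>
      change (a : WithBot ℕ∞) + ((r : ℕ∞) : WithBot ℕ∞) = ((r : ℕ∞) : WithBot ℕ∞) at h
      rw [← WithBot.coe_add, WithBot.coe_eq_coe] at h
      induction a using ENat.recTopCoe with
      | top => simp at h
      | coe n =>
        norm_cast at h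
        have : n = 0 := by omega
        subst this
        rfl

end Groth.Agent.S9180
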