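import Groth.Statements.S9182
import Groth.Agent.CAlgH.CotangentHomotopy
import Mathlib.RingTheory.Extension.Cotangent.LocalizationAway
import Mathlib.RingTheory.Etale.Basic
import Mathlib.RingTheory.Localization.BaseChange

set_option autoImplicit false
universe u
open CAlg TensorProduct Algebra

namespace Groth.Agent.S9182

/-- For presentations α : R[x_1, …, x_n] → S and β : R[y_1, …, y_m] → S_g (g ∈ S) with kernels I and J,
the S_g-modules (I/I²)_g ⊕ S_g^m and J/J² ⊕ S_g^n are isomorphic. -/
theorem result (R S : Type u) [CommRing R] [CommRing S] [Algebra R S]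
    (g : S) (n m : ℕ) (α : MvPolynomial (Fin n) R →ₐ[R] S) (hα : Function.Surjective α)
    (β : MvPolynomial (Fin m) R →ₐ[R] Localization.Away g) (hβ : Function.Surjective β) :
    Nonempty ((LocalizedModule (Submonoid.powers g) (Algebra.Extension.ofSurjective α hα).Cotangent ×
        (Fin m → Localization.Away g)) ≃ₗ[Localization.Away g]
      ((Algebra.Extension.ofSurjective β hβ).Cotangent × (Fin n → Localization.Away g))) := by
  obtain ⟨P, ⟨eP⟩⟩ := Groth.Agent.CAlgH.cotangent_ofSurjective_equiv α hα
  obtain ⟨P', ⟨eP'⟩⟩ := Groth.Agent.CAlgH.cotangent_ofSurjective_equiv β hβ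
  let T := Localization.Away g
  let Q₀ := Generators.localizationAway T g
  obtain ⟨x, hx⟩ := Generators.Cotangent.surjective_map_ofComp Q₀ P (Generators.cMulXSubOneCotangent T g)
  let e := Generators.cotangentCompLocalizationAwayEquiv g P hx
  obtain ⟨φ₁, φ₀, ψ₁, ψ₀, h, h', a1, a2, a3, a4, a5, a6⟩ := Groth.Agent.CAlgH.homotopy_data (Q₀.comp P) P'
  have : Algebra.FormallyEtale S T := Algebra.FormallyEtale.of_isLocalization (Submonoid.powers g)
  have hdK : Function.Bijective Q₀.toExtension.cotangentComplex := by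
    refine ⟨?_, fun z => ?_⟩
    · refine Q₀.toExtension.subsingleton_h1Cotangent.mp ?_
      have : Subsingleton (Algebra.H1Cotangent S T) := Algebra.FormallySmooth.subsingleton_h1Cotangent
      exact Q₀.equivH1Cotangent.toEquiv.subsingleton
    · exact (Q₀.toExtension.exact_cotangentComplex_toKaehler z).mp (Subsingleton.elim _ _)
  let dK := LinearEquiv.ofBijective _ hdK
  let D := Q₀.comp P
  let r := (Extension.CotangentSpace.map (Q₀.ofComp P).toExtensionHom)
  let u₀ := (Extension.CotangentSpace.map (Q₀.toComp P).toExtensionHom).liftBaseChange T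
  let ce := Generators.CotangentSpace.compEquiv Q₀ P
  let k : D.toExtension.CotangentSpace →ₗ[T] D.toExtension.Cotangent :=
    e.symm.toLinearMap ∘ₗ LinearMap.inr T _ _ ∘ₗ dK.symm.toLinearMap ∘ₗ r
  let p₀ := LinearMap.snd T _ _ ∘ₗ ce.toLinearMap ∘ₗ (LinearMap.id - D.toExtension.cotangentComplex ∘ₗ k)
  have hsnd : ∀ y, (e y).2 = Extension.Cotangent.map (Q₀.ofComp P).toExtensionHom y := fun y =>
    Generators.snd_cotangentCompLocalizationAwayEquiv g P hx y
  have hrd : ∀ y, r (D.toExtension.cotangentComplex y) = dK (e y).2 := fun y => by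
    rw [hsnd]; exact Extension.CotangentSpace.map_cotangentComplex _ y
  have hk : ∀ y, k (D.toExtension.cotangentComplex y) = e.symm (0, (e y).2) := fun y => by
    simp [k, hrd]
  have hru : ∀ a, r (u₀ a) = 0 := fun a => (Generators.CotangentSpace.exact Q₀ P (u₀ a)).mpr ⟨a, rfl⟩
  have hku : ∀ a, k (u₀ a) = 0 := fun a => by simp [k, hru]
  have hi0 : ∀ z, z - D.toExtension.cotangentComplex (k z) = u₀ (p₀ z) := fun z => by
    have h0 : (ce (z - D.toExtension.cotangentComplex (k z))).1 = 0 := by
      rw [Generators.CotangentSpace.fst_compEquiv_apply]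
      show r _ = 0
      rw [map_sub, hrd, sub_eq_zero]
      simp [k]
    have key : ∀ v, (ce v).1 = 0 → v = u₀ (ce v).2 := fun v hv => by
      conv_lhs => rw [← ce.symm_apply_apply v, show ce v = (0, (ce v).2) from Prod.ext hv rfl]
      exact Generators.CotangentSpace.compEquiv_symm_zero Q₀ P _
    exact key _ h0
  have hu_inj : Function.Injective u₀ := Generators.CotangentSpace.map_toComp_injective Q₀ P
  have hcomm : ∀ a, D.toExtension.cotangentComplex (e.symm (a, 0)) = u₀ (P.toExtension.cotangentComplex.baseChange T a) := fun a => by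
    rw [Generators.cotangentCompLocalizationAwayEquiv_symm_inl]
    exact (LinearMap.congr_fun (Generators.H1Cotangent.map_comp_cotangentComplex_baseChange Q₀ P) a).symm
  obtain ⟨E⟩ := Groth.Agent.CAlgH.retract_prod_equiv (P.toExtension.cotangentComplex.baseChange T) D.toExtension.cotangentComplex
    P'.toExtension.cotangentComplex φ₁ φ₀ ψ₁ ψ₀ a1 a2 h a3 a4 h' a5 a6
    (e.symm.toLinearMap ∘ₗ LinearMap.inl T _ _) u₀ (LinearMap.fst T _ _ ∘ₗ e.toLinearMap) p₀ k
    hcomm
    (fun y => hu_inj (by
      rw [← hi0, hk, ← hcomm, ← map_sub]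
      congr 1
      rw [eq_sub_iff_add_eq, ← map_add, LinearEquiv.symm_apply_eq]
      simp))
    (fun a => by simp) (fun a => by
      apply hu_inj
      rw [← hi0, hku, map_zero, sub_zero])
    (fun y => by
      rw [hk, LinearMap.comp_apply, sub_eq_iff_eq_add, LinearEquiv.coe_coe, ← map_add, LinearEquiv.eq_symm_apply]
      simp)
    (fun z => by rw [← hi0]; abel)
  have hbc : IsBaseChange T (LocalizedModule.mkLinearMap (Submonoid.powers g) P.toExtension.Cotangent) :=
    (isLocalizedModule_iff_isBaseChange (Submonoid.powers g) T _).mp inferInstance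
  let eA : LocalizedModule (Submonoid.powers g) (Algebra.Extension.ofSurjective α hα).Cotangent ≃ₗ[T]
      T ⊗[S] P.toExtension.Cotangent :=
    (IsLocalizedModule.mapEquiv (Submonoid.powers g) (LocalizedModule.mkLinearMap _ _) (LocalizedModule.mkLinearMap _ _) T eP).trans hbc.equiv.symm
  exact ⟨(eA.prodCongr P'.cotangentSpaceBasis.equivFun.symm).trans (E.trans
    (eP'.symm.prodCongr (P.cotangentSpaceBasis.baseChange T).equivFun))⟩

end Groth.Agent.S9182
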