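import Groth.Statements.S9210
import Groth.Agent.H8Lim.DVRCriteria
import Mathlib

set_option backward.isDefEq.respectTransparency.types false

set_option backward.isDefEq.respectTransparency false
set_option autoImplicit false
universe u
open CategoryTheory CategoryTheory.Limits AlgebraicGeometry
open Lim

namespace Groth.Agent.S9210

/-- Let S be a locally Noetherian scheme, f : X → S a morphism locally of finite type and h : U → X a
morphism of finite type whose image is dense in X. Suppose that for every discrete valuation ring A
with fraction field K and every commutative square formed by a morphism Spec K → U → X and a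
morphism Spec A → S, there is at most one morphism Spec A → X making the resulting diagram commute.
Then f is separated. -/
theorem result {X S U : Scheme.{u}} [IsLocallyNoetherian S] (f : X ⟶ S)
    [LocallyOfFiniteType f] (h : U ⟶ X) [LocallyOfFiniteType h] [QuasiCompact h] (hd : DenseRange h.base)
    (H : ∀ (A : Type u) [CommRing A] [IsDomain A] [IsDiscreteValuationRing A]
      (u : Spec (CommRingCat.of (FractionRing A)) ⟶ U) (y : Spec (CommRingCat.of A) ⟶ S),
      u ≫ h ≫ f = Spec.map (CommRingCat.ofHom (algebraMap A (FractionRing A))) ≫ y →
        ∀ l₁ l₂ : Spec (CommRingCat.of A) ⟶ X, l₁ ≫ f = y → Spec.map (CommRingCat.ofHom (algebraMap A (FractionRing A))) ≫ l₁ = u ≫ h →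
          l₂ ≫ f = y → Spec.map (CommRingCat.ofHom (algebraMap A (FractionRing A))) ≫ l₂ = u ≫ h → l₁ = l₂) :
    IsSeparated f := by
  have : IsLocallyNoetherian X := LocallyOfFiniteType.isLocallyNoetherian f
  have : QuasiSeparated f := inferInstance
  refine H8Lim.isSeparated_of_uniqueAt f fun w hw => ?_
  have hw' : w ∈ closure (Set.range (h ≫ Limits.pullback.diagonal f)) := by
    refine closure_minimal ?_ isClosed_closure hw
    rintro _ ⟨x, rfl⟩
    have hx := image_closure_subset_closure_image (Limits.pullback.diagonal f).continuous
      ⟨x, hd x, rfl⟩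
    refine closure_mono ?_ hx
    rintro _ ⟨_, ⟨u, rfl⟩, rfl⟩
    exact ⟨u, Scheme.Hom.comp_apply _ _ _⟩
  obtain ⟨z, hz⟩ := H8Top.exists_specializes_of_mem_closure_range (h ≫ Limits.pullback.diagonal f) hw'
  exact ⟨U, h, z, inferInstance, by simpa using hz,
    H8Lim.uniqueAt_of_fractionRing h H (U.fromSpecResidueField z)⟩

end Groth.Agent.S9210
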