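import Groth.Statements.S9211
import Groth.Agent.H8Lim.DVRCriteria
import Mathlib

set_option backward.isDefEq.respectTransparency.types false

set_option backward.isDefEq.respectTransparency false
set_option autoImplicit false
universe u
open CategoryTheory CategoryTheory.Limits AlgebraicGeometry
open Lim

namespace Groth.Agent.S9211

/-- Let S be a locally Noetherian scheme and f : X → S a morphism locally of finite type. Then f is
separated if and only if the following uniqueness holds: for every generic point η of an irreducible
component of X, every discrete valuation ring A contained in the residue field κ(η) with fraction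
field κ(η) (a valuation subring of κ(η) which is a discrete valuation ring), and every pair of
morphisms Spec A → X with the same composite to S and both restricting on Spec κ(η) to the canonical
morphism Spec κ(η) → X, the two morphisms coincide. -/
theorem result {X S : Scheme.{u}} [IsLocallyNoetherian S] (f : X ⟶ S)
    [LocallyOfFiniteType f] :
    IsSeparated f ↔ ∀ (η : X), closure {η} ∈ irreducibleComponents (X : Type u) →
      ∀ (A : ValuationSubring (X.residueField η)), IsDiscreteValuationRing A →
        ∀ l₁ l₂ : Spec (CommRingCat.of A) ⟶ X, l₁ ≫ f = l₂ ≫ f →
          Spec.map (CommRingCat.ofHom A.subtype) ≫ l₁ = X.fromSpecResidueField η →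
          Spec.map (CommRingCat.ofHom A.subtype) ≫ l₂ = X.fromSpecResidueField η → l₁ = l₂ := by
  refine ⟨fun _ η _ A _ l₁ l₂ e h1 h2 => ?_, fun H => ?_⟩
  · have := ValExtLib.isDominant_spec_of_injective (CommRingCat.ofHom A.subtype) Subtype.coe_injective
    exact ext_of_isDominant_of_isSeparated f e _ (h1.trans h2.symm)
  · have : IsLocallyNoetherian X := LocallyOfFiniteType.isLocallyNoetherian f
    have : QuasiSeparated f := inferInstance
    refine H8Lim.isSeparated_of_uniqueAt f fun w hw => ?_
    obtain ⟨x, hx⟩ := H8Top.exists_specializes_of_mem_closure_range (Limits.pullback.diagonal f) hw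
    let η := (isIrreducible_irreducibleComponent (x := x)).genericPoint
    have hg : IsGenericPoint η (irreducibleComponent x) :=
      isIrreducible_irreducibleComponent.isGenericPoint_genericPoint isClosed_irreducibleComponent
    refine ⟨X, 𝟙 X, η, inferInstance,
      ((hg.specializes mem_irreducibleComponent).map (Limits.pullback.diagonal f).continuous).trans hx, ?_⟩
    rw [Category.comp_id]
    exact fun A hA l₁ l₂ e h1 h2 =>
      H η (hg.def.symm ▸ irreducibleComponent_mem_irreducibleComponents x) A hA l₁ l₂ e h1 h2

end Groth.Agent.S9211
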