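import Groth.Statements.S9212
import Groth.Agent.H8Lim.DVRCriteria
import Mathlib

set_option backward.isDefEq.respectTransparency.types false

set_option backward.isDefEq.respectTransparency false
set_option autoImplicit false
universe u
open CategoryTheory CategoryTheory.Limits AlgebraicGeometry
open Lim

namespace Groth.Agent.S9212

/-- Let S be a locally Noetherian scheme and f : X → S a morphism of finite type. Then f is proper if
and only if: for every generic point η of an irreducible component of X, every discrete valuation
ring A contained in the residue field κ(η) with fraction field κ(η) (a valuation subring of κ(η)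
which is a discrete valuation ring), and every morphism Spec A → S whose restriction to Spec κ(η) is
the canonical morphism Spec κ(η) → X followed by f, there is exactly one morphism Spec A → X over S
restricting to the canonical morphism on Spec κ(η). -/
theorem result {X S : Scheme.{u}} [IsLocallyNoetherian S] (f : X ⟶ S)
    [LocallyOfFiniteType f] [QuasiCompact f] :
    IsProper f ↔ ∀ (η : X), closure {η} ∈ irreducibleComponents (X : Type u) →
      ∀ (A : ValuationSubring (X.residueField η)), IsDiscreteValuationRing A →
        ∀ y : Spec (CommRingCat.of A) ⟶ S,
          Spec.map (CommRingCat.ofHom A.subtype) ≫ y = X.fromSpecResidueField η ≫ f →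
          ∃! l : Spec (CommRingCat.of A) ⟶ X,
            l ≫ f = y ∧ Spec.map (CommRingCat.ofHom A.subtype) ≫ l = X.fromSpecResidueField η := by
  refine ⟨fun _ η _ A hA y hy => ?_, fun H => ?_⟩
  · let Sq : ValuativeCommSq f :=
      { R := A, K := X.residueField η, i₁ := X.fromSpecResidueField η, i₂ := y, commSq := ⟨hy.symm⟩ }
    have hE : ValuativeCriterion.Existence f :=
      ((iff_of_eq (congrFun (congrFun (congrFun UniversallyClosed.eq_valuativeCriterion X) S) f)).mp
        inferInstance).1
    obtain ⟨l, hl, hl'⟩ := (hE Sq).exists_lift.some
    have := ValExtLib.isDominant_spec_of_injective (CommRingCat.ofHom A.subtype) Subtype.coe_injective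
    exact ⟨l, ⟨hl', hl⟩, fun l' h' ↦
      ext_of_isDominant_of_isSeparated f (h'.1.trans hl'.symm) _ (h'.2.trans hl.symm)⟩
  · have : IsSeparated f := by
      have : IsLocallyNoetherian X := LocallyOfFiniteType.isLocallyNoetherian f
      have : QuasiSeparated f := inferInstance
      refine H8Lim.isSeparated_of_uniqueAt f fun w hw => ?_
      obtain ⟨x, hx⟩ := H8Top.exists_specializes_of_mem_closure_range (Limits.pullback.diagonal f) hw
      let η := (isIrreducible_irreducibleComponent (x := x)).genericPoint
      have hg : IsGenericPoint η (irreducibleComponent x) :=
        isIrreducible_irreducibleComponent.isGenericPoint_genericPoint isClosed_irreducibleComponent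
      refine ⟨X, 𝟙 X, η, inferInstance,
        ((hg.specializes mem_irreducibleComponent).map (Limits.pullback.diagonal f).continuous).trans hx, ?_⟩
      rw [Category.comp_id]
      intro A hA l₁ l₂ e h1 h2
      exact (H η (hg.def.symm ▸ irreducibleComponent_mem_irreducibleComponents x) A hA (l₁ ≫ f)
        (by rw [← Category.assoc, h1])).unique ⟨rfl, h1⟩ ⟨e.symm, h2⟩
    have := H8Lim.universallyClosed_of_genericLifts f
      (H8Lim.genericLifts_of_residueField fun η hη A hA y hy => (H η hη A hA y hy).exists)
    exact { }

end Groth.Agent.S9212
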