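import Groth.Statements.S9216
import Groth.Agent.H8Lim.FibreDimSystem
import Groth.Agent.H8Lim.ClosedModels
-- import your own Groth.Agent.* helpers here

set_option autoImplicit false
set_option backward.isDefEq.respectTransparency.types false
universe u
open CategoryTheory CategoryTheory.Limits AlgebraicGeometry
open Lim

namespace Groth.Agent.S9216

/-- Let S be a quasi-compact quasi-separated scheme, f : X → S a morphism of finite presentation and d a
natural number. Let Z be a closed subscheme of X such that every fibre of Z → S has dimension at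
most d. Then there is a closed subscheme Z' of X containing Z such that Z' → X is of finite
presentation and every fibre of Z' → S has dimension at most d. -/
theorem result {X S Z : Scheme.{u}} [CompactSpace S]
    [QuasiSeparatedSpace S] (f : X ⟶ S) [LocallyOfFinitePresentation f] [QuasiCompact f] [QuasiSeparated f]
    (d : ℕ) (ι : Z ⟶ X) [IsClosedImmersion ι] (hZ : ∀ s : S, topologicalKrullDim ↥((ι ≫ f).fiber s) ≤ d) :
    ∃ (Z' : Scheme.{u}) (ι' : Z' ⟶ X) (k : Z ⟶ Z'), IsClosedImmersion ι' ∧ LocallyOfFinitePresentation ι' ∧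
      k ≫ ι' = ι ∧ ∀ s : S, topologicalKrullDim ↥((ι' ≫ f).fiber s) ≤ d := by
  have : CompactSpace X := QuasiCompact.compactSpace_of_compactSpace f
  have : QuasiSeparatedSpace X := quasiSeparatedSpace_of_quasiSeparated f
  obtain ⟨I, _, _, _, D, c, hc, hD, ⟨e⟩⟩ :=
    Groth.Agent.H8Lim.exists_limit_closedImmersion_finitePresentation ι
  have : CategoryTheory.IsConnected Iᵒᵖ := IsCofiltered.isConnected _
  let DX : Iᵒᵖ ⥤ Scheme.{u} := D ⋙ Over.forget X
  let DS : Iᵒᵖ ⥤ Scheme.{u} := (CategoryTheory.Functor.const _).obj S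
  let φ : DX ⟶ DS :=
    { app := fun i => (D.obj i).hom ≫ f
      naturality := fun i j a => by
        show (D.map a).left ≫ (D.obj j).hom ≫ f = ((D.obj i).hom ≫ f) ≫ 𝟙 S
        rw [Category.comp_id, ← Category.assoc]
        exact congrArg (· ≫ f) (Over.w (D.map a)) }
  let cX : Cone DX := (Over.forget X).mapCone c
  have hX : IsLimit cX := isLimitOfPreserves (Over.forget X) hc
  let cS : Cone DS := constCone Iᵒᵖ S
  have hS : IsLimit cS := isLimitConstCone Iᵒᵖ S
  have : ∀ (i j : Iᵒᵖ) (a : i ⟶ j), IsAffineHom (DS.map a) := fun i j a =>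
    inferInstanceAs (IsAffineHom (𝟙 S))
  have : ∀ i, CompactSpace (DS.obj i) := fun i => ‹CompactSpace S›
  have : ∀ i, QuasiSeparatedSpace (DS.obj i) := fun i => ‹QuasiSeparatedSpace S›
  have : ∀ i, LocallyOfFiniteType (φ.app i) := fun i => by
    have : IsClosedImmersion (D.obj i).hom := (hD i).1
    exact inferInstanceAs (LocallyOfFiniteType ((D.obj i).hom ≫ f))
  have : ∀ i, QuasiCompact (φ.app i) := fun i => by
    have : IsClosedImmersion (D.obj i).hom := (hD i).1
    exact inferInstanceAs (QuasiCompact ((D.obj i).hom ≫ f))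
  have hcl : ∀ (i j : Iᵒᵖ) (a : i ⟶ j), IsClosedImmersion (pullback.lift (DX.map a) (φ.app i) (φ.naturality a)) := by
    intro i j a
    have h1 : IsClosedImmersion (D.obj j).hom := (hD j).1
    have h2 : IsClosedImmersion ((D.map a).left ≫ (D.obj j).hom) := by
      rw [Over.w]; exact (hD i).1
    have h3 : IsClosedImmersion (DX.map a) := IsClosedImmersion.of_comp (D.map a).left (D.obj j).hom
    have : IsIso (pullback.fst (φ.app j) (DS.map a)) :=
      haveI : IsIso (DS.map a) := inferInstanceAs (IsIso (𝟙 S))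
      inferInstance
    have : IsClosedImmersion (pullback.lift (DX.map a) (φ.app i) (φ.naturality a) ≫
        pullback.fst (φ.app j) (DS.map a)) := by
      rw [pullback.lift_fst]; exact h3
    exact IsClosedImmersion.of_comp _ (pullback.fst (φ.app j) (DS.map a))
  have hew : e.hom.left ≫ ι = c.pt.hom := Over.w e.hom
  have hinv : e.inv.left ≫ c.pt.hom = ι := Over.w e.inv
  let g : cX.pt ⟶ cS.pt := c.pt.hom ≫ f
  have hg : ∀ i, g ≫ cS.π.app i = cX.π.app i ≫ φ.app i := fun i => by
    show (c.pt.hom ≫ f) ≫ 𝟙 S = (c.π.app i).left ≫ (D.obj i).hom ≫ f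
    rw [Category.comp_id, ← Category.assoc]
    exact congrArg (· ≫ f) (Over.w (c.π.app i)).symm
  have hd : ∀ s : cS.pt, topologicalKrullDim ↥(g.fiber s) ≤ (d : WithBot ℕ∞) := fun s => by
    have : IsIso e.hom.left := inferInstanceAs (IsIso ((Over.forget X).map e.hom))
    have hsq : IsPullback e.hom.left (c.pt.hom ≫ f) (ι ≫ f) (𝟙 S) :=
      IsPullback.of_horiz_isIso ⟨by rw [Category.comp_id, ← Category.assoc, hew]⟩
    show topologicalKrullDim ↥((c.pt.hom ≫ f).fiber s) ≤ _
    rw [Groth.Agent.FlatMorDim.fiber_dim_baseChange hsq s]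
    exact hZ s
  obtain ⟨i, hi⟩ := Groth.Agent.H8Lim.exists_stage_fiber_dim_le_of_system DX DS φ cX cS hX hS hcl g hg d hd
  exact ⟨(D.obj i).left, (D.obj i).hom, e.inv.left ≫ (c.π.app i).left, (hD i).1, (hD i).2,
    by rw [Category.assoc, Over.w]; exact hinv, hi⟩

end Groth.Agent.S9216
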