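import Groth.Statements.S9221
import Groth.Agent.H8Lim.DescentProper
import Groth.Agent.Coherent.ProperOverApps
import Groth.Agent.Coherent.FiniteType
import Mathlib

set_option backward.isDefEq.respectTransparency.types false

set_option autoImplicit false
universe u
open CategoryTheory AlgebraicGeometry
open CategoryTheory.Limits
open Lim

namespace Groth.Agent.S9221

/-- Let S = lim S_i be a cofiltered limit of schemes with affine transition morphisms, S_{i₀} a
quasi-compact quasi-separated stage, f₀ : X₀ → Y₀ a morphism of quasi-compact quasi-separated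
schemes over S_{i₀}, and f : X → Y its base change along S → S_{i₀} (base changes expressed by
pullback squares). Let F₀ be a quasi-coherent O_{X₀}-module of finite type, with pullbacks F to X
and F_i to X_i, and assume f₀ is locally of finite type. If the support of F (a closed subset of X,
taken with its reduced structure; equivalently the scheme-theoretic support of F) is proper over Y,
then for some index i over i₀, with f_i : X_i → Y_i the base change of f₀ along S_i → S_{i₀}, the
support of F_i is proper over Y_i. -/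
theorem result {I : Type u} [SmallCategory I] [IsCofiltered I]
    (D : I ⥤ Scheme.{u}) (c : Limits.Cone D) (hc : Limits.IsLimit c)
    [∀ (i j : I) (f : i ⟶ j), IsAffineHom (D.map f)] (i₀ : I) [CompactSpace (D.obj i₀)]
    [QuasiSeparatedSpace (D.obj i₀)] {X₀ Y₀ : Scheme.{u}} (f₀ : X₀ ⟶ Y₀) (g₀ : Y₀ ⟶ D.obj i₀)
    [CompactSpace X₀] [QuasiSeparatedSpace X₀] [CompactSpace Y₀] [QuasiSeparatedSpace Y₀]
    [LocallyOfFiniteType f₀] (F₀ : X₀.Modules) [Coh.IsQCoh F₀] (hF₀ : CohB1.IsFT F₀)
    {X Y : Scheme.{u}} (f : X ⟶ Y) (g : Y ⟶ c.pt) (qY : Y ⟶ Y₀) (qX : X ⟶ X₀)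
    (hY : IsPullback qY g g₀ (c.π.app i₀)) (hX : IsPullback qX f f₀ qY) (hF : ClSub.IsProperOver f (CohB1.support ((Scheme.Modules.pullback qX).obj F₀))) :
    ∃ (i : I) (φ : i ⟶ i₀) (Xi Yi : Scheme.{u}) (fi : Xi ⟶ Yi) (gi : Yi ⟶ D.obj i) (pY : Yi ⟶ Y₀)
      (pX : Xi ⟶ X₀), IsPullback pY gi g₀ (D.map φ) ∧ IsPullback pX fi f₀ pY ∧ ClSub.IsProperOver fi (CohB1.support ((Scheme.Modules.pullback pX).obj F₀)) := by
  have : ∀ {i j : I} (f : i ⟶ j), IsAffineHom (D.map f) := fun f ↦ inferInstance
  have hS₀ : IsClosed (CohB1.support F₀) :=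
    Coherent.isClosed_support F₀ (Coherent.locallyFinGen_of_isFT F₀ hF₀)
  let ι₀ := (Et18.redSub (CohB1.support F₀) hS₀).subschemeι
  have hr₀ : Set.range ι₀ = CohB1.support F₀ := Et18.range_redSub _ hS₀
  have : CompactSpace (Et18.redSub (CohB1.support F₀) hS₀).subscheme :=
    QuasiCompact.compactSpace_of_compactSpace ι₀
  have : QuasiSeparatedSpace (Et18.redSub (CohB1.support F₀) hS₀).subscheme :=
    quasiSeparatedSpace_of_quasiSeparated ι₀
  have hsupp : ∀ {W : Scheme.{u}} (q : W ⟶ X₀),
      CohB1.support ((Scheme.Modules.pullback q).obj F₀) = Set.range (pullback.snd ι₀ q) := fun q => by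
    rw [Coherent.support_pullback_qcoh q inferInstance hF₀, Scheme.Pullback.range_snd, hr₀]
  have : LocallyOfFiniteType f := MorphismProperty.of_isPullback hX ‹LocallyOfFiniteType f₀›
  rw [hsupp qX] at hF
  have hp : IsProper (pullback.snd ι₀ qX ≫ f) :=
    Coherent.isProper_of_isProperOver f hF (pullback.snd ι₀ qX) rfl
  obtain ⟨i, φ, Zi, Yi, hi, gi, pY, pZ, hYi, hZi, hhi⟩ :=
    H8Lim.descends_isProper.exists_stage hc hY ((IsPullback.of_hasPullback ι₀ qX).paste_vert hX)
      (inferInstanceAs (LocallyOfFiniteType (ι₀ ≫ f₀))) hp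
  have hXi := IsPullback.of_hasPullback f₀ pY
  let k : Zi ⟶ pullback f₀ pY := hXi.lift (pZ ≫ ι₀) hi (by rw [Category.assoc, hZi.w])
  have hk : IsPullback pZ k ι₀ (pullback.fst f₀ pY) :=
    IsPullback.of_bot (by rw [hXi.lift_snd]; exact hZi) (hXi.lift_fst _ _ _).symm hXi
  have hkc : IsClosedImmersion k :=
    MorphismProperty.of_isPullback (P := @IsClosedImmersion) hk inferInstance
  have hrk : Set.range k = Set.range (pullback.snd ι₀ (pullback.fst f₀ pY)) := by
    rw [← hk.isoPullback_hom_snd]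
    exact hk.isoPullback.hom.surjective.range_comp _
  have : LocallyOfFiniteType (pullback.snd f₀ pY) :=
    MorphismProperty.of_isPullback hXi ‹LocallyOfFiniteType f₀›
  refine ⟨i, φ, _, Yi, _, gi, pY, _, hYi, hXi, ?_⟩
  rw [hsupp, ← hrk]
  exact (Coherent.isProperOver_tfae _ _ k.isClosedEmbedding.isClosed_range).1.mpr
    ⟨Zi, k, hkc, rfl, by rw [hXi.lift_snd]; exact hhi⟩

end Groth.Agent.S9221
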