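import Groth.Statements.S9224
import Groth.Agent.H8Lim.AvoidFibre
import Mathlib

set_option backward.isDefEq.respectTransparency.types false

set_option autoImplicit false
universe u
open CategoryTheory CategoryTheory.Limits AlgebraicGeometry
open Lim

namespace Groth.Agent.S9224

/-- Let f : X → S be a quasi-compact morphism, g : T → S a morphism, t a point of T and Z a closed
subset of X_T = X ×_S T which does not meet the fibre of X_T → T over t. Then there exist an affine
open neighbourhood V of t in T, an affine scheme T' with a morphism b : T' → S locally of finite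
presentation, a morphism a : V → T' whose composite with b is the restriction of g, and a closed
subset Z' of X_{T'} = X ×_S T' which does not meet the fibre over t' = a(t), such that the induced
morphism X_V → X_{T'} maps every point of X_V lying over Z (under X_V → X_T) into Z'. The morphisms
X_V → X_T and X_V → X_{T'} are the canonical ones, characterised by their projections. -/
theorem result {X S T : Scheme.{u}} (f : X ⟶ S) [QuasiCompact f] (g : T ⟶ S) (t : T)
    (Z : Set ↥(pullback f g)) (hZ : IsClosed Z) (hZt : ∀ z ∈ Z, (pullback.snd f g).base z ≠ t) :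
    ∃ (V : T.Opens) (ht : t ∈ V) (T' : Scheme.{u}) (b : T' ⟶ S) (a : (V : Scheme.{u}) ⟶ T')
      (n : pullback f (V.ι ≫ g) ⟶ pullback f g) (m : pullback f (V.ι ≫ g) ⟶ pullback f b)
      (Z' : Set ↥(pullback f b)),
      IsAffineOpen V ∧ IsAffine T' ∧ LocallyOfFinitePresentation b ∧ a ≫ b = V.ι ≫ g ∧
      n ≫ pullback.fst f g = pullback.fst f (V.ι ≫ g) ∧ n ≫ pullback.snd f g = pullback.snd f (V.ι ≫ g) ≫ V.ι ∧
      m ≫ pullback.fst f b = pullback.fst f (V.ι ≫ g) ∧ m ≫ pullback.snd f b = pullback.snd f (V.ι ≫ g) ≫ a ∧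
      IsClosed Z' ∧ (∀ z' ∈ Z', (pullback.snd f b).base z' ≠ a.base ⟨t, ht⟩) ∧
      ∀ z : ↥(pullback f (V.ι ≫ g)), n.base z ∈ Z → m.base z ∈ Z' := by
  classical
  obtain ⟨W, hW, htW, -⟩ := exists_isAffineOpen_mem_and_subset (X := S) (x := g t) (U := ⊤) trivial
  obtain ⟨V, hV, htV, hVW⟩ := exists_isAffineOpen_mem_and_subset (X := T) (x := t) (U := g ⁻¹ᵁ W) htW
  obtain ⟨s, hsfin, hs⟩ := (isCompact_iff_finite_and_eq_biUnion_affineOpens (U := f ⁻¹ᵁ W)).mp
    (f.isCompact_preimage hW.isCompact)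
  have hsle : ∀ U ∈ s, (U : X.Opens) ≤ f ⁻¹ᵁ W := fun U hU => by
    rw [hs]; exact le_iSup₂_of_le U hU le_rfl
  obtain ⟨N, e⟩ : ∃ N, Nonempty (s ≃ Fin N) := by
    have := hsfin.fintype
    exact ⟨_, ⟨Fintype.equivFin s⟩⟩
  obtain ⟨e⟩ := e
  let U : Fin N → X.affineOpens := fun k => (e.symm k).1
  have hU : ∀ k, (U k : X.Opens) ≤ f ⁻¹ᵁ W := fun k => hsle _ (e.symm k).2
  letI : Algebra Γ(S, W) Γ(T, V) := (g.appLE W V hVW).hom.toAlgebra
  letI : ∀ k, Algebra Γ(S, W) Γ(X, (U k : X.Opens)) := fun k => (f.appLE W (U k) (hU k)).hom.toAlgebra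
  have hh : hV.isoSpec.hom ≫ Spec.map (CommRingCat.ofHom (algebraMap Γ(S, W) Γ(T, V))) ≫ hW.fromSpec
      = V.ι ≫ g := by
    show hV.isoSpec.hom ≫ Spec.map (g.appLE W V hVW) ≫ hW.fromSpec = V.ι ≫ g
    rw [hW.SpecMap_appLE_fromSpec g hV, hV.isoSpec_hom_fromSpec_assoc]
  let n : pullback f (V.ι ≫ g) ⟶ pullback f g :=
    pullback.lift (pullback.fst f (V.ι ≫ g)) (pullback.snd f (V.ι ≫ g) ≫ V.ι)
      (by rw [Category.assoc]; exact pullback.condition)
  obtain ⟨T', b, a, m, Z', hT', hb, hab, hm1, hm2, hZ', hZt', hmz⟩ :=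
    Groth.Agent.H8Lim.AvoidFibre.exists_lfp_closed_avoiding f hW.fromSpec (V.ι ≫ g) hV.isoSpec hh
      (fun k => Γ(X, (U k : X.Opens))) (fun k => (U k).2.fromSpec)
      (fun k => (hW.SpecMap_appLE_fromSpec f (U k).2 (hU k)).symm)
      (fun x hx => by
        rw [hW.range_fromSpec] at hx
        have hx' : x ∈ f ⁻¹ᵁ W := hx
        rw [hs] at hx'
        simp only [TopologicalSpace.Opens.mem_iSup] at hx'
        obtain ⟨U₀, hU₀, hxU⟩ := hx'
        refine ⟨e ⟨U₀, hU₀⟩, ?_⟩
        rw [(U (e ⟨U₀, hU₀⟩)).2.range_fromSpec]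
        simpa [U] using hxU)
      ⟨t, htV⟩ (n ⁻¹' Z) (hZ.preimage n.continuous)
      (fun z hz hzt => hZt _ hz (by
        show pullback.snd f g (n z) = t
        rw [← Scheme.Hom.comp_apply, pullback.lift_snd, Scheme.Hom.comp_apply, hzt]
        rfl))
  exact ⟨V, htV, T', b, a, n, m, Z', hV, hT', hb, hab, pullback.lift_fst _ _ _,
    pullback.lift_snd _ _ _, hm1, hm2, hZ', hZt', fun z hz => hmz z hz⟩

end Groth.Agent.S9224
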