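import Groth.Statements.S9230
import Groth.Agent.CAlgH.NormalHomCancel
import Groth.Agent.CAlgH.UnibranchCatenary
import Groth.Agent.CAlgH.WEtRegular
import Groth.Agent.HenselLib.LocalHens
import Groth.Agent.HenselLib.LocalInt
import Groth.Agent.ProEtWC.Closed
import Groth.Agent.S1993
import Groth.Agent.S2749
import Groth.Agent.S9228
-- import your own Groth.Agent.* helpers here

set_option autoImplicit false
universe u
open EGA4

namespace Groth.Agent.S9230

open TensorProduct IsLocalRing Groth.Agent.CAlgH

/-- For a Noetherian local ring A whose formal fibres are geometrically normal, every henselization S of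
A is universally catenary. -/
theorem result (A S : Type u) [CommRing A]
    [IsLocalRing A] [IsNoetherianRing A] [CommRing S] [IsLocalRing S] [Algebra A S]
    [IsLocalHom (algebraMap A S)] [Hensel.IsHenselization A S]
    (hA : EGA4.HasGeomNormalFormalFibres A) : CAlg.IsUniversallyCatenary S := by
  have hP := (_root_.Groth.Agent.S1993.result A S).mpr inferInstance
  obtain ⟨e⟩ := HenselLib.IsPairHull.equiv_pairH (R := A) (I := maximalIdeal A) hP
  haveI : Algebra.WeaklyEtale A S := HenselLib.weaklyEtale_of_equiv e
  haveI : IsNoetherianRing S := by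
    haveI := HenselLib.isNoetherianRing_pairH (R := A) (maximalIdeal A)
    exact isNoetherianRing_of_ringEquiv _ e.toRingEquiv
  haveI : Module.Flat A S := Algebra.WeaklyEtale.flat
  have hm : Ideal.map (algebraMap A S) (maximalIdeal A) = maximalIdeal S := by
    rw [← e.toAlgHom.comp_algebraMap, ← Ideal.map_map]
    exact (congrArg (Ideal.map _) (HenselLib.map_maximalIdeal_localH (R := A))).trans
      (IsLocalRing.map_ringEquiv_maximalIdeal e.toRingEquiv)
  have hres : ∀ y : S, ∃ a, y - algebraMap A S a ∈ maximalIdeal S := fun y => by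
    obtain ⟨a, ha⟩ := HenselLib.exists_sub_algebraMap_mem A (maximalIdeal A) (e.symm y)
    refine ⟨a, ?_⟩
    have h2 := Ideal.mem_map_of_mem e.toAlgHom.toRingHom ha
    rw [Ideal.map_map, show e.toAlgHom.toRingHom.comp (algebraMap A (HenselLib.PairH A (maximalIdeal A))) = algebraMap A S from
      e.toAlgHom.comp_algebraMap, hm] at h2
    simpa using h2
  haveI : IsNoetherianRing (EGA4.Cpl S) := _root_.Groth.Agent.Matlis6.isNoetherianRing_adicCompletion _
  haveI : IsNoetherianRing (EGA4.Cpl A) := _root_.Groth.Agent.Matlis6.isNoetherianRing_adicCompletion _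
  obtain ⟨_, _, _⟩ := _root_.Groth.Agent.CommAlg6.exists_algebra_completion A S
  have hk : Function.Surjective (IsLocalRing.ResidueField.map (algebraMap A S)) := fun z => by
    obtain ⟨y, rfl⟩ := residue_surjective z
    obtain ⟨a, ha⟩ := hres y
    exact ⟨residue A a, (Ideal.Quotient.eq.mpr ha).symm⟩
  have hb := completion_map_bijective A S hm hk (algebraMap _ _)
    (by rw [← IsScalarTower.algebraMap_eq, ← IsScalarTower.algebraMap_eq])
  have hAn : EGA4.IsNormalHom A (EGA4.Cpl A) := ⟨AdicCompletion.flat_of_isNoetherian _, hA⟩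
  have hSn : EGA4.IsNormalHom S (EGA4.Cpl S) := NormalCancel.isNormalHom_of_weaklyEtale_comp A S (EGA4.Cpl S)
    (NormalCancel.isNormalHom_of_algEquiv
      (AlgEquiv.ofBijective (IsScalarTower.toAlgHom A (EGA4.Cpl A) (EGA4.Cpl S)) hb) hAn)
  have hS : EGA4.HasGeomNormalFormalFibres S := hSn.2
  haveI : HenselianLocalRing S := Hensel.IsHenselization.henselian A
  refine _root_.Groth.Agent.CommAlg6.isUniversallyCatenary_of_isFormallyCatenary S fun p _ => ?_
  let D := S ⧸ p
  haveI : IsLocalRing D := .of_surjective' _ Ideal.Quotient.mk_surjective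
  haveI : HenselianLocalRing D :=
    _root_.Groth.Agent.ProEtWC.henselianLocalRing_of_surjective (Ideal.Quotient.mk p) Ideal.Quotient.mk_surjective
  haveI : IsLocalHom (algebraMap D D) := ⟨fun _ h => h⟩
  haveI := _root_.Groth.Agent.HenselLib.LocalInt.isHenselization_self D
  have hu : CAlg2.IsUnibranch D := ((_root_.Groth.Agent.S2749.result D D).2 inferInstance).2
  have hD : EGA4.HasGeomNormalFormalFibres D := _root_.Groth.Agent.S2641.result S hS D
  exact (_root_.Groth.Agent.CommAlg6.isFormallyEquidim_congr (Ideal.Quotient.mk (⊥ : Ideal D))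
    Ideal.Quotient.mk_surjective (RingHom.id D) Function.surjective_id
    (by rw [Ideal.mk_ker]; exact ((RingHom.injective_iff_ker_eq_bot _).1 Function.injective_id).symm)).1
    (_root_.Groth.Agent.S9228.result D (UnibranchCatenary.isUniversallyCatenary D hD hu) ⊥)

end Groth.Agent.S9230
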