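import Groth.Statements.S9233
import Groth.Agent.HenselLib.HullWEt
import Groth.Agent.HenselLib.WEtNoeth
import Groth.Agent.HenselLib.LocalHens

set_option autoImplicit false
universe u
open Hensel

namespace Groth.Agent.S9233

/-- The henselization S of a Noetherian local ring R has the same depth as R. -/
theorem result (R S : Type u) [CommRing R] [IsLocalRing R] [IsNoetherianRing R]
    [CommRing S] [IsLocalRing S] [Algebra R S] [IsLocalHom (algebraMap R S)]
    [Hensel.IsHenselization R S] : LocCoh.depth S S = LocCoh.depth R R := by
  obtain ⟨e⟩ := HenselLib.exists_equiv_localH (R := R) S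
  haveI : Algebra.WeaklyEtale R S := HenselLib.weaklyEtale_of_equiv e
  haveI : IsNoetherianRing S :=
    haveI := HenselLib.isNoetherianRing_localH (R := R)
    isNoetherianRing_of_ringEquiv (HenselLib.LocalH R) e.toRingEquiv
  exact HenselLib.WEtNoeth.depth_eq

end Groth.Agent.S9233
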