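import Groth.Statements.S9240
import Groth.Agent.CAlgH.HenselToCompletion
-- import your own Groth.Agent.* helpers here

set_option autoImplicit false
universe u
open Brnch

namespace Groth.Agent.S9240

/-- Let A be a Noetherian local ring, S its henselization and A^ its completion, and let ψ : S → A^ be
the ring map compatible with the structure maps from A (it is unique, A^ being henselian). Then
contraction along ψ sends every minimal prime of A^ to a minimal prime of S, and every minimal prime
of S arises this way: contraction maps the minimal primes of A^ onto the minimal primes of S. -/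
theorem result (A S : Type u) [CommRing A] [IsLocalRing A]
    [IsNoetherianRing A] [CommRing S] [IsLocalRing S] [Algebra A S] [IsLocalHom (algebraMap A S)]
    [Hensel.IsHenselization A S] (ψ : S →+* AdicCompletion (IsLocalRing.maximalIdeal A) A)
    (hψ : ψ.comp (algebraMap A S) = algebraMap A (AdicCompletion (IsLocalRing.maximalIdeal A) A)) :
    Set.MapsTo (Ideal.comap ψ) (minimalPrimes (AdicCompletion (IsLocalRing.maximalIdeal A) A))
        (minimalPrimes S) ∧
      Set.SurjOn (Ideal.comap ψ) (minimalPrimes (AdicCompletion (IsLocalRing.maximalIdeal A) A))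
        (minimalPrimes S) := by
  obtain ⟨_, hl, hf, -⟩ := _root_.Groth.Agent.CAlgH.HenselToCompletion.map_to_completion A S ψ hψ
  let Ah := AdicCompletion (IsLocalRing.maximalIdeal A) A
  letI : Algebra S Ah := ψ.toAlgebra
  haveI : IsLocalHom (algebraMap S Ah) := hl
  haveI : Module.Flat S Ah := RingHom.flat_algebraMap_iff.1 hf
  haveI : Module.FaithfullyFlat S Ah := Module.FaithfullyFlat.of_flat_of_isLocalHom
  have hmap : ∀ P ∈ minimalPrimes Ah, P.comap ψ ∈ minimalPrimes S := by
    intro P hP
    haveI := hP.1.1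
    refine ⟨⟨Ideal.comap_isPrime ψ P, bot_le⟩, fun r hr hle => ?_⟩
    haveI := hr.1
    by_contra hne
    have hlt : r < P.under S := lt_of_le_not_ge hle hne
    obtain ⟨Q, hQ, hQp, -⟩ := Ideal.exists_ideal_lt_liesOver_of_lt P hlt
    exact hQ.not_ge (hP.2 ⟨hQp, bot_le⟩ hQ.le)
  refine ⟨hmap, fun r hr => ?_⟩
  haveI := hr.1.1
  obtain ⟨P, hP⟩ := PrimeSpectrum.comap_surjective_of_faithfullyFlat (A := S) (B := Ah) ⟨r, inferInstance⟩
  obtain ⟨Q, hQ, hQP⟩ := Ideal.exists_minimalPrimes_le (I := (⊥ : Ideal Ah)) (J := P.asIdeal) bot_le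
  haveI := hQ.1.1
  have hle : Q.comap ψ ≤ r := (Ideal.comap_mono hQP).trans (congrArg PrimeSpectrum.asIdeal hP).le
  exact ⟨Q, hQ, le_antisymm hle (hr.2 ⟨Ideal.comap_isPrime ψ Q, bot_le⟩ hle)⟩

end Groth.Agent.S9240
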