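import Groth.Statements.S9242
import Groth.Agent.HenselLib.CompletionHapp
-- import your own Groth.Agent.* helpers here

set_option autoImplicit false
set_option linter.all false
universe u
open Brnch

namespace Groth.Agent.S9242

/-- Let A be a Noetherian local ring with henselization S and completion A^, let ψ : S → A^ be the ring
map compatible with the structure maps from A, and let q be a minimal prime of A^ with dim(A^/q) =
1. Then q is the radical of the extension along ψ of some minimal prime of S. -/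
theorem result (A S : Type u) [CommRing A]
    [IsLocalRing A] [IsNoetherianRing A] [CommRing S] [IsLocalRing S] [Algebra A S]
    [IsLocalHom (algebraMap A S)] [Hensel.IsHenselization A S]
    (ψ : S →+* AdicCompletion (IsLocalRing.maximalIdeal A) A)
    (hψ : ψ.comp (algebraMap A S) = algebraMap A (AdicCompletion (IsLocalRing.maximalIdeal A) A))
    (q : Ideal (AdicCompletion (IsLocalRing.maximalIdeal A) A))
    (hq : q ∈ minimalPrimes (AdicCompletion (IsLocalRing.maximalIdeal A) A))
    (hdim : ringKrullDim (AdicCompletion (IsLocalRing.maximalIdeal A) A ⧸ q) = 1) :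
    ∃ q' ∈ minimalPrimes S, (Ideal.map ψ q').radical = q := by
  obtain ⟨_, hl, hf, -⟩ := CAlgH.HenselToCompletion.map_to_completion A S ψ hψ
  let Ah := AdicCompletion (IsLocalRing.maximalIdeal A) A
  haveI : IsNoetherianRing Ah := Groth.Agent.Matlis6.isNoetherianRing_adicCompletion _
  haveI := Hensel.IsHenselization.henselian (R := A) (S := S)
  letI : Algebra S Ah := ψ.toAlgebra
  haveI : IsLocalHom (algebraMap S Ah) := hl
  haveI : Module.Flat S Ah := RingHom.flat_algebraMap_iff.1 hf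
  haveI := hq.1.1
  let q' := q.comap ψ
  have hq' : q' ∈ minimalPrimes S := by
    refine ⟨⟨inferInstance, bot_le⟩, fun r hr hle => ?_⟩
    haveI := hr.1
    by_contra hne
    have hlt : r < q.under S := lt_of_le_not_ge hle hne
    obtain ⟨Q, hQ, hQp, -⟩ := Ideal.exists_ideal_lt_liesOver_of_lt q hlt
    exact hQ.not_ge (hq.2 ⟨hQp, bot_le⟩ hQ.le)
  refine ⟨q', hq', ?_⟩
  let PC := q'.map (algebraMap S Ah)
  show PC.radical = q
  have hPCq : PC ≤ q := Ideal.map_comap_le
  have hqmin : q ∈ PC.minimalPrimes := ⟨⟨inferInstance, hPCq⟩, fun R hR hle => hq.2 ⟨hR.1, bot_le⟩ hle⟩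
  suffices hone : PC.minimalPrimes = {q} by
    rw [← Ideal.sInf_minimalPrimes, hone, sInf_singleton]
  refine Set.Subset.antisymm (fun R hR => ?_) (Set.singleton_subset_iff.mpr hqmin)
  by_contra hRq
  -- the other components
  let s := PC.minimalPrimes \ {q}
  have hsfin : s.Finite := (Ideal.finite_minimalPrimes_of_isNoetherianRing _ PC).subset Set.sdiff_subset
  let J₂ := sInf s
  have hmul0 : q * J₂ ≤ PC.radical := by
    rw [← Ideal.sInf_minimalPrimes]
    refine le_sInf fun T hT => ?_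
    by_cases h : T = q
    · subst h; exact Ideal.mul_le_left
    · exact Ideal.mul_le_right.trans (sInf_le (show T ∈ s from ⟨hT, h⟩))
  obtain ⟨k, hk⟩ := Ideal.exists_pow_le_of_le_radical_of_fg hmul0 (IsNoetherian.noetherian _)
  have hk0 : k ≠ 0 := fun h => by
    rw [h, pow_zero, Ideal.one_eq_top] at hk
    exact (IsLocalRing.maximalIdeal.isMaximal Ah).ne_top (top_le_iff.mp (hk.trans (hPCq.trans
      (IsLocalRing.le_maximalIdeal hq.1.1.ne_top))))
  rw [mul_pow] at hk
  have hcov : ∀ T : Ideal Ah, T.IsPrime → q ≤ T → T ≠ q → T = IsLocalRing.maximalIdeal Ah := by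
    intro T hT hqT hne
    rw [ringKrullDim_quotient] at hdim
    let y : PrimeSpectrum.zeroLocus (q : Set Ah) := ⟨⟨T, hT⟩, hqT⟩
    rcases (Order.krullDim_le_one_iff.mp hdim.le) y with h | h
    · exact absurd (le_antisymm (show T ≤ q from
        h (show (⟨⟨q, inferInstance⟩, fun _ h => h⟩ : PrimeSpectrum.zeroLocus (q : Set Ah)) ≤ y from hqT)) hqT) hne
    · exact le_antisymm (IsLocalRing.le_maximalIdeal hT.ne_top)
        (h (show y ≤ (⟨⟨IsLocalRing.maximalIdeal Ah, inferInstance⟩, IsLocalRing.le_maximalIdeal hq.1.1.ne_top⟩ :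
          PrimeSpectrum.zeroLocus (q : Set Ah)) from IsLocalRing.le_maximalIdeal hT.ne_top))
  have hrad : IsLocalRing.maximalIdeal Ah ≤ (q ^ k ⊔ J₂ ^ k).radical := by
    rw [Ideal.radical_eq_sInf]
    refine le_sInf fun T hT => ?_
    haveI := hT.2
    have h1 : q ≤ T := (hT.2.pow_le_iff hk0).mp (le_sup_left.trans hT.1)
    have h2 : J₂ ≤ T := (hT.2.pow_le_iff hk0).mp (le_sup_right.trans hT.1)
    by_contra hm
    have hTq : T = q := by_contra fun h => hm (hcov T hT.2 h1 h).ge
    have h3 : hsfin.toFinset.inf id ≤ T := by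
      refine le_trans ?_ h2
      rw [Finset.inf_id_eq_sInf, Set.Finite.coe_toFinset]
    obtain ⟨R', hR', hR'T⟩ := (Ideal.IsPrime.inf_le' hT.2).mp h3
    rw [Set.Finite.mem_toFinset] at hR'
    exact hR'.2 (le_antisymm (hTq ▸ hR'T) (hqmin.2 hR'.1.1 (hTq ▸ hR'T)))
  -- an element outside
  have hRq' : R.comap ψ = q' := by
    refine le_antisymm ?_ (Ideal.map_le_iff_le_comap.mp hR.1.2)
    by_contra hne
    haveI := hR.1.1
    have hlt : q' < R.under S := lt_of_le_not_ge (Ideal.map_le_iff_le_comap.mp hR.1.2) hne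
    obtain ⟨Q, hQ, hQp, hQo⟩ := Ideal.exists_ideal_lt_liesOver_of_lt R hlt
    exact hQ.not_ge (hR.2 ⟨hQp, Ideal.map_le_iff_le_comap.mpr hQo.over.le⟩ hQ.le)
  have hqm : q' ≠ IsLocalRing.maximalIdeal S := fun h => by
    have hψm : IsLocalRing.maximalIdeal Ah ≤ PC := by
      intro z hz
      obtain ⟨b, hb⟩ := HenselLib.CompletionHapp.exists_sub_mem_map A S ψ hψ 1 z
      rw [pow_one, ← h] at hb
      have hb1 : z - ψ b ∈ IsLocalRing.maximalIdeal Ah := IsLocalRing.le_maximalIdeal hq.1.1.ne_top (hPCq hb)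
      have hbm : b ∈ IsLocalRing.maximalIdeal S := by
        rw [← ((IsLocalRing.local_hom_TFAE ψ).out 0 4 rfl rfl).mp hl]
        show ψ b ∈ IsLocalRing.maximalIdeal Ah
        rw [show ψ b = z - (z - ψ b) by ring]
        exact sub_mem hz hb1
      simpa using add_mem (show z - ψ b ∈ PC from hb) (Ideal.mem_map_of_mem ψ (h.ge hbm))
    have h1 : q = IsLocalRing.maximalIdeal Ah :=
      le_antisymm (IsLocalRing.le_maximalIdeal hq.1.1.ne_top) (hψm.trans hPCq)
    exact hRq (le_antisymm ((IsLocalRing.le_maximalIdeal hR.1.1.ne_top).trans h1.ge)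
      (h1.le.trans (hψm.trans hR.1.2)))
  haveI := hq'.1.1
  obtain ⟨x, hxm, hxq⟩ := SetLike.exists_of_lt (lt_of_le_of_ne (IsLocalRing.le_maximalIdeal hq'.1.1.ne_top) hqm)
  obtain ⟨n, hn⟩ := HenselLib.PunctureConn.pow_mem_or
    (fun N c => HenselLib.CompletionHapp.exists_sub_mem_map A S ψ hψ N c) q' (q ^ k) (J₂ ^ k) hk hrad x hxm hxq
  rcases hn with hn | hn
  · have : x ^ n ∈ q' := (sup_le (Ideal.pow_le_self hk0) hPCq : q ^ k ⊔ PC ≤ q) hn
    exact hxq (hq'.1.1.mem_of_pow_mem n this)
  · have : x ^ n ∈ R.comap ψ :=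
      (sup_le ((Ideal.pow_le_self hk0).trans (sInf_le (show R ∈ s from ⟨hR, hRq⟩))) hR.1.2 : J₂ ^ k ⊔ PC ≤ R) hn
    rw [hRq'] at this
    exact hxq (hq'.1.1.mem_of_pow_mem n this)

end Groth.Agent.S9242
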