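import Groth.Statements.S9245
import Mathlib.RingTheory.EssentialFiniteness
import Mathlib.RingTheory.Flat.FaithfullyFlat.Algebra
import Mathlib.RingTheory.Flat.Stability
import Mathlib.RingTheory.Smooth.Flat
import Mathlib.RingTheory.Polynomial.Basic
import Mathlib.RingTheory.Etale.Basic

set_option autoImplicit false
universe u
open CAlg

namespace Groth.Agent.S9245

/-- For an étale ring map A → B and a prime q of B with contraction p in A, the localization A_p is a
Noetherian ring exactly when the localization B_q is. -/
theorem result (A B : Type u) [CommRing A] [CommRing B]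
    [Algebra A B] [Algebra.Etale A B] (q : Ideal B) [q.IsPrime] :
    IsNoetherianRing (Localization.AtPrime (Ideal.comap (algebraMap A B) q)) ↔
      IsNoetherianRing (Localization.AtPrime q) := by
  set p := Ideal.comap (algebraMap A B) q
  let Ap := Localization.AtPrime p
  let Bq := Localization.AtPrime q
  letI : Algebra Ap Bq := (Localization.localRingHom p q (algebraMap A B) rfl).toAlgebra
  have : IsScalarTower A Ap Bq := IsScalarTower.of_algebraMap_eq fun x => by
    show _ = Localization.localRingHom p q (algebraMap A B) rfl (algebraMap A Ap x)
    rw [Localization.localRingHom_to_map, ← IsScalarTower.algebraMap_apply]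
  have : Algebra.EssFiniteType A Bq := Algebra.EssFiniteType.comp A B Bq
  constructor
  · intro h
    have : Algebra.EssFiniteType Ap Bq := Algebra.EssFiniteType.of_comp A Ap Bq
    exact Algebra.EssFiniteType.isNoetherianRing Ap Bq
  · intro h
    have : Module.Flat A Bq := Module.Flat.trans A B Bq
    have : IsLocalizedModule p.primeCompl (LinearMap.id : Bq →ₗ[A] Bq) := isLocalizedModule_id p.primeCompl Bq Ap
    have : Module.Flat Ap Bq := Module.Flat.of_isLocalizedModule Ap p.primeCompl (LinearMap.id : Bq →ₗ[A] Bq)
    have : IsLocalHom (algebraMap Ap Bq) := Localization.isLocalHom_localRingHom p q (algebraMap A B) rfl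
    have : Module.FaithfullyFlat Ap Bq := Module.FaithfullyFlat.of_flat_of_isLocalHom
    exact isNoetherian_mk (StrictMono.wellFoundedGT (f := fun I : Ideal Ap => I.map (algebraMap Ap Bq))
      (fun I J hIJ => lt_of_le_of_ne (Ideal.map_mono hIJ.le)
        (fun he => hIJ.ne (Ideal.map_injective_of_faithfullyFlat he))))

end Groth.Agent.S9245
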