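import Groth.Statements.S9246
import Groth.Agent.Et18.EtaleLocalRing
import Groth.Agent.HenselLib.HullProps
import Groth.Agent.HenselLib.HullNoeth


set_option autoImplicit false
universe u
open CAlg

namespace Groth.Agent.S9246

/-- Let A → B be an étale ring map and q a prime of B lying over the prime p of A. Then A_p is a regular
local ring if and only if B_q is a regular local ring. -/
theorem result (A B : Type u) [CommRing A] [CommRing B]
    [Algebra A B] [Algebra.Etale A B] (q : Ideal B) [q.IsPrime] :
    IsRegularLocalRing (Localization.AtPrime (Ideal.comap (algebraMap A B) q)) ↔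
      IsRegularLocalRing (Localization.AtPrime q) := by
  let p := Ideal.comap (algebraMap A B) q
  let R := Localization.AtPrime p
  let S := Localization.AtPrime q
  letI : Algebra R S := (Localization.localRingHom p q (algebraMap A B) rfl).toAlgebra
  haveI : IsScalarTower A R S := IsScalarTower.of_algebraMap_eq fun a => by
    rw [IsScalarTower.algebraMap_apply A B S]
    exact (Localization.localRingHom_to_map p q _ rfl a).symm
  haveI : IsLocalHom (algebraMap R S) := Localization.isLocalHom_localRingHom p q _ rfl
  haveI : Module.Flat R S := RingHom.flat_algebraMap_iff.mp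
    (RingHom.Flat.localRingHom (RingHom.flat_algebraMap_iff.mpr inferInstance) q p rfl)
  haveI : Algebra.EssFiniteType B S := Algebra.EssFiniteType.of_isLocalization S q.primeCompl
  haveI : Algebra.EssFiniteType A S := Algebra.EssFiniteType.comp A B S
  haveI : Algebra.EssFiniteType R S := Algebra.EssFiniteType.of_comp A R S
  haveI : Algebra.FormallyUnramified A S := Algebra.FormallyUnramified.comp A B S
  haveI : Algebra.FormallyUnramified R S := Algebra.FormallyUnramified.of_restrictScalars A R S
  have hm := Algebra.FormallyUnramified.map_maximalIdeal (R := R) (S := S)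
  show IsRegularLocalRing R ↔ IsRegularLocalRing S
  constructor
  · intro h
    haveI : IsNoetherianRing S := Algebra.EssFiniteType.isNoetherianRing R S
    exact (HenselLib.isRegularLocalRing_iff_of_flat S hm (Et18.ringKrullDim_eq_of_flat_of_map_maximalIdeal R S hm)).mp h
  · intro h
    haveI : Module.FaithfullyFlat R S := Module.FaithfullyFlat.of_flat_of_isLocalHom
    haveI : IsNoetherianRing R := HenselLib.isNoetherianRing_of_faithfullyFlat R S
    exact (HenselLib.isRegularLocalRing_iff_of_flat S hm (Et18.ringKrullDim_eq_of_flat_of_map_maximalIdeal R S hm)).mpr h

end Groth.Agent.S9246
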