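import Groth.Statements.S9247
import Mathlib
import Groth.Agent.CAlgH3.Factorial


set_option autoImplicit false
universe u
open CAlg

namespace Groth.Agent.S9247

/-- For a regular local ring R and an element f of R, the Picard group of R_f is trivial. -/
theorem result (R : Type u) [CommRing R]
    [IsRegularLocalRing R] (f : R) : Subsingleton (CommRing.Pic (Localization.Away f)) := by
  haveI := _root_.Groth.Agent.CAlgH3.isDomain_of_isRegularLocalRing R
  haveI := _root_.Groth.Agent.CAlgH3.ufm_of_regular R
  by_cases hf : f = 0
  · subst hf
    have : Subsingleton (Localization.Away (0 : R)) :=
      IsLocalization.subsingleton (M := Submonoid.powers (0 : R)) (Submonoid.mem_powers 0)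
    refine CommRing.Pic.subsingleton_iff.2 fun M _ _ _ => ?_
    have : Subsingleton M := Module.subsingleton (Localization.Away (0 : R)) M
    infer_instance
  have hle := powers_le_nonZeroDivisors_of_noZeroDivisors hf
  haveI : IsDomain (Localization.Away f) := IsLocalization.isDomain_localization hle
  haveI : UniqueFactorizationMonoid (Localization.Away f) :=
    UniqueFactorizationMonoid.of_isLocalization (Submonoid.powers f) (Localization.Away f)
  infer_instance

end Groth.Agent.S9247
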