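import Groth.Statements.S9249
import Groth.Agent.CAlgH3.CMRing
import Groth.Agent.LocCoh.NonVanishing
import Groth.Agent.S5810
import Groth.Agent.Matlis6.CompletionNoetherian


set_option autoImplicit false
universe u
open CAlg

namespace Groth.Agent.S9249

/-- A Noetherian local ring is Cohen-Macaulay if and only if its completion is. -/
theorem result (A : Type u) [CommRing A] [IsLocalRing A]
    [IsNoetherianRing A] :
    LocCoh.IsCohenMacaulayLocalRing A ↔
      LocCoh.IsCohenMacaulayLocalRing (AdicCompletion (IsLocalRing.maximalIdeal A) A) := by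
  haveI : IsNoetherianRing (AdicCompletion (IsLocalRing.maximalIdeal A) A) := Matlis6.isNoetherianRing_adicCompletion _
  rw [CAlgH3.isCohenMacaulayLocalRing_iff_depth, CAlgH3.isCohenMacaulayLocalRing_iff_depth,
    LocCoh.ringKrullDim_adicCompletion A]
  have h : LocCoh.depth (AdicCompletion (IsLocalRing.maximalIdeal A) A) (AdicCompletion (IsLocalRing.maximalIdeal A) A) =
      LocCoh.depth A A := S5810.result A A
  rw [h]

end Groth.Agent.S9249
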