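import Groth.Statements.S9250
import Groth.Agent.CAlgH.RegularHom


set_option autoImplicit false
universe u
open CAlg

namespace Groth.Agent.S9250

/-- Let R → S be a regular ring map with S Noetherian and R regular. Then S is regular. -/
theorem result (R S : Type u) [CommRing R] [CommRing S] [Algebra R S]
    [IsRegularRing R] [IsNoetherianRing S] (h : CAlg.IsRegularHom R S) : IsRegularRing S := by
  exact Groth.Agent.CAlgH.isRegularRing_of_isRegularHom h

end Groth.Agent.S9250
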