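import Groth.Statements.S9260
import Mathlib.Algebra.Polynomial.Monic
import Mathlib.Algebra.MvPolynomial.Eval

set_option autoImplicit false
universe u
open CAlg

namespace Groth.Agent.S9260

/-- Suppose a finite group G with n elements acts on a ring R by ring automorphisms, A → R is a ring map
compatible with the action whose image contains the invariants (so that A maps onto R^G), J is an
ideal of A, and x lies in JR. Then ∏_σ (T - σ(x)) is the image of a monic polynomial over A of
degree at most n whose coefficients below degree n all lie in J. (The published statement takes A =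
R^G and a polynomial of degree n; this row allows any such A mapping onto R^G and asks degree at
most n, which is the same when A is nonzero.) -/
theorem result (A R G : Type u) [CommRing A]
    [CommRing R] [Algebra A R] [Group G] [Fintype G] [MulSemiringAction G R] [SMulCommClass G A R]
    [Algebra.IsInvariant A R G] (J : Ideal A) (x : R) (hx : x ∈ Ideal.map (algebraMap A R) J) :
    ∃ P : Polynomial A, P.Monic ∧ P.natDegree ≤ Fintype.card G ∧
      (∀ i : ℕ, i < Fintype.card G → P.coeff i ∈ J) ∧
      Polynomial.map (algebraMap A R) P = ∏ σ : G, (Polynomial.X - Polynomial.C (σ • x)) := by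
  classical
  cases subsingleton_or_nontrivial R
  · exact ⟨Polynomial.X ^ Fintype.card G, Polynomial.monic_X_pow _, Polynomial.natDegree_X_pow_le _,
      fun i hi => by simp [Polynomial.coeff_X_pow, hi.ne], Subsingleton.elim _ _⟩
  obtain ⟨l, hl, hlx⟩ := (Finsupp.mem_span_image_iff_linearCombination R).mp hx
  let n := Fintype.card G
  let ν := {a : A // a ∈ l.support}
  let y : MvPolynomial ν R := ∑ a : ν, MvPolynomial.C (l a.1) * MvPolynomial.X a
  let ev : MvPolynomial ν R →+* R := MvPolynomial.eval fun a => algebraMap A R a.1
  let act : G → MvPolynomial ν R →+* MvPolynomial ν R := fun σ =>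
    MvPolynomial.map (MulSemiringAction.toRingHom G R σ)
  have hev : ∀ σ, ev (act σ y) = σ • x := by
    intro σ
    rw [← hlx, Finsupp.linearCombination_apply, Finsupp.sum, Finset.smul_sum, map_sum, map_sum,
      ← Finset.sum_coe_sort l.support (fun a => σ • (l a • algebraMap A R a))]
    refine Finset.sum_congr rfl fun a _ => ?_
    simp [act, ev, smul_mul', smul_algebraMap]
  let Q : Polynomial (MvPolynomial ν R) := ∏ σ : G, (Polynomial.X - Polynomial.C (act σ y))
  have hQm : Q.Monic := Polynomial.monic_prod_of_monic _ _ fun σ _ => Polynomial.monic_X_sub_C _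
  have hQd : Q.natDegree = n := Polynomial.natDegree_finsetProd_X_sub_C_eq_card _ _
  have hQinv : ∀ τ : G, Q.map (act τ) = Q := by
    intro τ
    simp only [Q, Polynomial.map_prod, Polynomial.map_sub, Polynomial.map_X, Polynomial.map_C]
    refine Fintype.prod_equiv (Equiv.mulLeft τ) _ _ fun σ => ?_
    congr 2
    simp only [act, MvPolynomial.map_map, Equiv.coe_mulLeft]
    congr 2
    ext r
    exact (mul_smul τ σ r).symm
  have lift : ∀ i, ∃ c : MvPolynomial ν A, MvPolynomial.map (algebraMap A R) c = Q.coeff i := by
    intro i
    show _ ∈ Set.range (MvPolynomial.map (algebraMap A R))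
    rw [MvPolynomial.mem_range_map_iff_coeffs_subset]
    intro r hr
    obtain ⟨m, -, rfl⟩ := MvPolynomial.mem_coeffs_iff.mp hr
    refine Algebra.IsInvariant.isInvariant (G := G) _ fun τ => ?_
    have := congrArg (fun p => MvPolynomial.coeff m (Polynomial.coeff p i)) (hQinv τ)
    simp only [Polynomial.coeff_map, act, MvPolynomial.coeff_map] at this
    exact this
  choose c hc using lift
  let c' : ℕ → MvPolynomial ν A := fun i => c i - MvPolynomial.C (MvPolynomial.constantCoeff (c i))
  have hconst : ∀ i, i < n → MvPolynomial.constantCoeff (Q.coeff i) = 0 := by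
    intro i hi
    rw [← Polynomial.coeff_map]
    have : ∀ σ, MvPolynomial.constantCoeff (act σ y) = 0 := fun σ => by
      simp [act, y, MvPolynomial.constantCoeff_map]
    simp only [Q, Polynomial.map_prod, Polynomial.map_sub, Polynomial.map_X, Polynomial.map_C, this,
      map_zero, sub_zero, Finset.prod_const, Finset.card_univ, Polynomial.coeff_X_pow]
    rw [if_neg hi.ne]
  have hc' : ∀ i, i < n → MvPolynomial.map (algebraMap A R) (c' i) = Q.coeff i := by
    intro i hi
    have : algebraMap A R (MvPolynomial.constantCoeff (c i)) = 0 := by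
      rw [← MvPolynomial.constantCoeff_map, hc, hconst i hi]
    simp [c', hc, this]
  let evA : MvPolynomial ν A →+* A := MvPolynomial.eval fun a => a.1
  have hevJ : ∀ p, evA p - MvPolynomial.constantCoeff p ∈ J := by
    intro p
    apply Ideal.Quotient.eq.mp
    show ((Ideal.Quotient.mk J).comp evA) p = ((Ideal.Quotient.mk J).comp MvPolynomial.constantCoeff) p
    congr 1
    refine MvPolynomial.ringHom_ext (fun a => by simp [evA]) (fun a => ?_)
    simp only [evA, RingHom.comp_apply, MvPolynomial.eval_X, MvPolynomial.constantCoeff_X, map_zero]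
    exact Ideal.Quotient.eq_zero_iff_mem.mpr (hl a.2)
  have hev' : ev.comp (MvPolynomial.map (algebraMap A R)) = (algebraMap A R).comp evA :=
    MvPolynomial.ringHom_ext (fun a => by simp [ev, evA]) (fun a => by simp [ev, evA])
  let P : Polynomial A := Polynomial.X ^ n +
    ∑ i ∈ Finset.range n, Polynomial.C (evA (c' i)) * Polynomial.X ^ i
  have hdeg : (∑ i ∈ Finset.range n, Polynomial.C (evA (c' i)) * Polynomial.X ^ i).degree < (n : WithBot ℕ) := by
    refine lt_of_le_of_lt (Polynomial.degree_sum_le _ _) ?_
    refine (Finset.sup_lt_iff (WithBot.bot_lt_coe _)).mpr fun i hi => ?_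
    exact lt_of_le_of_lt (Polynomial.degree_C_mul_X_pow_le _ _) (by exact_mod_cast Finset.mem_range.mp hi)
  refine ⟨P, Polynomial.monic_X_pow_add hdeg, ?_, ?_, ?_⟩
  · refine Polynomial.natDegree_le_iff_degree_le.mpr ((Polynomial.degree_add_le _ _).trans ?_)
    exact max_le (Polynomial.degree_X_pow_le _) hdeg.le
  · intro i hi
    have : P.coeff i = evA (c' i) := by
      simp [P, n, Polynomial.coeff_X_pow, hi.ne, hi, Polynomial.coeff_C_mul]
    rw [this]
    simpa [c', evA] using hevJ (c i)
  · have : ∏ σ : G, (Polynomial.X - Polynomial.C (σ • x)) = Q.map ev := by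
      simp only [Q, Polynomial.map_prod, Polynomial.map_sub, Polynomial.map_X, Polynomial.map_C, hev]
    rw [this]
    conv_rhs => rw [hQm.as_sum, hQd]
    simp only [P, Polynomial.map_add, Polynomial.map_pow, Polynomial.map_X, Polynomial.map_sum,
      Polynomial.map_mul, Polynomial.map_C]
    congr 1
    refine Finset.sum_congr rfl fun i hi => ?_
    rw [← hc' i (Finset.mem_range.mp hi), ← RingHom.comp_apply ev, hev']
    rfl

end Groth.Agent.S9260
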