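import Groth.Statements.S9261
import Mathlib.RingTheory.Flat.Basic
import Mathlib.LinearAlgebra.TensorProduct.Pi

set_option autoImplicit false
universe u
open CAlg

namespace Groth.Agent.S9261

/-- Let G be a finite group acting on a ring R, S = R^G its ring of invariants (here: S → R injective
with image the invariants) and A a flat S-algebra. Then the map A → A ⊗_S R is injective with image
the invariants of G acting on A ⊗_S R through the second factor; that is, A → (A ⊗_S R)^G is an
isomorphism. -/
theorem result (S R A G : Type u) [CommRing S] [CommRing R] [Algebra S R]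
    [FaithfulSMul S R] [Group G] [Finite G] [MulSemiringAction G R] [SMulCommClass G S R]
    [Algebra.IsInvariant S R G] [CommRing A] [Algebra S A] [Module.Flat S A] :
    Function.Injective (algebraMap A (TensorProduct S A R)) ∧
      ∀ x : TensorProduct S A R,
        (∀ σ : G, Algebra.TensorProduct.map (AlgHom.id S A) (MulSemiringAction.toAlgHom S R σ) x = x) →
          x ∈ Set.range (algebraMap A (TensorProduct S A R)) := by
  classical
  cases nonempty_fintype G
  refine ⟨Algebra.TensorProduct.includeLeft_injective (R := S) (S := A) (A := A) (B := R) (FaithfulSMul.algebraMap_injective S R), fun x hx => ?_⟩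
  let d : G → (R →ₗ[S] R) := fun σ => (MulSemiringAction.toAlgHom S R σ).toLinearMap - LinearMap.id
  let Δ : R →ₗ[S] (G → R) := LinearMap.pi d
  have hex : Function.Exact (Algebra.linearMap S R) Δ := by
    intro r
    constructor
    · intro hr
      refine Algebra.IsInvariant.isInvariant (G := G) r fun σ => ?_
      simpa [Δ, d, sub_eq_zero] using congrFun hr σ
    · rintro ⟨s, rfl⟩
      ext σ
      simp [Δ, d]
  have h0 : Δ.lTensor A x = 0 := by
    apply (TensorProduct.piRight S S A (fun _ : G => R)).injective
    rw [map_zero]
    ext σ
    have : ∀ z, TensorProduct.piRight S S A (fun _ : G => R) (Δ.lTensor A z) σ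
        = Algebra.TensorProduct.map (AlgHom.id S A) (MulSemiringAction.toAlgHom S R σ) z - z := by
      intro z
      induction z using TensorProduct.induction_on with
      | zero => simp
      | tmul a r => simp [Δ, d, TensorProduct.tmul_sub]
      | add p q hp hq => simp only [map_add, Pi.add_apply, hp, hq]; abel
    rw [this, hx σ, sub_self]; rfl
  obtain ⟨y, rfl⟩ := (Module.Flat.lTensor_exact A hex x).mp h0
  refine ⟨TensorProduct.rid S A y, ?_⟩
  clear hx h0
  induction y using TensorProduct.induction_on with
  | zero => simp
  | tmul a s => simp [Algebra.TensorProduct.algebraMap_apply, TensorProduct.tmul_smul, Algebra.algebraMap_eq_smul_one, Algebra.TensorProduct.one_def, TensorProduct.smul_tmul']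
  | add p q hp hq => simp only [map_add, hp, hq]

end Groth.Agent.S9261
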