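import Groth.Statements.S9262
import Groth.Agent.HenselLib.HullDVR

set_option autoImplicit false
universe u
open Hensel

namespace Groth.Agent.S9262

/-- Let R be a Noetherian local ring with henselization S and strict henselization T. Then R is a
discrete valuation ring exactly when S is one, and exactly when T is one. -/
theorem result (R S T : Type u)
    [CommRing R] [IsLocalRing R] [IsNoetherianRing R] [CommRing S] [IsLocalRing S] [Algebra R S]
    [IsLocalHom (algebraMap R S)] [Hensel.IsHenselization R S] [CommRing T] [IsLocalRing T]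
    [Algebra R T] [IsLocalHom (algebraMap R T)] [Hensel.IsStrictHenselization R T] :
    ((∃ _ : IsDomain R, IsDiscreteValuationRing R) ↔ (∃ _ : IsDomain S, IsDiscreteValuationRing S)) ∧
      ((∃ _ : IsDomain R, IsDiscreteValuationRing R) ↔
        (∃ _ : IsDomain T, IsDiscreteValuationRing T)) := by
  obtain ⟨e⟩ := Groth.Agent.HenselLib.exists_equiv_localH S (R := R)
  obtain ⟨e'⟩ := Groth.Agent.HenselLib.exists_equiv_localSH T (R := R)
  have := Groth.Agent.HenselLib.isNoetherianRing_localH (R := R)
  have := Groth.Agent.HenselLib.isNoetherianRing_localSH (R := R)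
  have := isNoetherianRing_of_ringEquiv _ e.toRingEquiv
  have := isNoetherianRing_of_ringEquiv _ e'.toRingEquiv
  have : Module.Flat R S := Module.Flat.of_linearEquiv e.toLinearEquiv.symm
  have : Module.Flat R T := Module.Flat.of_linearEquiv e'.toLinearEquiv.symm
  refine ⟨Groth.Agent.HenselLib.exists_isDVR_iff_of_flat ?_ ?_,
    Groth.Agent.HenselLib.exists_isDVR_iff_of_flat ?_ ?_⟩
  · rw [← e.toAlgHom.comp_algebraMap, ← Ideal.map_map,
      Groth.Agent.HenselLib.map_maximalIdeal_localH]
    exact IsLocalRing.map_ringEquiv_maximalIdeal e.toRingEquiv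
  · rw [← ringKrullDim_eq_of_ringEquiv e.toRingEquiv]
    exact Groth.Agent.HenselLib.ringKrullDim_hull
  · rw [← e'.toAlgHom.comp_algebraMap, ← Ideal.map_map,
      Groth.Agent.HenselLib.map_maximalIdeal_localSH]
    exact IsLocalRing.map_ringEquiv_maximalIdeal e'.toRingEquiv
  · rw [← ringKrullDim_eq_of_ringEquiv e'.toRingEquiv]
    exact Groth.Agent.HenselLib.ringKrullDim_hull

end Groth.Agent.S9262
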