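import Groth.Statements.S9268
import Groth.Agent.CAlgH.AdicSmoothCotangent


set_option autoImplicit false
universe u
open CAlg

namespace Groth.Agent.S9268

/-- Suppose A is a Noetherian ring and B is a finitely generated A-algebra, and consider a prime q of B
lying over p in A. Then A → B is smooth at q (meaning some g not in q makes A → B_g smooth) exactly
when the induced map A_p → B_q is formally smooth with respect to the adic topology defined by the
maximal ideal of B_q. -/
theorem result (A B : Type u) [CommRing A] [IsNoetherianRing A]
    [CommRing B] [Algebra A B] [Algebra.FiniteType A B] (q : Ideal B) [q.IsPrime] :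
    (∃ g : B, g ∉ q ∧ Algebra.Smooth A (Localization.Away g)) ↔
      letI := (Localization.localRingHom (Ideal.comap (algebraMap A B) q) q (algebraMap A B) rfl).toAlgebra
      CAlgX.IsAdicFormallySmooth (Localization.AtPrime (Ideal.comap (algebraMap A B) q))
        (Localization.AtPrime q) (IsLocalRing.maximalIdeal (Localization.AtPrime q)) := by
  letI := (Localization.localRingHom (Ideal.comap (algebraMap A B) q) q (algebraMap A B) rfl).toAlgebra
  haveI : IsScalarTower A (Localization.AtPrime (Ideal.comap (algebraMap A B) q)) (Localization.AtPrime q) :=
    IsScalarTower.of_algebraMap_eq fun a => by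
      rw [IsScalarTower.algebraMap_apply A B (Localization.AtPrime q)]
      exact (Localization.localRingHom_to_map _ _ _ rfl a).symm
  haveI : Algebra.FinitePresentation A B := Algebra.FinitePresentation.of_finiteType.mp inferInstance
  show _ ↔ CAlgX.IsAdicFormallySmooth _ _ _
  constructor
  · rintro ⟨g, hg, hsm⟩
    have h := Algebra.basicOpen_subset_smoothLocus_iff_smooth.mpr hsm (show (⟨q, inferInstance⟩ : PrimeSpectrum B) ∈ PrimeSpectrum.basicOpen g from hg)
    haveI : Algebra.FormallySmooth A (Localization.AtPrime q) := h
    exact CAlgH.AdicSmooth.of_isLocalization_base (Ideal.comap (algebraMap A B) q).primeCompl _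
      (CAlgH.AdicSmooth.of_formallySmooth (R := A))
  · intro h
    haveI : Algebra.FormallyEtale A (Localization.AtPrime (Ideal.comap (algebraMap A B) q)) :=
      .of_isLocalization (Ideal.comap (algebraMap A B) q).primeCompl
    haveI : Algebra.FormallySmooth A (Localization.AtPrime q) :=
      CAlgH.AdicSmooth.formallySmooth_localization q (CAlgH.AdicSmooth.trans (𝔫 := ⊥) (by rw [Ideal.map_bot]; exact bot_le)
        (CAlgH.AdicSmooth.of_formallySmooth (R := A)) h)
    exact Algebra.IsSmoothAt.exists_notMem_smooth A q

end Groth.Agent.S9268
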