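import Groth.Statements.S9271
import Groth.Agent.CAlgH.QuasiRegularThickening
import Groth.Agent.HenselLib.HfpSmoothModel
-- import your own Groth.Agent.* helpers here

set_option autoImplicit false
universe u
open CAlg

namespace Groth.Agent.S9271
open scoped TensorProduct

/-- Suppose A' → B' is a flat ring map of finite presentation (smooth maps being one example), and let I
be a locally nilpotent ideal of A', with A = A'/I and B = B'/IB'. Let f'_1, ..., f'_r be elements of
B' whose images f_1, ..., f_r in B form a quasi-regular sequence with B/(f_1, ..., f_r) smooth over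
A. Then B'/(f'_1, ..., f'_r) is smooth over A'. -/
theorem result (A' B' : Type u) [CommRing A']
    [CommRing B'] [Algebra A' B'] [Module.Flat A' B'] [Algebra.FinitePresentation A' B']
    (I : Ideal A') (hI : ∀ x ∈ I, IsNilpotent x) (r : ℕ) (f' : Fin r → B')
    (hq : CAlgX.IsQuasiRegular
      (fun i => Ideal.Quotient.mk (Ideal.map (algebraMap A' B') I) (f' i)))
    (hsm : Algebra.Smooth (A' ⧸ I)
      ((B' ⧸ Ideal.map (algebraMap A' B') I) ⧸
        Ideal.span (Set.range (fun i => Ideal.Quotient.mk (Ideal.map (algebraMap A' B') I) (f' i))))) :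
    Algebra.Smooth A' (B' ⧸ Ideal.span (Set.range f')) := by
  haveI := hsm
  let J := Ideal.map (algebraMap A' B') I
  let K := Ideal.span (Set.range f')
  haveI : Module.Flat (A' ⧸ I) ((B' ⧸ J) ⧸ Ideal.span (Set.range (fun i => Ideal.Quotient.mk J (f' i)))) :=
    inferInstance
  haveI : Module.Flat A' (B' ⧸ K) :=
    _root_.Groth.Agent.CAlgH.QuasiRegularThickening.flat_quotient I f' hI hq this
  haveI : Algebra.FinitePresentation A' (B' ⧸ K) := Algebra.FinitePresentation.quotient
    (Submodule.fg_span (Set.finite_range f'))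
  have hJ : J.map (Ideal.Quotient.mkₐ A' K) = I.map (algebraMap A' (B' ⧸ K)) := by
    exact Ideal.map_map (algebraMap A' B') (Ideal.Quotient.mk K)
  have hK : K.map (Ideal.Quotient.mkₐ A' J) = Ideal.span (Set.range (fun i => Ideal.Quotient.mk J (f' i))) := by
    rw [Ideal.map_span]; exact congrArg Ideal.span (Set.range_comp _ _).symm
  let e : ((B' ⧸ J) ⧸ Ideal.span (Set.range (fun i => Ideal.Quotient.mk J (f' i)))) ≃ₐ[A']
      (B' ⧸ K) ⧸ I.map (algebraMap A' (B' ⧸ K)) :=
    ((Ideal.quotientEquivAlgOfEq A' hK).symm.trans (DoubleQuot.quotQuotEquivCommₐ A' J K)).trans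
      (Ideal.quotientEquivAlgOfEq A' hJ)
  let e' : ((B' ⧸ J) ⧸ Ideal.span (Set.range (fun i => Ideal.Quotient.mk J (f' i)))) ≃ₐ[A' ⧸ I]
      (B' ⧸ K) ⧸ I.map (algebraMap A' (B' ⧸ K)) :=
    AlgEquiv.ofRingEquiv (f := e.toRingEquiv) fun a => by
      obtain ⟨a, rfl⟩ := Ideal.Quotient.mk_surjective a
      exact e.commutes a
  haveI : Algebra.Smooth (A' ⧸ I) ((B' ⧸ K) ⧸ I.map (algebraMap A' (B' ⧸ K))) := Algebra.Smooth.of_equiv e'
  haveI : Algebra.Smooth (A' ⧸ I) ((A' ⧸ I) ⊗[A'] (B' ⧸ K)) :=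
    Algebra.Smooth.of_equiv (Algebra.TensorProduct.quotIdealMapEquivQuotTensor (B' ⧸ K) I)
  refine ⟨Algebra.smoothLocus_eq_univ_iff.mp (Set.eq_univ_iff_forall.mpr fun q => ?_), inferInstance⟩
  refine _root_.Groth.Agent.HenselLib.HfpSmoothModel.isSmoothAt_of_smooth_quotient I q.asIdeal
    (Ideal.map_le_iff_le_comap.2 fun x hx => ?_)
  obtain ⟨k, hk⟩ := hI x hx
  exact q.isPrime.mem_of_pow_mem k (by rw [← map_pow, hk, map_zero]; exact zero_mem _)

end Groth.Agent.S9271
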