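import Groth.Statements.S9278
import Groth.Agent.CAlgH3.BECriterion

set_option autoImplicit false
universe u
open CAlgX

namespace Groth.Agent.S9278

/-- Let R be a Noetherian local ring and φ : R^m → R^n a map of finite free modules with matrix M. Then
φ is injective if and only if the rank of M is m and the determinantal ideal I(M) is the unit ideal
or contains a nonzerodivisor. -/
theorem result (R : Type u) [CommRing R]
    [IsLocalRing R] [IsNoetherianRing R] (m n : ℕ) (M : Matrix (Fin n) (Fin m) R) :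
    Function.Injective (Matrix.mulVecLin M) ↔
      CAlgX.matrixRank M = m ∧ (CAlgX.detIdeal M = ⊤ ∨ ∃ a ∈ CAlgX.detIdeal M, IsRegular a) := by
  classical
  let n' : ℕ → ℕ := fun i => match i with | 0 => n | 1 => m | _ + 2 => 0
  let A' : (i : ℕ) → Matrix (Fin (n' i)) (Fin (n' (i + 1))) R := fun i => match i with | 0 => M | _ + 1 => 0
  have hA : ∀ i, i + 2 ≤ 1 → A' i * A' (i + 1) = 0 := fun i hi => by omega
  have hsig : Groth.Agent.CAlgH3.BECriterion.sig 1 n' 1 = (m : ℤ) := by
    simp [Groth.Agent.CAlgH3.BECriterion.sig, n']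
  have hex : Function.Injective (Matrix.mulVecLin M) ↔ Groth.Agent.CAlgH3.BECriterion.IsExact A' 1 := by
    rw [Groth.Agent.CAlgH3.BECriterion.isExact_iff A' 1 le_rfl hA, ← LinearMap.ker_eq_bot]
    exact ⟨fun h => ⟨h, fun i hi => by omega⟩, fun h => h.1⟩
  rw [hex]
  constructor
  · intro h
    have h1 := (Groth.Agent.CAlgH3.BECriterion.rank_of_exact A' 1 hA h (i := 0) Nat.one_pos).1
    rw [hsig] at h1
    refine ⟨by exact_mod_cast h1, ?_⟩
    rcases Groth.Agent.CAlgH3.BECriterion.criterion_of_exact 1 R n' A' hA h 0 Nat.one_pos with h2 | ⟨rs, hl, hrs, hreg⟩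
    · exact Or.inl h2
    · obtain ⟨a, rfl⟩ := List.length_eq_one_iff.1 hl
      refine Or.inr ⟨a, hrs a (List.mem_singleton_self a), ?_⟩
      have hw := ((Groth.Agent.CAlgH3.BEAux.reg_bot_iff [a]).2 hreg.toIsWeaklyRegular).1
      have hs : IsSMulRegular R a := isSMulRegular_iff_right_eq_zero_of_smul.2 fun x hx =>
        (Submodule.mem_bot R).1 (hw x ((Submodule.mem_bot R).2 hx))
      exact ⟨hs, fun b c hbc => hs (by simpa [smul_eq_mul, mul_comm a] using hbc)⟩
  · rintro ⟨h1, h2⟩
    refine Groth.Agent.CAlgH3.BECriterion.exact_of_criterion A' 1 hA (fun j hj hj' => ?_) (fun j hj hj' => ?_)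
    · obtain rfl : j = 1 := by omega
      rw [hsig]
      exact_mod_cast h1
    · obtain rfl : j = 1 := by omega
      by_cases htop : CAlgX.detIdeal M = ⊤
      · exact Or.inl htop
      obtain ⟨a, ha, hreg⟩ := h2.resolve_left htop
      refine Or.inr ⟨[a], rfl, by simpa using ha, ⟨(Groth.Agent.CAlgH3.BEAux.reg_bot_iff [a]).1
        ⟨fun z hz => (Submodule.mem_bot R).2 (hreg.left.eq_iff.1 (((Submodule.mem_bot R).1 hz).trans (mul_zero a).symm)),
          trivial⟩, ?_⟩⟩
      rw [Ideal.ofList_singleton, smul_eq_mul, Ideal.mul_top]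
      intro h
      exact htop (top_le_iff.1 (h ▸ (Ideal.span_singleton_le_iff_mem _).2 ha))

end Groth.Agent.S9278
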