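import Groth.Statements.S9279
import Groth.Agent.HenselLib.CompletionHapp
-- import your own Groth.Agent.* helpers here

set_option autoImplicit false
set_option linter.all false
universe u
open Brnch

namespace Groth.Agent.S9279

/-- For a Noetherian local ring A with henselization S and completion A^ at its maximal ideal, the
spectrum of A^ with its closed point removed is preconnected exactly when the spectrum of S with its
closed point removed is (the two sets are empty together, namely when A has dimension zero). Stated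
as: the complement of the closed point in Spec A^ is preconnected iff the complement of the closed
point in Spec S is. -/
theorem result (A S : Type u) [CommRing A]
    [IsLocalRing A] [IsNoetherianRing A] [CommRing S] [IsLocalRing S] [Algebra A S]
    [IsLocalHom (algebraMap A S)] [Hensel.IsHenselization A S] :
    IsPreconnected
        ({IsLocalRing.closedPoint (AdicCompletion (IsLocalRing.maximalIdeal A) A)}ᶜ :
          Set (PrimeSpectrum (AdicCompletion (IsLocalRing.maximalIdeal A) A))) ↔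
      IsPreconnected ({IsLocalRing.closedPoint S}ᶜ : Set (PrimeSpectrum S)) := by
  let Ah := AdicCompletion (IsLocalRing.maximalIdeal A) A
  haveI : IsNoetherianRing Ah := Groth.Agent.Matlis6.isNoetherianRing_adicCompletion _
  haveI : HenselianLocalRing Ah := HenselLib.henselianLocalRing_of_henselianRing _
  haveI := Hensel.IsHenselization.henselian (R := A) (S := S)
  obtain ⟨ψ, hψ, -⟩ := Hensel.IsHenselization.universal (R := A) (S := S) Ah (algebraMap A Ah)
    (CommAlg6.isLocalHom_completion A)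
  obtain ⟨_, hl, hf, -⟩ := CAlgH.HenselToCompletion.map_to_completion A S ψ hψ
  letI : Algebra S Ah := ψ.toAlgebra
  haveI : IsLocalHom (algebraMap S Ah) := hl
  haveI : Module.Flat S Ah := RingHom.flat_algebraMap_iff.1 hf
  haveI : Module.FaithfullyFlat S Ah := Module.FaithfullyFlat.of_flat_of_isLocalHom
  have hcm : (IsLocalRing.maximalIdeal Ah).comap ψ = IsLocalRing.maximalIdeal S :=
    ((IsLocalRing.local_hom_TFAE ψ).out 0 4 rfl rfl).mp hl
  have happ := fun N c => HenselLib.CompletionHapp.exists_sub_mem_map A S ψ hψ N c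
  have hmap : ∀ R : PrimeSpectrum Ah, PrimeSpectrum.comap ψ R = IsLocalRing.closedPoint S →
      R = IsLocalRing.closedPoint Ah := by
    intro R hR
    refine PrimeSpectrum.ext (le_antisymm (IsLocalRing.le_maximalIdeal R.2.ne_top) fun z hz => ?_)
    obtain ⟨b, hb⟩ := happ 1 z
    rw [pow_one] at hb
    have hmR : (IsLocalRing.maximalIdeal S).map ψ ≤ R.asIdeal :=
      Ideal.map_le_iff_le_comap.mpr (congr(($hR).asIdeal)).ge
    have hbm : b ∈ IsLocalRing.maximalIdeal S := by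
      rw [← hcm]
      show ψ b ∈ IsLocalRing.maximalIdeal Ah
      rw [show ψ b = z - (z - ψ b) by ring]
      exact sub_mem hz (IsLocalRing.map_maximalIdeal_le _ hb)
    simpa using add_mem (hmR hb) (hmR (Ideal.mem_map_of_mem ψ hbm))
  have himg : PrimeSpectrum.comap ψ '' {IsLocalRing.closedPoint Ah}ᶜ = {IsLocalRing.closedPoint S}ᶜ := by
    ext P
    refine ⟨?_, fun hP => ?_⟩
    · rintro ⟨R, hR, rfl⟩ h
      exact hR (hmap R h)
    · obtain ⟨R, hR⟩ := PrimeSpectrum.comap_surjective_of_faithfullyFlat (A := S) (B := Ah) P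
      refine ⟨R, fun h => hP ?_, hR⟩
      rw [← hR, Set.mem_singleton_iff.mp h]
      exact PrimeSpectrum.ext hcm
  refine ⟨fun h => himg ▸ h.image _ (PrimeSpectrum.continuous_comap ψ).continuousOn, fun hS => ?_⟩
  rw [isPreconnected_closed_iff] at hS ⊢
  intro t t' ht ht' hcov hne hne'
  obtain ⟨J₁, rfl⟩ := (PrimeSpectrum.isClosed_iff_zeroLocus_ideal t).mp ht
  obtain ⟨J₂, rfl⟩ := (PrimeSpectrum.isClosed_iff_zeroLocus_ideal t').mp ht'
  by_contra hdis
  rw [Set.not_nonempty_iff_eq_empty] at hdis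
  have hm : ∀ (J : Ideal Ah), ({IsLocalRing.closedPoint Ah}ᶜ ∩ PrimeSpectrum.zeroLocus (J : Set Ah)).Nonempty →
      J ≤ IsLocalRing.maximalIdeal Ah := fun J ⟨R, _, hR⟩ => le_trans hR (IsLocalRing.le_maximalIdeal R.2.ne_top)
  have hmul : J₁ * J₂ ≤ nilradical Ah := by
    rw [nilradical_eq_sInf]
    refine le_sInf fun R (hR : R.IsPrime) => ?_
    by_cases hRm : R = IsLocalRing.maximalIdeal Ah
    · exact Ideal.mul_le_left.trans ((hm J₁ hne).trans hRm.ge)
    · rcases hcov (show (⟨R, hR⟩ : PrimeSpectrum Ah) ∈ _ from fun h => hRm congr(($h).asIdeal)) with h | h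
      · exact Ideal.mul_le_left.trans h
      · exact Ideal.mul_le_right.trans h
  obtain ⟨k, hk⟩ := IsNoetherianRing.isNilpotent_nilradical Ah
  have hk0 : k ≠ 0 := fun h => by
    rw [h, pow_zero] at hk
    exact one_ne_zero hk
  have hmulk : J₁ ^ k * J₂ ^ k = ⊥ := by
    rw [← mul_pow, eq_bot_iff, ← Ideal.zero_eq_bot, ← hk]
    exact Ideal.pow_right_mono hmul k
  have hrad : IsLocalRing.maximalIdeal Ah ≤ (J₁ ^ k ⊔ J₂ ^ k).radical := by
    rw [Ideal.radical_eq_sInf]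
    refine le_sInf fun R hR => ?_
    by_contra hRm
    have h1 : J₁ ≤ R := (hR.2.pow_le_iff hk0).mp (le_sup_left.trans hR.1)
    have h2 : J₂ ≤ R := (hR.2.pow_le_iff hk0).mp (le_sup_right.trans hR.1)
    have h3 : (⟨R, hR.2⟩ : PrimeSpectrum Ah) ∈ (∅ : Set (PrimeSpectrum Ah)) := by
      rw [← hdis]
      exact ⟨fun h => hRm (congr(($h).asIdeal)).ge, h1, h2⟩
    exact h3
  let side : Ideal Ah → Ideal S → Prop := fun J P =>
    ∀ R : PrimeSpectrum Ah, R ≠ IsLocalRing.closedPoint Ah → P ≤ R.asIdeal.comap ψ → J ≤ R.asIdeal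
  have hside : ∀ P ∈ minimalPrimes S, side J₁ P ∨ side J₂ P := by
    intro P hP
    haveI := hP.1.1
    by_contra hcon
    simp only [side, not_or, not_forall] at hcon
    obtain ⟨⟨R₁, hR₁, hPR₁, hJ₁⟩, R₂, hR₂, hPR₂, hJ₂⟩ := hcon
    -- a point over `P`
    obtain ⟨R₀, hR₀⟩ := PrimeSpectrum.comap_surjective_of_faithfullyFlat (A := S) (B := Ah) ⟨P, inferInstance⟩
    have hR₀' : R₀.asIdeal.comap ψ = P := congr(($hR₀).asIdeal)
    have step : ∀ R : PrimeSpectrum Ah, R ≠ IsLocalRing.closedPoint Ah → P ≤ R.asIdeal.comap ψ →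
        (J₁ ≤ R.asIdeal ∧ J₁ ≤ R₀.asIdeal) ∨ (J₂ ≤ R.asIdeal ∧ J₂ ≤ R₀.asIdeal) := by
      intro R hR hPR
      have hne : R.asIdeal.comap ψ ≠ IsLocalRing.maximalIdeal S := fun h => hR (hmap R (PrimeSpectrum.ext h))
      obtain ⟨x, hxm, hxR⟩ := SetLike.exists_of_lt
        (lt_of_le_of_ne (IsLocalRing.le_maximalIdeal (Ideal.IsPrime.ne_top (R.2.comap ψ))) hne)
      obtain ⟨n, hn⟩ := HenselLib.PunctureConn.pow_mem_or happ P (J₁ ^ k) (J₂ ^ k) (hmulk ▸ bot_le) hrad x hxm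
        fun h => hxR (hPR h)
      have aux : ∀ J J' : Ideal Ah, ψ (x ^ n) ∈ J ^ k ⊔ P.map ψ → J ^ k * J' ^ k ≤ ⊥ → ∀ R' : PrimeSpectrum Ah,
          P ≤ R'.asIdeal.comap ψ → x ∉ R'.asIdeal.comap ψ → J' ≤ R'.asIdeal := by
        intro J J' h0 h00 R' hPR' hxR'
        rcases R'.2.mul_le.mp (h00.trans bot_le) with h | h
        · exfalso
          exact hxR' ((R'.2.comap ψ).mem_of_pow_mem n ((sup_le h (Ideal.map_le_iff_le_comap.mpr hPR') :
            J ^ k ⊔ P.map ψ ≤ R'.asIdeal) h0))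
        · exact (R'.2.pow_le_iff hk0).mp h
      have hx0 : x ∉ R₀.asIdeal.comap ψ := fun h => hxR (hPR (hR₀' ▸ h))
      rcases hn with hn | hn
      · exact Or.inr ⟨aux J₁ J₂ hn hmulk.le R hPR hxR, aux J₁ J₂ hn hmulk.le R₀ hR₀'.ge hx0⟩
      · exact Or.inl ⟨aux J₂ J₁ hn (by rw [mul_comm]; exact hmulk.le) R hPR hxR,
          aux J₂ J₁ hn (by rw [mul_comm]; exact hmulk.le) R₀ hR₀'.ge hx0⟩
    have h1 : J₂ ≤ R₀.asIdeal := ((step R₁ hR₁ hPR₁).resolve_left fun h => hJ₁ h.1).2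
    have h2 : J₁ ≤ R₀.asIdeal := ((step R₂ hR₂ hPR₂).resolve_right fun h => hJ₂ h.1).2
    have h3 : R₀ = IsLocalRing.closedPoint Ah := by
      by_contra h
      have h3 : R₀ ∈ (∅ : Set (PrimeSpectrum Ah)) := by rw [← hdis]; exact ⟨h, h2, h1⟩
      exact h3
    exact hR₁ (hmap R₁ (PrimeSpectrum.ext (le_antisymm (IsLocalRing.le_maximalIdeal (R₁.2.comap ψ).ne_top)
      (le_trans (le_of_eq (by rw [← hR₀', h3]; exact hcm.symm)) hPR₁))))
  let Z : Ideal Ah → Set (PrimeSpectrum S) := fun J =>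
    ⋃ P ∈ {P | P ∈ minimalPrimes S ∧ side J P}, PrimeSpectrum.zeroLocus (P : Set S)
  have hZ : ∀ J, IsClosed (Z J) := fun J =>
    ((minimalPrimes.finite_of_isNoetherianRing S).subset fun P hP => hP.1).isClosed_biUnion
      fun P _ => PrimeSpectrum.isClosed_zeroLocus _
  have hpt : ∀ R : PrimeSpectrum Ah, R ≠ IsLocalRing.closedPoint Ah →
      PrimeSpectrum.comap ψ R ∈ Z J₁ ∪ Z J₂ := by
    intro R hR
    obtain ⟨P, hP, hPR⟩ := Ideal.exists_minimalPrimes_le (J := R.asIdeal.comap ψ) (bot_le : (⊥ : Ideal S) ≤ _)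
    rcases hside P hP with h | h
    · exact Or.inl (Set.mem_biUnion (x := P) ⟨hP, h⟩ hPR)
    · exact Or.inr (Set.mem_biUnion (x := P) ⟨hP, h⟩ hPR)
  have hmem : ∀ J (R : PrimeSpectrum Ah), R ≠ IsLocalRing.closedPoint Ah → PrimeSpectrum.comap ψ R ∈ Z J →
      J ≤ R.asIdeal := by
    intro J R hR h
    simp only [Z, Set.mem_iUnion] at h
    obtain ⟨P, ⟨-, hP⟩, hPR⟩ := h
    exact hP R hR hPR
  have hZne : ∀ J J' : Ideal Ah, (∀ R : PrimeSpectrum Ah, R ≠ IsLocalRing.closedPoint Ah →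
      PrimeSpectrum.comap ψ R ∈ Z J ∪ Z J') → (∀ R : PrimeSpectrum Ah, R ≠ IsLocalRing.closedPoint Ah →
      ¬ (J ≤ R.asIdeal ∧ J' ≤ R.asIdeal)) →
      ({IsLocalRing.closedPoint Ah}ᶜ ∩ PrimeSpectrum.zeroLocus (J : Set Ah)).Nonempty →
      ({IsLocalRing.closedPoint S}ᶜ ∩ Z J).Nonempty := by
    rintro J J' hc hd ⟨R, hR, hRJ⟩
    refine ⟨PrimeSpectrum.comap ψ R, fun h => hR (hmap R h), (hc R hR).resolve_right fun h => ?_⟩
    exact hd R hR ⟨hRJ, hmem J' R hR h⟩
  have hd : ∀ R : PrimeSpectrum Ah, R ≠ IsLocalRing.closedPoint Ah → ¬ (J₁ ≤ R.asIdeal ∧ J₂ ≤ R.asIdeal) := by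
    intro R hR h
    have h3 : R ∈ (∅ : Set (PrimeSpectrum Ah)) := by rw [← hdis]; exact ⟨hR, h⟩
    exact h3
  have hcovS : {IsLocalRing.closedPoint S}ᶜ ⊆ Z J₁ ∪ Z J₂ := by
    rw [← himg]
    rintro _ ⟨R, hR, rfl⟩
    exact hpt R hR
  obtain ⟨P, hP, hP1, hP2⟩ := hS _ _ (hZ J₁) (hZ J₂) hcovS (hZne J₁ J₂ hpt hd hne)
    (hZne J₂ J₁ (fun R hR => (hpt R hR).symm) (fun R hR h => hd R hR h.symm) hne')
  rw [← himg] at hP
  obtain ⟨R, hR, rfl⟩ := hP
  exact hd R hR ⟨hmem J₁ R hR hP1, hmem J₂ R hR hP2⟩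

end Groth.Agent.S9279
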