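import Groth.Statements.S9282
import Groth.Agent.CAlgH.AdicSmoothCotangent


set_option autoImplicit false
universe u
open CAlg

namespace Groth.Agent.S9282

/-- Let A → B be a local ring map between Noetherian local rings that is formally smooth for the adic
topology of the maximal ideal of B, and write K for the residue field of B. In the Jacobi–Zariski
sequence attached to A → B → K, the map from H_1(NL_{K/A}) to H_1(NL_{K/B}), which is m_B/m_B^2, is
injective; the remaining terms are exact in general, so that sequence starts with a zero. -/
theorem result (A B : Type u) [CommRing A]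
    [CommRing B] [IsLocalRing A] [IsLocalRing B] [IsNoetherianRing A] [IsNoetherianRing B]
    [Algebra A B] [IsLocalHom (algebraMap A B)]
    (hfs : CAlgX.IsAdicFormallySmooth A B (IsLocalRing.maximalIdeal B)) :
    Function.Injective
      (Algebra.H1Cotangent.map A B (IsLocalRing.ResidueField B) (IsLocalRing.ResidueField B)) := by
  rw [injective_iff_map_eq_zero]
  intro x hx
  apply Subtype.ext
  obtain ⟨⟨f, hf⟩, hfx⟩ := Algebra.Extension.Cotangent.mk_surjective x.1
  have h1 : Algebra.Extension.Cotangent.map (Algebra.Generators.defaultHom (Algebra.Generators.self A (IsLocalRing.ResidueField B))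
      (Algebra.Generators.self B (IsLocalRing.ResidueField B))).toExtensionHom x.1 = 0 := congrArg Subtype.val hx
  rw [← hfx, Algebra.Extension.Cotangent.map_mk] at h1
  have h2 := congrArg Algebra.Extension.Cotangent.val h1
  simp only [Algebra.Extension.Cotangent.val_mk, Algebra.Extension.Cotangent.val_zero, Ideal.toCotangent_eq_zero] at h2
  have h3 : (Algebra.Generators.defaultHom (Algebra.Generators.self A (IsLocalRing.ResidueField B))
      (Algebra.Generators.self B (IsLocalRing.ResidueField B))).toAlgHom.toRingHom = MvPolynomial.map (algebraMap A B) := by
    apply MvPolynomial.ringHom_ext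
    · intro a
      rw [MvPolynomial.map_C]
      exact MvPolynomial.aeval_C _ a
    · intro a
      rw [MvPolynomial.map_X]
      exact MvPolynomial.aeval_X _ a
  rw [← hfx]
  apply Algebra.Extension.Cotangent.ext
  refine (Algebra.Extension.Cotangent.val_mk _).trans (((Ideal.toCotangent_eq_zero _ _).mpr ?_).trans Algebra.Extension.Cotangent.val_zero.symm)
  refine CAlgH.AdicSmooth.mem_sq_of_map_mem_sq (A := A) (B := B) (K := IsLocalRing.ResidueField B) _
    (fun b hb => (IsLocalRing.residue_eq_zero_iff b).mpr hb) hfs f ?_
  rw [← h3]
  exact h2

end Groth.Agent.S9282
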