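import Groth.Statements.S9283
import Mathlib.RingTheory.Finiteness.Ideal
import Mathlib.Tactic.LinearCombination

set_option autoImplicit false
universe u
open CAlg

namespace Groth.Agent.S9283

/-- Let R be an auto-associated ring, that is, a local ring whose maximal ideal is weakly associated to
R: some nonzero x ∈ R is killed by a power of every element of the maximal ideal. Then every proper
finitely generated ideal of R has a nonzero annihilator. -/
theorem result (R : Type u) [CommRing R] [IsLocalRing R]
    (h : ∃ x : R, x ≠ 0 ∧ ∀ f ∈ IsLocalRing.maximalIdeal R, ∃ n : ℕ, f ^ n * x = 0)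
    (I : Ideal R) (hI : I.FG) (hI' : I ≠ ⊤) : I.annihilator ≠ ⊥ := by
  classical
  obtain ⟨x, hx, hf⟩ := h
  let K : Ideal R := (Submodule.span R {x}).annihilator
  have hmemK : ∀ r, r ∈ K ↔ r * x = 0 := fun r => by simp [K, Submodule.mem_annihilator_span_singleton]
  obtain ⟨N, hN⟩ := Ideal.exists_pow_le_of_le_radical_of_fg (I := I) (J := K) (fun f hf' => by
    obtain ⟨n, hn⟩ := hf f (IsLocalRing.le_maximalIdeal hI' hf')
    exact ⟨n, (hmemK _).mpr hn⟩) hI
  have hex : ∃ m, I ^ m ≤ K := ⟨N, hN⟩
  obtain ⟨m, hm⟩ := Nat.exists_eq_add_of_lt (Nat.pos_of_ne_zero (n := Nat.find hex) (by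
    intro h0
    have := Nat.find_spec hex
    rw [h0, pow_zero, Ideal.one_eq_top] at this
    exact hx (by simpa [hmemK] using this (x := (1:R)) trivial)))
  rw [Nat.zero_add] at hm
  obtain ⟨r, hr, hrK⟩ := SetLike.not_le_iff_exists.mp (Nat.find_min hex (m := m) (by omega))
  intro hann
  apply hrK
  rw [hmemK, ← Ideal.mem_bot, ← hann, Submodule.mem_annihilator]
  intro i hi
  have : r * i ∈ K := by
    have := Nat.find_spec hex
    rw [hm, pow_succ] at this
    exact this (Ideal.mul_mem_mul hr hi)
  rw [hmemK] at this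
  rw [smul_eq_mul]; linear_combination this

end Groth.Agent.S9283
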