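import Groth.Statements.S9284
import Groth.Agent.PropP.UnivInj

set_option autoImplicit false
universe u
open CAlgX

namespace Groth.Agent.S9284

/-- Let R be a ring such that every proper finitely generated ideal of R has a nonzero annihilator, and
let u : N → M be an R-linear map between projective R-modules. Then u stays injective after
tensoring with every R-module exactly when u is injective. -/
theorem result (R : Type u) [CommRing R]
    (hP : (∀ I : Ideal R, I.FG → I ≠ ⊤ → I.annihilator ≠ ⊥))
    (N M : Type u) [AddCommGroup N] [Module R N] [Module.Projective R N] [AddCommGroup M]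
    [Module R M] [Module.Projective R M] (u : N →ₗ[R] M) :
    CAlgX.UniversallyInjective R u ↔ Function.Injective u := by
  refine ⟨fun h => ?_, fun h Q _ _ => PropP.injective_rTensor hP u h Q⟩
  have h1 := h R
  have h2 : (TensorProduct.rid R M).toLinearMap ∘ₗ u.rTensor R = u ∘ₗ (TensorProduct.rid R N).toLinearMap :=
    TensorProduct.ext' fun n r => by simp
  intro a b hab
  apply (TensorProduct.rid R N).symm.injective
  apply h1
  apply (TensorProduct.rid R M).injective
  have ha := LinearMap.congr_fun h2 ((TensorProduct.rid R N).symm a)
  have hb := LinearMap.congr_fun h2 ((TensorProduct.rid R N).symm b)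
  simp only [LinearMap.comp_apply, LinearEquiv.coe_coe, LinearEquiv.apply_symm_apply] at ha hb
  rw [ha, hb, hab]
end Groth.Agent.S9284
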