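import Groth.Statements.S9286
import Groth.Agent.CAlgH.PropertyP
import Mathlib.RingTheory.Finiteness.Prod

set_option autoImplicit false
universe u
open CAlg

namespace Groth.Agent.S9286

/-- Let R be a ring in which every proper finitely generated ideal has a nonzero annihilator. Given an
injective R-linear map u : N → M, where both N and M are finite and projective over R, the quotient
Coker(u) = M/u(N) is again projective as an R-module. -/
theorem result (R : Type u) [CommRing R]
    (hP : (∀ I : Ideal R, I.FG → I ≠ ⊤ → I.annihilator ≠ ⊥))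
    (N M : Type u) [AddCommGroup N] [Module R N] [Module.Finite R N] [Module.Projective R N]
    [AddCommGroup M] [Module R M] [Module.Finite R M] [Module.Projective R M]
    (u : N →ₗ[R] M) (hu : Function.Injective u) :
    Module.Projective R (M ⧸ LinearMap.range u) := by
  obtain ⟨n, f, g, hf, hg, hfg⟩ := Module.Finite.exists_comp_eq_id_of_projective R N
  let u' : (Fin n → R) →ₗ[R] M × LinearMap.ker f :=
    (u ∘ₗ f).prod ((LinearMap.id - g ∘ₗ f).codRestrict _ (fun x => by
      simp [← LinearMap.comp_apply f g, hfg]))
  have hu' : Function.Injective u' := by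
    intro x y hxy
    have h1 : u (f x) = u (f y) := congrArg Prod.fst hxy
    have h2 : x - g (f x) = y - g (f y) := congrArg (fun p : M × LinearMap.ker f => (p.2 : Fin n → R)) hxy
    simpa [hu h1] using h2
  have hK : Module.Projective R (LinearMap.ker f) :=
    Module.Projective.of_split (LinearMap.ker f).subtype
      ((LinearMap.id - g ∘ₗ f).codRestrict _ (fun x => by simp [← LinearMap.comp_apply f g, hfg]))
      (by ext x; simp)
  have hKf : Module.Finite R (LinearMap.ker f) := by
    refine Module.Finite.of_surjective ((LinearMap.id - g ∘ₗ f).codRestrict (LinearMap.ker f)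
      (fun x => by simp [← LinearMap.comp_apply f g, hfg])) (fun x => ⟨x.1, ?_⟩)
    apply Subtype.ext
    simp
  have := Groth.Agent.CAlgH.coker_projective_of_free hP n (M × LinearMap.ker f) u' hu'
  have hmem : ∀ k : LinearMap.ker f, u' k = (0, k) := fun k => by
    ext <;> simp [u']
  refine Module.Projective.of_split
    ((LinearMap.range u).mapQ (LinearMap.range u') (LinearMap.inl R M _) ?_)
    ((LinearMap.range u').liftQ ((LinearMap.range u).mkQ ∘ₗ LinearMap.fst R M _) ?_) ?_
  · rintro _ ⟨x, rfl⟩
    obtain ⟨y, rfl⟩ := hf x
    refine ⟨g (f y), ?_⟩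
    have e : f (g (f y)) = f y := by rw [← LinearMap.comp_apply f g, hfg]; rfl
    ext <;> simp [u', e]
  · rintro _ ⟨x, rfl⟩
    simp [u']
  · ext; simp

end Groth.Agent.S9286
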