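import Groth.Statements.S9297
import Groth.Agent.CommAlg6.FlatEquidim

set_option autoImplicit false
universe u
open EGA4

namespace Groth.Agent.S9297

open IsLocalRing LocCoh Groth.Agent.CommAlg6


/-- Let A → B be a flat local homomorphism of Noetherian local rings with B catenary and Spec(B)
equidimensional. Then Spec(B/pB) is equidimensional for every prime p of A. -/
theorem result (A B : Type u) [CommRing A] [CommRing B]
    [IsNoetherianRing A] [IsNoetherianRing B] [IsLocalRing A] [IsLocalRing B] [Algebra A B]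
    [IsLocalHom (algebraMap A B)] [Module.Flat A B] (hcat : CAlg.IsCatenary B) (heq : EGA4.IsEquidim B)
    (p : Ideal A) [p.IsPrime] : EGA4.IsEquidim (B ⧸ Ideal.map (algebraMap A B) p) := by
  let J := p.map (algebraMap A B)
  have hJ : J ≤ maximalIdeal B := (Ideal.map_mono
    (le_maximalIdeal (Ideal.IsPrime.ne_top inferInstance))).trans map_maximalIdeal_le
  haveI : Nontrivial (B ⧸ J) := Ideal.Quotient.nontrivial_iff.2 fun h =>
    (maximalIdeal.isMaximal B).ne_top (top_le_iff.1 (h ▸ hJ))
  haveI : IsLocalRing (B ⧸ J) := .of_surjective' _ Ideal.Quotient.mk_surjective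
  have key' : ∀ P ∈ minimalPrimes (B ⧸ J),
      (p.height : WithBot ℕ∞) + ringKrullDim ((B ⧸ J) ⧸ P) = ringKrullDim B := by
    intro P hP
    haveI := hP.1.1
    let Q := P.comap (Ideal.Quotient.mk J)
    have hQJ : J ≤ Q := fun x hx => by
      rw [Ideal.mem_comap, Ideal.Quotient.eq_zero_iff_mem.2 hx]; exact P.zero_mem
    have hPQ : Q.map (Ideal.Quotient.mk J) = P :=
      Ideal.map_comap_of_surjective _ Ideal.Quotient.mk_surjective P
    have hQ : Q ∈ J.minimalPrimes := by
      refine ⟨⟨inferInstance, hQJ⟩, fun R hR hle => ?_⟩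
      haveI := hR.1
      haveI := isPrime_map_mk hR.2
      have := hP.2 ⟨inferInstance, bot_le⟩ ((Ideal.map_mono hle).trans hPQ.le)
      exact (Ideal.comap_mono this).trans (comap_map_mk hR.2).le
    haveI : Q.LiesOver p := by
      constructor
      refine le_antisymm (Ideal.map_le_iff_le_comap.1 hQJ) ?_
      by_contra hne
      have hlt : p < Q.under A := lt_of_le_not_ge (Ideal.map_le_iff_le_comap.1 hQJ) hne
      obtain ⟨Q', hQ', hQ'p, hQ'o⟩ := Ideal.exists_ideal_lt_liesOver_of_lt Q hlt
      exact hQ'.not_ge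
        (hQ.2 ⟨hQ'p, Ideal.map_le_iff_le_comap.2 hQ'o.over.le⟩ hQ'.le)
    rw [← hPQ, ringKrullDim_eq_of_ringEquiv (DoubleQuot.quotQuotEquivQuotOfLE hQJ),
      ← height_add_ringKrullDim_quotient_of_equidim hcat heq Q,
      show Q.height = p.height by
        rw [Ideal.height_eq_height_add_of_liesOver_of_hasGoingDown p Q,
          height_map_mk_eq_zero hQ, add_zero]]
  intro P hP
  refine le_antisymm (ringKrullDim_quotient_le P) ?_
  haveI := hP.1.1
  obtain ⟨P', hP', -, hP'e⟩ := exists_minimalPrimes_hq_eq_height (maximalIdeal (B ⧸ J))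
  haveI := hP'.1.1
  rw [← maximalIdeal_height_eq_ringKrullDim, ← hP'e, hq_eq_ringKrullDim_quotient]
  have e := (key' P' hP').trans (key' P hP).symm
  rw [← hq_eq_ringKrullDim_quotient, ← hq_eq_ringKrullDim_quotient, ← WithBot.coe_add,
    ← WithBot.coe_add, WithBot.coe_inj] at e
  rw [← hq_eq_ringKrullDim_quotient, ← hq_eq_ringKrullDim_quotient, WithBot.coe_le_coe]
  exact ((ENat.add_le_add_iff_left (Ideal.height_ne_top (Ideal.IsPrime.ne_top inferInstance))).1
    e.le)

end Groth.Agent.S9297
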