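import Groth.Statements.S9299
import Groth.Agent.CAlgH.GRingRegular


set_option autoImplicit false
universe u
open CAlg

namespace Groth.Agent.S9299

/-- Let k be a field of characteristic p, A = k[[x_1, ..., x_n]][y_1, ..., y_m] with fraction field K,
and P a prime of A. Then A_P^ ⊗_A K, the generic formal fibre of the local ring A_P, is
geometrically regular over K. (The ring A is a domain; this is recorded as an instance hypothesis.) -/
theorem result (p : ℕ) [Fact p.Prime]
    (k : Type u) [Field k] [CharP k p] (n m : ℕ)
    [IsDomain (MvPolynomial (Fin m) (MvPowerSeries (Fin n) k))]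
    (P : Ideal (MvPolynomial (Fin m) (MvPowerSeries (Fin n) k))) [P.IsPrime] :
    CAlg.IsGeometricallyRegular (@Ideal.ResidueField (Localization.AtPrime P) _ ⊥ _)
      (EGA4.formalFibre (Localization.AtPrime P) (⊥ : Ideal (Localization.AtPrime P))) := by
  haveI : IsRegularLocalRing (MvPowerSeries (Fin n) k) := (Groth.Agent.CAlgH.isRegularLocalRing_mvPowerSeries k n).1
  haveI : IsRegularRing (MvPowerSeries (Fin n) k) := Groth.Agent.CAlgH3.isRegularRing_of_isRegularLocalRing
  haveI : CharP (MvPowerSeries (Fin n) k) p :=
    charP_of_injective_ringHom (f := MvPowerSeries.C (σ := Fin n) (R := k)) MvPowerSeries.C_injective p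
  haveI : CharP (MvPolynomial (Fin m) (MvPowerSeries (Fin n) k)) p :=
    charP_of_injective_ringHom (f := MvPolynomial.C.comp (MvPowerSeries.C (σ := Fin n) (R := k)))
      ((MvPolynomial.C_injective (Fin m) (MvPowerSeries (Fin n) k)).comp MvPowerSeries.C_injective) p
  exact Groth.Agent.CAlgH.formalFibre_bot_regular _ (Or.inr ⟨p, Fact.out, inferInstance,
    Groth.Agent.CAlgH.goodFamily_mvPolynomial p (Groth.Agent.CAlgH.goodFamily_mvPowerSeries p (σ := Fin n) (Groth.Agent.CAlgH.goodFamily_field p k))⟩) P

end Groth.Agent.S9299
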