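import Groth.Statements.S9300
import Groth.Agent.CAlgH.GenericPoint

set_option autoImplicit false
universe u
open CAlg

namespace Groth.Agent.S9300

/-- Let A and B be domains and A → B a ring map for which the generic point of Spec(A) has a unique
preimage in Spec(B). Then every nonzero ideal of B has nonzero preimage in A. -/
theorem result (A B : Type u) [CommRing A] [IsDomain A]
    [CommRing B] [IsDomain B] (φ : A →+* B)
    (h : ∃! q : PrimeSpectrum B, Ideal.comap φ q.asIdeal = ⊥) (J : Ideal B) (hJ : J ≠ ⊥) :
    Ideal.comap φ J ≠ ⊥ := by
  exact Groth.Agent.CAlgH.comap_ne_bot_of_unique_over_generic A B φ h J hJ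

end Groth.Agent.S9300
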