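import Groth.Statements.S9301
import Groth.Agent.CAlgH.GenericPoint
import Mathlib.RingTheory.QuasiFinite.Basic
import Mathlib.RingTheory.Flat.TorsionFree

set_option autoImplicit false
universe u
open CAlg

namespace Groth.Agent.S9301

/-- Let A and B be domains and A → B a flat ring map which is the localization of a quasi-finite ring
map A → B₀ (of finite type with finite fibres). Then every nonzero ideal of B has nonzero preimage
in A. -/
theorem result (A B₀ B : Type u) [CommRing A] [IsDomain A]
    [CommRing B₀] [CommRing B] [IsDomain B] [Algebra A B₀] [Algebra.FiniteType A B₀]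
    [Algebra.QuasiFinite A B₀] (S : Submonoid B₀) [Algebra B₀ B] [IsLocalization S B] [Algebra A B]
    [IsScalarTower A B₀ B] [Module.Flat A B] (J : Ideal B) (hJ : J ≠ ⊥) :
    Ideal.comap (algebraMap A B) J ≠ ⊥ := by
  refine Groth.Agent.CAlgH.comap_ne_bot_of_unique_over_generic A B (algebraMap A B) ⟨⟨⊥, Ideal.isPrime_bot⟩, ?_, ?_⟩ J hJ
  · refine (RingHom.injective_iff_ker_eq_bot _).mp ?_
    intro a b hab
    by_contra hne
    have h1 : IsSMulRegular B (a - b) :=
      Module.Flat.isSMulRegular_of_nonZeroDivisors (mem_nonZeroDivisors_of_ne_zero (sub_ne_zero.mpr hne))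
    have h2 : (a - b) • (1 : B) = (a - b) • (0:B) := by
      rw [Algebra.smul_def, map_sub, hab]; simp
    exact one_ne_zero (h1 h2)
  · intro q hq
    have : Algebra.QuasiFinite A B := by
      have : Algebra.QuasiFinite B₀ B := .of_isLocalization S
      exact .trans A B₀ B
    refine PrimeSpectrum.ext (Algebra.QuasiFinite.eq_of_le_of_under_eq (R := A) _ _ bot_le ?_).symm
    show Ideal.comap _ ⊥ = Ideal.comap _ q.asIdeal
    rw [hq]
    exact le_antisymm (hq ▸ Ideal.comap_mono bot_le) bot_le

end Groth.Agent.S9301
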