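import Groth.Statements.S9302
import Groth.Agent.HenselLib.Pair
import Mathlib.Algebra.Category.Ring.Limits
import Mathlib.CategoryTheory.Limits.Types.Limits
import Mathlib.CategoryTheory.Limits.Preserves.Basic

set_option autoImplicit false
universe u
open CategoryTheory
open EtAlg

namespace Groth.Agent.S9302

/-- Henselian pairs are preserved under limits: for an inverse system (A_j, I_j) of henselian pairs over
a preordered set J, the limit A = lim A_j with the ideal I = lim I_j (elements all of whose
projections lie in the I_j) is a henselian pair. -/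
theorem result (J : Type u) [Preorder J] (F : J ⥤ CommRingCat.{u})
    (I : ∀ j : J, Ideal (F.obj j))
    (hI : ∀ (i j : J) (φ : i ⟶ j), Ideal.map (F.map φ).hom (I i) ≤ I j)
    (h : ∀ j : J, HenselianRing (F.obj j) (I j)) :
    HenselianRing ((Limits.limit F : CommRingCat.{u}) : Type u)
      (⨅ j : J, Ideal.comap (Limits.limit.π F j).hom (I j)) := by
  classical
  let π := fun j => (Limits.limit.π F j).hom
  set II := ⨅ j : J, Ideal.comap (Limits.limit.π F j).hom (I j) with hII
  have hmem : ∀ x, x ∈ II ↔ ∀ j, π j x ∈ I j := fun x => by simp [hII, π, Submodule.mem_iInf]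
  have hext : ∀ x y : ((Limits.limit F : CommRingCat.{u}) : Type u), (∀ j, π j x = π j y) → x = y :=
    fun x y hxy => Limits.Concrete.limit_ext F x y hxy
  have hcompat : ∀ (i j : J) (φ : i ⟶ j) x, (F.map φ).hom (π i x) = π j x := fun i j φ x =>
    congr($(Limits.limit.w F φ).hom x)
  have hmk : ∀ v : ∀ j, F.obj j, (∀ (i j : J) (φ : i ⟶ j), (F.map φ).hom (v i) = v j) →
      ∃ x, ∀ j, π j x = v j := fun v hv => by
    let e := preservesLimitIso (forget CommRingCat.{u}) F
    let s := (Limits.Types.limitEquivSections (F ⋙ forget CommRingCat.{u})).symm ⟨v, fun {i j} φ => hv i j φ⟩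
    refine ⟨e.inv s, fun j => ?_⟩
    have h1 := congr($(preservesLimitIso_inv_π (forget CommRingCat.{u}) F j) s)
    exact h1.trans (Limits.Types.limitEquivSections_symm_apply _ _ j)
  refine ⟨fun x hx => Ideal.mem_jacobson_bot.mpr fun y => ?_, fun f _ a₀ h0 h1 => ?_⟩
  · have hu : ∀ j, IsUnit (π j (x * y + 1)) := fun j => by
      rw [map_add, map_mul, map_one]; exact Ideal.mem_jacobson_bot.mp ((h j).jac ((hmem x).mp hx j)) _
    choose v hv using fun j => (hu j).exists_left_inv
    obtain ⟨z, hz⟩ := hmk v fun i j φ => by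
      refine (hu j).mul_left_injective ?_
      show (F.map φ).hom (v i) * π j _ = v j * π j _
      rw [hv j, ← hcompat i j φ, ← map_mul, hv i, map_one]
    exact IsUnit.of_mul_eq_one z (hext _ _ fun j => by rw [map_mul, map_one, hz, mul_comm, hv])
  · obtain ⟨u, hu⟩ := h1.exists_left_inv
    obtain ⟨u, rfl⟩ := Ideal.Quotient.mk_surjective u
    rw [← map_mul, ← map_one (Ideal.Quotient.mk II), Ideal.Quotient.eq, hmem] at hu
    have hev : ∀ j (P : Polynomial ((Limits.limit F : CommRingCat.{u}) : Type u)) z,
        (P.map (π j)).eval (π j z) = π j (P.eval z) := fun j P z => by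
      rw [Polynomial.eval_map, Polynomial.eval₂_at_apply]
    have hunit : ∀ j, IsUnit (Ideal.Quotient.mk (I j) ((f.map (π j)).derivative.eval (π j a₀))) := fun j => by
      refine IsUnit.of_mul_eq_one (Ideal.Quotient.mk (I j) (π j u)) ?_
      rw [← map_mul, ← map_one (Ideal.Quotient.mk (I j)), Ideal.Quotient.eq, Polynomial.derivative_map, hev,
        mul_comm, ← map_mul, ← map_one (π j), ← map_sub]
      exact hu j
    have hroot : ∀ j, ∃ a, (f.map (π j)).IsRoot a ∧ a - π j a₀ ∈ I j := fun j => by
      have := h j
      exact Groth.Agent.HenselLib.exists_root (I j) _ _ (by rw [hev]; exact (hmem _).mp h0 j) (hunit j)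
    choose r hr hr' using hroot
    obtain ⟨a, ha⟩ := hmk r fun i j φ => by
      have := h j
      have hmap : (f.map (π i)).map (F.map φ).hom = f.map (π j) := by
        rw [Polynomial.map_map]; exact congrArg (f.map ·) (RingHom.ext (hcompat i j φ))
      have hroot' : (f.map (π j)).IsRoot ((F.map φ).hom (r i)) := by
        rw [← hmap]; exact (hr i).map
      have hd : (F.map φ).hom (r i) - π j a₀ ∈ I j := by
        rw [← hcompat i j φ, ← map_sub]; exact hI i j φ (Ideal.mem_map_of_mem _ (hr' i))
      refine (Groth.Agent.HenselLib.root_unique this.jac _ (hr j) hroot' ?_ ?_).symm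
      · simpa using sub_mem hd (hr' j)
      · convert hunit j using 1
        exact Ideal.Quotient.eq.mpr (Groth.Agent.HenselLib.eval_sub_eval_mem _ (hr' j))
    refine ⟨a, hext _ _ fun j => by rw [← hev, ha, (hr j).eq_zero, map_zero], (hmem _).mpr fun j => ?_⟩
    rw [map_sub, ha]
    exact hr' j

end Groth.Agent.S9302
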