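import Groth.Statements.S9308
import Groth.Agent.CAlgH.RegularColimit
import Groth.Agent.CAlgH.RegularSmooth


set_option autoImplicit false
universe u
open CAlg

namespace Groth.Agent.S9308

/-- Let R be a ring and (A_i, φ_ii') a directed system of smooth R-algebras with colimit Λ (the index
type is taken in the universe of the rings). Suppose that for every prime p of R the ring Λ ⊗_R κ(p)
is Noetherian. Then R → Λ is a regular ring map. -/
theorem result (R : Type u) [CommRing R] {ι : Type u} [Preorder ι]
    [IsDirectedOrder ι] [Nonempty ι] (G : ι → Type u) [∀ i, CommRing (G i)] [∀ i, Algebra R (G i)]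
    (f : ∀ i j : ι, i ≤ j → (G i →ₐ[R] G j)) [DirectedSystem G (fun i j h => f i j h)]
    (hs : ∀ i, Algebra.Smooth R (G i))
    (hN : ∀ (p : Ideal R) [p.IsPrime], IsNoetherianRing (p.Fiber (DirectLimit G f))) :
    CAlg.IsRegularHom R (DirectLimit G f) := by
  let g : ∀ i, G i →ₐ[R] DirectLimit G f := fun i => DirectLimit.Algebra.of G f i
  have hc : CAlgH.ColimSys g := CAlgH.ColimSys.of_directed f g
    (fun i j h => AlgHom.ext fun x => DirectLimit.Algebra.of_f h x)
    (by intro a; induction a using DirectLimit.induction with | _ i x => exact ⟨i, x, rfl⟩)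
    (fun i x hx => by
      have h0 : (Quotient.mk _ ⟨i, x⟩ : DirectLimit G f) = Quotient.mk _ ⟨i, 0⟩ := hx.trans (map_zero (g i)).symm
      obtain ⟨k, h1, h2, h3⟩ := Quotient.exact h0
      exact ⟨k, h1, h3.trans (map_zero _)⟩)
  refine ⟨hc.flat fun i => inferInstance, fun p _ => ⟨hN p, fun k' _ _ hk' => ?_⟩⟩
  letI : Algebra R k' := ((algebraMap p.ResidueField k').comp (algebraMap R p.ResidueField)).toAlgebra
  haveI : IsScalarTower R p.ResidueField k' := IsScalarTower.of_algebraMap_eq fun _ => rfl
  haveI : IsNoetherianRing (TensorProduct R p.ResidueField (DirectLimit G f)) := hN p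
  haveI : IsNoetherianRing (TensorProduct p.ResidueField (TensorProduct R p.ResidueField (DirectLimit G f)) k') :=
    haveI := hk'
    @Algebra.FiniteType.isNoetherianRing (TensorProduct R p.ResidueField (DirectLimit G f))
      (TensorProduct p.ResidueField (TensorProduct R p.ResidueField (DirectLimit G f)) k') _ Algebra.TensorProduct.instCommRing _ _ _
  haveI : IsNoetherianRing (TensorProduct p.ResidueField k' (TensorProduct R p.ResidueField (DirectLimit G f))) :=
    isNoetherianRing_of_ringEquiv _
      (Algebra.TensorProduct.comm p.ResidueField (TensorProduct R p.ResidueField (DirectLimit G f)) k').toRingEquiv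
  haveI : IsNoetherianRing (TensorProduct R k' (DirectLimit G f)) :=
    isNoetherianRing_of_ringEquiv _ (Algebra.TensorProduct.cancelBaseChange R p.ResidueField k' k' (DirectLimit G f)).toRingEquiv
  haveI : IsRegularRing (TensorProduct R k' (DirectLimit G f)) := (hc.baseChange k').isRegularRing fun i => by
    haveI := hs i
    exact CAlgH.isRegularRing_of_smooth k' (TensorProduct R k' (G i))
  exact IsRegularRing.of_ringEquiv
    (Algebra.TensorProduct.cancelBaseChange R p.ResidueField k' k' (DirectLimit G f)).toRingEquiv.symm

end Groth.Agent.S9308
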