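import Groth.Statements.S9310
import Groth.Agent.CAlgH.SubstBijective
import Groth.Agent.CAlgH.CompleteLocal


set_option autoImplicit false
universe u
open CAlg

namespace Groth.Agent.S9310

/-- Let K be a field, A = K[[x_1, ..., x_n]], and y_1, ..., y_n ∈ A a regular system of parameters (n
elements generating the maximal ideal). Then the substitution map K[[y_1, ..., y_n]] → A is an
isomorphism: f ↦ f(y_1, ..., y_n) is a bijection of K[[x_1, ..., x_n]] onto itself. -/
theorem result (K : Type u) [Field K] (n : ℕ)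
    (y : Fin n → MvPowerSeries (Fin n) K)
    (hy : Ideal.span (Set.range y) = IsLocalRing.maximalIdeal (MvPowerSeries (Fin n) K)) :
    Function.Bijective (MvPowerSeries.subst y : MvPowerSeries (Fin n) K → MvPowerSeries (Fin n) K) := by
  haveI := (CAlgH.isRegularLocalRing_mvPowerSeries K n).1
  haveI : IsAdicComplete (IsLocalRing.maximalIdeal K) K :=
    CAlgH.AdicSmooth.isAdicComplete_of_pow_eq_bot (m := 1) (by rw [pow_one]; exact IsLocalRing.maximalIdeal_eq_bot)
  haveI := CAlgH.isAdicComplete_maximalIdeal_mvPowerSeries (R := K) (n := n)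
  refine CAlgH.subst_bijective_aux ∅ y (fun i => ?_) ?_ ?_
  · have h : y i ∈ IsLocalRing.maximalIdeal _ := hy ▸ Ideal.subset_span ⟨i, rfl⟩
    by_contra h0
    exact (IsLocalRing.mem_maximalIdeal _).mp h (MvPowerSeries.isUnit_iff_constantCoeff.mpr (isUnit_iff_ne_zero.mpr h0))
  · rw [Set.image_empty, Set.empty_union, ← CAlgH.AdicSmooth.ker_constantCoeff]
    ext f
    rw [RingHom.mem_ker, IsLocalRing.mem_maximalIdeal, mem_nonunits_iff, MvPowerSeries.isUnit_iff_constantCoeff,
      isUnit_iff_ne_zero, not_not]
  · rw [Set.image_empty, Set.empty_union, hy]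

end Groth.Agent.S9310
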