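import Groth.Statements.S9311
import Groth.Agent.CAlgH.SubstBijective
import Groth.Agent.CAlgH.CompleteLocal


set_option autoImplicit false
universe u
open CAlg

namespace Groth.Agent.S9311

/-- Let Λ be a Cohen ring (a complete discrete valuation ring whose maximal ideal is generated by a
prime number p), B = Λ[[x_1, ..., x_n]], and y_1, ..., y_n ∈ B with zero constant terms such that p,
y_1, ..., y_n is a regular system of parameters of B (these n + 1 elements generate the maximal
ideal). Then the substitution map Λ[[y_1, ..., y_n]] → B is an isomorphism: f ↦ f(y_1, ..., y_n) is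
a bijection of Λ[[x_1, ..., x_n]] onto itself. (The published statement allows the y_i to have
constant terms in pΛ, the substitution being defined through the (p, x)-adic topology of B; this row
asks the constant terms to vanish, the case in which substitution is defined coefficientwise with no
topology on Λ.) -/
theorem result (Λ : Type u) [CommRing Λ] [IsDomain Λ]
    [IsDiscreteValuationRing Λ] [IsAdicComplete (IsLocalRing.maximalIdeal Λ) Λ] (p : ℕ) (hp : p.Prime)
    (hm : IsLocalRing.maximalIdeal Λ = Ideal.span {(p : Λ)}) (n : ℕ)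
    (y : Fin n → MvPowerSeries (Fin n) Λ) (hy0 : ∀ i, MvPowerSeries.constantCoeff (y i) = 0)
    (hy : Ideal.span (insert (p : MvPowerSeries (Fin n) Λ) (Set.range y)) =
      IsLocalRing.maximalIdeal (MvPowerSeries (Fin n) Λ)) :
    Function.Bijective (MvPowerSeries.subst y : MvPowerSeries (Fin n) Λ → MvPowerSeries (Fin n) Λ) := by
  haveI := (CAlgH.isRegularLocalRing_mvPowerSeries Λ n).1
  haveI := CAlgH.isAdicComplete_maximalIdeal_mvPowerSeries (R := Λ) (n := n)
  refine CAlgH.subst_bijective_aux {(p : Λ)} y hy0 ?_ ?_
  · rw [Set.image_singleton, Ideal.span_union, ← CAlgH.AdicSmooth.ker_constantCoeff]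
    refine le_antisymm (sup_le ?_ fun f hf => ?_) fun f hf => ?_
    · rw [Ideal.span_singleton_le_iff_mem, IsLocalRing.mem_maximalIdeal, mem_nonunits_iff,
        MvPowerSeries.isUnit_iff_constantCoeff, MvPowerSeries.constantCoeff_C, ← mem_nonunits_iff,
        ← IsLocalRing.mem_maximalIdeal, hm]
      exact Ideal.mem_span_singleton_self _
    · rw [IsLocalRing.mem_maximalIdeal, mem_nonunits_iff, MvPowerSeries.isUnit_iff_constantCoeff, RingHom.mem_ker.mp hf]
      exact not_isUnit_zero
    · rw [IsLocalRing.mem_maximalIdeal, mem_nonunits_iff, MvPowerSeries.isUnit_iff_constantCoeff, ← mem_nonunits_iff,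
        ← IsLocalRing.mem_maximalIdeal, hm, Ideal.mem_span_singleton'] at hf
      obtain ⟨a, ha⟩ := hf
      refine Submodule.mem_sup.mpr ⟨MvPowerSeries.C a * MvPowerSeries.C (p : Λ),
        Ideal.mul_mem_left _ _ (Ideal.mem_span_singleton_self _), f - MvPowerSeries.C a * MvPowerSeries.C (p : Λ), ?_, by ring⟩
      rw [RingHom.mem_ker, map_sub, map_mul, MvPowerSeries.constantCoeff_C, MvPowerSeries.constantCoeff_C, ha, sub_self]
  · rw [Set.image_singleton, Set.singleton_union, map_natCast]
    exact hy

end Groth.Agent.S9311
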