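import Mathlib
import Groth.Statements.S9312
import Groth.Agent.S9260

set_option autoImplicit false
universe u
open CAlg
open scoped nonZeroDivisors TensorProduct

namespace Groth.Agent.S9312

/-- Let a finite group G with n elements act on a ring R by ring automorphisms, with invariant ring R^G,
and let A be an algebra over R^G; G acts on A ⊗ R through the factor R. (1) For every G-invariant b
∈ A ⊗ R there is a monic polynomial over A whose image in (A ⊗ R)[T] is (T - b)^n. (2) For every a
in the kernel of A → A ⊗ R, all coefficients of (T - a)^n below degree n vanish, that is (T - a)^n =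
T^n in A[T]. -/
theorem result (R G A : Type u) [CommRing R] [Group G] [Fintype G]
    [MulSemiringAction G R] [CommRing A] [Algebra (FixedPoints.subring R G) A] :
    (∀ b : TensorProduct (FixedPoints.subring R G) A R,
      (∀ σ : G, Algebra.TensorProduct.map (AlgHom.id (FixedPoints.subring R G) A)
        (MulSemiringAction.toAlgHom (FixedPoints.subring R G) R σ) b = b) →
      ∃ P : Polynomial A, P.Monic ∧
        Polynomial.map (algebraMap A (TensorProduct (FixedPoints.subring R G) A R)) P =
          (Polynomial.X - Polynomial.C b) ^ Fintype.card G) ∧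
    (∀ a : A, algebraMap A (TensorProduct (FixedPoints.subring R G) A R) a = 0 →
      ∀ i : ℕ, i < Fintype.card G → ((Polynomial.X - Polynomial.C a) ^ Fintype.card G).coeff i = 0) := by
  classical
  letI : Algebra (MvPolynomial A (FixedPoints.subring R G)) (MvPolynomial A R) := (MvPolynomial.map (algebraMap (FixedPoints.subring R G) R)).toAlgebra
  letI act : MulSemiringAction G (MvPolynomial A R) :=
    { smul := fun σ p => MvPolynomial.map (MulSemiringAction.toRingHom G R σ) p
      one_smul := fun p => by
        show MvPolynomial.map _ p = p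
        rw [show MulSemiringAction.toRingHom G R 1 = RingHom.id R from RingHom.ext fun r => one_smul G r, MvPolynomial.map_id]
      mul_smul := fun σ τ p => by
        show MvPolynomial.map _ p = MvPolynomial.map _ (MvPolynomial.map _ p)
        rw [MvPolynomial.map_map]
        congr 2
        exact RingHom.ext fun r => mul_smul σ τ r
      smul_zero := fun σ => map_zero _
      smul_add := fun σ p q => map_add _ p q
      smul_one := fun σ => map_one _
      smul_mul := fun σ p q => map_mul _ p q }
  letI smG : SMul G (MvPolynomial A R) := act.toDistribMulAction.toDistribSMul.toSMulZeroClass.toSMul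
  have hσ : ∀ σ : G, (MulSemiringAction.toRingHom G R σ).comp (algebraMap (FixedPoints.subring R G) R) = algebraMap (FixedPoints.subring R G) R := fun σ =>
    RingHom.ext fun s => s.2 σ
  have : SMulCommClass G (MvPolynomial A (FixedPoints.subring R G)) (MvPolynomial A R) := ⟨fun σ p q => by
    show MvPolynomial.map _ (p • q) = p • MvPolynomial.map _ q
    rw [Algebra.smul_def, Algebra.smul_def, map_mul]
    congr 1
    show MvPolynomial.map _ (MvPolynomial.map (algebraMap (FixedPoints.subring R G) R) p) = MvPolynomial.map (algebraMap (FixedPoints.subring R G) R) p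
    rw [MvPolynomial.map_map, hσ]⟩
  have : Algebra.IsInvariant (MvPolynomial A (FixedPoints.subring R G)) (MvPolynomial A R) G := ⟨fun q hq => by
    have : q ∈ Set.range (MvPolynomial.map (algebraMap (FixedPoints.subring R G) R)) := by
      rw [MvPolynomial.mem_range_map_iff_coeffs_subset]
      intro r hr
      obtain ⟨m, -, rfl⟩ := MvPolynomial.mem_coeffs_iff.mp hr
      refine ⟨⟨q.coeff m, fun σ => ?_⟩, rfl⟩
      have e := congrArg (MvPolynomial.coeff m) (hq σ)
      change MvPolynomial.coeff m (MvPolynomial.map _ q) = _ at e
      rwa [MvPolynomial.coeff_map] at e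
    exact this⟩
  let π : (MvPolynomial A (FixedPoints.subring R G)) →ₐ[(FixedPoints.subring R G)] A := MvPolynomial.aeval id
  let ρ : (MvPolynomial A R) →+* A ⊗[(FixedPoints.subring R G)] R := MvPolynomial.eval₂Hom
    (Algebra.TensorProduct.includeRight : R →ₐ[(FixedPoints.subring R G)] A ⊗[(FixedPoints.subring R G)] R).toRingHom (fun a => a ⊗ₜ[(FixedPoints.subring R G)] (1 : R))
  have hρ : ρ.comp (algebraMap (MvPolynomial A (FixedPoints.subring R G)) (MvPolynomial A R)) = (algebraMap A (A ⊗[(FixedPoints.subring R G)] R)).comp π.toRingHom := by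
    refine MvPolynomial.ringHom_ext (fun s => ?_) (fun a => ?_)
    · show ρ (MvPolynomial.map (algebraMap (FixedPoints.subring R G) R) (MvPolynomial.C s)) = algebraMap A (A ⊗[(FixedPoints.subring R G)] R) (π (MvPolynomial.C s))
      simp [ρ, π, Algebra.TensorProduct.algebraMap_apply, Algebra.algebraMap_eq_smul_one, TensorProduct.smul_tmul']
      rw [← TensorProduct.smul_tmul']; rfl
    · show ρ (MvPolynomial.map (algebraMap (FixedPoints.subring R G) R) (MvPolynomial.X a)) = algebraMap A (A ⊗[(FixedPoints.subring R G)] R) (π (MvPolynomial.X a))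
      simp [ρ, π, Algebra.TensorProduct.algebraMap_apply]
  have hρs : Function.Surjective ρ := fun b => by
    induction b using TensorProduct.induction_on with
    | zero => exact ⟨0, map_zero _⟩
    | tmul a r => exact ⟨MvPolynomial.X a * MvPolynomial.C r, by simp [ρ]⟩
    | add p q hp hq =>
      obtain ⟨x, rfl⟩ := hp; obtain ⟨y, rfl⟩ := hq; exact ⟨x + y, map_add _ _ _⟩
  have hρσ : ∀ (σ : G) p, ρ (σ • p) = Algebra.TensorProduct.map (AlgHom.id (FixedPoints.subring R G) A)
      (MulSemiringAction.toAlgHom (FixedPoints.subring R G) R σ) (ρ p) := fun σ p => by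
    show (ρ.comp (MvPolynomial.map (MulSemiringAction.toRingHom G R σ))) p =
      ((Algebra.TensorProduct.map (AlgHom.id (FixedPoints.subring R G) A) (MulSemiringAction.toAlgHom (FixedPoints.subring R G) R σ)).toRingHom.comp ρ) p
    congr 1
    refine MvPolynomial.ringHom_ext (fun r => ?_) (fun a => ?_)
    · simp [ρ]
    · simp [ρ]
  refine ⟨fun b hb => ?_, fun a ha i hi => ?_⟩
  · obtain ⟨b', rfl⟩ := hρs b
    obtain ⟨P, hP, -, -, hmap⟩ := Groth.Agent.S9260.result (MvPolynomial A (FixedPoints.subring R G)) (MvPolynomial A R) G ⊤ b' (by rw [Ideal.map_top]; trivial)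
    refine ⟨P.map π.toRingHom, hP.map _, ?_⟩
    rw [Polynomial.map_map, ← hρ, ← Polynomial.map_map, hmap, Polynomial.map_prod]
    simp only [Polynomial.map_sub, Polynomial.map_X, Polynomial.map_C, hρσ, hb, Finset.prod_const, Finset.card_univ]
  · let J : Ideal (MvPolynomial A (FixedPoints.subring R G)) := RingHom.ker π.toRingHom
    have hπs : Function.Surjective π := fun a => ⟨MvPolynomial.X a, by simp [π]⟩
    let lift : A ⊗[(FixedPoints.subring R G)] R →+* (MvPolynomial A R) ⧸ J.map (algebraMap (MvPolynomial A (FixedPoints.subring R G)) (MvPolynomial A R)) := by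
      let fA : A →+* (MvPolynomial A R) ⧸ J.map (algebraMap (MvPolynomial A (FixedPoints.subring R G)) (MvPolynomial A R)) :=
        RingHom.liftOfRightInverse π.toRingHom _ (Function.rightInverse_surjInv hπs)
          ⟨(Ideal.Quotient.mk _).comp (algebraMap (MvPolynomial A (FixedPoints.subring R G)) (MvPolynomial A R)), fun x hx => Ideal.Quotient.eq_zero_iff_mem.mpr (Ideal.mem_map_of_mem _ hx)⟩
      have hfA : ∀ s : FixedPoints.subring R G, fA (algebraMap (FixedPoints.subring R G) A s) = algebraMap (FixedPoints.subring R G) ((MvPolynomial A R) ⧸ J.map (algebraMap (MvPolynomial A (FixedPoints.subring R G)) (MvPolynomial A R))) s := fun s => by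
        rw [show algebraMap (FixedPoints.subring R G) A s = π.toRingHom (MvPolynomial.C s) from (π.commutes s).symm]
        simp only [fA, RingHom.liftOfRightInverse_comp_apply]
        show Ideal.Quotient.mk _ (MvPolynomial.map (algebraMap (FixedPoints.subring R G) R) (MvPolynomial.C s)) = _
        rw [MvPolynomial.map_C]
        rfl
      let fA' : A →ₐ[(FixedPoints.subring R G)] (MvPolynomial A R) ⧸ J.map (algebraMap (MvPolynomial A (FixedPoints.subring R G)) (MvPolynomial A R)) :=
        { fA with commutes' := hfA }
      let fR : R →ₐ[(FixedPoints.subring R G)] (MvPolynomial A R) ⧸ J.map (algebraMap (MvPolynomial A (FixedPoints.subring R G)) (MvPolynomial A R)) :=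
        { (Ideal.Quotient.mk _).comp MvPolynomial.C with commutes' := fun s => rfl }
      exact (Algebra.TensorProduct.lift fA' fR (fun _ _ => Commute.all _ _)).toRingHom
    obtain ⟨a', rfl⟩ := hπs a
    have hx : algebraMap (MvPolynomial A (FixedPoints.subring R G)) (MvPolynomial A R) a' ∈ J.map (algebraMap (MvPolynomial A (FixedPoints.subring R G)) (MvPolynomial A R)) := by
      apply Ideal.Quotient.eq_zero_iff_mem.mp
      have e : lift (algebraMap A (A ⊗[(FixedPoints.subring R G)] R) (π a')) = 0 := by rw [ha, map_zero]
      have e2 : lift (algebraMap A (A ⊗[(FixedPoints.subring R G)] R) (π a')) =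
          Ideal.Quotient.mk (J.map (algebraMap (MvPolynomial A (FixedPoints.subring R G)) (MvPolynomial A R))) (algebraMap (MvPolynomial A (FixedPoints.subring R G)) (MvPolynomial A R) a') := by
        simp only [lift, Algebra.TensorProduct.algebraMap_apply, Algebra.algebraMap_self, RingHom.id_apply]
        show (Algebra.TensorProduct.lift _ _ _) _ = _
        rw [Algebra.TensorProduct.lift_tmul, map_one, mul_one]
        exact RingHom.liftOfRightInverse_comp_apply π.toRingHom _ (Function.rightInverse_surjInv hπs) _ a'
      rw [← e2, e]
    obtain ⟨P, -, hdeg, hcoef, hmap⟩ := Groth.Agent.S9260.result (MvPolynomial A (FixedPoints.subring R G)) (MvPolynomial A R) G J (algebraMap (MvPolynomial A (FixedPoints.subring R G)) (MvPolynomial A R) a') hx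
    have hinj : Function.Injective (algebraMap (MvPolynomial A (FixedPoints.subring R G)) (MvPolynomial A R)) := MvPolynomial.map_injective _ Subtype.val_injective
    have hP : P = (Polynomial.X - Polynomial.C a') ^ Fintype.card G := by
      apply Polynomial.map_injective _ hinj
      rw [hmap]
      simp [smul_algebraMap]
    have h0 : π (P.coeff i) = 0 := hcoef i hi
    rw [hP] at h0
    rw [show (Polynomial.X - Polynomial.C (π a')) ^ Fintype.card G =
      ((Polynomial.X - Polynomial.C a') ^ Fintype.card G).map π.toRingHom by simp, Polynomial.coeff_map]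
    exact h0

end Groth.Agent.S9312
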