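import Groth.Statements.S9313
import Groth.Agent.CAlgH.IdempotentIntegralClosure

set_option autoImplicit false
universe u
open CAlg

namespace Groth.Agent.S9313

/-- Let A be a ring with an ideal I and A → B a ring map of finite type, and suppose B/IB = C_1 × C_2
(given by an idempotent e of B/IB with C_1 = (B/IB)/(1 - e)) where C_1 is finite over A/I. Writing
B' for the integral closure of A in B, some g ∈ B' has idempotent image in B'/IB' lifting e (so
B'/IB' = C_1' × C_2' compatibly with the decomposition of B/IB), and the map B'_g → B_g is an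
isomorphism (whence C_1' = C_1). -/
theorem result (A B : Type u) [CommRing A] [CommRing B]
    [Algebra A B] [Algebra.FiniteType A B] (I : Ideal A) (e : B ⧸ Ideal.map (algebraMap A B) I)
    (he : IsIdempotentElem e)
    (hfin : Module.Finite (A ⧸ I) ((B ⧸ Ideal.map (algebraMap A B) I) ⧸ Ideal.span {1 - e})) :
    ∃ g : integralClosure A B,
      IsIdempotentElem (Ideal.Quotient.mk (Ideal.map (algebraMap A (integralClosure A B)) I) g) ∧
      Ideal.Quotient.mk (Ideal.map (algebraMap A B) I) (g : B) = e ∧
      Function.Bijective (algebraMap (Localization.Away g)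
        (Localization (Algebra.algebraMapSubmonoid B (Submonoid.powers g)))) := by
  obtain ⟨e₀, rfl⟩ := Ideal.Quotient.mk_surjective e
  have he' : e₀ * (1 - e₀) ∈ I.map (algebraMap A B) := by
    rw [← Ideal.Quotient.eq_zero_iff_mem, map_mul, map_sub, map_one]
    rw [mul_sub, mul_one, he.eq, sub_self]
  have hfin' : Module.Finite A (B ⧸ (I.map (algebraMap A B) ⊔ Ideal.span {1 - e₀})) := by
    haveI := hfin
    haveI : Module.Finite A (A ⧸ I) := inferInstance
    haveI : Module.Finite A ((B ⧸ I.map (algebraMap A B)) ⧸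
        Ideal.span {1 - Ideal.Quotient.mk (I.map (algebraMap A B)) e₀}) := Module.Finite.trans (A ⧸ I) _
    let f : ((B ⧸ I.map (algebraMap A B)) ⧸ Ideal.span {1 - Ideal.Quotient.mk (I.map (algebraMap A B)) e₀}) →ₐ[A]
        B ⧸ (I.map (algebraMap A B) ⊔ Ideal.span {1 - e₀}) :=
      Ideal.Quotient.liftₐ _ (Ideal.Quotient.factorₐ A le_sup_left) fun w hw => by
        obtain ⟨t, rfl⟩ := Ideal.mem_span_singleton'.1 hw
        obtain ⟨t, rfl⟩ := Ideal.Quotient.mk_surjective t
        rw [← map_one (Ideal.Quotient.mk (I.map (algebraMap A B))), ← map_sub, ← map_mul]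
        exact Ideal.Quotient.eq_zero_iff_mem.2
          (Ideal.mul_mem_left _ _ (Ideal.mem_sup_right (Ideal.mem_span_singleton_self _)))
    exact Module.Finite.of_surjective f.toLinearMap fun y => by
      obtain ⟨y, rfl⟩ := Ideal.Quotient.mk_surjective y
      exact ⟨Ideal.Quotient.mk _ (Ideal.Quotient.mk _ y), rfl⟩
  obtain ⟨g, hg1, hg2, hg3⟩ := _root_.Groth.Agent.CAlgH.IdempotentIC.exists_lift e₀ he' hfin'
  refine ⟨g, ?_, Ideal.Quotient.eq.2 hg2, ?_⟩
  · show _ * _ = _
    rw [← map_mul, Ideal.Quotient.eq, ← sq]
    exact hg1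
  let S := Localization (Algebra.algebraMapSubmonoid B (Submonoid.powers g))
  have key : ∀ z : integralClosure A B, algebraMap (Localization.Away g) S (algebraMap _ (Localization.Away g) z) =
      algebraMap B S z := fun z => IsLocalization.map_eq _ z
  haveI : IsLocalization.Away (g : B) S := by
    have h : Algebra.algebraMapSubmonoid B (Submonoid.powers g) = Submonoid.powers (g : B) :=
      Submonoid.map_powers (algebraMap (integralClosure A B) B) g
    show IsLocalization (Submonoid.powers (g : B)) S
    rw [← h]
    infer_instance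
  constructor
  · rw [injective_iff_map_eq_zero]
    intro z hz
    obtain ⟨x, s, rfl⟩ := IsLocalization.exists_mk'_eq (Submonoid.powers g) z
    rw [IsLocalization.mk'_eq_zero_iff]
    have hx : algebraMap B S x = 0 := by
      rw [← key, ← IsLocalization.mk'_spec (Localization.Away g) x s, map_mul, hz, zero_mul]
    obtain ⟨⟨_, k, rfl⟩, hk⟩ := (IsLocalization.map_eq_zero_iff (Submonoid.powers (g : B)) S (x : B)).1 hx
    exact ⟨⟨g ^ k, k, rfl⟩, Subtype.ext (by simpa using hk)⟩
  · intro z
    obtain ⟨n, b, hb⟩ := IsLocalization.Away.surj (g : B) z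
    obtain ⟨m, hm⟩ := hg3 b
    let s : Submonoid.powers g := ⟨g ^ (n + m), n + m, rfl⟩
    refine ⟨IsLocalization.mk' (Localization.Away g) (⟨_, hm⟩ : integralClosure A B) s, ?_⟩
    have hu : IsUnit (algebraMap B S ((g : B) ^ (n + m))) :=
      IsLocalization.map_units S (⟨_, n + m, rfl⟩ : Submonoid.powers (g : B))
    refine hu.mul_right_cancel ?_
    have h1 := congrArg (algebraMap (Localization.Away g) S) (IsLocalization.mk'_spec (Localization.Away g)
      (⟨_, hm⟩ : integralClosure A B) s)
    rw [map_mul, key, key] at h1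
    rw [show algebraMap B S ((g : B) ^ (n + m)) = algebraMap B S ((s : integralClosure A B) : B) from rfl]
    refine h1.trans ?_
    show algebraMap B S ((g : B) ^ m * b) = z * algebraMap B S ((g : B) ^ (n + m))
    rw [map_mul, ← hb, map_pow, map_pow, pow_add]
    ring

end Groth.Agent.S9313
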