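import Groth.Statements.S9315
import Groth.Agent.CAlgH.AdicSmoothLift


set_option autoImplicit false
universe u
open CAlg

namespace Groth.Agent.S9315

open IsLocalRing in
/-- Let `R → S` be a local homomorphism of local rings (no Noetherian hypothesis). Then `R → S` is
formally smooth for the adic topology of the maximal ideal of `S` if and only if the following
lifting property holds: for every local ring `A` with a local structure map `R → A`, every ideal `J`
of `A` of square zero such that some power of the maximal ideal of `A` is zero, and every local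
`R`-algebra homomorphism `ψ : S → A/J` inducing a bijection on residue fields, there is an
`R`-algebra homomorphism `S → A` lifting `ψ`. -/
theorem result {R S : Type u} [CommRing R] [CommRing S]
    [IsLocalRing R] [IsLocalRing S] [Algebra R S] [IsLocalHom (algebraMap R S)] :
    CAlgX.IsAdicFormallySmooth R S (maximalIdeal S) ↔
      ∀ (A : Type u) [CommRing A] [IsLocalRing A] [Algebra R A] [IsLocalHom (algebraMap R A)]
        (J : Ideal A), J ^ 2 = ⊥ → (∃ n : ℕ, maximalIdeal A ^ n = ⊥) →
        ∀ [IsLocalRing (A ⧸ J)] (ψ : S →ₐ[R] A ⧸ J) [IsLocalHom ψ.toRingHom],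
          Function.Bijective (ResidueField.map ψ.toRingHom) →
          ∃ χ : S →ₐ[R] A, (Ideal.Quotient.mkₐ R J).comp χ = ψ := by
  constructor
  · intro h A _ _ _ _ J hJ ⟨n, hn⟩ _ ψ _ _
    exact h A J hJ ψ ⟨n, CAlgH.AdicSmooth.kills_pow_of_isLocalHom hn ψ⟩
  · intro H
    refine CAlgH.AdicSmooth.of_lift_local fun A _ _ _ J hloc hJ hne hn _ ψ hψ => ?_
    haveI := hloc
    haveI : Nontrivial (A ⧸ J) := Ideal.Quotient.nontrivial_iff.mpr hne
    haveI : IsLocalRing (A ⧸ J) := IsLocalRing.of_surjective' (Ideal.Quotient.mk J) Ideal.Quotient.mk_surjective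
    haveI : IsLocalHom ψ.toRingHom := IsLocalHom.of_surjective ψ.toRingHom hψ
    exact H A J hJ hn ψ ⟨RingHom.injective _, fun x => by
      obtain ⟨y, rfl⟩ := IsLocalRing.residue_surjective x
      obtain ⟨s, rfl⟩ := hψ y
      exact ⟨IsLocalRing.residue S s, rfl⟩⟩

end Groth.Agent.S9315
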