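import Groth.Statements.S9319
import Groth.Agent.CAlgH.H1FieldTower


set_option autoImplicit false
universe u
open CAlg

namespace Groth.Agent.S9319

open TensorProduct in
/-- For a tower of fields `K ⊆ L ⊆ M`, the first map of the Jacobi–Zariski sequence, from `H_1(L_{L/K})
⊗_L M` to `H_1(L_{M/K})`, is injective; here `H_1(L)` denotes the first homology of the naive
cotangent complex and the map is the `M`-linear extension of the functoriality map. (The rest of the
six-term sequence is exact for any three rings, so for fields it is exact with a zero on the left.) -/
theorem result {K L M : Type u} [Field K] [Field L]
    [Field M] [Algebra K L] [Algebra L M] [Algebra K M] [IsScalarTower K L M] :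
    Function.Injective ((Algebra.H1Cotangent.map K K L M).liftBaseChange M) := by
  exact CAlgH.H1FieldTower.injective_liftBaseChange_map

end Groth.Agent.S9319
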