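import Groth.Statements.S9324
import Groth.Agent.HenselLib.Perm

set_option autoImplicit false
universe u
open Hensel

namespace Groth.Agent.S9324

open TensorProduct in
/-- Let `(A, I) → (B, J)` be a map of pairs, i.e. `I B ⊆ J`, such that `J` and `I B` have the same
radical, and suppose `A → B` is integral. Let `A^h` be a henselization of the pair `(A, I)`, `B^h` a
henselization of the pair `(B, J)`, and `φ : A^h → B^h` an `A`-algebra homomorphism (there is
exactly one, by the universal property of `A^h`). Then the induced map `A^h ⊗_A B → B^h` is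
bijective: henselization commutes with integral base change. -/
theorem result {A B Ah Bh : Type u} [CommRing A]
    [CommRing B] [CommRing Ah] [CommRing Bh] [Algebra A B] (I : Ideal A) (J : Ideal B)
    (hIJ : I.map (algebraMap A B) ≤ J) (hrad : J.radical = (I.map (algebraMap A B)).radical)
    [Algebra.IsIntegral A B] [Algebra A Ah] (hA : Hens2.IsPairHenselization A I Ah)
    [Algebra B Bh] [Algebra A Bh] [IsScalarTower A B Bh] (hB : Hens2.IsPairHenselization B J Bh)
    (φ : Ah →ₐ[A] Bh) :
    Function.Bijective (Algebra.TensorProduct.productMap φ (IsScalarTower.toAlgHom A B Bh)) := by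
  let T := Ah ⊗[A] B
  let f : B →+* T := (Algebra.TensorProduct.includeRight : B →ₐ[A] T).toRingHom
  have h1 := hA.1
  have h2 : HenselianRing T ((I.map (algebraMap A Ah)).map (algebraMap Ah T)) :=
    Groth.Agent.HenselLib.henselianRing_of_isIntegral _ T
  have hIT : (I.map (algebraMap A Ah)).map (algebraMap Ah T) = (I.map (algebraMap A B)).map f := by
    rw [Ideal.map_map, Ideal.map_map]
    congr 1
    refine RingHom.ext fun a => ?_
    exact ((Algebra.TensorProduct.includeLeft : Ah →ₐ[A] T).commutes a).trans
      ((Algebra.TensorProduct.includeRight : B →ₐ[A] T).commutes a).symm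
  rw [hIT] at h2
  have h3 := Groth.Agent.HenselLib.henselianRing_radical ((I.map (algebraMap A B)).map f)
  have hJT : HenselianRing T (J.map f) := by
    refine Groth.Agent.HenselLib.henselianRing_of_le (J := ((I.map (algebraMap A B)).map f).radical) ?_
    refine le_trans (Ideal.map_mono (Ideal.le_radical.trans hrad.le)) ?_
    exact Ideal.map_radical_le f
  obtain ⟨ψ, hψ, -⟩ := hB.2 T (J.map f) f hJT le_rfl
  have h4 : (Algebra.TensorProduct.productMap φ (IsScalarTower.toAlgHom A B Bh)).toRingHom.comp ψ =
      RingHom.id Bh :=
    (hB.2 Bh _ (algebraMap B Bh) hB.1 le_rfl).unique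
      (by
        rw [RingHom.comp_assoc, hψ]
        exact RingHom.ext fun b => by simp [f])
      (RingHom.id_comp _)
  have hψA : ∀ a : A, ψ (algebraMap A Bh a) = algebraMap A T a := fun a => by
    rw [IsScalarTower.algebraMap_apply A B Bh]
    exact (congr($hψ (algebraMap A B a))).trans
      ((Algebra.TensorProduct.includeRight : B →ₐ[A] T).commutes a)
  let ψ' : Bh →ₐ[A] T := { ψ with commutes' := hψA }
  have h5 : ψ'.comp (Algebra.TensorProduct.productMap φ (IsScalarTower.toAlgHom A B Bh)) =
      AlgHom.id A T := by
    refine Algebra.TensorProduct.ext (AlgHom.coe_ringHom_injective ?_) (AlgHom.ext fun b => ?_)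
    · have hle : I.map (algebraMap A T) ≤ J.map f := by
        rw [← (Algebra.TensorProduct.includeRight : B →ₐ[A] T).comp_algebraMap, ← Ideal.map_map]
        exact Ideal.map_mono hIJ
      exact (hA.2 T (J.map f) (algebraMap A T) hJT hle).unique
        (AlgHom.comp_algebraMap _) (AlgHom.comp_algebraMap _)
    · show ψ (Algebra.TensorProduct.productMap φ (IsScalarTower.toAlgHom A B Bh) ((1 : Ah) ⊗ₜ[A] b)) =
      (1 : Ah) ⊗ₜ[A] b
      simpa [f] using congr($hψ b)
  exact ⟨Function.LeftInverse.injective (g := ψ') fun t => congr($h5 t),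
    Function.RightInverse.surjective (g := ψ) fun x => congr($h4 x)⟩

end Groth.Agent.S9324
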