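import Groth.Statements.S9326
import Mathlib.Topology.Algebra.InfiniteSum.Nonarchimedean

set_option autoImplicit false
universe u
open CAlg

namespace Groth.Agent.S9326

open Topology Filter

/-- If the closures of the images of all open subgroups are open, the images are open. -/
theorem image_eq_closure {N M : Type u} [AddCommGroup N]
    [AddCommGroup M] [UniformSpace N] [IsUniformAddGroup N] [TopologicalSpace M]
    [IsTopologicalAddGroup M] [T2Space M] [CompleteSpace N] [NonarchimedeanAddGroup N]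
    [FirstCountableTopology N] (u : N →+ M) (hu : Continuous u)
    (H : ∀ V : OpenAddSubgroup N, IsOpen (closure (u '' (V : Set N)))) (V : OpenAddSubgroup N) :
    closure (u '' (V : Set N)) = u '' (V : Set N) := by
  obtain ⟨s, hs⟩ := (𝓝 (0 : N)).exists_antitone_basis
  have hW : ∀ n, ∃ W : OpenAddSubgroup N, (W : Set N) ⊆ s n := fun n =>
    NonarchimedeanAddGroup.is_nonarchimedean (s n) (hs.toHasBasis.mem_of_mem trivial)
  choose W hW using hW
  obtain ⟨Vs, hV0, hVsucc⟩ : ∃ Vs : ℕ → OpenAddSubgroup N, Vs 0 = V ∧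
      ∀ n, Vs (n + 1) = Vs n ⊓ W n :=
    ⟨fun n => Nat.rec V (fun m X => X ⊓ W m) n, rfl, fun _ => rfl⟩
  have hVsW : ∀ n, ((Vs (n + 1) : OpenAddSubgroup N) : Set N) ⊆ s n := fun n x hx => hW n (hVsucc n ▸ hx : x ∈ Vs n ⊓ W n).2
  have hVsle : ∀ n, ∀ x ∈ Vs n, x ∈ V := by
    intro n
    induction n with
    | zero => exact fun x hx => hV0 ▸ hx
    | succ m ih => exact fun x hx => ih x (hVsucc m ▸ hx : x ∈ Vs m ⊓ W m).1
  refine Set.Subset.antisymm (fun y hy => ?_) subset_closure
  have step : ∀ n (z : M), z ∈ closure (u '' ((Vs n : OpenAddSubgroup N) : Set N)) →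
      ∃ x ∈ Vs n, z - u x ∈ closure (u '' ((Vs (n + 1) : OpenAddSubgroup N) : Set N)) := by
    intro n z hz
    let T : Set M := closure (u '' ((Vs (n + 1) : OpenAddSubgroup N) : Set N))
    have h0 : (0 : M) ∈ T := subset_closure ⟨0, (Vs (n + 1)).zero_mem, map_zero u⟩
    have ho : IsOpen ((fun w => z - w) ⁻¹' T) := (H (Vs (n + 1))).preimage (by fun_prop)
    obtain ⟨w, hw, x, hx, rfl⟩ := mem_closure_iff.1 hz _ ho (by simpa using h0)
    exact ⟨x, hx, hw⟩
  choose f hf hf' using step
  let seq : ∀ n, {z : M // z ∈ closure (u '' ((Vs n : OpenAddSubgroup N) : Set N))} := fun n =>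
    Nat.rec ⟨y, hV0.symm ▸ hy⟩ (fun m z => ⟨z.1 - u (f m z.1 z.2), hf' m z.1 z.2⟩) n
  let x : ℕ → N := fun n => f n (seq n).1 (seq n).2
  have hx : ∀ n, x n ∈ Vs n := fun n => hf n _ _
  have hseq : ∀ n, (seq n).1 = y - u (∑ i ∈ Finset.range n, x i) := by
    intro n
    induction n with
    | zero => simp [seq]
    | succ m ih =>
      show (seq m).1 - u (x m) = _
      rw [ih, Finset.sum_range_succ, map_add, sub_sub]
  have hxt : Tendsto x atTop (𝓝 0) := by
    rw [hs.toHasBasis.tendsto_right_iff]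
    intro k _
    filter_upwards [eventually_ge_atTop (k + 1)] with n hn
    obtain ⟨m, rfl⟩ : ∃ m, n = m + 1 := ⟨n - 1, by omega⟩
    exact hs.antitone (by omega : k ≤ m) (hVsW m (hx (m + 1)))
  obtain ⟨σ, hσ⟩ := NonarchimedeanAddGroup.summable_of_tendsto_cofinite_zero
    (f := x) (by rwa [Nat.cofinite_eq_atTop])
  have hsum := hσ.tendsto_sum_nat
  refine ⟨σ, (OpenAddSubgroup.isClosed V).mem_of_tendsto hsum (Eventually.of_forall fun n =>
    sum_mem fun i _ => hVsle i _ (hx i)), ?_⟩
  have h1 : Tendsto (fun n => (seq n).1) atTop (𝓝 (y - u σ)) := by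
    simp only [hseq]
    exact tendsto_const_nhds.sub ((hu.tendsto σ).comp hsum)
  have h2 : Tendsto (fun n => (seq n).1) atTop (𝓝 0) := by
    rw [(closed_nhds_basis (0 : M)).tendsto_right_iff]
    rintro K ⟨hK, hKc⟩
    have hK' : u ⁻¹' K ∈ 𝓝 (0 : N) := hu.continuousAt.preimage_mem_nhds (by rwa [map_zero])
    obtain ⟨k, -, hk⟩ := hs.toHasBasis.mem_iff.1 hK'
    filter_upwards [eventually_ge_atTop (k + 1)] with n hn
    obtain ⟨m, rfl⟩ : ∃ m, n = m + 1 := ⟨n - 1, by omega⟩
    refine closure_minimal ?_ hKc (seq (m + 1)).2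
    rintro _ ⟨v, hv, rfl⟩
    exact hk (hs.antitone (by omega : k ≤ m) (hVsW m hv))
  exact (sub_eq_zero.1 (tendsto_nhds_unique h1 h2)).symm

/-- Let `u : N → M` be a continuous homomorphism of topological abelian groups. Assume `M` is Hausdorff
and `N` is Hausdorff and complete, linearly topologized (every neighbourhood of zero contains an
open subgroup) and first countable (zero has a countable basis of neighbourhoods). Then exactly one
of two things holds: `u` is an open map; or there is an open subgroup of `N` whose image is nowhere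
dense in `M`. -/
theorem result {N M : Type u} [AddCommGroup N]
    [AddCommGroup M] [UniformSpace N] [IsUniformAddGroup N] [TopologicalSpace M]
    [IsTopologicalAddGroup M] [T2Space M] [T2Space N] [CompleteSpace N] [NonarchimedeanAddGroup N]
    [FirstCountableTopology N] (u : N →+ M) (hu : Continuous u) :
    Xor (IsOpenMap u) (∃ V : OpenAddSubgroup N, IsNowhereDense (u '' (V : Set N))) := by
  rw [xor_iff_iff_not]
  constructor
  · rintro ho ⟨V, hV⟩
    have hopen := ho _ V.isOpen
    have hne : (u '' (V : Set N)).Nonempty := ⟨0, 0, V.zero_mem, map_zero u⟩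
    have : u '' (V : Set N) ⊆ interior (closure (u '' (V : Set N))) :=
      interior_maximal subset_closure hopen
    rw [hV] at this
    exact hne.ne_empty (Set.subset_empty_iff.1 this)
  · intro hno
    have H : ∀ V : OpenAddSubgroup N, IsOpen (closure (u '' (V : Set N))) := by
      intro V
      obtain ⟨g, hg⟩ := Set.nonempty_iff_ne_empty.2 (fun h => hno ⟨V, h⟩)
      exact AddSubgroup.isOpen_of_mem_nhds ((V.toAddSubgroup.map u).topologicalClosure) (g := g)
        (Filter.mem_of_superset (isOpen_interior.mem_nhds hg) interior_subset)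
    have hopen : ∀ V : OpenAddSubgroup N, IsOpen (u '' (V : Set N)) := fun V =>
      image_eq_closure u hu H V ▸ H V
    intro S hS
    rw [isOpen_iff_forall_mem_open]
    rintro _ ⟨x, hx, rfl⟩
    obtain ⟨V, hV⟩ := NonarchimedeanAddGroup.is_nonarchimedean ((fun v => x + v) ⁻¹' S)
      ((hS.preimage (by fun_prop)).mem_nhds (by simpa using hx))
    refine ⟨(fun w => u x + w) '' (u '' (V : Set N)), ?_, isOpenMap_add_left _ _ (hopen V),
      ⟨0, ⟨0, V.zero_mem, map_zero u⟩, add_zero _⟩⟩
    rintro _ ⟨_, ⟨v, hv, rfl⟩, rfl⟩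
    exact ⟨x + v, hV hv, map_add u x v⟩

end Groth.Agent.S9326
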