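import Groth.Statements.S9327
import Groth.Agent.HenselLib.Olivier
import Groth.Agent.HenselLib.LocalHens
import Groth.Agent.VarietyLib.GeomField
import Groth.Agent.CommAlg6.NormalTensorSep
import Groth.Agent.EGA43.Unibranch.Criterion
import Groth.Agent.CAlgH.StrictHenselExtended
import Groth.Agent.S2750
-- import your own Groth.Agent.* helpers here

set_option autoImplicit false
set_option linter.all false
universe u
open Hensel

namespace Groth.Agent.S9327

section helpers

open TensorProduct IsLocalRing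

variable {k : Type u} [Field k] [IsAlgClosed k]

theorem geomReduced (L : Type u) [Field L] [Algebra k L] : Algebra.IsGeometricallyReduced k L := by
  rw [Algebra.isGeometricallyReduced_field_iff]
  let e : k ≃ₐ[k] AlgebraicClosure k :=
    AlgEquiv.ofBijective (Algebra.ofId k _) IsAlgClosed.algebraMap_bijective_of_isIntegral
  let φ : AlgebraicClosure k ⊗[k] L ≃ₐ[k] L :=
    (Algebra.TensorProduct.congr e.symm AlgEquiv.refl).trans (Algebra.TensorProduct.lid k L)
  exact isReduced_of_injective φ φ.injective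

/-- The normalisation of a henselian local domain with residue field `k`. -/
theorem normalization (A : Type u) [CommRing A] [IsDomain A] [HenselianLocalRing A] [Algebra k A]
    (hA : Function.Bijective ((residue A).comp (algebraMap k A))) :
    ∃ (A' : Type u) (_ : CommRing A') (_ : IsDomain A') (_ : IsIntegrallyClosed A') (_ : IsLocalRing A')
      (_ : Algebra k A') (j : A →ₐ[k] A'), Function.Injective j ∧ j.toRingHom.IsIntegral ∧
      (∀ x : A', ∃ a b : A, b ≠ 0 ∧ j b * x = j a) ∧ ∀ x : A', ∃ c : k, x - algebraMap k A' c ∈ maximalIdeal A' := by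
  let A' := integralClosure A (FractionRing A)
  haveI : IsIntegrallyClosed A' := integralClosure.isIntegrallyClosedOfFiniteExtension (FractionRing A)
  haveI := Groth.Agent.HenselLib.Olivier.isLocalRing_of_integral_domain (A := A) A'
  let j : A →ₐ[k] A' := IsScalarTower.toAlgHom k A A'
  have hj : Function.Injective j := fun a b h => IsFractionRing.injective A (FractionRing A) (congrArg Subtype.val h)
  refine ⟨A', inferInstance, inferInstance, inferInstance, inferInstance, inferInstance, j, hj,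
    Algebra.IsIntegral.isIntegral, fun x => ?_, fun x => ?_⟩
  · obtain ⟨a, b, hb, h⟩ := IsFractionRing.div_surjective (A := A) (x : FractionRing A)
    refine ⟨a, b, nonZeroDivisors.ne_zero hb, Subtype.ext ?_⟩
    show algebraMap A (FractionRing A) b * (x : FractionRing A) = algebraMap A (FractionRing A) a
    rw [← h, mul_div_cancel₀ _ (IsFractionRing.to_map_ne_zero_of_mem_nonZeroDivisors hb)]
  · haveI : IsLocalHom (algebraMap A A') := (algebraMap_isIntegral_iff.mpr inferInstance).isLocalHom hj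
    letI : Algebra k (ResidueField A') := ((residue A').comp (algebraMap k A')).toAlgebra
    letI : Algebra k (ResidueField A) := ((residue A).comp (algebraMap k A)).toAlgebra
    haveI : IsScalarTower k (ResidueField A) (ResidueField A') := IsScalarTower.of_algebraMap_eq fun _ => rfl
    haveI : Algebra.IsIntegral k (ResidueField A) := ⟨fun y => by
      obtain ⟨c, rfl⟩ := hA.2 y
      exact isIntegral_algebraMap (R := k) (A := ResidueField A) (x := c)⟩
    haveI : Algebra.IsIntegral A (ResidueField A') := Algebra.IsIntegral.trans A'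
    haveI : Algebra.IsIntegral (ResidueField A) (ResidueField A') := Algebra.IsIntegral.tower_top A
    haveI : Algebra.IsIntegral k (ResidueField A') := Algebra.IsIntegral.trans (ResidueField A)
    obtain ⟨c, hc⟩ := (IsAlgClosed.algebraMap_bijective_of_isIntegral (k := k) (K := ResidueField A')).2 (residue A' x)
    exact ⟨c, (residue_eq_zero_iff _).mp (by rw [map_sub, sub_eq_zero]; exact hc.symm)⟩

set_option maxHeartbeats 1600000 in
/-- The local ring of a product of two henselian local domains at the closed point. -/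
theorem unibranch (A B : Type u) [CommRing A] [IsDomain A] [HenselianLocalRing A] [Algebra k A] [CommRing B]
    [IsDomain B] [HenselianLocalRing B] [Algebra k B]
    (hA : Function.Bijective ((residue A).comp (algebraMap k A)))
    (hB : Function.Bijective ((residue B).comp (algebraMap k B))) (n : Ideal (A ⊗[k] B)) [n.IsPrime]
    (hnA : ∀ a ∈ maximalIdeal A, a ⊗ₜ[k] (1 : B) ∈ n) (hnB : ∀ b ∈ maximalIdeal B, (1 : A) ⊗ₜ[k] b ∈ n) :
    IsDomain (Localization.AtPrime n) ∧ CAlg2.IsGeomUnibranch (Localization.AtPrime n) := by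
  obtain ⟨A', _, _, _, _, _, jA, hjA, hiA, hfA, hrA⟩ := normalization A hA
  obtain ⟨B', _, _, _, _, _, jB, hjB, hiB, hfB, hrB⟩ := normalization B hB
  haveI := Groth.Agent.VarietyLib.isDomain_tensor_of_isAlgClosed k A B
  haveI := Groth.Agent.VarietyLib.isDomain_tensor_of_isAlgClosed k A' B'
  haveI := geomReduced (k := k) (FractionRing A')
  haveI := geomReduced (k := k) (FractionRing B')
  have hnorm := Groth.Agent.CommAlg6.NormalTensorSep.main k A' B'
  haveI hT'ic : IsIntegrallyClosed (A' ⊗[k] B') := IsIntegrallyClosed.of_localization_maximal fun P _ _ => (hnorm P).2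
  let φ : A ⊗[k] B →ₐ[k] A' ⊗[k] B' := Algebra.TensorProduct.map jA jB
  have hφ : Function.Injective φ := by
    have h : φ.toLinearMap = (jB.toLinearMap.lTensor A').comp (jA.toLinearMap.rTensor B) :=
      TensorProduct.ext' fun a b => rfl
    intro x y hxy
    have hxy' : φ.toLinearMap x = φ.toLinearMap y := hxy
    rw [h] at hxy'
    exact Module.Flat.rTensor_preserves_injective_linearMap (M := B) jA.toLinearMap hjA
      (Module.Flat.lTensor_preserves_injective_linearMap (M := A') jB.toLinearMap hjB hxy')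
  letI : Algebra (A ⊗[k] B) (A' ⊗[k] B') := φ.toRingHom.toAlgebra
  have hiL : ∀ x : A', IsIntegral (A ⊗[k] B) (x ⊗ₜ[k] (1 : B')) := fun x => by
    obtain ⟨f, hf, hfx⟩ := hiA x
    refine ⟨f.map (Algebra.TensorProduct.includeLeftRingHom : A →+* A ⊗[k] B), hf.map _, ?_⟩
    rw [Polynomial.eval₂_map,
      show (algebraMap (A ⊗[k] B) (A' ⊗[k] B')).comp Algebra.TensorProduct.includeLeftRingHom =
        (Algebra.TensorProduct.includeLeftRingHom : A' →+* A' ⊗[k] B').comp jA.toRingHom from RingHom.ext fun a => by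
          show φ (a ⊗ₜ 1) = jA a ⊗ₜ 1
          simp [φ],
      show x ⊗ₜ[k] (1 : B') = (Algebra.TensorProduct.includeLeftRingHom : A' →+* A' ⊗[k] B') x from rfl,
      ← Polynomial.hom_eval₂, hfx, map_zero]
  have hiR : ∀ y : B', IsIntegral (A ⊗[k] B) ((1 : A') ⊗ₜ[k] y) := fun y => by
    obtain ⟨f, hf, hfx⟩ := hiB y
    refine ⟨f.map (Algebra.TensorProduct.includeRight : B →ₐ[k] A ⊗[k] B).toRingHom, hf.map _, ?_⟩
    rw [Polynomial.eval₂_map,
      show (algebraMap (A ⊗[k] B) (A' ⊗[k] B')).comp (Algebra.TensorProduct.includeRight : B →ₐ[k] A ⊗[k] B).toRingHom =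
        (Algebra.TensorProduct.includeRight : B' →ₐ[k] A' ⊗[k] B').toRingHom.comp jB.toRingHom from RingHom.ext fun b => by
          show φ (1 ⊗ₜ b) = 1 ⊗ₜ jB b
          simp [φ],
      show (1 : A') ⊗ₜ[k] y = (Algebra.TensorProduct.includeRight : B' →ₐ[k] A' ⊗[k] B').toRingHom y from rfl,
      ← Polynomial.hom_eval₂, hfx, map_zero]
  haveI : Algebra.IsIntegral (A ⊗[k] B) (A' ⊗[k] B') := ⟨fun z => by
    induction z using TensorProduct.induction_on with
    | zero => exact isIntegral_zero
    | tmul x y =>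
      rw [show x ⊗ₜ[k] y = (x ⊗ₜ[k] (1 : B')) * ((1 : A') ⊗ₜ[k] y) by
        rw [Algebra.TensorProduct.tmul_mul_tmul, mul_one, one_mul]]
      exact (hiL x).mul (hiR y)
    | add u v hu hv => exact hu.add hv⟩
  -- every prime above `n` is the closed point
  have hmax : ∀ P : Ideal (A' ⊗[k] B'), P.IsPrime → P.comap φ.toRingHom = n →
      (∀ x ∈ maximalIdeal A', x ⊗ₜ[k] (1 : B') ∈ P) ∧ (∀ y ∈ maximalIdeal B', (1 : A') ⊗ₜ[k] y ∈ P) := by
    intro P _ hPn
    constructor
    · intro x hx
      let Q : Ideal A' := P.comap (Algebra.TensorProduct.includeLeftRingHom : A' →+* A' ⊗[k] B')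
      letI : Algebra A A' := jA.toRingHom.toAlgebra
      haveI : Algebra.IsIntegral A A' := ⟨hiA⟩
      haveI : Q.IsPrime := Ideal.IsPrime.comap _
      have hQ : Q.comap (algebraMap A A') = maximalIdeal A := ((maximalIdeal.isMaximal A).eq_of_le
        (Ideal.IsPrime.ne_top inferInstance) fun a ha => by
          show jA a ⊗ₜ[k] (1 : B') ∈ P
          have h1 : φ.toRingHom (a ⊗ₜ[k] (1 : B)) = jA a ⊗ₜ[k] (1 : B') := by simp [φ]
          rw [← h1, ← Ideal.mem_comap, hPn]
          exact hnA a ha).symm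
      have hQm : Q.IsMaximal :=
        Ideal.isMaximal_of_isIntegral_of_isMaximal_comap Q (hQ ▸ maximalIdeal.isMaximal A)
      rw [← IsLocalRing.eq_maximalIdeal hQm] at hx
      exact hx
    · intro y hy
      let Q : Ideal B' := P.comap (Algebra.TensorProduct.includeRight : B' →ₐ[k] A' ⊗[k] B').toRingHom
      letI : Algebra B B' := jB.toRingHom.toAlgebra
      haveI : Algebra.IsIntegral B B' := ⟨hiB⟩
      haveI : Q.IsPrime := Ideal.IsPrime.comap _
      have hQ : Q.comap (algebraMap B B') = maximalIdeal B := ((maximalIdeal.isMaximal B).eq_of_le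
        (Ideal.IsPrime.ne_top inferInstance) fun b hb => by
          show (1 : A') ⊗ₜ[k] jB b ∈ P
          have h1 : φ.toRingHom ((1 : A) ⊗ₜ[k] b) = (1 : A') ⊗ₜ[k] jB b := by simp [φ]
          rw [← h1, ← Ideal.mem_comap, hPn]
          exact hnB b hb).symm
      have hQm : Q.IsMaximal :=
        Ideal.isMaximal_of_isIntegral_of_isMaximal_comap Q (hQ ▸ maximalIdeal.isMaximal B)
      rw [← IsLocalRing.eq_maximalIdeal hQm] at hy
      exact hy
  let M : Ideal (A' ⊗[k] B') := (maximalIdeal A').map (Algebra.TensorProduct.includeLeftRingHom : A' →+* A' ⊗[k] B') ⊔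
    (maximalIdeal B').map (Algebra.TensorProduct.includeRight : B' →ₐ[k] A' ⊗[k] B').toRingHom
  have hscalar : ∀ z, ∃ c : k, z - algebraMap k (A' ⊗[k] B') c ∈ M := by
    intro z
    induction z using TensorProduct.induction_on with
    | zero => exact ⟨0, by simp⟩
    | tmul x y =>
      obtain ⟨a, ha⟩ := hrA x
      obtain ⟨b, hb⟩ := hrB y
      refine ⟨a * b, ?_⟩
      have e1 : algebraMap k (A' ⊗[k] B') (a * b) = algebraMap k A' a ⊗ₜ[k] algebraMap k B' b := by
        rw [map_mul]
        conv_lhs => rw [Algebra.TensorProduct.algebraMap_apply a, Algebra.TensorProduct.algebraMap_apply' b,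
          Algebra.TensorProduct.tmul_mul_tmul, mul_one, one_mul]
      have e2 : x ⊗ₜ[k] y - algebraMap k A' a ⊗ₜ[k] algebraMap k B' b =
          ((x - algebraMap k A' a) ⊗ₜ[k] (1 : B')) * ((1 : A') ⊗ₜ[k] y) +
          (algebraMap k A' a ⊗ₜ[k] (1 : B')) * ((1 : A') ⊗ₜ[k] (y - algebraMap k B' b)) := by
        simp only [TensorProduct.sub_tmul, TensorProduct.tmul_sub, sub_mul, mul_sub,
          Algebra.TensorProduct.tmul_mul_tmul, mul_one, one_mul]
        abel
      rw [e1, e2]
      exact M.add_mem (M.mul_mem_right _ (Ideal.mem_sup_left (Ideal.mem_map_of_mem _ ha)))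
        (M.mul_mem_left _ (Ideal.mem_sup_right (Ideal.mem_map_of_mem _ hb)))
    | add u v hu hv =>
      obtain ⟨a, ha⟩ := hu
      obtain ⟨b, hb⟩ := hv
      exact ⟨a + b, by rw [map_add, add_sub_add_comm]; exact M.add_mem ha hb⟩
  have huniq : ∀ P : Ideal (A' ⊗[k] B'), P.IsPrime → P.comap φ.toRingHom = n → P = M := by
    intro P hP hPn
    have hMP : M ≤ P := sup_le (Ideal.map_le_iff_le_comap.mpr (hmax P hP hPn).1)
      (Ideal.map_le_iff_le_comap.mpr (hmax P hP hPn).2)
    refine le_antisymm (fun z hz => ?_) hMP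
    obtain ⟨c, hc⟩ := hscalar z
    by_cases hc0 : c = 0
    · simpa [hc0] using hc
    · have h := P.sub_mem hz (hMP hc)
      rw [sub_sub_cancel] at h
      exact absurd (Ideal.eq_top_of_isUnit_mem _ h ((Ne.isUnit hc0).map _)) hP.ne_top
  -- the normalization of `(A ⊗ B)_n`
  let T := Localization.AtPrime n
  let W := Algebra.algebraMapSubmonoid (A' ⊗[k] B') n.primeCompl
  let C := Localization W
  letI : Algebra T C := localizationAlgebra n.primeCompl (A' ⊗[k] B')
  have hWle : W ≤ nonZeroDivisors (A' ⊗[k] B') := by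
    rintro _ ⟨s, hs, rfl⟩
    refine mem_nonZeroDivisors_of_ne_zero fun h0 => hs ?_
    rw [show s = 0 from hφ (h0.trans (map_zero φ).symm)]
    exact n.zero_mem
  haveI : IsDomain C := IsLocalization.isDomain_localization hWle
  haveI : IsIntegrallyClosed C := isIntegrallyClosed_of_isLocalization C W hWle
  have hTC : ∀ t : A ⊗[k] B, algebraMap T C (algebraMap (A ⊗[k] B) T t) = algebraMap (A' ⊗[k] B') C (φ t) :=
    fun t => IsLocalization.map_eq _ t
  haveI : Algebra.IsIntegral T C := algebraMap_isIntegral_iff.mp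
    (isIntegral_localization (R := A ⊗[k] B) (M := n.primeCompl) (S := A' ⊗[k] B') (Rₘ := T) (Sₘ := C))
  haveI : IsDomain T := IsLocalization.isDomain_localization n.primeCompl_le_nonZeroDivisors
  have hTCinj : Function.Injective (algebraMap T C) := by
    exact IsLocalization.map_injective_of_injective' (M := n.primeCompl) (S := A' ⊗[k] B') (Sₘ := C) (N := W) _
      (fun h0 => zero_notMem_nonZeroDivisors (hWle h0)) hφ
  have hmaxC : ∀ P : Ideal C, P.IsMaximal → P.comap (algebraMap (A' ⊗[k] B') C) = M := fun P hP => by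
    refine huniq _ (Ideal.IsPrime.comap _) ?_
    have h1 : P.comap (algebraMap T C) = maximalIdeal T :=
      IsLocalRing.eq_maximalIdeal (Ideal.isMaximal_comap_of_isIntegral_of_isMaximal P)
    rw [Ideal.comap_comap]
    have h2 : (algebraMap (A' ⊗[k] B') C).comp φ.toRingHom = (algebraMap T C).comp (algebraMap (A ⊗[k] B) T) :=
      RingHom.ext fun t => (hTC t).symm
    rw [h2, ← Ideal.comap_comap, h1]
    exact Localization.AtPrime.under_maximalIdeal (I := n)
  haveI : IsLocalRing C := by
    obtain ⟨P, hP⟩ := Ideal.exists_maximal C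
    exact IsLocalRing.of_unique_max_ideal ⟨P, hP, fun P' hP' => by
      rw [← IsLocalization.map_comap W C P, ← IsLocalization.map_comap W C P', Ideal.under, Ideal.under,
        hmaxC P hP, hmaxC P' hP']⟩
  have hMeq := hmaxC (maximalIdeal C) inferInstance
  have hfrac : ∀ z : A' ⊗[k] B', ∃ s t : A ⊗[k] B, s ≠ 0 ∧ φ s * z = φ t := by
    intro z
    induction z using TensorProduct.induction_on with
    | zero => exact ⟨1, 0, one_ne_zero, by simp⟩
    | tmul x y =>
      obtain ⟨a, a₂, ha₂, ha⟩ := hfA x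
      obtain ⟨b, b₂, hb₂, hb⟩ := hfB y
      refine ⟨(a₂ ⊗ₜ 1) * (1 ⊗ₜ b₂), a ⊗ₜ b, mul_ne_zero (fun h => ha₂ ?_) (fun h => hb₂ ?_), ?_⟩
      · exact (Algebra.TensorProduct.includeLeft_injective (S := k) (A := A) (B := B) (algebraMap k B).injective)
          (h.trans (map_zero (Algebra.TensorProduct.includeLeft : A →ₐ[k] A ⊗[k] B)).symm)
      · exact (Algebra.TensorProduct.includeRight_injective (A := A) (B := B) (algebraMap k A).injective)
          (h.trans (map_zero (Algebra.TensorProduct.includeRight : B →ₐ[k] A ⊗[k] B)).symm)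
      · rw [Algebra.TensorProduct.tmul_mul_tmul, mul_one, one_mul]
        simp [φ, ha, hb]
    | add u v hu hv =>
      obtain ⟨s, t, hs, h⟩ := hu
      obtain ⟨s', t', hs', h'⟩ := hv
      refine ⟨s * s', t * s' + t' * s, mul_ne_zero hs hs', ?_⟩
      rw [map_mul, map_add, map_mul, map_mul, ← h, ← h']
      ring
  refine ⟨inferInstance, Groth.Agent.EGA43.Unibranch.isGeomUnibranch_of_normalization (C := C) ?_ (fun c => ?_) fun x => ?_⟩
  · rw [nilradical_eq_zero, (RingHom.injective_iff_ker_eq_bot _).mp hTCinj]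
    rfl
  · obtain ⟨z, ⟨_, w, hw, rfl⟩, rfl⟩ := IsLocalization.exists_mk'_eq W c
    obtain ⟨s, t, hs, hst⟩ := hfrac z
    refine ⟨algebraMap (A ⊗[k] B) T (w * s), ?_, algebraMap (A ⊗[k] B) T t, ?_⟩
    · rw [mem_nilradical, isNilpotent_iff_eq_zero, IsLocalization.to_map_eq_zero_iff T n.primeCompl_le_nonZeroDivisors]
      exact mul_ne_zero (fun h => hw (h ▸ n.zero_mem)) hs
    · rw [hTC, hTC, map_mul, map_mul, mul_comm (algebraMap _ C (φ w)), mul_assoc, mul_comm (algebraMap _ C (φ w))]
      erw [IsLocalization.mk'_spec]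
      rw [← map_mul, hst]
  · obtain ⟨c, rfl⟩ := Ideal.Quotient.mk_surjective x
    obtain ⟨z, ⟨_, w, hw, rfl⟩, rfl⟩ := IsLocalization.exists_mk'_eq W c
    obtain ⟨a, ha⟩ := hscalar z
    obtain ⟨b, hb⟩ := hscalar (φ w)
    have hmem : ∀ v, v ∈ M → algebraMap (A' ⊗[k] B') C v ∈ maximalIdeal C := fun v hv => by
      rw [← Ideal.mem_comap, hMeq]; exact hv
    have hb0 : b ≠ 0 := by
      rintro rfl
      rw [map_zero, sub_zero] at hb
      exact (mem_maximalIdeal _).mp (hmem _ hb) (IsLocalization.map_units C (⟨φ w, w, hw, rfl⟩ : W))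
    refine ⟨0, algebraMap k T (a / b), ?_⟩
    rw [pow_zero, pow_one, RingHom.comp_apply]
    refine Ideal.Quotient.eq.mpr ?_
    let κ : k →+* C := (algebraMap (A' ⊗[k] B') C).comp (algebraMap k (A' ⊗[k] B'))
    have hk : algebraMap T C (algebraMap k T (a / b)) = κ (a / b) := by
      rw [IsScalarTower.algebraMap_apply k (A ⊗[k] B) T, hTC, AlgHom.commutes]
      rfl
    rw [hk]
    set mz : C := IsLocalization.mk' C z (⟨φ w, w, hw, rfl⟩ : W) with hmz
    have hspec : mz * algebraMap _ C (φ w) = algebraMap _ C z := IsLocalization.mk'_spec C z _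
    have h1 : (κ (a / b) - mz) * algebraMap _ C (φ w) ∈ maximalIdeal C := by
      have e : (κ (a / b) - mz) * algebraMap _ C (φ w) =
          κ (a / b) * algebraMap _ C (φ w - algebraMap k _ b) - algebraMap _ C (z - algebraMap k _ a) := by
        have e3 : κ (a / b) * κ b = κ a := by rw [← map_mul, div_mul_cancel₀ _ hb0]
        simp only [κ, RingHom.comp_apply] at e3 ⊢
        rw [sub_mul, hspec, map_sub, map_sub, mul_sub, e3]
        ring
      rw [e]
      exact sub_mem (Ideal.mul_mem_left _ _ (hmem _ hb)) (hmem _ ha)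
    exact ((Ideal.IsPrime.mem_or_mem inferInstance h1).resolve_right fun h =>
      (mem_maximalIdeal _).mp h (IsLocalization.map_units C (⟨φ w, w, hw, rfl⟩ : W)))

set_option maxHeartbeats 1600000 in
/-- The local ring of the product of two quotients. -/
theorem quotient_unibranch (A B : Type u) [CommRing A] [HenselianLocalRing A] [Algebra k A] [CommRing B]
    [HenselianLocalRing B] [Algebra k B]
    (hA : Function.Bijective ((residue A).comp (algebraMap k A)))
    (hB : Function.Bijective ((residue B).comp (algebraMap k B))) (p : Ideal A) [p.IsPrime] (q : Ideal B) [q.IsPrime]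
    (n : Ideal (A ⊗[k] B)) [n.IsPrime]
    (hnA : ∀ a ∈ maximalIdeal A, a ⊗ₜ[k] (1 : B) ∈ n) (hnB : ∀ b ∈ maximalIdeal B, (1 : A) ⊗ₜ[k] b ∈ n) :
    let J : Ideal (A ⊗[k] B) := p.map (Algebra.TensorProduct.includeLeft : A →ₐ[k] A ⊗[k] B) ⊔
      q.map (Algebra.TensorProduct.includeRight : B →ₐ[k] A ⊗[k] B)
    J ≤ n ∧ J.IsPrime ∧ (J.comap (Algebra.TensorProduct.includeLeft : A →ₐ[k] A ⊗[k] B).toRingHom = p) ∧
      (J.comap (Algebra.TensorProduct.includeRight : B →ₐ[k] A ⊗[k] B).toRingHom = q) ∧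
      ∀ [IsLocalRing (Localization.AtPrime n ⧸ J.map (algebraMap (A ⊗[k] B) (Localization.AtPrime n)))],
        IsDomain (Localization.AtPrime n ⧸ J.map (algebraMap (A ⊗[k] B) (Localization.AtPrime n))) ∧
        CAlg2.IsGeomUnibranch (Localization.AtPrime n ⧸ J.map (algebraMap (A ⊗[k] B) (Localization.AtPrime n))) := by
  intro J
  haveI hlA : IsLocalRing (A ⧸ p) := .of_surjective' _ Ideal.Quotient.mk_surjective
  haveI hlB : IsLocalRing (B ⧸ q) := .of_surjective' _ Ideal.Quotient.mk_surjective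
  haveI : HenselianLocalRing (A ⧸ p) := Groth.Agent.HenselLib.henselianLocalRing_of_isIntegral A (A ⧸ p)
  haveI : HenselianLocalRing (B ⧸ q) := Groth.Agent.HenselLib.henselianLocalRing_of_isIntegral B (B ⧸ q)
  have hres : ∀ (R : Type u) [CommRing R] [IsLocalRing R] [Algebra k R] (I : Ideal R) [IsLocalRing (R ⧸ I)],
      Function.Bijective ((residue R).comp (algebraMap k R)) →
      Function.Bijective ((residue (R ⧸ I)).comp (algebraMap k (R ⧸ I))) := by
    intro R _ _ _ I _ hR
    haveI : IsLocalHom (Ideal.Quotient.mk I) := Function.Surjective.isLocalHom _ Ideal.Quotient.mk_surjective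
    refine ⟨RingHom.injective _, fun y => ?_⟩
    obtain ⟨y, rfl⟩ := residue_surjective y
    obtain ⟨r, rfl⟩ := Ideal.Quotient.mk_surjective y
    obtain ⟨c, hc⟩ := hR.2 (residue R r)
    exact ⟨c, congrArg (ResidueField.map (Ideal.Quotient.mk I)) hc⟩
  let ψ : A ⊗[k] B →ₐ[k] (A ⧸ p) ⊗[k] (B ⧸ q) :=
    Algebra.TensorProduct.map (Ideal.Quotient.mkₐ k p) (Ideal.Quotient.mkₐ k q)
  have hsurj : Function.Surjective ψ := fun y => by
    induction y using TensorProduct.induction_on with
    | zero => exact ⟨0, map_zero _⟩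
    | tmul a b =>
      obtain ⟨a, rfl⟩ := Ideal.Quotient.mk_surjective a
      obtain ⟨b, rfl⟩ := Ideal.Quotient.mk_surjective b
      exact ⟨a ⊗ₜ b, rfl⟩
    | add u v hu hv =>
      obtain ⟨u, rfl⟩ := hu
      obtain ⟨v, rfl⟩ := hv
      exact ⟨u + v, map_add _ _ _⟩
  have hker : RingHom.ker ψ = J := by
    rw [Algebra.TensorProduct.map_ker _ _ Ideal.Quotient.mk_surjective Ideal.Quotient.mk_surjective]
    rw [show RingHom.ker (Ideal.Quotient.mkₐ k p) = p from Ideal.Quotient.mkₐ_ker k p,
      show RingHom.ker (Ideal.Quotient.mkₐ k q) = q from Ideal.Quotient.mkₐ_ker k q]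
  haveI := Groth.Agent.VarietyLib.isDomain_tensor_of_isAlgClosed k (A ⧸ p) (B ⧸ q)
  have hJp : J.IsPrime := hker ▸ RingHom.ker_isPrime ψ
  have hJn : J ≤ n := sup_le
    (Ideal.map_le_iff_le_comap.mpr fun a ha => hnA a (le_maximalIdeal (Ideal.IsPrime.ne_top ‹_›) ha))
    (Ideal.map_le_iff_le_comap.mpr fun b hb => hnB b (le_maximalIdeal (Ideal.IsPrime.ne_top ‹_›) hb))
  refine ⟨hJn, hJp, ?_, ?_, ?_⟩
  · refine le_antisymm (fun a ha => ?_) fun a ha => Ideal.mem_sup_left (Ideal.mem_map_of_mem _ ha)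
    have h1 : ψ (a ⊗ₜ 1) = 0 := RingHom.mem_ker.mp (by rw [hker]; exact ha)
    rw [Algebra.TensorProduct.map_tmul, map_one] at h1
    exact Ideal.Quotient.eq_zero_iff_mem.mp
      ((Algebra.TensorProduct.includeLeft_injective (S := k) (A := A ⧸ p) (B := B ⧸ q) (algebraMap k (B ⧸ q)).injective)
        (h1.trans (map_zero (Algebra.TensorProduct.includeLeft : A ⧸ p →ₐ[k] (A ⧸ p) ⊗[k] (B ⧸ q))).symm))
  · refine le_antisymm (fun b hb => ?_) fun b hb => Ideal.mem_sup_right (Ideal.mem_map_of_mem _ hb)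
    have h1 : ψ (1 ⊗ₜ b) = 0 := RingHom.mem_ker.mp (by rw [hker]; exact hb)
    rw [Algebra.TensorProduct.map_tmul, map_one] at h1
    exact Ideal.Quotient.eq_zero_iff_mem.mp
      ((Algebra.TensorProduct.includeRight_injective (A := A ⧸ p) (B := B ⧸ q) (algebraMap k (A ⧸ p)).injective)
        (h1.trans (map_zero (Algebra.TensorProduct.includeRight : B ⧸ q →ₐ[k] (A ⧸ p) ⊗[k] (B ⧸ q))).symm))
  · intro _
    let n' : Ideal ((A ⧸ p) ⊗[k] (B ⧸ q)) := n.map ψ.toRingHom
    have hkn : RingHom.ker ψ.toRingHom ≤ n := by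
      intro x hx
      exact hJn (hker ▸ hx)
    haveI : n'.IsPrime := Ideal.map_isPrime_of_surjective (f := ψ.toRingHom) hsurj hkn
    have hmem : ∀ x, ψ x ∈ n' ↔ x ∈ n := fun x => by
      show x ∈ (n.map ψ.toRingHom).comap ψ.toRingHom ↔ _
      rw [Ideal.comap_map_of_surjective ψ.toRingHom hsurj, ← RingHom.ker_eq_comap_bot, sup_eq_left.mpr hkn]
    obtain ⟨hdom, hu⟩ := unibranch (A ⧸ p) (B ⧸ q) (hres A p hA) (hres B q hB) n'
      (fun a ha => by
        obtain ⟨a, rfl⟩ := Ideal.Quotient.mk_surjective a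
        have := (hmem (a ⊗ₜ 1)).mpr (hnA a ((mem_maximalIdeal _).mpr fun hu => (mem_maximalIdeal _).mp ha (hu.map _)))
        rwa [Algebra.TensorProduct.map_tmul, map_one] at this)
      (fun b hb => by
        obtain ⟨b, rfl⟩ := Ideal.Quotient.mk_surjective b
        have := (hmem (1 ⊗ₜ b)).mpr (hnB b ((mem_maximalIdeal _).mpr fun hu => (mem_maximalIdeal _).mp hb (hu.map _)))
        rwa [Algebra.TensorProduct.map_tmul, map_one] at this)
    have hM : n.primeCompl.map ψ.toRingHom = n'.primeCompl := by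
      ext y
      simp only [Submonoid.mem_map]
      constructor
      · rintro ⟨x, hx, rfl⟩; exact fun h => hx ((hmem x).mp h)
      · intro hy
        obtain ⟨x, rfl⟩ := hsurj y
        exact ⟨x, fun h => hy ((hmem x).mpr h), rfl⟩
    haveI : IsLocalization (n.primeCompl.map ψ.toRingHom) (Localization.AtPrime n') := by rw [hM]; infer_instance
    let χ : Localization.AtPrime n →+* Localization.AtPrime n' :=
      IsLocalization.map _ ψ.toRingHom n.primeCompl.le_comap_map
    have hχker : RingHom.ker χ = J.map (algebraMap (A ⊗[k] B) (Localization.AtPrime n)) := by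
      rw [← hker]
      exact IsLocalization.ker_map (T := n.primeCompl.map ψ.toRingHom) _ _ rfl
    let φ := (Ideal.quotEquivOfEq hχker.symm).trans (RingHom.quotientKerEquivOfSurjective
      (f := χ) (IsLocalization.map_surjective_of_surjective _ _ _ hsurj))
    exact ⟨φ.injective.isDomain, Groth.Agent.EGA43.Unibranch.isGeomUnibranch_of_ringEquiv φ.symm hu⟩

end helpers

open TensorProduct IsLocalRing in
set_option backward.isDefEq.respectTransparency false in
set_option maxHeartbeats 1600000 in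
/-- Let `k` be an algebraically closed field and `A`, `B` henselian local `k`-algebras with residue
field `k` (the composites `k → A → A/m_A` and `k → B → B/m_B` are bijective; as `k` is algebraically
closed, `A` and `B` are strictly henselian). Let `𝔪 = m_A ⊗ B + A ⊗ m_B`, a maximal ideal of `A ⊗_k
B`, and let `C` be a strict henselization of the local ring `(A ⊗_k B)_𝔪`. Then sending a prime of
`C` to the pair of its preimages in `A` and in `B` is a bijection from the set of minimal primes of
`C` onto the set of pairs (minimal prime of `A`, minimal prime of `B`). -/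
theorem result {k A B C : Type u} [Field k]
    [IsAlgClosed k] [CommRing A] [CommRing B] [HenselianLocalRing A] [HenselianLocalRing B]
    [Algebra k A] [Algebra k B]
    (hA : Function.Bijective ((residue A).comp (algebraMap k A)))
    (hB : Function.Bijective ((residue B).comp (algebraMap k B)))
    (𝔪 : Ideal (A ⊗[k] B)) [𝔪.IsPrime]
    (h𝔪 : 𝔪 = (maximalIdeal A).map (Algebra.TensorProduct.includeLeft : A →ₐ[k] A ⊗[k] B) ⊔
      (maximalIdeal B).map (Algebra.TensorProduct.includeRight : B →ₐ[k] A ⊗[k] B))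
    [CommRing C] [IsLocalRing C] [Algebra (Localization.AtPrime 𝔪) C]
    [IsLocalHom (algebraMap (Localization.AtPrime 𝔪) C)]
    [Hensel.IsStrictHenselization (Localization.AtPrime 𝔪) C] :
    Set.BijOn
      (fun 𝔯 : Ideal C =>
        (𝔯.comap ((algebraMap (Localization.AtPrime 𝔪) C).comp
            ((algebraMap (A ⊗[k] B) (Localization.AtPrime 𝔪)).comp
              (Algebra.TensorProduct.includeLeft : A →ₐ[k] A ⊗[k] B).toRingHom)),
          𝔯.comap ((algebraMap (Localization.AtPrime 𝔪) C).comp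
            ((algebraMap (A ⊗[k] B) (Localization.AtPrime 𝔪)).comp
              (Algebra.TensorProduct.includeRight : B →ₐ[k] A ⊗[k] B).toRingHom))))
      (minimalPrimes C) (minimalPrimes A ×ˢ minimalPrimes B) := by
  open TensorProduct in
  let iA : A →ₐ[k] (A ⊗[k] B) := Algebra.TensorProduct.includeLeft
  let iB : B →ₐ[k] (A ⊗[k] B) := Algebra.TensorProduct.includeRight
  have hnA : ∀ a ∈ maximalIdeal A, a ⊗ₜ[k] (1 : B) ∈ 𝔪 := fun a ha => by
    rw [h𝔪]; exact Ideal.mem_sup_left (Ideal.mem_map_of_mem _ ha)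
  have hnB : ∀ b ∈ maximalIdeal B, (1 : A) ⊗ₜ[k] b ∈ 𝔪 := fun b hb => by
    rw [h𝔪]; exact Ideal.mem_sup_right (Ideal.mem_map_of_mem _ hb)
  obtain ⟨e⟩ := Groth.Agent.HenselLib.exists_equiv_localSH C (R := (Localization.AtPrime 𝔪))
  haveI : Module.Flat (Localization.AtPrime 𝔪) C := Module.Flat.of_linearEquiv e.symm.toLinearEquiv
  haveI : Module.FaithfullyFlat (Localization.AtPrime 𝔪) C := Module.FaithfullyFlat.of_flat_of_isLocalHom
  let fA : A →+* C := (algebraMap (Localization.AtPrime 𝔪) C).comp ((algebraMap (A ⊗[k] B) (Localization.AtPrime 𝔪)).comp iA.toRingHom)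
  let fB : B →+* C := (algebraMap (Localization.AtPrime 𝔪) C).comp ((algebraMap (A ⊗[k] B) (Localization.AtPrime 𝔪)).comp iB.toRingHom)
  have hf0 : ((algebraMap (Localization.AtPrime 𝔪) C).comp (algebraMap (A ⊗[k] B) (Localization.AtPrime 𝔪))).Flat :=
    RingHom.Flat.comp (RingHom.flat_algebraMap_iff.mpr inferInstance) (RingHom.flat_algebraMap_iff.mpr inferInstance)
  have hflA : fA.Flat := RingHom.Flat.comp (S := (A ⊗[k] B))
    (show iA.toRingHom.Flat from RingHom.flat_algebraMap_iff.mpr (inferInstance : Module.Flat A (A ⊗[k] B))) hf0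
  have hflB : fB.Flat := RingHom.Flat.comp (S := (A ⊗[k] B))
    (show iB.toRingHom.Flat by
      have h1 : (Algebra.TensorProduct.includeLeftRingHom : B →+* B ⊗[k] A).Flat :=
        RingHom.flat_algebraMap_iff.mpr (inferInstance : Module.Flat B (B ⊗[k] A))
      have h2 := RingHom.Flat.comp h1 (RingHom.Flat.of_bijective
        (f := (Algebra.TensorProduct.comm k B A).toAlgHom.toRingHom) (Algebra.TensorProduct.comm k B A).bijective)
      convert h2 using 1
      exact RingHom.ext fun b => by simp [iB]) hf0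
  have hmin : ∀ (R : Type u) [CommRing R] (f : R →+* C), f.Flat → ∀ r ∈ minimalPrimes C, r.comap f ∈ minimalPrimes R := by
    intro R _ f hf r hr
    letI := f.toAlgebra
    haveI : Module.Flat R C := hf
    haveI : r.IsPrime := hr.1.1
    obtain ⟨p, hp, hle⟩ := Ideal.exists_minimalPrimes_le (show (⊥ : Ideal R) ≤ r.comap f from bot_le)
    haveI : p.IsPrime := hp.1.1
    haveI : r.LiesOver (r.comap f) := ⟨rfl⟩
    obtain ⟨P, hPle, hPp, hPl⟩ := Ideal.exists_ideal_le_liesOver_of_le (R := R) (S := C) (p := p) (q := r.comap f) r hle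
    have : r ≤ P := hr.2 ⟨hPp, bot_le⟩ hPle
    rw [le_antisymm hPle this] at hPl
    rw [show r.comap f = p from hPl.over.symm]
    exact hp
  -- the extension of a pair of minimal primes
  let JC : Ideal A → Ideal B → Ideal C := fun p q => ((p.map iA ⊔ q.map iB).map (algebraMap (A ⊗[k] B) (Localization.AtPrime 𝔪))).map (algebraMap (Localization.AtPrime 𝔪) C)
  have hJC : ∀ (p : Ideal A) (q : Ideal B), p.IsPrime → q.IsPrime →
      (JC p q).IsPrime ∧ (JC p q).comap fA = p ∧ (JC p q).comap fB = q := by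
    intro p q hp hq
    obtain ⟨hJn, hJp, hcA, hcB, hQ⟩ := quotient_unibranch A B hA hB p q 𝔪 hnA hnB
    set J : Ideal (A ⊗[k] B) := p.map iA ⊔ q.map iB
    have hJ₀ : J.map (algebraMap (A ⊗[k] B) (Localization.AtPrime 𝔪)) ≤ maximalIdeal (Localization.AtPrime 𝔪) :=
      (Ideal.map_mono hJn).trans (Localization.AtPrime.map_eq_maximalIdeal (I := 𝔪)).le
    obtain ⟨h1, h2, hloc, hSH⟩ := Groth.Agent.CAlgH.StrictHenselExtended.exists_strict_quotient (Localization.AtPrime 𝔪) C _ hJ₀
    letI := RingHom.toAlgebra (R := (Localization.AtPrime 𝔪) ⧸ (J.map (algebraMap (A ⊗[k] B) (Localization.AtPrime 𝔪)))) (S := C ⧸ (J.map (algebraMap (A ⊗[k] B) (Localization.AtPrime 𝔪))).map (algebraMap (Localization.AtPrime 𝔪) C)) (Ideal.quotientMap _ (algebraMap (Localization.AtPrime 𝔪) C) Ideal.le_comap_map)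
    haveI : IsLocalHom (algebraMap ((Localization.AtPrime 𝔪) ⧸ J.map (algebraMap (A ⊗[k] B) (Localization.AtPrime 𝔪))) (C ⧸ (J.map (algebraMap (A ⊗[k] B) (Localization.AtPrime 𝔪))).map (algebraMap (Localization.AtPrime 𝔪) C))) := by
      rw [RingHom.algebraMap_toAlgebra]
      exact hloc
    haveI := hSH
    obtain ⟨hdom, hu⟩ := @hQ h1
    haveI := hdom
    haveI : IsDomain (C ⧸ (J.map (algebraMap (A ⊗[k] B) (Localization.AtPrime 𝔪))).map (algebraMap (Localization.AtPrime 𝔪) C)) :=
      (Groth.Agent.S2750.result ((Localization.AtPrime 𝔪) ⧸ J.map (algebraMap (A ⊗[k] B) (Localization.AtPrime 𝔪))) _).1 ⟨inferInstance, hu⟩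
    have hJ : (JC p q).comap ((algebraMap (Localization.AtPrime 𝔪) C).comp (algebraMap (A ⊗[k] B) (Localization.AtPrime 𝔪))) = J := by
      rw [← Ideal.comap_comap]
      show ((((J.map (algebraMap (A ⊗[k] B) (Localization.AtPrime 𝔪))).map (algebraMap (Localization.AtPrime 𝔪) C))).comap (algebraMap (Localization.AtPrime 𝔪) C)).comap (algebraMap (A ⊗[k] B) (Localization.AtPrime 𝔪)) = J
      rw [Ideal.comap_map_eq_self_of_faithfullyFlat]
      exact IsLocalization.comap_map_of_isPrime_disjoint 𝔪.primeCompl (Localization.AtPrime 𝔪) hJp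
        (Set.disjoint_left.mpr fun x hx hx' => hx (hJn hx'))
    refine ⟨(Ideal.Quotient.isDomain_iff_prime _).mp inferInstance, ?_, ?_⟩
    · show (JC p q).comap (((algebraMap (Localization.AtPrime 𝔪) C).comp (algebraMap (A ⊗[k] B) (Localization.AtPrime 𝔪))).comp iA.toRingHom) = p
      rw [← Ideal.comap_comap, hJ]
      exact hcA
    · show (JC p q).comap (((algebraMap (Localization.AtPrime 𝔪) C).comp (algebraMap (A ⊗[k] B) (Localization.AtPrime 𝔪))).comp iB.toRingHom) = q
      rw [← Ideal.comap_comap, hJ]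
      exact hcB
  have hle : ∀ r : Ideal C, r.IsPrime → JC (r.comap fA) (r.comap fB) ≤ r := fun r _ => by
    simp only [JC, Ideal.map_le_iff_le_comap, Ideal.comap_comap, sup_le_iff]
    exact ⟨le_rfl, le_rfl⟩
  have heq : ∀ r ∈ minimalPrimes C, JC (r.comap fA) (r.comap fB) = r := fun r hr => by
    haveI : r.IsPrime := hr.1.1
    exact le_antisymm (hle r inferInstance)
      (hr.2 ⟨(hJC _ _ (Ideal.IsPrime.comap _) (Ideal.IsPrime.comap _)).1, bot_le⟩ (hle r inferInstance))
  refine ⟨fun r hr => ⟨hmin A fA hflA r hr, hmin B fB hflB r hr⟩, fun r hr r' hr' h => ?_, fun ⟨p, q⟩ ⟨hp, hq⟩ => ?_⟩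
  · obtain ⟨h1, h2⟩ := Prod.mk.inj h
    rw [← heq r hr, ← heq r' hr']
    exact congrArg₂ JC h1 h2
  · obtain ⟨hP, hPA, hPB⟩ := hJC p q hp.1.1 hq.1.1
    haveI := hP
    obtain ⟨r, hr, hrle⟩ := Ideal.exists_minimalPrimes_le (show (⊥ : Ideal C) ≤ JC p q from bot_le)
    haveI : r.IsPrime := hr.1.1
    refine ⟨r, hr, Prod.ext ?_ ?_⟩
    · exact le_antisymm ((Ideal.comap_mono hrle).trans hPA.le) (hp.2 ⟨Ideal.IsPrime.comap _, bot_le⟩
        ((Ideal.comap_mono hrle).trans hPA.le))
    · exact le_antisymm ((Ideal.comap_mono hrle).trans hPB.le) (hq.2 ⟨Ideal.IsPrime.comap _, bot_le⟩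
        ((Ideal.comap_mono hrle).trans hPB.le))

end Groth.Agent.S9327
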