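import Groth.Statements.S9328
import Groth.Agent.TameKum.Iff

set_option linter.style.haveILetI false
-- import your own Groth.Agent.* helpers here

set_option autoImplicit false
universe u
open EtRam

namespace Groth.Agent.S9328

open Polynomial IsLocalRing in
/-- Let `K` be the fraction field of a discrete valuation ring `A`, let `π` be a uniformizer of `A`, and
let `L` be a finite separable extension of `K`. For `e ≥ 1` write `A' = A[z]/(z^e - π)`, a discrete
valuation ring whose fraction field is `K' = K[π^{1/e}]`. Then `L` is tamely ramified with respect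
to `A` if and only if there exist `e ≥ 1` invertible in the residue field of `A` and a finite
separable extension `L'` of `K` into which `L` embeds over `K`, carrying an `A'`-algebra structure
extending `A → K → L'` (so `K' ⊆ L'`), such that `L'` is unramified with respect to `A'`. (The
local-ring instance on `A'`, which holds, is quantified as a hypothesis.) -/
theorem result {A K L : Type u} [CommRing A] [IsDomain A]
    [IsDiscreteValuationRing A] [Field K] [Algebra A K] [IsFractionRing A K] [Field L] [Algebra K L]
    [Algebra A L] [IsScalarTower A K L] [FiniteDimensional K L] [Algebra.IsSeparable K L]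
    (π : A) (hπ : maximalIdeal A = Ideal.span {π}) :
    EtRam.IsTamelyRamified A (algebraMap A L) ↔
      ∃ e : ℕ, 0 < e ∧ (e : ResidueField A) ≠ 0 ∧
        ∃ (L' : Type u) (_ : Field L') (_ : Algebra K L')
          (_ : Algebra (AdjoinRoot (X ^ e - C π : A[X])) L') (_ : L →ₐ[K] L'),
          FiniteDimensional K L' ∧ Algebra.IsSeparable K L' ∧
          (algebraMap (AdjoinRoot (X ^ e - C π : A[X])) L').comp (AdjoinRoot.of (X ^ e - C π)) =
            (algebraMap K L').comp (algebraMap A K) ∧
          ∀ [IsLocalRing (AdjoinRoot (X ^ e - C π : A[X]))],
            EtRam.IsUnramifiedExt (AdjoinRoot (X ^ e - C π : A[X]))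
              (algebraMap (AdjoinRoot (X ^ e - C π : A[X])) L') := by
  rw [IsScalarTower.algebraMap_eq A K L]
  constructor
  · intro h
    obtain ⟨e₀, he, heA, hdvd⟩ := Groth.Agent.TameKum.exists_exponent h
    exact ⟨e₀, he, heA, Groth.Agent.TameKum.exists_unramified h hπ e₀ he heA hdvd⟩
  · rintro ⟨e, he, heA, L', hF, hKL', hA'L', φ, hfin, hsep, hcomp, hunr⟩
    haveI := hfin
    haveI := hsep
    letI : Algebra L L' := φ.toRingHom.toAlgebra
    haveI : IsScalarTower K L L' := IsScalarTower.of_algebraMap_eq fun x => (φ.commutes x).symm
    exact (Groth.Agent.CohDer1.TameTower.main A K L L').1 (Groth.Agent.TameKum.tame_of_unramified hπ e he heA hcomp hunr)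

end Groth.Agent.S9328
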