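import Groth.Statements.S9330
import Groth.Agent.HenselLib.Perm
import Groth.Agent.S1998

set_option autoImplicit false
universe u
open Hensel

namespace Groth.Agent.S9330

/-- Let `(A_i, I_i)` be a directed system of pairs (rings `A_i` with ideals `I_i`, the transition maps
sending `I_i` into `I_j`), with colimit ring `A` and `I ⊆ A` the ideal generated by (equivalently,
the union of) the images of the `I_i`. For each `i` let `B_i` be a henselization of the pair `(A_i,
I_i)`, with the compatible transition maps `B_i → B_j` over `A_i → A_j` (these are the induced ones,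
being unique), and give the colimit of the `B_i` the `A`-algebra structure induced by the maps `A_i
→ B_i`. Then `colim B_i`, with the extension of `I`, is a henselization of the pair `(A, I)`. (The
index set is taken in the universe of the rings; the statement fails for non-filtered colimits.) -/
theorem result {ι : Type u} [Preorder ι] [IsDirectedOrder ι] [Nonempty ι]
    (G : ι → Type u) [∀ i, CommRing (G i)] (f : ∀ i j : ι, i ≤ j → (G i →+* G j))
    [DirectedSystem G (fun i j h => f i j h)] (I : ∀ i, Ideal (G i))
    (hI : ∀ (i j : ι) (h : i ≤ j), (I i).map (f i j h) ≤ I j)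
    (B : ι → Type u) [∀ i, CommRing (B i)] [∀ i, Algebra (G i) (B i)]
    (hB : ∀ i, Hens2.IsPairHenselization (G i) (I i) (B i))
    (g : ∀ i j : ι, i ≤ j → (B i →+* B j)) [DirectedSystem B (fun i j h => g i j h)]
    (hg : ∀ (i j : ι) (h : i ≤ j), (g i j h).comp (algebraMap (G i) (B i)) = (algebraMap (G j) (B j)).comp (f i j h))
    [Algebra (DirectLimit G f) (DirectLimit B g)]
    (halg : ∀ (i : ι) (x : G i), algebraMap (DirectLimit G f) (DirectLimit B g) (DirectLimit.Ring.of G f i x) =
      DirectLimit.Ring.of B g i (algebraMap (G i) (B i) x)) :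
    Hens2.IsPairHenselization (DirectLimit G f) (⨆ i, (I i).map (DirectLimit.Ring.of G f i))
      (DirectLimit B g) := by
  classical
  set A := DirectLimit G f
  let oA : ∀ i, G i →+* A := fun i => DirectLimit.Ring.of G f i
  let oB : ∀ i, B i →+* DirectLimit B g := fun i => DirectLimit.Ring.of B g i
  have hcomm : ∀ i, (algebraMap A (DirectLimit B g)).comp (oA i) =
      (oB i).comp (algebraMap (G i) (B i)) := fun i => RingHom.ext (halg i)
  refine ⟨?_, fun C _ J h hJ hle => ?_⟩
  · have hI' : ∀ i j (hij : i ≤ j), ((I i).map (algebraMap (G i) (B i))).map (g i j hij) ≤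
        (I j).map (algebraMap (G j) (B j)) := fun i j hij => by
      rw [Ideal.map_map, hg i j hij, ← Ideal.map_map]
      exact Ideal.map_mono (hI i j hij)
    have h1 := Groth.Agent.S1998.result B g (fun i => (I i).map (algebraMap (G i) (B i))) hI'
      (fun i => (hB i).1)
    let e := Ring.DirectLimit.ringEquiv B g
    have he : ∀ i, e.toRingHom.comp
        (Ring.DirectLimit.of B (fun i j hij => g i j hij) i) = oB i := fun i =>
      RingHom.ext fun x => Ring.DirectLimit.ringEquiv_of B g
    let := e.toRingHom.toAlgebra
    have : Algebra.IsIntegral (Ring.DirectLimit B fun i j hij => g i j hij) (DirectLimit B g) :=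
      ⟨fun y => by
        obtain ⟨x, rfl⟩ := e.surjective y
        exact isIntegral_algebraMap⟩
    have := h1
    have h2 := Groth.Agent.HenselLib.henselianRing_of_isIntegral
      (⨆ i, ((I i).map (algebraMap (G i) (B i))).map
        (Ring.DirectLimit.of B (fun i j hij => g i j hij) i)) (DirectLimit B g)
    have heq : (⨆ i, ((I i).map (algebraMap (G i) (B i))).map
        (Ring.DirectLimit.of B (fun i j hij => g i j hij) i)).map e.toRingHom =
        (⨆ i, (I i).map (oA i)).map (algebraMap A (DirectLimit B g)) := by
      simp only [Ideal.map_iSup, Ideal.map_map, ← RingHom.comp_assoc, he, hcomm]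
    exact heq ▸ h2
  · have hle' : ∀ i, (I i).map (h.comp (oA i)) ≤ J := fun i => by
      rw [← Ideal.map_map]
      exact (Ideal.map_mono (le_iSup (fun i => (I i).map (oA i)) i)).trans hle
    choose k hk huniq using fun i => (hB i).2 C J (h.comp (oA i)) hJ (hle' i)
    have hcompat : ∀ i j (hij : i ≤ j) x, k j (g i j hij x) = k i x := fun i j hij x => by
      have h1 : (k j).comp (g i j hij) = k i := huniq i _ (by
        show ((k j).comp (g i j hij)).comp (algebraMap (G i) (B i)) = _
        rw [RingHom.comp_assoc, hg i j hij, ← RingHom.comp_assoc, hk j, RingHom.comp_assoc]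
        exact congrArg h.comp (RingHom.ext fun x => DirectLimit.Ring.of_f ..))
      exact congr($h1 x)
    refine ⟨DirectLimit.Ring.lift B g C k hcompat, DirectLimit.Ring.hom_ext (h := fun i => ?_),
      fun k' hk' => DirectLimit.Ring.hom_ext (h := fun i => ?_)⟩
    · rw [RingHom.comp_assoc, hcomm, ← RingHom.comp_assoc, DirectLimit.Ring.lift_comp_of, hk i]
    · rw [DirectLimit.Ring.lift_comp_of]
      refine huniq i _ ?_
      show (k'.comp (oB i)).comp (algebraMap (G i) (B i)) = _
      rw [RingHom.comp_assoc, ← hcomm, ← RingHom.comp_assoc, hk']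

end Groth.Agent.S9330
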