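import Groth.Statements.S9333
import Mathlib
import Groth.Agent.H8Top.SchemeBasic

set_option linter.all false
set_option backward.isDefEq.respectTransparency.types false

set_option autoImplicit false
universe u
open QFin

open AlgebraicGeometry CategoryTheory CategoryTheory.Limits Topology Groth.Agent

namespace Groth.Agent.S9333

theorem isDiscrete_inter {X S X' S' : Scheme.{u}} (f : X ⟶ S) (g : S' ⟶ S)
    (g' : X' ⟶ X) (f' : X' ⟶ S') (hsq : IsPullback g' f' f g) (x : X) [LocallyQuasiFinite (X.fromSpecResidueField x ≫ f)] (s' : S') :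
    _root_.IsDiscrete (g' ⁻¹' {x} ∩ f' ⁻¹' {s'}) := by
  let Q := IsPullback.of_hasPullback (X.fromSpecResidueField x) g'
  have hpaste := (Q.flip.paste_horiz hsq.flip).flip
  haveI : LocallyQuasiFinite (pullback.snd (X.fromSpecResidueField x) g' ≫ f') :=
    MorphismProperty.of_isPullback (P := @LocallyQuasiFinite) hpaste inferInstance
  have h := ((pullback.snd (X.fromSpecResidueField x) g' ≫ f').isDiscrete_preimage_singleton s').image
    (pullback.snd (X.fromSpecResidueField x) g').isEmbedding.toIsInducing
  refine h.mono ?_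
  rintro a ⟨ha, ha'⟩
  have : a ∈ Set.range (pullback.snd (X.fromSpecResidueField x) g') := by
    rw [Scheme.Pullback.range_snd, Set.mem_preimage, X.range_fromSpecResidueField]
    exact ha
  obtain ⟨w, rfl⟩ := this
  exact ⟨w, ha', rfl⟩

theorem lqf_of_isClosed_asFiber {X S : Scheme.{u}} (f : X ⟶ S) [LocallyOfFiniteType f] (x : X)
    (hx : IsClosed ({f.asFiber x} : Set ↑(f.fiber (f.base x)))) :
    LocallyQuasiFinite (X.fromSpecResidueField x ≫ f) := by
  haveI : IsClosedImmersion (f.asFiberHom x) :=
    IsClosedImmersion.of_isPreimmersion _ (by rw [f.range_asFiberHom]; exact hx)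
  haveI : LocallyOfFiniteType (f.fiberToSpecResidueField (f x)) := MorphismProperty.pullback_snd _ _ inferInstance
  haveI : JacobsonSpace (Spec (S.residueField (f x))) := inferInstance
  have hlft : LocallyOfFiniteType (Spec.map (f.residueFieldMap x)) := by
    rw [← f.asFiberHom_fiberToSpecResidueField]; infer_instance
  haveI : IsFinite (Spec.map (f.residueFieldMap x)) := isFinite_iff_locallyOfFiniteType_of_jacobsonSpace.mpr hlft
  rw [← Scheme.Hom.SpecMap_residueFieldMap_fromSpecResidueField]
  infer_instance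

open AlgebraicGeometry CategoryTheory in
/-- Let f : X → S be locally of finite type, g : S' → S any morphism and X' = X ×_S S' with projections
g' : X' → X and f' : X' → S'. If x' ∈ X' maps to x ∈ X and x is closed in the fibre X_{f x}, then x'
is closed in the fibre X'_{f' x'}. -/
theorem result {X S X' S' : Scheme.{u}} (f : X ⟶ S) [LocallyOfFiniteType f] (g : S' ⟶ S)
    (g' : X' ⟶ X) (f' : X' ⟶ S') (hsq : IsPullback g' f' f g) (x' : X')
    (hx : IsClosed ({f.asFiber (g'.base x')} : Set ↑(f.fiber (f.base (g'.base x'))))) :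
    IsClosed ({f'.asFiber x'} : Set ↑(f'.fiber (f'.base x'))) := by
  haveI := lqf_of_isClosed_asFiber f _ hx
  let x := g' x'
  let ι := f'.fiberι (f' x')
  let C : Set ↑(f'.fiber (f' x')) := ι ⁻¹' (g' ⁻¹' {x})
  have hx1 : IsClosed (f.fiberι (f x) ⁻¹' {x}) := by
    convert hx using 1
    ext a
    simp only [Set.mem_preimage, Set.mem_singleton_iff]
    refine ⟨fun h => (f.fiberι (f x)).isEmbedding.injective (h.trans (f.fiberι_asFiber x).symm), fun h => ?_⟩
    rw [h]; exact f.fiberι_asFiber x
  obtain ⟨T, hT, hTx⟩ := (f.fiberι (f x)).isEmbedding.isInducing.isClosed_iff.mp hx1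
  have hsfib : ∀ a : ↑(f'.fiber (f' x')), f (g' (ι a)) = f x := by
    intro a
    have ha : f' (ι a) = f' x' := by
      have : ι a ∈ Set.range (f'.fiberι (f' x')) := ⟨a, rfl⟩
      rwa [f'.range_fiberι] at this
    have hw : ∀ y, f (g' y) = g (f' y) := fun y => by
      simp only [← Scheme.Hom.comp_apply, hsq.w]
    rw [hw, ha, ← hw]
  have hC : C = ι ⁻¹' (g' ⁻¹' T) := by
    ext a
    have : g' (ι a) ∈ Set.range (f.fiberι (f x)) := by rw [f.range_fiberι]; exact hsfib a
    obtain ⟨b, hb⟩ := this
    show g' (ι a) = x ↔ g' (ι a) ∈ T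
    rw [← hb]
    exact (Set.ext_iff.mp hTx b).symm
  have hCc : IsClosed C := hC ▸ (hT.preimage g'.continuous).preimage ι.continuous
  have hCd : _root_.IsDiscrete C := by
    refine ((isDiscrete_inter f g g' f' hsq x (f' x')).preimage' ι.continuous.continuousOn
      fun y => (Set.subsingleton_singleton.preimage ι.isEmbedding.injective).isDiscrete).mono ?_
    intro a ha
    refine ⟨ha, ?_⟩
    have : ι a ∈ Set.range (f'.fiberι (f' x')) := ⟨a, rfl⟩
    rwa [f'.range_fiberι] at this
  haveI := hCd.to_subtype
  have h := hCc.isClosedEmbedding_subtypeVal.isClosedMap _ (isClosed_discrete ({⟨f'.asFiber x', by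
    show g' (ι (f'.asFiber x')) = x
    rw [f'.fiberι_asFiber]⟩} : Set C))
  rwa [Set.image_singleton] at h

end Groth.Agent.S9333
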