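import Groth.Statements.S9334
import Mathlib
import Groth.Agent.H8Top.SchemeBasic

set_option linter.all false
set_option backward.isDefEq.respectTransparency.types false

set_option autoImplicit false
universe u
open QFin

open AlgebraicGeometry CategoryTheory CategoryTheory.Limits Topology Groth.Agent

namespace Groth.Agent.S9334

open AlgebraicGeometry CategoryTheory in
/-- Let f : X → S be locally of finite type, x ∈ X, and write s = f x. The morphism f is quasi-finite at
x exactly when x is a closed point of the fibre X_s and no point x' ≠ x of X_s specializes to x. -/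
theorem result {X S : Scheme.{u}} (f : X ⟶ S) [LocallyOfFiniteType f] (x : X) :
    f.QuasiFiniteAt x ↔
      (IsClosed ({f.asFiber x} : Set ↑(f.fiber (f.base x))) ∧
        ∀ x' : ↑(f.fiber (f.base x)), x' ⤳ f.asFiber x → x' = f.asFiber x) := by
  refine ⟨fun h => ⟨h.isClopen_singleton_asFiber.1, fun y hy => ?_⟩, fun ⟨hc, hg⟩ => ?_⟩
  · exact hy.mem_open h.isClopen_singleton_asFiber.2 rfl
  · rw [Scheme.Hom.quasiFiniteAt_iff_isOpen_singleton_asFiber]
    haveI : LocallyOfFiniteType (f.fiberToSpecResidueField (f x)) := MorphismProperty.pullback_snd _ _ inferInstance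
    haveI : IsLocallyNoetherian (f.fiber (f x)) := LocallyOfFiniteType.isLocallyNoetherian (f.fiberToSpecResidueField (f x))
    set z := f.asFiber x with hz
    obtain ⟨U, hU, hzU, -⟩ := exists_isAffineOpen_mem_and_subset (x := z) (U := ⊤) trivial
    haveI : IsAffine U := hU
    haveI : IsNoetherian (U : Scheme.{u}) := {}
    haveI : TopologicalSpace.NoetherianSpace ↥U := (inferInstance : TopologicalSpace.NoetherianSpace ↥(U : Scheme.{u}))
    haveI : QuasiSober ↥U := (inferInstance : QuasiSober ↥(U : Scheme.{u}))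
    let Φ := irreducibleComponents ↥U
    have hΦ : Φ.Finite := TopologicalSpace.NoetherianSpace.finite_irreducibleComponents
    let R : Set ↥U := ⋃₀ {Y ∈ Φ | (⟨z, hzU⟩ : ↥U) ∉ Y}
    have hR : IsClosed R := by
      rw [show R = ⋃ Y ∈ {Y ∈ Φ | (⟨z, hzU⟩ : ↥U) ∉ Y}, Y from Set.sUnion_eq_biUnion]
      exact (hΦ.subset fun Y hY => hY.1).isClosed_biUnion fun Y hY => isClosed_of_mem_irreducibleComponents Y hY.1
    have hRc : Rᶜ = {(⟨z, hzU⟩ : ↥U)} := by
      ext a
      refine ⟨fun ha => ?_, fun ha => ?_⟩
      · have hY := irreducibleComponent_mem_irreducibleComponents a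
        have hzY : (⟨z, hzU⟩ : ↥U) ∈ irreducibleComponent a := by
          by_contra h
          exact ha ⟨_, ⟨hY, h⟩, mem_irreducibleComponent⟩
        obtain ⟨η, hη⟩ := QuasiSober.sober hY.1 (isClosed_of_mem_irreducibleComponents _ hY)
        have hηz : η = ⟨z, hzU⟩ := Subtype.ext (hg η ((hη.specializes hzY).map continuous_subtype_val))
        have hsp : (⟨z, hzU⟩ : ↥U) ⤳ a := hηz ▸ hη.specializes mem_irreducibleComponent
        exact Subtype.ext ((hsp.map continuous_subtype_val).mem_closed hc rfl)
      · rintro ⟨Y, ⟨-, hY⟩, haY⟩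
        exact hY (ha ▸ haY)
    have := U.2.isOpenEmbedding_subtypeVal.isOpenMap _ (hR.isOpen_compl)
    rw [hRc, Set.image_singleton] at this
    exact this

end Groth.Agent.S9334
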