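import Groth.Statements.S9335
import Mathlib
import Groth.Agent.H8Top.SchemeBasic

set_option linter.all false
set_option backward.isDefEq.respectTransparency.types false

set_option autoImplicit false
universe u
open QFin

open AlgebraicGeometry CategoryTheory CategoryTheory.Limits Topology Groth.Agent

namespace Groth.Agent.S9335

open AlgebraicGeometry CategoryTheory in
/-- If f : X → S is of finite type and s ∈ S, then f is quasi-finite at only finitely many points of the
fibre over s. -/
theorem result {X S : Scheme.{u}} (f : X ⟶ S) [LocallyOfFiniteType f] [QuasiCompact f] (s : S) :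
    {x : ↑X | f.base x = s ∧ f.QuasiFiniteAt x}.Finite := by
  haveI : LocallyOfFiniteType (f.fiberToSpecResidueField s) := MorphismProperty.pullback_snd _ _ inferInstance
  haveI : IsLocallyNoetherian (f.fiber s) := LocallyOfFiniteType.isLocallyNoetherian (f.fiberToSpecResidueField s)
  haveI : IsNoetherian (f.fiber s) := {}
  let I : Set (f.fiber s) := {a | IsOpen ({a} : Set (f.fiber s))}
  have hI : I.Finite := by
    haveI : DiscreteTopology I := discreteTopology_iff_isOpen_singleton.mpr fun a => by
      refine isOpen_induced_iff.mpr ⟨_, a.2, ?_⟩
      ext b; simp [Subtype.ext_iff]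
    exact (TopologicalSpace.NoetherianSpace.isCompact I).finite ⟨inferInstance⟩
  refine (hI.image (f.fiberι s)).subset ?_
  rintro x ⟨hxs, hx⟩
  subst hxs
  exact ⟨f.asFiber x, hx.isClopen_singleton_asFiber.2, f.fiberι_asFiber x⟩

end Groth.Agent.S9335
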