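import Groth.Statements.S9336
import Mathlib
import Groth.Agent.H8Top.SchemeBasic

set_option linter.all false
set_option backward.isDefEq.respectTransparency.types false

set_option autoImplicit false
universe u
open QFin

open AlgebraicGeometry CategoryTheory CategoryTheory.Limits Topology Groth.Agent

namespace Groth.Agent.S9336

theorem isOpen_singleton_of_t1 {Z : Type*} [TopologicalSpace Z] [T1Space Z] [QuasiSober Z]
    {U : Set Z} (hU : IsOpen U) [TopologicalSpace.NoetherianSpace U] {z : Z} (hz : z ∈ U) :
    IsOpen ({z} : Set Z) := by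
  haveI : QuasiSober U := hU.isOpenEmbedding_subtypeVal.quasiSober
  have hsub : ∀ Y ∈ irreducibleComponents U, Y.Subsingleton := fun Y hY => by
    obtain ⟨y, hy⟩ := QuasiSober.sober hY.1 (isClosed_of_mem_irreducibleComponents _ hY)
    rw [← hy.def, closure_singleton]
    exact Set.subsingleton_singleton
  have hfin : (Set.univ : Set U).Finite := by
    rw [← sUnion_irreducibleComponents]
    exact TopologicalSpace.NoetherianSpace.finite_irreducibleComponents.sUnion fun Y hY => (hsub Y hY).finite
  haveI : Finite U := Set.finite_univ_iff.mp hfin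
  have := hU.isOpenEmbedding_subtypeVal.isOpenMap _ (isOpen_discrete ({⟨z, hz⟩} : Set U))
  simpa using this

open AlgebraicGeometry CategoryTheory in
/-- Let f : X → Y be surjective and g : Y → S locally of finite type. If g ∘ f is locally quasi-finite
(and locally of finite type), then g is locally quasi-finite. -/
theorem result {X Y S : Scheme.{u}} (f : X ⟶ Y) (g : Y ⟶ S) [Surjective f]
    [LocallyQuasiFinite (f ≫ g)] [LocallyOfFiniteType (f ≫ g)] [LocallyOfFiniteType g] :
    LocallyQuasiFinite g := by
  rw [locallyQuasiFinite_iff_isDiscrete_preimage_singleton]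
  intro s
  haveI : LocallyOfFiniteType (g.fiberToSpecResidueField s) := MorphismProperty.pullback_snd _ _ inferInstance
  haveI : IsLocallyNoetherian (g.fiber s) := LocallyOfFiniteType.isLocallyNoetherian (g.fiberToSpecResidueField s)
  let q : pullback (f ≫ g) (S.fromSpecResidueField s) ⟶ g.fiber s :=
    pullback.lift (pullback.fst _ _ ≫ f) (pullback.snd _ _) (by rw [Category.assoc, pullback.condition])
  have hq1 : q ≫ pullback.fst g (S.fromSpecResidueField s) = pullback.fst (f ≫ g) (S.fromSpecResidueField s) ≫ f := pullback.lift_fst _ _ _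
  have hq2 : q ≫ pullback.snd g (S.fromSpecResidueField s) = pullback.snd (f ≫ g) (S.fromSpecResidueField s) := pullback.lift_snd _ _ _
  haveI hq : Surjective q := MorphismProperty.of_isPullback (P := @Surjective)
    (show IsPullback (pullback.fst (f ≫ g) (S.fromSpecResidueField s)) q f (pullback.fst g (S.fromSpecResidueField s)) from
      .of_bot (v₂₁ := pullback.snd g _) (v₂₂ := g) (h₃₁ := S.fromSpecResidueField s)
        (hq2.symm ▸ IsPullback.of_hasPullback (f ≫ g) (S.fromSpecResidueField s)) hq1.symm (IsPullback.of_hasPullback g _)) ‹_›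
  haveI : T1Space (g.fiber s) := by
    refine ⟨fun y => ?_⟩
    obtain ⟨w, rfl⟩ := hq.surj y
    haveI : LocallyOfFiniteType ((f ≫ g).fiberToSpecResidueField s) := MorphismProperty.pullback_snd _ _ inferInstance
    haveI : DiscreteTopology ↥((f ≫ g).fiber s) := inferInstance
    let w' : ↥((f ≫ g).fiber s) := w
    have hwc : IsClosed ({w'} : Set ↥((f ≫ g).fiber s)) := isClosed_discrete _
    have hl : LocallyOfFiniteType (((f ≫ g).fiber s).fromSpecResidueField w') :=
      isClosed_singleton_iff_locallyOfFiniteType.mp hwc
    haveI : JacobsonSpace (g.fiber s) := LocallyOfFiniteType.jacobsonSpace (g.fiberToSpecResidueField s)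
    haveI : LocallyOfFiniteType q := by
      haveI : LocallyOfFiniteType (q ≫ g.fiberToSpecResidueField s) :=
        by
        rw [show q ≫ g.fiberToSpecResidueField s = (f ≫ g).fiberToSpecResidueField s from hq2]
        exact MorphismProperty.pullback_snd _ _ inferInstance
      exact locallyOfFiniteType_of_comp q (g.fiberToSpecResidueField s)
    have := q.closePoints_subset_preimage_closedPoints (mem_closedPoints_iff.mpr hwc)
    exact mem_closedPoints_iff.mp this
  have hd : DiscreteTopology (g.fiber s) := discreteTopology_iff_isOpen_singleton.mpr fun y => by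
    obtain ⟨U, hU, hyU, -⟩ := exists_isAffineOpen_mem_and_subset (x := y) (U := ⊤) trivial
    haveI : IsAffine U := hU
    haveI : IsNoetherian (U : Scheme.{u}) := {}
    haveI : TopologicalSpace.NoetherianSpace ↥(U : Set (g.fiber s)) := (inferInstance : TopologicalSpace.NoetherianSpace ↥(U : Scheme.{u}))
    exact isOpen_singleton_of_t1 U.2 hyU
  rw [← g.range_fiberι, ← Set.image_univ]
  exact (isDiscrete_univ_iff.mpr hd).image (g.fiberι s).isEmbedding.toIsInducing

end Groth.Agent.S9336
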