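import Groth.Statements.S9339
import Groth.Agent.H8Top.FiniteTypePoints

set_option autoImplicit false
universe u
open FtPts

namespace Groth.Agent.S9339

open AlgebraicGeometry CategoryTheory in
/-- A morphism locally of finite type maps finite type points (points s whose canonical morphism Spec
κ(s) → S is locally of finite type) to finite type points. -/
theorem result {T S : Scheme.{u}} (f : T ⟶ S) [LocallyOfFiniteType f] :
    f.base '' {t : ↑T | LocallyOfFiniteType (T.fromSpecResidueField t)} ⊆
      {s : ↑S | LocallyOfFiniteType (S.fromSpecResidueField s)} := by
  rintro _ ⟨t, ht, rfl⟩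
  exact H8Top.image_ftPts_subset f ht

end Groth.Agent.S9339
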