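import Groth.Statements.S9343
import Mathlib
import Groth.Agent.H8Top.SchemeBasic

set_option linter.all false
set_option backward.isDefEq.respectTransparency.types false

set_option autoImplicit false
universe u
open Dom

open AlgebraicGeometry CategoryTheory CategoryTheory.Limits Topology Groth.Agent

namespace Groth.Agent.S9343

open AlgebraicGeometry CategoryTheory in
/-- The base change of a quasi-compact dominant morphism f : X → S along a morphism g : S' → S along
which generalizations lift is dominant. -/
theorem result {X S X' S' : Scheme.{u}} (f : X ⟶ S) [QuasiCompact f] [IsDominant f]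
    (g : S' ⟶ S) (g' : X' ⟶ X) (f' : X' ⟶ S') (hsq : IsPullback g' f' f g) (hg : GeneralizingMap g.base) :
    IsDominant f' := by
  refine ⟨dense_iff_closure_eq.mpr (Set.eq_univ_of_forall fun s' => ?_)⟩
  have hZ := irreducibleComponent_mem_irreducibleComponents s'
  obtain ⟨η, hη⟩ := QuasiSober.sober hZ.1 (isClosed_of_mem_irreducibleComponents _ hZ)
  obtain ⟨x, hx⟩ := H8Top.exists_specializes_of_mem_closure_range f
    (y := g η) (f.denseRange.closure_range ▸ Set.mem_univ _)
  obtain ⟨ξ, hξ, hgξ⟩ := hg hx
  have hξη : ξ = η := by
    have h1 : irreducibleComponent s' ⊆ closure {ξ} := by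
      rw [← hη.def]
      exact closure_minimal (Set.singleton_subset_iff.mpr hξ.mem_closure) isClosed_closure
    have h2 := (hZ.2 isIrreducible_singleton.closure h1).antisymm h1
    exact (IsGenericPoint.eq (show IsGenericPoint ξ (irreducibleComponent s') from h2) hη)
  subst hξη
  obtain ⟨w, -, hw⟩ := Scheme.exists_preimage_of_isPullback hsq x ξ hgξ.symm
  exact (hη.specializes mem_irreducibleComponent).mem_closed isClosed_closure (subset_closure ⟨w, hw⟩)

end Groth.Agent.S9343
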