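import Groth.Statements.S9344
import Mathlib
import Groth.Agent.H8Top.SchemeBasic

set_option linter.all false
set_option backward.isDefEq.respectTransparency.types false

set_option autoImplicit false
universe u
open Dom

open AlgebraicGeometry CategoryTheory CategoryTheory.Limits Topology Groth.Agent

namespace Groth.Agent.S9344

open AlgebraicGeometry CategoryTheory in
/-- The base change of a dominant morphism f : X → S along an open morphism g : S' → S is dominant. -/
theorem result {X S X' S' : Scheme.{u}} (f : X ⟶ S) [IsDominant f]
    (g : S' ⟶ S) (g' : X' ⟶ X) (f' : X' ⟶ S') (hsq : IsPullback g' f' f g) (hg : IsOpenMap g.base) :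
    IsDominant f' := by
  have h := Scheme.image_preimage_eq_of_isPullback hsq Set.univ
  simp only [Set.preimage_univ, Set.image_univ] at h
  refine ⟨?_⟩
  show Dense (Set.range f')
  rw [show Set.range f' = g ⁻¹' Set.range f from h]
  exact f.denseRange.preimage hg

end Groth.Agent.S9344
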