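import Groth.Statements.S9345
import Mathlib
import Groth.Agent.H8Top.SchemeBasic

set_option linter.all false
set_option backward.isDefEq.respectTransparency.types false

set_option autoImplicit false
universe u
open Dom

open AlgebraicGeometry CategoryTheory CategoryTheory.Limits Topology Groth.Agent

namespace Groth.Agent.S9345

open AlgebraicGeometry CategoryTheory in
/-- For a morphism f : X → S whose source has only finitely many irreducible components, the image of f
is dense exactly when it contains the generic point of each irreducible component of S, and then S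
too has finitely many. -/
theorem result {X S : Scheme.{u}} (f : X ⟶ S)
    (hX : (irreducibleComponents (↑X : Type u)).Finite) :
    (IsDominant f ↔ ∀ s : ↑S, closure {s} ∈ irreducibleComponents (↑S : Type u) → s ∈ Set.range f.base) ∧
      (IsDominant f → (irreducibleComponents (↑S : Type u)).Finite) := by
  let G : Set X := {y | closure {y} ∈ irreducibleComponents (↑X : Type u)}
  have hG : G.Finite := (hX.preimage fun a _ b _ h =>
    IsGenericPoint.eq (show IsGenericPoint a (closure {b}) from h) isGenericPoint_closure)
  have hgen : ∀ x : X, ∃ y ∈ G, y ⤳ x := fun x => by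
    have hY := irreducibleComponent_mem_irreducibleComponents x
    obtain ⟨y, hy⟩ := QuasiSober.sober hY.1 (isClosed_of_mem_irreducibleComponents _ hY)
    exact ⟨y, show closure {y} ∈ _ from hy.def.symm ▸ hY, hy.specializes mem_irreducibleComponent⟩
  have hcover : IsDominant f → ∀ s : S, ∃ y ∈ G, f y ⤳ s := by
    intro hf s
    have hsub : Set.range f ⊆ ⋃ y ∈ G, closure {f y} := by
      rintro _ ⟨x, rfl⟩
      obtain ⟨y, hy, hyx⟩ := hgen x
      exact Set.mem_iUnion₂.mpr ⟨y, hy, (hyx.map f.continuous).mem_closure⟩
    have := closure_minimal hsub (hG.isClosed_biUnion fun _ _ => isClosed_closure)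
      (f.denseRange.closure_range ▸ Set.mem_univ s)
    obtain ⟨y, hy, hs⟩ := Set.mem_iUnion₂.mp this
    exact ⟨y, hy, specializes_iff_mem_closure.mpr hs⟩
  have hmax : IsDominant f → ∀ s : S, closure {s} ∈ irreducibleComponents (↑S : Type u) →
      ∃ y ∈ G, f y = s := by
    intro hf s hs
    obtain ⟨y, hy, hsp⟩ := hcover hf s
    have h1 : closure {s} ⊆ closure {f y} :=
      closure_minimal (Set.singleton_subset_iff.mpr hsp.mem_closure) isClosed_closure
    exact ⟨y, hy, IsGenericPoint.eq (show IsGenericPoint (f y) (closure {s}) from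
      (hs.2 isIrreducible_singleton.closure h1).antisymm h1) isGenericPoint_closure⟩
  refine ⟨⟨fun hf s hs => ?_, fun h => ?_⟩, fun hf => ?_⟩
  · obtain ⟨y, -, hy⟩ := hmax hf s hs
    exact ⟨y, hy⟩
  · refine ⟨dense_iff_closure_eq.mpr (Set.eq_univ_of_forall fun s => ?_)⟩
    have hZ := irreducibleComponent_mem_irreducibleComponents s
    obtain ⟨η, hη⟩ := QuasiSober.sober hZ.1 (isClosed_of_mem_irreducibleComponents _ hZ)
    exact (hη.specializes mem_irreducibleComponent).mem_closed isClosed_closure
      (subset_closure (h η (hη.def.symm ▸ hZ)))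
  · refine (hG.image fun y => closure {f y}).subset fun Z hZ => ?_
    obtain ⟨η, hη⟩ := QuasiSober.sober hZ.1 (isClosed_of_mem_irreducibleComponents _ hZ)
    obtain ⟨y, hy, hyη⟩ := hmax hf η (hη.def.symm ▸ hZ)
    exact ⟨y, hy, by show closure {f y} = Z; rw [hyη]; exact hη.def⟩

end Groth.Agent.S9345
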