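import Groth.Statements.S9346
import Mathlib
import Groth.Prelude

set_option linter.all false

set_option autoImplicit false
universe u
open Dom

open CategoryTheory AlgebraicGeometry

namespace Groth.Agent.S9346

section
variable {X Y : Scheme.{u}} [AlgebraicGeometry.IsIntegral X] [AlgebraicGeometry.IsIntegral Y] (f : X ⟶ Y)

theorem genericPoint_specializes' (x : X) : genericPoint X ⤳ x :=
  (genericPoint_spec X).specializes (Set.mem_univ x)

theorem map_generic_of_injective {V : Y.Opens} (hV : IsAffineOpen V) (hmem : f (genericPoint X) ∈ V)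
    (hinj : ∀ s : Γ(Y, V), f.stalkMap (genericPoint X) (Y.presheaf.germ V _ hmem s) = 0 → s = 0) :
    f.base (genericPoint ↑X) = genericPoint ↑Y := by
  have key : ∀ W : Y.Opens, (W : Set Y).Nonempty → f (genericPoint X) ∈ W := by
    intro W hW
    obtain ⟨y, hyW, hyV⟩ := nonempty_preirreducible_inter W.2 V.2 hW ⟨_, hmem⟩
    obtain ⟨s, hsle, hys⟩ := hV.exists_basicOpen_le ⟨y, hyW⟩ hyV
    refine hsle ?_
    rw [Scheme.mem_basicOpen _ _ _ hmem]
    have hs : s ≠ 0 := fun h => by rw [h, Scheme.basicOpen_zero] at hys; exact hys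
    letI : Field (X.presheaf.stalk (genericPoint X)) := inferInstanceAs (Field X.functionField)
    exact isUnit_of_map_unit (f.stalkMap (genericPoint X)).hom _ (isUnit_iff_ne_zero.2 fun h => hs (hinj s h))
  refine IsGenericPoint.eq ?_ (genericPoint_spec Y)
  refine Set.eq_univ_of_forall fun y => ?_
  rw [mem_closure_iff]
  intro o ho hy
  exact ⟨_, key ⟨o, ho⟩ ⟨y, hy⟩, rfl⟩

theorem appLE_eq_zero_germ {V : Y.Opens} {U : X.Opens} (e : U ≤ f ⁻¹ᵁ V) (hη : genericPoint X ∈ U) (s : Γ(Y, V)) :
    f.stalkMap (genericPoint X) (Y.presheaf.germ V (f (genericPoint X)) (e hη) s) =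
      X.presheaf.germ U (genericPoint X) hη (f.appLE V U e s) := by
  rw [Scheme.Hom.germ_stalkMap_apply f V (genericPoint X) (e hη) s, Scheme.Hom.appLE]
  simp [TopCat.Presheaf.germ_res_apply]

end

open AlgebraicGeometry CategoryTheory in
/-- For a morphism f : X → Y between integral schemes, these six conditions coincide: (1) f is dominant;
(2) f sends the generic point of X to that of Y; (3) there exist affine opens U ⊆ X, V ⊆ Y with U
nonempty and U ⊆ f⁻¹V such that the induced ring map on sections is injective; (4) the same for all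
such pairs; (5) for some x ∈ X the map of local rings O_{Y,f x} → O_{X,x} is injective; (6) the same
for all x. -/
theorem result {X Y : Scheme.{u}} [AlgebraicGeometry.IsIntegral X] [AlgebraicGeometry.IsIntegral Y] (f : X ⟶ Y) :
    [IsDominant f,
      f.base (genericPoint ↑X) = genericPoint ↑Y,
      ∃ (U : X.Opens) (V : Y.Opens) (hUV : U ≤ f ⁻¹ᵁ V), IsAffineOpen U ∧ IsAffineOpen V ∧ (U : Set ↑X).Nonempty ∧
        Function.Injective (f.appLE V U hUV),
      ∀ (U : X.Opens) (V : Y.Opens) (hUV : U ≤ f ⁻¹ᵁ V), IsAffineOpen U → IsAffineOpen V → (U : Set ↑X).Nonempty →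
        Function.Injective (f.appLE V U hUV),
      ∃ x : ↑X, Function.Injective (f.stalkMap x),
      ∀ x : ↑X, Function.Injective (f.stalkMap x)].TFAE := by
  have hgen : ∀ U : X.Opens, (U : Set X).Nonempty → genericPoint X ∈ U := fun U hU => by
    obtain ⟨x, hx⟩ := hU
    exact (genericPoint_specializes' x).mem_open U.2 hx
  have hgerm0 : ∀ h2 : f.base (genericPoint ↑X) = genericPoint ↑Y, ∀ z : Y.presheaf.stalk (f (genericPoint X)),
      f.stalkMap (genericPoint X) z = 0 → z = 0 := by
    intro h2 z hz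
    have hF : IsField (Y.presheaf.stalk (f (genericPoint X))) := by
      rw [show f (genericPoint X) = genericPoint Y from h2]; exact Field.toIsField Y.functionField
    by_contra hne
    obtain ⟨w, hw⟩ := hF.mul_inv_cancel hne
    have := congrArg (f.stalkMap (genericPoint X)) hw
    rw [map_mul, map_one, hz, zero_mul] at this
    exact zero_ne_one this
  tfae_have 1 → 2 := fun h => by
    refine IsGenericPoint.eq ?_ (genericPoint_spec Y)
    refine Set.eq_univ_of_forall fun y => ?_
    have hd : DenseRange f := h.denseRange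
    refine closure_minimal ?_ isClosed_closure (hd y)
    rintro _ ⟨x, rfl⟩
    exact ((genericPoint_specializes' x).map f.continuous).mem_closure
  tfae_have 2 → 1 := fun h => by
    refine (isDominant_iff f).2 fun y => ?_
    have : y ∈ closure ({genericPoint Y} : Set Y) := ((genericPoint_spec Y).symm ▸ Set.mem_univ y)
    exact closure_mono (Set.singleton_subset_iff.2 (show genericPoint Y ∈ Set.range f from ⟨genericPoint X, h⟩)) this
  tfae_have 2 → 4 := fun h U V e hU hV hne => by
    haveI : Nonempty V := ⟨⟨_, e (hgen U hne)⟩⟩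
    refine (injective_iff_map_eq_zero (f.appLE V U e).hom).2 fun s hs => ?_
    have h1 := appLE_eq_zero_germ f e (hgen U hne) s
    rw [show f.appLE V U e s = 0 from hs, map_zero] at h1
    exact (map_eq_zero_iff _ (germ_injective_of_isIntegral Y (f (genericPoint X)) (U := V) (e (hgen U hne)))).1 (hgerm0 h _ h1)
  tfae_have 4 → 3 := fun h => by
    obtain ⟨_, ⟨V, hV, rfl⟩, hyV, -⟩ := Y.isBasis_affineOpens.exists_subset_of_mem_open (Set.mem_univ (f (genericPoint X))) isOpen_univ
    obtain ⟨_, ⟨U, hU, rfl⟩, hxU, hUle⟩ := X.isBasis_affineOpens.exists_subset_of_mem_open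
      (show genericPoint X ∈ ((f ⁻¹ᵁ V : X.Opens) : Set X) from hyV) (f ⁻¹ᵁ V).2
    exact ⟨U, V, hUle, hU, hV, ⟨_, hxU⟩, h U V hUle hU hV ⟨_, hxU⟩⟩
  tfae_have 3 → 2 := fun ⟨U, V, e, hU, hV, hne, hinj⟩ => by
    refine map_generic_of_injective f hV (e (hgen U hne)) fun s hs => ?_
    rw [appLE_eq_zero_germ f e (hgen U hne) s] at hs
    haveI : Nonempty U := ⟨⟨_, hgen U hne⟩⟩
    apply hinj
    rw [map_zero]
    exact (map_eq_zero_iff _ (germ_injective_of_isIntegral X (genericPoint X) (U := U) (hgen U hne))).1 hs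
  tfae_have 2 → 6 := fun h x => by
    have hs := genericPoint_specializes' x
    refine (injective_iff_map_eq_zero (f.stalkMap x).hom).2 fun z hz => ?_
    obtain ⟨V, hxV, s, rfl⟩ := Y.presheaf.germ_exist z
    have h1 := congrArg (X.presheaf.stalkSpecializes hs) hz
    rw [map_zero, ← Scheme.Hom.stalkSpecializes_stalkMap_apply f (genericPoint X) x hs] at h1
    have h2 := hgerm0 h _ h1
    rw [TopCat.Presheaf.germ_stalkSpecializes_apply] at h2
    haveI : Nonempty V := ⟨⟨_, hxV⟩⟩
    rw [(map_eq_zero_iff _ (germ_injective_of_isIntegral Y (f (genericPoint X)) (U := V) _)).1 h2, map_zero]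
  tfae_have 6 → 5 := fun h => ⟨genericPoint X, h _⟩
  tfae_have 5 → 2 := fun ⟨x, hinj⟩ => by
    obtain ⟨_, ⟨V, hV, rfl⟩, hyV, -⟩ := Y.isBasis_affineOpens.exists_subset_of_mem_open (Set.mem_univ (f x)) isOpen_univ
    have hs := genericPoint_specializes' x
    refine map_generic_of_injective f hV ((hs.map f.continuous).mem_open V.2 hyV) fun s hzero => ?_
    haveI : Nonempty V := ⟨⟨_, hyV⟩⟩
    refine (map_eq_zero_iff _ (germ_injective_of_isIntegral Y (f x) (U := V) hyV)).1 (hinj ?_)
    obtain ⟨W, hxW, w, hw⟩ := X.presheaf.germ_exist (f.stalkMap x (Y.presheaf.germ V (f x) hyV s))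
    haveI : Nonempty W := ⟨⟨_, hxW⟩⟩
    rw [map_zero, ← hw]
    have h1 := congrArg (X.presheaf.stalkSpecializes hs) hw
    rw [← Scheme.Hom.stalkSpecializes_stalkMap_apply f (genericPoint X) x hs, TopCat.Presheaf.germ_stalkSpecializes_apply,
      TopCat.Presheaf.germ_stalkSpecializes_apply, hzero] at h1
    rw [(map_eq_zero_iff _ (germ_injective_of_isIntegral X (genericPoint X) (U := W) _)).1 h1, map_zero]
  tfae_finish

end Groth.Agent.S9346
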