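import Groth.Statements.S9347
import Mathlib
import Groth.Agent.H8Top.SchemeBasic

set_option linter.all false
set_option backward.isDefEq.respectTransparency.types false

set_option autoImplicit false
universe u
open Dom

open AlgebraicGeometry CategoryTheory CategoryTheory.Limits Topology Groth.Agent

namespace Groth.Agent.S9347

open AlgebraicGeometry CategoryTheory in
/-- Let f : X → S be quasi-compact and let η ∈ S be a point whose closure is an irreducible component of
S (a maximal point of S). If η is not in the image of f, then η has an open neighbourhood V with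
f⁻¹(V) empty. -/
theorem result {X S : Scheme.{u}} (f : X ⟶ S) [QuasiCompact f]
    (η : ↑S) (hη : closure {η} ∈ irreducibleComponents (↑S : Type u)) (hnot : η ∉ Set.range f.base) :
    ∃ V : S.Opens, η ∈ V ∧ f ⁻¹ᵁ V = ⊥ := by
  have hcl : η ∉ closure (Set.range f) := fun h => by
    obtain ⟨x, hx⟩ := H8Top.exists_specializes_of_mem_closure_range f h
    have h1 : closure {η} ⊆ closure {f x} :=
      closure_minimal (Set.singleton_subset_iff.mpr hx.mem_closure) isClosed_closure
    exact hnot ⟨x, IsGenericPoint.eq (show IsGenericPoint (f x) (closure {η}) from
      (hη.2 isIrreducible_singleton.closure h1).antisymm h1) isGenericPoint_closure⟩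
  refine ⟨⟨(closure (Set.range f))ᶜ, isClosed_closure.isOpen_compl⟩, hcl, ?_⟩
  ext x
  exact iff_of_false (fun h => h (subset_closure ⟨x, rfl⟩)) id

end Groth.Agent.S9347
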