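import Groth.Statements.S9348
import Mathlib
import Groth.Agent.H8Top.SchemeBasic

set_option linter.all false
set_option backward.isDefEq.respectTransparency.types false

set_option autoImplicit false
universe u
open Dom

open AlgebraicGeometry CategoryTheory CategoryTheory.Limits Topology Groth.Agent

namespace Groth.Agent.S9348

open AlgebraicGeometry CategoryTheory in
/-- Let f : X → Y be a morphism and g : Y' → Y open and surjective. If the base change f' : X ×_Y Y' →
Y' of f is quasi-compact, then so is f. -/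
theorem result {X Y X' Y' : Scheme.{u}} (f : X ⟶ Y) (g : Y' ⟶ Y) [Surjective g]
    (hg : IsOpenMap g.base) (g' : X' ⟶ X) (f' : X' ⟶ Y') (hsq : IsPullback g' f' f g) [QuasiCompact f'] :
    QuasiCompact f := by
  rw [quasiCompact_iff_forall_isAffineOpen]
  intro V hV
  have hc : ∀ v : V, ∃ W : Y'.Opens, IsAffineOpen W ∧ W ≤ g ⁻¹ᵁ V ∧ (v : Y) ∈ g '' (W : Set Y') := by
    intro v
    obtain ⟨w, hw⟩ := g.surjective v
    obtain ⟨W, hW, hwW, hWV⟩ := exists_isAffineOpen_mem_and_subset (x := w) (U := g ⁻¹ᵁ V) (show g w ∈ V from hw ▸ v.2)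
    exact ⟨W, hW, hWV, w, hwW, hw⟩
  choose W hW hWV hWm using hc
  obtain ⟨t, ht⟩ := hV.isCompact.elim_finite_subcover (fun v : V => g '' (W v : Set Y'))
    (fun v => hg _ (W v).2) (fun v hv => Set.mem_iUnion.mpr ⟨⟨v, hv⟩, hWm ⟨v, hv⟩⟩)
  have heq : (f ⁻¹' (V : Set Y)) = ⋃ v ∈ t, g' '' (f' ⁻¹' (W v : Set Y')) := by
    ext x
    constructor
    · intro hx
      obtain ⟨v, hvt, w, hw, hwx⟩ := Set.mem_iUnion₂.mp (ht hx)
      obtain ⟨o, ho1, ho2⟩ := Scheme.exists_preimage_of_isPullback hsq x w hwx.symm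
      exact Set.mem_iUnion₂.mpr ⟨v, hvt, o, show f' o ∈ W v from ho2.symm ▸ hw, ho1⟩
    · intro hx
      obtain ⟨v, -, o, ho, rfl⟩ := Set.mem_iUnion₂.mp hx
      show f (g' o) ∈ V
      rw [← Scheme.Hom.comp_apply, hsq.w, Scheme.Hom.comp_apply]
      exact hWV v ho
  rw [show ((f ⁻¹ᵁ V : X.Opens) : Set X) = f ⁻¹' V from rfl, heq]
  exact t.finite_toSet.isCompact_biUnion fun v _ => (f'.isCompact_preimage (hW v).isCompact).image g'.continuous

end Groth.Agent.S9348
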