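import Groth.Statements.S9349
import Groth.Agent.Props12.FlatOver
import Groth.Agent.Coherent.QcohOps

set_option autoImplicit false
universe u
open FlatMod

namespace Groth.Agent.S9349

open AlgebraicGeometry CategoryTheory in
/-- Let f : X → Y be an affine morphism of S-schemes, with q : Y → S, and F a quasi-coherent O_X-module.
Flatness of F over S (along f ≫ q) is equivalent to flatness of f_*F over S (along q). -/
theorem result {X Y S : Scheme.{u}} (f : X ⟶ Y) [IsAffineHom f] (q : Y ⟶ S)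
    (F : X.Modules) (hF : Coh.IsQCoh F) :
    FlatMod.IsFlatOver (f ≫ q) F ↔ FlatMod.IsFlatOver q ((Coh.push f).obj F) := by
  have hP : Coh.IsQCoh ((Coh.push f).obj F) := Groth.Agent.Coherent.isQCoh_push f F
  have key : ∀ (U : Y.Opens) (V : S.Opens) (e : U ≤ q ⁻¹ᵁ V) (e' : f ⁻¹ᵁ U ≤ (f ≫ q) ⁻¹ᵁ V),
      @Module.Flat Γ(S, V) Γ((Coh.push f).obj F, U) _ _
          (Groth.Agent.EGA43.QcohFlat.overModule q ((Coh.push f).obj F) V U e) ↔
        @Module.Flat Γ(S, V) Γ(F, f ⁻¹ᵁ U) _ _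
          (Groth.Agent.EGA43.QcohFlat.overModule (f ≫ q) F V (f ⁻¹ᵁ U) e') := by
    intro U V e e'
    have heq : Groth.Agent.EGA43.QcohFlat.overModule q ((Coh.push f).obj F) V U e =
        Groth.Agent.EGA43.QcohFlat.overModule (f ≫ q) F V (f ⁻¹ᵁ U) e' := by
      refine Module.ext' _ _ fun r m => ?_
      change (f.app U).hom ((q.appLE V U e).hom r) • (show Γ(F, f ⁻¹ᵁ U) from m) =
        ((f ≫ q).appLE V (f ⁻¹ᵁ U) e').hom r • (show Γ(F, f ⁻¹ᵁ U) from m)
      congr 1
      rw [← CommRingCat.comp_apply]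
      congr 2
      rw [← Scheme.Hom.appLE_eq_app, Scheme.Hom.appLE_comp_appLE]
    constructor <;> intro h
    · exact heq ▸ h
    · exact heq.symm ▸ h
  constructor
  · intro h y
    obtain ⟨V, hV, hyV, -⟩ := TopologicalSpace.Opens.isBasis_iff_nbhd.mp S.isBasis_affineOpens
      (TopologicalSpace.Opens.mem_top (q.base y))
    obtain ⟨U, hU, hyU, e⟩ := TopologicalSpace.Opens.isBasis_iff_nbhd.mp Y.isBasis_affineOpens
      (show y ∈ q ⁻¹ᵁ V from hyV)
    have e' : f ⁻¹ᵁ U ≤ (f ≫ q) ⁻¹ᵁ V := f.preimage_mono e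
    refine (Groth.Agent.Props12.flat_sections_iff q _ hV hU e).1 ((key U V e e').2 ?_) y hyU
    exact (Groth.Agent.Props12.flat_sections_iff (f ≫ q) F hV (hU.preimage f) e').2 fun x _ => h x
  · intro h x
    obtain ⟨V, hV, hyV, -⟩ := TopologicalSpace.Opens.isBasis_iff_nbhd.mp S.isBasis_affineOpens
      (TopologicalSpace.Opens.mem_top (q.base (f.base x)))
    obtain ⟨U, hU, hyU, e⟩ := TopologicalSpace.Opens.isBasis_iff_nbhd.mp Y.isBasis_affineOpens
      (show f.base x ∈ q ⁻¹ᵁ V from hyV)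
    have e' : f ⁻¹ᵁ U ≤ (f ≫ q) ⁻¹ᵁ V := f.preimage_mono e
    refine (Groth.Agent.Props12.flat_sections_iff (f ≫ q) F hV (hU.preimage f) e').1
      ((key U V e e').1 ?_) x hyU
    exact (Groth.Agent.Props12.flat_sections_iff q _ hV hU e).2 fun y _ => h y

end Groth.Agent.S9349
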