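import Groth.Statements.S9354
import Groth.Agent.FlatMor12.RelDimComp

set_option autoImplicit false
universe u
open FibDim

namespace Groth.Agent.S9354

open AlgebraicGeometry CategoryTheory in
/-- Let f : X → Y and g : Y → S be locally of finite type, x ∈ X, y = f x, s = g y. Then dim_x(X_s) ≤
dim_x(X_y) + dim_y(Y_s), with equality when O_{X,x} is flat over O_{Y,y}. (The published statement
also gives equality when O_{X_s,x} is flat over O_{Y_s,y}; this row asserts equality only when
O_{X,x} is flat over O_{Y,y}.) -/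
theorem result {X Y S : Scheme.{u}} (f : X ⟶ Y) (g : Y ⟶ S) [LocallyOfFiniteType f] [LocallyOfFiniteType g] (x : X) :
    FlatMor.fibreDimAt (f ≫ g) x ≤ FlatMor.fibreDimAt f x + FlatMor.fibreDimAt g (f.base x) ∧
      ((f.stalkMap x).hom.Flat →
        FlatMor.fibreDimAt (f ≫ g) x = FlatMor.fibreDimAt f x + FlatMor.fibreDimAt g (f.base x)) := by
  have h0 := add_nonneg (Groth.Agent.FlatMor12.zero_le_fibreDimAt f x)
    (Groth.Agent.FlatMor12.zero_le_fibreDimAt g (f.base x))
  have hle : FlatMor.fibreDimAt (f ≫ g) x ≤ FlatMor.fibreDimAt f x + FlatMor.fibreDimAt g (f.base x) := by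
    refine Groth.Agent.FlatMor12.le_of_forall_nat h0 fun n hn => ?_
    have h1 := Groth.Agent.FlatMor12.zero_le_fibreDimAt f x
    have h2 := Groth.Agent.FlatMor12.zero_le_fibreDimAt g (f.base x)
    obtain ⟨a, ha, -⟩ := Groth.Agent.FlatMor12.exists_nat_of_le h1 (le_trans (le_add_of_nonneg_right h2) hn)
    obtain ⟨b, hb, -⟩ := Groth.Agent.FlatMor12.exists_nat_of_le h2 (le_trans (le_add_of_nonneg_left h1) hn)
    refine (Groth.Agent.FlatMor12.fibreDimAt_comp_le_nat f g x a b ha.le hb.le).trans ?_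
    rw [ha, hb] at hn
    exact_mod_cast hn
  exact ⟨hle, fun hflat => le_antisymm hle (Groth.Agent.FlatMor12.le_of_forall_nat
    (Groth.Agent.FlatMor12.zero_le_fibreDimAt _ x) fun n hn =>
      Groth.Agent.FlatMor12.fibreDimAt_comp_ge f g x hflat n hn)⟩

end Groth.Agent.S9354
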