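import Groth.Statements.S9356

set_option autoImplicit false
universe u
open FibDim

namespace Groth.Agent.S9356

open AlgebraicGeometry CategoryTheory in
/-- Let f : X → S be locally of finite type and x ⤳ x' a nontrivial specialization of points of the
fibre X_s. Then dim_x(X_s) ≤ dim_{x'}(X_s) and dim O_{X_s,x} < dim O_{X_s,x'}. (The assertion on
transcendence degrees of residue fields is a separate statement.) -/
theorem result {X S : Scheme.{u}} (f : X ⟶ S) [LocallyOfFiniteType f] (s : S)
    (x x' : ↑(f.fiber s)) (hsp : x ⤳ x') (hne : x ≠ x') :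
    FlatMor.localDim ↑(f.fiber s) x ≤ FlatMor.localDim ↑(f.fiber s) x' ∧
      ringKrullDim ((f.fiber s).presheaf.stalk x) < ringKrullDim ((f.fiber s).presheaf.stalk x') := by
  refine ⟨le_iInf fun U => iInf_le_of_le ⟨U.1, hsp.mem_open U.1.isOpen U.2⟩ le_rfl, ?_⟩
  have : LocallyOfFiniteType (f.fiberToSpecResidueField s) :=
    inferInstanceAs (LocallyOfFiniteType (Limits.pullback.snd f (S.fromSpecResidueField s)))
  have := LocallyOfFiniteType.isLocallyNoetherian (f.fiberToSpecResidueField s)
  rw [AlgebraicGeometry.ringKrullDim_stalk_eq_coheight, AlgebraicGeometry.ringKrullDim_stalk_eq_coheight,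
    WithBot.coe_lt_coe]
  refine Order.coheight_strictAnti (lt_of_le_not_ge (show x' ≤ x from hsp) fun h => hne (hsp.antisymm h).eq) ?_
  have h := ringKrullDim_lt_top (R := (f.fiber s).presheaf.stalk x)
  rw [AlgebraicGeometry.ringKrullDim_stalk_eq_coheight] at h
  exact WithBot.coe_lt_coe.1 h

end Groth.Agent.S9356
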