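import Groth.Statements.S9358
import Groth.Agent.FlatMor12.RelDimComp
import Groth.Agent.AlgSpLib.RelDimLocus

set_option autoImplicit false
universe u
open FibDim

namespace Groth.Agent.S9358

open AlgebraicGeometry CategoryTheory in
/-- In a cartesian square with f : X → S locally of finite type and base change f' : X' → S', g' : X' →
X, one has dim_{x'}(X'_{f' x'}) = dim_{g' x'}(X_{f (g' x')}) for all x' ∈ X'; hence relative
dimension ≤ d and relative dimension d are preserved by base change. -/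
theorem result {X S X' S' : Scheme.{u}} (f : X ⟶ S) [LocallyOfFiniteType f] (g : S' ⟶ S)
    (g' : X' ⟶ X) (f' : X' ⟶ S') (hsq : IsPullback g' f' f g) (d : ℕ) :
    (∀ x' : ↑X', FlatMor.fibreDimAt f' x' = FlatMor.fibreDimAt f (g'.base x')) ∧
      ((∀ x : ↑X, FlatMor.fibreDimAt f x ≤ d) → ∀ x' : ↑X', FlatMor.fibreDimAt f' x' ≤ d) ∧
        (Cyc.HasRelDim f d → Cyc.HasRelDim f' d) := by
  have h1 : ∀ x' : ↑X', FlatMor.fibreDimAt f' x' = FlatMor.fibreDimAt f (g'.base x') :=
    fun x' => Groth.Agent.AlgSpLib.fibreDimAt_baseChange hsq x'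
  refine ⟨h1, fun h x' => (h1 x').le.trans (h _), fun hd => ?_⟩
  have : LocallyOfFiniteType f' := MorphismProperty.of_isPullback hsq ‹_›
  rw [Groth.Agent.FlatMor12.hasRelDim_iff] at hd ⊢
  intro η hη
  have hf' : f' = hsq.isoPullback.hom ≫ Limits.pullback.snd f g := hsq.isoPullback_hom_snd.symm
  have hmax : Groth.Agent.FlatMor12.IsFibreMax (Limits.pullback.snd f g) (hsq.isoPullback.hom η) := by
    intro w hw hfw
    obtain ⟨v, rfl⟩ := hsq.isoPullback.hom.homeomorph.surjective w
    have hv : v ⤳ η := hsq.isoPullback.hom.homeomorph.isInducing.specializes_iff.1 hw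
    exact congrArg hsq.isoPullback.hom (hη v hv (by rw [hf']; exact hfw))
  have hn : ∀ z, Groth.Agent.FlatMor12.IsFibreMax f z →
      Groth.Agent.DimLib.ptDim (k := S.residueField (f z)) (f.fiberToSpecResidueField (f z)) (f.asFiber z) = d :=
    fun z hz => by rw [Groth.Agent.EGA43.FibDepth.ptDim_fiber f, f.fiberι_asFiber]; exact hd z hz
  have h2 := Groth.Agent.FlatMor12.trdegHom_of_fibreMax f g d hn hmax
  rw [Groth.Agent.EGA43.FibDepth.ptDim_fiber, Scheme.Hom.fiberι_asFiber] at h2
  suffices key : ∀ F, F = hsq.isoPullback.hom ≫ Limits.pullback.snd f g →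
      Groth.Agent.DimLib.trdegHom (F.residueFieldMap η).hom = d from key f' hf'
  rintro F rfl
  rw [Scheme.residueFieldMap_comp]
  exact (Groth.Agent.DimLib.trdegHom_comp_ringEquiv _
    (CategoryTheory.asIso (hsq.isoPullback.hom.residueFieldMap η)).commRingCatIsoToRingEquiv).trans h2

end Groth.Agent.S9358
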