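import Groth.Statements.S9360
import Groth.Agent.FlatMor12.SchDense
import Mathlib.RingTheory.LocalProperties.Reduced

set_option autoImplicit false
universe u
open SchDense

namespace Groth.Agent.S9360

open AlgebraicGeometry CategoryTheory in
/-- Let U ⊆ X be a reduced open subscheme. Then the scheme-theoretic closure of U in X is X if and only
if U is scheme-theoretically dense in X (for every open W the scheme-theoretic closure of U ∩ W in W
is W); and in that case X is reduced. -/
theorem result (X : Scheme.{u}) (U : X.Opens) [IsReduced (↑U : Scheme.{u})] :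
    (IsSchemeTheoreticallyDominant U.ι ↔
        ∀ W : X.Opens, IsSchemeTheoreticallyDominant (X.homOfLE (inf_le_right : U ⊓ W ≤ W))) ∧
      (IsSchemeTheoreticallyDominant U.ι → IsReduced X) := by
  have hr : IsSchemeTheoreticallyDominant U.ι → IsReduced X ∧ DenseRange U.ι := fun hD => by
    have hker := hD.ker_eq_bot
    have hideal := FlatMor12.SchDense.ker_ideal_eq U.ι
    have hz : ∀ V : X.affineOpens, Function.Injective (U.ι.app V.1) := fun V => by
      rw [RingHom.injective_iff_ker_eq_bot, ← hideal V, hker]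
      rfl
    haveI : IsReduced X := by
      refine @isReduced_of_isReduced_stalk X fun x => ?_
      obtain ⟨V, hV, hx, -⟩ := exists_isAffineOpen_mem_and_subset (x := x) (U := ⊤) trivial
      haveI : _root_.IsReduced Γ(X, V) := isReduced_of_injective (U.ι.app V).hom (hz ⟨V, hV⟩)
      letI := TopCat.Presheaf.algebra_section_stalk X.presheaf (⟨x, hx⟩ : V)
      haveI := hV.isLocalization_stalk ⟨x, hx⟩
      exact isReduced_localizationPreserves (hV.primeIdealOf ⟨x, hx⟩).asIdeal.primeCompl (X.presheaf.stalk x) inferInstance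
    refine ⟨inferInstance, dense_iff_inter_open.2 fun O hO ⟨x, hx⟩ => ?_⟩
    obtain ⟨V, hV, hxV, hVO⟩ := exists_isAffineOpen_mem_and_subset (x := x) (U := ⟨O, hO⟩) hx
    by_contra hc
    rw [Set.not_nonempty_iff_eq_empty] at hc
    have hbot : U.ι ⁻¹ᵁ V = ⊥ := TopologicalSpace.Opens.ext (Set.eq_empty_of_forall_notMem fun y hy => hc.le ⟨hVO hy, y, rfl⟩)
    haveI : Subsingleton Γ(U, U.ι ⁻¹ᵁ V) := by rw [hbot]; infer_instance
    have h01 : (1 : Γ(X, V)) = 0 := hz ⟨V, hV⟩ (Subsingleton.elim _ _)
    have h2 := congrArg (X.presheaf.germ V x hxV) h01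
    rw [map_one, map_zero] at h2
    exact one_ne_zero h2
  refine ⟨⟨fun hD W => ?_, fun h => ?_⟩, fun hD => (hr hD).1⟩
  · obtain ⟨_, hd⟩ := hr hD
    exact FlatMor12.SchDense.dominant_homOfLE_of_app_injective U.ι U (Scheme.Opens.range_ι U).le
      (FlatMor12.SchDense.app_injective_of_isReduced_of_dense U.ι hd) W
  · haveI := h ⊤
    have e : U.ι = X.homOfLE (le_inf le_rfl le_top : U ≤ U ⊓ ⊤) ≫ X.homOfLE (inf_le_right : U ⊓ ⊤ ≤ ⊤) ≫ X.topIso.hom := by
      rw [Scheme.topIso_hom, Scheme.homOfLE_homOfLE_assoc, Scheme.homOfLE_ι]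
    haveI : IsIso (X.homOfLE (le_inf le_rfl le_top : U ≤ U ⊓ ⊤)) :=
      ⟨X.homOfLE inf_le_left, by simp, by simp⟩
    rw [e]
    infer_instance

end Groth.Agent.S9360
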