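import Groth.Statements.S9361
import Groth.Agent.FlatMor12.SchDense

set_option autoImplicit false
universe u
open SchImage

namespace Groth.Agent.S9361

open AlgebraicGeometry CategoryTheory in
/-- Let f : X → Y be separated, V ⊆ Y a retrocompact open and s : V → X a section of f over V. If Y' ⊆ X
is the scheme-theoretic image of s, then Y' → Y is an isomorphism over V. -/
theorem result {X Y : Scheme.{u}} (f : X ⟶ Y) [IsSeparated f] (V : Y.Opens) [QuasiCompact V.ι]
    (s : (↑V : Scheme.{u}) ⟶ X) (hs : s ≫ f = V.ι) :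
    IsIso ((s.imageι ≫ f) ∣_ V) := by
  haveI hq : QuasiCompact s := by
    haveI : QuasiCompact (s ≫ f) := by rw [hs]; infer_instance
    exact QuasiCompact.of_comp s f
  haveI himm : IsImmersion s := by
    haveI : IsImmersion (s ≫ f) := by rw [hs]; infer_instance
    exact IsImmersion.of_comp s f
  haveI hI := FlatMor12.SchDense.isOpenImmersion_toImage s (fun W => s.ker_apply W) s.support_ker.le
  let g := s.imageι ≫ f
  have hg : s.toImage ≫ g = V.ι := by rw [Scheme.Hom.toImage_imageι_assoc, hs]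
  have hrange : Set.range s.toImage = (g ⁻¹ᵁ V : Set s.image) := by
    ext p
    constructor
    · rintro ⟨x, rfl⟩
      show g (s.toImage x) ∈ V
      rw [← Scheme.Hom.comp_apply, hg]
      exact x.2
    · intro hp
      have h1 : s.imageι p ∈ closure (Set.range s) :=
        s.support_ker.le (s.ker.range_subschemeι.le ⟨p, rfl⟩)
      obtain ⟨s', hs'⟩ : ∃ s' : (↑V : Scheme.{u}) ⟶ ↑(f ⁻¹ᵁ V), s' ≫ (f ⁻¹ᵁ V).ι = s :=
        ⟨IsOpenImmersion.lift (f ⁻¹ᵁ V).ι s (by
          rintro _ ⟨x, rfl⟩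
          rw [Scheme.Opens.range_ι]
          show f (s x) ∈ V
          rw [← Scheme.Hom.comp_apply, hs]
          exact x.2), IsOpenImmersion.lift_fac _ _ _⟩
      have hsec : s' ≫ (f ∣_ V) = 𝟙 _ := by
        rw [← cancel_mono V.ι, Category.assoc, morphismRestrict_ι, ← Category.assoc, hs', hs, Category.id_comp]
      haveI : IsSeparated (f ∣_ V) := IsZariskiLocalAtTarget.restrict (P := @IsSeparated) ‹IsSeparated f› V
      haveI : IsClosedImmersion (s' ≫ (f ∣_ V)) := by rw [hsec]; infer_instance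
      haveI : IsClosedImmersion s' := IsClosedImmersion.of_comp s' (f ∣_ V)
      let q : (f ⁻¹ᵁ V).toScheme := ⟨s.imageι p, hp⟩
      have h2 : q ∈ closure (Set.range s') := by
        rw [(f ⁻¹ᵁ V).ι.isOpenEmbedding.isInducing.closure_eq_preimage_closure_image]
        show (f ⁻¹ᵁ V).ι q ∈ closure _
        rw [← Set.range_comp, ← TopCat.coe_comp, ← Scheme.Hom.comp_base, hs']
        exact h1
      rw [s'.isClosedEmbedding.isClosed_range.closure_eq] at h2
      obtain ⟨x, hx⟩ := h2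
      refine ⟨x, s.imageι.isEmbedding.injective ?_⟩
      rw [← Scheme.Hom.comp_apply, Scheme.Hom.toImage_imageι]
      have e : s x = (f ⁻¹ᵁ V).ι (s' x) := by rw [← Scheme.Hom.comp_apply, hs']
      rw [e, hx]
      rfl
  let t : (↑V : Scheme.{u}) ⟶ ↑(g ⁻¹ᵁ V) := IsOpenImmersion.lift (g ⁻¹ᵁ V).ι s.toImage (by
    rw [Scheme.Opens.range_ι, hrange])
  have htι : t ≫ (g ⁻¹ᵁ V).ι = s.toImage := IsOpenImmersion.lift_fac _ _ _
  have ht : t ≫ (g ∣_ V) = 𝟙 _ := by
    rw [← cancel_mono V.ι, Category.assoc, morphismRestrict_ι, ← Category.assoc, htι, hg, Category.id_comp]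
  haveI : IsOpenImmersion (t ≫ (g ⁻¹ᵁ V).ι) := htι.symm ▸ hI
  haveI : IsOpenImmersion t := IsOpenImmersion.of_comp t (g ⁻¹ᵁ V).ι
  haveI : Surjective t := ⟨fun y => by
    obtain ⟨x, hx⟩ := hrange.ge y.2
    refine ⟨x, (g ⁻¹ᵁ V).ι.isOpenEmbedding.injective ?_⟩
    rw [← Scheme.Hom.comp_apply, htι, hx]
    rfl⟩
  haveI : IsIso t := (isIso_iff_isOpenImmersion_and_surjective t).2 ⟨inferInstance, inferInstance⟩
  rw [IsIso.eq_inv_of_hom_inv_id ht |> fun e => show (s.imageι ≫ f) ∣_ V = inv t from e]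
  infer_instance

end Groth.Agent.S9361
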