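import Groth.Statements.S9362
import Groth.Agent.SerreDual.QCohCat
import Groth.Agent.DCat.ModulesGrothendieck
import Groth.Agent.Coherent.QcohOps

set_option autoImplicit false
universe u
open QCohSub

open CategoryTheory CategoryTheory.Limits AlgebraicGeometry

/-- An index type carrying no structure of its own. -/
structure Idx' (α : Type u) : Type u where
  val : α

/-- The image of a map followed by a monomorphism. -/
noncomputable def image_comp_mono {C : Type*} [Category C] [Abelian C] {A B D : C} (d : A ⟶ B) (j : B ⟶ D) [Mono j] :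
    Abelian.image d ≅ Abelian.image (d ≫ j) :=
  haveI : StrongEpi (Abelian.factorThruImage d) := strongEpi_of_epi _
  image.isoStrongEpiMono (Abelian.factorThruImage d) (Abelian.image.ι d ≫ j)
    (by rw [← Category.assoc, Abelian.image.fac]) ≪≫ (Abelian.imageIsoImage (d ≫ j)).symm
namespace Groth.Agent.S9362

open AlgebraicGeometry CategoryTheory in
/-- Let F be a quasi-coherent O_X-module and G ⊆ F an O_X-submodule. There is a quasi-coherent submodule
G' ⊆ G such that Hom(H, G') → Hom(H, G) is bijective for every quasi-coherent O_X-module H; in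
particular G' is the largest quasi-coherent submodule of F contained in G (it is unique up to unique
isomorphism over G). -/
theorem result (X : Scheme.{u}) (F G : X.Modules) (hF : Coh.IsQCoh F) (j : G ⟶ F) [Mono j] :
    ∃ (G' : X.Modules) (k : G' ⟶ G), Coh.IsQCoh G' ∧ Mono k ∧
      ∀ H : X.Modules, Coh.IsQCoh H → Function.Bijective (fun φ : H ⟶ G' => φ ≫ k) := by
  classical
  haveI : IsGrothendieckAbelian.{u} X.Modules := DCat.schemeModules_isGrothendieckAbelian X
  let ι := Idx' (Shrink.{u} {S : Subobject G // Coh.IsQCoh (S : X.Modules)})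
  let e : ι → {S : Subobject G // Coh.IsQCoh (S : X.Modules)} := fun i => (equivShrink _).symm i.val
  let D : Discrete ι ⥤ X.Modules := Discrete.functor fun i => ((e i).1 : X.Modules)
  haveI hsum : Coh.IsQCoh (colimit D) := SerreDual.isQCoh_colimit X D fun i => (e i.as).2
  let d : colimit D ⟶ G := Limits.Sigma.desc fun i => (e i).1.arrow
  haveI := hF
  haveI h1 : Coh.IsQCoh (Abelian.image (d ≫ j)) := Coherent.isQCoh_image (d ≫ j)
  have hstrong : Coh.IsQCoh (Abelian.image d) :=
    Coherent.isQCoh_of_iso (image_comp_mono d j).symm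
  refine ⟨Abelian.image d, Abelian.image.ι d, hstrong, inferInstance, fun H hH => ⟨fun a b hab => (cancel_mono _).1 hab, fun φ => ?_⟩⟩
  haveI := hH
  haveI : Coh.IsQCoh (Abelian.image (φ ≫ j)) := Coherent.isQCoh_image (φ ≫ j)
  have hS : Coh.IsQCoh ((Subobject.mk (Abelian.image.ι φ) : Subobject G) : X.Modules) :=
    Coherent.isQCoh_of_iso ((image_comp_mono φ j).symm ≪≫ (Subobject.underlyingIso (Abelian.image.ι φ)).symm)
  let i : ι := ⟨equivShrink _ ⟨Subobject.mk (Abelian.image.ι φ), hS⟩⟩
  have hi : (e i).1 = Subobject.mk (Abelian.image.ι φ) := by simp [e, i]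
  refine ⟨Abelian.factorThruImage φ ≫ (Subobject.underlyingIso (Abelian.image.ι φ)).inv ≫
    Subobject.ofLE _ _ hi.ge ≫ Limits.Sigma.ι (fun i => ((e i).1 : X.Modules)) i ≫ Abelian.factorThruImage d, ?_⟩
  show _ ≫ Abelian.image.ι d = φ
  simp only [Category.assoc, Abelian.image.fac]
  erw [Sigma.ι_desc]
  simp

end Groth.Agent.S9362
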