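import Groth.Statements.S9363
import Groth.Agent.Synt15.Bridge
-- import your own Groth.Agent.* helpers here

set_option autoImplicit false
universe u
open Synt

namespace Groth.Agent.S9363

open AlgebraicGeometry CategoryTheory in
/-- f : X → S is syntomic if and only if, for every affine open V of S and every affine open U of X
mapped into V, the induced map O_S(V) → O_X(U) makes O_X(U) a syntomic algebra over O_S(V). -/
theorem result {X S : Scheme.{u}} (f : X ⟶ S) :
    Synt.IsSyntomicMor f ↔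
      ∀ (U : X.affineOpens) (V : S.affineOpens) (e : U.1 ≤ f ⁻¹ᵁ V.1),
        letI := (f.appLE V.1 U.1 e).hom.toAlgebra
        Synt.IsSyntomic Γ(S, V.1) Γ(X, U.1) := by
  rw [Groth.Agent.Synt15.isSyntomicMor_iff]
  constructor
  · intro h U V e
    exact Groth.Agent.Synt15.isSyntomic_appLE f h U V e
  · intro h
    rw [← Groth.Agent.Synt15.isSyntomicMor_iff]
    intro x
    obtain ⟨_, ⟨V, hV, rfl⟩, hxV, -⟩ :=
      S.isBasis_affineOpens.exists_subset_of_mem_open (Set.mem_univ (f x)) isOpen_univ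
    obtain ⟨_, ⟨U, hU, rfl⟩, hxU, hle⟩ :=
      X.isBasis_affineOpens.exists_subset_of_mem_open hxV (f ⁻¹ᵁ V).2
    exact ⟨⟨U, hU⟩, ⟨V, hV⟩, hle, hxU, h ⟨U, hU⟩ ⟨V, hV⟩ hle⟩

end Groth.Agent.S9363
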