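import Groth.Statements.S9364
import Groth.Agent.Synt15.SyntAt
-- import your own Groth.Agent.* helpers here

set_option autoImplicit false
universe u
open Synt

namespace Groth.Agent.S9364

open AlgebraicGeometry CategoryTheory in
/-- Let f : X → S, x ∈ X and V ⊆ S an affine open neighbourhood of f x. Then f is syntomic at x if and
only if some affine open U ∋ x with f(U) ⊆ V has f|_U : U → V standard syntomic. -/
theorem result {X S : Scheme.{u}} (f : X ⟶ S) (x : X) (V : S.affineOpens)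
    (hV : f.base x ∈ V.1) :
    Synt.IsSyntomicAt f x ↔
      ∃ (U : X.affineOpens) (e : U.1 ≤ f ⁻¹ᵁ V.1), x ∈ U.1 ∧ Synt.IsStandardSyntomic (f.resLE V.1 U.1 e) := by
  constructor
  · intro h
    obtain ⟨U, hU, e, hxU, hs⟩ := Groth.Agent.Synt15.exists_syntomic_nhd h V.2 hV
    obtain ⟨g, hxg, n, c, F, hF, ε, hε⟩ := Groth.Agent.Synt15.exists_relGCI_basicOpen f hU e hs hxU
    refine ⟨⟨X.basicOpen g, hU.basicOpen g⟩, (X.basicOpen_le g).trans e, hxg, Γ(S, V.1), inferInstance, n, c, F, hF,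
      (hU.basicOpen g).isoSpec ≪≫ Scheme.Spec.mapIso ε.toCommRingCatIso.op.symm, V.2.isoSpec, ?_⟩
    simp only [Iso.trans_hom, Functor.mapIso_hom, Iso.symm_hom, Category.assoc, IsAffineOpen.isoSpec_hom]
    rw [← Scheme.Opens.toSpecΓ_SpecMap_appLE]
    congr 1
    rw [← hε]
    show Spec.map _ ≫ Spec.map _ = Spec.map _
    rw [← Spec.map_comp]
    congr 1
    ext r
    exact ε.symm_apply_apply _
  · rintro ⟨U, e, hxU, hs⟩
    exact ⟨U, V, e, hxU, (Groth.Agent.Synt15.isCIMorphism_resLE_iff f V.2 U.2 e).1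
      (Groth.Agent.Synt15.isCIMorphism_of_isStandardSyntomic hs)⟩

end Groth.Agent.S9364
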