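import Groth.Statements.S9367
import Groth.Agent.Synt15.FibreDim
-- import your own Groth.Agent.* helpers here

set_option autoImplicit false
universe u
open Synt

namespace Groth.Agent.S9367

open AlgebraicGeometry CategoryTheory in
/-- If f : X → S is syntomic, then x ↦ dim_x(X_{f x}) is locally constant on X. -/
theorem result {X S : Scheme.{u}} (f : X ⟶ S) (hf : Synt.IsSyntomicMor f) :
    IsLocallyConstant (fun x : ↑X => FlatMor.fibreDimAt f x) := by
  haveI := ((Groth.Agent.Synt15.isSyntomicMor_iff f).1 hf).2.1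
  refine (IsLocallyConstant.iff_exists_open _).2 fun x => ?_
  obtain ⟨_, ⟨V, hV, rfl⟩, hxV, -⟩ :=
    S.isBasis_affineOpens.exists_subset_of_mem_open (Set.mem_univ (f x)) isOpen_univ
  obtain ⟨U, hU, e, hxU, hs⟩ := Groth.Agent.Synt15.exists_syntomic_nhd (hf x) hV hxV
  obtain ⟨g, hxg, n, c, F, hF, ε, hε⟩ := Groth.Agent.Synt15.exists_relGCI_basicOpen f hU e hs hxU
  refine ⟨(X.basicOpen g : Set X), (X.basicOpen g).isOpen, hxg, fun y hy => ?_⟩
  have key := Groth.Agent.Synt15.fibreDimAt_eq_of_relGCI f hV (hU.basicOpen g)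
    ((X.basicOpen_le g).trans e) (RingEquiv.refl _) hF ε (fun r => RingHom.congr_fun hε r)
  exact (key y hy).trans (key x hxg).symm

end Groth.Agent.S9367
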