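import Groth.Statements.S9368
import Groth.Agent.Synt15.FieldScheme
-- import your own Groth.Agent.* helpers here

set_option autoImplicit false
universe u
open Synt

namespace Groth.Agent.S9368

open AlgebraicGeometry CategoryTheory in
/-- For X locally of finite type over a field k with structure morphism p, the following are equivalent:
(1) p is syntomic; (2) every x ∈ X has an affine open neighbourhood whose coordinate ring is a
global complete intersection over k; (3) each stalk O_{X,x} is a complete intersection ring over k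
(k-algebra structures induced by p). -/
theorem result (k : Type u) [Field k] (X : Scheme.{u}) (p : X ⟶ Spec (CommRingCat.of k)) [LocallyOfFiniteType p] :
    [Synt.IsSyntomicMor p,
      ∀ x : ↑X, ∃ U : X.affineOpens, x ∈ U.1 ∧
        letI := ((Scheme.ΓSpecIso (CommRingCat.of k)).inv ≫ p.appLE ⊤ U.1 le_top).hom.toAlgebra
        Synt.IsGlobalCI k Γ(X, U.1),
      ∀ x : ↑X,
        letI := ((Scheme.ΓSpecIso (CommRingCat.of k)).inv ≫ p.appLE ⊤ ⊤ le_top ≫ X.presheaf.germ ⊤ x trivial).hom.toAlgebra
        Synt.IsCIOver k (X.presheaf.stalk x)].TFAE := by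
  open Groth.Agent.Synt15 in
  tfae_have 1 → 2 := fun h x => by
    obtain ⟨_, ⟨U, hU, rfl⟩, hx, -⟩ :=
      X.isBasis_affineOpens.exists_subset_of_mem_open (Set.mem_univ x) isOpen_univ
    letI := (secMap p U).toAlgebra
    have hL := (isLCIOver_sections_iff p hU).2 fun y _ => (isSyntomicMor_field_iff p).1 h y
    obtain ⟨g, hg, hG⟩ := hL.2 (hU.primeIdealOf ⟨x, hx⟩)
    refine ⟨⟨X.basicOpen g, hU.basicOpen g⟩, ?_, ?_⟩
    · exact (Groth.Agent.Synt15.mem_basicOpen_iff hU g hx).2 hg
    · letI := (secMap p (X.basicOpen g)).toAlgebra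
      obtain ⟨e⟩ := exists_basicOpen_equiv p hU g
      exact isGlobalCI_congr e hG
  tfae_have 2 → 3 := fun h x => by
    obtain ⟨⟨U, hU⟩, hx, hG⟩ := h x
    letI := (Groth.Agent.Synt15.secMap p U).toAlgebra
    haveI := Groth.Agent.Synt15.finiteType_secMap p hU
    exact (Groth.Agent.Synt15.isCIOver_stalk_iff p x).2
      ((Groth.Agent.Synt15.isLCIOver_sections_iff p hU).1 (Groth.Agent.Synt15.isLCIOver_of_isGlobalCI hG) x hx)
  tfae_have 3 → 1 := fun h =>
    (Groth.Agent.Synt15.isSyntomicMor_field_iff p).2 fun x => (Groth.Agent.Synt15.isCIOver_stalk_iff p x).1 (h x)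
  tfae_finish

end Groth.Agent.S9368
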