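import Groth.Statements.S9373
import Groth.Agent.S9390

set_option autoImplicit false
universe u
open QCohSub

namespace Groth.Agent.S9373

open AlgebraicGeometry CategoryTheory in
/-- The support of a quasi-coherent O_X-module is closed under specialization. -/
theorem result (X : Scheme.{u}) (F : X.Modules) (hF : Coh.IsQCoh F) :
    StableUnderSpecialization (CohB1.support F) := by
  intro x y hxy hx
  obtain ⟨U, hU, hyU, -⟩ := TopologicalSpace.Opens.isBasis_iff_nbhd.mp X.isBasis_affineOpens
    (TopologicalSpace.Opens.mem_top y)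
  have hxU : x ∈ U := hxy.mem_open U.2 hyU
  refine (Groth.Agent.S9390.result X F hF ⟨U, hU⟩ y hyU).1 (Module.mem_support_mono ?_
    ((Groth.Agent.S9390.result X F hF ⟨U, hU⟩ x hxU).2 hx))
  have hs : (⟨x, hxU⟩ : U) ⤳ ⟨y, hyU⟩ := (subtype_specializes_iff _ _).2 hxy
  exact (PrimeSpectrum.le_iff_specializes _ _).2 (hs.map hU.isoSpec.hom.continuous)

end Groth.Agent.S9373
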