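import Groth.Statements.S9376
import Groth.Agent.Coherent.ClosedEquiv

set_option autoImplicit false
universe u
open QCohSub

namespace Groth.Agent.S9376

open AlgebraicGeometry CategoryTheory Opposite in
/-- For a closed immersion i : Z → X with ideal sheaf 𝓘 and a quasi-coherent O_X-module G, the unit G →
i_* i^* G is an isomorphism if and only if 𝓘 G = 0 (sections of 𝓘 over affine opens annihilate the
sections of G). Full faithfulness and exactness of i_* are not restated. -/
theorem result {Z X : Scheme.{u}} (i : Z ⟶ X) [IsClosedImmersion i]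
    (G : X.Modules) (hG : Coh.IsQCoh G) :
    IsIso ((Scheme.Modules.pullbackPushforwardAdjunction i).unit.app G) ↔
      ∀ (U : X.affineOpens) (a : Γ(X, U.1)), a ∈ i.ker.ideal U → ∀ s : Γ(G, U.1), a • s = 0 := by
  refine ⟨fun hiso U a ha s => ?_, fun h => Groth.Agent.Coherent.isIso_clUnit i h⟩
  let η := (Scheme.Modules.pullbackPushforwardAdjunction i).unit.app G
  have hz : η.app U.1 (a • s) = 0 := by
    rw [Scheme.Hom.ker_apply, RingHom.mem_ker] at ha
    rw [Scheme.Modules.Hom.app_smul]
    let m : Γ((Scheme.Modules.pullback i).obj G, i ⁻¹ᵁ U.1) := η.app U.1 s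
    change i.app U.1 a • m = 0
    rw [ha, zero_smul]
  have e := congrArg (fun ψ : G ⟶ G => ψ.app U.1 (a • s)) (IsIso.hom_inv_id η)
  refine e.symm.trans ?_
  change (inv η).app U.1 (η.app U.1 (a • s)) = 0
  rw [hz, map_zero]

end Groth.Agent.S9376
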