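import Groth.Statements.S9378
import Groth.Agent.ProjLib.IdealComap
import Groth.Agent.Coherent.AnnSheaf
import Groth.Agent.Coherent.SupportPullback
import Groth.Agent.Flatn12.PullbackSections
import Groth.Agent.EGA41Lib.SemiLocalCompletion

set_option autoImplicit false
universe u
open QCohSub

set_option backward.isDefEq.respectTransparency.types false
set_option backward.isDefEq.respectTransparency false

namespace Groth.Agent.S9378


open AlgebraicGeometry CategoryTheory Opposite in
/-- Let f : Y → X be flat and F a quasi-coherent O_X-module of finite type, where the ideal sheaf J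
(given by annihilators on affine opens) defines the scheme-theoretic support of F. Then the inverse
image ideal sheaf of J along f cuts out the scheme-theoretic support of f^*F. -/
theorem result {Y X : Scheme.{u}} (f : Y ⟶ X) [Flat f] (F : X.Modules)
    (hq : Coh.IsQCoh F) (hft : CohB1.IsFT F) (J : X.IdealSheafData)
    (hJ : ∀ U : X.affineOpens, J.ideal U = Module.annihilator Γ(X, U.1) Γ(F, U.1)) :
    ∀ V : Y.affineOpens, (J.comap f).ideal V =
      Module.annihilator Γ(Y, V.1) Γ((Scheme.Modules.pullback f).obj F, V.1) := by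
  have := hq
  have hqG : Coh.IsQCoh ((Scheme.Modules.pullback f).obj F) := Groth.Agent.EGA43.InjFibre.isQCoh_pullback f F
  have hftG : CohB1.IsFT ((Scheme.Modules.pullback f).obj F) := Groth.Agent.Coherent.isFT_pullback_qcoh (f := f) hq hft
  suffices h : J.comap f = Groth.Agent.Coherent.annSheaf hqG hftG by
    intro V
    rw [h]
    rfl
  let ι := { p : X.affineOpens × Y.affineOpens // p.2.1 ≤ f ⁻¹ᵁ p.1.1 }
  refine Scheme.IdealSheafData.ext_of_iSup_eq_top (fun p : ι => p.1.2) ?_ fun p => ?_
  · refine eq_top_iff.2 fun y _ => ?_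
    obtain ⟨U, hU, hyU, -⟩ := exists_isAffineOpen_mem_and_subset (X := X) (x := f y) (U := ⊤) trivial
    obtain ⟨V, hV, hyV, hle⟩ := exists_isAffineOpen_mem_and_subset (X := Y) (x := y) (U := f ⁻¹ᵁ U) hyU
    exact TopologicalSpace.Opens.mem_iSup.2 ⟨⟨(⟨U, hU⟩, ⟨V, hV⟩), hle⟩, hyV⟩
  · obtain ⟨⟨U, V⟩, hle⟩ := p
    letI := (f.appLE U.1 V.1 hle).hom.toAlgebra
    haveI : Module.Flat Γ(X, U.1) Γ(Y, V.1) := Flat.flat_appLE f U.2 V.2 hle
    haveI : Module.Finite Γ(X, U.1) Γ(F, U.1) :=
      Groth.Agent.Coherent.finite_sections F (Groth.Agent.Coherent.locallyFinGen_of_isFT F hft) U.2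
    obtain ⟨E⟩ := Groth.Agent.Flatn12.nonempty_pullback_sections_equiv f F U.2 V.2 hle
    rw [Groth.Agent.ProjLib.comap_ideal_eq J f U V hle, hJ]
    show _ = Module.annihilator Γ(Y, V.1) Γ((Scheme.Modules.pullback f).obj F, V.1)
    rw [← E.annihilator_eq, Groth.Agent.EGA41Lib.annihilator_baseChange_of_flat]
    rfl

end Groth.Agent.S9378
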