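import Groth.Statements.S9381
import Groth.Agent.FlatMor12.ResTrdeg
import Groth.Agent.DimLib.Points

set_option autoImplicit false
universe u
open FibDim

namespace Groth.Agent.S9381

open AlgebraicGeometry CategoryTheory in
/-- Let f : X → S be locally of finite type and x ⤳ x' a nontrivial specialization of points of X in the
same fibre (f x = f x'). Then trdeg_{κ(f x)} κ(x) > trdeg_{κ(f x')} κ(x'). -/
theorem result {X S : Scheme.{u}} (f : X ⟶ S) [LocallyOfFiniteType f] (x x' : X)
    (hsp : x ⤳ x') (hne : x ≠ x') (hfx : f.base x = f.base x') :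
    @Algebra.trdeg (S.residueField (f.base x')) (X.residueField x') _ _ (f.residueFieldMap x').hom.toAlgebra <
      @Algebra.trdeg (S.residueField (f.base x)) (X.residueField x) _ _ (f.residueFieldMap x).hom.toAlgebra := by
  have hfin := Groth.Agent.FlatMor12.trdeg_residueFieldMap_lt f x'
  obtain ⟨z, hz⟩ : x ∈ Set.range (f.fiberι (f x')) := by rw [f.range_fiberι]; exact hfx
  have hlft : LocallyOfFiniteType (f.fiberToSpecResidueField (f x')) :=
    inferInstanceAs (LocallyOfFiniteType (Limits.pullback.snd f (S.fromSpecResidueField (f x'))))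
  have hzz : z ⤳ f.asFiber x' := by
    rw [← (f.fiberι (f x')).isEmbedding.isInducing.specializes_iff, f.fiberι_asFiber, hz]
    exact hsp
  have hne' : z ≠ f.asFiber x' := fun h => hne (by rw [← hz, h, f.fiberι_asFiber])
  have h := Groth.Agent.DimLib.ptDim_lt_of_specializes (k := S.residueField (f x'))
    (f.fiberToSpecResidueField (f x')) hzz hne'
  rw [Groth.Agent.EGA43.FibDepth.ptDim_fiber, Groth.Agent.EGA43.FibDepth.ptDim_fiber, f.fiberι_asFiber, hz] at h
  by_contra hle
  rw [not_lt] at hle
  exact absurd (Cardinal.toNat_le_toNat hle hfin) (not_le.2 h)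

end Groth.Agent.S9381
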