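import Groth.Statements.S9382
import Mathlib.AlgebraicGeometry.IdealSheaf.Functorial

set_option autoImplicit false
universe u
open QCohSub

set_option backward.isDefEq.respectTransparency.types false
set_option backward.isDefEq.respectTransparency false

namespace Groth.Agent.S9382


open AlgebraicGeometry CategoryTheory in
/-- For closed subschemes Z, Y ⊆ X with ideal sheaves I, J, the scheme-theoretic intersection (ideal
sheaf I ⊔ J) together with its inclusions into Z and Y forms a cartesian square over X. -/
theorem result (X : Scheme.{u}) (I J : X.IdealSheafData) :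
    IsPullback (Scheme.IdealSheafData.inclusion (le_sup_left : I ≤ I ⊔ J))
      (Scheme.IdealSheafData.inclusion (le_sup_right : J ≤ I ⊔ J)) I.subschemeι J.subschemeι := by
  refine ⟨⟨by simp⟩, ⟨Limits.PullbackCone.IsLimit.mk _ (fun c => ?_) (fun c => ?_) (fun c => ?_) (fun c m hm₁ hm₂ => ?_)⟩⟩
  · refine IsClosedImmersion.lift (I ⊔ J).subschemeι (c.fst ≫ I.subschemeι) ?_
    rw [Scheme.IdealSheafData.ker_subschemeι]
    refine sup_le ?_ ?_
    · exact I.ker_subschemeι.symm.le.trans (Scheme.Hom.le_ker_comp _ _)
    · rw [c.condition]
      exact J.ker_subschemeι.symm.le.trans (Scheme.Hom.le_ker_comp _ _)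
  · rw [← cancel_mono I.subschemeι, Category.assoc, Scheme.IdealSheafData.inclusion_subschemeι]
    exact IsClosedImmersion.lift_fac _ _ _
  · rw [← cancel_mono J.subschemeι, Category.assoc, Scheme.IdealSheafData.inclusion_subschemeι]
    refine Eq.trans ?_ c.condition
    exact IsClosedImmersion.lift_fac _ _ _
  · rw [← cancel_mono (I ⊔ J).subschemeι]
    refine Eq.trans ?_ (IsClosedImmersion.lift_fac _ _ _).symm
    rw [← hm₁, Category.assoc, Scheme.IdealSheafData.inclusion_subschemeι]

end Groth.Agent.S9382
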