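import Groth.Statements.S9385
import Groth.Agent.FlatMor12.SchDense

set_option autoImplicit false
universe u
open SchDense

namespace Groth.Agent.S9385

open AlgebraicGeometry CategoryTheory in
/-- Let h : Z → X be an immersion, and suppose that either Z is reduced or h is quasi-compact. Write Z̄
⊆ X for the scheme-theoretic image of h. Then Z → Z̄ is an open immersion identifying Z with a
scheme-theoretically dense (in the for-every-open sense) and topologically dense open subscheme of
Z̄. -/
theorem result {Z X : Scheme.{u}} (h : Z ⟶ X) [IsImmersion h]
    (hyp : QuasiCompact h ∨ IsReduced Z) :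
    ∃ hI : IsOpenImmersion h.toImage,
      (∀ W : h.image.Opens, IsSchemeTheoreticallyDominant
          (h.image.homOfLE (inf_le_right : @Scheme.Hom.opensRange _ _ h.toImage hI ⊓ W ≤ W))) ∧
        DenseRange h.toImage.base := by
  have hf : ∀ V : X.affineOpens, h.ker.ideal V = RingHom.ker (h.app V.1).hom := fun V => by
    rcases hyp with hq | hr
    · exact h.ker_apply V
    · exact FlatMor12.SchDense.ker_ideal_eq h V
  have hsupp : (h.ker.support : Set X) ⊆ closure (Set.range h) := by
    rcases hyp with hq | hr
    · exact h.support_ker.le
    · rw [FlatMor12.SchDense.ker_eq_vanishingIdeal, Scheme.IdealSheafData.coe_support_vanishingIdeal]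
      exact subset_rfl
  have hI := FlatMor12.SchDense.isOpenImmersion_toImage h hf hsupp
  exact ⟨hI, FlatMor12.SchDense.dominant_homOfLE_of_app_injective h.toImage _ subset_rfl
    (FlatMor12.SchDense.toImage_app_injective h hf), FlatMor12.SchDense.denseRange_toImage h hf⟩

end Groth.Agent.S9385
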