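import Groth.Statements.S9387
import Groth.Agent.OmegaLib.Sections
import Groth.Agent.Coherent.FiniteType
-- import your own Groth.Agent.* helpers here

set_option autoImplicit false
universe u
open OmegaSh

namespace Groth.Agent.S9387

open AlgebraicGeometry CategoryTheory in
/-- If f : X → S is locally of finite type then Ω_{X/S} is an O_X-module of finite type (for any
receptacle Ω of a universal S-derivation). -/
theorem result {X S : Scheme.{u}} (f : X ⟶ S) [LocallyOfFiniteType f]
    (Ω : X.Modules) (d : OmegaSh.Der f Ω) (hd : OmegaSh.IsUniversal d) : CohB1.IsFT Ω := by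
  haveI := Groth.Agent.OmegaLib.isQCoh_of_isUniversal hd
  choose W U hW hU hxU hUT e using fun x : X => Groth.Agent.OmegaLib.exists_affine_pair f (TopologicalSpace.Opens.mem_top x)
  refine Groth.Agent.Coherent.isFT_of_locallyFinGen
    (Groth.Agent.Coherent.locallyFinGen_of_finite_sections Ω U hU (fun x => ⟨x, hxU x⟩) fun x => ?_)
  letI := (f.appLE (W x) (U x) (e x)).hom.toAlgebra
  obtain ⟨ψ, -⟩ := Groth.Agent.OmegaLib.exists_sections_equiv hd (e x) (hW x) (hU x)
  haveI : Algebra.FiniteType Γ(S, W x) Γ(X, U x) := f.finiteType_appLE (hW x) (hU x) (e x)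
  exact Module.Finite.equiv ψ

end Groth.Agent.S9387
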