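import Groth.Statements.S9388
import Groth.Agent.OmegaLib.Sections
import Groth.Agent.EGA43.FPKernel
import Mathlib.RingTheory.Extension.Cotangent.Basic
-- import your own Groth.Agent.* helpers here

set_option autoImplicit false
universe u
open OmegaSh

namespace Groth.Agent.S9388

open AlgebraicGeometry CategoryTheory in
/-- For f : X → S locally of finite presentation, every receptacle Ω of a universal S-derivation of O_X
is a finitely presented O_X-module. -/
theorem result {X S : Scheme.{u}} (f : X ⟶ S) [LocallyOfFinitePresentation f]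
    (Ω : X.Modules) (d : OmegaSh.Der f Ω) (hd : OmegaSh.IsUniversal d) : CohB1.IsFP Ω := by
  haveI := Groth.Agent.OmegaLib.isQCoh_of_isUniversal hd
  refine Groth.Agent.EGA43.FPKernel.isFP_of_forall_exists_affine Ω fun x => ?_
  obtain ⟨W, U, hW, hU, hxU, -, e⟩ := Groth.Agent.OmegaLib.exists_affine_pair f (TopologicalSpace.Opens.mem_top x)
  refine ⟨U, hU, hxU, ?_⟩
  letI := (f.appLE W U e).hom.toAlgebra
  obtain ⟨ψ, -⟩ := Groth.Agent.OmegaLib.exists_sections_equiv hd e hW hU
  haveI : Algebra.FinitePresentation Γ(S, W) Γ(X, U) := f.finitePresentation_appLE hW hU e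
  exact Module.FinitePresentation.of_equiv ψ

end Groth.Agent.S9388
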