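import Groth.Statements.S9389
import Mathlib
import Groth.Agent.H8Top.SchemeBasic

set_option linter.all false
set_option backward.isDefEq.respectTransparency.types false

set_option autoImplicit false
universe u
open QFin

open AlgebraicGeometry CategoryTheory CategoryTheory.Limits Topology Groth.Agent

namespace Groth.Agent.S9389

theorem isDiscrete_inter {X S X' S' : Scheme.{u}} (f : X ⟶ S) (g : S' ⟶ S)
    (g' : X' ⟶ X) (f' : X' ⟶ S') (hsq : IsPullback g' f' f g) (x : X) [LocallyQuasiFinite (X.fromSpecResidueField x ≫ f)] (s' : S') :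
    _root_.IsDiscrete (g' ⁻¹' {x} ∩ f' ⁻¹' {s'}) := by
  let Q := IsPullback.of_hasPullback (X.fromSpecResidueField x) g'
  have hpaste := (Q.flip.paste_horiz hsq.flip).flip
  haveI : LocallyQuasiFinite (pullback.snd (X.fromSpecResidueField x) g' ≫ f') :=
    MorphismProperty.of_isPullback (P := @LocallyQuasiFinite) hpaste inferInstance
  have h := ((pullback.snd (X.fromSpecResidueField x) g' ≫ f').isDiscrete_preimage_singleton s').image
    (pullback.snd (X.fromSpecResidueField x) g').isEmbedding.toIsInducing
  refine h.mono ?_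
  rintro a ⟨ha, ha'⟩
  have : a ∈ Set.range (pullback.snd (X.fromSpecResidueField x) g') := by
    rw [Scheme.Pullback.range_snd, Set.mem_preimage, X.range_fromSpecResidueField]
    exact ha
  obtain ⟨w, rfl⟩ := this
  exact ⟨w, ha', rfl⟩

theorem lqf_of_isClosed_asFiber {X S : Scheme.{u}} (f : X ⟶ S) [LocallyOfFiniteType f] (x : X)
    (hx : IsClosed ({f.asFiber x} : Set ↑(f.fiber (f.base x)))) :
    LocallyQuasiFinite (X.fromSpecResidueField x ≫ f) := by
  haveI : IsClosedImmersion (f.asFiberHom x) :=
    IsClosedImmersion.of_isPreimmersion _ (by rw [f.range_asFiberHom]; exact hx)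
  haveI : LocallyOfFiniteType (f.fiberToSpecResidueField (f x)) := MorphismProperty.pullback_snd _ _ inferInstance
  haveI : JacobsonSpace (Spec (S.residueField (f x))) := inferInstance
  have hlft : LocallyOfFiniteType (Spec.map (f.residueFieldMap x)) := by
    rw [← f.asFiberHom_fiberToSpecResidueField]; infer_instance
  haveI : IsFinite (Spec.map (f.residueFieldMap x)) := isFinite_iff_locallyOfFiniteType_of_jacobsonSpace.mpr hlft
  rw [← Scheme.Hom.SpecMap_residueFieldMap_fromSpecResidueField]
  infer_instance

open AlgebraicGeometry CategoryTheory in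
/-- For f : X → S locally of finite type and a cartesian square with base change f' : X' → S', g' : X' →
X, the quasi-finite locus of f' is the inverse image under g' of the quasi-finite locus of f. -/
theorem result {X S X' S' : Scheme.{u}} (f : X ⟶ S) [LocallyOfFiniteType f] (g : S' ⟶ S)
    (g' : X' ⟶ X) (f' : X' ⟶ S') (hsq : IsPullback g' f' f g) :
    {x' : ↑X' | f'.QuasiFiniteAt x'} = g'.base ⁻¹' {x : ↑X | f.QuasiFiniteAt x} := by
  haveI : LocallyOfFiniteType f' := MorphismProperty.of_isPullback hsq inferInstance
  ext x'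
  simp only [Set.mem_setOf_eq, Set.mem_preimage, Scheme.Hom.quasiFiniteAt_iff_isOpen_singleton_asFiber]
  have hw : ∀ y, f (g' y) = g (f' y) := fun y => by simp only [← Scheme.Hom.comp_apply, hsq.w]
  set s' := f' x' with hs'
  set x := g' x' with hxdef
  have hsq' := isPullback_fiberToSpecResidueField_of_isPullback hsq s'
  let m : f'.fiber s' ⟶ f.fiber (g s') := pullback.map f' (S'.fromSpecResidueField s') f (S.fromSpecResidueField (g s')) g' (Spec.map (g.residueFieldMap s')) g hsq.w.symm (by simp)
  haveI : UniversallyOpen m := MorphismProperty.of_isPullback (P := @UniversallyOpen) hsq'.flip inferInstance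
  have hm1 : m ≫ f.fiberι (g s') = f'.fiberι s' ≫ g' := pullback.lift_fst _ _ _
  have hmι : ∀ a, f.fiberι (g s') (m a) = g' (f'.fiberι s' a) := fun a => by
    rw [← Scheme.Hom.comp_apply, hm1, Scheme.Hom.comp_apply]
  have hopen : IsOpen ({f.asFiber x} : Set ↑(f.fiber (f x))) ↔ IsOpen (f.fiberι (g s') ⁻¹' {x}) := by
    have key : ∀ t, t = f x → (IsOpen ({f.asFiber x} : Set ↑(f.fiber (f x))) ↔ IsOpen (f.fiberι t ⁻¹' {x})) := by
      rintro _ rfl
      rw [show f.fiberι (f x) ⁻¹' {x} = {f.asFiber x} from by
        ext a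
        simp only [Set.mem_preimage, Set.mem_singleton_iff]
        exact ⟨fun h => (f.fiberι (f x)).isEmbedding.injective (h.trans (f.fiberι_asFiber x).symm),
          fun h => by rw [h]; exact f.fiberι_asFiber x⟩]
    exact key _ (hw x').symm
  rw [hopen]
  constructor
  · intro h
    have hb : f.fiberι (g s') (m (f'.asFiber x')) = x := by rw [hmι, f'.fiberι_asFiber]
    have hset : f.fiberι (g s') ⁻¹' {x} = m '' {f'.asFiber x'} := by
      rw [Set.image_singleton]
      ext b
      simp only [Set.mem_preimage, Set.mem_singleton_iff]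
      exact ⟨fun h => (f.fiberι (g s')).isEmbedding.injective (h.trans hb.symm), fun h => by rw [h]; exact hb⟩
    rw [hset]
    exact m.isOpenMap _ h
  · intro h
    haveI : LocallyQuasiFinite (X.fromSpecResidueField x ≫ f) := by
      refine lqf_of_isClosed_asFiber f x ?_
      exact (Scheme.Hom.quasiFiniteAt_iff_isOpen_singleton_asFiber.mpr (hopen.mpr h)).isClopen_singleton_asFiber.1
    let C : Set ↑(f'.fiber s') := f'.fiberι s' ⁻¹' (g' ⁻¹' {x})
    have hCo : IsOpen C := by
      have := h.preimage m.continuous
      convert this using 1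
      ext a
      show g' _ ∈ ({x} : Set X) ↔ f.fiberι (g s') (m a) ∈ ({x} : Set X)
      rw [hmι]
    have hCd : _root_.IsDiscrete C := by
      refine ((isDiscrete_inter f g g' f' hsq x s').preimage' (f'.fiberι s').continuous.continuousOn
        fun y => (Set.subsingleton_singleton.preimage (f'.fiberι s').isEmbedding.injective).isDiscrete).mono ?_
      intro a ha
      refine ⟨ha, ?_⟩
      have : f'.fiberι s' a ∈ Set.range (f'.fiberι s') := ⟨a, rfl⟩
      rwa [f'.range_fiberι] at this
    haveI := hCd.to_subtype
    have h' := hCo.isOpenEmbedding_subtypeVal.isOpenMap _ (isOpen_discrete ({⟨f'.asFiber x', by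
      show g' (f'.fiberι s' (f'.asFiber x')) = x
      rw [f'.fiberι_asFiber]⟩} : Set C))
    rwa [Set.image_singleton] at h'

end Groth.Agent.S9389
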