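import Groth.Statements.S9395
import Groth.Agent.CAlgH.Nagata
import Mathlib.RingTheory.Polynomial.Basic
import Mathlib.RingTheory.Localization.Integer

set_option autoImplicit false
universe u
open CAlg nonZeroDivisors

namespace Groth.Agent.S9395

/-- For a Noetherian domain R, if the Laurent polynomial ring R[X, 1/X] (the localization of R[X] away
from X) is N-1, then R is N-1. -/
theorem result (R : Type u) [CommRing R] [IsDomain R] [IsNoetherianRing R]
    (S : Type u) [CommRing S] [IsDomain S] [Algebra (Polynomial R) S]
    [IsLocalization.Away (Polynomial.X : Polynomial R) S] (h : CAlg.IsN1 S) : CAlg.IsN1 R := by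
  classical
  let K := FractionRing R
  let F := FractionRing S
  have : IsNoetherianRing S := IsLocalization.isNoetherianRing (Submonoid.powers (Polynomial.X : Polynomial R)) S inferInstance
  let j : Polynomial R →+* F := (algebraMap S F).comp (algebraMap (Polynomial R) S)
  have hj : Function.Injective j := (IsFractionRing.injective S F).comp
    (IsLocalization.injective S (powers_le_nonZeroDivisors_of_noZeroDivisors Polynomial.X_ne_zero))
  let jR : R →+* F := j.comp Polynomial.C
  have hjR : Function.Injective jR := hj.comp Polynomial.C_injective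
  let φ : K →+* F := IsFractionRing.lift hjR
  have hφ : ∀ r, φ (algebraMap R K r) = jR r := fun r => IsFractionRing.lift_algebraMap hjR r
  let ψ : Polynomial K →+* F := Polynomial.eval₂RingHom φ (j Polynomial.X)
  have hψR : ψ.comp (Polynomial.mapRingHom (algebraMap R K)) = j := by
    refine Polynomial.ringHom_ext (fun r => ?_) (by simp [ψ])
    simp [ψ, hφ, jR]
  have hψ : Function.Injective ψ := by
    rw [injective_iff_map_eq_zero]
    intro q hq
    obtain ⟨⟨b, hb0⟩, hb⟩ := IsLocalization.integerNormalization_map_to_map (R⁰) q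
    have h1 : j (IsLocalization.integerNormalization R⁰ q) = 0 := by
      rw [← hψR, RingHom.comp_apply, Polynomial.coe_mapRingHom, hb, Algebra.smul_def, map_mul, hq, mul_zero]
    rw [(map_eq_zero_iff j hj)] at h1
    rw [h1, Polynomial.map_zero] at hb
    rcases smul_eq_zero.mp hb.symm with h2 | h2
    · exact absurd h2 (nonZeroDivisors.ne_zero hb0)
    · exact h2
  let IC := integralClosure R K
  let img : Set F := φ '' (IC : Set K)
  let P : Submodule S F := Submodule.span S img
  have hP : P ≤ (integralClosure S F).toSubmodule := by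
    rw [Submodule.span_le]
    rintro _ ⟨z, hz, rfl⟩
    obtain ⟨p, hp, hp0⟩ := (hz : IsIntegral R z)
    refine ⟨p.map ((algebraMap (Polynomial R) S).comp Polynomial.C), hp.map _, ?_⟩
    have e : (algebraMap S F).comp ((algebraMap (Polynomial R) S).comp Polynomial.C) = φ.comp (algebraMap R K) :=
      RingHom.ext fun r => (hφ r).symm
    rw [Polynomial.eval₂_map, e, ← Polynomial.hom_eval₂, hp0, map_zero]
  have hfgIC : (integralClosure S F).toSubmodule.FG := Module.Finite.iff_fg.mp h
  have : IsNoetherian S (integralClosure S F).toSubmodule := isNoetherian_of_fg_of_noetherian _ hfgIC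
  have hPfg : P.FG := Submodule.FG.of_le hfgIC hP
  obtain ⟨t, htimg, ht⟩ := Submodule.fg_span_iff_fg_span_finset_subset img |>.mp hPfg
  choose z hzIC hz using fun w : t => htimg w.2
  refine Module.Finite.iff_fg.mpr (?_ : IC.toSubmodule.FG)
  refine ⟨Finset.univ.image z, le_antisymm (Submodule.span_le.mpr ?_) fun x hx => ?_⟩
  · intro x hx
    obtain ⟨w, -, rfl⟩ := Finset.mem_image.mp hx
    exact hzIC w
  have hxP : φ x ∈ Submodule.span S (Set.range fun w : t => φ (z w)) := by
    have : Set.range (fun w : t => φ (z w)) = (t : Set F) := by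
      ext y; simp only [hz, Set.mem_range, Finset.mem_coe]
      exact ⟨fun ⟨w, hw⟩ => hw ▸ w.2, fun hy => ⟨⟨y, hy⟩, rfl⟩⟩
    rw [this, ← ht]
    exact Submodule.subset_span ⟨x, hx, rfl⟩
  obtain ⟨c, hc⟩ := (Submodule.mem_span_range_iff_exists_fun S).mp hxP
  obtain ⟨⟨_, N, rfl⟩, hN⟩ := IsLocalization.exist_integer_multiples_of_finite (Submonoid.powers (Polynomial.X : Polynomial R)) c
  choose p hp using hN
  have key : ψ (Polynomial.X ^ N * Polynomial.C x) = ψ (∑ w, (p w).map (algebraMap R K) * Polynomial.C (z w)) := by
    rw [map_sum, map_mul, map_pow]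
    have e1 : ψ Polynomial.X = j Polynomial.X := by simp [ψ]
    have e2 : ∀ k, ψ (Polynomial.C k) = φ k := fun k => by simp [ψ]
    simp only [map_mul, e2]
    rw [e1, ← hc, Finset.mul_sum]
    refine Finset.sum_congr rfl fun w _ => ?_
    rw [show ψ ((p w).map (algebraMap R K)) = j (p w) from congrArg (fun g : Polynomial R →+* F => g (p w)) hψR,
      Algebra.smul_def, ← mul_assoc, ← map_pow]
    congr 1
    show algebraMap S F _ * algebraMap S F (c w) = algebraMap S F _
    rw [← map_mul]
    exact congrArg _ ((hp w).trans (Algebra.smul_def _ _)).symm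
  have := congrArg (fun q => Polynomial.coeff q N) (hψ key)
  simp only [Polynomial.finsetSum_coeff, Polynomial.coeff_mul_C, Polynomial.coeff_map,
    Polynomial.coeff_X_pow, if_true, one_mul] at this
  rw [this]
  refine Submodule.sum_mem _ fun w _ => ?_
  rw [← Algebra.smul_def]
  exact Submodule.smul_mem _ _ (Submodule.subset_span (Finset.mem_image_of_mem _ (Finset.mem_univ w)))

end Groth.Agent.S9395
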