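import Groth.Statements.S9397
import Groth.Agent.CAlgH.Nagata
import Mathlib.RingTheory.IntegralClosure.IsIntegralClosure.Basic
import Mathlib.RingTheory.Localization.Integral
import Mathlib.LinearAlgebra.FreeModule.Finite.Basic
import Mathlib.LinearAlgebra.Dimension.Free

set_option autoImplicit false
universe u
open CAlg nonZeroDivisors

namespace Groth.Agent.S9397

/-- A ring R is universally Japanese provided that each R-algebra of finite type which is a domain is
N-1. -/
theorem result (R : Type u) [CommRing R]
    (h : ∀ (S : Type u) [CommRing S] [IsDomain S] [Algebra R S], Algebra.FiniteType R S → CAlg.IsN1 S) :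
    CAlg.IsUniversallyJapanese R := by
  classical
  intro S _ _ _ hS
  refine Groth.Agent.CAlgH.isN2_of (FractionRing S) fun L _ _ _ _ _ => ?_
  let b := Module.finBasis (FractionRing S) L
  have hint : ∀ i, ∃ m : S, m ≠ 0 ∧ IsIntegral S (m • b i) := fun i =>
    ((IsFractionRing.isAlgebraic_iff S (FractionRing S) L).mpr (Algebra.IsAlgebraic.isAlgebraic (b i))).exists_integral_multiple
  choose m hm hmi using hint
  let T : Subalgebra S L := Algebra.adjoin S (Set.range fun i => m i • b i)
  have hTle : T ≤ integralClosure S L := Algebra.adjoin_le (by rintro _ ⟨i, rfl⟩; exact hmi i)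
  have hTfg : T.toSubmodule.FG := fg_adjoin_of_finite (Set.finite_range _) (by rintro _ ⟨i, rfl⟩; exact hmi i)
  have : Module.Finite S T := Module.Finite.iff_fg.mpr hTfg
  letI : Algebra R T := ((algebraMap S T).comp (algebraMap R S)).toAlgebra
  have : IsScalarTower R S T := IsScalarTower.of_algebraMap_eq fun x => rfl
  have hTft : Algebra.FiniteType R T := Algebra.FiniteType.trans hS inferInstance
  have hinj : Function.Injective (algebraMap S L) := by
    rw [IsScalarTower.algebraMap_eq S (FractionRing S) L]
    exact (algebraMap (FractionRing S) L).injective.comp (IsFractionRing.injective S (FractionRing S))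
  have : IsFractionRing T L := IsFractionRing.of_field T L fun x => by
    obtain ⟨⟨d, hd⟩, hd'⟩ := IsLocalization.exist_integer_multiples_of_finite S⁰
      (fun i => b.repr x i / algebraMap S (FractionRing S) (m i))
    choose a ha using hd'
    have hmem : (d : S) • x ∈ T := by
      rw [← b.sum_repr x, Finset.smul_sum]
      refine T.sum_mem fun i _ => ?_
      have : (d : S) • (b.repr x i • b i) = a i • (m i • b i) := by
        rw [← algebraMap_smul (FractionRing S) (a i), ha i, ← algebraMap_smul (FractionRing S) (m i),
          ← algebraMap_smul (FractionRing S) d, Algebra.smul_def d, ← smul_assoc, ← smul_assoc, smul_eq_mul, smul_eq_mul]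
        congr 1
        have h0 : algebraMap S (FractionRing S) (m i) ≠ 0 :=
          (map_ne_zero_iff _ (IsFractionRing.injective S (FractionRing S))).mpr (hm i)
        simp [mul_assoc, div_mul_cancel₀ _ h0]
      rw [this]
      exact T.smul_mem (Algebra.subset_adjoin ⟨i, rfl⟩) _
    refine ⟨⟨_, hmem⟩, algebraMap S T d, ?_⟩
    show x = (d : S) • x / algebraMap S L d
    rw [eq_div_iff ((map_ne_zero_iff _ hinj).mpr (nonZeroDivisors.ne_zero hd)), Algebra.smul_def, mul_comm]
  have h2 : Module.Finite T (integralClosure T L) := (Groth.Agent.CAlgH.isN1_iff_finite L).mp (h T hTft)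
  have h3 : Module.Finite S (integralClosure T L) := Module.Finite.trans T _
  let incl : integralClosure T L →ₗ[S] L := (IsScalarTower.toAlgHom S (integralClosure T L) L).toLinearMap
  refine Module.Finite.iff_fg.mpr (?_ : (integralClosure S L).toSubmodule.FG)
  have : (integralClosure S L).toSubmodule = LinearMap.range incl := by
    ext x
    constructor
    · intro hx; exact ⟨⟨x, IsIntegral.tower_top (hx : IsIntegral S x)⟩, rfl⟩
    · rintro ⟨⟨y, hy⟩, rfl⟩
      exact (isIntegral_trans y (hy : IsIntegral T y) : IsIntegral S y)
  rw [this]
  exact Module.Finite.iff_fg.mp (Module.Finite.range incl)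

end Groth.Agent.S9397
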