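import Groth.Statements.S9399
import Groth.Agent.CAlgH.Nagata
import Mathlib.RingTheory.RingHom.FiniteType

set_option autoImplicit false
universe u
open CAlg nonZeroDivisors

namespace Groth.Agent.S9399

/-- Being universally Japanese can be checked on a finite cover of Spec R by principal opens. -/
theorem result (R : Type u) [CommRing R]
    {ι : Type u} [Finite ι] (f : ι → R) (hf : Ideal.span (Set.range f) = ⊤)
    (h : ∀ i, CAlg.IsUniversallyJapanese (Localization.Away (f i))) :
    CAlg.IsUniversallyJapanese R := by
  intro S _ _ _ hS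
  let ν := {i : ι // algebraMap R S (f i) ≠ 0}
  let g : ν → S := fun i => algebraMap R S (f i.1)
  have hg : Ideal.span (Set.range g) = ⊤ := by
    rw [← top_le_iff, ← Ideal.map_top (algebraMap R S), ← hf, Ideal.map_span, Ideal.span_le]
    rintro _ ⟨_, ⟨i, rfl⟩, rfl⟩
    by_cases h0 : algebraMap R S (f i) = 0
    · rw [h0]; exact Ideal.zero_mem _
    · exact Ideal.subset_span ⟨⟨i, h0⟩, rfl⟩
  let Sf : ν → Type u := fun i => Localization.Away (g i)
  have : ∀ i, IsDomain (Sf i) := fun i =>
    IsLocalization.isDomain_localization (powers_le_nonZeroDivisors_of_noZeroDivisors i.2)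
  refine Groth.Agent.CAlgH.isN2_of_cover S g hg Sf fun i => ?_
  letI : Algebra (Localization.Away (f i.1)) (Sf i) := (Localization.awayMap (algebraMap R S) (f i.1)).toAlgebra
  refine h i.1 (Sf i) ?_
  have : IsScalarTower R (Localization.Away (f i.1)) (Sf i) := IsScalarTower.of_algebraMap_eq fun x => by
    show _ = Localization.awayMap (algebraMap R S) (f i.1) (algebraMap R _ x)
    rw [Localization.awayMap, IsLocalization.Away.map, IsLocalization.map_eq, ← IsScalarTower.algebraMap_apply]
  exact Algebra.FiniteType.of_restrictScalars_finiteType R _ _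

end Groth.Agent.S9399
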