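import Groth.Statements.S9402
import Mathlib.Tactic.Positivity
import Mathlib.Tactic.LinearCombination

set_option autoImplicit false
universe u
open CAlg

namespace Groth.Agent.S9402

/-- Let R → S be a ring map with S a nonzero algebra over the rationals and f ∈ S such that some
S-linear form on the module of differentials of S over R sends df to 1 (that is, df spans a free
direct summand of rank one). Then f is not nilpotent. (The published statement asks only that S·df
be a direct summand of the module of differentials, which also holds for the rationals with a
square-zero element adjoined and for the zero ring, where f is nilpotent; this row asks for an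
S-linear form on the differentials sending df to 1, as the published proof uses, and S nonzero.) -/
theorem result (R : Type u) [CommRing R] (S : Type u)
    [CommRing S] [Nontrivial S] [Algebra R S] [Algebra ℚ S] (f : S)
    (θ : Ω[S⁄R] →ₗ[S] S) (hθ : θ (KaehlerDifferential.D R S f) = 1) : ¬ IsNilpotent f := by
  rintro ⟨n, hn⟩
  induction n with
  | zero => simp at hn
  | succ n ih =>
    apply ih
    have h := congrArg (fun x => θ (KaehlerDifferential.D R S x)) hn
    simp only [Derivation.leibniz_pow, Nat.add_sub_cancel, map_nsmul, map_smul, hθ, map_zero,
      smul_eq_mul, mul_one, nsmul_eq_mul] at h
    have hu : IsUnit ((n + 1 : ℕ) : S) := by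
      have : IsUnit ((n + 1 : ℕ) : ℚ) := by simp; positivity
      simpa using this.map (algebraMap ℚ S)
    exact hu.mul_right_eq_zero.mp h

end Groth.Agent.S9402
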