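import Groth.Statements.S9403
import Mathlib.Tactic.Positivity
import Mathlib.Tactic.LinearCombination
import Mathlib.RingTheory.Filtration

set_option autoImplicit false
universe u
open CAlg

namespace Groth.Agent.S9403

/-- Let R → S be a ring map with S a Noetherian local ring which is an algebra over the rationals, and f
∈ S such that some S-linear form on the module of differentials of S over R sends df to 1 (df spans
a free direct summand of rank one). Then f is a nonzerodivisor of S. (The published statement asks
only that S·df be a direct summand of the module of differentials, which also holds for the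
rationals with a square-zero element adjoined, where f is a zero divisor; this row asks for an
S-linear form on the differentials sending df to 1, as the published proof uses.) -/
theorem result (R : Type u) [CommRing R]
    (S : Type u) [CommRing S] [IsLocalRing S] [IsNoetherianRing S] [Algebra R S] [Algebra ℚ S]
    (f : S) (θ : Ω[S⁄R] →ₗ[S] S) (hθ : θ (KaehlerDifferential.D R S f) = 1) : f ∈ nonZeroDivisors S := by
  by_cases hu : IsUnit f
  · exact hu.mem_nonZeroDivisors
  refine mem_nonZeroDivisors_iff_right.mpr fun g hg => ?_
  let δ : Derivation R S S := θ.compDer (KaehlerDifferential.D R S)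
  have hδ : δ f = 1 := hθ
  have key : ∀ n, g ∈ Ideal.span {f} ^ n := by
    intro n
    rw [Ideal.span_singleton_pow]
    induction n with
    | zero => simp
    | succ n ih =>
      obtain ⟨h, rfl⟩ := Ideal.mem_span_singleton'.mp ih
      have h1 := congrArg δ hg
      simp only [Derivation.leibniz, Derivation.leibniz_pow, hδ, map_zero, smul_eq_mul, nsmul_eq_mul,
        mul_one] at h1
      have e : f * ((n:S) * f ^ (n-1)) = (n:S) * f ^ n := by
        cases n with
        | zero => simp
        | succ m => rw [Nat.add_sub_cancel, pow_succ]; ring
      have hn1 : IsUnit ((n + 1 : ℕ) : S) := by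
        have : IsUnit ((n + 1 : ℕ) : ℚ) := by simp; positivity
        simpa using this.map (algebraMap ℚ S)
      rw [Ideal.mem_span_singleton]
      refine (IsUnit.dvd_mul_left hn1).mp ⟨- δ h, ?_⟩
      push_cast
      rw [pow_succ]
      linear_combination h1 - h * e
  have := Ideal.iInf_pow_eq_bot_of_isLocalRing (Ideal.span {f}) (by
    rw [Ne, Ideal.span_singleton_eq_top]; exact hu)
  have hmem : g ∈ ⨅ n, Ideal.span {f} ^ n := Submodule.mem_iInf _ |>.mpr key
  rwa [this, Ideal.mem_bot] at hmem

end Groth.Agent.S9403
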