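import Groth.Statements.S9411
import Groth.Agent.CAlgH.RegularSepExt
import Groth.Agent.CAlgH.RegularLocalField
import Groth.Agent.CommAlg6.NormalTensorField
import Groth.Agent.CAlgH.ExcellentNormal

set_option autoImplicit false
universe u
open EGA4

namespace Groth.Agent.S9411

open TensorProduct IsLocalRing Groth.Agent.CAlgH

theorem tensor_separable (k k' L A : Type u) [Field k] [Field k'] [Field L] [CommRing A]
    [Algebra k k'] [Algebra.IsSeparable k k'] [Algebra k' L] [Algebra k L] [IsScalarTower k k' L]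
    [Algebra k' A] [Algebra k A] [IsScalarTower k k' A] (h : EGA4.IsGeomNormal k A) :
    EGA4.IsNormalRing (L ⊗[k'] A) := by
  intro Q _
  let π : L ⊗[k] A →+* L ⊗[k'] A := (Algebra.TensorProduct.mapOfCompatibleSMul k' k k' L A).toRingHom
  have hπ : Function.Surjective π := Algebra.TensorProduct.mapOfCompatibleSMul_surjective k' k k' L A
  let P := Q.comap π
  let S1 := Localization.AtPrime P
  let u : k' →ₐ[k] L ⊗[k] A := Algebra.TensorProduct.includeLeft.comp (IsScalarTower.toAlgHom k k' L)
  let v : k' →ₐ[k] L ⊗[k] A := Algebra.TensorProduct.includeRight.comp (IsScalarTower.toAlgHom k k' A)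
  let l : L ⊗[k] A →ₐ[k] S1 := IsScalarTower.toAlgHom k (L ⊗[k] A) S1
  have huv : ∀ x : k', π (u x) = π (v x) := fun x => by
    show (algebraMap k' L x) ⊗ₜ[k'] (1 : A) = (1 : L) ⊗ₜ[k'] algebraMap k' A x
    rw [Algebra.algebraMap_eq_smul_one, Algebra.algebraMap_eq_smul_one, smul_tmul]
  have key : ∀ x : k', l (u x) = l (v x) := by
    intro x
    have hx : IsSeparable k x := Algebra.IsSeparable.isSeparable k x
    let P0 := (minpoly k x).map (algebraMap k k')
    obtain ⟨G, hG⟩ : (Polynomial.X - Polynomial.C x) ∣ P0 :=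
      Polynomial.dvd_iff_isRoot.mpr (by simp [P0, Polynomial.IsRoot.def, Polynomial.eval_map, ← Polynomial.aeval_def])
    have hGx : G.eval x ≠ 0 := by
      intro h0
      have hd : P0.derivative.eval x = 0 := by rw [hG]; simp [h0]
      refine (Polynomial.Separable.aeval_derivative_ne_zero hx (minpoly.aeval k x)) ?_
      rwa [Polynomial.derivative_map, Polynomial.eval_map, ← Polynomial.aeval_def] at hd
    -- evaluate at `v x` with coefficients through `u`
    have h1 : (l.comp u).toRingHom.comp (algebraMap k k') = algebraMap k S1 := (l.comp u).comp_algebraMap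
    have h2 : Polynomial.eval₂ (l.comp u).toRingHom (l (v x)) P0 = 0 := by
      rw [Polynomial.eval₂_map, h1, ← Polynomial.aeval_def,
        show l (v x) = (l.comp v) x from rfl, Polynomial.aeval_algHom_apply, minpoly.aeval, map_zero]
    rw [hG, Polynomial.eval₂_mul, Polynomial.eval₂_sub, Polynomial.eval₂_X, Polynomial.eval₂_C] at h2
    have hG2 : IsUnit (Polynomial.eval₂ (l.comp u).toRingHom (l (v x)) G) := by
      rw [show Polynomial.eval₂ (l.comp u).toRingHom (l (v x)) G =
        algebraMap (L ⊗[k] A) S1 (Polynomial.eval₂ u.toRingHom (v x) G) from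
        (Polynomial.hom_eval₂ G u.toRingHom (algebraMap (L ⊗[k] A) S1) (v x)).symm]
      refine IsLocalization.map_units S1 (⟨_, ?_⟩ : P.primeCompl)
      show π (Polynomial.eval₂ u.toRingHom (v x) G) ∉ Q
      rw [Polynomial.hom_eval₂, ← huv]
      rw [show π (u x) = (π.comp u.toRingHom) x from rfl, Polynomial.eval₂_hom]
      exact fun hmem => Ideal.IsPrime.ne_top inferInstance
        (Ideal.eq_top_of_isUnit_mem Q hmem ((isUnit_iff_ne_zero.mpr hGx).map _))
    exact (sub_eq_zero.mp ((IsUnit.mul_left_eq_zero hG2).mp h2)).symm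
  let fL : L →ₐ[k'] S1 := { (l.comp Algebra.TensorProduct.includeLeft).toRingHom with commutes' := fun x => rfl }
  let fA : A →ₐ[k'] S1 :=
    { (l.comp Algebra.TensorProduct.includeRight).toRingHom with commutes' := fun x => (key x).symm }
  let ψ := Algebra.TensorProduct.lift fL fA fun _ _ => Commute.all _ _
  have hψ : ∀ z, ψ (π z) = l z := by
    intro z
    induction z using TensorProduct.induction_on with
    | zero => simp
    | add a b ha hb => rw [map_add, map_add, map_add, ha, hb]
    | tmul a b =>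
      show ψ (a ⊗ₜ[k'] b) = l (a ⊗ₜ[k] b)
      rw [Algebra.TensorProduct.lift_tmul]
      show l (a ⊗ₜ[k] 1) * l (1 ⊗ₜ[k] b) = _
      rw [← map_mul, Algebra.TensorProduct.tmul_mul_tmul, mul_one, one_mul]
  have hbij := localRingHom_bijective_of_surjective_of_ker_killed π hπ Q fun z hz => by
    have h0 : algebraMap (L ⊗[k] A) S1 z = algebraMap (L ⊗[k] A) S1 0 := by
      rw [map_zero]; exact (hψ z).symm.trans (by rw [hz, map_zero])
    obtain ⟨s, hs⟩ := (IsLocalization.eq_iff_exists P.primeCompl S1).mp h0
    exact ⟨s, s.2, by rw [hs, mul_zero]⟩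
  have hn : EGA4.IsNormalRing (L ⊗[k] A) :=
    _root_.Groth.Agent.CommAlg6.isNormalRing_of_ringEquiv (Algebra.TensorProduct.comm k A L).toRingEquiv
      (_root_.Groth.Agent.CommAlg6.NormalTensor.isNormalRing_tensor_of_isGeomNormal k A L h
        (_root_.Groth.Agent.CAlgH.ExcellentNormal.isNormalRing_of_isIntegrallyClosed L))
  obtain ⟨h1, h2⟩ := hn P
  haveI := h1
  haveI := h2
  exact ⟨(RingEquiv.ofBijective _ hbij).symm.toMulEquiv.isDomain, IsIntegrallyClosed.of_equiv (RingEquiv.ofBijective _ hbij)⟩

theorem of_separable (k k' A : Type u) [Field k] [Field k'] [CommRing A]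
    [Algebra k k'] [Algebra.IsSeparable k k'] [Algebra k' A] [Algebra k A] [IsScalarTower k k' A]
    (h : EGA4.IsGeomNormal k' A) : EGA4.IsGeomNormal k A := by
  intro K _ _ hK
  let R0 := k' ⊗[k] K
  haveI : IsReduced R0 :=
    haveI := isReduced_tensor_separable k k' K
    isReduced_of_injective _ (Algebra.TensorProduct.comm k k' K).injective
  haveI : IsArtinianRing R0 := IsArtinianRing.of_finite k' R0
  let e : A ⊗[k'] R0 ≃+* K ⊗[k] A :=
    (Algebra.TensorProduct.cancelBaseChange k k' A A K).toRingEquiv.trans (Algebra.TensorProduct.comm k A K).toRingEquiv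
  refine _root_.Groth.Agent.CommAlg6.isNormalRing_of_ringEquiv e ?_
  intro Q _
  let m := Q.comap (Algebra.TensorProduct.includeRight (R := k') (A := A) : R0 →ₐ[k'] A ⊗[k'] R0)
  haveI : m.IsPrime := Ideal.comap_isPrime _ _
  haveI : m.IsMaximal := IsArtinianRing.isMaximal_of_isPrime m
  letI := Ideal.Quotient.field m
  let π : A ⊗[k'] R0 →+* A ⊗[k'] (R0 ⧸ m) :=
    (Algebra.TensorProduct.map (AlgHom.id k' A) (Ideal.Quotient.mkₐ k' m)).toRingHom
  have hπ : Function.Surjective π :=
    Algebra.TensorProduct.map_surjective (AlgHom.id k' A) (Ideal.Quotient.mkₐ k' m) Function.surjective_id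
      (Ideal.Quotient.mkₐ_surjective k' m)
  have hker : RingHom.ker π ≤ Q := by
    refine (le_of_eq (Algebra.TensorProduct.lTensor_ker _ (Ideal.Quotient.mkₐ_surjective k' m))).trans ?_
    rw [show RingHom.ker (Ideal.Quotient.mkₐ k' m) = m from Ideal.mk_ker]
    exact Ideal.map_comap_le
  let Q' := Q.map π
  haveI : Q'.IsPrime := Ideal.map_isPrime_of_surjective hπ hker
  have hQ : Q'.comap π = Q := by
    rw [Ideal.comap_map_of_surjective π hπ, sup_eq_left]; exact hker
  -- `m` dies in the localisation
  have hm : ∀ x ∈ m, algebraMap R0 (Localization.AtPrime m) x = 0 := by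
    haveI : IsReduced (Localization.AtPrime m) := isReduced_localizationPreserves m.primeCompl _ inferInstance
    haveI : IsArtinianRing (Localization.AtPrime m) :=
      IsArtinianRing.localization_artinian m.primeCompl _
    intro x hx
    refine IsReduced.eq_zero _ ?_
    have hx' : algebraMap R0 (Localization.AtPrime m) x ∈ maximalIdeal (Localization.AtPrime m) :=
      (IsLocalization.AtPrime.to_map_mem_maximal_iff _ m x).mpr hx
    obtain ⟨n, hn⟩ := IsArtinianRing.isNilpotent_jacobson_bot (R := Localization.AtPrime m)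
    rw [← IsLocalRing.jacobson_eq_maximalIdeal (⊥ : Ideal (Localization.AtPrime m)) bot_ne_top] at hx'
    have hp := Ideal.pow_mem_pow hx' n
    rw [hn] at hp
    exact ⟨n, hp⟩
  have hnor : EGA4.IsNormalRing (A ⊗[k'] (R0 ⧸ m)) :=
    _root_.Groth.Agent.CommAlg6.isNormalRing_of_ringEquiv (Algebra.TensorProduct.comm k' (R0 ⧸ m) A).toRingEquiv
      (h (R0 ⧸ m) inferInstance)
  have hbij := localRingHom_bijective_of_surjective_of_ker_killed π hπ Q' fun z hz => by
    have hz' : z ∈ RingHom.ker (algebraMap (A ⊗[k'] R0) (Localization.AtPrime (Q'.comap π))) := by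
      refine (?_ : RingHom.ker π ≤ _) hz
      refine (le_of_eq (Algebra.TensorProduct.lTensor_ker _ (Ideal.Quotient.mkₐ_surjective k' m))).trans ?_
      rw [show RingHom.ker (Ideal.Quotient.mkₐ k' m) = m from Ideal.mk_ker, Ideal.map_le_iff_le_comap]
      intro x hx
      obtain ⟨⟨s, hs⟩, hsx⟩ := (IsLocalization.map_eq_zero_iff m.primeCompl _ x).mp (hm x hx)
      refine (IsLocalization.map_eq_zero_iff (Q'.comap π).primeCompl _ _).mpr
        ⟨⟨Algebra.TensorProduct.includeRight s, fun hmem => hs ?_⟩, ?_⟩
      · show Algebra.TensorProduct.includeRight s ∈ Q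
        rw [← hQ]; exact hmem
      · rw [← map_mul, hsx, map_zero]
    obtain ⟨s, hs⟩ := (IsLocalization.map_eq_zero_iff (Q'.comap π).primeCompl _ z).mp hz'
    exact ⟨s, s.2, hs⟩
  obtain ⟨h1, h2⟩ := hnor Q'
  haveI := h1
  haveI := h2
  let e2 : Localization.AtPrime Q ≃+* Localization.AtPrime Q' :=
    (Localization.localRingEquiv (Q'.comap π) Q (RingEquiv.refl _) hQ).symm.trans (RingEquiv.ofBijective _ hbij)
  exact ⟨e2.toMulEquiv.isDomain, IsIntegrallyClosed.of_equiv (R := Localization.AtPrime Q') (S := Localization.AtPrime Q) e2.symm⟩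

/-- Let k'/k be a separable algebraic field extension and A a k'-algebra. Geometric normality of A over
k' is equivalent to geometric normality of A over k. -/
theorem result (k : Type u) [Field k] (k' : Type u) [Field k']
    [Algebra k k'] [Algebra.IsSeparable k k'] (A : Type u) [CommRing A] [Algebra k' A]
    [Algebra k A] [IsScalarTower k k' A] :
    EGA4.IsGeomNormal k A ↔ EGA4.IsGeomNormal k' A := by
  exact ⟨fun h K _ _ _ =>
    letI : Algebra k K := Algebra.compHom K (algebraMap k k')
    haveI : IsScalarTower k k' K := IsScalarTower.of_algebraMap_eq fun _ => rfl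
    tensor_separable k k' K A h, of_separable k k' A⟩

end Groth.Agent.S9411
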