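import Groth.Statements.S9412
import Groth.Agent.CommAlg6.FibreAt

set_option autoImplicit false
universe u
open EGA4
open TensorProduct

namespace Groth.Agent.S9412

/-- A localization of a geometrically normal algebra over a field k is geometrically normal over k. -/
theorem result (k : Type u) [Field k] (A : Type u) [CommRing A]
    [Algebra k A] (M : Submonoid A) (B : Type u) [CommRing B] [Algebra A B] [IsLocalization M B]
    [Algebra k B] [IsScalarTower k A B] (h : EGA4.IsGeomNormal k A) :
    EGA4.IsGeomNormal k B := by
  intro k' _ _ hk'
  let T := TensorProduct k k' A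
  let U := TensorProduct k k' B
  letI : Algebra T U :=
    (Algebra.TensorProduct.map (AlgHom.id k k') (IsScalarTower.toAlgHom k A B)).toAlgebra
  haveI : IsScalarTower k' T U := .of_algebraMap_eq fun x => by
    show _ = Algebra.TensorProduct.map (AlgHom.id k k') (IsScalarTower.toAlgHom k A B) (x ⊗ₜ[k] (1 : A))
    simp [U]
  haveI := IsLocalization.tensorProduct_tensorProduct_right k k' M B
    (RingHom.ext fun x => by simp [RingHom.algebraMap_toAlgebra])
  intro q _
  let W := M.map (Algebra.TensorProduct.includeRight (R := k) (A := k'))
  obtain ⟨h1, h2⟩ := h k' hk' (q.comap (algebraMap T U))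
  haveI : IsLocalization.AtPrime (Localization.AtPrime q) (q.comap (algebraMap T U)) :=
    IsLocalization.isLocalization_isLocalization_atPrime_isLocalization W (Localization.AtPrime q) q
  let e := (IsLocalization.algEquiv (q.comap (algebraMap T U)).primeCompl
    (Localization.AtPrime (q.comap (algebraMap T U))) (Localization.AtPrime q)).toRingEquiv
  haveI := h1
  haveI := h2
  haveI : IsDomain (Localization.AtPrime q) := e.symm.toMulEquiv.isDomain
  exact ⟨inferInstance, IsIntegrallyClosed.of_equiv e⟩

end Groth.Agent.S9412
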