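import Groth.Statements.S9423
import Groth.Agent.Synt15.SpecFibre
import Groth.Agent.CAlgH.CIOpen
import Groth.Agent.H8Lim.FlatDescent
-- import your own Groth.Agent.* helpers here

set_option autoImplicit false
universe u
open Synt

namespace Groth.Agent.S9423

open TensorProduct in
/-- Let (A_i) be a directed system of A₀-algebras with colimit A (given by compatible maps A_i → A which
are jointly surjective and whose kernels die in the system), and B₀ → C₀ a homomorphism of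
A₀-algebras with C₀ of finite presentation over B₀. If the base change of B₀ → C₀ along B₀ → B₀
⊗_{A₀} A is syntomic (flat, of finite presentation, with local complete intersection fibres), then
already its base change along B₀ → B₀ ⊗_{A₀} A_i is syntomic for some index i. (The published
statement also treats relative global complete intersections; this row states the syntomic case.) -/
theorem result {ι : Type u} [Preorder ι] [IsDirected ι (· ≤ ·)] [Nonempty ι]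
    (A₀ : Type u) [CommRing A₀] (G : ι → Type u) [∀ i, CommRing (G i)] [∀ i, Algebra A₀ (G i)]
    (f : ∀ i j, i ≤ j → (G i →ₐ[A₀] G j)) (A : Type u) [CommRing A] [Algebra A₀ A]
    (g : ∀ i, G i →ₐ[A₀] A) (hg : ∀ i j (h : i ≤ j), (g j).comp (f i j h) = g i)
    (hsurj : ∀ a : A, ∃ i, ∃ x : G i, g i x = a)
    (hker : ∀ i (x : G i), g i x = 0 → ∃ j, ∃ h : i ≤ j, f i j h x = 0)
    (B₀ : Type u) [CommRing B₀] [Algebra A₀ B₀] (C₀ : Type u) [CommRing C₀] [Algebra A₀ C₀]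
    [Algebra B₀ C₀] [IsScalarTower A₀ B₀ C₀] [Algebra.FinitePresentation B₀ C₀]
    (h : Synt.IsSyntomic (B₀ ⊗[A₀] A) ((B₀ ⊗[A₀] A) ⊗[B₀] C₀)) :
    ∃ i, Synt.IsSyntomic (B₀ ⊗[A₀] G i) ((B₀ ⊗[A₀] G i) ⊗[B₀] C₀) := by
  classical
  let g' := Groth.Agent.CAlgH.baseChangeMap B₀ g
  have hs : Groth.Agent.CAlgH.ColimSys g' :=
    (Groth.Agent.CAlgH.ColimSys.of_directed f g hg hsurj hker).baseChange B₀
  haveI := h.1
  obtain ⟨j, hj⟩ := Groth.Agent.H8Lim.exists_flat_stage hs (B₀ := C₀)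
  haveI hloc : ∀ (q : Ideal ((B₀ ⊗[A₀] G j) ⊗[B₀] C₀)) [q.IsPrime],
      IsLocalRing (EGA4.FibLocRing (B₀ ⊗[A₀] G j) ((B₀ ⊗[A₀] G j) ⊗[B₀] C₀) q) :=
    fun q _ => Groth.Agent.CommAlg6.isLocalRing_fibLocRing q
  let T : Set ((B₀ ⊗[A₀] G j) ⊗[B₀] C₀) := {a | ∀ (q : Ideal ((B₀ ⊗[A₀] G j) ⊗[B₀] C₀)) [q.IsPrime], a ∉ q →
    Pi1.IsCompleteIntersection (EGA4.FibLocRing (B₀ ⊗[A₀] G j) ((B₀ ⊗[A₀] G j) ⊗[B₀] C₀) q)}
  let φ := Algebra.TensorProduct.map (g' j) (AlgHom.id B₀ C₀)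
  have htop : Ideal.span (φ '' T) = ⊤ := by
    by_contra hne
    obtain ⟨M, hM, hle⟩ := Ideal.exists_le_maximal _ hne
    obtain ⟨a, ha, hall⟩ := Groth.Agent.CAlgH.CIOpen.exists_notMem_forall_ci
      (R := B₀ ⊗[A₀] G j) (A := (B₀ ⊗[A₀] G j) ⊗[B₀] C₀) (M.comap φ.toRingHom)
      ((Groth.Agent.Synt15.ci_fibLocRing_tensor (g' j) M).1 (Groth.Agent.Synt15.ci_fibre_of_isSyntomic h M))
    exact ha (hle (Ideal.subset_span ⟨a, hall, rfl⟩))
  obtain ⟨c, hc⟩ := Finsupp.mem_span_iff_linearCombination _ _ _ |>.1 ((Ideal.eq_top_iff_one _).1 htop)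
  have hc' : ∑ x ∈ c.support, c x * (x : (B₀ ⊗[A₀] A) ⊗[B₀] C₀) = 1 := by
    rw [← hc, Finsupp.linearCombination_apply, Finsupp.sum]
    rfl
  choose t ht htφ using fun x : c.support => x.1.2
  obtain ⟨i, ⟨y, hy⟩⟩ : ∃ i, ∃ y : c.support → (B₀ ⊗[A₀] G i) ⊗[B₀] C₀,
      ∀ x, Algebra.TensorProduct.map (g' i) (AlgHom.id B₀ C₀) (y x) = c x.1 := by
    suffices H : ∀ s : Finset c.support, ∃ i, ∃ y : c.support → (B₀ ⊗[A₀] G i) ⊗[B₀] C₀,
        ∀ x ∈ s, Algebra.TensorProduct.map (g' i) (AlgHom.id B₀ C₀) (y x) = c x.1 by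
      obtain ⟨i, y, hy⟩ := H Finset.univ
      exact ⟨i, y, fun x => hy x (Finset.mem_univ x)⟩
    intro s
    induction s using Finset.induction with
    | empty => exact ⟨j, 0, by simp⟩
    | insert b s _ ih =>
      obtain ⟨i, y, hy⟩ := ih
      obtain ⟨i', z, hz⟩ := hs.rTensor_surj C₀ (c b.1)
      obtain ⟨k, ⟨hi⟩, ⟨hi'⟩⟩ := hs.dir i i'
      refine ⟨k, fun x => if x = b then Algebra.TensorProduct.map hi'.1 (AlgHom.id B₀ C₀) z
        else Algebra.TensorProduct.map hi.1 (AlgHom.id B₀ C₀) (y x), fun x hx => ?_⟩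
      by_cases hxb : x = b
      · subst hxb
        simp only [↓reduceIte]
        rw [← AlgHom.comp_apply, ← Algebra.TensorProduct.map_comp, hi'.2, AlgHom.id_comp]
        exact hz
      · simp only [hxb, ↓reduceIte]
        rw [← AlgHom.comp_apply, ← Algebra.TensorProduct.map_comp, hi.2, AlgHom.id_comp]
        exact hy x ((Finset.mem_insert.mp hx).resolve_left hxb)
  obtain ⟨k, ⟨hjk⟩, ⟨hik⟩⟩ := hs.dir j i
  let e : (B₀ ⊗[A₀] G k) ⊗[B₀] C₀ :=
    (∑ x : c.support, Algebra.TensorProduct.map hik.1 (AlgHom.id B₀ C₀) (y x) *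
      Algebra.TensorProduct.map hjk.1 (AlgHom.id B₀ C₀) (t x)) - 1
  have he : Algebra.TensorProduct.map (g' k) (AlgHom.id B₀ C₀) e = 0 := by
    simp only [e, map_sub, map_sum, map_mul, map_one, ← AlgHom.comp_apply, ← Algebra.TensorProduct.map_comp,
      hik.2, hjk.2, AlgHom.id_comp, hy]
    rw [sub_eq_zero, ← hc', ← Finset.sum_coe_sort c.support]
    exact Finset.sum_congr rfl fun x _ => congrArg (c x.1 * ·) (htφ x)
  obtain ⟨l, hkl, hel⟩ := hs.rTensor_kill C₀ e he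
  refine ⟨l, Groth.Agent.Synt15.isSyntomic_of_ci (Groth.Agent.Synt15.flat_tensor (hkl.comp hjk).1) inferInstance
    fun q _ => ?_⟩
  let ψ := Algebra.TensorProduct.map (hkl.comp hjk).1 (AlgHom.id B₀ C₀)
  obtain ⟨x, hx⟩ : ∃ x : c.support, ψ (t x) ∉ q := by
    by_contra hall
    push Not at hall
    have h1 : Algebra.TensorProduct.map hkl.1 (AlgHom.id B₀ C₀) e = 0 := hel
    apply ‹q.IsPrime›.ne_top
    rw [Ideal.eq_top_iff_one]
    simp only [e, map_sub, map_sum, map_mul, map_one, ← AlgHom.comp_apply, ← Algebra.TensorProduct.map_comp,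
      AlgHom.id_comp] at h1
    rw [← sub_eq_zero.1 h1]
    exact Ideal.sum_mem _ fun x _ => Ideal.mul_mem_left _ _ (hall x)
  exact (Groth.Agent.Synt15.ci_fibLocRing_tensor (hkl.comp hjk).1 q).2 (ht x (q.comap ψ.toRingHom) hx)

end Groth.Agent.S9423
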