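import Groth.Statements.S9425
import Mathlib.RingTheory.Etale.Basic

set_option autoImplicit false
universe u
open CAlg

namespace Groth.Agent.S9425

/-- A directed colimit of formally étale R-algebras is formally étale over R. The colimit is encoded by
compatible R-algebra maps S_i → S which are jointly surjective and whose kernels die further along
the system. -/
theorem result {ι : Type u} [Preorder ι] [IsDirected ι (· ≤ ·)] [Nonempty ι]
    (R : Type u) [CommRing R] (G : ι → Type u) [∀ i, CommRing (G i)] [∀ i, Algebra R (G i)]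
    (f : ∀ i j, i ≤ j → (G i →ₐ[R] G j)) (S : Type u) [CommRing S] [Algebra R S]
    (g : ∀ i, G i →ₐ[R] S) (hg : ∀ i j (h : i ≤ j), (g j).comp (f i j h) = g i)
    (hsurj : ∀ s : S, ∃ i, ∃ x : G i, g i x = s)
    (hker : ∀ i (x : G i), g i x = 0 → ∃ j, ∃ h : i ≤ j, f i j h x = 0)
    (h : ∀ i, Algebra.FormallyEtale R (G i)) : Algebra.FormallyEtale R S := by
  rw [Algebra.FormallyEtale.iff_comp_bijective]
  intro B _ _ I hI
  refine ⟨?_, fun φ => ?_⟩
  · intro φ₁ φ₂ hφ
    ext s
    obtain ⟨i, x, rfl⟩ := hsurj s
    exact AlgHom.congr_fun (Algebra.FormallyUnramified.comp_injective I hI (a₁ := φ₁.comp (g i)) (a₂ := φ₂.comp (g i))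
      (by simp only [← AlgHom.comp_assoc]; exact congrArg (AlgHom.comp · (g i)) hφ)) x
  choose L hL using fun i => Algebra.FormallySmooth.comp_surjective R (G i) I hI (φ.comp (g i))
  have compat : ∀ i j (hij : i ≤ j) (x : G i), L j (f i j hij x) = L i x := by
    intro i j hij x
    refine AlgHom.congr_fun (Algebra.FormallyUnramified.comp_injective I hI (a₁ := (L j).comp (f i j hij)) (a₂ := L i) ?_) x
    simp only [← AlgHom.comp_assoc, hL]
    rw [AlgHom.comp_assoc, hg]
  have well : ∀ i j (x : G i) (y : G j), g i x = g j y → L i x = L j y := by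
    intro i j x y hxy
    obtain ⟨m, him, hjm⟩ := directed_of (· ≤ ·) i j
    obtain ⟨m', hm', hz⟩ := hker m (f i m him x - f j m hjm y) (by
      rw [map_sub, ← AlgHom.comp_apply, ← AlgHom.comp_apply, hg, hg, hxy, sub_self])
    have := congrArg (L m') hz
    rw [compat, map_zero, map_sub, compat, compat, sub_eq_zero] at this
    exact this
  choose idx rep hrep using hsurj
  have hH : ∀ i (x : G i), L (idx (g i x)) (rep (g i x)) = L i x := fun i x => well _ _ _ _ (hrep _)
  let H : S →ₐ[R] B :=
    { toFun := fun s => L (idx s) (rep s)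
      map_one' := by
        obtain ⟨i⟩ := ‹Nonempty ι›
        rw [← map_one (g i), hH, map_one]
      map_mul' := fun s t => by
        obtain ⟨m, h1, h2⟩ := directed_of (· ≤ ·) (idx s) (idx t)
        have e : s * t = g m (f _ m h1 (rep s) * f _ m h2 (rep t)) := by
          rw [map_mul, ← AlgHom.comp_apply, ← AlgHom.comp_apply, hg, hg, hrep, hrep]
        show L _ (rep (s * t)) = _
        rw [e, hH, map_mul, compat, compat]
      map_zero' := by
        obtain ⟨i⟩ := ‹Nonempty ι›
        rw [← map_zero (g i), hH, map_zero]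
      map_add' := fun s t => by
        obtain ⟨m, h1, h2⟩ := directed_of (· ≤ ·) (idx s) (idx t)
        have e : s + t = g m (f _ m h1 (rep s) + f _ m h2 (rep t)) := by
          rw [map_add, ← AlgHom.comp_apply, ← AlgHom.comp_apply, hg, hg, hrep, hrep]
        show L _ (rep (s + t)) = _
        rw [e, hH, map_add, compat, compat]
      commutes' := fun r => by
        obtain ⟨i⟩ := ‹Nonempty ι›
        show L _ (rep (algebraMap R S r)) = _
        rw [← (g i).commutes r, hH, AlgHom.commutes] }
  refine ⟨H, AlgHom.ext fun s => ?_⟩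
  have := AlgHom.congr_fun (hL (idx s)) (rep s)
  simp only [AlgHom.comp_apply] at this
  rw [hrep] at this
  exact this

end Groth.Agent.S9425
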