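import Groth.Statements.S9428
import Mathlib.RingTheory.Etale.Basic
import Mathlib.RingTheory.Ideal.Quotient.PowTransition

set_option autoImplicit false
universe u
open CAlg

namespace Groth.Agent.S9428

/-- If R → S is formally étale and J ⊆ S is an ideal with R → S/J surjective, I ⊆ R its kernel (the
preimage of J), then R/I^n → S/J^n is bijective for all n. (The published statement adds that the
associated graded rings are then isomorphic, which follows from these bijections.) -/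
theorem result (R : Type u) [CommRing R] (S : Type u)
    [CommRing S] [Algebra R S] [Algebra.FormallyEtale R S] (J : Ideal S)
    (hJ : Function.Surjective (algebraMap R (S ⧸ J))) (n : ℕ) :
    Function.Bijective (Ideal.quotientMap (J ^ n) (algebraMap R S)
      (le_of_le_of_eq (Ideal.le_comap_pow (algebraMap R S) n) rfl :
        (J.comap (algebraMap R S)) ^ n ≤ (J ^ n).comap (algebraMap R S))) := by
  let I : Ideal R := J.comap (algebraMap R S)
  rcases Nat.eq_zero_or_pos n with rfl | hn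
  · have h1 : Subsingleton (R ⧸ I ^ 0) := Ideal.Quotient.subsingleton_iff.mpr (by simp [Ideal.one_eq_top])
    have h2 : Subsingleton (S ⧸ J ^ 0) := Ideal.Quotient.subsingleton_iff.mpr (by simp [Ideal.one_eq_top])
    exact ⟨fun a b _ => h1.elim a b, fun b => ⟨0, h2.elim _ _⟩⟩
  have hIn : ∀ a ∈ I ^ n, Algebra.ofId R (S ⧸ J) a = 0 := fun a ha => by
    show Ideal.Quotient.mk J (algebraMap R S a) = 0
    exact Ideal.Quotient.eq_zero_iff_mem.mpr (Ideal.pow_le_self hn.ne' ha : a ∈ I)
  let π : R ⧸ I ^ n →ₐ[R] S ⧸ J := Ideal.Quotient.liftₐ (I ^ n) (Algebra.ofId R (S ⧸ J)) hIn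
  have hπ : Function.Surjective π := fun c => by
    obtain ⟨a, rfl⟩ := hJ c
    exact ⟨Ideal.Quotient.mk _ a, rfl⟩
  have hker : RingHom.ker (π : R ⧸ I ^ n →+* S ⧸ J) ≤ I.map (Ideal.Quotient.mk (I ^ n)) := by
    intro q hq
    obtain ⟨a, rfl⟩ := Ideal.Quotient.mk_surjective q
    exact Ideal.mem_map_of_mem _ (show algebraMap R S a ∈ J from Ideal.Quotient.eq_zero_iff_mem.mp hq)
  have hpow : (I.map (Ideal.Quotient.mk (I ^ n))) ^ n = ⊥ := by
    rw [← Ideal.map_pow, Ideal.map_quotient_self]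
  have hnil : IsNilpotent (RingHom.ker (π : R ⧸ I ^ n →+* S ⧸ J)) :=
    ⟨n, le_bot_iff.mp ((Ideal.pow_right_mono hker n).trans hpow.le)⟩
  let σ : S →ₐ[R] R ⧸ I ^ n :=
    Algebra.FormallySmooth.liftOfSurjective (Ideal.Quotient.mkₐ R J) π hπ hnil
  have hσ : ∀ s, π (σ s) = Ideal.Quotient.mk J s := fun s =>
    AlgHom.congr_fun (Algebra.FormallySmooth.comp_liftOfSurjective (Ideal.Quotient.mkₐ R J) π hπ hnil) s
  have hσn : ∀ s ∈ J ^ n, σ s = 0 := by
    intro s hs
    have h1 : J.map σ.toRingHom ≤ I.map (Ideal.Quotient.mk (I ^ n)) := Ideal.map_le_iff_le_comap.mpr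
      fun x hx => hker (by show π (σ x) = 0; rw [hσ, Ideal.Quotient.eq_zero_iff_mem]; exact hx)
    have := Ideal.mem_map_of_mem σ.toRingHom hs
    rw [Ideal.map_pow] at this
    have h2 := Ideal.pow_right_mono h1 n this
    rwa [hpow, Ideal.mem_bot] at h2
  let inv : S ⧸ J ^ n →ₐ[R] R ⧸ I ^ n := Ideal.Quotient.liftₐ (J ^ n) σ hσn
  let F : R ⧸ I ^ n →ₐ[R] S ⧸ J ^ n := Ideal.Quotient.liftₐ (I ^ n) (Algebra.ofId R _) (fun a ha => by
    show Ideal.Quotient.mk (J^n) (algebraMap R S a) = 0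
    exact Ideal.Quotient.eq_zero_iff_mem.mpr (Ideal.le_comap_pow (algebraMap R S) n ha))
  have e1 : inv.comp F = AlgHom.id R _ := by
    apply Ideal.Quotient.algHom_ext
    exact Subsingleton.elim _ _
  have hnilJ : IsNilpotent (RingHom.ker (Ideal.Quotient.factor (Ideal.pow_le_self hn.ne' : J ^ n ≤ J))) := by
    refine ⟨n, le_bot_iff.mp ?_⟩
    rw [Ideal.Quotient.factor_ker, ← Ideal.map_pow, Ideal.map_quotient_self]
  have e2 : (F.comp σ) = Ideal.Quotient.mkₐ R (J ^ n) := by
    refine Algebra.FormallyUnramified.ext _ hnilJ fun s => ?_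
    apply Ideal.Quotient.eq.mpr
    rw [RingHom.mem_ker, map_sub, sub_eq_zero]
    obtain ⟨a, ha⟩ := Ideal.Quotient.mk_surjective (σ s)
    show Ideal.Quotient.factor _ (F (σ s)) = Ideal.Quotient.mk J s
    rw [← hσ s, ← ha]
    rfl
  have hFG : Function.Bijective F := by
    refine ⟨Function.LeftInverse.injective (g := inv) (AlgHom.congr_fun e1), fun q => ?_⟩
    obtain ⟨s, rfl⟩ := Ideal.Quotient.mk_surjective q
    exact ⟨σ s, AlgHom.congr_fun e2 s⟩
  exact hFG

end Groth.Agent.S9428
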