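import Groth.Statements.S9430
import Groth.Agent.Synt15.FieldLCI
-- import your own Groth.Agent.* helpers here

set_option autoImplicit false
universe u
open Synt

namespace Groth.Agent.S9430

/-- For a field extension K/k, every finite subset of K lies in a k-subalgebra of K which is a global
complete intersection over k; so K is the directed union of its k-subalgebras that are global
complete intersections over k. -/
theorem result (k : Type u) [Field k] (K : Type u)
    [Field K] [Algebra k K] (E : Finset K) :
    ∃ A : Subalgebra k K, (↑E : Set K) ⊆ (A : Set K) ∧ Synt.IsGlobalCI k A := by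
  let B := Algebra.adjoin k (E : Set K)
  haveI : Algebra.FiniteType k B := (Subalgebra.fg_iff_finiteType B).1 ⟨E, rfl⟩
  have hM : (⊥ : Ideal B).primeCompl = nonZeroDivisors B := by
    ext x; simp [Ideal.primeCompl, mem_nonZeroDivisors_iff_ne_zero]
  haveI : IsLocalization.AtPrime (FractionRing B) (⊥ : Ideal B) := by
    show IsLocalization (⊥ : Ideal B).primeCompl (FractionRing B)
    rw [hM]; exact (inferInstance : IsFractionRing B (FractionRing B))
  let e : FractionRing B ≃ₐ[k] Localization.AtPrime (⊥ : Ideal B) :=
    (IsLocalization.algEquiv (⊥ : Ideal B).primeCompl (FractionRing B) (Localization.AtPrime (⊥ : Ideal B))).restrictScalars k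
  haveI : Algebra.EssFiniteType B (FractionRing B) := Algebra.EssFiniteType.of_isLocalization (FractionRing B) (nonZeroDivisors B)
  haveI : Algebra.EssFiniteType k (FractionRing B) := Algebra.EssFiniteType.comp k B (FractionRing B)
  obtain ⟨g, hg, hG⟩ := Groth.Agent.Synt15.exists_isGlobalCI_of_isCIOver (⊥ : Ideal B)
    (Groth.Agent.Synt15.isCIOver_congr e (Groth.Agent.Synt15.isCIOver_of_regular (FractionRing B)))
  have hg0 : (g : K) ≠ 0 := fun h => hg (show g = 0 from Subtype.ext h)
  let φ : Localization.Away g →ₐ[k] K :=
    IsLocalization.liftAlgHom (M := Submonoid.powers g) (S := Localization.Away g) (f := B.val)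
      (fun y => by obtain ⟨_, m, rfl⟩ := y; exact (isUnit_iff_ne_zero.2 (by simpa using pow_ne_zero m hg0)))
  have hφ : ∀ b : B, φ (algebraMap B _ b) = (b : K) := fun b => by
    simp [φ, IsLocalization.liftAlgHom_apply, IsLocalization.lift_eq]
  have hinj : Function.Injective φ := (injective_iff_map_eq_zero _).2 fun z hz => by
    obtain ⟨b, s, rfl⟩ := IsLocalization.exists_mk'_eq (Submonoid.powers g) z
    have h1 := congrArg φ (IsLocalization.mk'_spec (Localization.Away g) b s)
    rw [map_mul, hz, zero_mul, hφ] at h1
    rw [show b = 0 from Subtype.ext h1.symm, IsLocalization.mk'_zero]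
  refine ⟨φ.range, fun x hx => ⟨algebraMap B _ ⟨x, Algebra.subset_adjoin hx⟩, hφ _⟩, ?_⟩
  exact Groth.Agent.Synt15.isGlobalCI_congr (AlgEquiv.ofInjective φ hinj) hG

end Groth.Agent.S9430
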