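import Groth.Statements.S9434
import Groth.Agent.CAlgH.EtaleFiniteCover

set_option autoImplicit false
universe u
open CAlg

namespace Groth.Agent.S9434

/-- Let R → S be a local homomorphism of local rings with S the localization of an étale R-algebra at a
prime. Then there is a finite, finitely presented, faithfully flat R-algebra S' such that for every
maximal ideal m' of S' the structure map R → S'_{m'} factors through some R-algebra map S → S'_{m'}. -/
theorem result (R : Type u) [CommRing R] [IsLocalRing R] (T : Type u) [CommRing T] [Algebra R T]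
    [Algebra.Etale R T] (q : Ideal T) [q.IsPrime] (S : Type u) [CommRing S] [IsLocalRing S]
    [Algebra T S] [IsLocalization.AtPrime S q] [Algebra R S] [IsScalarTower R T S]
    [IsLocalHom (algebraMap R S)] :
    ∃ (S' : Type u) (_ : CommRing S') (_ : Algebra R S'),
      Module.Finite R S' ∧ Algebra.FinitePresentation R S' ∧ Module.FaithfullyFlat R S' ∧
        ∀ (m' : Ideal S') [m'.IsMaximal], Nonempty (S →ₐ[R] Localization.AtPrime m') := by
  classical
  obtain ⟨f, hf, hstd⟩ := Algebra.IsEtaleAt.exists_isStandardEtale (R := R) q
  haveI := hstd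
  obtain ⟨S', _, _, _, _, hinj, hT'⟩ :=
    _root_.Groth.Agent.CAlgH.EtaleFiniteCover.exists_dominating' R (Localization.Away f)
  haveI := _root_.Groth.Agent.CAlgH.EtaleFiniteCover.faithfullyFlat_of_free (A := R) (T := S') hinj
  refine ⟨S', inferInstance, inferInstance, inferInstance,
    _root_.Groth.Agent.CAlgH.EtaleFiniteCover.finitePresentation_of_free R S', inferInstance, fun t _ => ?_⟩
  have hdis : Disjoint (Submonoid.powers f : Set T) (q : Set T) := by
    rw [Set.disjoint_left]
    rintro _ ⟨N, rfl⟩ h
    exact hf ((inferInstance : q.IsPrime).mem_of_pow_mem N h)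
  let Q := q.map (algebraMap T (Localization.Away f))
  haveI : Q.IsPrime := IsLocalization.isPrime_of_isPrime_disjoint _ _ _ inferInstance hdis
  have hQc : Q.comap (algebraMap T (Localization.Away f)) = q :=
    IsLocalization.comap_map_of_isPrime_disjoint _ _ inferInstance hdis
  have hqm : q.comap (algebraMap R T) = IsLocalRing.maximalIdeal R := by
    rw [← IsLocalization.AtPrime.under_maximalIdeal S q, Ideal.under_def, Ideal.comap_comap,
      ← IsScalarTower.algebraMap_eq]
    exact IsLocalRing.maximalIdeal_comap (algebraMap R S)
  have htm : t.under R = IsLocalRing.maximalIdeal R :=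
    IsLocalRing.eq_maximalIdeal (Ideal.IsMaximal.under R t)
  obtain ⟨w, hw, σ, hσ⟩ := hT' Q t (by
    rw [htm, Ideal.under_def, IsScalarTower.algebraMap_eq R T (Localization.Away f), ← Ideal.comap_comap]
    exact (congrArg (Ideal.comap (algebraMap R T)) hQc |>.trans hqm).symm)
  refine _root_.Groth.Agent.CAlgH.EtaleFiniteCover.exists_algHom_atPrime R T q S S' t w hw
    (σ.comp (IsScalarTower.toAlgHom R T (Localization.Away f))) ?_
  exact (congrArg (Ideal.comap (algebraMap T (Localization.Away f))) hσ).trans hQc

end Groth.Agent.S9434
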