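import Groth.Statements.S9435
import Mathlib
import Groth.Agent.FlatMorWeight.EtaleSplit
import Groth.Agent.FlatMorNoether.Relative

set_option autoImplicit false
universe u
open CAlg
open Polynomial

namespace Groth.Agent.S9435

/-- Given a prime p of a ring R and a finite separable extension L of κ(p), there is an étale R-algebra
R' with a prime p' over p whose residue field is κ(p)-isomorphic to L. Stated through an R-algebra
map ψ : R' → L whose image generates the field L: its kernel is such a prime p' and the induced
κ(p') → L is then an isomorphism over κ(p). -/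
theorem result (R : Type u) [CommRing R]
    (p : Ideal R) [p.IsPrime] (L : Type u) [Field L] [Algebra p.ResidueField L] [Algebra R L]
    [IsScalarTower R p.ResidueField L] [Module.Finite p.ResidueField L]
    [Algebra.IsSeparable p.ResidueField L] :
    ∃ (R' : Type u) (_ : CommRing R') (_ : Algebra R R') (_ : Algebra.Etale R R') (ψ : R' →ₐ[R] L),
      Subfield.closure (Set.range ψ) = ⊤ := by
  classical
  set F := p.ResidueField
  have hone : ∀ a : F, ∃ c : R, algebraMap R F c ≠ 0 ∧ algebraMap R F c * a ∈ Set.range (algebraMap R F) := by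
    intro a
    obtain ⟨b, c, rfl⟩ := _root_.Groth.Agent.FlatMorNoether.residueField_div p a
    by_cases h : algebraMap R F c = 0
    · exact ⟨1, by simp, 0, by rw [show algebraMap R p.ResidueField c = 0 from h]; simp⟩
    · exact ⟨c, h, b, (mul_div_cancel₀ _ h).symm⟩
  have hF : ∀ t : Finset F, ∃ c : R, algebraMap R F c ≠ 0 ∧
      ∀ a ∈ t, algebraMap R F c * a ∈ Set.range (algebraMap R F) := by
    intro t
    choose c hc0 hc using hone
    refine ⟨∏ a ∈ t, c a, ?_, fun a ha => ?_⟩
    · rw [map_prod]; exact Finset.prod_ne_zero_iff.2 fun a _ => hc0 a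
    · obtain ⟨x, hx⟩ := hc a
      refine ⟨x * ∏ b ∈ t.erase a, c b, ?_⟩
      rw [← Finset.mul_prod_erase t c ha, map_mul, map_mul, hx]
      ring
  obtain ⟨α, hα⟩ := Field.exists_primitive_element F L
  obtain ⟨g, c, hgm, hc, hg0, hg1⟩ := _root_.Groth.Agent.FlatMorWeight.exists_simple_root (R := R) hF α
    (Algebra.IsSeparable.isSeparable F α)
  let P : StandardEtalePair R :=
    { f := g, monic_f := hgm, g := derivative g, cond := ⟨1, 0, 1, by simp⟩ }
  have hP : P.HasMap (c • α) := ⟨hg0, isUnit_iff_ne_zero.2 hg1⟩
  refine ⟨P.Ring, inferInstance, inferInstance, inferInstance, P.lift (c • α) hP, ?_⟩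
  set C := Subfield.closure (Set.range (P.lift (c • α) hP))
  have hR : ∀ r : R, algebraMap R L r ∈ C := fun r =>
    Subfield.subset_closure ⟨algebraMap R P.Ring r, (P.lift (c • α) hP).commutes r⟩
  have hFC : ∀ a : F, algebraMap F L a ∈ C := fun a => by
    obtain ⟨b, d, rfl⟩ := _root_.Groth.Agent.FlatMorNoether.residueField_div p a
    rw [map_div₀, ← IsScalarTower.algebraMap_apply, ← IsScalarTower.algebraMap_apply]
    exact div_mem (hR b) (hR d)
  have hαC : α ∈ C := by
    have h1 : c • α ∈ C := Subfield.subset_closure ⟨P.X, P.lift_X _ hP⟩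
    have h2 : α = (algebraMap R L c)⁻¹ * (c • α) := by
      rw [Algebra.smul_def, inv_mul_cancel_left₀]
      rw [IsScalarTower.algebraMap_apply R F L]
      exact (_root_.map_ne_zero _).2 hc
    rw [h2]
    exact mul_mem (inv_mem (hR c)) h1
  have : (⊤ : IntermediateField F L) ≤ C.toIntermediateField hFC := by
    rw [← hα, IntermediateField.adjoin_le_iff]
    simpa using hαC
  exact eq_top_iff.2 fun x _ => this (IntermediateField.mem_top (x := x))

end Groth.Agent.S9435
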