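import Groth.Statements.S9439
import Mathlib
import Groth.Agent.CAlgH3.RegularLocal
import Groth.Agent.AdicRing.ComplHom

set_option autoImplicit false
universe u
open CAlg
open IsLocalRing
open scoped TensorProduct

namespace Groth.Agent.S9439

/-- A reduced quotient localises to the residue field at its associated primes. -/
theorem map_eq_maximalIdeal_of_reduced {B : Type u} [CommRing B] [IsNoetherianRing B] (J : Ideal B)
    [IsReduced (B ⧸ J)] (q : Ideal B) [q.IsPrime] (hq : q ∈ associatedPrimes B (B ⧸ J)) :
    J.map (algebraMap B (Localization.AtPrime q)) = maximalIdeal (Localization.AtPrime q) := by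
  classical
  obtain ⟨-, z, hz⟩ := isAssociatedPrime_iff.1 hq
  obtain ⟨a, rfl⟩ := Ideal.Quotient.mk_surjective z
  have hqz : ∀ x, x ∈ q ↔ x * a ∈ J := by
    intro x
    rw [hz, Submodule.mem_colon_singleton, Submodule.mem_bot]
    exact Ideal.Quotient.eq_zero_iff_mem (a := x * a)
  have hJq : J ≤ q := fun x hx => (hqz x).2 (J.mul_mem_right a hx)
  have haq : a ∉ q := fun h => by
    have h1 : a * a ∈ J := (hqz a).1 h
    have h2 : Ideal.Quotient.mk J a = 0 := by
      refine IsReduced.eq_zero _ ⟨2, ?_⟩
      rw [← map_pow, pow_two, Ideal.Quotient.eq_zero_iff_mem]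
      exact h1
    have h3 : (1 : B) ∈ q := (hqz 1).2 (by rw [one_mul]; exact Ideal.Quotient.eq_zero_iff_mem.1 h2)
    exact (inferInstance : q.IsPrime).ne_top ((Ideal.eq_top_iff_one q).2 h3)
  rw [← Localization.AtPrime.map_eq_maximalIdeal]
  refine le_antisymm (Ideal.map_mono hJq) (Ideal.map_le_iff_le_comap.2 fun x hx => ?_)
  rw [Ideal.mem_comap, IsLocalization.algebraMap_mem_map_algebraMap_iff q.primeCompl]
  exact ⟨a, haq, by rw [mul_comm]; exact (hqz x).1 hx⟩

/-- Let R be a Noetherian local ring, R^ its completion and p a prime with R_p a discrete valuation ring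
and with R^/pR^ reduced (p analytically unramified: the completion of R/p, which is R^/pR^, is
reduced). Then the localization of R^ at any associated prime of R^/pR^ is a discrete valuation
ring. -/
theorem result
    (R : Type u) [CommRing R] [IsLocalRing R] [IsNoetherianRing R] (p : Ideal R) [p.IsPrime]
    [IsDomain (Localization.AtPrime p)] [IsDiscreteValuationRing (Localization.AtPrime p)]
    (hp : IsReduced (AdicCompletion (IsLocalRing.maximalIdeal R) R ⧸
      p.map (algebraMap R (AdicCompletion (IsLocalRing.maximalIdeal R) R))))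
    (q : Ideal (AdicCompletion (IsLocalRing.maximalIdeal R) R)) [q.IsPrime]
    (hq : q ∈ associatedPrimes (AdicCompletion (IsLocalRing.maximalIdeal R) R)
      (AdicCompletion (IsLocalRing.maximalIdeal R) R ⧸
        p.map (algebraMap R (AdicCompletion (IsLocalRing.maximalIdeal R) R)))) :
    ∃ _ : IsDomain (Localization.AtPrime q), IsDiscreteValuationRing (Localization.AtPrime q) := by
  classical
  haveI := hp
  let B := AdicCompletion (IsLocalRing.maximalIdeal R) R
  haveI : IsNoetherianRing B :=
    _root_.Groth.Agent.AdicRing.isNoetherianRing_completion _ (IsNoetherian.noetherian _)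
  haveI : Module.Flat R B := AdicCompletion.flat_of_isNoetherian _
  have hmax := map_eq_maximalIdeal_of_reduced (p.map (algebraMap R B)) q hq
  obtain ⟨-, z, hz⟩ := isAssociatedPrime_iff.1 hq
  have hqz : ∀ x : B, x ∈ q ↔ x • z = 0 := fun x => by
    rw [hz, Submodule.mem_colon_singleton, Submodule.mem_bot]
  have hpq : q.comap (algebraMap R B) = p := by
    refine le_antisymm (fun s hs => ?_) fun s hs => (hqz _).2 ?_
    · by_contra hsp
      have hreg : IsSMulRegular (R ⧸ p) s := fun a b hab => by
        simp only [Algebra.smul_def] at hab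
        exact mul_left_cancel₀ (fun h => hsp (Ideal.Quotient.eq_zero_iff_mem.1 h)) hab
      have hregB : IsSMulRegular (B ⊗[R] (R ⧸ p)) s := hreg.lTensor B
      let e : (B ⧸ p.map (algebraMap R B)) ≃ₗ[R] B ⊗[R] (R ⧸ p) :=
        ((Algebra.TensorProduct.quotIdealMapEquivTensorQuot B p).restrictScalars R).toLinearEquiv
      have hsz : s • z = 0 := by
        rw [← algebraMap_smul B s z]
        exact (hqz _).1 hs
      have h0 : e z = 0 := hregB (by
        show s • e z = s • 0
        rw [smul_zero, ← map_smul, hsz, map_zero])
      have hz0 : z = 0 := e.injective (by rw [h0, map_zero])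
      exact (inferInstance : q.IsPrime).ne_top ((Ideal.eq_top_iff_one q).2 ((hqz 1).2 (by rw [hz0, smul_zero])))
    · obtain ⟨b, rfl⟩ := Ideal.Quotient.mk_surjective z
      show Ideal.Quotient.mk _ (algebraMap R B s * b) = 0
      exact Ideal.Quotient.eq_zero_iff_mem.2 (Ideal.mul_mem_right _ _ (Ideal.mem_map_of_mem _ hs))
  haveI : q.LiesOver p := ⟨hpq.symm⟩
  letI := Localization.AtPrime.algebraOfLiesOver p q
  haveI : Module.Flat (Localization.AtPrime p) (Localization.AtPrime q) := by
    haveI : Module.Flat R (Localization.AtPrime q) := Module.Flat.trans R B _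
    exact (Module.flat_iff_of_isLocalization (Localization.AtPrime p) p.primeCompl _).2 inferInstance
  obtain ⟨π, hπ⟩ := IsDiscreteValuationRing.exists_irreducible (Localization.AtPrime p)
  let P := algebraMap (Localization.AtPrime p) (Localization.AtPrime q) π
  have hmq : maximalIdeal (Localization.AtPrime q) = Ideal.span {P} := by
    rw [← hmax, Ideal.map_map, ← IsScalarTower.algebraMap_eq,
      IsScalarTower.algebraMap_eq R (Localization.AtPrime p) (Localization.AtPrime q), ← Ideal.map_map,
      Localization.AtPrime.map_eq_maximalIdeal, hπ.maximalIdeal_eq, Ideal.map_span, Set.image_singleton]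
  have hPreg : IsSMulRegular (Localization.AtPrime q) P := by
    have h1 : IsSMulRegular (Localization.AtPrime q) π :=
      Module.Flat.isSMulRegular_of_nonZeroDivisors (mem_nonZeroDivisors_of_ne_zero hπ.ne_zero)
    intro a b hab
    refine h1 ?_
    simp only [Algebra.smul_def]
    exact hab
  have hPm : P ∈ maximalIdeal (Localization.AtPrime q) := hmq ▸ Ideal.mem_span_singleton_self P
  haveI : IsRegularLocalRing (Localization.AtPrime q) := by
    refine _root_.IsRegularLocalRing.of_spanFinrank_maximalIdeal_le _ ?_
    have h1 : (maximalIdeal (Localization.AtPrime q)).spanFinrank ≤ 1 := by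
      rw [hmq]
      exact (Submodule.spanFinrank_span_le_ncard_of_finite (Set.finite_singleton P)).trans
        (Set.ncard_singleton P).le
    have hge := ringKrullDim_quotient_succ_le_of_nonZeroDivisor (R := Localization.AtPrime q) (r := P)
      (mem_nonZeroDivisors_iff_right.2 fun a ha => hPreg (by
        show P • a = P • 0
        rw [smul_zero, smul_eq_mul, mul_comm]; exact ha))
    haveI : Nontrivial (Localization.AtPrime q ⧸ Ideal.span {P}) := Ideal.Quotient.nontrivial_iff.2
      (hmq ▸ (inferInstance : (maximalIdeal (Localization.AtPrime q)).IsMaximal).ne_top)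
    refine le_trans ?_ ((le_add_of_nonneg_left ringKrullDim_nonneg_of_nontrivial).trans hge)
    exact_mod_cast h1
  haveI hdom : IsDomain (Localization.AtPrime q) := CAlgH3.isDomain_of_isRegularLocalRing _
  have hP0 : P ≠ 0 := fun h => zero_ne_one (hPreg (show P • (0 : Localization.AtPrime q) = P • 1 by
    rw [h, zero_smul, zero_smul]))
  haveI : IsPrincipalIdealRing (Localization.AtPrime q) :=
    ((tfae_of_isNoetherianRing_of_isLocalRing_of_isDomain (Localization.AtPrime q)).out 4 0).1 (show (maximalIdeal (Localization.AtPrime q)).IsPrincipal from ⟨⟨P, hmq⟩⟩)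
  refine ⟨hdom, { not_a_field' := fun h => hP0 ?_ }⟩
  rw [← Ideal.mem_bot, ← h]
  exact hPm

end Groth.Agent.S9439
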