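import Groth.Statements.S9440
import Groth.Agent.CAlgH.NagataFiniteType


set_option autoImplicit false
universe u
open CAlg

namespace Groth.Agent.S9440

/-- (1) ⇔ (3): a Noetherian local ring R is a Nagata ring if and only if for every finite local
homomorphism R → S of local rings with S a domain, the completion of S is reduced. -/
theorem result (R : Type u) [CommRing R]
    [IsLocalRing R] [IsNoetherianRing R] :
    CAlg.IsNagata R ↔ ∀ (S : Type u) [CommRing S] [IsDomain S] [IsLocalRing S] [Algebra R S]
      [IsLocalHom (algebraMap R S)] [Module.Finite R S],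
      IsReduced (AdicCompletion (IsLocalRing.maximalIdeal S) S) := by
  classical
  constructor
  · intro hR S _ _ _ _ _ _
    exact Groth.Agent.CAlgH.isReduced_completion_of_isNagata (Groth.Agent.CAlgH.isNagata_of_finite (R' := S) hR)
  intro h
  refine ⟨inferInstance, fun p hp => ?_⟩
  let A := R ⧸ p
  haveI : IsLocalRing A := IsLocalRing.of_surjective' (Ideal.Quotient.mk p) Ideal.Quotient.mk_surjective
  by_cases hA : IsField A
  · exact Groth.Agent.CAlgH.isN2_of_field hA
  obtain ⟨t, ht, ht0⟩ := Submodule.exists_mem_ne_zero_of_ne_bot (IsLocalRing.isField_iff_maximalIdeal_eq.not.mp hA)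
  let K := FractionRing A
  refine Groth.Agent.CAlgH.isN2_of K fun L _ _ _ _ _ => ?_
  have hinjA : Function.Injective (algebraMap A L) := by
    rw [IsScalarTower.algebraMap_eq A K L]; exact (algebraMap K L).injective.comp (IsFractionRing.injective A K)
  haveI : Algebra.IsAlgebraic A L :=
    (IsFractionRing.comap_isAlgebraic_iff (A := A) (K := K) (C := L)).mpr inferInstance
  let b := Module.finBasis K L
  have hy : ∀ i, ∃ y : A, y ≠ 0 ∧ IsIntegral A (y • b i) := fun i =>
    ((Algebra.IsAlgebraic.isAlgebraic (R := A) (b i)).exists_integral_multiple)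
  choose y hy0 hyi using hy
  let g : Fin (Module.finrank K L) → L := fun i => t • y i • b i
  let S := Algebra.adjoin A (Set.range g)
  have hgi : ∀ i, IsIntegral A (g i) := fun i => (hyi i).smul t
  haveI : Module.Finite A S := Module.Finite.iff_fg.mpr
    (fg_adjoin_of_finite (Set.finite_range g) (by rintro _ ⟨i, rfl⟩; exact hgi i))
  haveI : IsNoetherianRing S := IsNoetherianRing.of_finite A S
  have hg : ∀ (M : Ideal S), M.IsMaximal → ∀ i, (⟨g i, Algebra.subset_adjoin ⟨i, rfl⟩⟩ : S) ∈ M := by
    intro M hM i
    have hcomap : (M.comap (algebraMap A S)) = IsLocalRing.maximalIdeal A :=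
      IsLocalRing.eq_maximalIdeal (Ideal.isMaximal_comap_of_isIntegral_of_isMaximal M)
    obtain ⟨P, hP, hP0⟩ := hyi i
    apply hM.isPrime.mem_of_pow_mem P.natDegree
    have hQ := Polynomial.scaleRoots_eval₂_eq_zero (algebraMap A L) (s := t) hP0
    rw [← Algebra.smul_def] at hQ
    have hQm : (P.scaleRoots t).Monic := (Polynomial.monic_scaleRoots_iff t).mpr hP
    have h1 : Polynomial.aeval (⟨g i, Algebra.subset_adjoin ⟨i, rfl⟩⟩ : S) (P.scaleRoots t) = 0 := by
      apply Subtype.ext
      rw [← Subalgebra.aeval_coe, ZeroMemClass.coe_zero, Polynomial.aeval_def]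
      exact hQ
    rw [Polynomial.aeval_eq_sum_range, Finset.sum_range_succ, Polynomial.natDegree_scaleRoots, Polynomial.coeff_scaleRoots,
      hP.coeff_natDegree, Nat.sub_self, pow_zero, mul_one, one_smul] at h1
    rw [eq_neg_of_add_eq_zero_right h1]
    refine M.neg_mem (M.sum_mem fun j hj => ?_)
    rw [Algebra.smul_def, Polynomial.coeff_scaleRoots]
    refine M.mul_mem_right _ ?_
    show P.coeff j * t ^ (P.natDegree - j) ∈ M.comap (algebraMap A S)
    rw [hcomap]
    rw [Finset.mem_range] at hj
    exact Ideal.mul_mem_left _ _ (Ideal.pow_mem_of_mem _ ht _ (by omega))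
  haveI : IsLocalRing S := IsLocalRing.of_unique_max_ideal (by
    obtain ⟨M, hM⟩ := Ideal.exists_maximal S
    refine ⟨M, hM, fun N hN => ?_⟩
    have key : ∀ s : S, ∀ P Q : Ideal S, P.IsMaximal → Q.IsMaximal → s ∈ P → s ∈ Q := by
      intro s P Q hP hQ hs
      have hdec : ∀ z : L, z ∈ S → ∃ a : A, ∀ (M : Ideal S), M.IsMaximal → ∀ hz : z ∈ S, (⟨z, hz⟩ : S) - algebraMap A S a ∈ M := by
        intro z hz
        induction hz using Algebra.adjoin_induction with
        | mem z hz => obtain ⟨i, rfl⟩ := hz; exact ⟨0, fun M hM hz => by simpa using hg M hM i⟩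
        | algebraMap a => exact ⟨a, fun M hM hz => by rw [show (⟨algebraMap A L a, hz⟩ : S) = algebraMap A S a from Subtype.ext rfl, sub_self]; exact M.zero_mem⟩
        | add u v hu hv iu iv =>
          obtain ⟨a, ha⟩ := iu; obtain ⟨c, hc⟩ := iv
          refine ⟨a + c, fun M hM hz => ?_⟩
          have := M.add_mem (ha M hM hu) (hc M hM hv)
          convert this using 1
          rw [show (⟨u + v, hz⟩ : S) = ⟨u, hu⟩ + ⟨v, hv⟩ from rfl, map_add]; ring
        | mul u v hu hv iu iv =>
          obtain ⟨a, ha⟩ := iu; obtain ⟨c, hc⟩ := iv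
          refine ⟨a * c, fun M hM hz => ?_⟩
          have := M.add_mem (M.mul_mem_right (⟨v, hv⟩ : S) (ha M hM hu)) (M.mul_mem_left (algebraMap A S a) (hc M hM hv))
          convert this using 1
          rw [show (⟨u * v, hz⟩ : S) = ⟨u, hu⟩ * ⟨v, hv⟩ from rfl, map_mul]; ring
      obtain ⟨a, ha⟩ := hdec s.1 s.2
      have h1 : a ∈ P.comap (algebraMap A S) := by
        have := P.sub_mem hs (ha P hP s.2)
        simpa using this
      rw [IsLocalRing.eq_maximalIdeal (Ideal.isMaximal_comap_of_isIntegral_of_isMaximal P)] at h1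
      rw [← IsLocalRing.eq_maximalIdeal (Ideal.isMaximal_comap_of_isIntegral_of_isMaximal (R := A) Q)] at h1
      simpa using Q.add_mem (ha Q hQ s.2) h1
    exact le_antisymm (fun s hs => key s N M hN hM hs) (fun s hs => key s M N hM hN hs))
  letI : Algebra R S := ((algebraMap A S).comp (algebraMap R A)).toAlgebra
  haveI : IsScalarTower R A S := IsScalarTower.of_algebraMap_eq fun _ => rfl
  haveI : Module.Finite R S := Module.Finite.trans A S
  haveI : IsLocalHom (algebraMap R S) := ((IsLocalRing.local_hom_TFAE _).out 0 4).mpr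
    (IsLocalRing.eq_maximalIdeal (Ideal.isMaximal_comap_of_isIntegral_of_isMaximal (R := R) (IsLocalRing.maximalIdeal S)))
  have hN1 : CAlg.IsN1 S := Groth.Agent.CAlgH.isN1_of_isReduced_completion (h S)
  haveI : FaithfulSMul S L := (faithfulSMul_iff_algebraMap_injective _ _).mpr Subtype.val_injective
  haveI : IsFractionRing S L := IsFractionRing.of_field S L fun z => by
    suffices ∀ z : L, ∃ u : A, u ≠ 0 ∧ u • z ∈ S by
      obtain ⟨u, hu, huz⟩ := this z
      refine ⟨⟨u • z, huz⟩, algebraMap A S u, ?_⟩
      show z = u • z / algebraMap A L u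
      rw [Algebra.smul_def, mul_div_cancel_left₀]
      exact (map_ne_zero_iff _ hinjA).mpr hu
    intro z
    rw [← b.sum_repr z]
    induction (Finset.univ : Finset (Fin (Module.finrank K L))) using Finset.induction with
    | empty => exact ⟨1, one_ne_zero, by simp⟩
    | insert i s hi ih =>
      obtain ⟨u, hu, hus⟩ := ih
      obtain ⟨c, d, hd, hcd⟩ := IsFractionRing.div_surjective A (b.repr z i)
      refine ⟨u * (d * t * y i), mul_ne_zero hu (mul_ne_zero (mul_ne_zero (nonZeroDivisors.ne_zero hd) ht0) (hy0 i)), ?_⟩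
      rw [Finset.sum_insert hi, smul_add]
      refine S.add_mem ?_ ?_
      · have : (u * (d * t * y i)) • b.repr z i • b i = (u * c) • g i := by
          have hd' : algebraMap A K d ≠ 0 := (map_ne_zero_iff _ (IsFractionRing.injective A K)).mpr (nonZeroDivisors.ne_zero hd)
          rw [← algebraMap_smul K (u * (d * t * y i)), smul_smul, ← hcd]
          simp only [g, smul_smul]
          rw [← algebraMap_smul K (u * c * (t * y i))]
          congr 1
          simp only [map_mul]
          rw [mul_div_assoc', div_eq_iff hd']; ring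
        rw [this]
        exact S.smul_mem (Algebra.subset_adjoin ⟨i, rfl⟩) _
      · rw [mul_comm, mul_smul]
        exact S.smul_mem hus _
  exact Groth.Agent.CAlgH.fin_ic_of_finite_base (B := S) ((Groth.Agent.CAlgH.isN1_iff_finite L).mp hN1)

end Groth.Agent.S9440
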