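import Groth.Statements.S9443
import Groth.Agent.CAlgH.RegularPowerSeries


set_option autoImplicit false
universe u
open CAlg

namespace Groth.Agent.S9443

/-- A complete regular local ring R with a coefficient field k (a subfield mapping isomorphically onto
the residue field) is k-isomorphic to a power series ring over k in finitely many variables
(existence of an isomorphism only; the number of variables is then the dimension of R). -/
theorem result (R : Type u)
    [CommRing R] [IsRegularLocalRing R] [IsAdicComplete (IsLocalRing.maximalIdeal R) R]
    (k : Type u) [Field k] [Algebra k R]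
    (hk : Function.Bijective (algebraMap k (IsLocalRing.ResidueField R))) :
    ∃ d : ℕ, Nonempty (R ≃ₐ[k] MvPowerSeries (Fin d) k) := by
  obtain ⟨d, e, he⟩ := Groth.Agent.CAlgH.exists_equiv_mvPowerSeries_of_coefficient (algebraMap k R)
    (by rw [show (IsLocalRing.residue R).comp (algebraMap k R) = algebraMap k (IsLocalRing.ResidueField R) from rfl]; exact hk.2)
  exact ⟨d, ⟨AlgEquiv.ofRingEquiv (f := e.symm) fun c => by
    rw [RingEquiv.symm_apply_eq]; exact (he c).symm⟩⟩

end Groth.Agent.S9443
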