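import Groth.Statements.S9446
import Mathlib

set_option autoImplicit false
universe u
open CAlg
open scoped TensorProduct

namespace Groth.Agent.S9446

theorem exists_descend {R S N : Type u} [CommRing R] [CommRing S] [Algebra R S] [AddCommGroup N]
    [Module R N] (t : S ⊗[R] N) :
    ∃ (ι : Type u) (_ : Finite ι) (f : MvPolynomial ι R →ₐ[R] S) (t₀ : MvPolynomial ι R ⊗[R] N),
      f.toLinearMap.rTensor N t₀ = t := by
  classical
  obtain ⟨s, rfl⟩ := TensorProduct.exists_finset t
  refine ⟨s, inferInstance, MvPolynomial.aeval fun i : s => i.1.1,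
    ∑ i : s, MvPolynomial.X i ⊗ₜ[R] i.1.2, ?_⟩
  simp only [map_sum, LinearMap.rTensor_tmul, AlgHom.toLinearMap_apply, MvPolynomial.aeval_X]
  exact Finset.sum_coe_sort s fun i => i.1 ⊗ₜ[R] i.2

theorem rTensor_alg_comp {R N A B C : Type u} [CommRing R] [AddCommGroup N] [Module R N] [CommRing A]
    [Algebra R A] [CommRing B] [Algebra R B] [CommRing C] [Algebra R C] (f : B →ₐ[R] C) (g : A →ₐ[R] B)
    (z : A ⊗[R] N) : (f.comp g).toLinearMap.rTensor N z = f.toLinearMap.rTensor N (g.toLinearMap.rTensor N z) := by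
  rw [AlgHom.comp_toLinearMap, LinearMap.rTensor_comp, LinearMap.comp_apply]

theorem exists_quotient_kill {R N D B : Type u} [CommRing R] [AddCommGroup N] [Module R N] [CommRing D]
    [Algebra R D] [CommRing B] [Algebra R B] (fD : D →ₐ[R] B) (hfD : Function.Surjective fD)
    (z : D ⊗[R] N) (hz : fD.toLinearMap.rTensor N z = 0) :
    ∃ J : Ideal D, J.FG ∧ (∀ a ∈ J, fD a = 0) ∧ (Ideal.Quotient.mkₐ R J).toLinearMap.rTensor N z = 0 := by
  classical
  let K : Submodule R D := LinearMap.ker fD.toLinearMap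
  obtain ⟨k, hk⟩ : z ∈ LinearMap.range (K.subtype.rTensor N) :=
    (LinearMap.exact_iff.1 (rTensor_exact N (LinearMap.exact_subtype_ker_map fD.toLinearMap) hfD)).le hz
  obtain ⟨s, hs⟩ := TensorProduct.exists_finset k
  let J : Ideal D := Ideal.span (↑(s.image fun i => (i.1 : D)) : Set D)
  have hJ : ∀ a ∈ J, fD a = 0 := fun a ha => by
    refine (?_ : J ≤ RingHom.ker fD) ha
    rw [Ideal.span_le]
    intro x hx
    obtain ⟨i, -, rfl⟩ := Finset.mem_image.1 hx
    exact i.1.2
  refine ⟨J, ⟨_, rfl⟩, hJ, ?_⟩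
  rw [← hk, hs, map_sum, map_sum]
  refine Finset.sum_eq_zero fun i hi => ?_
  rw [LinearMap.rTensor_tmul, LinearMap.rTensor_tmul]
  have : (Ideal.Quotient.mkₐ R J).toLinearMap (K.subtype i.1) = 0 :=
    Ideal.Quotient.eq_zero_iff_mem.2 (Ideal.subset_span (Finset.mem_image_of_mem (fun i => (i.1 : D)) hi))
  rw [this, TensorProduct.zero_tmul]

theorem exists_kill {R S N : Type u} [CommRing R] [CommRing S] [Algebra R S] [AddCommGroup N]
    [Module R N] {A : Type u} [CommRing A] [Algebra R A] [Algebra.FinitePresentation R A]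
    (f : A →ₐ[R] S) (u : A ⊗[R] N) (hu : f.toLinearMap.rTensor N u = 0) :
    ∃ (A' : Type u) (_ : CommRing A') (_ : Algebra R A') (_ : Algebra.FinitePresentation R A')
      (g : A →ₐ[R] A') (f' : A' →ₐ[R] S), f'.comp g = f ∧ g.toLinearMap.rTensor N u = 0 := by
  classical
  have hfg : f.range.FG := by
    rw [← Algebra.map_top]
    exact Algebra.FiniteType.out.map _
  let u₁ : f.range ⊗[R] N := f.rangeRestrict.toLinearMap.rTensor N u
  have hu₁ : f.range.val.toLinearMap.rTensor N u₁ = f.range.val.toLinearMap.rTensor N 0 := by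
    rw [map_zero, ← hu, ← LinearMap.comp_apply, ← LinearMap.rTensor_comp]
    rfl
  obtain ⟨B, hB, hBfg, hBu⟩ := TensorProduct.Algebra.eq_of_fg_of_subtype_eq hfg hu₁
  obtain ⟨T, hT⟩ := hBfg
  haveI : Algebra.FinitePresentation R (MvPolynomial T A) := Algebra.FinitePresentation.trans R A (MvPolynomial T A)
  let fD : (MvPolynomial T A) →ₐ[R] B :=
    { toRingHom := MvPolynomial.eval₂Hom ((Subalgebra.inclusion hB).comp f.rangeRestrict).toRingHom
        (fun x : T => (⟨x.1, hT ▸ Algebra.subset_adjoin x.2⟩ : B))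
      commutes' := fun a => by
        show MvPolynomial.eval₂ _ _ (MvPolynomial.C (algebraMap R A a)) = _
        rw [MvPolynomial.eval₂_C]
        exact ((Subalgebra.inclusion hB).comp f.rangeRestrict).commutes a }
  have hfD : Function.Surjective fD := by
    have : (⊤ : Subalgebra R B) ≤ fD.range := by
      intro b _
      have hb : (b : S) ∈ Algebra.adjoin R (T : Set S) := by rw [hT]; exact b.2
      have : Algebra.adjoin R (T : Set S) ≤ (B.val.comp fD).range := Algebra.adjoin_le fun x hx =>
        ⟨MvPolynomial.X ⟨x, hx⟩, congrArg Subtype.val (MvPolynomial.eval₂Hom_X' _ _ _)⟩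
      obtain ⟨d, hd⟩ := this hb
      exact ⟨d, Subtype.ext hd⟩
    exact fun b => this (Algebra.mem_top (x := b))
  let ι : A →ₐ[R] (MvPolynomial T A) := IsScalarTower.toAlgHom R A (MvPolynomial T A)
  have hι : fD.comp ι = (Subalgebra.inclusion hB).comp f.rangeRestrict :=
    AlgHom.ext fun a => MvPolynomial.eval₂Hom_C _ _ a
  have hz : fD.toLinearMap.rTensor N (ι.toLinearMap.rTensor N u) = 0 := by
    rw [← rTensor_alg_comp, hι, rTensor_alg_comp]
    rw [map_zero] at hBu
    exact hBu
  obtain ⟨J, hJfg, hJ, hJ0⟩ := exists_quotient_kill fD hfD _ hz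
  refine ⟨MvPolynomial T A ⧸ J, inferInstance, inferInstance, Algebra.FinitePresentation.quotient hJfg,
    (Ideal.Quotient.mkₐ R J).comp ι, B.val.comp (Ideal.Quotient.liftₐ J fD hJ),
    AlgHom.ext fun a => congrArg Subtype.val (DFunLike.congr_fun hι a), ?_⟩
  rw [rTensor_alg_comp]
  exact hJ0

theorem rTensor_eq_map {R A C B : Type u} [CommRing R] [CommRing A] [Algebra R A] [CommRing C]
    [Algebra R C] [CommRing B] [Algebra R B] (f : A →ₐ[R] C) (z : A ⊗[R] B) :
    Algebra.TensorProduct.map f (AlgHom.id R B) z = f.toLinearMap.rTensor B z := rfl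

theorem val_toIC {R C B : Type u} [CommRing R] [CommRing C] [Algebra R C] [CommRing B] [Algebra R B]
    (x : C ⊗[R] integralClosure R B) :
    ((TensorProduct.toIntegralClosure R C B x) : C ⊗[R] B) =
      (integralClosure R B).val.toLinearMap.lTensor C x := rfl

theorem val_toIC_natural {R C S B : Type u} [CommRing R] [CommRing C] [Algebra R C] [CommRing S]
    [Algebra R S] [CommRing B] [Algebra R B] (h : C →ₐ[R] S) (x : C ⊗[R] integralClosure R B) :
    ((TensorProduct.toIntegralClosure R S B (h.toLinearMap.rTensor _ x)) : S ⊗[R] B) =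
      h.toLinearMap.rTensor B ((TensorProduct.toIntegralClosure R C B x : C ⊗[R] B)) := by
  rw [val_toIC, val_toIC, ← LinearMap.comp_apply, ← LinearMap.comp_apply,
    LinearMap.lTensor_comp_rTensor, LinearMap.rTensor_comp_lTensor]

/-- If S is ind-smooth over R (every R-algebra map into S from a finitely presented R-algebra factors
through a smooth R-algebra) then for every R-algebra B the canonical map S ⊗_R A → A', from the base
change of the integral closure A of R in B to the integral closure A' of S in S ⊗_R B, is bijective. -/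
theorem result (R : Type u) [CommRing R] (S : Type u)
    [CommRing S] [Algebra R S] (hS : Smoothing.IndSmooth R S) (B : Type u) [CommRing B]
    [Algebra R B] : Function.Bijective (TensorProduct.toIntegralClosure R S B) := by
  classical
  constructor
  · rw [injective_iff_map_eq_zero]
    intro x hx
    obtain ⟨ι, _, f, x₀, rfl⟩ := exists_descend x
    have h0 : f.toLinearMap.rTensor B
        ((integralClosure R B).val.toLinearMap.lTensor (MvPolynomial ι R) x₀) = 0 := by
      have := congrArg Subtype.val hx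
      rw [val_toIC_natural, val_toIC] at this
      exact this
    obtain ⟨A', _, _, _, g, f', hgf, hg⟩ := exists_kill f _ h0
    obtain ⟨C, _, _, hC, g', h, hh⟩ := hS A' inferInstance f'
    haveI := hC
    have hz : (g'.comp g).toLinearMap.rTensor (integralClosure R B) x₀ = 0 := by
      refine (TensorProduct.toIntegralClosure_bijective_of_smooth (R := R) (S := C) (B := B)).1 ?_
      rw [map_zero]
      refine Subtype.ext ?_
      rw [val_toIC_natural, val_toIC, AlgHom.comp_toLinearMap, LinearMap.rTensor_comp,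
        LinearMap.comp_apply, hg, map_zero]
      rfl
    have : f = h.comp (g'.comp g) := by rw [← AlgHom.comp_assoc, hh, hgf]
    rw [this, AlgHom.comp_toLinearMap, LinearMap.rTensor_comp, LinearMap.comp_apply, hz, map_zero]
  · rintro ⟨y, P, hPm, hPy⟩
    obtain ⟨ι, _, f, y₀, rfl⟩ := exists_descend y
    let d := P.natDegree
    let j : MvPolynomial ι R →ₐ[R] (MvPolynomial (ι ⊕ ULift.{u} (Fin d)) R) := MvPolynomial.rename Sum.inl
    let F : (MvPolynomial (ι ⊕ ULift.{u} (Fin d)) R) →ₐ[R] S :=
      MvPolynomial.aeval (Sum.elim (fun i => f (MvPolynomial.X i)) fun i => P.coeff i.down.1)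
    have hFj : F.comp j = f := MvPolynomial.algHom_ext fun i => by simp [F, j, MvPolynomial.rename_X]
    let P₀ : Polynomial (MvPolynomial (ι ⊕ ULift.{u} (Fin d)) R) := Polynomial.X ^ d +
      ∑ i : Fin d, Polynomial.C (MvPolynomial.X (Sum.inr (ULift.up i))) * Polynomial.X ^ (i : ℕ)
    have hP₀m : P₀.Monic := Polynomial.monic_X_pow_add (Polynomial.degree_sum_fin_lt _)
    have hP₀ : P₀.map F.toRingHom = P := by
      conv_rhs => rw [hPm.as_sum]
      simp only [P₀, Polynomial.map_add, Polynomial.map_pow, Polynomial.map_X, Polynomial.map_sum,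
        Polynomial.map_mul, Polynomial.map_C, d]
      rw [← Fin.sum_univ_eq_sum_range (fun i => Polynomial.C (P.coeff i) * Polynomial.X ^ i)]
      simp [F]
    let yD : (MvPolynomial (ι ⊕ ULift.{u} (Fin d)) R) ⊗[R] B := j.toLinearMap.rTensor B y₀
    have hy : Algebra.TensorProduct.map F (AlgHom.id R B) yD = f.toLinearMap.rTensor B y₀ := by
      rw [rTensor_eq_map, ← LinearMap.comp_apply, ← LinearMap.rTensor_comp, ← AlgHom.comp_toLinearMap, hFj]
    have hu : F.toLinearMap.rTensor B (Polynomial.eval₂ (algebraMap (MvPolynomial (ι ⊕ ULift.{u} (Fin d)) R) ((MvPolynomial (ι ⊕ ULift.{u} (Fin d)) R) ⊗[R] B)) yD P₀) = 0 := by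
      rw [← rTensor_eq_map]
      show (Algebra.TensorProduct.map F (AlgHom.id R B)).toRingHom _ = 0
      rw [Polynomial.hom_eval₂]
      change Polynomial.eval₂ _ (Algebra.TensorProduct.map F (AlgHom.id R B) yD) P₀ = 0
      rw [hy, ← hPy]
      conv_rhs => rw [← hP₀, Polynomial.eval₂_map]
      refine congrArg (fun φ => Polynomial.eval₂ φ _ P₀) (RingHom.ext fun a => ?_)
      exact congrArg (F a ⊗ₜ[R] ·) (map_one (AlgHom.id R B))
    obtain ⟨A', _, _, _, g, f', hgf, hg⟩ := exists_kill F _ hu
    obtain ⟨C, _, _, hC, g', h, hh⟩ := hS A' inferInstance f'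
    haveI := hC
    let G := g'.comp g
    have hint : IsIntegral C (G.toLinearMap.rTensor B yD) := by
      refine ⟨P₀.map G.toRingHom, hP₀m.map _, ?_⟩
      rw [Polynomial.eval₂_map]
      have : (algebraMap C (C ⊗[R] B)).comp G.toRingHom =
          (Algebra.TensorProduct.map G (AlgHom.id R B)).toRingHom.comp (algebraMap (MvPolynomial (ι ⊕ ULift.{u} (Fin d)) R) ((MvPolynomial (ι ⊕ ULift.{u} (Fin d)) R) ⊗[R] B)) :=
        RingHom.ext fun a => (congrArg (G a ⊗ₜ[R] ·) (map_one (AlgHom.id R B))).symm
      rw [this, ← rTensor_eq_map]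
      show Polynomial.eval₂ _ ((Algebra.TensorProduct.map G (AlgHom.id R B)).toRingHom yD) P₀ = 0
      rw [← Polynomial.hom_eval₂]
      show Algebra.TensorProduct.map G (AlgHom.id R B) _ = 0
      rw [rTensor_eq_map, AlgHom.comp_toLinearMap, LinearMap.rTensor_comp, LinearMap.comp_apply, hg,
        map_zero]
    obtain ⟨x, hx⟩ :=
      (TensorProduct.toIntegralClosure_bijective_of_smooth (R := R) (S := C) (B := B)).2 ⟨_, hint⟩
    refine ⟨h.toLinearMap.rTensor _ x, Subtype.ext ?_⟩
    rw [val_toIC_natural, hx]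
    show h.toLinearMap.rTensor B (G.toLinearMap.rTensor B yD) = f.toLinearMap.rTensor B y₀
    rw [← LinearMap.comp_apply, ← LinearMap.rTensor_comp, ← AlgHom.comp_toLinearMap,
      show h.comp G = F by rw [← AlgHom.comp_assoc, hh, hgf], ← rTensor_eq_map, hy]

end Groth.Agent.S9446
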