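import Groth.Statements.S9447
import Mathlib
import Groth.Agent.CAlgML.Projective

set_option autoImplicit false
universe u
open CAlg

namespace Groth.Agent.S9447

open TensorProduct in
/-- Formal smoothness descends along faithfully flat base change: for R → S arbitrary and R → R'
faithfully flat, the R-algebra S is formally smooth exactly when the R'-algebra R' ⊗_R S is formally
smooth. No finiteness hypothesis on S. -/
theorem result (R : Type u) [CommRing R]
    (S : Type u) [CommRing S] [Algebra R S] (R' : Type u) [CommRing R'] [Algebra R R']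
    [Module.FaithfullyFlat R R'] :
    Algebra.FormallySmooth R S ↔ Algebra.FormallySmooth R' (R' ⊗[R] S) := by
  constructor
  · intro h
    infer_instance
  intro h
  letI : Algebra S (R' ⊗[R] S) := Algebra.TensorProduct.rightAlgebra
  haveI : Module.FaithfullyFlat S (R' ⊗[R] S) := by
    refine Module.FaithfullyFlat.of_linearEquiv S (S ⊗[R] R')
      ({ (Algebra.TensorProduct.comm R R' S).toLinearEquiv with
          map_smul' := fun s z => ?_ } : (R' ⊗[R] S) ≃ₗ[S] S ⊗[R] R')
    induction z using TensorProduct.induction_on with
    | zero => simp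
    | tmul a b => simp [Algebra.smul_def, RingHom.algebraMap_toAlgebra, Algebra.TensorProduct.algebraMap_apply]
    | add a b ha hb =>
      simp only [smul_add, AddHom.toFun_eq_coe, LinearMap.coe_toAddHom, LinearEquiv.coe_coe, map_add, RingHom.id_apply] at ha hb ⊢
      rw [ha, hb]
  haveI := h.projective_kaehlerDifferential
  haveI := h.subsingleton_h1Cotangent
  refine ⟨?_, ?_⟩
  · haveI : Module.Projective (R' ⊗[R] S) ((R' ⊗[R] S) ⊗[S] Ω[S⁄R]) :=
      Module.Projective.of_equiv (KaehlerDifferential.tensorKaehlerEquiv R R' S (R' ⊗[R] S)).symm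
    exact _root_.Groth.Agent.CAlgML.projective_descent (R := S) (S := R' ⊗[R] S) (M := Ω[S⁄R])
  · haveI : Subsingleton (R' ⊗[R] Algebra.H1Cotangent R S) :=
      (Algebra.tensorH1CotangentOfFlat R S R').subsingleton
    exact Module.FaithfullyFlat.lTensor_reflects_triviality R R' (Algebra.H1Cotangent R S)

end Groth.Agent.S9447
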