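import Groth.Statements.S9448
import Groth.Agent.S2790
import Mathlib.RingTheory.Etale.Locus

set_option autoImplicit false
set_option backward.isDefEq.respectTransparency.types false
universe u
open Unram

namespace Groth.Agent.S9448

/-- For a field k and a finite type algebra A over the polynomial ring k[x_1, …, x_n] (the variables
mapping to a_1, …, a_n), the structure map is étale if and only if (a) the local rings of A at all
maximal ideals have dimension n and (b) da_1, …, da_n generate the module of differentials of A over
k. -/
theorem result (k : Type u) [Field k] (n : ℕ)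
    (A : Type u) [CommRing A] [Algebra k A] [Algebra (MvPolynomial (Fin n) k) A]
    [IsScalarTower k (MvPolynomial (Fin n) k) A] [Algebra.FiniteType (MvPolynomial (Fin n) k) A] :
    Algebra.Etale (MvPolynomial (Fin n) k) A ↔
      (∀ (m : Ideal A) [m.IsMaximal], ringKrullDim (Localization.AtPrime m) = n) ∧
        Submodule.span A (Set.range fun i : Fin n =>
          KaehlerDifferential.D k A (algebraMap (MvPolynomial (Fin n) k) A (MvPolynomial.X i))) = ⊤ := by
  let P := MvPolynomial (Fin n) k
  haveI : Algebra.FiniteType k A := Algebra.FiniteType.trans (S := P) inferInstance inferInstance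
  haveI : IsNoetherianRing P := inferInstance
  haveI hfp : Algebra.FinitePresentation P A := Algebra.FinitePresentation.of_finiteType.1 inferInstance
  haveI : IsNoetherianRing A := Algebra.FiniteType.isNoetherianRing k A
  let v : Fin n → KaehlerDifferential k A := fun i =>
    KaehlerDifferential.D k A (algebraMap P A (MvPolynomial.X i))
  constructor
  · intro h
    haveI : Algebra.FormallySmooth k A := Algebra.FormallySmooth.comp k P A
    haveI : Algebra.Smooth k A := ⟨inferInstance, Algebra.FinitePresentation.of_finiteType.1 inferInstance⟩
    let e := KaehlerDifferential.tensorKaehlerEquivOfFormallyEtale k P A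
    let b := ((KaehlerDifferential.mvPolynomialBasis k (Fin n)).baseChange A).map e
    have hb : ⇑b = v := funext fun i => by
      have h : KaehlerDifferential.mvPolynomialBasis k (Fin n) i = KaehlerDifferential.D k P (MvPolynomial.X i) := by
        apply (KaehlerDifferential.mvPolynomialBasis k (Fin n)).repr.injective
        rw [Module.Basis.repr_self, KaehlerDifferential.mvPolynomialBasis_repr_D_X]
      simp [b, e, v, P, h]
    refine ⟨fun m _ => ?_, by rw [← b.span_eq, hb]⟩
    haveI : Algebra.IsSmoothAt k m := inferInstance
    have h1 := (Groth.Agent.Unram17Lib.regular_and_localDim_eq_finrank k m).2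
    rw [Module.finrank_eq_card_basis (b.baseChange m.ResidueField), Fintype.card_fin,
      Groth.Agent.Unram17Lib.localDim_spec k A ⟨m, inferInstance⟩] at h1
    have h0 : ringKrullDim (A ⧸ m) = 0 :=
      ringKrullDim_eq_zero_of_isField ((Ideal.Quotient.maximal_ideal_iff_isField_quotient m).1 ‹_›)
    simpa [h0] using h1
  · rintro ⟨hdim, hspan⟩
    have hmax : ∀ (m : Ideal A) [m.IsMaximal], Algebra.IsEtaleAt P m := by
      intro m _
      have hn : FlatMor.localDim (PrimeSpectrum A) ⟨m, inferInstance⟩ = (n : WithBot ℕ∞) := by
        rw [Groth.Agent.Unram17Lib.localDim_spec k A ⟨m, inferInstance⟩,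
          ringKrullDim_eq_zero_of_isField ((Ideal.Quotient.maximal_ideal_iff_isField_quotient m).1 ‹_›),
          add_zero]
        exact hdim m
      refine (Groth.Agent.S2790.result k A n m hn).2 ?_
      let L := Localization.AtPrime m
      haveI : Algebra.FormallyEtale A L := .of_isLocalization m.primeCompl
      have h := congrArg (Submodule.map (TensorProduct.mk A L (KaehlerDifferential k A) 1)) hspan
      rw [eq_top_iff]
      intro z _
      obtain ⟨w, rfl⟩ := (KaehlerDifferential.tensorKaehlerEquivOfFormallyEtale k A L).surjective z
      induction w using TensorProduct.induction_on with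
      | zero => rw [map_zero]; exact zero_mem _
      | add x y hx hy => rw [map_add]; exact add_mem (hx trivial) (hy trivial)
      | tmul c ω =>
        simp only [KaehlerDifferential.tensorKaehlerEquivOfFormallyEtale_apply, KaehlerDifferential.mapBaseChange_tmul]
        refine Submodule.smul_mem _ _ ?_
        have hω : ω ∈ Submodule.span A (Set.range v) := hspan.ge trivial
        clear * - hω
        induction hω using Submodule.span_induction with
        | mem x hx =>
          obtain ⟨i, rfl⟩ := hx
          exact Submodule.subset_span ⟨i, (KaehlerDifferential.map_D k k A L _).symm⟩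
        | zero => rw [map_zero]; exact zero_mem _
        | add x y _ _ hx hy => rw [map_add]; exact add_mem hx hy
        | smul a x _ hx =>
          rw [map_smul, ← algebraMap_smul L a]
          exact Submodule.smul_mem _ _ hx
    have huniv : Algebra.etaleLocus P A = Set.univ := by
      refine Set.eq_univ_of_forall fun y => ?_
      obtain ⟨m, hm, hle⟩ := Ideal.exists_le_maximal y.asIdeal y.2.ne_top
      haveI := hm
      exact ((PrimeSpectrum.le_iff_specializes y ⟨m, inferInstance⟩).1 hle).mem_open
        Algebra.isOpen_etaleLocus (hmax m)
    exact ⟨Algebra.etaleLocus_eq_univ_iff.1 huniv, hfp⟩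

end Groth.Agent.S9448
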