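import Groth.Statements.S9449
import Groth.Agent.H10Unram.Point
import Mathlib.RingTheory.LocalRing.ResidueField.Fiber
import Mathlib.RingTheory.Unramified.Finite
import Mathlib.FieldTheory.IsAlgClosed.AlgebraicClosure
import Mathlib.RingTheory.Artinian.Module
-- import your own Groth.Agent.* helpers here

set_option autoImplicit false
universe u
open Unram

set_option linter.style.haveILetI false
set_option maxHeartbeats 1000000

namespace Groth.Agent.S9449

open TensorProduct

open TensorProduct in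
open Groth.Agent.Et18 in
/-- A common refinement of finitely many neighbourhoods. -/
theorem exists_common {R Ω : Type u} [CommRing R] [Field Ω] [Algebra R Ω] :
    ∀ (n : ℕ) (N : Fin n → SHensel.Nbhd R Ω), ∃ L : SHensel.Nbhd R Ω, Nonempty (∀ i, (N i).Hom L) := by
  intro n
  induction n with
  | zero => exact fun N => ⟨SHensel.Nbhd.base, ⟨fun i => i.elim0⟩⟩
  | succ n ih =>
    intro N
    obtain ⟨L, ⟨ψ⟩⟩ := ih fun i => N i.castSucc
    exact ⟨L.prod (N (Fin.last n)), ⟨fun i => Fin.lastCases (L.prodRight _)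
      (fun j => (ψ j).trans (L.prodLeft _)) i⟩⟩

open Groth.Agent.Et18 in
/-- Every prime over the point of a neighbourhood is the kernel of an evaluation. -/
theorem exists_eval {R S Ω : Type u} [CommRing R] [CommRing S] [Algebra R S] [Algebra.Unramified R S]
    [Field Ω] [IsAlgClosed Ω] [Algebra R Ω] (N : SHensel.Nbhd R Ω) (Q : Ideal (N.A ⊗[R] S)) [Q.IsPrime]
    (hQ : Q.comap (algebraMap N.A (N.A ⊗[R] S)) = RingHom.ker N.pt) :
    ∃ ξ : S →ₐ[R] Ω, RingHom.ker (N.eval ξ) = Q := by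
  let P : Ideal N.A := RingHom.ker N.pt
  haveI : P.IsPrime := RingHom.ker_isPrime _
  haveI : Q.LiesOver P := ⟨hQ.symm⟩
  let T := N.A ⊗[R] S
  let Q' := PrimeSpectrum.primesOverOrderIsoFiber N.A T P ⟨Q, inferInstance, inferInstance⟩
  have hQ' : Q'.1.comap Algebra.TensorProduct.includeRight = Q :=
    congr($((PrimeSpectrum.primesOverOrderIsoFiber N.A T P).symm_apply_apply ⟨Q, inferInstance, inferInstance⟩).1)
  haveI : Module.Finite P.ResidueField (P.Fiber T) := Algebra.FormallyUnramified.finite_of_free _ _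
  let κ := P.Fiber T ⧸ Q'.1
  haveI : IsArtinianRing (P.Fiber T) := IsArtinianRing.of_finite P.ResidueField _
  letI : Field κ := Ideal.Quotient.field Q'.1
  haveI : Algebra.IsAlgebraic P.ResidueField κ := inferInstance
  let ι : P.ResidueField →+* Ω := Ideal.ResidueField.lift P N.pt.toRingHom le_rfl
    (fun x hx => isUnit_iff_ne_zero.mpr fun h => hx (RingHom.mem_ker.mpr h))
  letI : Algebra P.ResidueField Ω := ι.toAlgebra
  let j : κ →ₐ[P.ResidueField] Ω := IsAlgClosed.lift
  let χ : T →+* Ω := j.toRingHom.comp ((Ideal.Quotient.mk Q'.1).comp (Algebra.TensorProduct.includeRight : T →ₐ[N.A] P.Fiber T).toRingHom)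
  have hχker : RingHom.ker χ = Q := by
    rw [← hQ']
    ext t
    rw [RingHom.mem_ker, Ideal.mem_comap, ← Ideal.Quotient.eq_zero_iff_mem]
    exact map_eq_zero j
  have hχA : ∀ a : N.A, χ (algebraMap N.A T a) = N.pt a := fun a => by
    show j (Ideal.Quotient.mk Q'.1 ((Algebra.TensorProduct.includeRight : T →ₐ[N.A] P.Fiber T) (algebraMap N.A T a))) = _
    rw [AlgHom.commutes, IsScalarTower.algebraMap_apply N.A P.ResidueField (P.Fiber T)]
    show j (algebraMap P.ResidueField κ (algebraMap N.A P.ResidueField a)) = _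
    rw [AlgHom.commutes]
    exact Ideal.ResidueField.lift_algebraMap P N.pt.toRingHom le_rfl _ a
  let ξ : S →ₐ[R] Ω :=
    { χ.comp (Algebra.TensorProduct.includeRight : S →ₐ[R] T).toRingHom with
      commutes' := fun r => by
        show χ ((Algebra.TensorProduct.includeRight : S →ₐ[R] T) (algebraMap R S r)) = _
        rw [AlgHom.commutes, IsScalarTower.algebraMap_apply R N.A T, hχA, N.pt.commutes] }
  refine ⟨ξ, ?_⟩
  rw [← hχker]
  have h : (N.eval ξ).toRingHom = χ := RingHom.ext fun t => by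
    induction t with
    | zero => simp
    | add a b ha hb => rw [map_add, map_add, ha, hb]
    | tmul a s =>
      show N.eval ξ (a ⊗ₜ[R] s) = χ (a ⊗ₜ[R] s)
      rw [SHensel.Nbhd.eval_tmul, ← hχA a]
      show χ (algebraMap N.A T a) * χ ((1 : N.A) ⊗ₜ[R] s) = _
      refine (map_mul χ _ _).symm.trans (congrArg χ ?_)
      show (a ⊗ₜ[R] (1 : S)) * ((1 : N.A) ⊗ₜ[R] s) = a ⊗ₜ[R] s
      rw [Algebra.TensorProduct.tmul_mul_tmul, mul_one, one_mul]
  rw [← h]
  rfl

/-- For an unramified ring map R → S and a prime p of R there exist an étale R-algebra R', a prime p' of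
R' lying over p and a decomposition R' ⊗_R S ≅ A_1 × ⋯ × A_n × B of R'-algebras with every R' → A_i
surjective, p'A_i a prime ideal of A_i whose preimage in R' is p', and no prime of B lying over p'. -/
theorem result (R : Type u) [CommRing R]
    (S : Type u) [CommRing S] [Algebra R S] [Algebra.Unramified R S] (p : Ideal R) [p.IsPrime] :
    ∃ (R' : Type u) (_ : CommRing R') (_ : Algebra R R') (_ : Algebra.Etale R R') (p' : Ideal R')
      (_ : p'.IsPrime) (_ : p'.LiesOver p) (n : ℕ) (A : Fin n → Type u) (_ : ∀ i, CommRing (A i))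
      (_ : ∀ i, Algebra R' (A i)) (B : Type u) (_ : CommRing B) (_ : Algebra R' B),
      Nonempty ((R' ⊗[R] S) ≃ₐ[R'] ((∀ i, A i) × B)) ∧
        (∀ i, Function.Surjective (algebraMap R' (A i)) ∧
          (p'.map (algebraMap R' (A i))).IsPrime ∧
          (p'.map (algebraMap R' (A i))).comap (algebraMap R' (A i)) = p') ∧
        ∀ (q : Ideal B) [q.IsPrime], q.comap (algebraMap R' B) ≠ p' := by
  classical
  let Ω := AlgebraicClosure p.ResidueField
  have hker : RingHom.ker (algebraMap R Ω) = p := by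
    rw [IsScalarTower.algebraMap_eq R p.ResidueField Ω, ← RingHom.comap_ker,
      (RingHom.injective_iff_ker_eq_bot _).mp (algebraMap p.ResidueField Ω).injective, ← RingHom.ker_eq_comap_bot,
      Ideal.ker_algebraMap_residueField]
  haveI : Module.Finite p.ResidueField (p.ResidueField ⊗[R] S) := Algebra.FormallyUnramified.finite_of_free _ _
  haveI : Finite (p.ResidueField ⊗[R] S →ₐ[p.ResidueField] Ω) := Finite.of_fintype _
  haveI : Finite (S →ₐ[R] Ω) := Finite.of_injective
    (fun ξ : S →ₐ[R] Ω => Algebra.TensorProduct.lift (Algebra.ofId p.ResidueField Ω) ξ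
      fun _ _ => Commute.all _ _) fun ξ₁ ξ₂ h => AlgHom.ext fun s => by
      have := DFunLike.congr_fun h ((1 : p.ResidueField) ⊗ₜ[R] s)
      simpa using this
  obtain ⟨n, ⟨en⟩⟩ := Finite.exists_equiv_fin (S →ₐ[R] Ω)
  let ξ : Fin n → (S →ₐ[R] Ω) := en.symm
  have hξ : ∀ i, ∃ (N : Et18.SHensel.Nbhd R Ω) (z : N.A ⊗[R] S), IsIdempotentElem z ∧ N.eval (ξ i) z = 1 ∧ H10Unram.Cuts z := by
    intro i
    haveI : (RingHom.ker (ξ i)).IsPrime := RingHom.ker_isPrime _
    exact H10Unram.exists_nbhd_piece (ξ i) _ rfl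
  choose N z₀ hz₀ hz₀1 hcut₀ using hξ
  obtain ⟨L, ⟨ψ⟩⟩ := exists_common n N
  let z : Fin n → L.A ⊗[R] S := fun i => (ψ i).bc (z₀ i)
  have hz : ∀ i, IsIdempotentElem (z i) := fun i => (hz₀ i).map _
  have hz1 : ∀ i, L.eval (ξ i) (z i) = 1 := fun i => by rw [Et18.SHensel.Nbhd.Hom.eval_bc, hz₀1]
  have hzc : ∀ i, H10Unram.Cuts (z i) := fun i => H10Unram.cuts_bc (ψ i) (hcut₀ i)
  have hz0 : ∀ i j, j ≠ i → L.eval (ξ j) (z i) = 0 := by
    intro i j hij
    rcases IsIdempotentElem.iff_eq_zero_or_one.mp ((hz i).map (L.eval (ξ j))) with h | h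
    · exact h
    exfalso
    refine hij (en.symm.injective (AlgHom.ext fun s => ?_))
    obtain ⟨a, ha⟩ := hzc i ((1 : L.A) ⊗ₜ[R] s)
    have h₁ := congrArg (L.eval (ξ j)) ha
    have h₂ := congrArg (L.eval (ξ i)) ha
    rw [map_mul, map_sub, map_zero, h, mul_one, sub_eq_zero] at h₁
    rw [map_mul, map_sub, map_zero, hz1 i, mul_one, sub_eq_zero] at h₂
    simp only [Algebra.TensorProduct.algebraMap_apply, Et18.SHensel.Nbhd.eval_tmul, map_one, one_mul, mul_one] at h₁ h₂
    exact h₁.trans h₂.symm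
  let w : Fin n → L.A ⊗[R] S := fun i => z i * ∏ j ∈ Finset.univ.erase i, (1 - z j)
  have hprod : ∀ i, IsIdempotentElem (∏ j ∈ Finset.univ.erase i, (1 - z j)) := fun i => by
    show _ * _ = _
    rw [← Finset.prod_mul_distrib]
    exact Finset.prod_congr rfl fun j _ => (hz j).one_sub.eq
  have hw : ∀ i, IsIdempotentElem (w i) := fun i => (hz i).mul (hprod i)
  have hw1 : ∀ i, L.eval (ξ i) (w i) = 1 := fun i => by
    rw [map_mul, hz1, one_mul, map_prod]
    refine Finset.prod_eq_one fun j hj => ?_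
    rw [map_sub, map_one, hz0 j i (Finset.ne_of_mem_erase hj).symm, sub_zero]
  have hwo : ∀ i j, i ≠ j → w i * w j = 0 := fun i j h => by
    obtain ⟨d, hd⟩ : (1 - z i) ∣ ∏ k ∈ Finset.univ.erase j, (1 - z k) :=
      Finset.dvd_prod_of_mem (fun k => 1 - z k) (Finset.mem_erase.mpr ⟨h, Finset.mem_univ _⟩)
    show z i * _ * (z j * _) = 0
    rw [hd]
    linear_combination ((∏ k ∈ Finset.univ.erase i, (1 - z k)) * z j * d) * (hz i).mul_one_sub_self
  have hwc : ∀ i, H10Unram.Cuts (w i) := fun i t => by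
    obtain ⟨a, ha⟩ := hzc i t
    exact ⟨a, by rw [← mul_assoc, ha, zero_mul]⟩
  let e₀ : L.A ⊗[R] S := 1 - ∑ i, w i
  have hwe : ∀ i, w i * ∑ j, w j = w i := fun i => by
    rw [Finset.mul_sum, Finset.sum_eq_single i (fun j _ h => hwo i j h.symm) (fun h => absurd (Finset.mem_univ i) h), (hw i).eq]
  have he₀w : ∀ i, w i * e₀ = 0 := fun i => by rw [mul_sub, mul_one, hwe, sub_self]
  have he₀ : IsIdempotentElem e₀ := by
    show e₀ * e₀ = e₀
    nth_rw 1 [show e₀ = 1 - ∑ i, w i from rfl]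
    rw [sub_mul, one_mul, Finset.sum_mul, Finset.sum_eq_zero fun i _ => he₀w i, sub_zero]
  let A : Fin n → Type u := fun i => L.A ⊗[R] S ⧸ Ideal.span {1 - w i}
  let Φ : (L.A ⊗[R] S) →ₐ[L.A] (∀ i, A i) × (L.A ⊗[R] S ⧸ Ideal.span {1 - e₀}) :=
    (AlgHom.pi fun i => Ideal.Quotient.mkₐ L.A (Ideal.span {1 - w i})).prod (Ideal.Quotient.mkₐ _ _)
  have hone : ∀ (x : L.A ⊗[R] S), IsIdempotentElem x → Ideal.Quotient.mk (Ideal.span {1 - x}) x = 1 := fun x _ => by
    rw [← map_one (Ideal.Quotient.mk (Ideal.span {1 - x})), Ideal.Quotient.eq, Ideal.mem_span_singleton]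
    exact ⟨-1, by ring⟩
  have hzero : ∀ (x y : L.A ⊗[R] S), y * x = 0 → Ideal.Quotient.mk (Ideal.span {1 - x}) y = 0 := fun x y h => by
    exact Ideal.Quotient.eq_zero_iff_mem.mpr (H10Unram.mem_span_of_mul_eq_zero h)
  have hkill : ∀ (x t : L.A ⊗[R] S), IsIdempotentElem x → Ideal.Quotient.mk (Ideal.span {1 - x}) t = 0 → t * x = 0 := by
    intro x t hx h
    obtain ⟨s, rfl⟩ := Ideal.mem_span_singleton.mp (Ideal.Quotient.eq_zero_iff_mem.mp h)
    linear_combination s * hx.one_sub_mul_self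
  have hΦ : Function.Bijective Φ := by
    constructor
    · rw [injective_iff_map_eq_zero]
      intro t ht
      have h1 : ∀ i, t * w i = 0 := fun i => hkill _ t (hw i) (congrFun (congrArg Prod.fst ht) i)
      have h2 : t * e₀ = 0 := hkill _ t he₀ (congrArg Prod.snd ht)
      rw [mul_sub, mul_one, Finset.mul_sum, Finset.sum_eq_zero fun i _ => h1 i, sub_zero] at h2
      exact h2
    · rintro ⟨a, b⟩
      choose a' ha' using fun i => Ideal.Quotient.mk_surjective (a i)
      obtain ⟨b', rfl⟩ := Ideal.Quotient.mk_surjective b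
      refine ⟨(∑ i, a' i * w i) + b' * e₀, Prod.ext (funext fun i => ?_) ?_⟩
      · show Ideal.Quotient.mk (Ideal.span {1 - w i}) _ = a i
        rw [map_add, map_sum, Finset.sum_eq_single i (fun j _ h => by
          rw [map_mul (Ideal.Quotient.mk (Ideal.span {1 - w i})) (a' j) (w j), hzero _ _ (hwo j i h), mul_zero]) (fun h => absurd (Finset.mem_univ i) h), map_mul (Ideal.Quotient.mk (Ideal.span {1 - w i})) (a' i) (w i),
          map_mul (Ideal.Quotient.mk (Ideal.span {1 - w i})) b' e₀, hone _ (hw i), mul_one, hzero (w i) e₀ (by rw [mul_comm]; exact he₀w i), mul_zero, add_zero, ha']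
      · show Ideal.Quotient.mk (Ideal.span {1 - e₀}) _ = Ideal.Quotient.mk _ b'
        rw [map_add, map_sum, Finset.sum_eq_zero fun j _ => by rw [map_mul (Ideal.Quotient.mk (Ideal.span {1 - e₀})) (a' j) (w j), hzero _ _ (he₀w j), mul_zero],
          map_mul (Ideal.Quotient.mk (Ideal.span {1 - e₀})) b' e₀, hone _ he₀, mul_one, zero_add]
  haveI hp : (RingHom.ker L.pt).IsPrime := RingHom.ker_isPrime _
  refine ⟨L.A, L.ring, L.alg, L.etale, RingHom.ker L.pt, hp, ⟨?_⟩, n, A, inferInstance, inferInstance,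
    L.A ⊗[R] S ⧸ Ideal.span {1 - e₀}, inferInstance, inferInstance, ⟨AlgEquiv.ofBijective Φ hΦ⟩, fun i => ?_, ?_⟩
  · refine hker.symm.trans ?_
    ext r
    simp only [Ideal.under, Ideal.mem_comap]
    rw [RingHom.mem_ker, RingHom.mem_ker, L.pt.commutes]
  · obtain ⟨ε, -, hsur, hmap, hcomap⟩ := H10Unram.piece_quotient L (ξ i) (w i) (hw1 i) (hwc i)
    haveI : (RingHom.ker ε).IsPrime := RingHom.ker_isPrime _
    exact ⟨hsur, hmap ▸ inferInstance, hmap ▸ hcomap⟩
  · intro q _ hq
    let Q := q.comap (Ideal.Quotient.mk (Ideal.span {1 - e₀}))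
    obtain ⟨ξ', hξ'⟩ := exists_eval L Q (by
      rw [← hq, Ideal.comap_comap]
      rfl)
    obtain ⟨i, rfl⟩ : ∃ i, ξ i = ξ' := ⟨en ξ', en.symm_apply_apply _⟩
    have : w i ∈ Q := by
      show Ideal.Quotient.mk _ (w i) ∈ q
      rw [hzero _ _ (he₀w i)]
      exact q.zero_mem
    rw [← hξ', RingHom.mem_ker, hw1] at this
    exact one_ne_zero this

end Groth.Agent.S9449
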