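import Groth.Statements.S9450
import Groth.Agent.S9178
import Mathlib.RingTheory.Smooth.Basic
import Mathlib.RingTheory.Unramified.Basic

set_option autoImplicit false
universe u
open CAlg

namespace Groth.Agent.S9450

/-- For ring maps A → B → C with A → C surjective and A → B formally smooth, writing I = ker(A → C) and
J = ker(B → C), the sequence 0 → I/I² → J/J² → C ⊗_B Ω_{B/A} → 0 is split exact: the first map is
injective and admits an A-linear retraction, its range is the kernel of the second map (class of x ↦
1 ⊗ dx), and the second map is surjective. -/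
theorem result (A : Type u) [CommRing A]
    (B : Type u) [CommRing B] [Algebra A B] [Algebra.FormallySmooth A B] (C : Type u) [CommRing C]
    [Algebra B C] [Algebra A C] [IsScalarTower A B C] (hC : Function.Surjective (algebraMap A C)) :
    Function.Injective (Ideal.mapCotangent (RingHom.ker (algebraMap A C))
        (RingHom.ker (algebraMap B C)) (Algebra.ofId A B)
        (le_of_eq (congrArg RingHom.ker (IsScalarTower.algebraMap_eq A B C)))) ∧
      (∃ r : (RingHom.ker (algebraMap B C)).Cotangent →ₗ[A] (RingHom.ker (algebraMap A C)).Cotangent,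
        r ∘ₗ (Ideal.mapCotangent (RingHom.ker (algebraMap A C)) (RingHom.ker (algebraMap B C))
          (Algebra.ofId A B)
          (le_of_eq (congrArg RingHom.ker (IsScalarTower.algebraMap_eq A B C)))) = LinearMap.id) ∧
      LinearMap.range (Ideal.mapCotangent (RingHom.ker (algebraMap A C))
          (RingHom.ker (algebraMap B C)) (Algebra.ofId A B)
          (le_of_eq (congrArg RingHom.ker (IsScalarTower.algebraMap_eq A B C)))) =
        LinearMap.ker ((KaehlerDifferential.kerCotangentToTensor A B C).restrictScalars A) ∧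
      Function.Surjective (KaehlerDifferential.kerCotangentToTensor A B C) := by
  let I : Ideal A := RingHom.ker (algebraMap A C)
  let J : Ideal B := RingHom.ker (algebraMap B C)
  have hle : I ≤ J.comap (Algebra.ofId A B) := le_of_eq (congrArg RingHom.ker (IsScalarTower.algebraMap_eq A B C))
  let π : A ⧸ I ^ 2 →ₐ[A] C := Ideal.Quotient.liftₐ (I ^ 2) (Algebra.ofId A C)
    (fun a ha => (Ideal.pow_le_self two_ne_zero ha : a ∈ I))
  have hπ : Function.Surjective π := fun c => by
    obtain ⟨a, rfl⟩ := hC c
    exact ⟨Ideal.Quotient.mk _ a, rfl⟩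
  have hker : RingHom.ker (π : A ⧸ I ^ 2 →+* C) ≤ I.map (Ideal.Quotient.mk (I ^ 2)) := by
    intro q hq
    obtain ⟨a, rfl⟩ := Ideal.Quotient.mk_surjective q
    exact Ideal.mem_map_of_mem _ hq
  have hnil : IsNilpotent (RingHom.ker (π : A ⧸ I ^ 2 →+* C)) := by
    refine ⟨2, le_bot_iff.mp ((Ideal.pow_right_mono hker 2).trans (le_of_eq ?_))⟩
    rw [← Ideal.map_pow, Ideal.map_quotient_self]
  let σ : B →ₐ[A] A ⧸ I ^ 2 := Algebra.FormallySmooth.liftOfSurjective (IsScalarTower.toAlgHom A B C) π hπ hnil
  have hσ : ∀ b, π (σ b) = algebraMap B C b := fun b =>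
    AlgHom.congr_fun (Algebra.FormallySmooth.comp_liftOfSurjective (IsScalarTower.toAlgHom A B C) π hπ hnil) b
  have hσJ : ∀ x : J, σ x.1 ∈ I.cotangentIdeal := by
    intro x
    obtain ⟨a, ha⟩ := Ideal.Quotient.mk_surjective (σ x.1)
    have : a ∈ I := by
      show algebraMap A C a = 0
      have := hσ x.1
      rw [← ha] at this
      exact this.trans x.2
    exact ⟨a, this, ha⟩
  let r0 : J →ₗ[A] I.Cotangent := I.cotangentEquivIdeal.symm.toLinearMap ∘ₗ
    LinearMap.codRestrict (I.cotangentIdeal.restrictScalars A)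
      (σ.toLinearMap ∘ₗ (J.subtype.restrictScalars A)) hσJ
  let p : J →ₗ[A] J.Cotangent := J.toCotangent.restrictScalars A
  have hp : Function.Surjective p := J.toCotangent_surjective
  have hk : LinearMap.ker p ≤ LinearMap.ker r0 := by
    intro x hx
    have hx' : x.1 ∈ J ^ 2 := (J.toCotangent_eq_zero x).mp hx
    have : σ x.1 = 0 := by
      rw [pow_two] at hx'
      refine Submodule.mul_induction_on hx' ?_ ?_
      · intro m hm n hn
        rw [map_mul]
        have h2 : (I.cotangentIdeal) ^ 2 = ⊥ := I.cotangentIdeal_square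
        have h3 := Ideal.mul_mem_mul (hσJ ⟨m, hm⟩) (hσJ ⟨n, hn⟩)
        rw [← pow_two, h2] at h3
        exact h3
      · intro a b ha hb; rw [map_add, ha, hb, add_zero]
    simp only [LinearMap.mem_ker, r0, LinearMap.comp_apply, LinearEquiv.coe_coe]
    exact ((congrArg I.cotangentEquivIdeal.symm (Subtype.ext this : (⟨σ x.1, hσJ x⟩ : I.cotangentIdeal) = 0))).trans (map_zero _)
  let r : J.Cotangent →ₗ[A] I.Cotangent :=
    (LinearMap.ker p).liftQ r0 hk ∘ₗ (p.quotKerEquivOfSurjective hp).symm.toLinearMap
  have hr : ∀ x : J, r (J.toCotangent x) = r0 x := fun x => by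
    have : (p.quotKerEquivOfSurjective hp).symm (p x) = Submodule.Quotient.mk x :=
      LinearEquiv.symm_apply_eq _ |>.mpr rfl
    show (LinearMap.ker p).liftQ r0 hk ((p.quotKerEquivOfSurjective hp).symm (p x)) = r0 x
    rw [this]; rfl
  have hrid : r ∘ₗ Ideal.mapCotangent I J (Algebra.ofId A B) hle = LinearMap.id := by
    apply LinearMap.ext
    intro z
    obtain ⟨a, rfl⟩ := I.toCotangent_surjective z
    show r (J.toCotangent ⟨algebraMap A B a, hle a.2⟩) = I.toCotangent a
    rw [hr]
    rw [← I.cotangentEquivIdeal_symm_apply a.1 a.2]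
    exact congrArg I.cotangentEquivIdeal.symm (Subtype.ext (σ.commutes a.1))
  refine ⟨?_, ⟨r, hrid⟩, ?_, ?_⟩
  · exact Function.LeftInverse.injective (g := r) (fun z => LinearMap.congr_fun hrid z)
  · ext z
    exact ((Groth.Agent.S9178.result A B C hC hle z).symm)
  · have hBC : Function.Surjective (algebraMap B C) := fun c => by
      obtain ⟨a, rfl⟩ := hC c
      exact ⟨algebraMap A B a, (IsScalarTower.algebraMap_apply A B C a).symm⟩
    have hU : Algebra.FormallyUnramified A C := Algebra.FormallyUnramified.of_surjective (Algebra.ofId A C) hC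
    have hS : Subsingleton Ω[C⁄A] := hU.1
    intro t
    have ht : t ∈ (LinearMap.ker (KaehlerDifferential.mapBaseChange A B C)).restrictScalars B :=
      Subsingleton.elim _ _
    rw [← KaehlerDifferential.range_kerCotangentToTensor A B C hBC] at ht
    exact ht

end Groth.Agent.S9450
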