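import Groth.Statements.S9451
import Mathlib

set_option autoImplicit false
universe u
open CategoryTheory CategoryTheory.Limits TensorProduct
open CAlg

namespace Groth.Agent.S9451

/-- Let (A_i) be a filtered system of rings with colimit A and B a smooth A-algebra. Then some stage A_i
carries a smooth A_i-algebra B_i with B isomorphic to A ⊗_{A_i} B_i as A-algebras (the base change
along the colimit map A_i → A; existence of an isomorphism). -/
theorem result {I : Type u} [SmallCategory I] [IsFiltered I]
    (D : I ⥤ CommRingCat.{u}) (c : Cocone D) (hc : IsColimit c) (B : Type u) [CommRing B]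
    [Algebra c.pt B] [Algebra.Smooth c.pt B] :
    ∃ (i : I) (Bi : Type u) (_ : CommRing Bi) (_ : Algebra (D.obj i) Bi),
      Algebra.Smooth (D.obj i) Bi ∧
      (letI : Algebra (D.obj i) c.pt := (c.ι.app i).hom.toAlgebra
       Nonempty (B ≃ₐ[c.pt] (c.pt ⊗[D.obj i] Bi))) := by
  classical
  obtain ⟨A₀, B₀, _, _, _, _, _, _, hft, hsm, ⟨e⟩⟩ :=
    Algebra.Smooth.exists_finiteType (R := ℤ) (A := c.pt) (B := B)
  haveI := hft
  haveI := hsm
  let Z : CommRingCat.{u} := CommRingCat.of (ULift.{u} ℤ)
  let zmap : ∀ (X : Type u) [CommRing X], (ULift.{u} ℤ) →+* X := fun X _ =>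
    (Int.castRingHom X).comp (ULift.ringEquiv : ULift.{u} ℤ ≃+* ℤ).toRingHom
  let α : (Functor.const I).obj Z ⟶ D :=
    { app := fun i => CommRingCat.ofHom (zmap (D.obj i))
      naturality := fun i j f => CommRingCat.hom_ext (RingHom.ext fun x =>
        (map_intCast (D.map f).hom x.down).symm) }
  let f : Z ⟶ CommRingCat.of A₀ := CommRingCat.ofHom (zmap A₀)
  have hf : f.hom.FinitePresentation := by
    have h1 : (Int.castRingHom A₀).FinitePresentation := by
      have : Algebra.FinitePresentation ℤ A₀ := Algebra.FinitePresentation.of_finiteType.1 hft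
      have := RingHom.finitePresentation_algebraMap.2 this
      rwa [Subsingleton.elim (algebraMap ℤ A₀) (Int.castRingHom A₀)] at this
    exact h1.comp (RingHom.FinitePresentation.of_bijective (ULift.ringEquiv : ULift.{u} ℤ ≃+* ℤ).bijective)
  let g : CommRingCat.of A₀ ⟶ c.pt := CommRingCat.ofHom (algebraMap A₀ c.pt)
  obtain ⟨i, g', -, hg'⟩ := RingHom.EssFiniteType.exists_eq_comp_ι_app_of_isColimit Z D α f c hc hf g
    (fun i => CommRingCat.hom_ext (RingHom.ext fun x =>
      (map_intCast (algebraMap A₀ c.pt) x.down).trans (map_intCast (c.ι.app i).hom x.down).symm))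
  letI : Algebra A₀ (D.obj i) := g'.hom.toAlgebra
  refine ⟨i, TensorProduct A₀ (D.obj i) B₀, inferInstance, inferInstance, inferInstance, ?_⟩
  letI : Algebra (D.obj i) c.pt := (c.ι.app i).hom.toAlgebra
  haveI : IsScalarTower A₀ (D.obj i) c.pt :=
    .of_algebraMap_eq fun a => congrArg (fun φ : CommRingCat.of A₀ ⟶ c.pt => φ.hom a) hg'
  exact ⟨e.trans (Algebra.TensorProduct.cancelBaseChange A₀ (D.obj i) c.pt c.pt B₀).symm⟩

end Groth.Agent.S9451
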