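import Groth.Statements.S9452
import Groth.Agent.H10Unram.Point
import Mathlib.RingTheory.LocalRing.ResidueField.Ideal
-- import your own Groth.Agent.* helpers here

set_option autoImplicit false
universe u
open Unram

set_option linter.style.haveILetI false

namespace Groth.Agent.S9452

open TensorProduct in
/-- Let R → S be of finite type and unramified at a prime q lying over p. Then there are an étale
R-algebra R', a prime p' of R' over p and an R'-algebra isomorphism e : R' ⊗_R S ≅ A × B with R' → A
surjective and p'A a prime ideal of A lying over p' whose pull-back along S → R' ⊗_R S ≅ A × B → A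
is q. -/
theorem result (R : Type u) [CommRing R]
    (S : Type u) [CommRing S] [Algebra R S] [Algebra.FiniteType R S] (q : Ideal S) [q.IsPrime]
    [Algebra.IsUnramifiedAt R q] :
    ∃ (R' : Type u) (_ : CommRing R') (_ : Algebra R R') (_ : Algebra.Etale R R') (p' : Ideal R')
      (_ : p'.IsPrime) (_ : p'.LiesOver (q.under R)) (A : Type u) (_ : CommRing A) (_ : Algebra R' A)
      (B : Type u) (_ : CommRing B) (_ : Algebra R' B) (e : (R' ⊗[R] S) ≃ₐ[R'] (A × B)),
      Function.Surjective (algebraMap R' A) ∧ (p'.map (algebraMap R' A)).IsPrime ∧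
        (p'.map (algebraMap R' A)).comap (algebraMap R' A) = p' ∧
        (p'.map (algebraMap R' A)).comap (((RingHom.fst A B).comp e.toRingHom).comp
          (Algebra.TensorProduct.includeRight : S →ₐ[R] R' ⊗[R] S).toRingHom) = q := by
  let ξ : S →ₐ[R] q.ResidueField := IsScalarTower.toAlgHom R S q.ResidueField
  have hq : RingHom.ker ξ = q := Ideal.ker_algebraMap_residueField q
  obtain ⟨N, z, hz, h1, hcut⟩ := H10Unram.exists_nbhd_piece ξ q hq
  obtain ⟨ε, hε, hsur, hmap, hcomap⟩ := H10Unram.piece_quotient N ξ z h1 hcut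
  haveI hp : (RingHom.ker N.pt).IsPrime := RingHom.ker_isPrime _
  haveI : (RingHom.ker ε).IsPrime := RingHom.ker_isPrime _
  refine ⟨N.A, N.ring, N.alg, N.etale, RingHom.ker N.pt, hp, ⟨?_⟩, _, inferInstance, inferInstance,
    _, inferInstance, inferInstance,
    AlgEquiv.prodQuotientOfIsIdempotentElem N.A hz.one_sub hz (sub_add_cancel 1 z) hz.one_sub_mul_self,
    hsur, hmap ▸ inferInstance, hmap ▸ hcomap, ?_⟩
  · ext r
    simp only [Ideal.under, Ideal.mem_comap]
    rw [RingHom.mem_ker, N.pt.commutes, ← ξ.commutes]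
    exact (by rw [hq] : algebraMap R S r ∈ q ↔ algebraMap R S r ∈ RingHom.ker ξ).trans RingHom.mem_ker
  · rw [hmap]
    ext s
    rw [Ideal.mem_comap, RingHom.mem_ker]
    show ε (Ideal.Quotient.mk _ ((1 : N.A) ⊗ₜ[R] s)) = 0 ↔ _
    rw [hε, Et18.SHensel.Nbhd.eval_tmul, map_one, one_mul]
    exact (RingHom.mem_ker (f := ξ)).symm.trans (by rw [hq])

end Groth.Agent.S9452
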