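import Groth.Statements.S9459
import Groth.Agent.HenselLib.HensBase

set_option autoImplicit false
universe u
open Hensel

namespace Groth.Agent.S9459
open Groth.Agent.HenselLib

open TensorProduct in
theorem aux (R : Type u) [CommRing R] (S : Type u)
    [CommRing S] [Algebra R S] (p : Ideal R) [p.IsPrime] (q : Ideal S) [q.IsPrime] [q.LiesOver p]
    (Rh : Type u) [CommRing Rh] [IsLocalRing Rh] [Algebra (Localization.AtPrime p) Rh]
    [IsLocalHom (algebraMap (Localization.AtPrime p) Rh)]
    [Hensel.IsHenselization (Localization.AtPrime p) Rh] [Algebra R Rh]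
    [IsScalarTower R (Localization.AtPrime p) Rh]
    (Sh : Type u) [CommRing Sh] [IsLocalRing Sh] [Algebra (Localization.AtPrime q) Sh]
    [IsLocalHom (algebraMap (Localization.AtPrime q) Sh)]
    [Hensel.IsHenselization (Localization.AtPrime q) Sh] [Algebra S Sh]
    [IsScalarTower S (Localization.AtPrime q) Sh] [Algebra R Sh] [IsScalarTower R S Sh]
    [Algebra Rh Sh] [IsScalarTower R Rh Sh]
    (Q : Ideal (Rh ⊗[R] S)) [Q.IsPrime]
    (hQ : ∀ t, t ∈ Q ↔ (Algebra.TensorProduct.lift (IsScalarTower.toAlgHom R Rh Sh) (IsScalarTower.toAlgHom R S Sh)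
    (fun _ _ => Commute.all _ _)) t ∈ IsLocalRing.maximalIdeal Sh)
    (E : Type u) [CommRing E] [IsLocalRing E] [Algebra (Localization.AtPrime Q) E]
    [IsLocalHom (algebraMap (Localization.AtPrime Q) E)]
    [Hensel.IsHenselization (Localization.AtPrime Q) E] :
    ∃ e : E ≃+* Sh, ∀ d : Rh ⊗[R] S,
      e (algebraMap (Localization.AtPrime Q) E (algebraMap (Rh ⊗[R] S) _ d)) = (Algebra.TensorProduct.lift (IsScalarTower.toAlgHom R Rh Sh) (IsScalarTower.toAlgHom R S Sh)
    (fun _ _ => Commute.all _ _)) d := by
  have := (inferInstance : Hensel.IsHenselization (Localization.AtPrime q) Sh).henselian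
  let φ := (Algebra.TensorProduct.lift (IsScalarTower.toAlgHom R Rh Sh) (IsScalarTower.toAlgHom R S Sh)
    (fun _ _ => Commute.all _ _))
  have := (inferInstance : Hensel.IsHenselization (Localization.AtPrime Q) E).henselian
  have hφS : ∀ s : S, φ ((1 : Rh) ⊗ₜ[R] s) = algebraMap S Sh s := fun s => by simp [φ]
  -- E -> Sh
  let f : Localization.AtPrime Q →+* Sh := IsLocalization.lift (M := Q.primeCompl) (g := φ.toRingHom)
    fun y => IsLocalRing.notMem_maximalIdeal.mp ((hQ _).not.mp y.2)
  have hfT : ∀ t : Rh ⊗[R] S, f (algebraMap (Rh ⊗[R] S) _ t) = φ t := fun t =>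
    IsLocalization.lift_eq _ t
  have hf : IsLocalHom f := HensBase.isLocalHom_of_comap_eq Q f (Ideal.ext fun t => by
    rw [Ideal.mem_comap, RingHom.comp_apply, hfT, hQ])
  obtain ⟨g, hg, -⟩ :=
    (inferInstance : Hensel.IsHenselization (Localization.AtPrime Q) E).universal Sh f hf
  have hgT : ∀ t : Rh ⊗[R] S, g (algebraMap _ E (algebraMap (Rh ⊗[R] S) (Localization.AtPrime Q) t)) =
      φ t := fun t => (congr($hg (algebraMap _ _ t))).trans (hfT t)
  let γ : Rh ⊗[R] S →+* E :=
    (algebraMap (Localization.AtPrime Q) E).comp (algebraMap _ (Localization.AtPrime Q))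
  have hγ : ∀ t, γ t ∈ IsLocalRing.maximalIdeal E ↔ t ∈ Q := fun t => by
    rw [show γ t = algebraMap (Localization.AtPrime Q) E (algebraMap _ _ t) from rfl,
      IsLocalRing.mem_maximalIdeal, mem_nonunits_iff, isUnit_map_iff,
      ← mem_nonunits_iff, ← IsLocalRing.mem_maximalIdeal,
      IsLocalization.AtPrime.to_map_mem_maximal_iff (Localization.AtPrime Q) Q]
  -- S_q -> E
  let i₂ : S →+* E := γ.comp (Algebra.TensorProduct.includeRight : S →ₐ[R] Rh ⊗[R] S).toRingHom
  have hi₂ : ∀ s, i₂ s ∈ IsLocalRing.maximalIdeal E ↔ s ∈ q := fun s => by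
    rw [show i₂ s = γ ((1 : Rh) ⊗ₜ[R] s) from rfl, hγ, hQ, hφS,
      IsScalarTower.algebraMap_apply S (Localization.AtPrime q) Sh,
      IsLocalRing.mem_maximalIdeal, mem_nonunits_iff, isUnit_map_iff,
      ← mem_nonunits_iff, ← IsLocalRing.mem_maximalIdeal,
      IsLocalization.AtPrime.to_map_mem_maximal_iff (Localization.AtPrime q) q]
  let f₂ : Localization.AtPrime q →+* E := IsLocalization.lift (M := q.primeCompl) (g := i₂)
    fun y => IsLocalRing.notMem_maximalIdeal.mp ((hi₂ _).not.mpr y.2)
  have hf₂ : IsLocalHom f₂ := HensBase.isLocalHom_of_comap_eq q f₂ (Ideal.ext fun s => by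
    rw [Ideal.mem_comap, RingHom.comp_apply, IsLocalization.lift_eq]; exact hi₂ s)
  obtain ⟨h, hh, -⟩ :=
    (inferInstance : Hensel.IsHenselization (Localization.AtPrime q) Sh).universal E f₂ hf₂
  have hhS : ∀ s, h (algebraMap S Sh s) = i₂ s := fun s => by
    rw [IsScalarTower.algebraMap_apply S (Localization.AtPrime q) Sh]
    exact (congr($hh (algebraMap _ _ s))).trans (IsLocalization.lift_eq _ s)
  have h1 : g.comp h = RingHom.id Sh :=
    ((inferInstance : Hensel.IsHenselization (Localization.AtPrime q) Sh).universal Sh _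
      (inferInstance : IsLocalHom (algebraMap (Localization.AtPrime q) Sh))).unique
      (IsLocalization.ringHom_ext q.primeCompl (RingHom.ext fun s => by
        show g (h (algebraMap _ Sh (algebraMap S _ s))) = _
        rw [← IsScalarTower.algebraMap_apply, hhS]
        refine (hgT _).trans ?_
        exact (hφS s).trans (IsScalarTower.algebraMap_apply S (Localization.AtPrime q) Sh s)))
      (RingHom.id_comp _)
  -- maps out of Rh
  let ι : Rh →+* E := γ.comp Algebra.TensorProduct.includeLeftRingHom
  have hιR : ∀ r : R, ι (algebraMap R Rh r) = i₂ (algebraMap R S r) := fun r =>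
    congrArg γ (((Algebra.TensorProduct.includeLeft : Rh →ₐ[R] Rh ⊗[R] S).commutes r).trans
      ((Algebra.TensorProduct.includeRight : S →ₐ[R] Rh ⊗[R] S).commutes r).symm)
  let f₃ : Localization.AtPrime p →+* E := ι.comp (algebraMap (Localization.AtPrime p) Rh)
  have hf₃ : IsLocalHom f₃ := HensBase.isLocalHom_of_comap_eq p f₃ (Ideal.ext fun r => by
    rw [Ideal.mem_comap, RingHom.comp_apply]
    show ι (algebraMap _ Rh (algebraMap R _ r)) ∈ _ ↔ _
    rw [← IsScalarTower.algebraMap_apply, hιR, hi₂, ← Ideal.mem_comap]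
    exact ((Ideal.ext_iff.mp (q.over_def p)) r).symm)
  have key : (h.comp g).comp ι = ι :=
    ((inferInstance : Hensel.IsHenselization (Localization.AtPrime p) Rh).universal E f₃ hf₃).unique
      (IsLocalization.ringHom_ext p.primeCompl (RingHom.ext fun r => by
        show h (g (ι (algebraMap _ Rh (algebraMap R _ r)))) = ι (algebraMap _ Rh (algebraMap R _ r))
        rw [← IsScalarTower.algebraMap_apply, hιR]
        rw [show g (i₂ (algebraMap R S r)) = algebraMap S Sh (algebraMap R S r) from
          (hgT _).trans (hφS _), hhS]))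
      rfl
  have h2 : h.comp g = RingHom.id E :=
    ((inferInstance : Hensel.IsHenselization (Localization.AtPrime Q) E).universal E _
      (inferInstance : IsLocalHom (algebraMap (Localization.AtPrime Q) E))).unique
      (IsLocalization.ringHom_ext Q.primeCompl (RingHom.ext fun t => by
        show h (g (γ t)) = γ t
        induction t using TensorProduct.induction_on with
        | zero => simp
        | tmul a s =>
          rw [show a ⊗ₜ[R] s = (a ⊗ₜ[R] (1 : S)) * ((1 : Rh) ⊗ₜ[R] s) by simp, map_mul, map_mul,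
            map_mul]
          refine congrArg₂ (· * ·) congr($key a) ?_
          exact (congrArg h ((hgT _).trans (hφS s))).trans (hhS s)
        | add x y hx hy => rw [map_add, map_add, map_add, hx, hy]))
      (RingHom.id_comp _)
  exact ⟨RingEquiv.ofRingHom g h h1 h2, hgT⟩


open TensorProduct in
/-- Let R → S be a ring map, q a prime of S over p, and R^h, S^h henselizations of R_p and S_q, S^h
carrying the compatible R^h-algebra structure (the canonical map R^h → S^h). Let φ : R^h ⊗_R S → S^h
be the induced map and Q the preimage under φ of the maximal ideal (a prime lying over the maximal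
ideal of R^h and over q). Then S^h is a henselization of the local ring (R^h ⊗_R S)_Q: for every
henselization E of (R^h ⊗_R S)_Q there is a ring isomorphism E ≅ S^h compatible with the two maps
from R^h ⊗_R S. -/
theorem result (R : Type u) [CommRing R] (S : Type u)
    [CommRing S] [Algebra R S] (p : Ideal R) [p.IsPrime] (q : Ideal S) [q.IsPrime] [q.LiesOver p]
    (Rh : Type u) [CommRing Rh] [IsLocalRing Rh] [Algebra (Localization.AtPrime p) Rh]
    [IsLocalHom (algebraMap (Localization.AtPrime p) Rh)]
    [Hensel.IsHenselization (Localization.AtPrime p) Rh] [Algebra R Rh]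
    [IsScalarTower R (Localization.AtPrime p) Rh]
    (Sh : Type u) [CommRing Sh] [IsLocalRing Sh] [Algebra (Localization.AtPrime q) Sh]
    [IsLocalHom (algebraMap (Localization.AtPrime q) Sh)]
    [Hensel.IsHenselization (Localization.AtPrime q) Sh] [Algebra S Sh]
    [IsScalarTower S (Localization.AtPrime q) Sh] [Algebra R Sh] [IsScalarTower R S Sh]
    [Algebra Rh Sh] [IsScalarTower R Rh Sh]
    (E : Type u) [CommRing E] [IsLocalRing E]
    [Algebra (Localization.AtPrime (Ideal.comap (Algebra.TensorProduct.lift (IsScalarTower.toAlgHom R Rh Sh) (IsScalarTower.toAlgHom R S Sh)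
          (fun _ _ => Commute.all _ _)) (IsLocalRing.maximalIdeal Sh))) E]
    [IsLocalHom (algebraMap (Localization.AtPrime
      (Ideal.comap (Algebra.TensorProduct.lift (IsScalarTower.toAlgHom R Rh Sh) (IsScalarTower.toAlgHom R S Sh)
          (fun _ _ => Commute.all _ _)) (IsLocalRing.maximalIdeal Sh))) E)]
    [Hensel.IsHenselization (Localization.AtPrime
      (Ideal.comap (Algebra.TensorProduct.lift (IsScalarTower.toAlgHom R Rh Sh) (IsScalarTower.toAlgHom R S Sh)
          (fun _ _ => Commute.all _ _)) (IsLocalRing.maximalIdeal Sh))) E] :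
    ∃ e : E ≃+* Sh, ∀ d : Rh ⊗[R] S,
      e (algebraMap (Localization.AtPrime
        (Ideal.comap (Algebra.TensorProduct.lift (IsScalarTower.toAlgHom R Rh Sh) (IsScalarTower.toAlgHom R S Sh)
          (fun _ _ => Commute.all _ _)) (IsLocalRing.maximalIdeal Sh))) E
        (algebraMap (Rh ⊗[R] S) _ d)) = (Algebra.TensorProduct.lift (IsScalarTower.toAlgHom R Rh Sh) (IsScalarTower.toAlgHom R S Sh)
          (fun _ _ => Commute.all _ _)) d := by
  exact aux R S p q Rh Sh _ (fun _ => Iff.rfl) E

end Groth.Agent.S9459
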