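import Groth.Statements.S9462
import Mathlib
import Groth.Agent.HenselLib.EtaleLift

set_option autoImplicit false
universe u
open CAlg
open scoped TensorProduct

namespace Groth.Agent.S9462

open TensorProduct in
/-- `C ⊗ I → (C/IC) ⊗ I` is injective for `I² = 0`. -/
theorem rTensor_injective_of_sq {A C B : Type u} [CommRing A] [CommRing C] [Algebra A C] [CommRing B]
    [Algebra A B] (I : Ideal A) (hI : I ^ 2 = ⊥) (θ : C →ₐ[A] B) (hθ : Function.Surjective θ)
    (hker : RingHom.ker θ.toRingHom = I.map (algebraMap A C)) :
    Function.Injective (θ.toLinearMap.rTensor I) := by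
  rw [injective_iff_map_eq_zero]
  intro w hw
  let K : Submodule A C := LinearMap.ker θ.toLinearMap
  obtain ⟨k, rfl⟩ : w ∈ LinearMap.range (K.subtype.rTensor I) :=
    (LinearMap.exact_iff.1 (rTensor_exact I (LinearMap.exact_subtype_ker_map θ.toLinearMap) hθ)).le hw
  clear hw
  induction k using TensorProduct.induction_on with
  | zero => rw [map_zero]
  | add a b ha hb => rw [map_add, ha, hb, add_zero]
  | tmul z i =>
    rw [LinearMap.rTensor_tmul]
    have hz : (z : C) ∈ I.map (algebraMap A C) := hker ▸ z.2
    suffices h : ∀ x ∈ I.map (algebraMap A C), ∀ i : I, x ⊗ₜ[A] i = 0 from h _ hz i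
    intro x hx
    induction hx using Submodule.span_induction with
    | mem y hy =>
      intro i
      obtain ⟨j, hj, rfl⟩ := hy
      rw [Algebra.algebraMap_eq_smul_one, TensorProduct.smul_tmul]
      have : j • i = 0 := Subtype.ext (by
        have h0 : j * (i : A) ∈ I ^ 2 := by rw [pow_two]; exact Ideal.mul_mem_mul hj i.2
        rw [hI, Ideal.mem_bot] at h0
        simpa using h0)
      rw [this, TensorProduct.tmul_zero]
    | zero => intro i; rw [TensorProduct.zero_tmul]
    | add a b _ _ ha hb => intro i; rw [TensorProduct.add_tmul, ha, hb, add_zero]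
    | smul c a _ ha =>
      intro i
      have := congrArg (LinearMap.rTensor I (LinearMap.mulLeft A c)) (ha i)
      rwa [map_zero, LinearMap.rTensor_tmul, LinearMap.mulLeft_apply, ← smul_eq_mul] at this

/-- Consider surjections A' → A and B' → B with square-zero kernels I and J and a commutative square A'
→ B', A → B. If A → B is étale and J = I ⊗_A B — that is, J = IB' and the multiplication map B'
⊗_{A'} I → B' is injective — then A' → B' is étale. -/
theorem result (A' : Type u) [CommRing A'] (A : Type u) [CommRing A]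
    [Algebra A' A] (hA : Function.Surjective (algebraMap A' A))
    (hI : RingHom.ker (algebraMap A' A) ^ 2 = ⊥)
    (B' : Type u) [CommRing B'] [Algebra A' B'] (B : Type u) [CommRing B] [Algebra B' B]
    [Algebra A B] [Algebra A' B] [IsScalarTower A' A B] [IsScalarTower A' B' B]
    (hB : Function.Surjective (algebraMap B' B)) (hJ : RingHom.ker (algebraMap B' B) ^ 2 = ⊥)
    [Algebra.Etale A B]
    (hJI : RingHom.ker (algebraMap B' B) = (RingHom.ker (algebraMap A' A)).map (algebraMap A' B'))
    (hinj : Function.Injective ((RingHom.ker (algebraMap A' A)).subtype.baseChange B')) :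
    Algebra.Etale A' B' := by
  classical
  let I := RingHom.ker (algebraMap A' A)
  let ε : A' ⧸ I →+* A := RingHom.kerLift (algebraMap A' A)
  have hε : Function.Bijective ε := by
    refine ⟨RingHom.kerLift_injective _, fun a => ?_⟩
    obtain ⟨x, rfl⟩ := hA a
    exact ⟨Ideal.Quotient.mk _ x, rfl⟩
  letI : Algebra (A' ⧸ I) B := ((algebraMap A B).comp ε).toAlgebra
  haveI : Algebra.Etale (A' ⧸ I) B := by
    have h1 : (algebraMap A B).Etale := RingHom.etale_algebraMap.2 inferInstance
    exact RingHom.etale_algebraMap.1
      (RingHom.Etale.stableUnderComposition ε (algebraMap A B) (RingHom.Etale.of_bijective hε) h1)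
  obtain ⟨C, _, _, _, θ₀, hθ, hker, hθa⟩ :=
    _root_.Groth.Agent.HenselLib.exists_etale_lift A' I B
  let θ : C →ₐ[A'] B :=
    { θ₀ with commutes' := fun a => (hθa a).trans (IsScalarTower.algebraMap_apply A' A B a).symm }
  let g : B' →ₐ[A'] B := IsScalarTower.toAlgHom A' B' B
  obtain ⟨φ, hφ⟩ : ∃ φ : C →ₐ[A'] B', g.comp φ = θ :=
    ⟨_, Algebra.FormallySmooth.comp_liftOfSurjective θ g hB ⟨2, hJ⟩⟩
  have hφ' : ∀ c, algebraMap B' B (φ c) = θ c := fun c => DFunLike.congr_fun hφ c
  have hsurj : Function.Surjective φ := by
    have happrox : ∀ y : B', ∃ c, y - φ c ∈ I.map (algebraMap A' B') := fun y => by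
      obtain ⟨c, hc⟩ := hθ (algebraMap B' B y)
      refine ⟨c, ?_⟩
      rw [← hJI, RingHom.mem_ker, map_sub, hφ']
      exact sub_eq_zero.2 hc.symm
    have hI2 : (I.map (algebraMap A' B')) ^ 2 = ⊥ := by rw [← Ideal.map_pow, hI, Ideal.map_bot]
    have hle : ∀ z ∈ I.map (algebraMap A' B'), z ∈ φ.range := by
      intro z hz
      induction hz using Submodule.span_induction with
      | mem y hy => obtain ⟨j, _, rfl⟩ := hy; exact φ.range.algebraMap_mem j
      | zero => exact φ.range.zero_mem
      | add a b _ _ ha hb => exact φ.range.add_mem ha hb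
      | smul c a ha' ha =>
        obtain ⟨c', hc'⟩ := happrox c
        have h0 : (c - φ c') * a ∈ (I.map (algebraMap A' B')) ^ 2 := by
          rw [pow_two]; exact Ideal.mul_mem_mul hc' ha'
        rw [hI2, Ideal.mem_bot, sub_mul, sub_eq_zero] at h0
        rw [smul_eq_mul, h0]
        exact φ.range.mul_mem ⟨c', rfl⟩ ha
    intro y
    obtain ⟨c, hc⟩ := happrox y
    obtain ⟨d, hd⟩ := hle _ hc
    exact ⟨c + d, by rw [map_add]; change φ c + φ.toRingHom d = y; rw [hd]; ring⟩
  have hinjφ : Function.Injective φ := by
    rw [injective_iff_map_eq_zero]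
    intro x hx
    have hxI : x ∈ I.map (algebraMap A' C) := by
      rw [← hker, RingHom.mem_ker]
      show θ x = 0
      rw [← hφ', hx, map_zero]
    have hex : ∀ z ∈ I.map (algebraMap A' C), ∃ w : C ⊗[A'] I,
        (TensorProduct.rid A' C) (I.subtype.lTensor C w) = z := by
      intro z hz
      induction hz using Submodule.span_induction with
      | mem y hy =>
        obtain ⟨j, hj, rfl⟩ := hy
        exact ⟨1 ⊗ₜ[A'] ⟨j, hj⟩, by simp [Algebra.algebraMap_eq_smul_one]⟩
      | zero => exact ⟨0, by simp⟩
      | add a b _ _ ha hb =>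
        obtain ⟨u, hu⟩ := ha
        obtain ⟨v, hv⟩ := hb
        exact ⟨u + v, by rw [map_add, map_add, hu, hv]⟩
      | smul c a _ ha =>
        obtain ⟨u, hu⟩ := ha
        refine ⟨(LinearMap.mulLeft A' c).rTensor I u, ?_⟩
        rw [← hu]
        clear hu
        induction u using TensorProduct.induction_on with
        | zero => simp
        | add p q hp hq => simp only [map_add, smul_add, hp, hq]
        | tmul p q => simp
    obtain ⟨w, hw⟩ := hex x hxI
    have hnat : ∀ w : C ⊗[A'] I, (TensorProduct.rid A' B') (I.subtype.lTensor B' (φ.toLinearMap.rTensor I w)) =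
        φ ((TensorProduct.rid A' C) (I.subtype.lTensor C w)) := by
      intro w
      induction w using TensorProduct.induction_on with
      | zero => simp
      | add p q hp hq => simp only [map_add, hp, hq]
      | tmul p q => simp
    have h0 : φ.toLinearMap.rTensor I w = 0 := by
      refine hinj ?_
      rw [map_zero]
      refine (TensorProduct.rid A' B').injective ?_
      rw [map_zero]
      have := hnat w
      rw [hw, hx] at this
      exact this
    have hw0 : w = 0 := by
      refine rTensor_injective_of_sq I hI θ hθ hker ?_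
      rw [map_zero, ← hφ, AlgHom.comp_toLinearMap, LinearMap.rTensor_comp, LinearMap.comp_apply, h0,
        map_zero]
    rw [← hw, hw0, map_zero, map_zero]
  exact Algebra.Etale.of_equiv (AlgEquiv.ofBijective φ ⟨hinjφ, hsurj⟩)

end Groth.Agent.S9462
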