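import Groth.Statements.S9463
import Groth.Agent.Thick15.Localize
-- import your own Groth.Agent.* helpers here

set_option autoImplicit false
universe u
open OmegaSh

namespace Groth.Agent.S9463

/-- Let A → B be formally unramified, π : B' → B a universal first order thickening of B relative to A,
and S ⊆ A a multiplicative subset. Localizing everything at S (A_S, B_S and B'_S with compatible
algebra structures, π_S : B'_S → B_S the A_S-algebra map induced by π), the map π_S is a universal
first order thickening of B_S relative to A_S. (The published statement adds the consequence that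
the conormal module localizes accordingly.) -/
theorem result (A B B' : Type u) [CommRing A] [CommRing B]
    [CommRing B'] [Algebra A B] [Algebra.FormallyUnramified A B] [Algebra A B'] (π : B' →ₐ[A] B)
    (hπ : OmegaSh.IsUnivThickeningRing A B B' π) (S : Submonoid A)
    (AS BS B'S : Type u) [CommRing AS] [CommRing BS] [CommRing B'S]
    [Algebra A AS] [IsLocalization S AS]
    [Algebra B BS] [IsLocalization (Algebra.algebraMapSubmonoid B S) BS]
    [Algebra B' B'S] [IsLocalization (Algebra.algebraMapSubmonoid B' S) B'S]
    [Algebra AS BS] [Algebra A BS] [IsScalarTower A AS BS] [IsScalarTower A B BS]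
    [Algebra AS B'S] [Algebra A B'S] [IsScalarTower A AS B'S] [IsScalarTower A B' B'S]
    (πS : B'S →ₐ[AS] BS) (hπS : ∀ x : B', πS (algebraMap B' B'S x) = algebraMap B BS (π x)) :
    OmegaSh.IsUnivThickeningRing AS BS B'S πS := by
  obtain ⟨hs, hk, huniv⟩ := hπ
  haveI : IsLocalization ((Algebra.algebraMapSubmonoid B' S).map π.toRingHom) BS := by
    have : (Algebra.algebraMapSubmonoid B' S).map π.toRingHom = Algebra.algebraMapSubmonoid B S := by
      ext y
      constructor
      · rintro ⟨_, ⟨s, hs', rfl⟩, rfl⟩; exact ⟨s, hs', (π.commutes s).symm⟩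
      · rintro ⟨s, hs', rfl⟩; exact ⟨_, ⟨s, hs', rfl⟩, π.commutes s⟩
    rw [this]; infer_instance
  refine ⟨Groth.Agent.Thick15.surjective_of_loc (Algebra.algebraMapSubmonoid B' S) π.toRingHom πS.toRingHom hπS hs,
    Groth.Agent.Thick15.ker_sq (Algebra.algebraMapSubmonoid B' S) π.toRingHom πS.toRingHom hπS hk,
    fun C _ _ I hI a => ?_⟩
  letI : Algebra A C := ((algebraMap AS C).comp (algebraMap A AS)).toAlgebra
  haveI : IsScalarTower A AS C := IsScalarTower.of_algebraMap_eq fun _ => rfl
  obtain ⟨a₀, ha₀, huniq⟩ := huniv C I hI ((a.restrictScalars A).comp (IsScalarTower.toAlgHom A B BS))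
  obtain ⟨a', ⟨h1, h2⟩, hu'⟩ := Groth.Agent.Thick15.existsUnique_lift (Algebra.algebraMapSubmonoid B' S) π.toRingHom
    πS.toRingHom hπS I hI a.toRingHom a₀.toRingHom (congrArg AlgHom.toRingHom ha₀)
  refine ⟨{ toRingHom := a', commutes' := fun r => ?_ }, AlgHom.coe_ringHom_injective h2, fun g hg => ?_⟩
  · refine RingHom.congr_fun (f := a'.comp (algebraMap AS B'S)) (g := algebraMap AS C) ?_ r
    refine IsLocalization.ringHom_ext S (RingHom.ext fun x => ?_)
    show a' (algebraMap AS B'S (algebraMap A AS x)) = algebraMap A C x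
    rw [← IsScalarTower.algebraMap_apply A AS B'S, IsScalarTower.algebraMap_apply A B' B'S,
      show a' (algebraMap B' B'S _) = a₀ _ from RingHom.congr_fun h1 _]
    exact a₀.commutes x
  · refine AlgHom.coe_ringHom_injective (hu' g.toRingHom ⟨?_, congrArg AlgHom.toRingHom hg⟩)
    refine congrArg AlgHom.toRingHom (huniq ((g.restrictScalars A).comp (IsScalarTower.toAlgHom A B' B'S)) (AlgHom.ext fun x => ?_))
    show Ideal.Quotient.mk I (g (algebraMap B' B'S x)) = a (algebraMap B BS (π x))
    rw [← hπS]
    exact DFunLike.congr_fun hg _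

end Groth.Agent.S9463
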