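import Groth.Statements.S9464
import Groth.Agent.Thick15.Localize
-- import your own Groth.Agent.* helpers here

set_option autoImplicit false
universe u
open OmegaSh

namespace Groth.Agent.S9464

/-- Let A → B be formally unramified, π : B' → B a universal first order thickening of B relative to A,
S ⊆ B a multiplicative subset and S' = π⁻¹(S) ⊆ B'. With B_S the localization of B at S, B'_{S'} the
localization of B' at S' (both as A-algebras) and π' : B'_{S'} → B_S the A-algebra map induced by π,
the map π' is a universal first order thickening of B_S relative to A. (The published statement adds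
the consequence that the conormal module localizes accordingly.) -/
theorem result (A B B' : Type u) [CommRing A] [CommRing B]
    [CommRing B'] [Algebra A B] [Algebra.FormallyUnramified A B] [Algebra A B'] (π : B' →ₐ[A] B)
    (hπ : OmegaSh.IsUnivThickeningRing A B B' π) (S : Submonoid B)
    (BS B'S : Type u) [CommRing BS] [CommRing B'S]
    [Algebra B BS] [IsLocalization S BS]
    [Algebra B' B'S] [IsLocalization (S.comap π.toRingHom.toMonoidHom) B'S]
    [Algebra A BS] [IsScalarTower A B BS] [Algebra A B'S] [IsScalarTower A B' B'S]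
    (πS : B'S →ₐ[A] BS) (hπS : ∀ x : B', πS (algebraMap B' B'S x) = algebraMap B BS (π x)) :
    OmegaSh.IsUnivThickeningRing A BS B'S πS := by
  obtain ⟨hs, hk, huniv⟩ := hπ
  haveI : IsLocalization ((S.comap π.toRingHom.toMonoidHom).map π.toRingHom) BS := by
    have : (S.comap π.toRingHom.toMonoidHom).map π.toRingHom = S := by
      ext y
      refine ⟨?_, fun hy => ?_⟩
      · rintro ⟨x, hx, rfl⟩; exact hx
      · obtain ⟨x, rfl⟩ := hs y; exact ⟨x, hy, rfl⟩
    rw [this]; infer_instance
  refine ⟨Groth.Agent.Thick15.surjective_of_loc (S.comap π.toRingHom.toMonoidHom) π.toRingHom πS.toRingHom hπS hs,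
    Groth.Agent.Thick15.ker_sq (S.comap π.toRingHom.toMonoidHom) π.toRingHom πS.toRingHom hπS hk,
    fun C _ _ I hI a => ?_⟩
  obtain ⟨a₀, ha₀, huniq⟩ := huniv C I hI (a.comp (IsScalarTower.toAlgHom A B BS))
  obtain ⟨a', ⟨h1, h2⟩, hu'⟩ := Groth.Agent.Thick15.existsUnique_lift (S.comap π.toRingHom.toMonoidHom) π.toRingHom
    πS.toRingHom hπS I hI a.toRingHom a₀.toRingHom (congrArg AlgHom.toRingHom ha₀)
  refine ⟨{ toRingHom := a', commutes' := fun r => ?_ }, AlgHom.coe_ringHom_injective h2, fun g hg => ?_⟩
  · show a' (algebraMap A B'S r) = _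
    rw [IsScalarTower.algebraMap_apply A B' B'S, show a' (algebraMap B' B'S _) = a₀ _ from RingHom.congr_fun h1 _]
    exact a₀.commutes r
  · refine AlgHom.coe_ringHom_injective (hu' g.toRingHom ⟨?_, congrArg AlgHom.toRingHom hg⟩)
    refine congrArg AlgHom.toRingHom (huniq (g.comp (IsScalarTower.toAlgHom A B' B'S)) (AlgHom.ext fun x => ?_))
    show Ideal.Quotient.mk I (g (algebraMap B' B'S x)) = a (algebraMap B BS (π x))
    rw [← hπS]
    exact DFunLike.congr_fun hg _

end Groth.Agent.S9464
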