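import Groth.Statements.S9469
import Groth.Agent.HenselLib.PtPrime

set_option autoImplicit false
universe u
open Hensel

namespace Groth.Agent.S9469
open Groth.Agent.HenselLib CategoryTheory
open scoped TensorProduct

/-- Let R be a ring and p a prime of R. Consider pairs (S, q) with S an étale R-algebra and q a prime of
S lying over p such that κ(p) → κ(q) is bijective; a morphism of pairs is an R-algebra map pulling
the second prime back to the first. Then any two parallel morphisms of pairs φ, ψ : (S₁, q₁) → (S₂,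
q₂) are coequalized by a morphism of pairs (S₂, q₂) → (S₃, q₃). -/
theorem result (R : Type u) [CommRing R]
    (p : Ideal R) [p.IsPrime] (S₁ : Type u) [CommRing S₁] [Algebra R S₁] [Algebra.Etale R S₁] (q₁ : Ideal S₁) [q₁.IsPrime] (hq₁ : p = q₁.comap (algebraMap R S₁))
    (hq₁κ : Function.Bijective (Ideal.ResidueField.map p q₁ (algebraMap R S₁) hq₁))
    (S₂ : Type u) [CommRing S₂] [Algebra R S₂] [Algebra.Etale R S₂] (q₂ : Ideal S₂) [q₂.IsPrime] (hq₂ : p = q₂.comap (algebraMap R S₂))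
    (hq₂κ : Function.Bijective (Ideal.ResidueField.map p q₂ (algebraMap R S₂) hq₂))
    (φ ψ : S₁ →ₐ[R] S₂) (hφ : q₂.comap φ.toRingHom = q₁) (hψ : q₂.comap ψ.toRingHom = q₁) :
    ∃ (S₃ : Type u) (_ : CommRing S₃) (_ : Algebra R S₃) (_ : Algebra.Etale R S₃) (q₃ : Ideal S₃)
      (_ : q₃.IsPrime) (hq₃ : p = q₃.comap (algebraMap R S₃)),
      Function.Bijective (Ideal.ResidueField.map p q₃ (algebraMap R S₃) hq₃) ∧
        ∃ χ : S₂ →ₐ[R] S₃, q₃.comap χ.toRingHom = q₂ ∧ χ.comp φ = χ.comp ψ := by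
  obtain ⟨σ, hσ⟩ := PtPrime.exists_point p q₂ hq₂ hq₂κ
  have hk : ∀ χ : S₁ →ₐ[R] S₂, q₂.comap χ.toRingHom = q₁ → RingHom.ker (σ.comp χ) = q₁ := by
    intro χ hχ
    rw [← hχ, ← hσ]
    rfl
  have heq : σ.comp φ = σ.comp ψ :=
    PtPrime.point_unique p q₁ hq₁ hq₁κ _ _ (hk φ hφ) (hk ψ hψ)
  obtain ⟨P, eP, heP⟩ := Pt.exists_equiv S₁ (σ.comp φ)
  obtain ⟨Q, eQ, heQ⟩ := Pt.exists_equiv S₂ σ
  let f : P ⟶ Q := ⟨(eQ.symm.toAlgHom.comp φ).comp eP.toAlgHom, AlgHom.ext fun x => by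
    show Q.pt (eQ.symm (φ (eP x))) = P.pt x
    rw [← heQ, eQ.apply_symm_apply]
    exact heP x⟩
  let g : P ⟶ Q := ⟨(eQ.symm.toAlgHom.comp ψ).comp eP.toAlgHom, AlgHom.ext fun x => by
    show Q.pt (eQ.symm (ψ (eP x))) = P.pt x
    rw [← heQ, eQ.apply_symm_apply]
    exact (congr($heq (eP x))).symm.trans (heP x)⟩
  obtain ⟨T, h, hfg⟩ := CategoryTheory.IsFilteredOrEmpty.cocone_maps f g
  have hT : (RingHom.ker T.pt).IsPrime := RingHom.ker_isPrime T.pt
  refine ⟨T.Ring, inferInstance, inferInstance, T.etale, RingHom.ker T.pt, hT,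
    PtPrime.comap_ker_point p T.pt, PtPrime.bijective_map_of_point p _ _ T.pt rfl,
    h.map.comp eQ.symm.toAlgHom, ?_, AlgHom.ext fun x => ?_⟩
  · rw [← hσ]
    refine Ideal.ext fun x => ?_
    show T.pt (h.map (eQ.symm x)) = 0 ↔ σ x = 0
    rw [Pt.pt_map h, ← heQ, eQ.apply_symm_apply]
  · have h1 : (f ≫ h).map (eP.symm x) = (g ≫ h).map (eP.symm x) := by rw [hfg]
    simpa [Pt.comp_map, f, g] using h1

end Groth.Agent.S9469
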