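import Groth.Statements.S9470
import Groth.Agent.HenselLib.PtPrime

set_option autoImplicit false
universe u
open Hensel

namespace Groth.Agent.S9470
open Groth.Agent.HenselLib CategoryTheory

/-- Let R be a ring, p a prime of R and R^h a henselization of the local ring R_p, regarded as an
R-algebra through R_p. For pairs (S, q) with S an étale R-algebra and q a prime of S over p such
that κ(p) → κ(q) is bijective: (a) there is exactly one R-algebra map f : S → R^h under which the
maximal ideal pulls back to q; (b) every element of R^h is f(s) for some such pair, map f and s ∈ S;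
(c) if such an f sends s to 0, then some R-algebra map S → S' to another such pair (S', q'), pulling
q' back to q, already sends s to 0. Together with filteredness of the category of pairs this
expresses that R^h is canonically the colimit of S over all pairs (S, q). (The published statement
also records the equal colimit of the local rings S_q.) -/
theorem result (R : Type u) [CommRing R]
    (p : Ideal R) [p.IsPrime] (Rh : Type u) [CommRing Rh] [IsLocalRing Rh]
    [Algebra (Localization.AtPrime p) Rh] [IsLocalHom (algebraMap (Localization.AtPrime p) Rh)]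
    [Hensel.IsHenselization (Localization.AtPrime p) Rh] [Algebra R Rh]
    [IsScalarTower R (Localization.AtPrime p) Rh] :
    (∀ (S : Type u) [CommRing S] [Algebra R S] [Algebra.Etale R S] (q : Ideal S) [q.IsPrime]
        (hq : p = q.comap (algebraMap R S)),
        Function.Bijective (Ideal.ResidueField.map p q (algebraMap R S) hq) →
          ∃! f : S →ₐ[R] Rh, (IsLocalRing.maximalIdeal Rh).comap f.toRingHom = q) ∧
    (∀ x : Rh, ∃ (S : Type u) (_ : CommRing S) (_ : Algebra R S) (_ : Algebra.Etale R S) (q : Ideal S)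
        (_ : q.IsPrime) (hq : p = q.comap (algebraMap R S)),
        Function.Bijective (Ideal.ResidueField.map p q (algebraMap R S) hq) ∧
          ∃ (f : S →ₐ[R] Rh) (s : S), (IsLocalRing.maximalIdeal Rh).comap f.toRingHom = q ∧ f s = x) ∧
    (∀ (S : Type u) [CommRing S] [Algebra R S] [Algebra.Etale R S] (q : Ideal S) [q.IsPrime]
        (hq : p = q.comap (algebraMap R S)),
        Function.Bijective (Ideal.ResidueField.map p q (algebraMap R S) hq) →
          ∀ (f : S →ₐ[R] Rh), (IsLocalRing.maximalIdeal Rh).comap f.toRingHom = q → ∀ s : S, f s = 0 →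
            ∃ (S' : Type u) (_ : CommRing S') (_ : Algebra R S') (_ : Algebra.Etale R S') (q' : Ideal S')
              (_ : q'.IsPrime) (hq' : p = q'.comap (algebraMap R S')),
              Function.Bijective (Ideal.ResidueField.map p q' (algebraMap R S') hq') ∧
                ∃ φ : S →ₐ[R] S', q'.comap φ.toRingHom = q ∧ φ s = 0) := by
  have := (inferInstance : Hensel.IsHenselization (Localization.AtPrime p) Rh).henselian
  obtain ⟨e⟩ := PtPrime.exists_equiv_hull p Rh
  have : IsLocalRing (Hull R p.ResidueField) := isLocalRing_hull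
  have hmax : ∀ x, e x ∈ IsLocalRing.maximalIdeal Rh ↔ hullPt R p.ResidueField x = 0 := fun x => by
    rw [IsLocalRing.mem_maximalIdeal, mem_nonunits_iff, MulEquiv.isUnit_map, ← mem_nonunits_iff,
      ← IsLocalRing.mem_maximalIdeal, maximalIdeal_hull, RingHom.mem_ker]
  have hcom : ∀ (S : Type u) [CommRing S] [Algebra R S] (g : S →ₐ[R] Hull R p.ResidueField),
      (IsLocalRing.maximalIdeal Rh).comap (e.toAlgHom.comp g).toRingHom =
        RingHom.ker ((hullPt R p.ResidueField).comp g) := fun S _ _ g =>
    Ideal.ext fun s => hmax (g s)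
  have huniq : ∀ (S : Type u) [CommRing S] [Algebra R S] [Algebra.Etale R S] (q : Ideal S)
      [q.IsPrime] (hq : p = q.comap (algebraMap R S))
      (_ : Function.Bijective (Ideal.ResidueField.map p q (algebraMap R S) hq))
      (f f' : S →ₐ[R] Rh), (IsLocalRing.maximalIdeal Rh).comap f.toRingHom = q →
      (IsLocalRing.maximalIdeal Rh).comap f'.toRingHom = q → f = f' := by
    intro S _ _ _ q _ hq hb f f' hf hf'
    have hg : ∀ g : S →ₐ[R] Rh, e.toAlgHom.comp (e.symm.toAlgHom.comp g) = g := fun g =>
      AlgHom.ext fun x => e.apply_symm_apply (g x)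
    rw [← hg f, ← hg f'] at *
    rw [hcom] at hf hf'
    exact congrArg e.toAlgHom.comp (PtPrime.hom_ext_of_hullPt _ _
      (PtPrime.point_unique p q hq hb _ _ hf hf'))
  refine ⟨?_, ?_, ?_⟩
  · intro S _ _ _ q _ hq hb
    obtain ⟨σ, hσ⟩ := PtPrime.exists_point p q hq hb
    obtain ⟨g, hg⟩ := exists_map_of_etale σ
    have hgq : (IsLocalRing.maximalIdeal Rh).comap (e.toAlgHom.comp g).toRingHom = q := by
      rw [hcom, hg, hσ]
    exact ⟨e.toAlgHom.comp g, hgq, fun f hf => huniq S q hq hb f _ hf hgq⟩
  · intro x
    obtain ⟨P, y, hy⟩ := exists_rep (e.symm x)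
    have hP : (RingHom.ker P.pt).IsPrime := RingHom.ker_isPrime P.pt
    refine ⟨P.Ring, inferInstance, inferInstance, P.etale, RingHom.ker P.pt, hP,
      PtPrime.comap_ker_point p P.pt, PtPrime.bijective_map_of_point p _ _ P.pt rfl,
      e.toAlgHom.comp (ι P), y, ?_, ?_⟩
    · rw [hcom, hullPt_comp_ι]
    · show e (ι P y) = x
      rw [hy, e.apply_symm_apply]
  · intro S _ _ _ q _ hq hb f hf s hfs
    obtain ⟨σ, hσ⟩ := PtPrime.exists_point p q hq hb
    obtain ⟨P, eP, heP⟩ := Pt.exists_equiv S σ
    have hpt : P.pt.comp eP.symm.toAlgHom = σ := AlgHom.ext fun x => by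
      show P.pt (eP.symm x) = σ x
      rw [← heP, eP.apply_symm_apply]
    have hfe : e.toAlgHom.comp ((ι P).comp eP.symm.toAlgHom) = f := huniq S q hq hb _ _ (by
      rw [hcom, ← AlgHom.comp_assoc, hullPt_comp_ι, hpt, hσ]) hf
    have h0 : ι P (eP.symm s) = 0 := e.injective ((congr($hfe s)).trans (hfs.trans (map_zero e).symm))
    obtain ⟨Q, m, hm⟩ := (exists_eq_zero_iff _).mp h0
    have hQ : (RingHom.ker Q.pt).IsPrime := RingHom.ker_isPrime Q.pt
    refine ⟨Q.Ring, inferInstance, inferInstance, Q.etale, RingHom.ker Q.pt, hQ,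
      PtPrime.comap_ker_point p Q.pt, PtPrime.bijective_map_of_point p _ _ Q.pt rfl,
      m.map.comp eP.symm.toAlgHom, ?_, hm⟩
    rw [← hσ]
    refine Ideal.ext fun x => ?_
    show Q.pt (m.map (eP.symm x)) = 0 ↔ σ x = 0
    rw [Pt.pt_map m]
    exact Eq.congr_left congr($hpt x)

end Groth.Agent.S9470
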