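import Groth.Statements.S9474
import Groth.Agent.HenselLib.UnramModel
-- import your own Groth.Agent.* helpers here

set_option autoImplicit false
set_option linter.all false
universe u
open CAlg

namespace Groth.Agent.S9474

open TensorProduct in
/-- If R → S is unramified (of finite type with vanishing module of differentials), then there are a
finite type ℤ-algebra R₀, an unramified R₀-algebra S₀, a ring map R₀ → R, and a surjective R-algebra
map from R ⊗_{R₀} S₀ onto S. -/
theorem result (R : Type u) [CommRing R] (S : Type u)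
    [CommRing S] [Algebra R S] [Algebra.Unramified R S] :
    ∃ (R₀ : Type u) (_ : CommRing R₀) (_ : Algebra.FiniteType ℤ R₀) (S₀ : Type u) (_ : CommRing S₀)
      (_ : Algebra R₀ S₀) (_ : Algebra.Unramified R₀ S₀) (_ : Algebra R₀ R)
      (ψ : R ⊗[R₀] S₀ →ₐ[R] S), Function.Surjective ψ := by
  haveI := ‹Algebra.Unramified R S›.formallyUnramified
  haveI := ‹Algebra.Unramified R S›.finiteType
  obtain ⟨T, _, _, _, _, π, hπ⟩ := Groth.Agent.HenselLib.UnramModel.exists_fp_cover R S
  obtain ⟨R₀, _, h0, S₀, _, _, _, _, _, ⟨e⟩⟩ := Groth.Agent.HenselLib.UnramModel.exists_model R T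
  exact ⟨R₀, inferInstance, h0, S₀, inferInstance, inferInstance, ⟨inferInstance, inferInstance⟩, inferInstance,
    π.comp e.toAlgHom, hπ.comp e.surjective⟩

end Groth.Agent.S9474
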