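import Groth.Statements.S9483
import Groth.Agent.Lef23.NhdApply
import Groth.Agent.Lef23.NhdCouple

set_option autoImplicit false
set_option backward.isDefEq.respectTransparency false
universe u
open Pi1

namespace Groth.Agent.S9483

open AlgebraicGeometry CategoryTheory CategoryTheory.Limits in
/-- Let A be a Noetherian local ring with maximal ideal m, f ∈ m, U the punctured spectrum of A and U₀
that of A/fA (realised as U ×_{Spec A} Spec(A/fA)). Assume A is (f)-adically complete, f is a
nonzerodivisor and H^1_m(A/fA) is a finite A-module. Then restriction to U₀ from the system of open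
neighbourhoods of U₀ in U is fully faithful: for every open U' ⊆ U through which U₀ ⟶ Spec A factors
(as u') and finite etale covers V', W' of U': every morphism between the restrictions of V' and W'
along u' is, after shrinking U' to a smaller such open U'' (with U₀ ⟶ U'' ⟶ U' composing to u'), the
restriction of a morphism over U'' (compared through the canonical isomorphism between restricting
along u' and restricting in two steps), and two morphisms V' ⟶ W' with the same restriction along u'
agree over some such U''. -/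
theorem result (A : Type u) [CommRing A] [IsNoetherianRing A] [IsLocalRing A] (f : A) (hf : f ∈ IsLocalRing.maximalIdeal A)
    [IsAdicComplete (Ideal.span {f}) A] (hnz : f ∈ nonZeroDivisors A)
    (h1 : Module.Finite A (LocCoh.H (IsLocalRing.maximalIdeal A) 1 (A ⧸ Ideal.span {f}))) :
    ∀ (U' : (Spec (CommRingCat.of A)).Opens) (_ : U' ≤ (FEt.puncturedSpec A)) (u' : pullback (FEt.puncturedSpec A).ι (Spec.map (CommRingCat.ofHom (Ideal.Quotient.mk (Ideal.span {f})))) ⟶ (U' : Scheme.{u}))
      (_ : u' ≫ U'.ι = (pullback.fst (FEt.puncturedSpec A).ι (Spec.map (CommRingCat.ofHom (Ideal.Quotient.mk (Ideal.span {f})))) ≫ (FEt.puncturedSpec A).ι)) (V' W' : FEt.Cat (U' : Scheme.{u})),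
      (∀ φ₀ : (FEt.restrict u').obj V' ⟶ (FEt.restrict u').obj W',
        ∃ (U'' : (Spec (CommRingCat.of A)).Opens) (h : U'' ≤ U') (u'' : pullback (FEt.puncturedSpec A).ι (Spec.map (CommRingCat.ofHom (Ideal.Quotient.mk (Ideal.span {f})))) ⟶ (U'' : Scheme.{u}))
          (hu : u'' ≫ (Spec (CommRingCat.of A)).homOfLE h = u')
          (φ : (FEt.restrict ((Spec (CommRingCat.of A)).homOfLE h)).obj V' ⟶ (FEt.restrict ((Spec (CommRingCat.of A)).homOfLE h)).obj W'),
          (FEt.restrict u'').map φ =
            (MorphismProperty.Over.pullbackComp u'' ((Spec (CommRingCat.of A)).homOfLE h) u' hu.symm).inv.app V' ≫ φ₀ ≫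
              (MorphismProperty.Over.pullbackComp u'' ((Spec (CommRingCat.of A)).homOfLE h) u' hu.symm).hom.app W') ∧
      (∀ φ ψ : V' ⟶ W', (FEt.restrict u').map φ = (FEt.restrict u').map ψ →
        ∃ (U'' : (Spec (CommRingCat.of A)).Opens) (h : U'' ≤ U') (u'' : pullback (FEt.puncturedSpec A).ι (Spec.map (CommRingCat.ofHom (Ideal.Quotient.mk (Ideal.span {f})))) ⟶ (U'' : Scheme.{u})),
          u'' ≫ (Spec (CommRingCat.of A)).homOfLE h = u' ∧
          (FEt.restrict ((Spec (CommRingCat.of A)).homOfLE h)).map φ = (FEt.restrict ((Spec (CommRingCat.of A)).homOfLE h)).map ψ) := by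
  intro U' hU' u' hu' V' W'
  let i0 := pullback.fst (FEt.puncturedSpec A).ι (Spec.map (CommRingCat.ofHom (Ideal.Quotient.mk (Ideal.span {f}))))
  haveI : IsClosedImmersion (Spec.map (CommRingCat.ofHom (Ideal.Quotient.mk (Ideal.span ({f} : Set A))))) :=
    IsClosedImmersion.spec_of_surjective _ Ideal.Quotient.mk_surjective
  haveI : IsClosedImmersion i0 := MorphismProperty.pullback_fst _ _ inferInstance
  haveI : IsPreimmersion (u' ≫ U'.ι) := by rw [hu']; infer_instance
  haveI : IsPreimmersion u' := IsPreimmersion.of_comp u' U'.ι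
  have hrange : Set.range (u' ≫ U'.ι) = {z : Spec (CommRingCat.of A) | z ∈ FEt.puncturedSpec A ∧ f ∈ z.asIdeal} := by
    rw [hu', Scheme.Hom.comp_base, TopCat.coe_comp, Set.range_comp, Scheme.Pullback.range_fst]
    have hq : Set.range (Spec.map (CommRingCat.ofHom (Ideal.Quotient.mk (Ideal.span ({f} : Set A))))) =
        {z | f ∈ z.asIdeal} := by
      refine (range_comap_of_surjective _ _ Ideal.Quotient.mk_surjective).trans ?_
      rw [Ideal.mk_ker, PrimeSpectrum.zeroLocus_span]
      exact Set.ext fun p => Set.singleton_subset_iff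
    rw [hq, Set.image_preimage_eq_inter_range, Scheme.Opens.range_ι]
    exact Set.ext fun z => and_comm
  have hU1 : FEt.puncturedSpec A = LocCoh.puncturedOpen A (IsLocalRing.maximalIdeal A) := by
    refine TopologicalSpace.Opens.ext (Set.ext fun p => not_congr ⟨fun h => ?_, fun h => ?_⟩)
    · rw [Set.mem_singleton_iff.1 h]
      exact le_refl (IsLocalRing.maximalIdeal A)
    · exact PrimeSpectrum.ext (IsLocalRing.eq_maximalIdeal
        ((IsLocalRing.maximalIdeal.isMaximal A).eq_of_le p.2.ne_top h ▸ IsLocalRing.maximalIdeal.isMaximal A))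
  obtain ⟨𝔞, h𝔞⟩ := (⟨_, Agent.Lef23.NhdApply.eq_puncturedOpen (R := CommRingCat.of A) U'⟩ :
    ∃ 𝔞 : Ideal A, U' = LocCoh.puncturedOpen A 𝔞)
  subst h𝔞
  have hi : Set.range u' = {p | f ∈ (((LocCoh.puncturedOpen A 𝔞).ι) p).asIdeal} := Set.ext fun p => by
    constructor
    · rintro ⟨x, rfl⟩
      exact (hrange.subset ⟨x, Scheme.Hom.comp_apply _ _ x⟩).2
    · intro hp
      obtain ⟨x, hx⟩ := hrange.superset ⟨hU' p.2, hp⟩
      refine ⟨x, (LocCoh.puncturedOpen A 𝔞).ι.injective ?_⟩
      rw [← Scheme.Hom.comp_apply]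
      exact hx
  have hA := Agent.Lef23.NhdApply.finite_hypersurface (R := CommRingCat.of A) (IsLocalRing.maximalIdeal A) 𝔞 f
    (hU'.trans hU1.le) (fun p hp hfp => by
      obtain ⟨x, hx⟩ := hrange.superset (show p ∈ _ from ⟨hU1.ge hp, hfp⟩)
      rw [Scheme.Hom.comp_apply] at hx
      rw [← hx]
      exact (u' x).2) h1
  have hN := Agent.Lef23.NhdApply.clopen_nhd (R := CommRingCat.of A) 𝔞 f
    (fun x hx => hnz.1 x hx) hA u' hi
  have hlift : ∀ (U : (LocCoh.puncturedOpen A 𝔞 : Scheme.{u}).Opens), Set.range u' ⊆ U →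
      ∃ (U'' : (Spec (CommRingCat.of A)).Opens) (h : U'' ≤ LocCoh.puncturedOpen A 𝔞) (u'' : pullback (FEt.puncturedSpec A).ι (Spec.map (CommRingCat.ofHom (Ideal.Quotient.mk (Ideal.span {f})))) ⟶ (U'' : Scheme.{u})),
        u'' ≫ (Spec (CommRingCat.of A)).homOfLE h = u' ∧
        Set.range ((Spec (CommRingCat.of A)).homOfLE h) ⊆ U := by
    intro U hU
    let U'' : (Spec (CommRingCat.of A)).Opens := (LocCoh.puncturedOpen A 𝔞).ι ''ᵁ U
    have h : U'' ≤ LocCoh.puncturedOpen A 𝔞 := by
      rintro _ ⟨v, -, rfl⟩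
      exact v.2
    have hr : Set.range (u' ≫ (LocCoh.puncturedOpen A 𝔞).ι) ⊆ Set.range U''.ι := by
      rw [Scheme.Opens.range_ι]
      rintro _ ⟨x, rfl⟩
      exact ⟨u' x, hU ⟨x, rfl⟩, (Scheme.Hom.comp_apply _ _ x).symm⟩
    refine ⟨U'', h, IsOpenImmersion.lift U''.ι _ hr, ?_, ?_⟩
    · rw [← cancel_mono (LocCoh.puncturedOpen A 𝔞).ι, Category.assoc, Scheme.homOfLE_ι, IsOpenImmersion.lift_fac]
    · rintro _ ⟨v, rfl⟩
      obtain ⟨w, hw, hwv⟩ := v.2
      have : (Spec (CommRingCat.of A)).homOfLE h v = w := (LocCoh.puncturedOpen A 𝔞).ι.injective (by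
        rw [← Scheme.Hom.comp_apply, Scheme.homOfLE_ι]
        exact hwv.symm)
      rw [this]
      exact hw
  refine ⟨fun φ₀ => ?_, fun φ ψ hφψ => ?_⟩
  · obtain ⟨U, hU, hψ⟩ := Agent.Lef23.NhdCouple.full_nhd u' hN φ₀
    obtain ⟨U'', h, u'', hu, hj⟩ := hlift U hU
    obtain ⟨ψ, hψ'⟩ := hψ ((Spec (CommRingCat.of A)).homOfLE h) hj
    refine ⟨U'', h, u'', hu, ψ, ?_⟩
    have key := hψ' u'' hu
    apply MorphismProperty.Over.Hom.ext
    apply pullback.hom_ext
    swap
    · exact (MorphismProperty.Over.w ((FEt.restrict u'').map ψ)).trans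
        (MorphismProperty.Over.w ((MorphismProperty.Over.pullbackComp u'' ((Spec (CommRingCat.of A)).homOfLE h) u' hu.symm).inv.app V' ≫ φ₀ ≫
          (MorphismProperty.Over.pullbackComp u'' ((Spec (CommRingCat.of A)).homOfLE h) u' hu.symm).hom.app W')).symm
    let j := (Spec (CommRingCat.of A)).homOfLE h
    let e := MorphismProperty.Over.pullbackComp (P := @IsFinite ⊓ @Etale) (Q := ⊤) u'' j u' hu.symm
    let M := e.inv.app V' ≫ φ₀ ≫ e.hom.app W'
    have hM : M.left ≫ pullback.snd (pullback.snd W'.hom j) u'' = pullback.snd (pullback.snd V'.hom j) u'' :=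
      MorphismProperty.Over.w M
    rw [Agent.Lef23.CoupleEt.restrict_map_fst₀]
    show pullback.fst (pullback.snd V'.hom j) u'' ≫ ψ.left = M.left ≫ pullback.fst (pullback.snd W'.hom j) u''
    have hψw : ψ.left ≫ pullback.snd W'.hom j = pullback.snd V'.hom j := MorphismProperty.Over.w ψ
    apply pullback.hom_ext
    swap
    · rw [Category.assoc, Category.assoc, hψw, pullback.condition, pullback.condition (f := pullback.snd W'.hom j),
        ← Category.assoc M.left, hM]
    rw [Category.assoc, Category.assoc]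
    have h1' : (e.hom.app W').left ≫ pullback.fst (pullback.snd W'.hom j) u'' ≫ pullback.fst W'.hom j =
        pullback.fst W'.hom u' := by
      simp [e, MorphismProperty.Over.pullbackComp]
    have h2' : (e.inv.app V').left ≫ pullback.fst V'.hom u' =
        pullback.fst (pullback.snd V'.hom j) u'' ≫ pullback.fst V'.hom j := by
      simp [e, MorphismProperty.Over.pullbackComp]
    have h3' : (e.inv.app V').left ≫ pullback.snd V'.hom u' = pullback.snd (pullback.snd V'.hom j) u'' :=
      MorphismProperty.Over.w (e.inv.app V')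
    have hMl : M.left = (e.inv.app V').left ≫ φ₀.left ≫ (e.hom.app W').left := rfl
    have key' : φ₀.left ≫ pullback.fst W'.hom u' = pullback.lift (pullback.fst V'.hom u') (pullback.snd V'.hom u' ≫ u'')
          (by rw [Category.assoc, hu]; exact pullback.condition) ≫ ψ.left ≫ pullback.fst W'.hom j := key.symm
    rw [hMl, Category.assoc, Category.assoc, h1', key', ← Category.assoc (e.inv.app V').left]
    congr 1
    refine pullback.hom_ext ?_ ?_
    · rw [Category.assoc, pullback.lift_fst, h2']
    · rw [Category.assoc, pullback.lift_snd, ← Category.assoc, h3', pullback.condition]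
  · obtain ⟨U, hU, hab⟩ := Agent.Lef23.NhdCouple.faithful_nhd u' φ ψ hφψ
    obtain ⟨U'', h, u'', hu, hj⟩ := hlift U hU
    exact ⟨U'', h, u'', hu, hab ((Spec (CommRingCat.of A)).homOfLE h) hj⟩

end Groth.Agent.S9483
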