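import Groth.Statements.S9484
import Groth.Agent.Lef23.NhdDualizing
import Groth.Agent.Lef23.NhdConclude

set_option autoImplicit false
set_option backward.isDefEq.respectTransparency false
universe u
attribute [local instance] HasDerivedCategory.standard
open Pi1

namespace Groth.Agent.S9484

open AlgebraicGeometry CategoryTheory CategoryTheory.Limits in
/-- Let A be a Noetherian local ring with maximal ideal m and a dualizing complex, f ∈ m with A complete
for the (f)-adic topology, U the punctured spectrum of A and U₀ that of A/fA (realised as U ×_{Spec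
A} Spec(A/fA)). Assume dim(A/p) ≥ 3 for every minimal prime p of A with f ∉ p. Then restriction to
U₀ from the system of open neighbourhoods of U₀ in U is fully faithful: for every open U' ⊆ U
through which U₀ ⟶ Spec A factors (as u') and finite etale covers V', W' of U': every morphism
between the restrictions of V' and W' along u' is, after shrinking U' to a smaller such open U''
(with U₀ ⟶ U'' ⟶ U' composing to u'), the restriction of a morphism over U'' (compared through the
canonical isomorphism between restricting along u' and restricting in two steps), and two morphisms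
V' ⟶ W' with the same restriction along u' agree over some such U''. -/
theorem result (A : Type u) [CommRing A] [IsNoetherianRing A] [IsLocalRing A] (f : A) (hf : f ∈ IsLocalRing.maximalIdeal A)
    (hd : ∃ ω : Dual.D A, Dual.IsDualizing A ω) [IsAdicComplete (Ideal.span {f}) A]
    (hc : ∀ p : Ideal A, p ∈ minimalPrimes A → f ∉ p → (3 : WithBot ℕ∞) ≤ ringKrullDim (A ⧸ p)) :
    ∀ (U' : (Spec (CommRingCat.of A)).Opens) (_ : U' ≤ (FEt.puncturedSpec A)) (u' : pullback (FEt.puncturedSpec A).ι (Spec.map (CommRingCat.ofHom (Ideal.Quotient.mk (Ideal.span {f})))) ⟶ (U' : Scheme.{u}))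
      (_ : u' ≫ U'.ι = (pullback.fst (FEt.puncturedSpec A).ι (Spec.map (CommRingCat.ofHom (Ideal.Quotient.mk (Ideal.span {f})))) ≫ (FEt.puncturedSpec A).ι)) (V' W' : FEt.Cat (U' : Scheme.{u})),
      (∀ φ₀ : (FEt.restrict u').obj V' ⟶ (FEt.restrict u').obj W',
        ∃ (U'' : (Spec (CommRingCat.of A)).Opens) (h : U'' ≤ U') (u'' : pullback (FEt.puncturedSpec A).ι (Spec.map (CommRingCat.ofHom (Ideal.Quotient.mk (Ideal.span {f})))) ⟶ (U'' : Scheme.{u}))
          (hu : u'' ≫ (Spec (CommRingCat.of A)).homOfLE h = u')
          (φ : (FEt.restrict ((Spec (CommRingCat.of A)).homOfLE h)).obj V' ⟶ (FEt.restrict ((Spec (CommRingCat.of A)).homOfLE h)).obj W'),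
          (FEt.restrict u'').map φ =
            (MorphismProperty.Over.pullbackComp u'' ((Spec (CommRingCat.of A)).homOfLE h) u' hu.symm).inv.app V' ≫ φ₀ ≫
              (MorphismProperty.Over.pullbackComp u'' ((Spec (CommRingCat.of A)).homOfLE h) u' hu.symm).hom.app W') ∧
      (∀ φ ψ : V' ⟶ W', (FEt.restrict u').map φ = (FEt.restrict u').map ψ →
        ∃ (U'' : (Spec (CommRingCat.of A)).Opens) (h : U'' ≤ U') (u'' : pullback (FEt.puncturedSpec A).ι (Spec.map (CommRingCat.ofHom (Ideal.Quotient.mk (Ideal.span {f})))) ⟶ (U'' : Scheme.{u})),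
          u'' ≫ (Spec (CommRingCat.of A)).homOfLE h = u' ∧
          (FEt.restrict ((Spec (CommRingCat.of A)).homOfLE h)).map φ = (FEt.restrict ((Spec (CommRingCat.of A)).homOfLE h)).map ψ) := by
  intro U' hU' u' hu' V' W'
  let i0 := pullback.fst (FEt.puncturedSpec A).ι (Spec.map (CommRingCat.ofHom (Ideal.Quotient.mk (Ideal.span {f}))))
  haveI : IsClosedImmersion (Spec.map (CommRingCat.ofHom (Ideal.Quotient.mk (Ideal.span ({f} : Set A))))) :=
    IsClosedImmersion.spec_of_surjective _ Ideal.Quotient.mk_surjective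
  haveI : IsClosedImmersion i0 := MorphismProperty.pullback_fst _ _ inferInstance
  haveI : IsPreimmersion (u' ≫ U'.ι) := by rw [hu']; infer_instance
  haveI : IsPreimmersion u' := IsPreimmersion.of_comp u' U'.ι
  have hrange : Set.range (u' ≫ U'.ι) = {z : Spec (CommRingCat.of A) | z ∈ FEt.puncturedSpec A ∧ f ∈ z.asIdeal} := by
    rw [hu', Scheme.Hom.comp_base, TopCat.coe_comp, Set.range_comp, Scheme.Pullback.range_fst]
    have hq : Set.range (Spec.map (CommRingCat.ofHom (Ideal.Quotient.mk (Ideal.span ({f} : Set A))))) =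
        {z | f ∈ z.asIdeal} := by
      refine (range_comap_of_surjective _ _ Ideal.Quotient.mk_surjective).trans ?_
      rw [Ideal.mk_ker, PrimeSpectrum.zeroLocus_span]
      exact Set.ext fun p => Set.singleton_subset_iff
    rw [hq, Set.image_preimage_eq_inter_range, Scheme.Opens.range_ι]
    exact Set.ext fun z => and_comm
  have hU1 : FEt.puncturedSpec A = LocCoh.puncturedOpen A (IsLocalRing.maximalIdeal A) := by
    refine TopologicalSpace.Opens.ext (Set.ext fun p => not_congr ⟨fun h => ?_, fun h => ?_⟩)
    · rw [Set.mem_singleton_iff.1 h]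
      exact le_refl (IsLocalRing.maximalIdeal A)
    · exact PrimeSpectrum.ext (IsLocalRing.eq_maximalIdeal
        ((IsLocalRing.maximalIdeal.isMaximal A).eq_of_le p.2.ne_top h ▸ IsLocalRing.maximalIdeal.isMaximal A))
  obtain ⟨ω, hω⟩ := hd
  have hi : Set.range u' = {p | f ∈ ((U'.ι) p).asIdeal} := Set.ext fun p => by
    constructor
    · rintro ⟨x, rfl⟩
      exact (hrange.subset ⟨x, Scheme.Hom.comp_apply _ _ x⟩).2
    · intro hp
      obtain ⟨x, hx⟩ := hrange.superset ⟨hU' p.2, hp⟩
      refine ⟨x, U'.ι.injective ?_⟩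
      rw [← Scheme.Hom.comp_apply]
      exact hx
  haveI : IsClosedImmersion u' := IsClosedImmersion.of_isPreimmersion u' (by
    rw [hi]
    have h := (PrimeSpectrum.isClosed_zeroLocus (R := A) {f}).preimage U'.ι.continuous
    refine Eq.mpr (congrArg IsClosed (Set.ext fun p => ?_)) h
    exact (Set.singleton_subset_iff (s := ((U'.ι p).asIdeal : Set A))).symm)
  exact Agent.Lef23.NhdConclude.conclude U' u' (Agent.Lef23.NhdDualizing.lifts hω f hc U'
    (fun p hp => hU1.le (hU' hp))
    (fun p hp hfp => by
      obtain ⟨x, hx⟩ := hrange.superset (show p ∈ _ from ⟨hU1.ge hp, hfp⟩)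
      rw [Scheme.Hom.comp_apply] at hx
      rw [← hx]
      exact (u' x).2) u' hi) V' W'

end Groth.Agent.S9484
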