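import Groth.Statements.S9485
import Groth.Agent.FEtFF.EqLocus
import Mathlib.AlgebraicGeometry.Morphisms.UniversallyOpen
-- import your own Groth.Agent.* helpers here

set_option autoImplicit false
set_option linter.style.haveILetI false
set_option backward.isDefEq.respectTransparency.types false
set_option backward.isDefEq.respectTransparency false
universe u
open Pi1

namespace Groth.Agent.S9485

open AlgebraicGeometry CategoryTheory CategoryTheory.Limits in
/-- Let A be a Noetherian local ring with maximal ideal m and f ∈ m, U the punctured spectrum of A and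
U₀ that of A/fA (realised as U ×_{Spec A} Spec(A/fA)). Let U' ⊆ U be an open through which U₀ ⟶ Spec
A factors (as u'). If dim(A/p) ≥ 2 for every minimal prime p of A which lies in U' and does not
contain f, then restriction of finite etale covers along u' is faithful. (Such U' exist, e.g. the
complement in U of the one-dimensional irreducible components not meeting U₀, and the condition
passes to smaller such opens, so restriction from the system of these opens is faithful.) -/
theorem result (A : Type u) [CommRing A] [IsNoetherianRing A] [IsLocalRing A] (f : A) (hf : f ∈ IsLocalRing.maximalIdeal A)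
    (U' : (Spec (CommRingCat.of A)).Opens) (hU' : U' ≤ FEt.puncturedSpec A)
    (u' : pullback (FEt.puncturedSpec A).ι (Spec.map (CommRingCat.ofHom (Ideal.Quotient.mk (Ideal.span {f})))) ⟶ (U' : Scheme.{u})) (hu' : u' ≫ U'.ι = (pullback.fst (FEt.puncturedSpec A).ι (Spec.map (CommRingCat.ofHom (Ideal.Quotient.mk (Ideal.span {f})))) ≫ (FEt.puncturedSpec A).ι))
    (hdim : ∀ p : PrimeSpectrum A, p.asIdeal ∈ minimalPrimes A → p ∈ U' → f ∉ p.asIdeal →
      (2 : WithBot ℕ∞) ≤ ringKrullDim (A ⧸ p.asIdeal)) :
    (FEt.restrict u').Faithful := by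
  let U := FEt.puncturedSpec A
  let q := Spec.map (CommRingCat.ofHom (Ideal.Quotient.mk (Ideal.span {f})))
  -- the points of `U'` on the hypersurface
  have hT : ∀ r : PrimeSpectrum A, r ≠ IsLocalRing.closedPoint A → f ∈ r.asIdeal →
      ∃ t, U'.ι (u' t) = r := fun r hr hfr => by
    have hr' : r ∈ Set.range (PrimeSpectrum.comap (Ideal.Quotient.mk (Ideal.span {f}))) := by
      rw [range_comap_of_surjective _ _ Ideal.Quotient.mk_surjective, Ideal.mk_ker, PrimeSpectrum.mem_zeroLocus,
        SetLike.coe_subset_coe, Ideal.span_singleton_le_iff_mem]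
      exact hfr
    obtain ⟨s, hs⟩ := hr'
    let x : (U : Scheme.{u}) := ⟨r, hr⟩
    obtain ⟨t, ht, -⟩ := Scheme.Pullback.exists_preimage_pullback (f := U.ι) (g := q) x s hs.symm
    refine ⟨t, ?_⟩
    rw [← Scheme.Hom.comp_apply, hu', Scheme.Hom.comp_apply, ht]
    rfl
  refine ⟨fun {Y Y'} {φ ψ} hφψ => ?_⟩
  haveI : IsFinite Y.hom := Y.prop.1
  haveI : Etale Y.hom := Y.prop.2
  haveI : IsFinite Y'.hom := Y'.prop.1
  haveI : Etale Y'.hom := Y'.prop.2
  let k : pullback Y.hom u' ⟶ Y.left := pullback.fst Y.hom u'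
  have hk : k ≫ φ.left = k ≫ ψ.left := by
    have h := congrArg (fun g => g.left ≫ pullback.fst Y'.hom u') hφψ
    simpa [FEt.restrict, k] using h
  refine MorphismProperty.Over.Hom.ext (FEtFF.EqLocus.eq_of_agree Y'.hom φ.left ψ.left
    ((Over.w φ.hom).trans (Over.w ψ.hom).symm) k hk fun v => ?_)
  obtain ⟨Z, hZ, hvZ⟩ : ∃ Z ∈ irreducibleComponents Y.left, v ∈ Z :=
    ⟨_, irreducibleComponent_mem_irreducibleComponents v, mem_irreducibleComponent⟩
  have hZc : IsClosed Z := isClosed_of_mem_irreducibleComponents Z hZ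
  obtain ⟨η, hη⟩ := QuasiSober.sober hZ.1 hZc
  have hηmin : ∀ η' : Y.left, η' ⤳ η → η ⤳ η' := by
    intro η' h'
    have hsub : Z ⊆ closure {η'} := by
      rw [← hη.def]
      exact closure_minimal (Set.singleton_subset_iff.2 (specializes_iff_mem_closure.1 h')) isClosed_closure
    have : closure {η'} ⊆ Z := hZ.2 isIrreducible_singleton.closure hsub
    exact specializes_iff_mem_closure.2 (hη.def.symm ▸ this (subset_closure rfl))
  refine ⟨η, ?_⟩
  have hηv : η ⤳ v := hη.specializes hvZ
  let p : PrimeSpectrum A := U'.ι (Y.hom η)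
  have hpU : p ∈ U' := (Y.hom η).2
  have hpm : p ≠ IsLocalRing.closedPoint A := hU' hpU
  have hmin : p.asIdeal ∈ minimalPrimes A := by
    refine ⟨⟨p.2, bot_le⟩, fun r hr hrp => ?_⟩
    have hsp : (⟨r, hr.1⟩ : PrimeSpectrum A) ⤳ p := (PrimeSpectrum.le_iff_specializes _ _).1 hrp
    let r' : (U' : Scheme.{u}) := ⟨⟨r, hr.1⟩, hsp.mem_open U'.2 hpU⟩
    have h1 : r' ⤳ Y.hom η := U'.ι.isOpenEmbedding.isInducing.specializes_iff.1 hsp
    obtain ⟨η', hη', he⟩ := Flat.generalizingMap Y.hom h1
    have h2 : p ⤳ (⟨r, hr.1⟩ : PrimeSpectrum A) := by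
      have := ((hηmin η' hη').map Y.hom.continuous).map U'.ι.continuous
      rw [he] at this
      exact this
    exact (PrimeSpectrum.le_iff_specializes _ _).2 h2
  by_cases hfp : f ∈ p.asIdeal
  · obtain ⟨t, ht⟩ := hT p hpm hfp
    obtain ⟨x, hx, -⟩ := Scheme.Pullback.exists_preimage_pullback (f := Y.hom) (g := u') η t
      (U'.ι.isOpenEmbedding.injective ht.symm)
    exact ⟨x, hηv, by rw [show k x = η from hx]⟩
  · obtain ⟨r, hpr, hfr, hrm⟩ : ∃ r : PrimeSpectrum A, p.asIdeal ≤ r.asIdeal ∧ f ∈ r.asIdeal ∧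
        r ≠ IsLocalRing.closedPoint A := by
      by_contra hcon
      push Not at hcon
      have h2 := hdim p hmin hpU hfp
      let R := A ⧸ p.asIdeal
      haveI : IsLocalRing R := .of_surjective' _ Ideal.Quotient.mk_surjective
      have h3 : (IsLocalRing.maximalIdeal R).height ≤ 1 := by
        refine Ideal.height_le_one_of_isPrincipal_of_mem_minimalPrimes (Ideal.span {Ideal.Quotient.mk p.asIdeal f}) _
          ⟨⟨inferInstance, ?_⟩, fun r hr _ => ?_⟩
        · rw [Ideal.span_singleton_le_iff_mem,
            ← IsLocalRing.map_maximalIdeal_of_surjective (Ideal.Quotient.mk p.asIdeal) Ideal.Quotient.mk_surjective]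
          exact Ideal.mem_map_of_mem _ hf
        · haveI := hr.1
          have hr' := congrArg PrimeSpectrum.asIdeal (hcon ⟨r.comap (Ideal.Quotient.mk p.asIdeal), hr.1.comap _⟩
            (fun x hx => by rw [Ideal.mem_comap, Ideal.Quotient.eq_zero_iff_mem.2 hx]; exact r.zero_mem)
            (hr.2 (Ideal.mem_span_singleton_self _)))
          rw [← IsLocalRing.map_maximalIdeal_of_surjective (Ideal.Quotient.mk p.asIdeal) Ideal.Quotient.mk_surjective]
          refine le_of_eq ?_
          show (IsLocalRing.closedPoint A).asIdeal.map _ = r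
          rw [← hr', Ideal.map_comap_of_surjective _ Ideal.Quotient.mk_surjective]
      rw [← IsLocalRing.maximalIdeal_height_eq_ringKrullDim] at h2
      have h4 : (2 : ℕ∞) ≤ 1 := le_trans (WithBot.coe_le_coe.1 h2) h3
      exact absurd h4 (by norm_num)
    obtain ⟨t, ht⟩ := hT r hrm hfr
    have hs : Y.hom η ⤳ u' t := U'.ι.isOpenEmbedding.isInducing.specializes_iff.1
      (by rw [ht]; exact (PrimeSpectrum.le_iff_specializes p r).1 hpr)
    have hmem : u' t ∈ Y.hom '' closure {η} := by
      have hc : IsClosed (Y.hom '' closure {η}) := Y.hom.isClosedMap _ isClosed_closure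
      exact hs.mem_closed hc ⟨η, subset_closure rfl, rfl⟩
    obtain ⟨z, hz, hzt⟩ := hmem
    obtain ⟨x, hx, -⟩ := Scheme.Pullback.exists_preimage_pullback (f := Y.hom) (g := u') z t hzt
    exact ⟨x, hηv, by rw [show k x = z from hx]; exact specializes_iff_mem_closure.2 hz⟩

end Groth.Agent.S9485
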