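import Groth.Statements.S9490
import Groth.Agent.Purity10.AdicSmoothAny
import Groth.Agent.FEtFF.PurityExtend

set_option linter.style.haveILetI false
-- import your own Groth.Agent.* helpers here

set_option autoImplicit false
universe u
open Pi1

namespace Groth.Agent.S9490

open AlgebraicGeometry CategoryTheory CategoryTheory.Limits in
/-- Let A → B be a local homomorphism of Noetherian local rings. Assume depth A ≥ 2, that the map is
formally smooth when B carries its m_B-adic topology, and that the Krull dimension of A is strictly
below that of B. Let V ⊆ Spec B be an open subset containing every prime q of B whose contraction to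
A is not the maximal ideal m_A, and containing the prime m_A B. Then restriction of finite etale
covers from Spec B to V is an equivalence of categories. (Taking V to be the punctured spectrum
shows that purity holds for B.) -/
theorem result (A B : Type u) [CommRing A] [IsNoetherianRing A] [IsLocalRing A]
    [CommRing B] [IsNoetherianRing B] [IsLocalRing B] [Algebra A B] [IsLocalHom (algebraMap A B)]
    (hdepth : (2 : ℕ∞) ≤ LocCoh.depth A A)
    (hfs : CAlgX.IsAdicFormallySmooth A B (IsLocalRing.maximalIdeal B))
    (hdim : ringKrullDim A < ringKrullDim B)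
    (V : (Spec (CommRingCat.of B)).Opens)
    (hV1 : ∀ q : PrimeSpectrum B, q.asIdeal.comap (algebraMap A B) ≠ IsLocalRing.maximalIdeal A → q ∈ V)
    (hV2 : ∀ q : PrimeSpectrum B, q.asIdeal = (IsLocalRing.maximalIdeal A).map (algebraMap A B) → q ∈ V) :
    (FEt.restrict V.ι).IsEquivalence := by
  have hB := hfs
  haveI : Module.Flat A B := Groth.Agent.CAlgH.AdicSmooth.flat hfs
  have hprime := Groth.Agent.Purity10.isPrime_map_maximalIdeal hfs
  have hq : ∀ q : PrimeSpectrum B, q ∉ V →
      q.asIdeal.comap (algebraMap A B) = IsLocalRing.maximalIdeal A ∧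
        q.asIdeal ≠ (IsLocalRing.maximalIdeal A).map (algebraMap A B) := fun q h =>
    ⟨by_contra fun e => h (hV1 q e), fun e => h (hV2 q e)⟩
  have key : ∀ q : Spec (CommRingCat.of B), q ∉ V →
      (2 : ℕ∞) ≤ LocCoh.depth ((Spec (CommRingCat.of B)).presheaf.stalk q) ((Spec (CommRingCat.of B)).presheaf.stalk q) ∧
        FEt.PurityHolds ((Spec (CommRingCat.of B)).presheaf.stalk q) := by
    intro q hqV
    obtain ⟨h1, h2⟩ := hq q hqV
    obtain ⟨hd, hp⟩ := Groth.Agent.Purity10.purityHolds_atPrime hdepth hfs q.asIdeal h1 h2 hprime
    let e : Localization.AtPrime q.asIdeal ≃+* (Spec (CommRingCat.of B)).presheaf.stalk q :=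
      (StructureSheaf.stalkIso B q).toRingEquiv
    exact ⟨hd.trans_eq (Groth.Agent.CAlgH3.depth_ringEquiv e), Groth.Agent.FEtFF.PurityTransfer.purityHolds_of_ringEquiv e hp⟩
  obtain ⟨hfull, hfaith⟩ := Groth.Agent.FEtFF.Hartogs.restrict_full_faithful_of_depth V fun q h => (key q h).1
  exact { faithful := hfaith
          full := hfull
          essSurj := Groth.Agent.FEtFF.PurityExtend.essSurj_of_purity_noetherian V fun q h => (key q h).2 }

end Groth.Agent.S9490
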