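import Groth.Statements.S9491
import Groth.Agent.FEtFF.GenericFibre

set_option autoImplicit false
set_option backward.isDefEq.respectTransparency.types false
universe u
open Pi1

namespace Groth.Agent.S9491

open AlgebraicGeometry CategoryTheory CategoryTheory.Limits in
/-- The essential image of restriction of finite etale covers from a normal integral scheme X to its
generic point Spec K consists of the finite etale K-schemes whose points are spectra of finite
extensions L of K in which X is unramified. Precisely: let L be a finite field extension of K and Y₀
the object Spec L → Spec K of the category of finite etale covers of Spec K; then Y₀ is isomorphic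
to the restriction of a finite etale cover of X if and only if the normalization of X in Spec L is
finite etale over X. (With full faithfulness of this restriction functor for normal X, this says
that the fundamental group of X is the Galois group of the union M of all finite subextensions of a
separable closure in which X is unramified.) -/
theorem result {X : Scheme.{u}} [IsIntegral X] (hX : Pi1.IsNormalScheme X)
    (L : Type u) [Field L] [Algebra X.functionField L] [FiniteDimensional X.functionField L]
    [QuasiCompact (Spec.map (CommRingCat.ofHom (algebraMap X.functionField L)) ≫ X.fromSpecStalk (genericPoint X))] [QuasiSeparated (Spec.map (CommRingCat.ofHom (algebraMap X.functionField L)) ≫ X.fromSpecStalk (genericPoint X))]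
    (Y₀ : FEt.Cat (Spec X.functionField)) (e : Y₀.left ≅ Spec (CommRingCat.of L))
    (he : e.hom ≫ Spec.map (CommRingCat.ofHom (algebraMap X.functionField L)) = Y₀.hom) :
    (FEt.restrict (X.fromSpecStalk (genericPoint X))).essImage Y₀ ↔
      (Etale (Spec.map (CommRingCat.ofHom (algebraMap X.functionField L)) ≫ X.fromSpecStalk (genericPoint X)).fromNormalization ∧ IsFinite (Spec.map (CommRingCat.ofHom (algebraMap X.functionField L)) ≫ X.fromSpecStalk (genericPoint X)).fromNormalization) := by
  set φ := Spec.map (CommRingCat.ofHom (algebraMap X.functionField L)) with hφ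
  set η := X.fromSpecStalk (genericPoint X) with hη
  haveI : IsFinite φ := by
    rw [hφ, IsFinite.SpecMap_iff]
    exact RingHom.finite_algebraMap.mpr inferInstance
  constructor
  · rintro ⟨Z, ⟨i⟩⟩
    haveI : IsFinite Z.hom := Z.prop.1
    haveI : Etale Z.hom := Z.prop.2
    let il : Y₀.left ≅ pullback Z.hom η := ((MorphismProperty.Over.forget _ _ _).mapIso i.symm ≪≫ Iso.refl _ |> (Over.forget _).mapIso)
    let c : Spec (CommRingCat.of L) ≅ pullback Z.hom η := e.symm ≪≫ il
    have hc : c.hom ≫ pullback.snd Z.hom η = φ := by
      have h1 : il.hom ≫ pullback.snd Z.hom η = Y₀.hom := by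
        have := Groth.Agent.FEtQuot.hom_w i.inv
        exact this
      simp only [c, Iso.trans_hom, Iso.symm_hom, Category.assoc, h1, ← he, Iso.inv_hom_id_assoc]
    have H : IsPullback (c.hom ≫ pullback.fst Z.hom η) φ Z.hom η :=
      IsPullback.of_iso_pullback ⟨by rw [Category.assoc, pullback.condition, reassoc_of% hc]⟩ c rfl hc
    haveI := Groth.Agent.FEtFF.isIso_normalizationDesc hX φ Z.hom _ H
    rw [← (φ ≫ η).normalizationDesc_comp _ Z.hom H.w.symm]
    exact ⟨inferInstance, inferInstance⟩
  · rintro ⟨h1, h2⟩
    have H := Groth.Agent.FEtFF.isPullback_normalization φ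
    refine ⟨MorphismProperty.Over.mk ⊤ (φ ≫ η).fromNormalization ⟨h2, h1⟩,
      ⟨MorphismProperty.Over.isoMk (H.isoPullback.symm ≪≫ e.symm) ?_⟩⟩
    show (H.isoPullback.inv ≫ e.inv) ≫ Y₀.hom = pullback.snd (φ ≫ η).fromNormalization η
    rw [Category.assoc, ← he, Iso.inv_hom_id_assoc]
    exact H.isoPullback_inv_snd

end Groth.Agent.S9491
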