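import Groth.Agent.HenselLib.IndEtale
import Groth.Agent.HenselLib.FPColim
import Groth.Agent.S0271
import Groth.Prelude.Def_Pi1
import Groth.Prelude.Def_PBC
import Mathlib

set_option autoImplicit false
set_option backward.isDefEq.respectTransparency false
set_option linter.all false
set_option maxHeartbeats 1600000
set_option synthInstance.maxHeartbeats 200000
universe u
open Pi1 CategoryTheory
open scoped IntermediateField

namespace Groth.Agent.S9494

/-- An algebra in which every finitely generated piece lies in the image of an etale algebra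
mapping injectively is ind-etale. -/
theorem isIndEtale_of_cover (A B : Type u) [CommRing A] [CommRing B] [Algebra A B]
    (h : ∀ (n : ℕ) (b : Fin n → B), ∃ (C : Type u) (_ : CommRing C) (_ : Algebra A C)
      (_ : Algebra.Etale A C) (v : C →ₐ[A] B), Function.Injective v ∧ ∀ i, b i ∈ v.range) :
    EtPBC.IsIndEtale A B := by
  have key : ∀ j : HenselLib.FPColim.Obj A B, ∃ (C : Type u) (_ : CommRing C) (_ : Algebra A C)
      (_ : Algebra.Etale A C) (u : j.R →ₐ[A] C) (v : C →ₐ[A] B), v.comp u = j.ev := by
    intro j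
    obtain ⟨C, _, _, _, v, hv, hb⟩ := h j.n j.b
    have hmem : ∀ x, j.ev x ∈ v.range := fun x => by
      obtain ⟨x, rfl⟩ := Ideal.Quotient.mk_surjective x
      show MvPolynomial.aeval j.b x ∈ v.range
      induction x using MvPolynomial.induction_on with
      | C a => rw [MvPolynomial.aeval_C]; exact v.range.algebraMap_mem a
      | add p q hp hq => rw [map_add]; exact add_mem hp hq
      | mul_X p i hp => rw [map_mul, MvPolynomial.aeval_X]; exact mul_mem hp (hb i)
    let e := AlgEquiv.ofInjective v hv
    refine ⟨C, inferInstance, inferInstance, inferInstance,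
      e.symm.toAlgHom.comp (j.ev.codRestrict v.range hmem), v, AlgHom.ext fun x => ?_⟩
    exact congrArg Subtype.val (e.apply_symm_apply (j.ev.codRestrict v.range hmem x))
  rw [HenselLib.IndEt.isIndEtale_iff, ObjectProperty.ind_iff_exists]
  · intro Z g hZ
    haveI := HenselLib.FPColim.isFiltered (A := A) (B := B)
    obtain ⟨hc⟩ := HenselLib.FPColim.exists_isColimit (A := A) (B := B)
    haveI : IsFinitelyPresentable.{u} Z := hZ
    obtain ⟨j, u₀, hu₀⟩ := IsFinitelyPresentable.exists_hom_of_isColimit hc g
    obtain ⟨C, _, _, hC, u, v, huv⟩ := key j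
    refine ⟨Under.mk (CommRingCat.ofHom (algebraMap A C)),
      u₀ ≫ Under.homMk (CommRingCat.ofHom u.toRingHom) (CommRingCat.hom_ext u.comp_algebraMap),
      Under.homMk (CommRingCat.ofHom v.toRingHom) (CommRingCat.hom_ext v.comp_algebraMap),
      ?_, (RingHom.etale_algebraMap (R := A) (S := C)).2 hC⟩
    rw [← hu₀, Category.assoc]
    congr 1
    apply Under.UnderMorphism.ext
    exact CommRingCat.hom_ext (congrArg AlgHom.toRingHom huv)
  · intro Z hZ
    exact HenselLib.IndEt.etaleMP_le_fp _ hZ

section finite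

variable (A K M : Type u) [CommRing A] [IsDomain A] [IsIntegrallyClosed A]
    [Field K] [Field M] [Algebra A K] [IsFractionRing A K] [Algebra K M] [Algebra A M] [IsScalarTower A K M]

noncomputable instance galAction : MulSemiringAction (M ≃ₐ[K] M) (integralClosure A M) where
  smul σ r := ⟨σ r.1, r.2.map (σ.toAlgHom.restrictScalars A)⟩
  one_smul r := rfl
  mul_smul σ τ r := rfl
  smul_zero σ := Subtype.ext (map_zero σ)
  smul_add σ a b := Subtype.ext (map_add σ a.1 b.1)
  smul_one σ := Subtype.ext (map_one σ)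
  smul_mul σ a b := Subtype.ext (map_mul σ a.1 b.1)

theorem smul_coe (σ : M ≃ₐ[K] M) (r : integralClosure A M) : ((σ • r : integralClosure A M) : M) = σ r := rfl

variable [FiniteDimensional K M] [IsGalois K M]

/-- the base ring is the ring of invariants -/
theorem fixed_eq :
    ∃ e : A ≃+* FixedPoints.subring (integralClosure A M) (M ≃ₐ[K] M),
      ∀ a, ((e a : integralClosure A M) : M) = algebraMap A M a := by
  have hfix : ∀ a (σ : M ≃ₐ[K] M), σ • algebraMap A (integralClosure A M) a = algebraMap A _ a := fun a σ =>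
    Subtype.ext ((smul_coe A K M σ _).trans (AlgEquiv.commutes (σ.restrictScalars A) a))
  let f : A →+* FixedPoints.subring (integralClosure A M) (M ≃ₐ[K] M) :=
    (algebraMap A (integralClosure A M)).codRestrict _ (fun a σ => hfix a σ)
  refine ⟨RingEquiv.ofBijective f ⟨fun a b h => ?_, fun r => ?_⟩, fun a => rfl⟩
  · have h' : algebraMap A M a = algebraMap A M b := congrArg (fun x : FixedPoints.subring (integralClosure A M) (M ≃ₐ[K] M) => ((x : integralClosure A M) : M)) h
    rw [IsScalarTower.algebraMap_apply A K M a, IsScalarTower.algebraMap_apply A K M b] at h'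
    exact IsFractionRing.injective A K ((algebraMap K M).injective h')
  · have hr : ((r : integralClosure A M) : M) ∈ (⊥ : IntermediateField K M) :=
      (IsGalois.mem_bot_iff_fixed _).2 fun σ => congrArg Subtype.val (r.2 σ)
    obtain ⟨y, hy⟩ := IntermediateField.mem_bot.1 hr
    have hint : IsIntegral A y :=
      (isIntegral_algHom_iff (IsScalarTower.toAlgHom A K M) (algebraMap K M).injective).1
        (hy ▸ (r : integralClosure A M).2)
    obtain ⟨a, ha⟩ := IsIntegrallyClosed.isIntegral_iff.1 hint
    refine ⟨a, Subtype.ext (Subtype.ext ?_)⟩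
    show algebraMap A M a = _
    rw [IsScalarTower.algebraMap_apply A K M, ha, hy]

end finite

/-- Let A be an integrally closed domain with fraction field K, L/K a (possibly infinite) Galois
extension with group G = Gal(L/K), B the integral closure of A in L and q a prime of B. Let I ⊆ G be
the inertia group of q: the automorphisms σ with σ(b) - b ∈ q for every b ∈ B. Then the localization
of the ring of invariants B^I = B ∩ L^I at the prime q ∩ B^I is an ind-etale A-algebra, i.e. a
filtered colimit of etale A-algebras. -/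
theorem result (A K L : Type u) [CommRing A] [IsDomain A] [IsIntegrallyClosed A]
    [Field K] [Field L] [Algebra A K] [IsFractionRing A K] [Algebra K L] [Algebra A L] [IsScalarTower A K L]
    [IsGalois K L] (q : Ideal (integralClosure A L)) [q.IsPrime]
    (I : Subgroup (L ≃ₐ[K] L))
    (hI : ∀ σ : L ≃ₐ[K] L, σ ∈ I ↔ ∀ b : integralClosure A L, ∃ c ∈ q, (c : L) = σ b - b) :
    EtPBC.IsIndEtale A (Localization.AtPrime
      (q.comap (Subalgebra.inclusion
        (inf_le_left : integralClosure A L ⊓ (IntermediateField.fixedField I).toSubalgebra.restrictScalars A ≤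
          integralClosure A L)))) := by
  classical
  let CI := integralClosure A L ⊓ (IntermediateField.fixedField I).toSubalgebra.restrictScalars A
  let incl : CI →ₐ[A] integralClosure A L := Subalgebra.inclusion inf_le_left
  show EtPBC.IsIndEtale A (Localization.AtPrime (q.comap incl))
  let qI : Ideal CI := q.comap incl
  haveI : qI.IsPrime := Ideal.IsPrime.comap _
  let T := Localization.AtPrime qI
  -- a finite Galois stage containing given elements, where they are fixed by the inertia group
  have stage : ∀ X : Finset L, (∀ x ∈ X, x ∈ CI) →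
      ∃ (M : IntermediateField K L) (_ : FiniteDimensional K M) (_ : IsGalois K M),
        ∀ x ∈ X, ∃ hx : x ∈ M, ∀ τ : M ≃ₐ[K] M,
          (∀ r : integralClosure A M, ∃ c ∈ q, (c : L) = (τ r.1 : L) - r.1) → τ ⟨x, hx⟩ = ⟨x, hx⟩ := by
    intro X hX
    have hlc : ∀ b : L, IsLocallyConstant (fun σ : L ≃ₐ[K] L => σ b) := by
      intro b
      rw [IsLocallyConstant.iff_exists_open]
      intro σ
      haveI := IntermediateField.adjoin.finiteDimensional (Algebra.IsIntegral.isIntegral (R := K) b)
      refine ⟨(fun τ => σ * τ) '' (IntermediateField.fixingSubgroup K⟮b⟯ : Set (L ≃ₐ[K] L)),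
        (Homeomorph.mulLeft σ).isOpenMap _ (IntermediateField.fixingSubgroup_isOpen K⟮b⟯),
        ⟨1, one_mem _, mul_one σ⟩, ?_⟩
      rintro _ ⟨τ, hτ, rfl⟩
      show σ (τ b) = σ b
      rw [(IntermediateField.mem_fixingSubgroup_iff _ _).1 hτ b (IntermediateField.mem_adjoin_simple_self K b)]
    let U : Option (integralClosure A L) → Set (L ≃ₐ[K] L) := fun o =>
      o.elim (⋂ x ∈ X, {σ | σ x = x}) fun b => {σ | ¬ ∃ c ∈ q, (c : L) = σ b - b}
    have hU : ∀ o, IsOpen (U o) := by
      rintro (_ | b)
      · exact isOpen_biInter_finset fun x _ => (hlc x) {y | y = x}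
      · exact (hlc b) {y | ¬ ∃ c ∈ q, (c : L) = y - b}
    obtain ⟨s, hs⟩ := isCompact_univ.elim_finite_subcover U hU fun σ _ => by
      by_cases h : ∀ b : integralClosure A L, ∃ c ∈ q, (c : L) = σ b - b
      · refine Set.mem_iUnion.2 ⟨none, Set.mem_iInter₂.2 fun x hx => ?_⟩
        exact (IntermediateField.mem_fixedField_iff I x).1 (hX x hx).2 σ ((hI σ).2 h)
      · push Not at h
        obtain ⟨b, hb⟩ := h
        exact Set.mem_iUnion.2 ⟨some b, fun ⟨c, hc, hc'⟩ => hb c hc hc'⟩
    let bs : Finset L := X ∪ (Finset.eraseNone s).image (fun b : integralClosure A L => (b : L))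
    let F := IntermediateField.adjoin K (bs : Set L)
    haveI : FiniteDimensional K F :=
      IntermediateField.finiteDimensional_adjoin fun b _ => Algebra.IsIntegral.isIntegral b
    let M := IntermediateField.normalClosure K F L
    have hM : ∀ b ∈ bs, b ∈ M := fun b hb =>
      IntermediateField.le_normalClosure F (IntermediateField.subset_adjoin _ _ hb)
    refine ⟨M, inferInstance, inferInstance, fun x hx => ⟨hM x (Finset.mem_union_left _ hx), fun τ hτ => ?_⟩⟩
    let σ : L ≃ₐ[K] L := τ.liftNormal L
    have hσ : ∀ y : M, σ y = τ y := fun y => AlgEquiv.liftNormal_commutes τ L y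
    obtain ⟨o, ho, hσo⟩ := Set.mem_iUnion₂.1 (hs (Set.mem_univ σ))
    rcases o with _ | b
    · have := Set.mem_iInter₂.1 hσo x hx
      exact Subtype.ext ((hσ ⟨x, _⟩).symm.trans this)
    · exfalso
      have hb : (b : L) ∈ M :=
        hM _ (Finset.mem_union_right _ (Finset.mem_image_of_mem _ (Finset.mem_eraseNone.2 ho)))
      have hint : IsIntegral A (⟨b, hb⟩ : M) :=
        (isIntegral_algHom_iff (M.val.restrictScalars A) Subtype.val_injective).1 b.2
      obtain ⟨c, hc, hc'⟩ := hτ ⟨_, hint⟩
      exact hσo ⟨c, hc, hc'.trans (by rw [← hσ])⟩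
  refine isIndEtale_of_cover A T fun n b => ?_
  choose y₁ y₂ hy using fun i => IsLocalization.exists_mk'_eq qI.primeCompl (b i)
  let X : Finset L := (Finset.univ.image fun i => ((y₁ i : CI) : L)) ∪
    (Finset.univ.image fun i => ((y₂ i : CI) : L))
  obtain ⟨M, _, _, hM⟩ := stage X fun x hx => by
    rcases Finset.mem_union.1 hx with h | h <;> obtain ⟨i, -, rfl⟩ := Finset.mem_image.1 h <;>
      exact SetLike.coe_mem _
  let R := integralClosure A M
  let ι : R →ₐ[A] integralClosure A L := (M.val.restrictScalars A).mapIntegralClosure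
  have hι : ∀ r : R, ((ι r : integralClosure A L) : L) = ((r : M) : L) := fun r => rfl
  let qM : Ideal R := q.comap ι
  haveI : qM.IsPrime := Ideal.IsPrime.comap _
  have hiff : ∀ τ : M ≃ₐ[K] M, τ ∈ qM.inertia (M ≃ₐ[K] M) ↔
      ∀ r : R, ∃ c ∈ q, (c : L) = (τ r.1 : L) - r.1 := by
    intro τ
    constructor
    · intro h r
      exact ⟨ι (τ • r - r), h r, rfl⟩
    · intro h r
      obtain ⟨c, hc, hc'⟩ := h r
      have : ι (τ • r - r) = c := Subtype.ext hc'.symm
      show ι (τ • r - r) ∈ q
      exact this ▸ hc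
  let G := M ≃ₐ[K] M
  let C := FixedPoints.subring R (qM.inertia G)
  have hCI : ∀ r : C, ((r.1 : M) : L) ∈ CI := fun r => by
    refine ⟨(ι r.1).2, (IntermediateField.mem_fixedField_iff I _).2 fun σ hσ => ?_⟩
    have hτ : σ.restrictNormal M ∈ qM.inertia G := (hiff _).2 fun z => by
      obtain ⟨c, hc, hc'⟩ := (hI σ).1 hσ (ι z)
      exact ⟨c, hc, hc'.trans (congrArg (· - ((z.1 : M) : L)) (AlgEquiv.restrictNormal_commutes σ M z.1).symm)⟩
    have h2 : (σ.restrictNormal M) r.1.1 = r.1.1 := congrArg Subtype.val (r.2 ⟨_, hτ⟩)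
    exact (AlgEquiv.restrictNormal_commutes σ M r.1.1).symm.trans (congrArg Subtype.val h2)
  let θ : C →+* CI := (((M.val.toRingHom).comp R.val.toRingHom).comp C.subtype).codRestrict CI hCI
  have hθq : ∀ r : C, r ∉ qM.comap C.subtype → θ r ∈ qI.primeCompl := fun r hr h => hr h
  have hlift : ∀ x ∈ X, x ∈ CI → ∃ r : C, ((r.1 : M) : L) = x := fun x hx hxI => by
    obtain ⟨hxM, hfix⟩ := hM x hx
    have hint : IsIntegral A (⟨x, hxM⟩ : M) :=
      (isIntegral_algHom_iff (M.val.restrictScalars A) Subtype.val_injective).1 hxI.1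
    exact ⟨⟨⟨_, hint⟩, fun τ => Subtype.ext (hfix τ.1 ((hiff _).1 τ.2))⟩, rfl⟩
  have hy1 : ∀ i, ∃ r : C, θ r = y₁ i := fun i => by
    obtain ⟨r, hr⟩ := hlift _ (Finset.mem_union_left _ (Finset.mem_image_of_mem _ (Finset.mem_univ i))) (y₁ i).2
    exact ⟨r, Subtype.ext hr⟩
  have hy2 : ∀ i, ∃ r : C, θ r = (y₂ i : CI) := fun i => by
    obtain ⟨r, hr⟩ := hlift _ (Finset.mem_union_right _ (Finset.mem_image_of_mem _ (Finset.mem_univ i))) (y₂ i).1.2
    exact ⟨r, Subtype.ext hr⟩
  choose x₁ hx₁ using hy1
  choose x₂ hx₂ using hy2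
  obtain ⟨g₀, hg₀, hEt⟩ := Groth.Agent.S0271.result G R qM
  obtain ⟨e, he⟩ := fixed_eq A K M
  let P := ∏ i, x₂ i
  let g := g₀ * P
  have hP : θ P ∈ qI.primeCompl := by
    rw [map_prod]
    exact Submonoid.prod_mem _ fun i _ => (hx₂ i) ▸ (y₂ i).2
  have hg : θ g ∈ qI.primeCompl := by
    rw [map_mul]
    exact mul_mem (hθq g₀ hg₀) hP
  -- etale over the invariants
  let Lg := Localization.Away (algebraMap C (Localization.Away g₀) P)
  haveI : IsLocalization.Away g Lg :=
    inferInstanceAs (IsLocalization.Away (g₀ * P) (Localization.Away (algebraMap C (Localization.Away g₀) P)))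
  haveI : Algebra.Etale (Localization.Away g₀) Lg :=
    Algebra.Etale.of_isLocalizationAway (algebraMap C (Localization.Away g₀) P)
  haveI : Algebra.Etale (FixedPoints.subring R G) Lg :=
    Algebra.Etale.comp _ (Localization.Away g₀) _
  -- transport to the base
  letI : Algebra A (FixedPoints.subring R G) := e.toRingHom.toAlgebra
  letI : Algebra A Lg :=
    ((algebraMap (FixedPoints.subring R G) Lg).comp e.toRingHom).toAlgebra
  haveI : IsScalarTower A (FixedPoints.subring R G) Lg := IsScalarTower.of_algebraMap_smul fun r x =>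
    (Algebra.smul_def (e r) x).trans (Algebra.smul_def r x).symm
  haveI : Algebra.Etale A (FixedPoints.subring R G) :=
    RingHom.etale_algebraMap.1 (RingHom.Etale.of_bijective e.bijective)
  haveI : Algebra.Etale A Lg := Algebra.Etale.comp _ (FixedPoints.subring R G) _
  -- the map to the local ring
  let v₀ : Lg →+* T :=
    IsLocalization.Away.lift g (g := (algebraMap CI T).comp θ) (IsLocalization.map_units T ⟨θ g, hg⟩)
  have hv₀ : ∀ r : C, v₀ (algebraMap C _ r) = algebraMap CI T (θ r) := fun r => IsLocalization.Away.lift_eq _ _ r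
  let v : Lg →ₐ[A] T :=
    { v₀ with
      commutes' := fun a => by
        show v₀ (algebraMap C _ (algebraMap (FixedPoints.subring R G) C (e a))) = _
        rw [hv₀, IsScalarTower.algebraMap_apply A CI T]
        congr 1
        exact Subtype.ext ((congrArg Subtype.val (he a)).trans rfl) }
  have hθinj : Function.Injective θ := fun r s h =>
    Subtype.ext (Subtype.ext (Subtype.ext (congrArg (fun z : CI => (z : L)) h :)))
  have hinj : Function.Injective ((algebraMap CI T).comp θ) :=
    (IsLocalization.injective T qI.primeCompl_le_nonZeroDivisors).comp hθinj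
  refine ⟨Lg, inferInstance, inferInstance, inferInstance, v, ?_, fun i => ?_⟩
  · refine (injective_iff_map_eq_zero v₀).2 fun z hz => ?_
    obtain ⟨m, a, ha⟩ := IsLocalization.Away.surj (S := Lg) g z
    have h0 : algebraMap CI T (θ a) = 0 := by
      rw [← hv₀]
      exact (congrArg v₀ ha).symm.trans ((v₀.map_mul _ _).trans (by rw [hz, zero_mul]))
    have ha0 : a = 0 := hinj (h0.trans (RingHom.map_zero _).symm)
    exact ((IsLocalization.Away.algebraMap_isUnit (S := Lg) g).pow m).mul_left_eq_zero.1
      (ha.trans (by rw [ha0]; exact RingHom.map_zero _))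
  · have hu : IsUnit (algebraMap C Lg (x₂ i)) :=
      isUnit_of_dvd_unit (map_dvd _ ((Finset.dvd_prod_of_mem x₂ (Finset.mem_univ i)).trans (dvd_mul_left P g₀)))
        (IsLocalization.Away.algebraMap_isUnit g)
    obtain ⟨w, hw⟩ : ∃ w : Lg, algebraMap C Lg (x₂ i) * w = algebraMap C Lg (x₁ i) :=
      ⟨(↑hu.unit⁻¹ : Lg) * algebraMap C Lg (x₁ i),
        (mul_assoc _ _ _).symm.trans ((congrArg (fun a : Lg => a * algebraMap C Lg (x₁ i)) hu.mul_val_inv).trans (one_mul _))⟩
    refine ⟨w, ?_⟩
    show v₀ w = b i
    have h1 : algebraMap CI T (θ (x₂ i)) * v₀ w = algebraMap CI T (θ (x₁ i)) :=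
      (congrArg (fun a : T => a * v₀ w) (hv₀ (x₂ i))).symm.trans
        ((v₀.map_mul _ _).symm.trans ((congrArg v₀ hw).trans (hv₀ (x₁ i))))
    refine (IsLocalization.eq_mk'_iff_mul_eq.2 ?_).trans (hy i)
    exact (mul_comm _ _).trans ((congrArg (fun a : CI => algebraMap CI T a * v₀ w) (hx₂ i)).symm.trans
      (h1.trans (congrArg (algebraMap CI T) (hx₁ i))))

end Groth.Agent.S9494
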