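import Groth.Statements.S9499
import Groth.Agent.SchMor12.MonoDiscrete

set_option autoImplicit false
universe u
open SchMor

namespace Groth.Agent.S9499

open AlgebraicGeometry in
open CategoryTheory in
/-- Let (k_i) be a finite family of fields and f : X → Spec(∏_i k_i) a monomorphism of schemes. Then
there are a subset I of the index set and an isomorphism X ≅ Spec(∏_{i∈I} k_i) over Spec(∏_i k_i),
where Spec(∏_{i∈I} k_i) maps to Spec(∏_i k_i) through the projection ring homomorphism ∏_i k_i →
∏_{i∈I} k_i. -/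
theorem result
    {ι : Type u} [Finite ι] (k : ι → Type u) [∀ i, Field (k i)]
    {X : Scheme.{u}} (f : X ⟶ Spec (CommRingCat.of (Π i, k i))) [Mono f] :
    ∃ (I : Set ι) (e : X ≅ Spec (CommRingCat.of (Π i : I, k i))),
      e.hom ≫ Spec.map (CommRingCat.ofHom (Pi.ringHom fun i : I => Pi.evalRingHom k i.1)) = f := by
  classical
  have := Groth.Agent.SchMor12.discreteTopology_spec_pi k
  have : IsReduced (Spec (CommRingCat.of (Π i, k i))) := inferInstance
  have := Groth.Agent.SchMor12.isOpenImmersion_of_mono_of_discrete f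
  let pt : ι → Spec (CommRingCat.of (Π i, k i)) := fun i =>
    PrimeSpectrum.comap (Pi.evalRingHom k i) ⟨⊥, Ideal.isPrime_bot⟩
  have hpt : ∀ p, ∃ i, pt i = p := fun p => by
    obtain ⟨i, q, hq⟩ := PrimeSpectrum.exists_comap_evalRingHom_eq p
    exact ⟨i, (congrArg (PrimeSpectrum.comap (Pi.evalRingHom k i)) (Subsingleton.elim (α := PrimeSpectrum (k i)) _ q)).trans hq⟩
  let I : Set ι := {i | pt i ∈ Set.range f}
  let φ : (Π i, k i) →+* (Π i : I, k i) := Pi.ringHom fun i : I => Pi.evalRingHom k i.1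
  have hφ : Function.Surjective φ := fun a =>
    ⟨fun i => if h : i ∈ I then a ⟨i, h⟩ else 0, funext fun i => by change dite _ _ _ = _; rw [dif_pos i.2]⟩
  have := IsClosedImmersion.spec_of_surjective (CommRingCat.ofHom φ) hφ
  have := Groth.Agent.SchMor12.isOpenImmersion_of_mono_of_discrete
    (Spec.map (CommRingCat.ofHom φ))
  have hrange : Set.range f = Set.range (Spec.map (CommRingCat.ofHom φ)) := by
    ext p
    constructor
    · intro hp
      obtain ⟨i, rfl⟩ := hpt p
      exact ⟨PrimeSpectrum.comap (Pi.evalRingHom (fun j : I => k j) ⟨i, hp⟩) ⟨⊥, Ideal.isPrime_bot⟩,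
        rfl⟩
    · rintro ⟨q, rfl⟩
      obtain ⟨i, q', rfl⟩ := PrimeSpectrum.exists_comap_evalRingHom_eq (R := fun j : I => k j) q
      obtain rfl : q' = ⟨⊥, Ideal.isPrime_bot⟩ := Subsingleton.elim _ _
      exact i.2
  exact ⟨I, IsOpenImmersion.isoOfRangeEq f _ hrange, IsOpenImmersion.isoOfRangeEq_hom_fac _ _ _⟩

end Groth.Agent.S9499
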