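import Groth.Statements.S9500
import Groth.Agent.SchMor12.MonoDiscrete

set_option autoImplicit false
universe u
open SchMor

namespace Groth.Agent.S9500

open AlgebraicGeometry in
open CategoryTheory Limits in
/-- Let (k_i)_{i ∈ ι} be a family of fields, X = ∐_i Spec(k_i) the disjoint union, and f : Y → X a
monomorphism of schemes. Then there are a subset J of ι and an isomorphism Y ≅ ∐_{j ∈ J} Spec(k_j)
over X, where ∐_{j ∈ J} Spec(k_j) maps to X by the coproduct inclusions. -/
theorem result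
    {ι : Type u} (k : ι → Type u) [∀ i, Field (k i)]
    {Y : Scheme.{u}} (f : Y ⟶ ∐ fun i => Spec (CommRingCat.of (k i))) [Mono f] :
    ∃ (J : Set ι) (e : Y ≅ ∐ fun j : J => Spec (CommRingCat.of (k j.1))),
      e.hom ≫ Sigma.desc (fun j : J => Sigma.ι (fun i => Spec (CommRingCat.of (k i))) j.1) = f := by
  have := Groth.Agent.SchMor12.discreteTopology_sigma_spec k
  have := Groth.Agent.SchMor12.isReduced_sigma_spec k
  have := Groth.Agent.SchMor12.isOpenImmersion_of_mono_of_discrete f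
  let F : ι → Scheme.{u} := fun i => Spec (CommRingCat.of (k i))
  let pt : ι → ↥(∐ F) := fun i => Sigma.ι F i ⟨⊥, Ideal.isPrime_bot⟩
  have hpt : ∀ p, ∃ i, pt i = p := fun p => by
    obtain ⟨⟨i, q⟩, rfl⟩ := (sigmaMk F).surjective p
    exact ⟨i, by rw [sigmaMk_mk]; exact congrArg (Sigma.ι F i) (Subsingleton.elim (α := PrimeSpectrum (k i)) _ q)⟩
  let J : Set ι := {i | pt i ∈ Set.range f}
  have : IsOpenImmersion (Sigma.desc fun j : J => Sigma.ι F j.1) := by
    refine isOpenImmersion_sigmaDesc _ _ fun a b hab => ?_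
    have := disjoint_opensRange_sigmaι F a.1 b.1 (fun h => hab (Subtype.ext h))
    rw [← TopologicalSpace.Opens.coe_disjoint] at this
    exact this
  have hrange : Set.range f = Set.range (Sigma.desc fun j : J => Sigma.ι F j.1) := by
    ext p
    constructor
    · intro hp
      obtain ⟨i, rfl⟩ := hpt p
      exact ⟨Sigma.ι (fun j : J => F j.1) ⟨i, hp⟩ ⟨⊥, Ideal.isPrime_bot⟩, by
        rw [← Scheme.Hom.comp_apply, Sigma.ι_desc]⟩
    · rintro ⟨q, rfl⟩
      obtain ⟨⟨j, q'⟩, rfl⟩ := (sigmaMk fun j : J => F j.1).surjective q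
      obtain rfl : q' = (⟨⊥, Ideal.isPrime_bot⟩ : PrimeSpectrum (k j.1)) :=
        Subsingleton.elim (α := PrimeSpectrum (k j.1)) _ _
      rw [sigmaMk_mk, ← Scheme.Hom.comp_apply, Sigma.ι_desc]
      exact j.2
  exact ⟨J, IsOpenImmersion.isoOfRangeEq f _ hrange, IsOpenImmersion.isoOfRangeEq_hom_fac _ _ _⟩

end Groth.Agent.S9500
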