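import Groth.Statements.S9503
import Groth.Agent.FlatMor12.HomQCoh
import Groth.Agent.Coherent.InternalHomAdj
import Groth.Agent.Props12.TildeFin
import Groth.Agent.AffSchLib.TildeIso

set_option autoImplicit false
set_option backward.isDefEq.respectTransparency false
set_option backward.isDefEq.respectTransparency.types false
universe u
open AffSch

namespace Groth.Agent.S9503

open AlgebraicGeometry CategoryTheory Groth.Agent.Coherent

theorem main (R : CommRingCat.{u}) (M N : ModuleCat.{u} R) [Module.FinitePresentation R M]
    [DCoh.HasSheafHom (tilde M)] :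
    Nonempty ((DCoh.sheafHom (tilde M)).obj (tilde N) ≅ tilde (ModuleCat.of R (M →ₗ[R] N))) := by
  have hM : CohB1.IsFP (tilde M) := (Groth.Agent.Props12.isFP_tilde_iff M).2 inferInstance
  have := Groth.Agent.Props12.isQCoh_tilde M
  have := Groth.Agent.Props12.isQCoh_tilde N
  let H := internalHom (tilde M) (tilde N)
  have : Coh.IsQCoh H := Groth.Agent.FlatMor12.isQCoh_internalHom_of_isFP hM
  have : IsIso (Scheme.Modules.fromTildeΓ H) := @Scheme.Modules.isIso_fromTildeΓ_of_isQuasicoherent R H inferInstance
  let eM : M ≃ₗ[R] Γ(tilde M, ⊤) := Groth.Agent.Props12.topEquiv M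
  let eN : N ≃ₗ[R] Γ(tilde N, ⊤) := Groth.Agent.Props12.topEquiv N
  have hs : Function.Surjective (algebraMap R Γ(Spec R, ⊤)) := Groth.Agent.Props12.bijective_algebraMap_top.2
  let e : Γ(H, ⊤) ≃ₗ[R] (M →ₗ[R] N) :=
    ((Existence.secLinEquiv (F := tilde M) (N := tilde N) (isAffineOpen_top (Spec R))).restrictScalars R).trans
      (((LinearMap.extendScalarsOfSurjectiveEquiv (R := R) (S := Γ(Spec R, ⊤)) hs).symm.restrictScalars R).trans
        (eM.symm.arrowCongr eN.symm))
  exact ⟨((Coherent.sheafHomIso (tilde M)).app (tilde N)) ≪≫ (asIso (Scheme.Modules.fromTildeΓ H)).symm ≪≫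
    (tilde.functor R).mapIso (show (modulesSpecToSheaf.obj H).presheaf.obj (Opposite.op ⊤) ≅ ModuleCat.of R (M →ₗ[R] N)
      from e.toModuleIso)⟩


open AlgebraicGeometry in
open CategoryTheory in
/-- Let A be a commutative ring, M a finitely presented A-module and N an A-module, with associated
O_X-modules M~ and N~ on X = Spec A, and let Hom_{O_X}(M~, -) denote the sheaf-Hom functor (the
right adjoint of M~ ⊗ -, assumed to exist). Then Hom_{O_X}(M~, N~) is isomorphic to the O_X-module
associated to the A-module Hom_A(M, N) (existence of an isomorphism only; the prelude's sheaf Hom is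
a chosen right adjoint, so no particular map is singled out). -/
theorem result
    (A : Type u) [CommRing A] (M N : Type u) [AddCommGroup M] [Module A M]
    [Module.FinitePresentation A M] [AddCommGroup N] [Module A N]
    [DCoh.HasSheafHom (tilde (R := CommRingCat.of A) (ModuleCat.of A M))] :
    Nonempty ((DCoh.sheafHom (tilde (R := CommRingCat.of A) (ModuleCat.of A M))).obj
        (tilde (R := CommRingCat.of A) (ModuleCat.of A N)) ≅
      tilde (R := CommRingCat.of A) (ModuleCat.of A (M →ₗ[A] N))) := by
  exact main (CommRingCat.of A) (ModuleCat.of A M) (ModuleCat.of A N)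

end Groth.Agent.S9503
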