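import Groth.Statements.S9504
import Groth.Agent.Coherent.PullUnit
import Groth.Agent.Props12.TildeFin
import Groth.Agent.DR15.ExtBaseChange
import Groth.Agent.OmegaLib.StalkLocal

set_option autoImplicit false
set_option backward.isDefEq.respectTransparency false
set_option backward.isDefEq.respectTransparency.types false
universe u
open AffSch

namespace Groth.Agent.S9504

open AlgebraicGeometry CategoryTheory Opposite TopologicalSpace TensorProduct Groth.Agent.Coherent

/-- An alternating map over a bigger ring, restricted along a scalar change. -/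
def altRestrict {ι A B M N : Type*} [CommRing A] [CommRing B] [Algebra A B] [AddCommGroup M] [Module A M]
    [Module B M] [IsScalarTower A B M] [AddCommGroup N] [Module A N] [Module B N] [IsScalarTower A B N]
    (F : M [⋀^ι]→ₗ[B] N) : M [⋀^ι]→ₗ[A] N :=
  { F.toMultilinearMap.restrictScalars A with map_eq_zero_of_eq' := F.map_eq_zero_of_eq' }

theorem isBaseChange_linearEquiv {A S P N : Type u} [CommRing A] [CommRing S] [Algebra A S]
    [AddCommGroup P] [Module A P] [AddCommGroup N] [Module A N] [Module S N] [IsScalarTower A S N]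
    (hs : Function.Surjective (algebraMap A S)) (e : P ≃ₗ[A] N) : IsBaseChange S e.toLinearMap := by
  have hz : ∀ z : S ⊗[A] P, ∃ x, z = 1 ⊗ₜ x := fun z => by
    induction z using TensorProduct.induction_on with
    | zero => exact ⟨0, (tmul_zero _ _).symm⟩
    | tmul s x =>
      obtain ⟨a, rfl⟩ := hs s
      exact ⟨a • x, by rw [← smul_tmul, Algebra.smul_def, mul_one]⟩
    | add z z' hz hz' =>
      obtain ⟨x, rfl⟩ := hz
      obtain ⟨x', rfl⟩ := hz'
      exact ⟨x + x', (tmul_add _ _ _).symm⟩
  refine IsBaseChange.of_equiv (LinearEquiv.ofBijective (e.toLinearMap.liftBaseChange S) ⟨?_, ?_⟩) fun x => ?_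
  · rw [injective_iff_map_eq_zero]
    intro z h
    obtain ⟨x, rfl⟩ := hz z
    rw [LinearMap.liftBaseChange_tmul, one_smul] at h
    rw [e.injective (h.trans (map_zero e.toLinearMap).symm), tmul_zero]
  · intro y
    exact ⟨1 ⊗ₜ e.symm y, by simp⟩
  · simp

section Alg

variable {A B C M N P L L' : Type u} [CommRing A] [CommRing B] [CommRing C] [Algebra A B] [Algebra A C]
  [Algebra B C] [IsScalarTower A B C] [AddCommGroup M] [Module A M] [AddCommGroup N] [Module A N] [Module B N]
  [IsScalarTower A B N] [AddCommGroup P] [Module A P] [Module B P] [Module C P] [IsScalarTower A C P]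
  [IsScalarTower B C P] [AddCommGroup L] [Module A L] [Module B L] [IsScalarTower A B L] [AddCommGroup L']
  [Module A L'] [Module B L'] [Module C L'] [IsScalarTower A C L'] [IsScalarTower B C L'] (n : ℕ)

/-- The map on exterior powers induced by a scalar change. -/
noncomputable def extMap (f : M →ₗ[A] N) : ↥(⋀[A]^n M) →ₗ[A] ↥(⋀[B]^n N) :=
  exteriorPower.alternatingMapLinearEquiv ((altRestrict (A := A) (exteriorPower.ιMulti B n)).compLinearMap f)

theorem extMap_ιMulti (f : M →ₗ[A] N) (m : Fin n → M) :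
    extMap (B := B) n f (exteriorPower.ιMulti A n m) = exteriorPower.ιMulti B n (f ∘ m) :=
  exteriorPower.alternatingMapLinearEquiv_apply_ιMulti _ m

/-- The identification of a base change of an exterior power. -/
noncomputable def extIso {f : M →ₗ[A] N} (hf : IsBaseChange B f) {G : ↥(⋀[A]^n M) →ₗ[A] L}
    (hG : IsBaseChange B G) : L ≃ₗ[B] ↥(⋀[B]^n N) :=
  hG.equiv.symm.trans (Groth.Agent.DR15.exteriorPower_isBaseChange hf n (extMap n f) (extMap_ιMulti n f)).equiv

theorem extIso_symm_ιMulti {f : M →ₗ[A] N} (hf : IsBaseChange B f) {G : ↥(⋀[A]^n M) →ₗ[A] L}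
    (hG : IsBaseChange B G) (m : Fin n → M) :
    (extIso n hf hG).symm (exteriorPower.ιMulti B n (f ∘ m)) = G (exteriorPower.ιMulti A n m) := by
  rw [extIso, LinearEquiv.trans_symm, LinearEquiv.trans_apply, LinearEquiv.symm_symm, ← extMap_ιMulti,
    IsBaseChange.equiv_symm_apply, IsBaseChange.equiv_tmul, one_smul]

omit [IsScalarTower A B C] in
theorem extIso_compat {f : M →ₗ[A] N} (hf : IsBaseChange B f) {G : ↥(⋀[A]^n M) →ₗ[A] L}
    (hG : IsBaseChange B G) {f' : M →ₗ[A] P} (hf' : IsBaseChange C f') {G' : ↥(⋀[A]^n M) →ₗ[A] L'}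
    (hG' : IsBaseChange C G') (ρ : N →ₗ[B] P) (hρ : ∀ m, ρ (f m) = f' m) (r : L →ₗ[B] L')
    (hr : ∀ x, r (G x) = G' x) (e : Fin n → N) :
    r ((extIso n hf hG).symm (exteriorPower.ιMulti B n e)) =
      (extIso n hf' hG').symm (exteriorPower.ιMulti C n (ρ ∘ e)) := by
  let R : ↥(⋀[B]^n N) →ₗ[B] L' := exteriorPower.alternatingMapLinearEquiv
    ((altRestrict (A := B) (((extIso n hf' hG').symm.toLinearMap).compAlternatingMap
      (exteriorPower.ιMulti C n))).compLinearMap ρ)
  have hR : r ∘ₗ (extIso n hf hG).symm.toLinearMap = R := by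
    refine (Groth.Agent.DR15.exteriorPower_isBaseChange hf n (extMap n f) (extMap_ιMulti n f)).algHom_ext _ _
      fun x => ?_
    have hx : x ∈ Submodule.span A (Set.range (exteriorPower.ιMulti A n (M := M))) := by
      rw [exteriorPower.ιMulti_span]; trivial
    induction hx using Submodule.span_induction with
    | mem x hx =>
      obtain ⟨m, rfl⟩ := hx
      rw [extMap_ιMulti]
      show r ((extIso n hf hG).symm _) = exteriorPower.alternatingMapLinearEquiv _ _
      rw [extIso_symm_ιMulti, hr, exteriorPower.alternatingMapLinearEquiv_apply_ιMulti]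
      show _ = (extIso n hf' hG').symm (exteriorPower.ιMulti C n (ρ ∘ (f ∘ m)))
      rw [show ρ ∘ (f ∘ m) = f' ∘ m from funext fun i => hρ (m i), extIso_symm_ιMulti]
    | zero => rw [map_zero, map_zero, map_zero]
    | add x y _ _ hx hy => rw [map_add, map_add, map_add, hx, hy]
    | smul a x _ hx =>
      rw [map_smul, ← algebraMap_smul B a (extMap n f x), map_smul, map_smul, hx]
  exact (LinearMap.congr_fun hR _).trans (exteriorPower.alternatingMapLinearEquiv_apply_ιMulti _ e)

end Alg

section Spec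

variable {R : CommRingCat.{u}}

/-- The section over an open attached to an element. -/
noncomputable def secLin (M : ModuleCat.{u} R) (U : (Spec R).Opens) : M →ₗ[R] Γ(tilde M, U) where
  toFun m := resM (tilde M) (le_top (a := U)) (Props12.topEquiv M m)
  map_add' a b := by rw [map_add]; exact map_add _ _ _
  map_smul' a m := by rw [map_smul]; exact Scheme.Modules.map_smul_Spec _ a _

theorem isBaseChange_secLin (M : ModuleCat.{u} R) {U : (Spec R).Opens} (hU : IsAffineOpen U) :
    IsBaseChange Γ(Spec R, U) (secLin M U) := by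
  have : Coh.IsQCoh (tilde M) := Props12.isQCoh_tilde M
  let e : U ≤ (𝟙 (Spec R) : Spec R ⟶ Spec R) ⁻¹ᵁ ⊤ := le_top
  let α : Algebra Γ(Spec R, ⊤) Γ(Spec R, U) := ((𝟙 (Spec R) : Spec R ⟶ Spec R).appLE ⊤ U e).hom.toAlgebra
  let P := (Scheme.Modules.pullback (𝟙 (Spec R))).obj (tilde M)
  let _ : Module Γ(Spec R, ⊤) Γ(P, U) := Module.compHom _ ((𝟙 (Spec R) : Spec R ⟶ Spec R).appLE ⊤ U e).hom
  let _ : Module Γ(Spec R, ⊤) Γ(tilde M, U) := Module.compHom _ ((𝟙 (Spec R) : Spec R ⟶ Spec R).appLE ⊤ U e).hom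
  have : IsScalarTower Γ(Spec R, ⊤) Γ(Spec R, U) Γ(P, U) := IsScalarTower.of_algebraMap_smul fun _ _ => rfl
  have : IsScalarTower Γ(Spec R, ⊤) Γ(Spec R, U) Γ(tilde M, U) := IsScalarTower.of_algebraMap_smul fun _ _ => rfl
  obtain ⟨μ, hμ, hμe⟩ := EGA43.InjFibre.pullMap_isBaseChange (𝟙 (Spec R)) (isAffineOpen_top _) hU e (tilde M)
  let ε := (Scheme.Modules.pullbackId (Spec R)).app (tilde M)
  let E : Γ(P, U) ≃ₗ[Γ(Spec R, U)] Γ(tilde M, U) :=
    { toFun := fun x => ε.hom.app U x
      invFun := fun x => ε.inv.app U x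
      left_inv := fun x => by
        show ε.inv.app U (ε.hom.app U x) = x
        rw [← ConcreteCategory.comp_apply, ← Scheme.Modules.Hom.comp_app, ε.hom_inv_id]; rfl
      right_inv := fun x => by
        show ε.hom.app U (ε.inv.app U x) = x
        rw [← ConcreteCategory.comp_apply, ← Scheme.Modules.Hom.comp_app, ε.inv_hom_id]; rfl
      map_add' := fun x y => map_add _ x y
      map_smul' := fun r x => Scheme.Modules.Hom.app_smul _ r x }
  have h1 := isBaseChange_linearEquiv (S := Γ(Spec R, ⊤)) Props12.bijective_algebraMap_top.2 (Props12.topEquiv M)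
  have : IsScalarTower R Γ(Spec R, ⊤) Γ(Spec R, U) := IsScalarTower.of_algebraMap_eq fun x => by
    show _ = (𝟙 (Spec R) : Spec R ⟶ Spec R).appLE ⊤ U e (algebraMap R Γ(Spec R, ⊤) x)
    rw [IsAffineOpen.algebraMap_Spec_obj, IsAffineOpen.algebraMap_Spec_obj, CommRingCat.hom_comp, CommRingCat.hom_comp, RingHom.comp_apply,
      RingHom.comp_apply, Scheme.Hom.appLE, Scheme.Hom.id_app, Category.id_comp, ← ConcreteCategory.comp_apply, ← ConcreteCategory.comp_apply,
      ← ConcreteCategory.comp_apply, ← Functor.map_comp]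
    rfl
  have h2 : IsBaseChange Γ(Spec R, U) ((E.restrictScalars Γ(Spec R, ⊤)).toLinearMap ∘ₗ μ) :=
    hμ.comp (isBaseChange_linearEquiv (A := Γ(Spec R, U)) (S := Γ(Spec R, U))
      (fun x => ⟨x, rfl⟩) E)
  have : IsScalarTower R Γ(Spec R, ⊤) Γ(tilde M, U) := IsScalarTower.of_algebraMap_smul fun x z => by
    rw [← algebraMap_smul Γ(Spec R, U) (algebraMap R Γ(Spec R, ⊤) x) z, ← IsScalarTower.algebraMap_apply,
      algebraMap_smul]
  have h3 := h1.comp h2
  have key : ∀ m, E (μ (Props12.topEquiv M m)) = secLin M U m := fun m => by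
    rw [hμe, pullMap_eq_resM_pullSec]
    refine (app_resM ε.hom e _).trans (congrArg (resM (tilde M) e) ?_)
    have h4 := OmegaLib.pullbackId_inv_app (tilde M) ⊤ (Props12.topEquiv M m)
    refine (congrArg (ε.hom.app ⊤) h4.symm).trans ?_
    rw [← ConcreteCategory.comp_apply, ← Scheme.Modules.Hom.comp_app]
    exact congr($(ε.inv_hom_id).app ⊤ (Props12.topEquiv M m))
  convert h3 using 1
  exact LinearMap.ext fun m => (key m).symm

theorem main (M : ModuleCat.{u} R) (n : ℕ) :
    ExtPow.IsExtPow n (tilde M) (tilde (ModuleCat.of R ↥(⋀[R]^n M))) := by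
  let φ := fun U : (Spec R).affineOpens =>
    extIso n (isBaseChange_secLin M U.2) (isBaseChange_secLin (ModuleCat.of R ↥(⋀[R]^n M)) U.2)
  refine ⟨φ, fun U V h e => ?_⟩
  let ι := (Spec R).presheaf.map (homOfLE h).op
  let _ : Algebra Γ(Spec R, U.1) Γ(Spec R, V.1) := ι.hom.toAlgebra
  let _ : Module Γ(Spec R, U.1) Γ(tilde M, V.1) := Module.compHom _ ι.hom
  let _ : Module Γ(Spec R, U.1) Γ(tilde (ModuleCat.of R ↥(⋀[R]^n M)), V.1) := Module.compHom _ ι.hom
  have : IsScalarTower Γ(Spec R, U.1) Γ(Spec R, V.1) Γ(tilde M, V.1) :=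
    IsScalarTower.of_algebraMap_smul fun _ _ => rfl
  have : IsScalarTower Γ(Spec R, U.1) Γ(Spec R, V.1) Γ(tilde (ModuleCat.of R ↥(⋀[R]^n M)), V.1) :=
    IsScalarTower.of_algebraMap_smul fun _ _ => rfl
  have : IsScalarTower R Γ(Spec R, U.1) Γ(Spec R, V.1) := IsScalarTower.of_algebraMap_eq fun x => by
    show _ = ι (algebraMap R Γ(Spec R, U.1) x)
    rw [IsAffineOpen.algebraMap_Spec_obj, IsAffineOpen.algebraMap_Spec_obj, CommRingCat.hom_comp, CommRingCat.hom_comp, RingHom.comp_apply,
      RingHom.comp_apply, ← ConcreteCategory.comp_apply, ← ConcreteCategory.comp_apply, ← Functor.map_comp]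
    rfl
  exact extIso_compat n (isBaseChange_secLin M U.2) (isBaseChange_secLin (ModuleCat.of R ↥(⋀[R]^n M)) U.2)
    (isBaseChange_secLin M V.2) (isBaseChange_secLin (ModuleCat.of R ↥(⋀[R]^n M)) V.2)
    { toFun := resM (tilde M) h, map_add' := fun x y => map_add _ x y, map_smul' := fun r x => resM_smul _ h r x }
    (fun m => resM_resM (tilde M) (le_top (a := U.1)) h (Props12.topEquiv M m))
    { toFun := resM _ h, map_add' := fun x y => map_add _ x y, map_smul' := fun r x => resM_smul _ h r x }
    (fun m => resM_resM (tilde (ModuleCat.of R ↥(⋀[R]^n M))) (le_top (a := U.1)) h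
      (Props12.topEquiv (ModuleCat.of R ↥(⋀[R]^n M)) m)) e

end Spec


open AlgebraicGeometry in
open CategoryTheory in
/-- Let A be a commutative ring, M an A-module and n a natural number. On X = Spec A the O_X-module
associated to the A-module ⋀^n M is an n-th exterior power of M~: on every affine open U its
sections are identified, linearly over Γ(U, O_X), with the n-th exterior power of the sections of M~
over U, compatibly with restrictions on decomposable elements. -/
theorem result
    (A : Type u) [CommRing A] (M : Type u) [AddCommGroup M] [Module A M] (n : ℕ) :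
    ExtPow.IsExtPow n (tilde (R := CommRingCat.of A) (ModuleCat.of A M))
      (tilde (R := CommRingCat.of A) (ModuleCat.of A ↥(⋀[A]^n M))) := by
  exact main (R := CommRingCat.of A) (ModuleCat.of A M) n

end Groth.Agent.S9504
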