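import Groth.Statements.S9505
import Groth.Agent.SchMor12.LRSClosed

set_option autoImplicit false
universe u
open LRSImm

namespace Groth.Agent.S9505

open AlgebraicGeometry in
open CategoryTheory in
/-- Let X be a scheme and i : Z → X a closed immersion of locally ringed spaces: a homeomorphism onto a
closed subset of X such that O_X → i_*O_Z is surjective as a map of sheaves and its kernel is
locally generated by sections. Then the locally ringed space Z is a scheme and i is a closed
immersion of schemes (affine-locally of the form Spec(R/I) → Spec R): there are a scheme Z' and an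
isomorphism of locally ringed spaces Z' ≅ Z whose composite with i is a closed immersion of schemes
Z' → X. -/
theorem result
    (X : Scheme.{u}) (Z : LocallyRingedSpace.{u}) (i : Z ⟶ X.toLocallyRingedSpace)
    (hi : LRSImm.IsClosedImmersion i) :
    ∃ (Z' : Scheme.{u}) (e : Z'.toLocallyRingedSpace ≅ Z),
      AlgebraicGeometry.IsClosedImmersion (Scheme.Hom.mk (e.hom ≫ i) : Z' ⟶ X) := by
  let I : X.IdealSheafData :=
    { ideal := fun U => RingHom.ker (i.c.app (Opposite.op U.1)).hom
      map_ideal_basicOpen := fun U g => by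
        refine le_antisymm (Ideal.map_le_iff_le_comap.2 fun a ha => ?_) fun b hb => ?_
        · exact (Groth.Agent.SchMor12.c_res i (X.basicOpen_le g) a).trans
            ((congrArg _ ha).trans (map_zero _))
        · let _ := (X.presheaf.map (homOfLE (X.basicOpen_le g)).op).hom.toAlgebra
          have := U.2.isLocalization_basicOpen g
          obtain ⟨⟨a, ⟨_, n, rfl⟩⟩, hab⟩ := IsLocalization.surj (Submonoid.powers g) b
          obtain ⟨m, hm⟩ := Groth.Agent.SchMor12.exists_pow_mul_killed i hi.2.2 U.2 g a (by
            change i.c.app (Opposite.op (X.basicOpen g)) (algebraMap Γ(X, U) Γ(X, X.basicOpen g) a) = 0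
            have hb' : i.c.app (Opposite.op (X.basicOpen g)) b = 0 := hb
            rw [← hab, map_mul, hb', zero_mul])
          have hu : IsUnit (algebraMap Γ(X, U) Γ(X, X.basicOpen g) (g ^ (m + n))) := by
            rw [map_pow]
            exact (IsLocalization.Away.algebraMap_isUnit g).pow _
          refine (Ideal.mul_unit_mem_iff_mem _ hu).1 ?_
          rw [show b * algebraMap Γ(X, U) Γ(X, X.basicOpen g) (g ^ (m + n)) =
            algebraMap Γ(X, U) Γ(X, X.basicOpen g) (g ^ m * a) by
              rw [map_mul, ← hab, pow_add, map_mul]; ring]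
          exact Ideal.mem_map_of_mem _ hm }
  have hq := Groth.Agent.SchMor12.isClosedImmersion_toLRSHom' I.subschemeι
  have key : ∀ (U : X.Opens) (_ : IsAffineOpen U) (a : Γ(X, U)),
      I.subschemeι.app U a = 0 ↔ i.c.app (Opposite.op U) a = 0 := fun U hU a => by
    have := SetLike.ext_iff.1 (I.ker_subschemeι_app ⟨U, hU⟩) a
    exact this
  have cov : ∀ x : X, ∃ U : X.Opens, IsAffineOpen U ∧ x ∈ U := fun x => by
    obtain ⟨_, ⟨U, hU, rfl⟩, hx, -⟩ :=
      X.isBasis_affineOpens.exists_subset_of_mem_open (Set.mem_univ x) isOpen_univ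
    exact ⟨U, hU, hx⟩
  obtain ⟨e, he⟩ := Groth.Agent.SchMor12.exists_iso_of_kills_iff I.subschemeι.toLRSHom i
    hq.1 hq.2.1 hi.1 hi.2.1
    (fun V s => Groth.Agent.SchMor12.kills_of_affine I.subschemeι.toLRSHom hq.2.2 i
      (fun x => (cov x).imp fun U h => ⟨h.1, h.2, fun a => (key U h.1 a).1⟩) V s)
    (fun V s => Groth.Agent.SchMor12.kills_of_affine i hi.2.2 I.subschemeι.toLRSHom
      (fun x => (cov x).imp fun U h => ⟨h.1, h.2, fun a => (key U h.1 a).2⟩) V s)
  refine ⟨I.subscheme, e, ?_⟩
  rw [show (Scheme.Hom.mk (e.hom ≫ i) : I.subscheme ⟶ X) = I.subschemeι from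
    Scheme.Hom.ext' he]
  infer_instance

end Groth.Agent.S9505
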