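import Groth.Statements.S9506
import Groth.Agent.SchMor12.LRSClosed

set_option autoImplicit false
universe u
open LRSImm

namespace Groth.Agent.S9506

open AlgebraicGeometry in
open CategoryTheory Opposite in
/-- Let R be a commutative ring and i : Z → Spec R a closed immersion of locally ringed spaces (a
homeomorphism onto a closed subset such that O → i_*O_Z is surjective as a map of sheaves with
kernel locally generated by sections). Let I ⊆ R be the kernel of the composite R = Γ(Spec R, O) →
Γ(Z, O_Z). Then Z is identified with Spec(R/I) over Spec R: there is an isomorphism of locally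
ringed spaces Z ≅ Spec(R/I) whose composite with the morphism Spec(R/I) → Spec R induced by R → R/I
is i (in particular the ideal I with this property is unique). -/
theorem result
    (R : Type u) [CommRing R] (Z : LocallyRingedSpace.{u})
    (i : Z ⟶ (Spec (CommRingCat.of R)).toLocallyRingedSpace) (hi : LRSImm.IsClosedImmersion i)
    (I : Ideal R)
    (hI : I = RingHom.ker ((Scheme.ΓSpecIso (CommRingCat.of R)).inv ≫ i.c.app (op ⊤)).hom) :
    ∃ e : Z ≅ (Spec (CommRingCat.of (R ⧸ I))).toLocallyRingedSpace,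
      e.hom ≫ (Spec.map (CommRingCat.ofHom (Ideal.Quotient.mk I))).toLRSHom = i := by
  subst hI
  set φ := (Scheme.ΓSpecIso (CommRingCat.of R)).inv ≫ i.c.app (op ⊤) with hφ
  let q : Spec (CommRingCat.of (R ⧸ RingHom.ker φ.hom)) ⟶ Spec (CommRingCat.of R) :=
    Spec.map (CommRingCat.ofHom (Ideal.Quotient.mk (RingHom.ker φ.hom)))
  have : AlgebraicGeometry.IsClosedImmersion q :=
    IsClosedImmersion.spec_of_surjective _ Ideal.Quotient.mk_surjective
  have hq := Groth.Agent.SchMor12.isClosedImmersion_toLRSHom' q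
  have key : ∀ a : Γ(Spec (CommRingCat.of R), ⊤),
      q.app ⊤ a = 0 ↔ i.c.app (op ⊤) a = 0 := by
    intro a
    obtain ⟨r, rfl⟩ : ∃ r, (Scheme.ΓSpecIso (CommRingCat.of R)).inv r = a :=
      (ConcreteCategory.bijective_of_isIso (Scheme.ΓSpecIso (CommRingCat.of R)).inv).2 a
    have h1 : q.app ⊤ ((Scheme.ΓSpecIso (CommRingCat.of R)).inv r) =
        (Scheme.ΓSpecIso (CommRingCat.of (R ⧸ RingHom.ker φ.hom))).inv
          (Ideal.Quotient.mk (RingHom.ker φ.hom) r) :=
      (ConcreteCategory.congr_hom (Scheme.ΓSpecIso_inv_naturality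
        (CommRingCat.ofHom (Ideal.Quotient.mk (RingHom.ker φ.hom)))) r).symm
    refine (Iff.of_eq (congrArg (fun v => v = (0 : Γ(Spec (CommRingCat.of (R ⧸ RingHom.ker φ.hom)), ⊤))) h1)).trans ?_
    rw [map_eq_zero_iff _ (ConcreteCategory.bijective_of_isIso
      (Scheme.ΓSpecIso (CommRingCat.of (R ⧸ RingHom.ker φ.hom))).inv).1,
      Ideal.Quotient.eq_zero_iff_mem, RingHom.mem_ker]
    exact Iff.rfl
  obtain ⟨e, he⟩ := Groth.Agent.SchMor12.exists_iso_of_kills_iff i q.toLRSHom hi.1 hi.2.1 hq.1 hq.2.1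
    (fun V s => Groth.Agent.SchMor12.kills_of_affine i hi.2.2 q.toLRSHom
      (fun x => ⟨⊤, isAffineOpen_top _, trivial, fun a => (key a).2⟩) V s)
    (fun V s => Groth.Agent.SchMor12.kills_of_affine q.toLRSHom hq.2.2 i
      (fun x => ⟨⊤, isAffineOpen_top _, trivial, fun a => (key a).1⟩) V s)
  exact ⟨e, he⟩

end Groth.Agent.S9506
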