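import Groth.Statements.S9508
import Groth.Agent.SchMor12.QSep

set_option autoImplicit false
universe u
open SchMor

namespace Groth.Agent.S9508

open AlgebraicGeometry in
open CategoryTheory in
/-- (1) ⇔ (2): A morphism of schemes f : X → S is quasi-separated if and only if, whenever two affine
opens U and V of X both lie in the preimage f⁻¹(W) of one affine open W of S, their intersection U ∩
V is quasi-compact (equivalently, is covered by finitely many affine opens). -/
theorem result
    {X S : Scheme.{u}} (f : X ⟶ S) :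
    QuasiSeparated f ↔
      ∀ (U V : X.affineOpens) (W : S.affineOpens),
        (U : X.Opens) ≤ f ⁻¹ᵁ (W : S.Opens) → (V : X.Opens) ≤ f ⁻¹ᵁ (W : S.Opens) →
          IsCompact ((U : Set X) ∩ (V : Set X)) := by
  refine ⟨fun _ U V W hU hV => f.isQuasiSeparated_preimage W.2.isQuasiSeparated _ _ hU U.1.2
    U.2.isCompact hV V.1.2 V.2.isCompact, fun H => ?_⟩
  refine Groth.Agent.SchMor12.quasiSeparated_of_cover f (fun W : S.affineOpens => W)
    (iSup_affineOpens_eq_top S) fun W => ?_
  refine Groth.Agent.SchMor12.isQuasiSeparated_of_cover _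
    (fun U : {U : X.affineOpens // (U : X.Opens) ≤ f ⁻¹ᵁ (W : S.Opens)} => U.1) ?_
    fun U V => H U.1 V.1 W U.2 V.2
  refine le_antisymm (iSup_le fun U => U.2) fun x hx => ?_
  obtain ⟨U, hU, hxU, hle⟩ := TopologicalSpace.Opens.isBasis_iff_nbhd.mp X.isBasis_affineOpens hx
  exact TopologicalSpace.Opens.mem_iSup.2 ⟨⟨⟨U, hU⟩, hle⟩, hxU⟩

end Groth.Agent.S9508
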