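import Groth.Statements.S9513
import Groth.Agent.SchMor12.AffineBasisSheaf
import Mathlib.Topology.Sheaves.SheafCondition.Sites

set_option autoImplicit false
universe u
open SchMor

namespace Groth.Agent.S9513

open AlgebraicGeometry in
open CategoryTheory TopologicalSpace Opposite in
/-- (1) ⇔ (3): Let X be a scheme and B the set of affine opens of X, ordered by inclusion; let F be a
presheaf of sets on B (a functor on Bᵒᵖ) and E ∈ B the empty open. Then F is isomorphic to the
restriction to B of a sheaf of sets on X if and only if (a) F(∅) is a singleton and (b) for all U ∈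
B and sections f, g of O_X over U with U = D(f) ∪ D(g), writing V = D(f), W = D(g) and V ∩ W = D(fg)
(all in B), the map F(U) → F(V) × F(W) is injective with image exactly the pairs (s, t) whose
restrictions to D(fg) agree. (The order relations V, W ≤ U and D(fg) ≤ V, W are supplied as
hypotheses; they follow from the equations.) -/
theorem result (X : Scheme.{u})
    (F : (X.affineOpens)ᵒᵖ ⥤ Type u) (E : X.affineOpens) (hE : (E : X.Opens) = ⊥) :
    (∃ G : TopCat.Sheaf (Type u) X.carrier,
        Nonempty ((Monotone.functor (f := fun U : X.affineOpens => (U : X.Opens)) (fun _ _ h => h)).op ⋙ G.1 ≅ F)) ↔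
    ((Nonempty (F.obj (op E)) ∧ Subsingleton (F.obj (op E))) ∧
      ∀ (U V W VW : X.affineOpens) (f g : Γ(X, (U : X.Opens))),
        (V : X.Opens) = X.basicOpen f → (W : X.Opens) = X.basicOpen g →
        (VW : X.Opens) = X.basicOpen (f * g) → (U : X.Opens) = (V : X.Opens) ⊔ (W : X.Opens) →
        ∀ (hV : V ≤ U) (hW : W ≤ U) (h1 : VW ≤ V) (h2 : VW ≤ W),
        Function.Injective (fun s : F.obj (op U) => (F.map (homOfLE hV).op s, F.map (homOfLE hW).op s)) ∧
        Set.range (fun s : F.obj (op U) => (F.map (homOfLE hV).op s, F.map (homOfLE hW).op s)) =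
          {p | F.map (homOfLE h1).op p.1 = F.map (homOfLE h2).op p.2}) := by
  constructor
  · rintro ⟨G, ⟨e⟩⟩
    refine ⟨?_, fun U V W VW f g hVf hWg hVW hU hV hW h1 h2 => ?_⟩
    · let u := Limits.Types.isTerminalEquivUnique _ (G.isTerminalOfEqEmpty hE)
      let ei := (e.app (op E)).toEquiv
      exact ⟨⟨ei u.default⟩, ⟨fun a b => ei.symm.injective (Subsingleton.elim (h := @Unique.instSubsingleton _ u) _ _)⟩⟩
    have hnat : ∀ {P Q : X.affineOpens} (h : Q ≤ P) (a : G.1.obj (op (P : X.Opens))),
        e.hom.app (op Q) (G.1.map (homOfLE h : (Q : X.Opens) ⟶ P).op a) = F.map (homOfLE h).op (e.hom.app (op P) a) :=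
      fun h a => ConcreteCategory.congr_hom (e.hom.naturality (homOfLE h).op) a
    have hbij : ∀ P, Function.Bijective (e.hom.app (op P)) := fun P => (e.app (op P)).toEquiv.bijective
    let O : ULift.{u} Bool → X.Opens := fun b => if b.down then (V : X.Opens) else (W : X.Opens)
    have key : ∀ (v : G.1.obj (op (V : X.Opens))) (w : G.1.obj (op (W : X.Opens))),
        G.1.map (homOfLE h1 : (VW : X.Opens) ⟶ V).op v = G.1.map (homOfLE h2 : (VW : X.Opens) ⟶ W).op w →
        ∃! s : G.1.obj (op (U : X.Opens)), G.1.map (homOfLE hV : (V : X.Opens) ⟶ U).op s = v ∧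
          G.1.map (homOfLE hW : (W : X.Opens) ⟶ U).op s = w := by
      intro v w hvw
      have hVW' : (V : X.Opens) ⊓ W = VW := by rw [hVf, hWg, hVW, X.basicOpen_mul]
      let sf : ∀ b, G.1.obj (op (O b)) := fun b => match b with
        | ⟨true⟩ => v
        | ⟨false⟩ => w
      obtain ⟨s, hs, huniq⟩ := G.existsUnique_gluing' O (U : X.Opens)
        (fun b => homOfLE (match b with | ⟨true⟩ => hV | ⟨false⟩ => hW))
        (hU.le.trans (sup_le (le_iSup O ⟨true⟩) (le_iSup O ⟨false⟩))) sf (by
          rintro ⟨_ | _⟩ ⟨_ | _⟩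
          · rfl
          · have := congrArg (G.1.map (eqToHom ((inf_comm _ _).trans hVW')).op) hvw.symm
            rw [← FunctorToTypes.map_comp_apply, ← FunctorToTypes.map_comp_apply] at this
            exact this
          · have := congrArg (G.1.map (eqToHom hVW').op) hvw
            rw [← FunctorToTypes.map_comp_apply, ← FunctorToTypes.map_comp_apply] at this
            exact this
          · rfl)
      refine ⟨s, ⟨hs ⟨true⟩, hs ⟨false⟩⟩, fun s' hs' => huniq s' ?_⟩
      rintro ⟨_ | _⟩
      exacts [hs'.2, hs'.1]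
    refine ⟨fun a b hab => ?_, Set.ext fun p => ⟨?_, fun hp => ?_⟩⟩
    · obtain ⟨a, rfl⟩ := (hbij U).2 a
      obtain ⟨b, rfl⟩ := (hbij U).2 b
      have h3 := congrArg Prod.fst hab
      have h4 := congrArg Prod.snd hab
      simp only [← hnat] at h3 h4
      replace h3 := (hbij V).1 h3
      replace h4 := (hbij W).1 h4
      have hc : G.1.map (homOfLE h1 : (VW : X.Opens) ⟶ V).op (G.1.map (homOfLE hV : (V : X.Opens) ⟶ U).op a) =
          G.1.map (homOfLE h2 : (VW : X.Opens) ⟶ W).op (G.1.map (homOfLE hW : (W : X.Opens) ⟶ U).op a) := by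
        rw [← FunctorToTypes.map_comp_apply, ← FunctorToTypes.map_comp_apply]; rfl
      exact congrArg _ ((key _ _ hc).unique ⟨rfl, rfl⟩ ⟨h3.symm, h4.symm⟩)
    · rintro ⟨s, rfl⟩
      show F.map _ (F.map _ s) = F.map _ (F.map _ s)
      rw [← FunctorToTypes.map_comp_apply, ← FunctorToTypes.map_comp_apply]
      rfl
    · obtain ⟨p₁, p₂⟩ := p
      obtain ⟨v, rfl⟩ := (hbij V).2 p₁
      obtain ⟨w, rfl⟩ := (hbij W).2 p₂
      have hp' : F.map (homOfLE h1).op (e.hom.app (op V) v) = F.map (homOfLE h2).op (e.hom.app (op W) w) := hp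
      rw [← hnat, ← hnat] at hp'
      obtain ⟨s, ⟨hs1, hs2⟩, -⟩ := key v w ((hbij VW).1 hp')
      refine ⟨e.hom.app (op U) s, ?_⟩
      show (F.map _ _, F.map _ _) = _
      rw [← hnat, ← hnat, hs1, hs2]
  · rintro ⟨hempty, h⟩
    have hF : Groth.Agent.SchMor12.Glue F := by
      refine ⟨fun U hU => ?_, fun U f g hU a b ha hb => ?_, fun U f g hU v w hvw => ?_⟩
      · obtain rfl : U = E := Subtype.ext (hU.trans hE.symm)
        exact hempty
      all_goals
        have hfg := h U (Groth.Agent.SchMor12.D U f) (Groth.Agent.SchMor12.D U g)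
          (Groth.Agent.SchMor12.D U (f * g)) f g rfl rfl rfl hU (Groth.Agent.SchMor12.D_le U f)
          (Groth.Agent.SchMor12.D_le U g) (show X.basicOpen (f * g) ≤ X.basicOpen f by rw [X.basicOpen_mul]; exact inf_le_left)
          (show X.basicOpen (f * g) ≤ X.basicOpen g by rw [X.basicOpen_mul]; exact inf_le_right)
      · exact hfg.1 (Prod.ext ha hb)
      · obtain ⟨a, ha⟩ := hfg.2.ge (show (v, w) ∈ _ from hvw _ _ _)
        exact ⟨a, congrArg Prod.fst ha, congrArg Prod.snd ha⟩
    refine ⟨⟨Groth.Agent.SchMor12.ext F, Groth.Agent.SchMor12.isSheaf_ext hF⟩, ⟨?_⟩⟩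
    refine NatIso.ofComponents (fun U => Equiv.toIso
      { toFun := fun s => s.val U.unop le_rfl
        invFun := fun a => ⟨fun V hV => Groth.Agent.SchMor12.r F hV a,
          fun V W hV hW hVW => Groth.Agent.SchMor12.r_r F _ _ a⟩
        left_inv := fun s => Groth.Agent.SchMor12.Fam.ext (funext₂ fun V hV => s.nat U.unop V _ _ _)
        right_inv := fun a => Groth.Agent.SchMor12.r_self F _ a }) fun {U V} i => ?_
    ext s
    exact (s.nat U.unop V.unop le_rfl _ i.unop.le).symm

end Groth.Agent.S9513
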