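import Groth.Statements.S9516
import Groth.Agent.SubAvoid14.IdealMul
import Groth.Agent.EGA43.InjFibre.Scheme
import Groth.Agent.Coherent.QcohOps

set_option autoImplicit false
universe u
open CategoryTheory CategoryTheory.Limits AlgebraicGeometry
attribute [local instance] HasDerivedCategory.standard
open Coherent

open Groth.Agent Groth.Agent.Coherent Groth.Agent.SubAvoid14 CategoryTheory.Limits

namespace Groth.Agent.S9516

/-- Let X be a Noetherian scheme, F a quasi-coherent O_X-module, G a coherent O_X-module and I a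
quasi-coherent sheaf of ideals, with U the open complement of the closed subset cut out by I. If a
morphism ψ : I^n G → F restricts to zero on U, then ψ vanishes on I^N G for some N: there is a
morphism ι : I^N G → I^n G commuting with the inclusions into G and with ι ≫ ψ = 0. (Together with
the surjectivity statement this says that colim_n Hom(I^n G, F) → Hom(G|_U, F|_U) is bijective.) -/
theorem result (X : Scheme.{u}) [IsNoetherian X] (F G : X.Modules)
    (hF : Coh.IsQCoh F) (hG : Coh.IsCoh G) (I : X.IdealSheafData)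
    (U : X.Opens) (hU : (U : Set X) = (I.support : Set X)ᶜ) (n : ℕ)
    (ψ : (Dual3.idealMul (I ^ n)).obj G ⟶ F)
    (hψ : (Scheme.Modules.restrictFunctor U.ι).map ψ = 0) :
    ∃ (N : ℕ) (ι : (Dual3.idealMul (I ^ N)).obj G ⟶ (Dual3.idealMul (I ^ n)).obj G),
      ι ≫ Dual3.idealMulι (I ^ n) G = Dual3.idealMulι (I ^ N) G ∧ ι ≫ ψ = 0 := by
  haveI := hF
  haveI := hG.1
  let T : Set X := (I.support : Set X)
  have hIG : Coh.IsQCoh ((Dual3.idealMul (I ^ n)).obj G) := by
    haveI := EGA43.InjFibre.isQCoh_pullback (I ^ n).subschemeι G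
    haveI := Groth.Agent.Coherent.isQCoh_push (I ^ n).subschemeι ((Scheme.Modules.pullback (I ^ n).subschemeι).obj G)
    haveI : Coh.IsQCoh ((𝟭 X.Modules).obj G) := hG.1
    haveI : Coh.IsQCoh ((Scheme.Modules.pullback (I ^ n).subschemeι ⋙ Scheme.Modules.pushforward (I ^ n).subschemeι).obj G) :=
      ‹Coh.IsQCoh ((Coh.push (I ^ n).subschemeι).obj ((Scheme.Modules.pullback (I ^ n).subschemeι).obj G))›
    exact isQCoh_kernel _
  haveI := hIG
  haveI : Mono (Dual3.idealMulι (I ^ n) G) := inferInstance
  have hK : Coh.IsQCoh (kernel ψ) := isQCoh_kernel ψ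
  let a : kernel ψ ⟶ G := kernel.ι ψ ≫ Dual3.idealMulι (I ^ n) G
  haveI : Mono a := mono_comp _ _
  have hpow : ∀ z, z ∉ T → z ∉ ((I ^ n).support : Set X) := fun z hz => by
    rcases eq_or_ne n 0 with rfl | hn
    · simp
    · rw [Scheme.IdealSheafData.support_pow I n hn]; exact hz
  have hzero : ∀ z, z ∉ T → ∀ u, (DerSch.stalkFunctor X z).map ψ u = 0 := fun z hz u => by
    have hzU : z ∈ U := show z ∈ (U : Set X) by rw [hU]; exact hz
    have hn := congrArg (fun q => (DerSch.stalkFunctor X z).map q)
      ((Scheme.Modules.restrictAdjunction U.ι).unit.naturality ψ)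
    simp only [Functor.id_map, Functor.comp_map, hψ, Functor.map_zero, comp_zero, Functor.map_comp] at hn
    apply (bijective_stalk_restrictUnit F hzU).1
    rw [map_zero]
    exact congrArg (fun q : (DerSch.stalkFunctor X z).obj _ ⟶ _ => q u) hn
  obtain ⟨N, hN⟩ := exists_killed_pow I (isCoh_cokernel a hK hG) (support_cokernel_subset a fun z hz v => by
    obtain ⟨w, hw⟩ := (bijective_stalk_idealMulι (I ^ n) G (hpow z hz)).2 v
    obtain ⟨w', hw'⟩ := (((ShortComplex.ShortExact.moduleCat_exact_iff_function_exact _).1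
      ((ShortComplex.exact_kernel ψ).map (DerSch.stalkFunctor X z))) w).1 (hzero z hz w)
    refine ⟨w', ?_⟩
    rw [← stalk_comp_apply]
    exact (congrArg _ hw').trans hw)
  obtain ⟨b, hb⟩ := exists_lift_idealMul (I ^ (N + 1)) a hN
  exact ⟨N + 1, b ≫ kernel.ι ψ, by rw [Category.assoc]; exact hb,
    by rw [Category.assoc, kernel.condition, comp_zero]⟩

end Groth.Agent.S9516
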