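import Groth.Statements.S9518
import Groth.Agent.CechRes.QCoh
import Groth.Agent.CechRes.Sheaf
import Groth.Agent.DQCoh.AcyclicPush
import Groth.Agent.DQCoh.TildePush
import Groth.Agent.Coherent.RpushComp
import Groth.Agent.Coherent.CohBC.Shapes


set_option autoImplicit false
universe u
open CategoryTheory CategoryTheory.Limits AlgebraicGeometry
attribute [local instance] HasDerivedCategory.standard
open CechOX


set_option backward.isDefEq.respectTransparency false

namespace Groth.Agent.S9518Aux
open CategoryTheory CategoryTheory.Limits AlgebraicGeometry Groth.Agent Groth.Agent.Coherent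
attribute [local instance] HasDerivedCategory.standard

variable {X S : Scheme.{u}} [IsAffineHom (pullback.diagonal (terminal.from S))]

/-- A morphism from an affine scheme to a scheme with affine diagonal is affine. -/
theorem isAffineHom_of_source {U : Scheme.{u}} [IsAffine U] (g : U ⟶ S) : IsAffineHom g := by
  haveI : MorphismProperty.HasOfPostcompProperty @IsAffineHom (MorphismProperty.diagonal @IsAffineHom) :=
    MorphismProperty.hasOfPostcompProperty_iff_le_diagonal.2 le_rfl
  exact MorphismProperty.of_postcomp @IsAffineHom g (terminal.from S)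
    (show MorphismProperty.diagonal @IsAffineHom (terminal.from S) from
      ‹IsAffineHom (pullback.diagonal (terminal.from S))›)
    (by rw [terminal.comp_from]; infer_instance)

theorem isZero_rightDerived_pi {α : Type u} [Finite α] (F : α → X.Modules) (f : X ⟶ S)
    [HasInjectiveResolutions X.Modules] (i : ℕ)
    (h : ∀ a, IsZero ((Coh.Rpush f i).obj (F a))) : IsZero ((Coh.Rpush f i).obj (∏ᶜ F)) := by
  obtain ⟨n, ⟨e⟩⟩ := Finite.exists_equiv_fin α
  haveI : HasFiniteBiproducts X.Modules := HasFiniteBiproducts.of_hasFiniteProducts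
  let G : Fin n → X.Modules := fun j => F (e.symm j)
  have hG : IsZero ((Coh.Rpush f i).obj (⨁ G)) := by
    rw [IsZero.iff_id_eq_zero, ← CategoryTheory.Functor.map_id, ← biproduct.total, Functor.map_sum]
    refine Finset.sum_eq_zero fun j _ => ?_
    rw [Functor.map_comp]
    exact (h (e.symm j)).eq_of_tgt ((Coh.Rpush f i).map (biproduct.π G j)) 0 ▸ zero_comp
  exact hG.of_iso ((Coh.Rpush f i).mapIso (biproduct.isoProduct G ≪≫ Pi.reindex e.symm F)).symm

theorem main (f : X ⟶ S) [CompactSpace X]
    [IsAffineHom (pullback.diagonal (terminal.from X))]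
    (F : X.Modules) (hF : Coh.IsQCoh F) {ι : Type u} [Finite ι] (𝒰 : ι → X.Opens)
    (h𝒰 : ∀ i, IsAffineOpen (𝒰 i)) (hcov : ⨆ i, 𝒰 i = ⊤) [DCoh.HasRpush f] :
    (∀ p : ℕ, Coh.IsQCoh (((CechOX.relCech 𝒰 f).obj F).X p)) ∧
      Nonempty (DCoh.toD S (CechOX.relCechZ 𝒰 f F) ≅ (DCoh.Rpush f).obj (DCoh.inD X F)) := by
  haveI := hasInjectiveResolutions_modules X
  haveI : QuasiSeparated (terminal.from X) := ⟨inferInstance⟩
  haveI : QuasiSeparatedSpace X := quasiSeparatedSpace_of_quasiSeparated (terminal.from X)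
  haveI : QuasiSeparated (terminal.from S) := ⟨inferInstance⟩
  haveI : QuasiSeparatedSpace S := quasiSeparatedSpace_of_quasiSeparated (terminal.from S)
  haveI : QuasiCompact f := quasiCompact_of_compactSpace f
  haveI : QuasiSeparated f := inferInstance
  haveI := hF
  let C := (CechOX.cechSh 𝒰).obj F
  have hq : ∀ p, Coh.IsQCoh (C.X p) := fun p => CechRes.isQCoh_cech_term 𝒰 h𝒰 F p
  refine ⟨fun p => haveI := hq p; isQCoh_push f (C.X p), ?_⟩
  have hac : ∀ (p i : ℕ), 0 < i → IsZero ((Coh.Rpush f i).obj (C.X p)) := fun p i hi => by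
    refine isZero_rightDerived_pi (fun a : Fin (p + 1) → ι => (CechOX.pushRestrFam.flip.obj F).obj
      (Opposite.op (∏ᶜ fun k => 𝒰 (a k)))) f i fun a => ?_
    let W : X.Opens := ∏ᶜ fun k => 𝒰 (a k)
    have hW : IsAffineOpen W := by
      have e : W = ⨅ k, 𝒰 (a k) := le_antisymm (le_iInf fun k => leOfHom (Pi.π (fun k => 𝒰 (a k)) k))
        (leOfHom (Pi.lift fun k => homOfLE (iInf_le (fun k => 𝒰 (a k)) k)))
      rw [e]
      exact IsAffineOpen.iInf fun k => h𝒰 (a k)
    haveI : IsAffine W := hW
    haveI : IsAffineHom (W.ι ≫ f) := isAffineHom_of_source _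
    haveI : IsAffineHom W.ι := isAffineHom_of_source (S := X) _
    let N := (Scheme.Modules.restrictFunctor W.ι).obj F
    haveI : Coh.IsQCoh N := inferInstanceAs ((Scheme.Modules.restrictFunctor W.ι).obj F).IsQuasicoherent
    obtain ⟨e⟩ := nonempty_rpushAb_comp_affine W.ι f N i
    have h' : IsZero ((toAbFunctor S).obj ((Coh.Rpush f i).obj ((Coh.push W.ι).obj N))) :=
      ((isZero_rpushAb_of_isAffineHom (W.ι ≫ f) N i hi).of_iso e).of_iso ((toAbRpushNatIso f i).app _)
    show IsZero ((Coh.Rpush f i).obj ((Coh.push W.ι).obj N))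
    rw [IsZero.iff_id_eq_zero] at h' ⊢
    exact (toAbFunctor S).map_injective
      (((toAbFunctor S).map_id _).trans (h'.trans ((toAbFunctor S).map_zero _ _).symm))
  let φ : (CochainComplex.single₀ X.Modules).obj F ⟶ C :=
    (CochainComplex.fromSingle₀Equiv C F).symm ⟨CechOX.cechShAug 𝒰 F, CechRes.aug_d 𝒰 F⟩
  haveI : QuasiIso φ := ⟨fun p => by
    rcases p with _ | p
    · rw [quasiIsoAt_iff' φ 0 0 1 (by simp) (by simp),
        ShortComplex.quasiIso_iff_of_zeros _ (by simp) (by simp) (by exact C.shape 0 0 (by simp))]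
      have h0 : φ.f 0 = CechOX.cechShAug 𝒰 F := CochainComplex.fromSingle₀Equiv_symm_apply_f_zero _ _
      haveI := CechRes.mono_aug 𝒰 F hcov
      refine ⟨?_, by show Mono (φ.f 0); rw [h0]; infer_instance⟩
      refine ShortComplex.exact_of_iso ?_ (CechRes.exact_aug 𝒰 F hcov)
      exact ShortComplex.isoMk (Iso.refl _) (Iso.refl _) (Iso.refl _) (by simp [h0]) (by simp [C])
    · rw [quasiIsoAt_iff_exactAt φ (p + 1) (HomologicalComplex.exactAt_single_obj _ _ _ _ (by simp)),
        HomologicalComplex.exactAt_iff_isZero_homology]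
      exact CechRes.isZero_homology 𝒰 F hcov p⟩
  let CZ := C.extend ComplexShape.embeddingUpNat
  let ψ := HomologicalComplex.extendMap φ ComplexShape.embeddingUpNat
  haveI : QuasiIso ψ := (HomologicalComplex.quasiIso_extendMap_iff φ ComplexShape.embeddingUpNat).2 ‹_›
  let e₀ : DCoh.inD X F ≅ DerivedCategory.Q.obj CZ :=
    (DerivedCategory.singleFunctorIsoCompQ X.Modules 0).app F ≪≫
      DerivedCategory.Q.mapIso (HomologicalComplex.extendSingleIso ComplexShape.embeddingUpNat F
        (i := 0) (i' := (0 : ℤ)) rfl).symm ≪≫ asIso (DerivedCategory.Q.map ψ)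
  have hCZ : ∀ n : ℤ, DCat.Acyclic.Acy (Scheme.Modules.pushforward f) (CZ.X n) := fun n => by
    by_cases hn : 0 ≤ n
    · obtain ⟨p, rfl⟩ := Int.eq_ofNat_of_zero_le hn
      exact DCat.Acyclic.Acy.of_iso (fun i hi => hac p i hi) (C.extendXIso ComplexShape.embeddingUpNat rfl).symm
    · exact fun i _ => ((Scheme.Modules.pushforward f).rightDerived i).map_isZero
        (C.isZero_extend_X ComplexShape.embeddingUpNat n fun p hp => hn (by simp at hp; omega))
  haveI : CochainComplex.IsStrictlyGE CZ 0 := (CochainComplex.isStrictlyGE_iff _ _).2 fun n hn =>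
    C.isZero_extend_X ComplexShape.embeddingUpNat n fun p hp => by
      simp at hp; omega
  haveI := DQCoh.isIso_unit_boundedBelow f CZ 0 hCZ
  let q := HomotopyCategory.quotient X.Modules (ComplexShape.up ℤ)
  let e₁ : DerivedCategory.Q.obj (((Scheme.Modules.pushforward f).mapHomologicalComplex (ComplexShape.up ℤ)).obj CZ) ≅
      (DCoh.pushKh f).obj (q.obj CZ) :=
    ((DerivedCategory.quotientCompQhIso S.Modules).app _).symm
  let e₂ : (DCoh.pushKh f).obj (q.obj CZ) ≅ (DCoh.Rpush f).obj (DerivedCategory.Qh.obj (q.obj CZ)) :=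
    asIso (((DCoh.pushKh f).totalRightDerivedUnit DerivedCategory.Qh
      (HomotopyCategory.quasiIso X.Modules (ComplexShape.up ℤ))).app (q.obj CZ))
  exact ⟨DerivedCategory.Q.mapIso (HomologicalComplex.cohBCMapExtendIso (Scheme.Modules.pushforward f) C
      ComplexShape.embeddingUpNat).symm ≪≫ e₁ ≪≫ e₂ ≪≫
    (DCoh.Rpush f).mapIso ((DerivedCategory.quotientCompQhIso X.Modules).app CZ ≪≫ e₀.symm)⟩

end Groth.Agent.S9518Aux

namespace Groth.Agent.S9518

/-- Let f : X → S be a morphism of schemes, F a quasi-coherent O_X-module, X quasi-compact, and X and S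
with affine diagonal. For a finite covering 𝒰 of X by affine opens, the relative Čech complex Č(𝒰,
f, F) (terms: products of the direct images of F restricted to the finite intersections) is a
complex of quasi-coherent O_S-modules, and its image in the derived category of O_S-modules is
isomorphic to Rf_* F. (The published statement works in the bounded-below derived category and makes
the isomorphism functorial in F; this row uses the unbounded derived functor Rf_* under its
existence binder and asserts only the existence of an isomorphism.) -/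
theorem result {X S : Scheme.{u}} (f : X ⟶ S) [CompactSpace X]
    [IsAffineHom (pullback.diagonal (terminal.from X))] [IsAffineHom (pullback.diagonal (terminal.from S))]
    (F : X.Modules) (hF : Coh.IsQCoh F) {ι : Type u} [Finite ι] (𝒰 : ι → X.Opens)
    (h𝒰 : ∀ i, IsAffineOpen (𝒰 i)) (hcov : ⨆ i, 𝒰 i = ⊤) [DCoh.HasRpush f] :
    (∀ p : ℕ, Coh.IsQCoh (((CechOX.relCech 𝒰 f).obj F).X p)) ∧
      Nonempty (DCoh.toD S (CechOX.relCechZ 𝒰 f F) ≅ (DCoh.Rpush f).obj (DCoh.inD X F)) := by
  exact Groth.Agent.S9518Aux.main f F hF 𝒰 h𝒰 hcov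

end Groth.Agent.S9518
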