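import Groth.Statements.S9521
import Groth.Agent.SubAvoid14.Integral
import Groth.Agent.DCat.ProjPerfMap
import Groth.Agent.Coherent.CohBC.HomSheaf

set_option autoImplicit false
universe u
open Coherent

open Groth.Agent Groth.Agent.Coherent Groth.Agent.SubAvoid14 CategoryTheory.Limits TopologicalSpace

namespace Groth.Agent.S9521

open CategoryTheory CategoryTheory.Limits AlgebraicGeometry in
/-- Let X be a Noetherian scheme, i : Z → X a closed immersion with Z an integral scheme, ξ ∈ X the
image of the generic point of Z, and F a coherent O_X-module whose stalk F_ξ is annihilated by the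
maximal ideal of O_{X,ξ}. Then one can find r ≥ 0 together with a coherent ideal sheaf I ⊆ O_Z and a
monomorphism of O_X-modules i_*(I^⊕r) → F that becomes an isomorphism when restricted to some open
neighbourhood of ξ. -/
theorem result (X Z : Scheme.{u}) [IsNoetherian X]
    (i : Z ⟶ X) [IsClosedImmersion i] [IsIntegral Z] (F : X.Modules) (hF : Coh.IsCoh F)
    (hann : ∀ a ∈ IsLocalRing.maximalIdeal (X.presheaf.stalk (i (genericPoint Z))),
      ∀ m : ↑(F.presheaf.stalk (i (genericPoint Z))), a • m = 0) :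
    ∃ (r : ℕ) (I : Z.Modules) (ι : I ⟶ Coh.structureModule Z) (φ : (Coh.push i).obj (∐ fun _ : Fin r => I) ⟶ F),
      Mono ι ∧ Coh.IsCoh I ∧ Mono φ ∧
      ∃ U : X.Opens, i (genericPoint Z) ∈ U ∧ IsIso ((Scheme.Modules.restrictFunctor U.ι).map φ) := by
  haveI : IsLocallyNoetherian Z := LocallyOfFiniteType.isLocallyNoetherian i
  obtain ⟨T, N, a, hT, hξ, hma, hN, hkN, hbij⟩ := exists_killed_sub i hF
    (fun r hr m => hann r (by rwa [pow_one] at hr) m)
  haveI := hma
  let N' := (Scheme.Modules.pullback i).obj N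
  have hN' : Coh.IsCoh N' := isCoh_pullback_of_killed i hkN hN
  obtain ⟨U₀, hU₀, ⟨e⟩⟩ := SDiv28.GenRank.exists_open_free N' hN'.1 hN'.2
  let r := Module.finrank (Z.presheaf.stalk (genericPoint Z)) (N'.presheaf.stalk (genericPoint Z))
  let R := Scheme.Modules.restrictFunctor U₀.ι
  let φ₀ : R.obj (FlatMod.freeMod Z r) ⟶ R.obj N' := (CohBC.freeModRestrictIso U₀.ι r).hom ≫ e.inv
  haveI : IsIso φ₀ := inferInstanceAs (IsIso ((CohBC.freeModRestrictIso U₀.ι r).hom ≫ e.inv))
  have hfree : Coh.IsCoh (FlatMod.freeMod Z r) := CohBC.isCoh_of_isFinLocFree (DCat.ProjPerf.isFinLocFree_freeMod r)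
  obtain ⟨F', ι, φ', hι, hF', hιU, hφ', hpure⟩ := exists_hom_extension' (FlatMod.freeMod Z r) N' hfree hN' U₀ φ₀
  haveI := hι
  haveI := hιU
  haveI : IsIso (R.map φ') := by rw [hφ']; infer_instance
  haveI : Mono φ' := Preadditive.mono_of_cancel_zero _ fun {P} t ht => hpure P t fun z hz w => by
    apply (bijective_of_isIso_restrict φ' U₀ hz).1
    rw [map_zero, stalk_comp_apply, ht]
    exact stalk_zero_apply w
  haveI := hfree.1
  haveI := hF'.1
  obtain ⟨I, j, b, hj, hI, hb, hbι, hjb⟩ := exists_ideal_sum_lift ι hF' U₀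
    (fun z hz => (bijective_of_isIso_restrict ι U₀ hz).2) (isQCoh_cokernel ι)
  haveI := hb
  haveI := hj
  have hψ : ∀ z ∈ U₀, Function.Bijective ((DerSch.stalkFunctor Z z).map (b ≫ φ')) := fun z hz => by
    let St := DerSch.stalkFunctor Z z
    haveI : IsIso (St.map j) := (ConcreteCategory.isIso_iff_bijective _).2 (hjb z hz)
    haveI : Epi (St.map (Limits.Sigma.map fun _ : Fin r => j)) := ⟨fun g h hgh => by
      refine (isColimitOfPreserves St
        (coproductIsCoproduct fun _ : Fin r => Coh.structureModule Z)).hom_ext fun k => ?_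
      have h1 := congrArg (fun q => St.map (Limits.Sigma.ι (fun _ : Fin r => I) k.as) ≫ q) hgh
      simp only [← Category.assoc, ← Functor.map_comp, Limits.Sigma.ι_map] at h1
      simp only [Functor.map_comp, Category.assoc] at h1
      exact (cancel_epi (St.map j)).1 h1⟩
    have hs : Function.Surjective (St.map b) := fun v => by
      obtain ⟨w, hw⟩ := (ModuleCat.epi_iff_surjective _).1
        (inferInstance : Epi (St.map (Limits.Sigma.map fun _ : Fin r => j))) (St.map ι v)
      refine ⟨w, (bijective_of_isIso_restrict ι U₀ hz).1 ?_⟩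
      rw [stalk_comp_apply, hbι]
      exact hw
    have h2 := (bijective_of_isIso_restrict φ' U₀ hz).comp
      ⟨(ModuleCat.mono_iff_injective (St.map b)).1 inferInstance, hs⟩
    rwa [show ⇑(St.map φ') ∘ ⇑(St.map b) = ⇑(St.map (b ≫ φ')) from funext fun _ => stalk_comp_apply _ _ _] at h2
  haveI : (Coh.push i).IsRightAdjoint := (Scheme.Modules.pullbackPushforwardAdjunction i).isRightAdjoint
  obtain ⟨W, hW, hWU⟩ := i.isClosedEmbedding.isInducing.isOpen_iff.1 U₀.2
  have hηU₀ : genericPoint Z ∈ (U₀ : Set Z) :=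
    ((genericPoint_spec Z).mem_open_set_iff U₀.2).2 (by simpa using hU₀)
  have hηW : i (genericPoint Z) ∈ W := by
    exact (show genericPoint Z ∈ i ⁻¹' W from hWU.ge hηU₀)
  let φ := (Coh.push i).map (b ≫ φ') ≫ (clIso i hkN).inv ≫ a
  let U : X.Opens := ⟨W ∩ Tᶜ, hW.inter hT.isOpen_compl⟩
  refine ⟨r, I, j, φ, hj, hI, inferInstance, U, ⟨hηW, hξ⟩, ?_⟩
  haveI : IsIso ((Scheme.Modules.restrictFunctor U.ι).map a) :=
    isIso_restrict_of_bijective a U fun z hz => hbij z hz.2
  haveI : IsIso ((Scheme.Modules.restrictFunctor U.ι).map ((Coh.push i).map (b ≫ φ'))) := by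
    refine Scheme.Modules.Hom.isIso_iff_isIso_app.2 fun V => (ConcreteCategory.isIso_iff_bijective _).2 ?_
    exact bijective_app_of_stalks (b ≫ φ') (i ⁻¹ᵁ (U.ι ''ᵁ V)) fun z hz => hψ z <| by
      exact hWU.le (show z ∈ i ⁻¹' W from (U.ι_image_le V hz).1)
  show IsIso ((Scheme.Modules.restrictFunctor U.ι).map ((Coh.push i).map (b ≫ φ') ≫ (clIso i hkN).inv ≫ a))
  rw [(Scheme.Modules.restrictFunctor U.ι).map_comp, (Scheme.Modules.restrictFunctor U.ι).map_comp]
  infer_instance

end Groth.Agent.S9521
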