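import Groth.Statements.S9522
import Groth.Agent.SubAvoid14.Roof
import Groth.Agent.Coherent.DevissageTwoThree

set_option autoImplicit false
universe u
open CategoryTheory CategoryTheory.Limits AlgebraicGeometry
attribute [local instance] HasDerivedCategory.standard
open Coherent

open Groth.Agent Groth.Agent.Coherent Groth.Agent.AssSch12 Groth.Agent.SubAvoid14 CategoryTheory.Limits TopologicalSpace

namespace Groth.Agent.S9522

/-- Let X be a Noetherian scheme, Z₀ ⊆ X an irreducible closed subset with generic point ξ, and P an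
isomorphism-invariant property of O_X-modules that holds for every zero module and such that (1) for
every short exact sequence 0 → F₁ → F → F₂ → 0 of coherent modules, P(F₁) and P(F₂) imply P(F); (2)
for coherent F, P(F^⊕r) for some r ≥ 1 implies P(F); (3) P holds for i_*I for every closed immersion
i : Z → X with Z integral, i(Z) a proper subset of Z₀, and every quasi-coherent ideal sheaf I ⊆ O_Z;
(4) there is a coherent module G with support equal to Z₀, whose stalk at ξ is annihilated by the
maximal ideal of O_{X,ξ}, and such that for every quasi-coherent sheaf of ideals J on X with ξ ∉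
V(J) there is a quasi-coherent submodule G' ⊆ J·G whose inclusion into G induces an isomorphism on
stalks at ξ and for which P holds. Then P holds for every coherent O_X-module whose support is
contained in Z₀. (The published statement does not ask that P hold for the zero module, although its
proof uses this for a filtration with no steps; without it the conclusion fails for the zero module
when Z₀ is a closed point: on the spectrum of a field, with P(F) meaning that F is nonzero, every
other hypothesis holds. This row assumes that P holds for every zero module.) -/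
theorem result (X : Scheme.{u}) [IsNoetherian X]
    (Z₀ : Set X) (hZ₀ : IsClosed Z₀) (hirr : IsIrreducible Z₀) (ξ : X) (hξ : ξ ∈ Z₀ ∧ closure {ξ} = Z₀)
    (P : X.Modules → Prop) (hP : ∀ M N : X.Modules, Nonempty (M ≅ N) → P M → P N)
    (h₀ : ∀ M : X.Modules, IsZero M → P M)
    (h₁ : ∀ S : ShortComplex X.Modules, S.ShortExact → Coh.IsCoh S.X₁ → Coh.IsCoh S.X₂ → Coh.IsCoh S.X₃ →
      P S.X₁ → P S.X₃ → P S.X₂)
    (h₂ : ∀ (F : X.Modules) (r : ℕ), Coh.IsCoh F → 1 ≤ r → P (∐ fun _ : Fin r => F) → P F)
    (h₃ : ∀ (Z : Scheme.{u}) (i : Z ⟶ X), IsClosedImmersion i → IsIntegral Z →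
      Set.range ⇑i ⊆ Z₀ → Set.range ⇑i ≠ Z₀ →
      ∀ (I : Z.Modules) (ι : I ⟶ Coh.structureModule Z), Mono ι → Coh.IsQCoh I → P ((Coh.push i).obj I))
    (h₄ : ∃ G : X.Modules, Coh.IsCoh G ∧ CohB1.support G = Z₀ ∧
      (∀ a ∈ IsLocalRing.maximalIdeal (X.presheaf.stalk ξ), ∀ m : ↑(G.presheaf.stalk ξ), a • m = 0) ∧
      ∀ J : X.IdealSheafData, ξ ∉ (J.support : Set X) →
        ∃ (G' : X.Modules) (ι' : G' ⟶ (Dual3.idealMul J).obj G), Mono ι' ∧ Coh.IsQCoh G' ∧
          IsIso ((TopCat.Presheaf.stalkFunctor _ ξ).map (ι' ≫ Dual3.idealMulι J G).mapPresheaf) ∧ P G')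
    (F : X.Modules) (hF : Coh.IsCoh F) (hsupp : CohB1.support F ⊆ Z₀) : P F := by
  haveI := Groth.Agent.Coherent.hasFiniteBiproducts X
  have hK : ExtClass P := ⟨fun e h => hP _ _ ⟨e⟩ h, h₀, h₁⟩
  refine mem_of_support hK Z₀ (fun Z hZ _ hZX y hy Z₁ hZ₁ hsm => ?_) ⟨Z₀, hZ₀⟩ subset_rfl F hF hsupp
  by_cases hyξ : y = ξ
  · subst hyξ
    rintro C hC hCZ ⟨e⟩
    obtain ⟨G, hG, hGs, hGk, hJ⟩ := h₄
    have hk : Killed y 1 G := fun r hr m => hGk r (by rwa [pow_one] at hr) m
    have hyG : y ∈ CohB1.support G := by rw [hGs]; exact hξ.1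
    obtain ⟨n, ⟨eF⟩⟩ := exists_biproduct_stalk_iso hG hk hyG e
    have hCn : Coh.IsCoh (⨁ fun _ : Fin (n + 1) => C) := isCoh_biproduct _ fun _ => hC
    obtain ⟨E, a, b, hE, hma, hmb, hab, hbb⟩ := exists_roof hCn hG eF hk
    haveI := hma
    haveI := hmb
    have hQ : Coh.IsCoh (cokernel b) := isCoh_cokernel b hE.1 hG
    let J := annSheaf hQ.1 hQ.2
    obtain ⟨G', ι', hι', hG'q, hiso, hPG'⟩ := hJ J (by
      rw [support_annSheaf]; exact notMem_support_cokernel b hbb.2)
    obtain ⟨c, hc⟩ := exists_lift_idealMul J b (killed_annSheaf hQ.1 hQ.2)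
    haveI := hι'
    haveI : Mono c := mono_of_mono_fac hc
    have hG' : Coh.IsCoh G' := isCoh_of_mono (ι' ≫ Dual3.idealMulι J G) hG hG'q
    have hs : Function.Surjective ((DerSch.stalkFunctor X y).map (ι' ≫ c ≫ a)) := fun v => by
      obtain ⟨w, rfl⟩ := hab.2 v
      haveI := hiso
      obtain ⟨u, hu⟩ := (ConcreteCategory.bijective_of_isIso
        ((TopCat.Presheaf.stalkFunctor _ y).map (ι' ≫ Dual3.idealMulι J G).mapPresheaf)).2
        ((DerSch.stalkFunctor X y).map b w)
      refine ⟨u, ?_⟩
      have h1 : (DerSch.stalkFunctor X y).map (ι' ≫ c) u = w := hbb.1 (by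
        rw [stalk_comp_apply, Category.assoc, hc]
        exact hu)
      rw [← h1, stalk_comp_apply, Category.assoc]
    haveI : Mono (ι' ≫ c ≫ a) := inferInstance
    exact h₂ C (n + 1) hC (Nat.le_add_left 1 n) (hP _ _ ⟨biproduct.isoCoproduct _⟩
      (mem_of_mono_stalk hK hsm (ι' ≫ c ≫ a) hG' hCn (support_biproduct_subset _ fun _ => hCZ) hs hPG'))
  · refine oneK_of_ideals hK hsm fun I ι hι hI _ => h₃ _ _ inferInstance inferInstance ?_ ?_ I ι hι hI
    · rw [range_clι, hy]; exact hZX
    · rw [range_clι]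
      intro h
      rw [← hξ.2] at h
      exact hyξ ((show IsGenericPoint y (closure {ξ}) from h).eq isGenericPoint_closure)

end Groth.Agent.S9522
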