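import Groth.Statements.S9525
import Groth.Agent.SubAvoid14.Extend
import Groth.Agent.Coherent.FinitePres

set_option autoImplicit false
universe u
open Coherent

open Groth.Agent Groth.Agent.Coherent CategoryTheory.Limits TopologicalSpace

namespace Groth.Agent.S9525

open CategoryTheory CategoryTheory.Limits AlgebraicGeometry in
/-- Let X be a locally Noetherian scheme, F and G coherent O_X-modules, φ : G → F a morphism and x ∈ X.
(1) If F_x = 0 there is an open neighbourhood U of x with F|_U = 0. (2) If the stalk map φ_x : G_x →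
F_x is injective there is an open neighbourhood U of x with φ|_U injective. (4) If φ_x is bijective
there is an open neighbourhood U of x with φ|_U an isomorphism. (Part (3), surjectivity, is the
finite-type statement valid on any ringed space and is not restated.) -/
theorem result (X : Scheme.{u}) [IsLocallyNoetherian X]
    (F G : X.Modules) (hF : Coh.IsCoh F) (hG : Coh.IsCoh G) (φ : G ⟶ F) (x : X) :
    (Subsingleton ↑(F.presheaf.stalk x) →
      ∃ U : X.Opens, x ∈ U ∧ IsZero ((Scheme.Modules.restrictFunctor U.ι).obj F)) ∧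
    (Function.Injective ((TopCat.Presheaf.stalkFunctor _ x).map φ.mapPresheaf).hom →
      ∃ U : X.Opens, x ∈ U ∧ Mono ((Scheme.Modules.restrictFunctor U.ι).map φ)) ∧
    (Function.Bijective ((TopCat.Presheaf.stalkFunctor _ x).map φ.mapPresheaf).hom →
      ∃ U : X.Opens, x ∈ U ∧ IsIso ((Scheme.Modules.restrictFunctor U.ι).map φ)) := by
  have hstalk : ∀ (M N : X.Modules) (a : M ⟶ N) (z : X), ⇑((TopCat.Presheaf.stalkFunctor _ z).map a.mapPresheaf).hom =
      ⇑((DerSch.stalkFunctor X z).map a) := fun _ _ _ _ => rfl
  have hsupp : ∀ (M : X.Modules), Coh.IsCoh M → IsClosed (CohB1.support M) := fun M hM =>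
    isClosed_support M (locallyFinGen_of_isFT M hM.2)
  have hinj : Function.Injective ((TopCat.Presheaf.stalkFunctor _ x).map φ.mapPresheaf).hom →
      x ∉ CohB1.support (kernel φ) := fun h hx => hx (subsingleton_of_forall_eq 0 fun v => by
    apply (ModuleCat.mono_iff_injective ((DerSch.stalkFunctor X x).map (kernel.ι φ))).1 inferInstance
    apply h
    rw [hstalk, stalk_comp_apply, kernel.condition]
    exact (stalk_zero_apply v).trans ((congrArg _ (map_zero _)).trans (map_zero _)).symm)
  have hker := isCoh_kernel φ hG hF.1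
  have hinj' : ∀ z, z ∉ CohB1.support (kernel φ) → Function.Injective ((DerSch.stalkFunctor X z).map φ) := fun z hz =>
    (injective_iff_map_eq_zero ((DerSch.stalkFunctor X z).map φ).hom).2 fun v hv => by
      obtain ⟨w, rfl⟩ := (((ShortComplex.ShortExact.moduleCat_exact_iff_function_exact _).1
        ((ShortComplex.exact_kernel φ).map (DerSch.stalkFunctor X z))) v).1 hv
      rw [show w = 0 from (not_not.1 hz : Subsingleton ((kernel φ).presheaf.stalk z)).elim _ _]
      exact map_zero _
  refine ⟨fun h => ?_, fun h => ?_, fun h => ?_⟩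
  · let U : X.Opens := ⟨(CohB1.support F)ᶜ, (hsupp F hF).isOpen_compl⟩
    refine ⟨U, not_not.2 h, ?_⟩
    haveI := SubAvoid14.isIso_restrict_of_bijective (0 : F ⟶ F) U fun z hz => by
      have hs : Subsingleton ((DerSch.stalkFunctor X z).obj F) := not_not.1 hz
      exact ⟨fun a b _ => hs.elim a b, fun b => ⟨b, hs.elim _ _⟩⟩
    rw [IsZero.iff_id_eq_zero]
    refine (IsIso.hom_inv_id ((Scheme.Modules.restrictFunctor U.ι).map (0 : F ⟶ F))).symm.trans ?_
    refine (congrArg (· ≫ _) ((Scheme.Modules.restrictFunctor U.ι).map_zero F F)).trans ?_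
    exact zero_comp
  · refine ⟨⟨(CohB1.support (kernel φ))ᶜ, (hsupp _ hker).isOpen_compl⟩, hinj h, ?_⟩
    exact mono_of_sections_injective _ fun V =>
      TopCat.Presheaf.app_injective_of_stalkFunctor_map_injective
        (F := ⟨G.presheaf, G.isSheaf⟩) φ.mapPresheaf _ fun z hz => hinj' z (Scheme.Opens.ι_image_le _ V hz)
  · have hcok := isCoh_cokernel φ hG.1 hF
    let U : X.Opens := ⟨(CohB1.support (kernel φ) ∪ CohB1.support (cokernel φ))ᶜ,
      ((hsupp _ hker).union (hsupp _ hcok)).isOpen_compl⟩
    refine ⟨U, fun hx => hx.elim (hinj h.1) fun hc => hc ?_, ?_⟩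
    · refine subsingleton_of_forall_eq 0 fun v => ?_
      obtain ⟨w, rfl⟩ := (ModuleCat.epi_iff_surjective ((DerSch.stalkFunctor X x).map (cokernel.π φ))).1 inferInstance v
      obtain ⟨u, rfl⟩ := h.2 w
      refine (stalk_comp_apply φ (cokernel.π φ) u).trans ?_
      rw [cokernel.condition]
      exact stalk_zero_apply _
    · refine SubAvoid14.isIso_restrict_of_bijective φ U fun z hz => ⟨hinj' z fun h => hz (Or.inl h), fun v => ?_⟩
      exact (((ShortComplex.ShortExact.moduleCat_exact_iff_function_exact _).1
        ((ShortComplex.exact_cokernel φ).map (DerSch.stalkFunctor X z))) v).1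
        ((not_not.1 fun h => hz (Or.inr h) : Subsingleton ((cokernel φ).presheaf.stalk z)).elim _ _)

end Groth.Agent.S9525
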