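import Groth.Statements.S9526
import Groth.Agent.Coherent.Existence.HomAffine
import Groth.Agent.Coherent.InternalHomLocal
import Groth.Agent.EGA43.QcohFP
import Groth.Agent.Coherent.FiniteType
import Groth.Agent.Coherent.Devissage


set_option autoImplicit false
universe u
open Coherent

open CategoryTheory CategoryTheory.Limits AlgebraicGeometry
open Groth.Agent Groth.Agent.Coherent Groth.Agent.Coherent.Existence Groth.Agent.PicLib Groth.Agent.AmpleLib
set_option backward.isDefEq.respectTransparency false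
set_option maxHeartbeats 1000000

namespace Groth.Agent.S9526

open CategoryTheory CategoryTheory.Limits AlgebraicGeometry in
/-- Let X be a locally Noetherian scheme, F and G coherent O_X-modules, x ∈ X and ψ : G_x → F_x an
O_{X,x}-linear map. Then there are an open neighbourhood U of x and a morphism φ : G|_U → F|_U with
φ_x = ψ (the stalk map of φ at x, composed with the canonical identifications of the stalks of G|_U
and F|_U at x with G_x and F_x, is ψ). -/
theorem result (X : Scheme.{u}) [IsLocallyNoetherian X]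
    (F G : X.Modules) (hF : Coh.IsCoh F) (hG : Coh.IsCoh G) (x : X)
    (ψ : ↑(G.presheaf.stalk x) →ₗ[X.presheaf.stalk x] ↑(F.presheaf.stalk x)) :
    ∃ (U : X.Opens) (hx : x ∈ U)
      (φ : (Scheme.Modules.restrictFunctor U.ι).obj G ⟶ (Scheme.Modules.restrictFunctor U.ι).obj F),
      (Scheme.Modules.restrictStalkNatIso U.ι (⟨x, hx⟩ : U)).inv.app G ≫
          (TopCat.Presheaf.stalkFunctor _ (⟨x, hx⟩ : U)).map φ.mapPresheaf ≫
            (Scheme.Modules.restrictStalkNatIso U.ι (⟨x, hx⟩ : U)).hom.app F =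
        AddCommGrpCat.ofHom ψ.toAddMonoidHom := by
  classical
  have := hF.1
  have := hG.1
  obtain ⟨_, ⟨W, hW, rfl⟩, hxW, -⟩ := X.isBasis_affineOpens.exists_subset_of_mem_open
    (Set.mem_univ x) isOpen_univ
  letI := (X.presheaf.germ W x hxW).hom.toAlgebra
  letI := Module.compHom (F.presheaf.stalk x) (X.presheaf.germ W x hxW).hom
  letI := Module.compHom (G.presheaf.stalk x) (X.presheaf.germ W x hxW).hom
  haveI : IsNoetherianRing Γ(X, W) := IsLocallyNoetherian.component_noetherian ⟨W, hW⟩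
  haveI : Module.Finite Γ(X, W) Γ(G, W) := ((isCoh_iff_finite_sections G).1 hG).2 W hW
  haveI : Module.FinitePresentation Γ(X, W) Γ(G, W) := Module.finitePresentation_of_finite _ _
  let germF : Γ(F, W) →ₗ[Γ(X, W)] F.presheaf.stalk x :=
    { toFun := fun a => F.presheaf.germ W x hxW a
      map_add' := fun a b => map_add _ a b
      map_smul' := fun r a => QCohLoc.germ_smul' F hxW r a }
  let ψW : Γ(G, W) →ₗ[Γ(X, W)] F.presheaf.stalk x :=
    { toFun := fun a => ψ (G.presheaf.germ W x hxW a)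
      map_add' := fun a b => by rw [map_add, map_add]
      map_smul' := fun r a => by
        rw [QCohLoc.germ_smul' G hxW r a]
        exact ψ.map_smul _ _ }
  haveI := EGA43.QcohFP.isLocalizedModule_germ F hW hxW germF fun _ => rfl
  obtain ⟨g, s, hgs⟩ := Module.FinitePresentation.exists_lift_of_isLocalizedModule
    (hW.primeIdealOf ⟨x, hxW⟩).asIdeal.primeCompl germF ψW
  have hxV : x ∈ X.basicOpen (s : Γ(X, W)) := by
    rw [Scheme.mem_basicOpen _ _ _ hxW]
    haveI := hW.isLocalization_stalk ⟨x, hxW⟩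
    exact (IsLocalization.AtPrime.isUnit_to_map_iff (X.presheaf.stalk x)
      (hW.primeIdealOf ⟨x, hxW⟩).asIdeal (s : Γ(X, W))).2 s.2
  have hVW : X.basicOpen (s : Γ(X, W)) ≤ W := X.basicOpen_le _
  obtain ⟨t, ht⟩ := (isUnit_rmap (s : Γ(X, W)) (le_refl (X.basicOpen (s : Γ(X, W))))).exists_left_inv
  obtain ⟨φ₀, hφ₀⟩ := exists_locHom hW g
  let Φ : locHom G F (X.basicOpen (s : Γ(X, W))) := t • locHomRes G F hVW φ₀
  refine ⟨X.basicOpen (s : Γ(X, W)), hxV, restrictHom Φ, ?_⟩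
  refine TopCat.Presheaf.stalk_hom_ext G.presheaf fun U₀ hxU₀ => ConcreteCategory.hom_ext _ _ fun a₀ => ?_
  obtain ⟨f, hfU, hxf⟩ := hW.exists_basicOpen_le (V := U₀ ⊓ X.basicOpen (s : Γ(X, W))) ⟨x, hxU₀, hxV⟩ hxW
  obtain ⟨k, b, hb⟩ := qcoh_exists_pow_smul hW G f (resM G (hfU.trans inf_le_left) a₀)
  have hfV : X.basicOpen f ≤ X.basicOpen (s : Γ(X, W)) := hfU.trans inf_le_right
  have hU₀ : G.presheaf.germ U₀ x hxU₀ a₀ = G.presheaf.germ (X.basicOpen f) x hxf
      (resM G (hfU.trans inf_le_left) a₀) :=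
    (G.presheaf.germ_res_apply (homOfLE (hfU.trans inf_le_left)) x hxf a₀).symm
  let ι := (X.basicOpen (s : Γ(X, W))).ι
  have hU' : X.basicOpen f ≤ ι ''ᵁ (ι ⁻¹ᵁ X.basicOpen f) := by
    rw [Scheme.Hom.image_preimage_eq_opensRange_inf, Scheme.Opens.opensRange_ι]
    exact le_inf hfV le_rfl
  have hU'f : ι ''ᵁ (ι ⁻¹ᵁ X.basicOpen f) ≤ X.basicOpen f := by
    rw [Scheme.Hom.image_preimage_eq_opensRange_inf]
    exact inf_le_right
  let a' : Γ(G, ι ''ᵁ (ι ⁻¹ᵁ X.basicOpen f)) := resM G (hU'f.trans (hfU.trans inf_le_left)) a₀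
  have e1 : G.presheaf.germ U₀ x hxU₀ a₀ =
      G.presheaf.germ (ι ''ᵁ (ι ⁻¹ᵁ X.basicOpen f)) x (hU' hxf) a' :=
    (G.presheaf.germ_res_apply (homOfLE (hU'f.trans (hfU.trans inf_le_left))) x (hU' hxf) a₀).symm
  show (Scheme.Modules.restrictStalkNatIso ι ⟨x, hxV⟩).hom.app F
      ((TopCat.Presheaf.stalkFunctor Ab.{u} (⟨x, hxV⟩ : (X.basicOpen (s : Γ(X, W))).toScheme)).map
        (restrictHom Φ).mapPresheaf
        ((Scheme.Modules.restrictStalkNatIso ι ⟨x, hxV⟩).inv.app G (G.presheaf.germ U₀ x hxU₀ a₀))) =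
    ψ (G.presheaf.germ U₀ x hxU₀ a₀)
  have e2 : (Scheme.Modules.restrictStalkNatIso ι ⟨x, hxV⟩).inv.app G (G.presheaf.germ U₀ x hxU₀ a₀) =
      (G.restrict ι).presheaf.germ (ι ⁻¹ᵁ X.basicOpen f) ⟨x, hxV⟩ hxf a' :=
    (congrArg _ e1).trans (ConcreteCategory.congr_hom
      (Scheme.Modules.germ_restrictStalkNatIso_inv_app (f := ι) ⟨x, hxV⟩ G
        (U := ι ⁻¹ᵁ X.basicOpen f) hxf) a')
  refine (congrArg (fun v => (Scheme.Modules.restrictStalkNatIso ι ⟨x, hxV⟩).hom.app F
    ((TopCat.Presheaf.stalkFunctor Ab.{u} (⟨x, hxV⟩ : (X.basicOpen (s : Γ(X, W))).toScheme)).map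
      (restrictHom Φ).mapPresheaf v)) e2).trans ?_
  refine (congrArg ((Scheme.Modules.restrictStalkNatIso ι ⟨x, hxV⟩).hom.app F)
    (TopCat.Presheaf.stalkFunctor_map_germ_apply (ι ⁻¹ᵁ X.basicOpen f) ⟨x, hxV⟩ hxf
      (restrictHom Φ).mapPresheaf a')).trans ?_
  refine (ConcreteCategory.congr_hom (Scheme.Modules.germ_restrictStalkNatIso_hom_app (f := ι) ⟨x, hxV⟩ F
    (U := ι ⁻¹ᵁ X.basicOpen f) hxf) _).trans ?_
  -- descend to `D(f)`
  refine (F.presheaf.germ_res_apply (homOfLE hU') x hxf _).symm.trans ?_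
  let a : Γ(G, X.basicOpen f) := resM G (hfU.trans inf_le_left) a₀
  have ea : resM F hU' ((restrictHom Φ).app (ι ⁻¹ᵁ X.basicOpen f) a') = ev Φ (X.basicOpen f) hfV a := by
    rw [restrictHom_app]
    refine (ev_res Φ _ hU' _).trans ?_
    rw [resM_resM]
  refine (congrArg (F.presheaf.germ (X.basicOpen f) x hxf) ea).trans ?_
  rw [hU₀]
  -- clear denominators
  have hu : IsUnit (X.presheaf.germ W x hxW (f ^ k)) := by
    rw [map_pow]; exact ((Scheme.mem_basicOpen _ _ _ hxW).1 hxf).pow k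
  refine hu.smul_left_cancel.1 ?_
  have hk : X.presheaf.germ W x hxW (f ^ k) =
      X.presheaf.germ (X.basicOpen f) x hxf (rmap (X.basicOpen_le f) (f ^ k)) :=
    (X.presheaf.germ_res_apply (homOfLE (X.basicOpen_le f)) x hxf (f ^ k)).symm
  have hb' : G.presheaf.germ W x hxW b =
      X.presheaf.germ W x hxW (f ^ k) • G.presheaf.germ (X.basicOpen f) x hxf a := by
    rw [hk, ← QCohLoc.germ_smul' G hxf]
    exact (G.presheaf.germ_res_apply (homOfLE (X.basicOpen_le f)) x hxf b).symm.trans (congrArg _ hb)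
  have hg : F.presheaf.germ W x hxW (g b) = X.presheaf.germ W x hxW (s : Γ(X, W)) • ψ (G.presheaf.germ W x hxW b) :=
    LinearMap.congr_fun hgs b
  have hts : X.presheaf.germ (X.basicOpen (s : Γ(X, W))) x hxV t * X.presheaf.germ W x hxW (s : Γ(X, W)) = 1 := by
    have h := congrArg (X.presheaf.germ (X.basicOpen (s : Γ(X, W))) x hxV) ht
    rwa [map_mul, map_one, X.presheaf.germ_res_apply] at h
  rw [← ψ.map_smul, ← hb']
  rw [hk, ← QCohLoc.germ_smul' F hxf, ← ev_smul_arg]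
  have key : ev Φ (X.basicOpen f) hfV (rmap (X.basicOpen_le f) (f ^ k) • a) =
      rmap hfV t • resM F (X.basicOpen_le f) (g b) := by
    rw [show rmap (X.basicOpen_le f) (f ^ k) • a = resM G (X.basicOpen_le f) b from hb.symm]
    refine (ev_smul t (locHomRes G F hVW φ₀) _ hfV _).trans (congrArg (rmap hfV t • ·) ?_)
    rw [← hφ₀ b]
    exact (ev_res φ₀ le_rfl (X.basicOpen_le f) b).symm
  rw [key, QCohLoc.germ_smul' F hxf]
  refine (congrArg₂ (· • ·) (X.presheaf.germ_res_apply (homOfLE hfV) x hxf t)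
    ((F.presheaf.germ_res_apply (homOfLE (X.basicOpen_le f)) x hxf (g b)).trans hg)).trans ?_
  rw [smul_smul, hts, one_smul]


end Groth.Agent.S9526
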