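import Groth.Statements.S9529
import Groth.Agent.HomStalk14.Basic


set_option autoImplicit false
universe u
open CategoryTheory CategoryTheory.Limits AlgebraicGeometry
attribute [local instance] HasDerivedCategory.standard
open Coherent

open CategoryTheory AlgebraicGeometry
open Groth.Agent Groth.Agent.HomStalk14
set_option backward.isDefEq.respectTransparency false

namespace Groth.Agent.S9529

/-- Let X be a locally Noetherian scheme, F and G coherent O_X-modules and H = Hom_{O_X}(F, G). If G has
property (S_1), so has H; if G has property (S_2), so has H. Here a coherent module M has (S_k) when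
depth M_x ≥ min(k, dim Supp M_x) for every x ∈ X, with M_x regarded as a module over O_{X,x} (the
zero module has depth ∞ and support dimension −∞); the sheaf Hom is the right adjoint of F ⊗ − under
its existence binder. -/
theorem result (X : Scheme.{u}) [IsLocallyNoetherian X] (F G : X.Modules)
    (hF : Coh.IsCoh F) (hG : Coh.IsCoh G) [DCoh.HasSheafHom F] (k : ℕ) (hk : k = 1 ∨ k = 2)
    (hS : ∀ x : X, min (k : WithBot ℕ∞) (Module.supportDim (X.presheaf.stalk x) ↑(G.presheaf.stalk x)) ≤
      ((LocCoh.depth (X.presheaf.stalk x) ↑(G.presheaf.stalk x) : ℕ∞) : WithBot ℕ∞)) (x : X) :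
    min (k : WithBot ℕ∞)
        (Module.supportDim (X.presheaf.stalk x) ↑(((DCoh.sheafHom F).obj G).presheaf.stalk x)) ≤
      ((LocCoh.depth (X.presheaf.stalk x) ↑(((DCoh.sheafHom F).obj G).presheaf.stalk x) : ℕ∞) :
        WithBot ℕ∞) := by
  obtain ⟨e⟩ := nonempty_stalk_sheafHom_equiv F hF hG x
  haveI : Module.Finite (X.presheaf.stalk x) (F.presheaf.stalk x) := Coherent.finite_stalk_of_isFT hF.1 hF.2 x
  haveI : Module.Finite (X.presheaf.stalk x) (G.presheaf.stalk x) := Coherent.finite_stalk_of_isFT hG.1 hG.2 x
  have h2 := CAlgMisc2.min_two_depth_le_depth_hom (R := X.presheaf.stalk x) (F.presheaf.stalk x) (G.presheaf.stalk x)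
  rw [← CAlgH3.depth_congr e] at h2
  haveI := Module.finitePresentation_of_finite (X.presheaf.stalk x) (F.presheaf.stalk x)
  have hd : Module.supportDim (X.presheaf.stalk x) (((DCoh.sheafHom F).obj G).presheaf.stalk x) ≤
      Module.supportDim (X.presheaf.stalk x) (G.presheaf.stalk x) :=
    (Module.supportDim_eq_of_equiv e).le.trans supportDim_hom_le
  refine le_trans ?_ (WithBot.coe_le_coe.2 h2)
  rw [WithBot.coe_min]
  refine le_min ((min_le_left _ _).trans ?_) ((min_le_min_left _ hd).trans (hS x))
  rcases hk with rfl | rfl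
  · exact_mod_cast (one_le_two : (1 : ℕ∞) ≤ 2)
  · exact le_rfl


end Groth.Agent.S9529
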