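import Groth.Statements.S9531
import Groth.Agent.AlgzLib.CohFormalFull
import Groth.Agent.Formal2Lib.PuncturedMod
import Groth.Agent.Coherent.Existence.PullSys
-- import your own Groth.Agent.* helpers here

set_option autoImplicit false
universe u
open CategoryTheory CategoryTheory.Limits AlgebraicGeometry Opposite
open Algz

namespace Groth.Agent.S9531

set_option backward.isDefEq.respectTransparency false

theorem isProIso_map {C D : Type*} [Category C] [Category D] (F : C ⥤ D) {X Y : ARSys.PS C}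
    {X' : ARSys.PS D} (e : X' ≅ X ⋙ F) (h : Algz.IsProIsomorphic X Y) : Algz.IsProIsomorphic X' (Y ⋙ F) := by
  obtain ⟨m, hm, hle, a, ha⟩ := h
  refine ⟨m, hm, hle, Functor.whiskerLeft _ e.hom ≫ (Functor.associator _ _ _).inv ≫ Functor.whiskerRight a F, fun n => ?_⟩
  obtain ⟨k, hk, b, h1, h2⟩ := ha n
  refine ⟨k, hk, F.map b ≫ e.inv.app (op (m n)), ?_, ?_⟩
  · have hn := e.hom.naturality (homOfLE (hm hk)).op
    simp only [NatTrans.comp_app, Functor.whiskerLeft_app, Functor.associator_inv_app, Category.id_comp,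
      Functor.whiskerRight_app, Category.assoc]
    rw [← Functor.map_comp_assoc, h1]
    refine ((Category.assoc _ _ _).symm.trans (congrArg (· ≫ e.inv.app (op (m n))) hn.symm)).trans ?_
    refine (Category.assoc _ _ _).trans ?_
    exact (congrArg (_ ≫ ·) (e.hom_inv_id_app (op (m n)))).trans (Category.comp_id _)
  · simp only [NatTrans.comp_app, Functor.whiskerLeft_app, Functor.associator_inv_app, Category.id_comp,
      Functor.whiskerRight_app, Category.assoc]
    refine (congrArg (F.map b ≫ ·) (e.inv_hom_id_app_assoc (op (m n)) _)).trans ?_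
    exact (F.map_comp _ _).symm.trans (congrArg F.map h2)

/-- Let A be a Noetherian ring, I ⊆ 𝔞 ideals, U = Spec A ∖ V(𝔞), and take (F_n) in Coh(U, I O_U).
Suppose (F_n) extends canonically to Spec A; then (F_n) extends to Spec A: there is an object of
Coh(Spec A, I O) whose restriction to U is isomorphic to (F_n). (Spec A is regarded over itself
through the identity.) -/
theorem result (A : Type u) [CommRing A] [IsNoetherianRing A] (I 𝔞 : Ideal A) (hI𝔞 : I ≤ 𝔞)
    (G : ℕᵒᵖ ⥤ (↑(LocCoh.puncturedOpen A 𝔞) : Scheme.{u}).Modules) (hG : Formal.IsCohFormal I G)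
    (h : Algz.CanonicallyExtends A I (LocCoh.puncturedOpen A 𝔞) G) :
    @Algz.Extends A _ (Spec (CommRingCat.of A)) ⟨𝟙 (Spec (CommRingCat.of A))⟩ I (LocCoh.puncturedOpen A 𝔞) G := by
  obtain ⟨G', hG', h'⟩ := h
  letI : (Spec (CommRingCat.of A)).Over (Spec (CommRingCat.of A)) := ⟨𝟙 (Spec (CommRingCat.of A))⟩
  let U := LocCoh.puncturedOpen A 𝔞
  have : IsLocallyNoetherian (U : Scheme.{u}) := inferInstance
  have hq : ∀ n, Coh.IsQCoh (G.obj (op n)) := fun n => (hG.1 n).1
  let cmp : ∀ j, ((Algz.sectSys A U G) ⋙ Scheme.Modules.restrictFunctor U.ι).obj j ≅ G.obj j := fun j =>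
    haveI := hq j.unop
    haveI := Groth.Agent.Formal2Lib.Punct.isIso_θ (R := CommRingCat.of A) 𝔞 (G.obj j)
    asIso (Groth.Agent.Formal2Lib.Punct.θ (R := CommRingCat.of A) 𝔞 (G.obj j))
  let e : Algz.sectSys A U G ⋙ Scheme.Modules.restrictFunctor U.ι ≅ G :=
    NatIso.ofComponents cmp fun φ => Groth.Agent.Formal2Lib.Punct.θ_natural (R := CommRingCat.of A) 𝔞 (G.map φ)
  let r := Scheme.Modules.restrictFunctorIsoPullback U.ι
  have hp := isProIso_map (Scheme.Modules.pullback U.ι)
    (e.symm ≪≫ Functor.isoWhiskerLeft (Algz.sectSys A U G) r) h'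
  have hcf := Groth.Agent.Coherent.Existence.isCohFormal_pullSys (p := U.ι) (I := I)
    (by exact Category.comp_id _) hG'
  obtain ⟨i⟩ := Groth.Agent.AlgzLib.nonempty_iso_of_isProIsomorphic hG hcf hp
  exact ⟨G', hG', ⟨Functor.isoWhiskerLeft G' r ≪≫ i.symm⟩⟩

end Groth.Agent.S9531
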