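import Groth.Statements.S9532
import Groth.Agent.AlgzLib.CohFormalFull
import Groth.Agent.CAlgH3.PuncturedCoh
import Groth.Agent.ARLib.Basic
-- import your own Groth.Agent.* helpers here

set_option autoImplicit false
universe u
open CategoryTheory CategoryTheory.Limits AlgebraicGeometry Opposite
open Algz

namespace Groth.Agent.S9532

theorem epi_sections {R : CommRingCat.{u}} {M N : (Spec R).Modules} [M.IsQuasicoherent] [N.IsQuasicoherent]
    (f : M ⟶ N) [Epi f] : Epi ((moduleSpecΓFunctor (R := R)).map f) := by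
  haveI : IsIso M.fromTildeΓ := (isQuasicoherent_iff_isIso_fromTildeΓ _).1 inferInstance
  haveI : IsIso N.fromTildeΓ := (isQuasicoherent_iff_isIso_fromTildeΓ _).1 inferInstance
  haveI : IsIso (Scheme.Modules.fromTildeΓNatTrans.app M) := ‹IsIso M.fromTildeΓ›
  haveI : IsIso (Scheme.Modules.fromTildeΓNatTrans.app N) := ‹IsIso N.fromTildeΓ›
  have h := (Scheme.Modules.fromTildeΓNatTrans (R := R)).naturality f
  haveI : Epi ((moduleSpecΓFunctor (R := R) ⋙ tilde.functor R).map f) := by
    have e : (moduleSpecΓFunctor (R := R) ⋙ tilde.functor R).map f =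
        Scheme.Modules.fromTildeΓNatTrans.app M ≫ f ≫ inv (Scheme.Modules.fromTildeΓNatTrans.app N) := by
      refine Eq.trans ?_ (Category.assoc _ _ _)
      rw [IsIso.eq_comp_inv]
      exact h
    rw [e]
    infer_instance
  exact (tilde.functor R).epi_of_epi_map ‹_›

theorem isML_of_proIso {C : Type*} [Category C] [Abelian C] {X Y : ARSys.PS C} {m : ℕ → ℕ} (hm : Monotone m)
    (hle : ∀ n, n ≤ m n) (a : DerCA.reindex X hm ⟶ Y) (ha : DerCA.IsProIso a)
    (hY : ∀ (n k : ℕ) (h : n ≤ k), Epi (ARSys.tr Y h)) : ARSys.IsML X := by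
  intro n
  obtain ⟨k, hk, b, hb₁, -⟩ := ha n
  let ψ : Y.obj (Opposite.op k) ⟶ X.obj (Opposite.op n) := b ≫ ARSys.tr X (hle n)
  have hfac : ∀ (s : ℕ) (hs : m k ≤ s) (h : n ≤ s), ARSys.tr X h = ARSys.tr X hs ≫ a.app (Opposite.op k) ≫ ψ := by
    intro s hs h
    show _ = _ ≫ a.app (Opposite.op k) ≫ b ≫ _
    rw [reassoc_of% hb₁]
    show X.map _ = X.map _ ≫ X.map _ ≫ X.map _
    rw [← X.map_comp, ← X.map_comp]
    rfl
  have key : ∀ (s : ℕ) (hs : m k ≤ s) (h : n ≤ s), imageSubobject (ARSys.tr X h) = imageSubobject ψ := by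
    intro s hs h
    apply le_antisymm
    · rw [Groth.Agent.ARLib.imageSubobject_le_iff, hfac s hs h, Category.assoc, Category.assoc,
        cokernel.condition, comp_zero, comp_zero]
    · obtain ⟨l, hl, c, -, hc₂⟩ := ha s
      rw [Groth.Agent.ARLib.imageSubobject_le_iff]
      haveI := hY k l (le_trans ((hle k).trans hs) hl)
      refine (cancel_epi (ARSys.tr Y (le_trans ((hle k).trans hs) hl))).1 ?_
      have hn : a.app (Opposite.op s) ≫ ARSys.tr Y ((hle k).trans hs) =
          X.map (homOfLE (hm ((hle k).trans hs))).op ≫ a.app (Opposite.op k) :=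
        (a.naturality (homOfLE ((hle k).trans hs)).op).symm
      have e : ARSys.tr Y (le_trans ((hle k).trans hs) hl) = c ≫ a.app (Opposite.op s) ≫ ARSys.tr Y ((hle k).trans hs) := by
        rw [reassoc_of% hc₂]
        show Y.map _ = Y.map _ ≫ Y.map _
        rw [← Y.map_comp]
        rfl
      rw [comp_zero, e, hn]
      have e2 : X.map (homOfLE (hm ((hle k).trans hs))).op ≫ a.app (Opposite.op k) ≫ ψ =
          X.map (homOfLE (hle s)).op ≫ ARSys.tr X h := by
        rw [hfac s hs h]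
        show X.map _ ≫ _ = X.map _ ≫ X.map _ ≫ _
        rw [← Category.assoc (X.map (homOfLE (hle s)).op), ← X.map_comp]
        rfl
      simp only [Category.assoc]
      refine (congrArg (c ≫ ·) (((Category.assoc _ _ _).symm.trans (congrArg (· ≫ cokernel.π (ARSys.tr X h))
        ((Category.assoc _ _ _).trans e2))).trans ((Category.assoc _ _ _).trans
          ((congrArg (_ ≫ ·) (cokernel.condition _)).trans comp_zero)))).trans comp_zero
  refine ⟨m k, fun s hs => ?_⟩
  exact (key (n + s) (le_trans hs (Nat.le_add_left s n)) _).trans (key (n + m k) (Nat.le_add_left _ _) _).symm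
theorem exists_proIso_transfer {C D : Type*} [Category C] [Category D] (T : C ⥤ D) (Γ : D ⥤ C) (ε : 𝟭 C ≅ T ⋙ Γ)
    (X : ARSys.PS C) (Y : ARSys.PS D) {m : ℕ → ℕ} (hm : Monotone m) (a : DerCA.reindex (X ⋙ T) hm ⟶ Y)
    (ha : DerCA.IsProIso a) : ∃ a' : DerCA.reindex X hm ⟶ Y ⋙ Γ, DerCA.IsProIso a' := by
  refine ⟨Functor.whiskerLeft _ ((Functor.rightUnitor X).inv ≫ Functor.whiskerLeft X ε.hom ≫
    (Functor.associator X T Γ).inv) ≫ (Functor.associator _ _ _).inv ≫ Functor.whiskerRight a Γ, fun n => ?_⟩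
  obtain ⟨k, hk, b, hb₁, hb₂⟩ := ha n
  have h1 := congrArg Γ.map hb₁
  have h2 := congrArg Γ.map hb₂
  simp only [Functor.map_comp] at h1 h2
  refine ⟨k, hk, Γ.map b ≫ ε.inv.app (X.obj ((hm.functor).op.obj (Opposite.op n))), ?_, ?_⟩
  · have h3 := ε.hom.naturality (X.map (homOfLE (hm hk)).op)
    show (_ ≫ _) ≫ _ = _
    simp only [Functor.whiskerLeft_app, NatTrans.comp_app, Functor.rightUnitor_inv_app, Functor.associator_inv_app,
      Functor.whiskerRight_app, Category.id_comp, Category.comp_id, Category.assoc]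
    refine (congrArg (ε.hom.app _ ≫ ·) ((Category.assoc _ _ _).symm.trans (congrArg (· ≫ _) h1))).trans ?_
    refine ((Category.assoc _ _ _).symm.trans (congrArg (· ≫ _) h3.symm)).trans ?_
    exact (Category.assoc _ _ _).trans ((congrArg (_ ≫ ·) (Iso.hom_inv_id_app ε _)).trans (Category.comp_id _))
  · show (_ ≫ _) ≫ _ ≫ _ = _
    simp only [Functor.whiskerLeft_app, NatTrans.comp_app, Functor.rightUnitor_inv_app, Functor.associator_inv_app,
      Functor.whiskerRight_app, Category.id_comp, Category.comp_id, Category.assoc]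
    refine (congrArg (Γ.map b ≫ ·) (Iso.inv_hom_id_app_assoc ε _ _)).trans ?_
    exact h2

/-- Let A be a Noetherian ring, I ⊆ 𝔞 ideals, U = Spec A ∖ V(𝔞), and let (F_n) belong to Coh(U, I O_U).
Suppose (F_n) admits a canonical extension to Spec A; then the inverse system of A-modules n ↦
H^0(U, F_n) satisfies the Mittag-Leffler condition. -/
theorem result (A : Type u) [CommRing A] [IsNoetherianRing A] (I 𝔞 : Ideal A) (hI𝔞 : I ≤ 𝔞)
    (G : ℕᵒᵖ ⥤ (↑(LocCoh.puncturedOpen A 𝔞) : Scheme.{u}).Modules) (hG : Formal.IsCohFormal I G)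
    (h : Algz.CanonicallyExtends A I (LocCoh.puncturedOpen A 𝔞) G) :
    ARSys.IsML (Algz.sectMod A (LocCoh.puncturedOpen A 𝔞) G) := by
  obtain ⟨G', hG', m, hm, hle, a, ha⟩ := h
  letI : (Spec (CommRingCat.of A)).Over (Spec (CommRingCat.of A)) := ⟨𝟙 (Spec (CommRingCat.of A))⟩
  obtain ⟨a', ha'⟩ := exists_proIso_transfer (tilde.functor (CommRingCat.of A))
    (moduleSpecΓFunctor (R := CommRingCat.of A)) (tilde.toTildeΓNatIso (R := CommRingCat.of A))
    (Algz.sectMod A (LocCoh.puncturedOpen A 𝔞) G) G' hm a ha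
  refine isML_of_proIso hm hle a' ha' (fun n k hnk => ?_)
  haveI := (hG'.1 n).1
  haveI := (hG'.1 k).1
  haveI := Groth.Agent.AlgzLib.epi_map hG' hnk
  exact epi_sections (G'.map (homOfLE hnk).op)

end Groth.Agent.S9532
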