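import Groth.Statements.S9533
import Groth.Agent.S9532
import Groth.Agent.Coherent.Existence.AffineLimit
-- import your own Groth.Agent.* helpers here

set_option autoImplicit false
universe u
open CategoryTheory CategoryTheory.Limits AlgebraicGeometry Opposite
open Algz

namespace Groth.Agent.S9533

set_option backward.isDefEq.respectTransparency false

/-- A levelwise map which is a pro-isomorphism has a left inverse on limits. -/
theorem exists_lim_retract {R : Type u} [CommRing R] {X Y : ARSys.PS (ModuleCat.{u} R)} {m : ℕ → ℕ}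
    (hm : Monotone m) (hle : ∀ n, n ≤ m n) (a : DerCA.reindex X hm ⟶ Y) (ha : DerCA.IsProIso a)
    (hY : ∀ (n k : ℕ) (h : n ≤ k), Epi (ARSys.tr Y h)) :
    ∃ (φ : limit X ⟶ limit Y) (ψ : limit Y ⟶ limit X), φ ≫ ψ = 𝟙 _ ∧
      ∀ k, φ ≫ limit.π Y (op k) = limit.π X (op (m k)) ≫ a.app (op k) := by
  choose k hk b hb₁ hb₂ using ha
  have hepi : ∀ l, Epi (a.app (op l)) := fun l => by
    have := hY l (k l) (hk l)
    rw [← hb₂ l] at this
    exact epi_of_epi (b l) (a.app (op l))
  let c : ∀ i, Y.obj (op (k i)) ⟶ X.obj (op i) := fun i => b i ≫ ARSys.tr X (hle i)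
  have hc : ∀ i l (h : k i ≤ l), a.app (op l) ≫ ARSys.tr Y h ≫ c i =
      ARSys.tr X (((hk i).trans h).trans (hle l)) := fun i l h => by
    have hn : a.app (op l) ≫ ARSys.tr Y h = X.map (homOfLE (hm h)).op ≫ a.app (op (k i)) :=
      (a.naturality (homOfLE h).op).symm
    show _ ≫ _ ≫ b i ≫ _ = _
    rw [reassoc_of% hn, reassoc_of% hb₁ i]
    show X.map _ ≫ X.map _ ≫ X.map _ = X.map _
    rw [← X.map_comp, ← X.map_comp]
    rfl
  let cφ : Cone Y :=
    { pt := limit X
      π :=
        { app := fun j => limit.π X (op (m j.unop)) ≫ a.app j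
          naturality := fun j j' t => by
            have h1 := a.naturality t
            dsimp at h1 ⊢
            rw [Category.id_comp, Category.assoc, ← h1, ← Category.assoc, limit.w X] } }
  let cψ : Cone X :=
    { pt := limit Y
      π :=
        { app := fun j => limit.π Y (op (k j.unop)) ≫ c j.unop
          naturality := fun ⟨j⟩ ⟨i⟩ t => by
            have hij : i ≤ j := leOfHom t.unop
            let l := max (k i) (k j)
            show 𝟙 _ ≫ limit.π Y (op (k i)) ≫ c i = (limit.π Y (op (k j)) ≫ c j) ≫ X.map t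
            rw [Category.id_comp, ← limit.w Y (homOfLE (le_max_left (k i) (k j))).op,
              ← limit.w Y (homOfLE (le_max_right (k i) (k j))).op, Category.assoc, Category.assoc, Category.assoc]
            congr 1
            haveI := hepi l
            refine (cancel_epi (a.app (op l))).1 ?_
            refine (hc i l (le_max_left _ _)).trans ?_
            refine Eq.trans ?_ ((congrArg (· ≫ X.map t) (hc j l (le_max_right _ _))).symm.trans
              ((Category.assoc _ _ _).trans (congrArg (_ ≫ ·) (Category.assoc _ _ _))))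
            show X.map _ = X.map _ ≫ X.map _
            rw [← X.map_comp]
            rfl } }
  refine ⟨limit.lift Y cφ, limit.lift X cψ, limit.hom_ext fun ⟨i⟩ => ?_, fun i => limit.lift_π cφ (op i)⟩
  rw [Category.assoc, limit.lift_π, Category.id_comp]
  show limit.lift Y cφ ≫ limit.π Y (op (k i)) ≫ c i = _
  rw [limit.lift_π_assoc]
  show (limit.π X (op (m (k i))) ≫ a.app (op (k i))) ≫ b i ≫ ARSys.tr X (hle i) = _
  rw [Category.assoc, reassoc_of% hb₁ i]
  show limit.π X _ ≫ X.map _ ≫ X.map _ = _
  rw [← X.map_comp]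
  exact limit.w X _

open Groth.Agent.Coherent Groth.Agent.Coherent.Existence in
theorem ker_sections {A : Type u} [CommRing A] [IsNoetherianRing A] (I : Ideal A)
    [(Spec (CommRingCat.of A)).Over (Spec (CommRingCat.of A))]
    (hb : ((Spec (CommRingCat.of A)) ↘ Spec (CommRingCat.of A)) = 𝟙 _)
    {G' : ℕᵒᵖ ⥤ (Spec (CommRingCat.of A)).Modules} (hG' : Formal.IsCohFormal I G') (n : ℕ) :
    LinearMap.ker ((G' ⋙ moduleSpecΓFunctor (R := CommRingCat.of A)).map (homOfLE (Nat.le_succ n)).op).hom =
      I ^ (n + 1) • (⊤ : Submodule A _) := by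
  have hsm : ∀ (M : (Spec (CommRingCat.of A)).Modules) (c : A) (x : Γ(M, ⊤)),
      rmap (le_top : (⊤ : (Spec (CommRingCat.of A)).Opens) ≤ ⊤) (baseHom A (Spec (CommRingCat.of A)) c) • x =
        (show Γ(M, ⊤) from c • (show (moduleSpecΓFunctor (R := CommRingCat.of A)).obj M from x)) := fun M c x => by
    have e : baseHom A (Spec (CommRingCat.of A)) c = (Scheme.ΓSpecIso (CommRingCat.of A)).inv c := by
      simp [baseHom, Coh.toGlobal, hb]
    rw [e]
    rfl
  refine le_antisymm (fun x hx => ?_) (Submodule.smul_le.2 fun c hc y _ => ?_)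
  · have h := (tr_app_eq_zero_iff hG' ⊤ (isAffineOpen_top _) n x).1 hx
    have key : ∀ z, z ∈ openIdeal I (⊤ : (Spec (CommRingCat.of A)).Opens) ^ (n + 1) •
        (⊤ : Submodule Γ(Spec (CommRingCat.of A), ⊤) Γ(G'.obj (op (n + 1)), ⊤)) →
        (show (moduleSpecΓFunctor (R := CommRingCat.of A)).obj (G'.obj (op (n + 1))) from z) ∈
          I ^ (n + 1) • (⊤ : Submodule A _) := by
      intro z hz
      let P : Γ(G'.obj (op (n + 1)), ⊤) → Prop := fun z =>
        (show (moduleSpecΓFunctor (R := CommRingCat.of A)).obj (G'.obj (op (n + 1))) from z) ∈ I ^ (n + 1) • (⊤ : Submodule A _)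
      show P z
      refine Submodule.smul_induction_on (p := P) hz (fun r hr y _ => ?_) fun _ _ => add_mem
      rw [openIdeal, ← Ideal.map_pow] at hr
      induction hr using Submodule.span_induction generalizing y with
      | mem r hr =>
        obtain ⟨c, hc, rfl⟩ := hr
        show _ ∈ _
        rw [RingHom.comp_apply, hsm]
        exact Submodule.smul_mem_smul hc trivial
      | zero => rw [zero_smul]; exact zero_mem _
      | add r r' _ _ hr hr' => rw [add_smul]; exact add_mem (hr y trivial) (hr' y trivial)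
      | smul d r _ hr => rw [smul_eq_mul, mul_comm, mul_smul]; exact hr _ trivial
    exact key x h
  · rw [LinearMap.mem_ker, map_smul]
    have h := congrArg (fun ψ : G'.obj (op n) ⟶ G'.obj (op n) =>
      ψ.app ⊤ (((G' ⋙ moduleSpecΓFunctor (R := CommRingCat.of A)).map (homOfLE (Nat.le_succ n)).op).hom y))
      (hG'.2.1 n c hc)
    dsimp only at h
    rw [smulMod_app] at h
    exact (hsm _ c _).symm.trans h

/-- Let A be a Noetherian ring, I ⊆ 𝔞 ideals, U = Spec A ∖ V(𝔞), (F_n) an object of Coh(U, I O_U), and M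
= lim_n H^0(U, F_n). If (F_n) canonically extends to Spec A, then the limit topology of M agrees
with the I-adic one: for every k some kernel of M → H^0(U, F_n) lies inside I^k M. (Each such kernel
contains I^(n+1) M automatically. The other part of (4), that M is finitely generated over the
completion of A with respect to I, is not stated here.) -/
theorem result (A : Type u) [CommRing A] [IsNoetherianRing A] (I 𝔞 : Ideal A) (hI𝔞 : I ≤ 𝔞)
    (G : ℕᵒᵖ ⥤ (↑(LocCoh.puncturedOpen A 𝔞) : Scheme.{u}).Modules) (hG : Formal.IsCohFormal I G)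
    (h : Algz.CanonicallyExtends A I (LocCoh.puncturedOpen A 𝔞) G) (k : ℕ) :
    ∃ n : ℕ, LinearMap.ker (limit.π (Algz.sectMod A (LocCoh.puncturedOpen A 𝔞) G) (op n)).hom ≤
      I ^ k • (⊤ : Submodule A ↑(limit (Algz.sectMod A (LocCoh.puncturedOpen A 𝔞) G))) := by
  obtain ⟨G', hG', m, hm, hle, a, ha⟩ := h
  letI : (Spec (CommRingCat.of A)).Over (Spec (CommRingCat.of A)) := ⟨𝟙 (Spec (CommRingCat.of A))⟩
  obtain ⟨a', ha'⟩ := Groth.Agent.S9532.exists_proIso_transfer (tilde.functor (CommRingCat.of A))
    (moduleSpecΓFunctor (R := CommRingCat.of A)) (tilde.toTildeΓNatIso (R := CommRingCat.of A))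
    (Algz.sectMod A (LocCoh.puncturedOpen A 𝔞) G) G' hm a ha
  let Y : ℕᵒᵖ ⥤ ModuleCat.{u} A := G' ⋙ moduleSpecΓFunctor (R := CommRingCat.of A)
  have hepi : ∀ (i j : ℕ) (h : i ≤ j), Epi (ARSys.tr Y h) := fun i j hij => by
    haveI := (hG'.1 i).1
    haveI := (hG'.1 j).1
    haveI := Groth.Agent.AlgzLib.epi_map hG' hij
    exact Groth.Agent.S9532.epi_sections (G'.map (homOfLE hij).op)
  obtain ⟨φ, ψ, hφψ, hφ⟩ := exists_lim_retract hm hle a' ha' hepi
  let L : Groth.Agent.AdicRing.AdicLimit I (fun n => (Y.obj (op n) : Type u)) ↑(limit Y) :=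
    { f := fun n => (Y.map (homOfLE (Nat.le_succ n)).op).hom
      surj_f := fun n => (ModuleCat.epi_iff_surjective _).1 (hepi n (n + 1) (Nat.le_succ n))
      ker_f := fun n => ker_sections I rfl hG' n
      π := fun n => (limit.π Y (op n)).hom
      comp_π := fun n => congrArg ModuleCat.Hom.hom (limit.w Y (homOfLE (Nat.le_succ n)).op)
      joint_inj := fun x hx => Concrete.limit_ext _ _ _ fun ⟨j⟩ => (hx j).trans (map_zero _).symm
      lift := fun y hy => by
        let F := forget (ModuleCat.{u} A)
        have hl := isLimitOfPreserves F (limit.isLimit Y)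
        have hy' : ∀ (i j : ℕ) (h : i ≤ j), Y.map (homOfLE h).op (y j) = y i := by
          intro i j h
          induction j, h using Nat.le_induction with
          | base => rw [show (homOfLE (le_refl i)).op = 𝟙 (op i) from rfl, Y.map_id]; rfl
          | succ j h ih =>
            rw [show (homOfLE (h.trans (Nat.le_succ j))).op =
              (homOfLE (Nat.le_succ j)).op ≫ (homOfLE h).op from rfl, Y.map_comp]
            exact (congrArg (Y.map (homOfLE h).op) (hy j)).trans ih
        let s : (Y ⋙ F).sections := ⟨fun j => y j.unop, fun {j i} t => hy' i.unop j.unop (leOfHom t.unop)⟩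
        exact ⟨(Types.isLimitEquivSections hl).symm s,
          fun n => Types.isLimitEquivSections_symm_apply hl s (op n)⟩ }
  refine ⟨m k, fun x hx => ?_⟩
  have h1 : φ x ∈ LinearMap.ker (L.π k) := by
    show (φ ≫ limit.π Y (op k)) x = 0
    rw [hφ k]
    exact (congrArg (a'.app (op k)) (LinearMap.mem_ker.1 hx)).trans (map_zero _)
  rw [L.ker_of_fg (IsNoetherian.noetherian I) k] at h1
  have h2 := Submodule.mem_map_of_mem (f := ψ.hom) h1
  rw [Submodule.map_smul''] at h2
  have h3 : ψ (φ x) = x := congrArg (fun t => t x) (congrArg ConcreteCategory.hom hφψ)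
  rw [← h3]
  exact Submodule.smul_mono_left (Ideal.pow_le_pow_right (Nat.le_succ k))
    (Submodule.smul_mono le_rfl le_top h2)

end Groth.Agent.S9533
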