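import Groth.Statements.S9534
import Groth.Agent.AlgzLib.MLLimit
import Groth.Agent.AlgzLib.TildeSys
import Groth.Agent.ARLib.Basic
import Groth.Agent.Formal2Lib.PuncturedMod
-- import your own Groth.Agent.* helpers here

set_option autoImplicit false
universe u
open CategoryTheory CategoryTheory.Limits AlgebraicGeometry Opposite
open Algz

namespace Groth.Agent.S9534

set_option backward.isDefEq.respectTransparency false

/-- Levelwise functorial image of a pro-isomorphism. -/
theorem isProIso_whisker {C D : Type*} [Category C] [Category D] (F : C ⥤ D) {X Y : ARSys.PS C} (a : X ⟶ Y)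
    (ha : DerCA.IsProIso a) : DerCA.IsProIso (Functor.whiskerRight a F) := fun n => by
  obtain ⟨m, h, b, h1, h2⟩ := ha n
  exact ⟨m, h, F.map b, (F.map_comp _ _).symm.trans (congrArg F.map h1),
    (F.map_comp _ _).symm.trans (congrArg F.map h2)⟩

theorem exists_mono_ge (f : ℕ → ℕ) : ∃ g : ℕ → ℕ, Monotone g ∧ ∀ k, f k ≤ g k := by
  refine ⟨fun k => (Finset.range (k + 1)).sup f, fun i j h => Finset.sup_mono ?_, fun k =>
    Finset.le_sup (Finset.self_mem_range_succ k)⟩
  exact Finset.range_mono (Nat.succ_le_succ h)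

theorem killed_sections {A : Type u} [CommRing A] {I 𝔞 : Ideal A}
    {G : ℕᵒᵖ ⥤ (↑(LocCoh.puncturedOpen A 𝔞) : Scheme.{u}).Modules} (hG : Formal.IsCohFormal I G) (j : ℕ) {c : A}
    (hc : c ∈ I ^ (j + 1)) (w : (Algz.sectMod A (LocCoh.puncturedOpen A 𝔞) G).obj (op j)) : c • w = 0 := by
  have h := congrArg (fun ψ : G.obj (op j) ⟶ G.obj (op j) =>
    ψ.app (Formal2Lib.Punct.jU (R := CommRingCat.of A) 𝔞 ⁻¹ᵁ ⊤) w) (hG.2.1 j c hc)
  dsimp only at h
  exact (Formal2Lib.Punct.smul_app (R := CommRingCat.of A) 𝔞 (G.obj (op j)) c ⊤ w).symm.trans h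

theorem tr_π {R : Type u} [CommRing R] (X : ARSys.PS (ModuleCat.{u} R)) {i j : ℕ} (h : i ≤ j)
    (z : ↑(limit X)) : ARSys.tr X h (limit.π X (op j) z) = limit.π X (op i) z :=
  congrArg (fun f : limit X ⟶ X.obj (op i) => f.hom z) (limit.w X (homOfLE h).op)

theorem tr_tr {R : Type u} [CommRing R] (X : ARSys.PS (ModuleCat.{u} R)) {i j l : ℕ} (h : i ≤ j) (h' : j ≤ l)
    (z : X.obj (op l)) : ARSys.tr X h (ARSys.tr X h' z) = ARSys.tr X (h.trans h') z := by
  show (X.map _ ≫ X.map _) z = _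
  rw [← X.map_comp]
  rfl

/-- A Mittag-Leffler system with adic limit topology and finite images is pro-isomorphic to an adic system. -/
theorem exists_adic_proIso {A : Type u} [CommRing A] [IsNoetherianRing A] (I : Ideal A)
    (X : ARSys.PS (ModuleCat.{u} A)) (ha : ARSys.IsML X)
    (hb : ∀ k : ℕ, ∃ n : ℕ, LinearMap.ker (limit.π X (op n)).hom ≤ I ^ k • (⊤ : Submodule A ↑(limit X)))
    (hc : ∀ n : ℕ, Module.Finite A ↥(LinearMap.range (limit.π X (op n)).hom))
    (hkill : ∀ (j : ℕ) (c : A), c ∈ I ^ (j + 1) → ∀ w : X.obj (op j), c • w = 0) :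
    ∃ (Q : ARSys.PS (ModuleCat.{u} A)) (m : ℕ → ℕ) (hmm : Monotone m) (_ : ∀ n, n ≤ m n)
      (a : DerCA.reindex X hmm ⟶ Q), DerCA.IsProIso a ∧
      (∀ n, Module.Finite A (Q.obj (op n))) ∧
      (∀ n, Function.Surjective (Q.map (homOfLE (Nat.le_succ n)).op)) ∧
      (∀ n, LinearMap.ker (Q.map (homOfLE (Nat.le_succ n)).op).hom =
        I ^ (n + 1) • (⊤ : Submodule A (Q.obj (op (n + 1))))) ∧
      (∀ n, I ^ (n + 1) • (⊤ : Submodule A (Q.obj (op n))) = ⊥) := by
  let M := (limit X : ModuleCat.{u} A)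
  choose ν₀ hν₀ using fun k => hb (k + 1)
  obtain ⟨ν, hνm, hνge⟩ := exists_mono_ge fun k => max k (ν₀ k)
  have hνk : ∀ k, k ≤ ν k := fun k => (le_max_left _ _).trans (hνge k)
  have hker : ∀ k (z : M), limit.π X (op (ν k)) z = 0 → z ∈ I ^ (k + 1) • (⊤ : Submodule A M) := fun k z hz =>
    hν₀ k (LinearMap.mem_ker.2 (by
      show (limit.π X (op (ν₀ k))).hom z = 0
      exact (tr_π X ((le_max_right k (ν₀ k)).trans (hνge k)) z).symm.trans
        ((congrArg _ hz).trans (map_zero _))))
  choose σ hσge hσ using fun k => AlgzLib.exists_range_limit_π_eq ha (ν k)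
  obtain ⟨m, hmm, hmge⟩ := exists_mono_ge fun k => σ k
  have hνm' : ∀ k, ν k ≤ m k := fun k => (hσge k).trans (hmge k)
  have hlift : ∀ k (x : X.obj (op (m k))), ∃ z : M, limit.π X (op (ν k)) z = ARSys.tr X (hνm' k) x := fun k x =>
    (hσ k ⟨ARSys.tr X (hmge k) x, tr_tr X (hσge k) (hmge k) x⟩)
  choose lift hlift using hlift
  let tQ : ∀ k, ModuleCat.of A (Formal2.quotPow A I M (k + 1)) ⟶ ModuleCat.of A (Formal2.quotPow A I M k) :=
    fun k => ModuleCat.ofHom (Formal2.quotPowTrans A I M k)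
  let Q : ℕᵒᵖ ⥤ ModuleCat.{u} A := Functor.ofOpSequence (X := fun k => ModuleCat.of A (Formal2.quotPow A I M k)) tQ
  have hQsucc : ∀ k, Q.map (homOfLE (Nat.le_succ k)).op = tQ k := fun k =>
    Functor.ofOpSequence_map_homOfLE_succ (X := fun k => ModuleCat.of A (Formal2.quotPow A I M k)) tQ k
  have hQtr : ∀ (i j : ℕ) (h : i ≤ j) (z : M),
      Q.map (homOfLE h).op (Formal2.quotPowπ A I M j z) = Formal2.quotPowπ A I M i z := by
    intro i j h z
    induction j, h using Nat.le_induction with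
    | base => rw [show (homOfLE (le_refl i)).op = 𝟙 (op i) from rfl, Q.map_id]; rfl
    | succ j h ih =>
      rw [show (homOfLE (h.trans (Nat.le_succ j))).op =
        (homOfLE (Nat.le_succ j)).op ≫ (homOfLE h).op from rfl, Q.map_comp]
      refine (congrArg (Q.map (homOfLE h).op) (congrArg (fun f => f.hom (Formal2.quotPowπ A I M (j + 1) z)) (hQsucc j))).trans ?_
      exact ih
  have hclass : ∀ k (z z' : M), limit.π X (op (ν k)) z = limit.π X (op (ν k)) z' →
      Formal2.quotPowπ A I M k z = Formal2.quotPowπ A I M k z' := fun k z z' h =>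
    (Submodule.Quotient.eq _).2 (hker k _ (by rw [map_sub, h, sub_self]))
  let af : ∀ k, X.obj (op (m k)) →ₗ[A] Formal2.quotPow A I M k := fun k =>
    { toFun := fun x => Formal2.quotPowπ A I M k (lift k x)
      map_add' := fun x y => by
        rw [← map_add]
        exact hclass k _ _ (by rw [map_add, hlift, hlift, hlift, map_add])
      map_smul' := fun c x => by
        rw [RingHom.id_apply, ← map_smul]
        exact hclass k _ _ (by rw [map_smul, hlift, hlift, map_smul]) }
  let a : DerCA.reindex X hmm ⟶ Q := Groth.Agent.ARLib.mkHom (fun k => ModuleCat.ofHom (af k)) fun i j h => by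
    ext x
    show Q.map (homOfLE h).op (Formal2.quotPowπ A I M j (lift j x)) = Formal2.quotPowπ A I M i (lift i _)
    rw [hQtr i j h]
    refine hclass i _ _ ?_
    rw [hlift, ← tr_π X (hνm h), hlift]
    exact (tr_tr X _ _ x).trans (tr_tr X _ _ x).symm
  have hpro : DerCA.IsProIso a := fun n => by
    have hb0 : I ^ (m n + 1) • (⊤ : Submodule A M) ≤ LinearMap.ker (limit.π X (op (m n))).hom :=
      Submodule.smul_le.2 fun c hc z _ => by
        rw [LinearMap.mem_ker, map_smul]
        exact hkill (m n) c hc _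
    refine ⟨m n, (hνk n).trans (hνm' n), ModuleCat.ofHom (Submodule.liftQ _ (limit.π X (op (m n))).hom hb0), ?_, ?_⟩
    · ext x
      show limit.π X (op (m n)) (lift (m n) x) = ARSys.tr X (hmm ((hνk n).trans (hνm' n))) x
      rw [← tr_π X (hνk (m n)), hlift]
      exact tr_tr X _ _ x
    · ext z
      obtain ⟨z, rfl⟩ := Submodule.mkQ_surjective _ z
      show Formal2.quotPowπ A I M n (lift n (limit.π X (op (m n)) z)) =
        Q.map (homOfLE ((hνk n).trans (hνm' n))).op (Formal2.quotPowπ A I M (m n) z)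
      rw [hQtr]
      refine hclass n _ _ ?_
      rw [hlift]
      exact tr_π X _ z
  refine ⟨Q, m, hmm, fun n => (hνk n).trans (hνm' n), a, hpro, fun k => ?_, fun k => ?_, fun k => ?_, fun k => ?_⟩
  · haveI := hc (ν k)
    let p : LinearMap.range (limit.π X (op (ν k))).hom →ₗ[A] Formal2.quotPow A I M k :=
      ((LinearMap.ker (limit.π X (op (ν k))).hom).liftQ (Formal2.quotPowπ A I M k)
        (fun z hz => LinearMap.mem_ker.2 ((Submodule.Quotient.mk_eq_zero _).2 (hker k z hz)))).comp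
        (limit.π X (op (ν k))).hom.quotKerEquivRange.symm.toLinearMap
    refine Module.Finite.of_surjective p fun y => ?_
    obtain ⟨z, rfl⟩ := Submodule.mkQ_surjective _ y
    refine ⟨(limit.π X (op (ν k))).hom.quotKerEquivRange (Submodule.Quotient.mk z), ?_⟩
    exact (congrArg _ (LinearEquiv.symm_apply_apply _ _)).trans rfl
  · rw [hQsucc]
    intro y
    obtain ⟨z, rfl⟩ := Submodule.mkQ_surjective _ y
    exact ⟨Formal2.quotPowπ A I M (k + 1) z, rfl⟩
  · rw [hQsucc]
    refine le_antisymm (fun y hy => ?_) (Submodule.smul_le.2 fun c hc y _ => ?_)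
    · obtain ⟨z, rfl⟩ := Submodule.mkQ_surjective _ y
      have hz : z ∈ I ^ (k + 1) • (⊤ : Submodule A M) := (Submodule.Quotient.mk_eq_zero _).1 hy
      have := Submodule.mem_map_of_mem (f := (I ^ (k + 1 + 1) • (⊤ : Submodule A M)).mkQ) hz
      rw [Submodule.map_smul'', Submodule.map_top, Submodule.range_mkQ] at this
      exact this
    · obtain ⟨z, rfl⟩ := Submodule.mkQ_surjective _ y
      refine LinearMap.mem_ker.2 ?_
      rw [map_smul]
      exact (Submodule.Quotient.mk_eq_zero _).2 (Submodule.smul_mem_smul hc trivial)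
  · refine eq_bot_iff.2 (Submodule.smul_le.2 fun c hc y _ => ?_)
    obtain ⟨z, rfl⟩ := Submodule.mkQ_surjective _ y
    rw [Submodule.mem_bot]
    exact (Submodule.Quotient.mk_eq_zero _).2 (Submodule.smul_mem_smul hc trivial)

/-- Let A be a Noetherian ring, I ⊆ 𝔞 ideals, U = Spec A ∖ V(𝔞), (F_n) an object of Coh(U, I O_U), and M
= lim_n H^0(U, F_n). Assume (a) the system H^0(U, F_n) is Mittag-Leffler, (b) the limit topology of
M agrees with the I-adic one, i.e. for every k some kernel of M → H^0(U, F_n) lies in I^k M, and (c)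
for each n, the A-submodule of H^0(U, F_n) given by the image of M is finitely generated. Then (F_n)
canonically extends to Spec A. (The addendum for I-adically complete A is not restated.) -/
theorem result (A : Type u) [CommRing A] [IsNoetherianRing A] (I 𝔞 : Ideal A) (hI𝔞 : I ≤ 𝔞)
    (G : ℕᵒᵖ ⥤ (↑(LocCoh.puncturedOpen A 𝔞) : Scheme.{u}).Modules) (hG : Formal.IsCohFormal I G)
    (ha : ARSys.IsML (Algz.sectMod A (LocCoh.puncturedOpen A 𝔞) G))
    (hb : ∀ k : ℕ, ∃ n : ℕ, LinearMap.ker (limit.π (Algz.sectMod A (LocCoh.puncturedOpen A 𝔞) G) (op n)).hom ≤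
      I ^ k • (⊤ : Submodule A ↑(limit (Algz.sectMod A (LocCoh.puncturedOpen A 𝔞) G))))
    (hc : ∀ n : ℕ, Module.Finite A ↥(LinearMap.range (limit.π (Algz.sectMod A (LocCoh.puncturedOpen A 𝔞) G) (op n)).hom)) :
    Algz.CanonicallyExtends A I (LocCoh.puncturedOpen A 𝔞) G := by
  let U := LocCoh.puncturedOpen A 𝔞
  obtain ⟨Q, m, hmm, hle, a, hpro, h1, h2, h3, h4⟩ := exists_adic_proIso I (Algz.sectMod A U G) ha hb hc
    (fun j c hc' w => killed_sections hG j hc' w)
  refine ⟨Q ⋙ tilde.functor (CommRingCat.of A), AlgzLib.isCohFormal_tildeSys I Q h1 h2 h3 h4, m, hmm, hle,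
    (Functor.associator _ _ _).inv ≫ Functor.whiskerRight a (tilde.functor (CommRingCat.of A)), fun n => ?_⟩
  obtain ⟨k, hk, b, e1, e2⟩ := isProIso_whisker (tilde.functor (CommRingCat.of A)) a hpro n
  exact ⟨k, hk, b, (congrArg (· ≫ b) (Category.id_comp _)).trans e1,
    (congrArg (b ≫ ·) (Category.id_comp _)).trans e2⟩

end Groth.Agent.S9534
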