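import Groth.Statements.S9535
import Groth.Agent.Coherent.Existence.Proper
import Groth.Agent.Coherent.Existence.PullCompletion
-- import your own Groth.Agent.* helpers here

set_option autoImplicit false
universe u
open CategoryTheory CategoryTheory.Limits AlgebraicGeometry Opposite
open Algz

namespace Groth.Agent.S9535

set_option backward.isDefEq.respectTransparency false

/-- (6) ⇒ (2): Let A be a Noetherian ring complete for the I-adic topology, I ⊆ 𝔞 ideals, U = Spec A ∖
V(𝔞) and (F_n) an object of Coh(U, I O_U). If (F_n) extends to Spec A, then (F_n) is isomorphic to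
the completion of a coherent O_U-module. -/
theorem result (A : Type u) [CommRing A] [IsNoetherianRing A] (I 𝔞 : Ideal A) (hI𝔞 : I ≤ 𝔞)
    (G : ℕᵒᵖ ⥤ (↑(LocCoh.puncturedOpen A 𝔞) : Scheme.{u}).Modules) (hG : Formal.IsCohFormal I G) [IsAdicComplete I A]
    (h : @Algz.Extends A _ (Spec (CommRingCat.of A)) ⟨𝟙 (Spec (CommRingCat.of A))⟩ I (LocCoh.puncturedOpen A 𝔞) G) :
    ∃ F : (↑(LocCoh.puncturedOpen A 𝔞) : Scheme.{u}).Modules, Coh.IsCoh F ∧ Nonempty (Formal.completion I F ≅ G) := by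
  letI : (Spec (CommRingCat.of A)).Over (Spec (CommRingCat.of A)) := ⟨𝟙 (Spec (CommRingCat.of A))⟩
  have : IsProper ((Spec (CommRingCat.of A)) ↘ Spec (CommRingCat.of A)) := inferInstanceAs (IsProper (𝟙 _))
  let U := LocCoh.puncturedOpen A 𝔞
  have : IsLocallyNoetherian (U : Scheme.{u}) := inferInstance
  obtain ⟨G', hG', ⟨i⟩⟩ := h
  obtain ⟨M, hM, ⟨e⟩⟩ := Groth.Agent.Coherent.Existence.algebraizable_of_proper (I := I) _ G' hG'
  obtain ⟨e₁⟩ := Groth.Agent.Coherent.Existence.nonempty_completion_pull (p := U.ι) (I := I)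
    (by exact Category.comp_id _) M
  refine ⟨(Scheme.Modules.pullback U.ι).obj M, ⟨?_, ?_⟩, ⟨e₁ ≪≫ Functor.isoWhiskerRight e _ ≪≫
    (Functor.isoWhiskerLeft G' (Scheme.Modules.restrictFunctorIsoPullback U.ι)).symm ≪≫ i⟩⟩
  · have := hM.1
    exact Groth.Agent.EGA43.InjFibre.isQCoh_pullback U.ι _
  · exact Groth.Agent.Coherent.isFT_pullback_qcoh U.ι hM.1 hM.2

end Groth.Agent.S9535
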