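import Groth.Statements.S9536
import Groth.Agent.Coherent.Existence.PullCompletion
import Groth.Agent.Coherent.Existence.Completion
import Groth.Agent.Coherent.SubFTApps
import Groth.Agent.Coherent.FinitePres
-- import your own Groth.Agent.* helpers here

set_option autoImplicit false
universe u
open CategoryTheory CategoryTheory.Limits AlgebraicGeometry Opposite
open Algz

namespace Groth.Agent.S9536

open Groth.Agent.Coherent.Existence in
theorem nonempty_completion_congr {A : Type u} [CommRing A] {X : Scheme.{u}} [X.Over (Spec (CommRingCat.of A))]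
    (I : Ideal A) {M N : X.Modules} (e : M ≅ N) :
    Nonempty (Formal.completion I M ≅ Formal.completion I N) := by
  let ei : ∀ n, Formal.modPow I n M ≅ Formal.modPow I n N := fun n =>
    { hom := modPowMap I n e.hom
      inv := modPowMap I n e.inv
      hom_inv_id := by
        refine (cancel_epi (cokernel.π (Formal.smulFamily (I ^ n) M))).1 ?_
        show Formal.modPowπ I n M ≫ _ = Formal.modPowπ I n M ≫ _
        rw [← Category.assoc, π_modPowMap, Category.assoc, π_modPowMap, Iso.hom_inv_id_assoc,
          Category.comp_id]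
      inv_hom_id := by
        refine (cancel_epi (cokernel.π (Formal.smulFamily (I ^ n) N))).1 ?_
        show Formal.modPowπ I n N ≫ _ = Formal.modPowπ I n N ≫ _
        rw [← Category.assoc, π_modPowMap, Category.assoc, π_modPowMap, Iso.inv_hom_id_assoc,
          Category.comp_id] }
  let τ := NatTrans.ofOpSequence (F := Formal.completion I M) (G := Formal.completion I N)
    (fun n => (ei (n + 1)).hom) fun n => by
      simp only [completion_map_succ]
      show Formal.modPowTrans I (n + 1) M ≫ modPowMap I (n + 1) e.hom =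
        modPowMap I (n + 1 + 1) e.hom ≫ Formal.modPowTrans I (n + 1) N
      refine (cancel_epi (cokernel.π (Formal.smulFamily (I ^ (n + 1 + 1)) M))).1 ?_
      show Formal.modPowπ I (n + 1 + 1) M ≫ _ = Formal.modPowπ I (n + 1 + 1) M ≫ _
      rw [← Category.assoc, ← Category.assoc, Formal.modPowπ_trans, π_modPowMap, π_modPowMap,
        Category.assoc, Formal.modPowπ_trans]
  have : ∀ k, IsIso (τ.app k) := fun k => by
    obtain ⟨k⟩ := k
    exact Iso.isIso_hom (ei (k + 1))
  have : IsIso τ := NatIso.isIso_of_isIso_app τ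
  exact ⟨asIso τ⟩

/-- (2) ⇒ (6): Let A be a Noetherian ring, I ⊆ 𝔞 ideals, U = Spec A ∖ V(𝔞) and (F_n) an object of Coh(U,
I O_U). If (F_n) is isomorphic to the completion of a coherent O_U-module, then (F_n) extends to
Spec A. -/
theorem result (A : Type u) [CommRing A] [IsNoetherianRing A] (I 𝔞 : Ideal A) (hI𝔞 : I ≤ 𝔞)
    (G : ℕᵒᵖ ⥤ (↑(LocCoh.puncturedOpen A 𝔞) : Scheme.{u}).Modules) (hG : Formal.IsCohFormal I G)
    (F : (↑(LocCoh.puncturedOpen A 𝔞) : Scheme.{u}).Modules) (hF : Coh.IsCoh F) (e : Formal.completion I F ≅ G) :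
    @Algz.Extends A _ (Spec (CommRingCat.of A)) ⟨𝟙 (Spec (CommRingCat.of A))⟩ I (LocCoh.puncturedOpen A 𝔞) G := by
  letI : (Spec (CommRingCat.of A)).Over (Spec (CommRingCat.of A)) := ⟨𝟙 (Spec (CommRingCat.of A))⟩
  let U := LocCoh.puncturedOpen A 𝔞
  have : IsLocallyNoetherian (Spec (CommRingCat.of A)) := inferInstance
  have : IsLocallyNoetherian (U : Scheme.{u}) := inferInstance
  have hFq : Coh.IsQCoh F := hF.1
  obtain ⟨F', hq, hft, ⟨i⟩⟩ := Groth.Agent.Coherent.exists_finiteType_extension_module
    (X := Spec (CommRingCat.of A))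
    (fun x => ⟨⊤, trivial, by
      have : TopologicalSpace.NoetherianSpace ↥(Spec (CommRingCat.of A)) := inferInstance
      exact TopologicalSpace.NoetherianSpace.set ⊤⟩) U F hF.2
  refine ⟨Formal.completion I F', Groth.Agent.Coherent.Existence.isCohFormal_completion I (M := F') (show Coh.IsCoh F' from ⟨hq, hft⟩), ?_⟩
  obtain ⟨e₁⟩ := Groth.Agent.Coherent.Existence.nonempty_completion_pull (p := U.ι) (I := I)
    (by exact Category.comp_id _) F'
  obtain ⟨e₂⟩ := nonempty_completion_congr I
    (((Scheme.Modules.restrictFunctorIsoPullback U.ι).app F').symm ≪≫ i)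
  exact ⟨Functor.isoWhiskerLeft _ (Scheme.Modules.restrictFunctorIsoPullback U.ι) ≪≫ e₁.symm ≪≫ e₂ ≪≫ e⟩

end Groth.Agent.S9536
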