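import Groth.Statements.S9538
import Groth.Agent.Coherent.Existence.PullSys
import Groth.Agent.Coherent.FormalIdeal
import Groth.Agent.CohExch.FlatBC0
import Groth.Agent.DQCoh.BCPush17
import Groth.Agent.S9531

set_option autoImplicit false
set_option backward.isDefEq.respectTransparency false
set_option linter.style.haveILetI false
universe u
open CategoryTheory CategoryTheory.Limits AlgebraicGeometry Opposite
open Algz

namespace Groth.Agent.S9538

open Groth.Agent.Coherent Groth.Agent.Coherent.Serre Groth.Agent.PicLib Groth.Agent.Coherent.Existence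

section pull

variable {A : Type u} [CommRing A] {X X' : Scheme.{u}} [X.Over (Spec (CommRingCat.of A))]
  [X'.Over (Spec (CommRingCat.of A))] {p : X' ⟶ X}
  (hp : p ≫ (X ↘ Spec (CommRingCat.of A)) = X' ↘ Spec (CommRingCat.of A)) {I : Ideal A}

include hp in
theorem isCohFormal_pull {G : ℕᵒᵖ ⥤ X.Modules}
    (hG : Formal.IsCohFormal I G) : Formal.IsCohFormal I (pullSys p G) := by
  refine ⟨fun n => ?_, fun n c hc => ?_, fun n => ?_⟩
  · have := (hG.1 n).1
    exact ⟨EGA43.InjFibre.isQCoh_pullback p _, isFT_pullback_qcoh p (hG.1 n).1 (hG.1 n).2⟩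
  · exact (pull_map_smulMod hp _ c).symm.trans
      ((congrArg _ (hG.2.1 n c hc)).trans (Functor.map_zero _ _ _))
  · let F := Scheme.Modules.pullback p
    have h : Formal.smulFamily (I ^ (n + 1)) (F.obj (G.obj (op (n + 1)))) ≫ F.map (tr G n) = 0 := by
      refine Sigma.hom_ext _ _ fun c => ?_
      rw [comp_zero, ← Category.assoc, ι_smulFamily, ← pull_map_smulMod hp, ← Functor.map_comp,
        ← ι_smulFamily (I ^ (n + 1)) _ c, Category.assoc, smulFamily_tr hG, comp_zero,
        Functor.map_zero]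
    refine ⟨h, ?_⟩
    let q := cokernel.π (Formal.smulFamily (I ^ (n + 1)) (F.obj (G.obj (op (n + 1)))))
    have hex := exact_smulFamily_tr hG n
    have := epi_tr hG n
    let t := etaHom p (G.obj (op (n + 1))) ≫ (Coh.push p).map q
    have ht : Formal.smulFamily (I ^ (n + 1)) (G.obj (op (n + 1))) ≫ t = 0 := by
      refine Sigma.hom_ext _ _ fun c => ?_
      rw [comp_zero, ← Category.assoc, ι_smulFamily, ← Category.assoc, etaHom_natural,
        Category.assoc, ← Functor.map_comp, pull_map_smulMod hp,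
        ← ι_smulFamily (I ^ (n + 1)) _ c, Category.assoc, cokernel.condition, comp_zero,
        Functor.map_zero, comp_zero]
    obtain ⟨b₀, hb₀⟩ : ∃ b₀, tr G n ≫ b₀ = t := ⟨hex.desc _ ht, hex.g_desc _ _⟩
    let b := ((Scheme.Modules.pullbackPushforwardAdjunction p).homEquiv (G.obj (op n))
      (cokernel (Formal.smulFamily (I ^ (n + 1)) (F.obj (G.obj (op (n + 1))))))).symm b₀
    have hb : etaHom p (G.obj (op n)) ≫ (Coh.push p).map b = b₀ := by
      rw [← Adjunction.homEquiv_unit]; exact Equiv.apply_symm_apply _ _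
    have hqb : F.map (tr G n) ≫ b = q := by
      refine pull_hom_ext ?_
      rw [Functor.map_comp, ← Category.assoc, ← etaHom_natural, Category.assoc, hb, hb₀]
    refine ⟨b, ?_, ?_⟩
    · refine (cancel_epi q).1 ?_
      refine ((Category.assoc _ _ _).symm.trans (congrArg (· ≫ b) (cokernel.π_desc _ _ h))).trans ?_
      exact hqb.trans (Category.comp_id q).symm
    · have : Epi (F.map (tr G n)) := by
        have := Adjunction.leftAdjoint_preservesColimits.{0, 0}
          (Scheme.Modules.pullbackPushforwardAdjunction p)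
        infer_instance
      refine (cancel_epi (F.map (tr G n))).1 ?_
      refine ((Category.assoc _ _ _).symm.trans (congrArg (· ≫ _) hqb)).trans ?_
      exact (cokernel.π_desc _ _ h).trans (Category.comp_id _).symm

end pull

section change

variable {A A' : Type u} [CommRing A] [CommRing A'] (φ : A →+* A') {X : Scheme.{u}}
  [X.Over (Spec (CommRingCat.of A))] [X.Over (Spec (CommRingCat.of A'))]
  (hc : ∀ (M : X.Modules) (a : A), Formal.smulMod A' M (φ a) = Formal.smulMod A M a)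

include hc in
theorem smulMod_comp_of_map (J : Ideal A) {M N : X.Modules} (t : M ⟶ N)
    (ht : ∀ a ∈ J, Formal.smulMod A M a ≫ t = 0) : ∀ b ∈ J.map φ, Formal.smulMod A' M b ≫ t = 0 := by
  intro b hb
  induction hb using Submodule.span_induction with
  | mem y hy =>
    obtain ⟨a, ha, rfl⟩ := hy
    rw [hc]
    exact ht a ha
  | zero => rw [smulMod_zero, zero_comp]
  | add x y _ _ hx hy => rw [smulMod_add, Preadditive.add_comp, hx, hy, add_zero]
  | smul c x _ hx => rw [smul_eq_mul, mul_comm, smulMod_mul, Category.assoc, hx, comp_zero]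

include hc in
theorem isCohFormal_map {I : Ideal A} {G : ℕᵒᵖ ⥤ X.Modules} (hG : Formal.IsCohFormal I G) :
    Formal.IsCohFormal (I.map φ) G := by
  have hmp : ∀ n, I.map φ ^ n = (I ^ n).map φ := fun n => (Ideal.map_pow φ I n).symm
  have hk : ∀ n, Formal.KilledBy (I.map φ ^ (n + 1)) (G.obj (op n)) := fun n b hb => by
    have := smulMod_comp_of_map φ hc (I ^ (n + 1)) (𝟙 (G.obj (op n)))
      (fun a ha => by rw [Category.comp_id]; exact hG.2.1 n a ha) b (hmp _ ▸ hb)
    rwa [Category.comp_id] at this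
  refine ⟨hG.1, hk, fun n => ?_⟩
  obtain ⟨h, hiso⟩ := hG.2.2 n
  haveI := hiso
  let f := Formal.smulFamily (I ^ (n + 1)) (G.obj (op (n + 1)))
  let f' := Formal.smulFamily (I.map φ ^ (n + 1)) (G.obj (op (n + 1)))
  have key : ∀ {N : X.Modules} (t : G.obj (op (n + 1)) ⟶ N), f ≫ t = 0 → f' ≫ t = 0 := fun t ht => by
    refine Sigma.hom_ext _ _ fun c => ?_
    rw [comp_zero, ← Category.assoc, ι_smulFamily]
    refine smulMod_comp_of_map φ hc (I ^ (n + 1)) t (fun a ha => ?_) c.1 (hmp _ ▸ c.2)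
    rw [← ι_smulFamily (I ^ (n + 1)) _ ⟨a, ha⟩, Category.assoc, ht, comp_zero]
  have h' : f' ≫ G.map (homOfLE (Nat.le_succ n)).op = 0 := key _ h
  refine ⟨h', ?_⟩
  have e1 : f ≫ cokernel.π f' = 0 := by
    refine Sigma.hom_ext _ _ fun c => ?_
    have hm : φ c.1 ∈ I.map φ ^ (n + 1) := hmp (n + 1) ▸ Ideal.mem_map_of_mem φ c.2
    rw [comp_zero, ← Category.assoc, ι_smulFamily, ← hc,
      ← ι_smulFamily (I.map φ ^ (n + 1)) _ ⟨φ c.1, hm⟩, Category.assoc, cokernel.condition, comp_zero]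
  let e : cokernel f' ≅ cokernel f :=
    ⟨cokernel.desc f' _ (key _ (cokernel.condition f)), cokernel.desc f _ e1, (cancel_epi (cokernel.π f')).1 (by simp), (cancel_epi (cokernel.π f)).1 (by simp)⟩
  have : cokernel.desc f' _ h' = e.hom ≫ cokernel.desc f _ h :=
    (cancel_epi (cokernel.π f')).1 (by simp [e])
  rw [this]
  exact @IsIso.comp_isIso _ _ _ _ _ _ _ (Iso.isIso_hom e) hiso

end change

section iso

variable {A A' : CommRingCat.{u}} (f : Spec A' ⟶ Spec A) [Flat f]
  (U : (Spec A).Opens) [QuasiCompact U.ι]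

theorem isIso_fromTildeΓ_push (M : (U : Scheme.{u}).Modules) [Coh.IsQCoh M] :
    IsIso ((Scheme.Modules.pushforward U.ι).obj M).fromTildeΓ := by
  haveI : Coh.IsQCoh ((Scheme.Modules.pushforward U.ι).obj M) := isQCoh_push U.ι _
  exact (isQuasicoherent_iff_isIso_fromTildeΓ _).1 inferInstance

theorem isIso_bcNat_app (M : (U : Scheme.{u}).Modules) [Coh.IsQCoh M]
    (sq : IsPullback (f ∣_ U) (f ⁻¹ᵁ U).ι U.ι f) :
    IsIso ((DQCoh.BCPush17.bcNat U.ι f (f ⁻¹ᵁ U).ι (f ∣_ U) sq.w).app M) :=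
  CohExch.isIso_bc0_of_flat_morphism sq M

/-- sections of a quasi-coherent system, as modules, are its direct image -/
theorem nonempty_push_iso (G : ℕᵒᵖ ⥤ (U : Scheme.{u}).Modules) (hq : ∀ j, Coh.IsQCoh (G.obj j)) :
    Nonempty (G ⋙ Scheme.Modules.pushforward U.ι ⋙ moduleSpecΓFunctor (R := A) ⋙ tilde.functor A ≅
      G ⋙ Scheme.Modules.pushforward U.ι) := by
  let α : G ⋙ Scheme.Modules.pushforward U.ι ⋙ moduleSpecΓFunctor (R := A) ⋙ tilde.functor A ⟶
      G ⋙ Scheme.Modules.pushforward U.ι ⋙ 𝟭 _ :=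
    Functor.whiskerLeft G (Functor.whiskerLeft (Scheme.Modules.pushforward U.ι) Scheme.Modules.fromTildeΓNatTrans)
  haveI : ∀ j, IsIso (α.app j) := fun j => by
    haveI := hq j
    exact isIso_fromTildeΓ_push U (G.obj j)
  haveI : IsIso α := NatIso.isIso_of_isIso_app α
  exact ⟨asIso α ≪≫ Functor.isoWhiskerLeft G (Functor.rightUnitor _)⟩

theorem nonempty_bc_iso (G : ℕᵒᵖ ⥤ (U : Scheme.{u}).Modules) (hq : ∀ j, Coh.IsQCoh (G.obj j))
    (sq : IsPullback (f ∣_ U) (f ⁻¹ᵁ U).ι U.ι f) :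
    Nonempty (G ⋙ Scheme.Modules.pushforward U.ι ⋙ Scheme.Modules.pullback f ≅
      G ⋙ Scheme.Modules.pullback (f ∣_ U) ⋙ Scheme.Modules.pushforward (f ⁻¹ᵁ U).ι) := by
  let β := Functor.whiskerLeft G (DQCoh.BCPush17.bcNat U.ι f (f ⁻¹ᵁ U).ι (f ∣_ U) sq.w)
  haveI : ∀ j, IsIso (β.app j) := fun j => by
    haveI := hq j
    exact isIso_bcNat_app f U (G.obj j) sq
  haveI : IsIso β := NatIso.isIso_of_isIso_app β
  exact ⟨asIso β⟩

end iso

theorem nonempty_sectSys_iso (A A' : Type u) [CommRing A] [CommRing A']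
    (f : Spec (CommRingCat.of A') ⟶ Spec (CommRingCat.of A)) [Flat f]
    (U : (Spec (CommRingCat.of A)).Opens) [QuasiCompact U.ι] (G : ℕᵒᵖ ⥤ (U : Scheme.{u}).Modules)
    (hq : ∀ j, Coh.IsQCoh (G.obj j)) :
    Nonempty (Algz.sectSys A' (f ⁻¹ᵁ U) (G ⋙ Scheme.Modules.pullback (f ∣_ U)) ≅
      Algz.sectSys A U G ⋙ Scheme.Modules.pullback f) := by
  have sq : IsPullback (f ∣_ U) (f ⁻¹ᵁ U).ι U.ι f := isPullback_morphismRestrict f U
  haveI : QuasiCompact (f ⁻¹ᵁ U).ι := MorphismProperty.of_isPullback (P := @QuasiCompact) sq inferInstance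
  obtain ⟨e₁⟩ := nonempty_push_iso U G hq
  obtain ⟨e₂⟩ := nonempty_push_iso (f ⁻¹ᵁ U) (G ⋙ Scheme.Modules.pullback (f ∣_ U)) fun j => by
    haveI := hq j
    exact EGA43.InjFibre.isQCoh_pullback (f ∣_ U) (G.obj j)
  obtain ⟨e₃⟩ := nonempty_bc_iso f U G hq sq
  let c₂ : Algz.sectSys A' (f ⁻¹ᵁ U) (G ⋙ Scheme.Modules.pullback (f ∣_ U)) ≅
      (G ⋙ Scheme.Modules.pullback (f ∣_ U)) ⋙ Scheme.Modules.pushforward (f ⁻¹ᵁ U).ι ⋙
        moduleSpecΓFunctor (R := CommRingCat.of A') ⋙ tilde.functor (CommRingCat.of A') :=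
    Functor.associator _ _ _ ≪≫ Functor.isoWhiskerLeft _ (Functor.associator _ _ _)
  let c₁ : Algz.sectSys A U G ≅ G ⋙ Scheme.Modules.pushforward U.ι ⋙
      moduleSpecΓFunctor (R := CommRingCat.of A) ⋙ tilde.functor (CommRingCat.of A) :=
    Functor.associator _ _ _ ≪≫ Functor.isoWhiskerLeft _ (Functor.associator _ _ _)
  exact ⟨c₂ ≪≫ e₂ ≪≫ Functor.associator _ _ _ ≪≫ e₃.symm ≪≫ (Functor.associator _ _ _).symm ≪≫
    Functor.isoWhiskerRight (c₁ ≪≫ e₁).symm _⟩

/-- Let A be a Noetherian ring, I ⊆ 𝔞 ideals, U = Spec A ∖ V(𝔞), (F_n) an object of Coh(U, I O_U), A →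
A' a flat ring map with f : Spec A' → Spec A, U' the inverse image of U, and (F'_n) the pullback of
(F_n) along the restriction of f over U. If (F_n) canonically extends to Spec A, then (F'_n)
canonically extends to Spec A' for the ideal I A'. (The second assertion, that the canonical
extension pulls back to the canonical extension, is not stated.) -/
theorem result (A : Type u) [CommRing A] [IsNoetherianRing A] (I 𝔞 : Ideal A) (hI𝔞 : I ≤ 𝔞)
    (G : ℕᵒᵖ ⥤ (↑(LocCoh.puncturedOpen A 𝔞) : Scheme.{u}).Modules) (hG : Formal.IsCohFormal I G)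
    (A' : Type u) [CommRing A'] [Algebra A A'] [Module.Flat A A']
    (h : Algz.CanonicallyExtends A I (LocCoh.puncturedOpen A 𝔞) G) :
    Algz.CanonicallyExtends A' (I.map (algebraMap A A')) (Spec.map (CommRingCat.ofHom (algebraMap A A')) ⁻¹ᵁ (LocCoh.puncturedOpen A 𝔞))
      (G ⋙ Scheme.Modules.pullback (morphismRestrict (Spec.map (CommRingCat.ofHom (algebraMap A A'))) (LocCoh.puncturedOpen A 𝔞))) := by
  let f := Spec.map (CommRingCat.ofHom (algebraMap A A'))
  let U := LocCoh.puncturedOpen A 𝔞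
  haveI : Flat f := (HasRingHomProperty.Spec_iff (P := @Flat)).2 (RingHom.flat_algebraMap_iff.2 ‹_›)
  have sq : IsPullback (f ∣_ U) (f ⁻¹ᵁ U).ι U.ι f := isPullback_morphismRestrict f U
  obtain ⟨e⟩ := nonempty_sectSys_iso A A' f U G fun j => (hG.1 j.unop).1
  obtain ⟨G', hG', hpro⟩ := h
  refine ⟨G' ⋙ Scheme.Modules.pullback f, ?_, S9531.isProIso_map (Scheme.Modules.pullback f) e hpro⟩
  letI : (Spec (CommRingCat.of A)).Over (Spec (CommRingCat.of A)) := ⟨𝟙 _⟩
  letI : (Spec (CommRingCat.of A')).Over (Spec (CommRingCat.of A)) := ⟨f⟩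
  letI : (Spec (CommRingCat.of A')).Over (Spec (CommRingCat.of A')) := ⟨𝟙 _⟩
  refine isCohFormal_map (algebraMap A A') (fun M a => ?_) (isCohFormal_pull (p := f) (Category.comp_id _) hG')
  show Formal.smulModΓ M _ = Formal.smulModΓ M _
  congr 1
  show Coh.toGlobal (𝟙 (Spec (CommRingCat.of A'))) (algebraMap A A' a) = Coh.toGlobal f a
  simp only [Coh.toGlobal, RingHom.comp_apply]
  exact (congrArg (fun m : CommRingCat.of A ⟶ _ => m.hom a)
    (Scheme.ΓSpecIso_inv_naturality (CommRingCat.ofHom (algebraMap A A'))))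

end Groth.Agent.S9538
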