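import Groth.Statements.S9539
import Groth.Agent.S0836
import Groth.Agent.S9535
import Groth.Agent.S9536
import Groth.Agent.S9538
import Groth.Agent.AdicRing.ComplHom

set_option autoImplicit false
set_option backward.isDefEq.respectTransparency false
set_option linter.style.haveILetI false
universe u
open CategoryTheory CategoryTheory.Limits AlgebraicGeometry Opposite
open Algz

namespace Groth.Agent.S9539

open Groth.Agent.Coherent Groth.Agent.Coherent.Serre Groth.Agent.Coherent.Existence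

/-- reduction modulo the ideal is not changed by completion -/
theorem isPushout_quot {A : Type u} [CommRing A] (I : Ideal A) (hI : I.FG) :
    ∃ (q : AdicCompletion I A →+* A ⧸ I ^ (0 + 1)),
      IsPushout (CommRingCat.ofHom (algebraMap A (AdicCompletion I A))) (CommRingCat.ofHom (Ideal.Quotient.mk (I ^ (0 + 1))))
        (CommRingCat.ofHom q) (𝟙 (CommRingCat.of (A ⧸ I ^ (0 + 1)))) := by
  let q : AdicCompletion I A →+* A ⧸ I ^ (0 + 1) := (AdicCompletion.evalₐ I (0 + 1)).toRingHom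
  have hq : ∀ a, q (algebraMap A _ a) = Ideal.Quotient.mk _ a := FSchLib.evalₐ_algebraMap (I := I) (0 + 1)
  refine ⟨q, ⟨⟨CommRingCat.hom_ext (RingHom.ext hq)⟩, ⟨PushoutCocone.IsColimit.mk _ (fun c => c.inr)
    (fun c => ?_) (fun c => Category.id_comp _) (fun c m _ h => (Category.id_comp m).symm.trans h)⟩⟩⟩
  refine CommRingCat.hom_ext (RingHom.ext fun x => ?_)
  show c.inr.hom (q x) = c.inl.hom x
  have hw : ∀ a, c.inl.hom (algebraMap A (AdicCompletion I A) a) = c.inr.hom (Ideal.Quotient.mk _ a) := fun a =>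
    congrArg (fun m : CommRingCat.of A ⟶ c.pt => m.hom a) c.condition
  obtain ⟨a, ha⟩ := Ideal.Quotient.mk_surjective (q x)
  have hm : x - algebraMap A _ a ∈ (I ^ (0 + 1)).map (algebraMap A (AdicCompletion I A)) := by
    rw [Ideal.map_pow, ← FSchLib.ker_evalₐ I hI (0 + 1), RingHom.mem_ker]
    show q (x - algebraMap A _ a) = 0
    rw [map_sub, hq, ha, sub_self]
  have hle : (I ^ (0 + 1)).map (algebraMap A (AdicCompletion I A)) ≤ RingHom.ker c.inl.hom :=
    Ideal.map_le_iff_le_comap.2 fun a ha => by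
      show c.inl.hom (algebraMap A (AdicCompletion I A) a) = 0
      rw [hw, Ideal.Quotient.eq_zero_iff_mem.2 ha, map_zero]
  have h0 : c.inl.hom (x - algebraMap A _ a) = 0 := hle hm
  rw [map_sub, hw, ha, sub_eq_zero] at h0
  exact h0.symm

section thick

variable {A : Type u} [CommRing A] (I : Ideal A) {X X' T : Scheme.{u}} [X.Over (Spec (CommRingCat.of A))]
  [X'.Over (Spec (CommRingCat.of A))] {f : T ⟶ Spec (CommRingCat.of A)} {p : X' ⟶ X} {s' : X' ⟶ T}
  (sq : IsPullback p s' (X ↘ Spec (CommRingCat.of A)) f)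
  (hp : p ≫ (X ↘ Spec (CommRingCat.of A)) = X' ↘ Spec (CommRingCat.of A))
  {q : Spec (CommRingCat.of (A ⧸ I ^ (0 + 1))) ⟶ T}
  (hq : IsPullback q (𝟙 _) f (CohB1.specQuot I 0))

include sq hq in
theorem isIso_thick : IsIso (pullback.map (X' ↘ Spec (CommRingCat.of A)) (CohB1.specQuot I 0)
    (X ↘ Spec (CommRingCat.of A)) (CohB1.specQuot I 0) p (𝟙 _) (𝟙 _)
    ((Category.comp_id _).trans hp.symm) ((Category.comp_id _).trans (Category.id_comp _).symm)) := by
  let s := X ↘ Spec (CommRingCat.of A)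
  let Q := CohB1.specQuot I 0
  have hqf : q ≫ f = Q := hq.w.trans (Category.id_comp _)
  let l : pullback s Q ⟶ X' := sq.lift (pullback.fst s Q) (pullback.snd s Q ≫ q)
    (by rw [Category.assoc, hqf]; exact pullback.condition)
  have hl1 : l ≫ p = pullback.fst s Q := sq.lift_fst _ _ _
  have hl2 : l ≫ s' = pullback.snd s Q ≫ q := sq.lift_snd _ _ _
  have hsf : X' ↘ Spec (CommRingCat.of A) = s' ≫ f := hp.symm.trans sq.w
  let r : pullback s Q ⟶ pullback (X' ↘ Spec (CommRingCat.of A)) Q := pullback.lift l (pullback.snd s Q)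
    (by rw [hsf, reassoc_of% hl2, hqf])
  have hw : (pullback.fst (X' ↘ Spec (CommRingCat.of A)) Q ≫ s') ≫ f =
      pullback.snd (X' ↘ Spec (CommRingCat.of A)) Q ≫ Q := by
    rw [Category.assoc, ← hsf]; exact pullback.condition
  have h1 : hq.lift (pullback.fst _ Q ≫ s') (pullback.snd _ Q) hw = pullback.snd _ Q :=
    (Category.comp_id _).symm.trans (hq.lift_snd _ _ _)
  have hs' : pullback.fst (X' ↘ Spec (CommRingCat.of A)) Q ≫ s' = pullback.snd _ Q ≫ q := by
    conv_rhs => rw [← h1]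
    exact (hq.lift_fst _ _ _).symm
  refine ⟨r, ?_, ?_⟩
  · refine pullback.hom_ext ?_ ?_
    · refine ((Category.assoc _ _ _).trans ?_).trans (Category.id_comp _).symm
      rw [pullback.lift_fst]
      refine sq.hom_ext ?_ ?_
      · rw [Category.assoc, hl1, pullback.lift_fst]
      · rw [Category.assoc, hl2, pullback.lift_snd_assoc, Category.comp_id, hs']
    · rw [Category.assoc, pullback.lift_snd, pullback.lift_snd, Category.comp_id, Category.id_comp]
  · refine pullback.hom_ext ?_ ?_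
    · rw [Category.assoc, pullback.lift_fst, pullback.lift_fst_assoc, hl1, Category.id_comp]
    · rw [Category.assoc, pullback.lift_snd, pullback.lift_snd_assoc, Category.comp_id, Category.id_comp]

end thick

section change

variable {A A' : Type u} [CommRing A] [CommRing A'] (φ : A →+* A') {X : Scheme.{u}}
  [X.Over (Spec (CommRingCat.of A))] [X.Over (Spec (CommRingCat.of A'))]
  (hc : ∀ (M : X.Modules) (a : A), Formal.smulMod A' M (φ a) = Formal.smulMod A M a)

include hc in
theorem isCohFormal_comap {I : Ideal A} {G : ℕᵒᵖ ⥤ X.Modules} (hG : Formal.IsCohFormal (I.map φ) G) :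
    Formal.IsCohFormal I G := by
  have hmp : ∀ n, I.map φ ^ n = (I ^ n).map φ := fun n => (Ideal.map_pow φ I n).symm
  refine ⟨hG.1, fun n a ha => (hc _ a).symm.trans (hG.2.1 n _ (hmp (n + 1) ▸ Ideal.mem_map_of_mem φ ha)), fun n => ?_⟩
  obtain ⟨h', hiso⟩ := hG.2.2 n
  haveI := hiso
  let f := Formal.smulFamily (I ^ (n + 1)) (G.obj (op (n + 1)))
  let f' := Formal.smulFamily (I.map φ ^ (n + 1)) (G.obj (op (n + 1)))
  have key : ∀ {N : X.Modules} (t : G.obj (op (n + 1)) ⟶ N), f ≫ t = 0 → f' ≫ t = 0 := fun t ht => by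
    refine Sigma.hom_ext _ _ fun c => ?_
    rw [comp_zero, ← Category.assoc, ι_smulFamily]
    refine S9538.smulMod_comp_of_map φ hc (I ^ (n + 1)) t (fun a ha => ?_) c.1 (hmp _ ▸ c.2)
    rw [← ι_smulFamily (I ^ (n + 1)) _ ⟨a, ha⟩, Category.assoc, ht, comp_zero]
  have key' : ∀ {N : X.Modules} (t : G.obj (op (n + 1)) ⟶ N), f' ≫ t = 0 → f ≫ t = 0 := fun t ht => by
    refine Sigma.hom_ext _ _ fun c => ?_
    have hm : φ c.1 ∈ I.map φ ^ (n + 1) := hmp (n + 1) ▸ Ideal.mem_map_of_mem φ c.2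
    rw [comp_zero, ← Category.assoc, ι_smulFamily, ← hc,
      ← ι_smulFamily (I.map φ ^ (n + 1)) _ ⟨φ c.1, hm⟩, Category.assoc, ht, comp_zero]
  refine ⟨key' _ h', ?_⟩
  let e : cokernel f ≅ cokernel f' :=
    ⟨cokernel.desc f _ (key' _ (cokernel.condition f')), cokernel.desc f' _ (key _ (cokernel.condition f)),
      (cancel_epi (cokernel.π f)).1 (by simp), (cancel_epi (cokernel.π f')).1 (by simp)⟩
  have : cokernel.desc f _ (key' _ h') = e.hom ≫ cokernel.desc f' _ h' :=
    (cancel_epi (cokernel.π f)).1 (by simp [e])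
  rw [this]
  exact @IsIso.comp_isIso _ _ _ _ _ _ _ (Iso.isIso_hom e) hiso

end change

theorem exists_completion_of_extends (A : Type u) [CommRing A] [IsNoetherianRing A] (I 𝔞 : Ideal A) (hI𝔞 : I ≤ 𝔞)
    [IsAdicComplete I A] (V : (Spec (CommRingCat.of A)).Opens) (hV : V = LocCoh.puncturedOpen A 𝔞)
    (G : ℕᵒᵖ ⥤ (V : Scheme.{u}).Modules) (hG : Formal.IsCohFormal I G)
    (h : @Algz.Extends A _ (Spec (CommRingCat.of A)) ⟨𝟙 (Spec (CommRingCat.of A))⟩ I V G) :
    ∃ F : (V : Scheme.{u}).Modules, Coh.IsCoh F ∧ Nonempty (Formal.completion I F ≅ G) := by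
  subst hV
  exact S9535.result A I 𝔞 hI𝔞 G hG h

theorem extends_of_completion (A : Type u) [CommRing A] [IsNoetherianRing A] (I 𝔞 : Ideal A) (hI𝔞 : I ≤ 𝔞)
    (V : (Spec (CommRingCat.of A)).Opens) (hV : V = LocCoh.puncturedOpen A 𝔞)
    (G : ℕᵒᵖ ⥤ (V : Scheme.{u}).Modules) (hG : Formal.IsCohFormal I G)
    (F : (V : Scheme.{u}).Modules) (hF : Coh.IsCoh F) (e : Formal.completion I F ≅ G) :
    @Algz.Extends A _ (Spec (CommRingCat.of A)) ⟨𝟙 (Spec (CommRingCat.of A))⟩ I V G := by
  subst hV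
  exact S9536.result A I 𝔞 hI𝔞 G hG F hF e

/-- Let A be a Noetherian ring, I ⊆ 𝔞 ideals, U = Spec A ∖ V(𝔞), (F_n) an object of Coh(U, I O_U); let
A' be the I-adic completion of A, f : Spec A' → Spec A and U' the inverse image of U. Then (F_n)
extends to Spec A if and only if the pullback of (F_n) to U' is isomorphic to the completion, for
the ideal I A', of a coherent O_{U'}-module. -/
theorem result (A : Type u) [CommRing A] [IsNoetherianRing A] (I 𝔞 : Ideal A) (hI𝔞 : I ≤ 𝔞)
    (G : ℕᵒᵖ ⥤ (↑(LocCoh.puncturedOpen A 𝔞) : Scheme.{u}).Modules) (hG : Formal.IsCohFormal I G) :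
    @Algz.Extends A _ (Spec (CommRingCat.of A)) ⟨𝟙 (Spec (CommRingCat.of A))⟩ I (LocCoh.puncturedOpen A 𝔞) G ↔
      ∃ F' : (↑(Spec.map (CommRingCat.ofHom (algebraMap A (AdicCompletion I A))) ⁻¹ᵁ (LocCoh.puncturedOpen A 𝔞)) : Scheme.{u}).Modules, Coh.IsCoh F' ∧
        Nonempty (Formal.completion (I.map (algebraMap A (AdicCompletion I A))) F' ≅
          G ⋙ Scheme.Modules.pullback (morphismRestrict (Spec.map (CommRingCat.ofHom (algebraMap A (AdicCompletion I A)))) (LocCoh.puncturedOpen A 𝔞))) := by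
  have hIfg : I.FG := IsNoetherian.noetherian I
  haveI : IsNoetherianRing (AdicCompletion I A) := AdicRing.isNoetherianRing_completion I hIfg
  let φ := algebraMap A (AdicCompletion I A)
  let f := Spec.map (CommRingCat.ofHom φ)
  haveI : Flat f := (HasRingHomProperty.Spec_iff (P := @Flat)).2 (RingHom.flat_algebraMap_iff.2 inferInstance)
  haveI : IsAdicComplete (I.map φ) (AdicCompletion I A) :=
    (IsAdicComplete.map_algebraMap_iff _ _).mpr (AdicCompletion.isAdicComplete hIfg)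
  let U := LocCoh.puncturedOpen A 𝔞
  let U' := f ⁻¹ᵁ U
  have hU' : U' = LocCoh.puncturedOpen (AdicCompletion I A) (𝔞.map φ) := by
    refine TopologicalSpace.Opens.ext ?_
    show PrimeSpectrum.comap φ ⁻¹' (PrimeSpectrum.zeroLocus (𝔞 : Set A))ᶜ =
      (PrimeSpectrum.zeroLocus ((𝔞.map φ : Ideal _) : Set (AdicCompletion I A)))ᶜ
    rw [Set.preimage_compl, PrimeSpectrum.preimage_comap_zeroLocus, Ideal.map, PrimeSpectrum.zeroLocus_span]
  have hI' : I.map φ ≤ 𝔞.map φ := Ideal.map_mono hI𝔞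
  obtain ⟨q₀, hpo⟩ := isPushout_quot I hIfg
  have hq : IsPullback (Spec.map (CommRingCat.ofHom q₀)) (𝟙 _) f (CohB1.specQuot I 0) := by
    have := isPullback_SpecMap_of_isPushout _ _ _ _ hpo
    rwa [Spec.map_id] at this
  letI : (Spec (CommRingCat.of A)).Over (Spec (CommRingCat.of A)) := ⟨𝟙 _⟩
  letI : (Spec (CommRingCat.of (AdicCompletion I A))).Over (Spec (CommRingCat.of A)) := ⟨f⟩
  letI : (Spec (CommRingCat.of (AdicCompletion I A))).Over (Spec (CommRingCat.of (AdicCompletion I A))) := ⟨𝟙 _⟩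
  let g := f ∣_ U
  have hf : f ≫ (Spec (CommRingCat.of A) ↘ Spec (CommRingCat.of A)) =
      Spec (CommRingCat.of (AdicCompletion I A)) ↘ Spec (CommRingCat.of A) := Category.comp_id f
  letI : (U' : Scheme.{u}).Over (Spec (CommRingCat.of A)) := ⟨g ≫ ((U : Scheme.{u}) ↘ Spec (CommRingCat.of A))⟩
  have hg : g ≫ ((U : Scheme.{u}) ↘ Spec (CommRingCat.of A)) = (U' : Scheme.{u}) ↘ Spec (CommRingCat.of A) := rfl
  have hZf := isIso_thick I (X := Spec (CommRingCat.of A)) (X' := Spec (CommRingCat.of (AdicCompletion I A)))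
    (f := f) (p := f) (s' := 𝟙 _) (IsPullback.of_vert_isIso ⟨by exact (Category.comp_id f).trans (Category.id_comp f).symm⟩) hf hq
  have hsqU : IsPullback g U'.ι ((U : Scheme.{u}) ↘ Spec (CommRingCat.of A)) f := by
    show IsPullback g U'.ι (U.ι ≫ 𝟙 _) f
    rw [Category.comp_id]
    exact isPullback_morphismRestrict f U
  have hZg := isIso_thick I hsqU hg hq
  have hcX : ∀ (M : (Spec (CommRingCat.of (AdicCompletion I A))).Modules) (a : A),
      Formal.smulMod (AdicCompletion I A) M (φ a) = Formal.smulMod A M a := fun M a => by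
    show Formal.smulModΓ M _ = Formal.smulModΓ M _
    congr 1
    show Coh.toGlobal (𝟙 _) (φ a) = Coh.toGlobal f a
    simp only [Coh.toGlobal]
    exact (congrArg (fun m : CommRingCat.of A ⟶ _ => m.hom a) (Scheme.ΓSpecIso_inv_naturality (CommRingCat.ofHom φ)))
  have hcU : ∀ (M : (U' : Scheme.{u}).Modules) (a : A),
      Formal.smulMod (AdicCompletion I A) M (φ a) = Formal.smulMod A M a := fun M a => by
    show Formal.smulModΓ M _ = Formal.smulModΓ M _
    congr 1
    show Coh.toGlobal (U'.ι ≫ 𝟙 _) (φ a) = Coh.toGlobal (g ≫ U.ι ≫ 𝟙 _) a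
    rw [Category.comp_id, Category.comp_id, morphismRestrict_ι]
    simp only [Coh.toGlobal, Scheme.Hom.comp_appTop]
    exact congrArg U'.ι.appTop.hom
      (congrArg (fun m : CommRingCat.of A ⟶ _ => m.hom a) (Scheme.ΓSpecIso_inv_naturality (CommRingCat.ofHom φ)))
  have hGA : Formal.IsCohFormal I (G ⋙ Scheme.Modules.pullback g) := S9538.isCohFormal_pull hg hG
  have hGA' : Formal.IsCohFormal (I.map φ) (G ⋙ Scheme.Modules.pullback g) := S9538.isCohFormal_map φ hcU hGA
  let c : Scheme.Modules.pullback f ⋙ Scheme.Modules.restrictFunctor U'.ι ≅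
      Scheme.Modules.restrictFunctor U.ι ⋙ Scheme.Modules.pullback g :=
    Functor.isoWhiskerLeft _ (Scheme.Modules.restrictFunctorIsoPullback U'.ι) ≪≫
      Scheme.Modules.pullbackComp U'.ι f ≪≫ Scheme.Modules.pullbackCongr (morphismRestrict_ι f U).symm ≪≫
      (Scheme.Modules.pullbackComp g U.ι).symm ≪≫
      Functor.isoWhiskerRight (Scheme.Modules.restrictFunctorIsoPullback U.ι).symm _
  constructor
  · rintro ⟨H, hH, ⟨i⟩⟩
    refine exists_completion_of_extends (AdicCompletion I A) (I.map φ) (𝔞.map φ) hI' U' hU'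
      (G ⋙ Scheme.Modules.pullback g) hGA' ⟨H ⋙ Scheme.Modules.pullback f, ?_, ⟨?_⟩⟩
    · exact S9538.isCohFormal_map φ hcX (S9538.isCohFormal_pull hf hH)
    · exact Functor.associator _ _ _ ≪≫ Functor.isoWhiskerLeft H c ≪≫ (Functor.associator _ _ _).symm ≪≫
        Functor.isoWhiskerRight i _
  · rintro ⟨F', hF', ⟨e⟩⟩
    obtain ⟨H', hH', ⟨i'⟩⟩ := extends_of_completion (AdicCompletion I A) (I.map φ) (𝔞.map φ) hI' U' hU'
      (G ⋙ Scheme.Modules.pullback g) hGA' F' hF' e
    obtain ⟨H, hH, ⟨j⟩⟩ := (S0836.result A I (Spec (CommRingCat.of A)) (Spec (CommRingCat.of (AdicCompletion I A)))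
      f hf hZf).2 H' (isCohFormal_comap φ hcX hH')
    refine ⟨H, hH, ?_⟩
    haveI : CompactSpace (U : Scheme.{u}) := isCompact_iff_compactSpace.1 (TopologicalSpace.NoetherianSpace.isCompact _)
    haveI : CompactSpace (U' : Scheme.{u}) := isCompact_iff_compactSpace.1 (TopologicalSpace.NoetherianSpace.isCompact _)
    haveI : AlgebraicGeometry.IsNoetherian (U : Scheme.{u}) := ⟨⟩
    haveI : AlgebraicGeometry.IsNoetherian (U' : Scheme.{u}) := ⟨⟩
    have hR : Formal.IsCohFormal I (H ⋙ Scheme.Modules.pullback U.ι) :=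
      isCohFormal_pullSys (p := U.ι) (by exact Category.comp_id _) hH
    let HR := H ⋙ Scheme.Modules.pullback U.ι
    have hHR : Formal.IsCohFormal I HR := hR
    let k : HR ⋙ Scheme.Modules.pullback g ≅ G ⋙ Scheme.Modules.pullback g :=
      Functor.associator _ _ _ ≪≫ Functor.isoWhiskerLeft H
        (Functor.isoWhiskerRight (Scheme.Modules.restrictFunctorIsoPullback U.ι).symm _) ≪≫ (Functor.isoWhiskerLeft H c).symm ≪≫ (Functor.associator _ _ _).symm ≪≫
        Functor.isoWhiskerRight j _ ≪≫ i'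
    have ff := (S0836.result A I (U : Scheme.{u}) (U' : Scheme.{u}) g hg hZg).1
    obtain ⟨a, ha⟩ := (ff HR G hHR hG).2 k.hom
    obtain ⟨b, hb⟩ := (ff G HR hG hHR).2 k.inv
    refine ⟨Functor.isoWhiskerLeft H (Scheme.Modules.restrictFunctorIsoPullback U.ι) ≪≫
      ⟨a, b, (ff HR HR hHR hHR).1 ?_, (ff G G hG hG).1 ?_⟩⟩
    · show Functor.whiskerRight (a ≫ b) _ = Functor.whiskerRight (𝟙 HR) _
      rw [Functor.whiskerRight_comp, Functor.whiskerRight_id']
      exact (congrArg₂ (· ≫ ·) ha hb).trans k.hom_inv_id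
    · show Functor.whiskerRight (b ≫ a) _ = Functor.whiskerRight (𝟙 G) _
      rw [Functor.whiskerRight_comp, Functor.whiskerRight_id']
      exact (congrArg₂ (· ≫ ·) hb ha).trans k.inv_hom_id

end Groth.Agent.S9539
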