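import Groth.Statements.S9537
import Groth.Agent.S9539
import Groth.Agent.S0829
import Groth.Agent.S0851
import Groth.Agent.DCat.FlatPull

set_option autoImplicit false
set_option backward.isDefEq.respectTransparency false
set_option linter.style.haveILetI false
universe u
open CategoryTheory CategoryTheory.Limits AlgebraicGeometry Opposite
open Algz

namespace Groth.Agent.S9537

open Groth.Agent.Coherent Groth.Agent.Coherent.Serre Groth.Agent.Coherent.Existence

section

variable {A : Type u} [CommRing A] {X : Scheme.{u}} [X.Over (Spec (CommRingCat.of A))] {I : Ideal A}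

theorem killed_of_iso {J : Ideal A} {M N : X.Modules} (e : M ≅ N) (h : Formal.KilledBy J M) :
    Formal.KilledBy J N := fun a ha => by
  rw [← cancel_epi e.hom, ← Serre.smulMod_natural, h a ha, zero_comp, comp_zero]

theorem kerCoker_comp_iso {F G H : ℕᵒᵖ ⥤ X.Modules} (α : F ⟶ G) (e : G ≅ H)
    (h : Formal2.KerCokerKilledByIPow I α) : Formal2.KerCokerKilledByIPow I (α ≫ e.hom) := by
  obtain ⟨t, ht⟩ := h
  refine ⟨t, fun n => ⟨killed_of_iso (kernelCompMono (α.app (op n)) (e.hom.app (op n))).symm (ht n).1,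
    killed_of_iso (cokernelCompIsIso (α.app (op n)) (e.hom.app (op n))).symm (ht n).2⟩⟩

theorem kerCoker_iso_comp {F G H : ℕᵒᵖ ⥤ X.Modules} (e : F ≅ G) (α : G ⟶ H)
    (h : Formal2.KerCokerKilledByIPow I α) : Formal2.KerCokerKilledByIPow I (e.hom ≫ α) := by
  obtain ⟨t, ht⟩ := h
  refine ⟨t, fun n => ⟨killed_of_iso (kernelIsIsoComp (e.hom.app (op n)) (α.app (op n))).symm (ht n).1,
    killed_of_iso (cokernelEpiComp (e.hom.app (op n)) (α.app (op n))).symm (ht n).2⟩⟩

end

/-- bounded kernels and cokernels are preserved by flat pullback, with change of the base ring -/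
theorem kerCoker_pullback {A A' : Type u} [CommRing A] [CommRing A'] (φ : A →+* A') {X X' : Scheme.{u}}
    [X.Over (Spec (CommRingCat.of A))] [X'.Over (Spec (CommRingCat.of A))] [X'.Over (Spec (CommRingCat.of A'))]
    (hc : ∀ (M : X'.Modules) (a : A), Formal.smulMod A' M (φ a) = Formal.smulMod A M a)
    (g : X' ⟶ X) [Flat g] (hg : g ≫ (X ↘ Spec (CommRingCat.of A)) = X' ↘ Spec (CommRingCat.of A))
    {I : Ideal A} {G G' : ℕᵒᵖ ⥤ X.Modules} (α : G ⟶ G') (hα : Formal2.KerCokerKilledByIPow I α) :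
    Formal2.KerCokerKilledByIPow (I.map φ) (Functor.whiskerRight α (Scheme.Modules.pullback g)) := by
  haveI : PreservesFiniteLimits (Scheme.Modules.pullback g) := DCat.FlatPull.preservesFiniteLimits_pullback g
  haveI := Adjunction.leftAdjoint_preservesColimits.{0, 0} (Scheme.Modules.pullbackPushforwardAdjunction g)
  have conv : ∀ {J : Ideal A} {M : X'.Modules}, Formal.KilledBy J M → Formal.KilledBy (J.map φ) M :=
    fun {J M} h b hb => by
      have := S9538.smulMod_comp_of_map φ hc J (𝟙 M) (fun a ha => by rw [Category.comp_id]; exact h a ha) b hb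
      rwa [Category.comp_id] at this
  obtain ⟨t, ht⟩ := hα
  refine ⟨t, fun n => ?_⟩
  rw [← Ideal.map_pow]
  exact ⟨killed_of_iso (PreservesKernel.iso (Scheme.Modules.pullback g) (α.app (op n)))
      (conv (Formal2Lib.killedBy_pullback hg (ht n).1)),
    killed_of_iso (PreservesCokernel.iso (Scheme.Modules.pullback g) (α.app (op n)))
      (conv (Formal2Lib.killedBy_pullback hg (ht n).2))⟩

/-- Let A be a Noetherian ring, I ⊆ 𝔞 ideals, U = Spec A ∖ V(𝔞), and α a morphism between objects (F_n),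
(F'_n) of Coh(U, I O_U) such that one fixed power of I kills the kernel and the cokernel of every
component of α. Then (F_n) extends to Spec A if and only if (F'_n) does. (Part (2), the same
equivalence for being the completion of a coherent module, is the content of the two existence
results for maps into and out of a completion and is not restated.) -/
theorem result (A : Type u) [CommRing A] [IsNoetherianRing A] (I 𝔞 : Ideal A) (hI𝔞 : I ≤ 𝔞)
    (G G' : ℕᵒᵖ ⥤ (↑(LocCoh.puncturedOpen A 𝔞) : Scheme.{u}).Modules) (hG : Formal.IsCohFormal I G) (hG' : Formal.IsCohFormal I G')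
    (α : G ⟶ G') (hα : Formal2.KerCokerKilledByIPow I α) :
    @Algz.Extends A _ (Spec (CommRingCat.of A)) ⟨𝟙 (Spec (CommRingCat.of A))⟩ I (LocCoh.puncturedOpen A 𝔞) G ↔ @Algz.Extends A _ (Spec (CommRingCat.of A)) ⟨𝟙 (Spec (CommRingCat.of A))⟩ I (LocCoh.puncturedOpen A 𝔞) G' := by
  have hIfg : I.FG := IsNoetherian.noetherian I
  haveI : IsNoetherianRing (AdicCompletion I A) := AdicRing.isNoetherianRing_completion I hIfg
  let φ := algebraMap A (AdicCompletion I A)
  let f := Spec.map (CommRingCat.ofHom φ)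
  haveI : Flat f := (HasRingHomProperty.Spec_iff (P := @Flat)).2 (RingHom.flat_algebraMap_iff.2 inferInstance)
  let U := LocCoh.puncturedOpen A 𝔞
  let U' := f ⁻¹ᵁ U
  let g := f ∣_ U
  letI : (Spec (CommRingCat.of A)).Over (Spec (CommRingCat.of A)) := ⟨𝟙 _⟩
  letI : (Spec (CommRingCat.of (AdicCompletion I A))).Over (Spec (CommRingCat.of (AdicCompletion I A))) := ⟨𝟙 _⟩
  letI : (U' : Scheme.{u}).Over (Spec (CommRingCat.of A)) := ⟨g ≫ ((U : Scheme.{u}) ↘ Spec (CommRingCat.of A))⟩
  have hg : g ≫ ((U : Scheme.{u}) ↘ Spec (CommRingCat.of A)) = (U' : Scheme.{u}) ↘ Spec (CommRingCat.of A) := rfl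
  have hcU : ∀ (M : (U' : Scheme.{u}).Modules) (a : A),
      Formal.smulMod (AdicCompletion I A) M (φ a) = Formal.smulMod A M a := fun M a => by
    show Formal.smulModΓ M _ = Formal.smulModΓ M _
    congr 1
    show Coh.toGlobal (U'.ι ≫ 𝟙 _) (φ a) = Coh.toGlobal (g ≫ U.ι ≫ 𝟙 _) a
    rw [Category.comp_id, Category.comp_id, morphismRestrict_ι]
    simp only [Coh.toGlobal, Scheme.Hom.comp_appTop]
    exact congrArg U'.ι.appTop.hom
      (congrArg (fun m : CommRingCat.of A ⟶ _ => m.hom a) (Scheme.ΓSpecIso_inv_naturality (CommRingCat.ofHom φ)))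
  haveI : CompactSpace (U' : Scheme.{u}) := isCompact_iff_compactSpace.1 (TopologicalSpace.NoetherianSpace.isCompact _)
  haveI : AlgebraicGeometry.IsNoetherian (U' : Scheme.{u}) := ⟨⟩
  let α' : G ⋙ Scheme.Modules.pullback g ⟶ G' ⋙ Scheme.Modules.pullback g := Functor.whiskerRight α _
  have hα' : Formal2.KerCokerKilledByIPow (I.map φ) α' := kerCoker_pullback φ hcU g hg α hα
  have hGA : Formal.IsCohFormal (I.map φ) (G ⋙ Scheme.Modules.pullback g) :=
    S9538.isCohFormal_map φ hcU (S9538.isCohFormal_pull hg hG)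
  have hGA' : Formal.IsCohFormal (I.map φ) (G' ⋙ Scheme.Modules.pullback g) :=
    S9538.isCohFormal_map φ hcU (S9538.isCohFormal_pull hg hG')
  refine (S9539.result A I 𝔞 hI𝔞 G hG).trans (Iff.trans ?_ (S9539.result A I 𝔞 hI𝔞 G' hG').symm)
  constructor
  · rintro ⟨F, hF, ⟨e⟩⟩
    obtain ⟨F', a, β, hF', -, -⟩ := S0851.result (AdicCompletion I A) (I.map φ) (U' : Scheme.{u}) F hF
      (G' ⋙ Scheme.Modules.pullback g) hGA' (e.hom ≫ α') (kerCoker_iso_comp e α' hα')
    exact ⟨F', hF', ⟨β⟩⟩
  · rintro ⟨F, hF, ⟨e⟩⟩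
    obtain ⟨F', a, β, hF', -, -⟩ := S0829.result (AdicCompletion I A) (I.map φ) (U' : Scheme.{u}) F hF
      (G ⋙ Scheme.Modules.pullback g) hGA (α' ≫ e.symm.hom) (kerCoker_comp_iso α' e.symm hα')
    exact ⟨F', hF', ⟨β.symm⟩⟩

end Groth.Agent.S9537
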