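import Groth.Statements.S9543
import Groth.Agent.Formal2Lib.PuncturedSections
import Groth.Agent.S0840
import Groth.Agent.S0839

set_option autoImplicit false
universe u
open CategoryTheory
open Formal2

namespace Groth.Agent.S9543

open AlgebraicGeometry Opposite in
/-- Let A be a Noetherian ring, f an element of an ideal 𝔞 with A complete for the f-adic topology, U =
Spec A ∖ V(𝔞), and assume that H^1_𝔞(A) and H^2_𝔞(A) are each annihilated by a power of f. Then the
completion functor for the ideal (f) is fully faithful on finite locally free O_U-modules. (The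
published statement writes the target category with an unnamed ideal I; the proof is for the ideal
(f), which is what is stated.) -/
theorem result (A : Type u) [CommRing A]
    [IsNoetherianRing A] (𝔞 : Ideal A) (f : A) (hf : f ∈ 𝔞) [IsAdicComplete (Ideal.span {f}) A]
    (h₁ : ∃ n : ℕ, ∀ x : LocCoh.H 𝔞 1 A, f ^ n • x = 0) (h₂ : ∃ n : ℕ, ∀ x : LocCoh.H 𝔞 2 A, f ^ n • x = 0) :
    ∀ (E E' : (↑(LocCoh.puncturedOpen A 𝔞) : Scheme.{u}).Modules), FlatMod.IsFinLocFree E → FlatMod.IsFinLocFree E' →
      ∀ ψ : Formal.completion (Ideal.span {f}) E ⟶ Formal.completion (Ideal.span {f}) E',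
        ∃! φ : E ⟶ E', ∀ n : ℕ, Formal.modPowπ (Ideal.span {f}) (n + 1) E ≫ ψ.app (op n) = φ ≫ Formal.modPowπ (Ideal.span {f}) (n + 1) E' := by
  intro E E' hE hE' ψ
  have : IsNoetherianRing (CommRingCat.of A) := ‹IsNoetherianRing A›
  have : IsAdicComplete (Ideal.span ({f} : Set (CommRingCat.of A))) (CommRingCat.of A) :=
    ‹IsAdicComplete (Ideal.span {f}) A›
  have : CompactSpace (↑(LocCoh.puncturedOpen A 𝔞) : Scheme.{u}) :=
    isCompact_iff_compactSpace.1 (TopologicalSpace.NoetherianSpace.isCompact _)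
  have : IsLocallyNoetherian (↑(LocCoh.puncturedOpen A 𝔞) : Scheme.{u}) :=
    LocallyOfFiniteType.isLocallyNoetherian (LocCoh.puncturedOpen A 𝔞).ι
  have : IsNoetherian (↑(LocCoh.puncturedOpen A 𝔞) : Scheme.{u}) := ⟨⟩
  have : (↑(LocCoh.puncturedOpen A 𝔞) : Scheme.{u}).IsQuasiAffine :=
    Scheme.IsQuasiAffine.of_isImmersion (LocCoh.puncturedOpen A 𝔞).ι
  have h := Groth.Agent.Formal2Lib.Punct.toHHlim_bijective_structureModule (R := CommRingCat.of A) 𝔞 f h₁ h₂
  exact Groth.Agent.S0840.result A (Ideal.span {f}) _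
    (fun G hG => Groth.Agent.S0839.result A (Ideal.span {f}) _ h G hG) E E' hE hE' ψ

end Groth.Agent.S9543
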