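import Groth.Statements.S9551
import Groth.Agent.AlgzLib.MLLimit
import Groth.Agent.Formal2Lib.PuncturedMod
import Groth.Agent.Coherent.Existence.AffineLimit
import Groth.Agent.AlgzLib.CohFormalFull
-- import your own Groth.Agent.* helpers here

set_option autoImplicit false
universe u
open CategoryTheory CategoryTheory.Limits AlgebraicGeometry Opposite
open Algz

namespace Groth.Agent.S9551

set_option backward.isDefEq.respectTransparency false
open Groth.Agent.Formal2Lib

/-- Sections over a basic open of the punctured spectrum come from the limit, up to a power. -/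
theorem exists_pow_mem_range {R : CommRingCat.{u}} [IsNoetherianRing R] {I : Ideal R} (𝔞 : Ideal R)
    (G : ℕᵒᵖ ⥤ (Punct.US 𝔞).Modules) (hG : Formal.IsCohFormal I G)
    (ha : ARSys.IsML (Algz.sectMod R (LocCoh.puncturedOpen R 𝔞) G)) (n : ℕ) (a : R) (haa : a ∈ 𝔞)
    (x : Punct.N 𝔞 (G.obj (op n))) :
    ∃ k : ℕ, a ^ k • x ∈
      LinearMap.range (limit.π (Algz.sectMod R (LocCoh.puncturedOpen R 𝔞) G) (op n)).hom := by
  obtain ⟨s, hs, hle⟩ := AlgzLib.exists_range_limit_π_eq ha n
  have hle' : Punct.D a ≤ (Punct.jU 𝔞).opensRange := by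
    rw [Scheme.Opens.opensRange_ι]; exact Punct.D_le 𝔞 haa
  have hDa : IsAffineOpen (Punct.D a) := by
    have := (isAffineOpen_top (Spec R)).basicOpen ((Scheme.ΓSpecIso R).inv a)
    rwa [basicOpen_eq_of_affine] at this
  have hW : IsAffineOpen (Punct.jU 𝔞 ⁻¹ᵁ Punct.D a) := hDa.preimage_of_isOpenImmersion _ hle'
  haveI := (hG.1 n).1
  haveI := (hG.1 s).1
  haveI := AlgzLib.epi_map hG hs
  obtain ⟨z, hz⟩ := Coherent.Existence.app_surjective_of_epi (G.map (homOfLE hs).op) hW
    (Punct.ρ 𝔞 (G.obj (op n)) (Punct.D a) x)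
  obtain ⟨k, y, hy⟩ := Punct.exists_num 𝔞 (G.obj (op s)) a z
  obtain ⟨l, hl⟩ := Punct.exists_pow_zero 𝔞 (G.obj (op n)) a
    ((Punct.Nmap 𝔞 (G.map (homOfLE hs).op)).hom y - a ^ k • x) (by
      rw [map_sub, Punct.ρ_map, hy, map_smul, map_smul, sub_eq_zero]
      exact congrArg (a ^ k • ·) hz)
  refine ⟨l + k, ?_⟩
  rw [pow_add, mul_smul, ← sub_eq_zero.1 ((smul_sub _ _ _).symm.trans hl)]
  exact Submodule.smul_mem _ _ (hle ⟨y, rfl⟩)

/-- Let A be a Noetherian ring, I ⊆ 𝔞 ideals, U = Spec A ∖ V(𝔞) with inclusion j, (F_n) an object of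
Coh(U, I O_U) and M = lim_n H^0(U, F_n). If the system H^0(U, F_n) is Mittag-Leffler, then for every
n the canonical map from M~|_U to F_n, adjoint (under the tilde and restriction adjunctions) to the
projection M → H^0(U, F_n) = Γ(Spec A, j_*F_n), is an epimorphism. (The source states surjectivity
of (M/I^nM)~|_U → F_n; the map from M~|_U factors through it after the epimorphism M~ → (M/I^nM)~,
so the two surjectivity statements are equivalent.) -/
theorem result (A : Type u) [CommRing A] [IsNoetherianRing A] (I 𝔞 : Ideal A) (hI𝔞 : I ≤ 𝔞)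
    (G : ℕᵒᵖ ⥤ (↑(LocCoh.puncturedOpen A 𝔞) : Scheme.{u}).Modules) (hG : Formal.IsCohFormal I G)
    (ha : ARSys.IsML (Algz.sectMod A (LocCoh.puncturedOpen A 𝔞) G)) (n : ℕ) :
    Epi (((Scheme.Modules.restrictAdjunction (LocCoh.puncturedOpen A 𝔞).ι).homEquiv _ (G.obj (op n))).symm
      (((tilde.adjunction (R := CommRingCat.of A)).homEquiv (limit (Algz.sectMod A (LocCoh.puncturedOpen A 𝔞) G))
        ((Scheme.Modules.pushforward (LocCoh.puncturedOpen A 𝔞).ι).obj (G.obj (op n)))).symm
          (limit.π (Algz.sectMod A (LocCoh.puncturedOpen A 𝔞) G) (op n)))) := by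
  let U := LocCoh.puncturedOpen A 𝔞
  let S := LinearMap.range (limit.π (Algz.sectMod A U G) (op n)).hom
  have hS : ∀ x, ∃ m : ℕ, ∀ b ∈ 𝔞 ^ m, b • x ∈ S := fun x =>
    Punct.torsion_of_gens (R := CommRingCat.of A) (t := (𝔞 : Set A)) 𝔞 (le_of_eq (Ideal.span_eq 𝔞).symm) S x fun a ha' =>
      exists_pow_mem_range (R := CommRingCat.of A) 𝔞 G hG ha n a ha' x
  haveI := Punct.isIso_restrict_tilde_subtype (R := CommRingCat.of A) 𝔞 (M := Punct.N 𝔞 (G.obj (op n))) S hS
  let p : limit (Algz.sectMod A U G) ⟶ ModuleCat.of A S :=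
    ModuleCat.ofHom (limit.π (Algz.sectMod A U G) (op n)).hom.rangeRestrict
  have : Epi p := (ModuleCat.epi_iff_surjective p).2 (LinearMap.surjective_rangeRestrict _)
  haveI := (tilde.adjunction (R := CommRingCat.of A)).leftAdjoint_preservesColimits
  haveI hRl : (Scheme.Modules.restrictFunctor U.ι).IsLeftAdjoint := inferInstance
  haveI : Epi ((Scheme.Modules.restrictFunctor U.ι).map (tilde.map (R := CommRingCat.of A) p)) :=
    (inferInstance : Epi ((tilde.functor (CommRingCat.of A) ⋙ Scheme.Modules.restrictFunctor U.ι).map p))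
  haveI := (hG.1 n).1
  haveI := Punct.isIso_θ (R := CommRingCat.of A) 𝔞 (G.obj (op n))
  have e : ((Scheme.Modules.restrictAdjunction U.ι).homEquiv _ (G.obj (op n))).symm
      (((tilde.adjunction (R := CommRingCat.of A)).homEquiv (limit (Algz.sectMod A U G))
        ((Scheme.Modules.pushforward U.ι).obj (G.obj (op n)))).symm (limit.π (Algz.sectMod A U G) (op n))) =
    ((Scheme.Modules.restrictFunctor U.ι).map (tilde.map (R := CommRingCat.of A) p) ≫
      (Scheme.Modules.restrictFunctor U.ι).map (tilde.map (R := CommRingCat.of A) (ModuleCat.ofHom S.subtype))) ≫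
        Punct.θ (R := CommRingCat.of A) 𝔞 (G.obj (op n)) := by
    rw [Adjunction.homEquiv_counit, Adjunction.homEquiv_counit, Functor.map_comp, Category.assoc,
      ← Functor.map_comp, ← tilde.functor_map, ← tilde.functor_map, ← Functor.map_comp]
    rfl
  rw [e]
  infer_instance

end Groth.Agent.S9551
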