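import Groth.Statements.S9553
import Groth.Agent.S9534
import Groth.Agent.Formal2Lib.PuncturedMod
import Groth.Agent.Misc15.KoszulTilde
import Groth.Agent.AffSchLib.CohRestrict
-- import your own Groth.Agent.* helpers here

set_option autoImplicit false
universe u
open CategoryTheory CategoryTheory.Limits AlgebraicGeometry Opposite
open Algz

namespace Groth.Agent.S9553

set_option backward.isDefEq.respectTransparency false
open Groth.Agent.Formal2Lib Groth.Agent.Misc15

/-- A module dominated by a submodule of the sections of a coherent module is coherent on the punctured spectrum. -/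
theorem isCoh_restrict_of_sections {R : CommRingCat.{u}} [IsNoetherianRing R] (𝔞 : Ideal R) {M : ModuleCat.{u} R}
    (F : (Punct.US 𝔞).Modules) (hF : Coh.IsCoh F) (π : M ⟶ Punct.N 𝔞 F) (Q : ModuleCat.{u} R)
    (p : M ⟶ Q) (hp : Function.Surjective p) (h : LinearMap.ker π.hom ≤ LinearMap.ker p.hom) :
    Coh.IsCoh ((Scheme.Modules.restrictFunctor (Punct.jU 𝔞)).obj (tilde (R := R) Q)) := by
  obtain ⟨S0, hS0, htor⟩ := Punct.exists_fg_torsion 𝔞 F hF
  haveI : Module.Finite R S0 := Module.Finite.of_fg hS0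
  let T : Submodule R Q := (S0.comap π.hom).map p.hom
  have hTfin : Module.Finite R T := by
    let r : (S0.comap π.hom) →ₗ[R] S0 := π.hom.restrict fun x hx => hx
    have hr : LinearMap.ker r ≤ LinearMap.ker (p.hom.submoduleMap (S0.comap π.hom)) := fun x hx => by
      rw [LinearMap.mem_ker] at hx ⊢
      exact Subtype.ext (h (LinearMap.mem_ker.2 (congrArg Subtype.val hx)))
    refine Module.Finite.of_surjective (((LinearMap.ker r).liftQ _ hr).comp
      r.quotKerEquivRange.symm.toLinearMap) fun y => ?_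
    obtain ⟨x, rfl⟩ := LinearMap.submoduleMap_surjective p.hom (S0.comap π.hom) y
    exact ⟨r.quotKerEquivRange (Submodule.Quotient.mk x), (congrArg _ (LinearEquiv.symm_apply_apply _ _)).trans rfl⟩
  have hT : ∀ q : Q, ∃ m : ℕ, ∀ b ∈ 𝔞 ^ m, b • q ∈ T := fun q => by
    obtain ⟨z, rfl⟩ := hp q
    obtain ⟨m, hm⟩ := htor (π.hom z)
    exact ⟨m, fun b hb => ⟨b • z, by show π.hom (b • z) ∈ S0; rw [map_smul]; exact hm b hb, map_smul _ _ _⟩⟩
  have := Punct.isIso_restrict_tilde_subtype 𝔞 T hT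
  exact AffSchLib.isCoh_restrict_tilde (LocCoh.puncturedOpen R 𝔞) (ModuleCat.of R T) hTfin _
    (asIso ((Scheme.Modules.restrictFunctor (Punct.jU 𝔞)).map (tilde.map (R := R) (ModuleCat.ofHom T.subtype)))).symm

/-- A section killed after mapping is killed in the sections of the punctured spectrum up to a power. -/
theorem exists_pow_of_adjoint_eq_zero {R : CommRingCat.{u}} [IsNoetherianRing R] (𝔞 : Ideal R)
    (F : (Punct.US 𝔞).Modules) [Coh.IsQCoh F] {Q : ModuleCat.{u} R} (l : Q ⟶ Punct.N 𝔞 F) (f : R)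
    (q : Q) (e : ℕ) (s : Γ(tilde Q, Coherent.specBasicOpen f))
    (hs : Koszul.rho Q (Coherent.specBasicOpen f) q = f ^ e • s)
    (h0 : Scheme.Modules.Hom.app (((tilde.adjunction (R := R)).homEquiv Q (Punct.P 𝔞 F)).symm l)
      (Coherent.specBasicOpen f) s = 0) : ∃ k : ℕ, f ^ k • l.hom q = 0 := by
  refine Punct.exists_pow_zero 𝔞 F f (l.hom q) ?_
  let φ := ((tilde.adjunction (R := R)).homEquiv Q (Punct.P 𝔞 F)).symm l
  let φl := ((modulesSpecToSheaf.map φ).hom.app (op (Coherent.specBasicOpen f))).hom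
  have h1 : φl (Koszul.rho Q (Coherent.specBasicOpen f) q) = Punct.ρ 𝔞 F (Punct.D f) (l.hom q) := by
    have hφ : φ = tilde.map (R := R) l ≫ (Punct.P 𝔞 F).fromTildeΓ := by
      show ((tilde.adjunction (R := R)).homEquiv Q (Punct.P 𝔞 F)).symm l = _
      rw [Adjunction.homEquiv_counit]
      rfl
    have := ConcreteCategory.congr_hom (Scheme.Modules.toOpen_fromTildeΓ_app (Punct.P 𝔞 F) (Coherent.specBasicOpen f)) (l.hom q)
    refine Eq.trans ?_ this
    show φ.app _ _ = (Punct.P 𝔞 F).fromTildeΓ.app _ _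
    rw [hφ]
    exact congrArg ((Punct.P 𝔞 F).fromTildeΓ.app (Coherent.specBasicOpen f)) (Koszul.rho_map l _ q)
  rw [← h1, hs, map_smul]
  exact (congrArg (f ^ e • ·) h0).trans (smul_zero _)

/-- Compatible sections killed by the maps to the punctured spectrum vanish. -/
theorem sections_eq_zero {R : CommRingCat.{u}} [IsNoetherianRing R] (I 𝔞 : Ideal R)
    (G : ℕᵒᵖ ⥤ (Punct.US 𝔞).Modules) (hG : ∀ n, Coh.IsQCoh (G.obj (op n)))
    (M : ModuleCat.{u} R) (π : ∀ n, M ⟶ Punct.N 𝔞 (G.obj (op n)))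
    (hb : ∀ n, ∃ ν, n ≤ ν ∧ LinearMap.ker (π ν).hom ≤ I ^ (n + 1) • (⊤ : Submodule R M))
    (Q : ℕ → ModuleCat.{u} R) (p : ∀ n, M ⟶ Q n) (hp : ∀ n, Function.Surjective (p n))
    (hpk : ∀ n, LinearMap.ker (p n).hom = I ^ (n + 1) • (⊤ : Submodule R M))
    (t : ∀ n, Q (n + 1) ⟶ Q n) (ht : ∀ n, p (n + 1) ≫ t n = p n)
    (l : ∀ n, Q n ⟶ Punct.N 𝔞 (G.obj (op n))) (hl : ∀ n, p n ≫ l n = π n)
    (f : R) (x : ∀ n, Γ(tilde (Q n), Coherent.specBasicOpen f))
    (hx : ∀ n, (tilde.map (R := R) (t n)).app (Coherent.specBasicOpen f) (x (n + 1)) = x n)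
    (h0 : ∀ n, Scheme.Modules.Hom.app (((tilde.adjunction (R := R)).homEquiv (Q n) (Punct.P 𝔞 (G.obj (op n)))).symm (l n))
      (Coherent.specBasicOpen f) (x n) = 0) (n : ℕ) : x n = 0 := by
  obtain ⟨ν, hν, hker⟩ := hb n
  have := hG ν
  obtain ⟨e, q, hq⟩ := Koszul.exists_rho_eq (Q ν) f (x ν)
  obtain ⟨z, rfl⟩ := hp ν q
  obtain ⟨k, hk⟩ := exists_pow_of_adjoint_eq_zero 𝔞 (G.obj (op ν)) (l ν) f _ e (x ν) hq (h0 ν)
  have hz : (p n).hom (f ^ k • z) = 0 := LinearMap.mem_ker.1 (hpk n ▸ hker (LinearMap.mem_ker.2 (by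
    rw [map_smul, ← hl ν]; exact hk)))
  have key : ∀ j (h : n ≤ j) (w : M) (s : Γ(tilde (Q j), Coherent.specBasicOpen f)),
      Koszul.rho (Q j) (Coherent.specBasicOpen f) ((p j).hom w) = f ^ e • s → s = x j →
      Koszul.rho (Q n) (Coherent.specBasicOpen f) ((p n).hom w) = f ^ e • x n := by
    intro j h
    induction j, h using Nat.le_induction with
    | base => intro w s hs he; rw [hs, he]
    | succ j h ih =>
      intro w s hs he
      refine ih w (x j) ?_ rfl
      have h2 := congrArg ((modulesSpecToSheaf.map (tilde.map (R := R) (t j))).hom.app (op (Coherent.specBasicOpen f))).hom hs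
      rw [map_smul, he] at h2
      refine Eq.trans ?_ (h2.trans (congrArg (f ^ e • ·) (hx j)))
      refine Eq.trans ?_ (Koszul.rho_map (t j) _ ((p (j + 1)).hom w)).symm
      exact congrArg (Koszul.rho (Q j) _) (ConcreteCategory.congr_hom (ht j) w).symm
  have h3 := key ν hν z (x ν) hq rfl
  refine ((Scheme.Modules.isSMulRegular_of_le_basicOpen (M := tilde (R := R) (Q n))
    (U := Coherent.specBasicOpen f) (f := f) le_rfl).pow (k + e)) ?_
  show f ^ (k + e) • x n = f ^ (k + e) • 0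
  rw [smul_zero, pow_add, mul_smul, ← h3, ← map_smul, ← map_smul, hz, map_zero]

/-- Let A be a Noetherian ring, I ⊆ 𝔞 ideals, U = Spec A ∖ V(𝔞) with inclusion j, (F_n) an object of
Coh(U, I O_U), M = lim_n H^0(U, F_n) and G_n = (M/I^(n+1)M)~ (positions shifted by one). Assume the
limit topology of M agrees with the I-adic one: for every k some kernel of M → H^0(U, F_n) lies in
I^k M. Let ℓ_n : M/I^(n+1)M → H^0(U, F_n) = Γ(Spec A, j_*F_n) be the factorisations of the
projections (they exist since F_n is killed by I^(n+1); they are pinned here by that property) and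
G_n → j_*F_n the adjoint maps. Then (i) each G_n|_U is coherent, and (ii) the resulting morphism
(G_n|_U) → (F_n) of inverse systems is a monomorphism in Coh(U, I O_U) (an abelian category), in the
form the printed proof establishes: for every f ∈ 𝔞, a family of sections of the G_n over D(f),
compatible under the transition maps, whose images in the Γ(D(f), j_*F_n) = Γ(D(f) ∩ U, F_n) all
vanish, is zero. -/
theorem result (A : Type u) [CommRing A] [IsNoetherianRing A] (I 𝔞 : Ideal A) (hI𝔞 : I ≤ 𝔞)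
    (G : ℕᵒᵖ ⥤ (↑(LocCoh.puncturedOpen A 𝔞) : Scheme.{u}).Modules) (hG : Formal.IsCohFormal I G)
    (hb : ∀ k : ℕ, ∃ n : ℕ, LinearMap.ker (limit.π (Algz.sectMod A (LocCoh.puncturedOpen A 𝔞) G) (op n)).hom ≤
      I ^ k • (⊤ : Submodule A ↑(limit (Algz.sectMod A (LocCoh.puncturedOpen A 𝔞) G))))
    (ℓ : ∀ n : ℕ, ModuleCat.of A (Formal2.quotPow A I ↑(limit (Algz.sectMod A (LocCoh.puncturedOpen A 𝔞) G)) n) ⟶ (Algz.sectMod A (LocCoh.puncturedOpen A 𝔞) G).obj (op n))
    (hℓ : ∀ n : ℕ, ModuleCat.ofHom (Formal2.quotPowπ A I ↑(limit (Algz.sectMod A (LocCoh.puncturedOpen A 𝔞) G)) n) ≫ ℓ n = limit.π (Algz.sectMod A (LocCoh.puncturedOpen A 𝔞) G) (op n)) :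
    (∀ n : ℕ, Coh.IsCoh ((Scheme.Modules.restrictFunctor (LocCoh.puncturedOpen A 𝔞).ι).obj (Formal2.tmod A (Formal2.quotPow A I ↑(limit (Algz.sectMod A (LocCoh.puncturedOpen A 𝔞) G)) n)))) ∧
    ∀ (f : A), f ∈ 𝔞 →
      ∀ x : (∀ n : ℕ, (Scheme.Modules.presheaf (Formal2.tmod A (Formal2.quotPow A I ↑(limit (Algz.sectMod A (LocCoh.puncturedOpen A 𝔞) G)) n))).obj (op (PrimeSpectrum.basicOpen f : (Spec (CommRingCat.of A)).Opens))),
        (∀ n : ℕ, Scheme.Modules.Hom.app (Formal2.tmodMap A (Formal2.quotPowTrans A I ↑(limit (Algz.sectMod A (LocCoh.puncturedOpen A 𝔞) G)) n)) (PrimeSpectrum.basicOpen f : (Spec (CommRingCat.of A)).Opens) (x (n + 1)) = x n) →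
        (∀ n : ℕ, Scheme.Modules.Hom.app
            (((tilde.adjunction (R := CommRingCat.of A)).homEquiv (ModuleCat.of A (Formal2.quotPow A I ↑(limit (Algz.sectMod A (LocCoh.puncturedOpen A 𝔞) G)) n))
              ((Scheme.Modules.pushforward (LocCoh.puncturedOpen A 𝔞).ι).obj (G.obj (op n)))).symm (ℓ n))
            (PrimeSpectrum.basicOpen f : (Spec (CommRingCat.of A)).Opens) (x n) = 0) →
        ∀ n : ℕ, x n = 0 := by
  let U := LocCoh.puncturedOpen A 𝔞
  let X := Algz.sectMod A U G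
  choose ν₀ hν₀ using fun n => hb (n + 1)
  have hb' : ∀ n, ∃ ν, n ≤ ν ∧ LinearMap.ker (limit.π X (op ν)).hom ≤ I ^ (n + 1) • (⊤ : Submodule A ↑(limit X)) :=
    fun n => ⟨max n (ν₀ n), le_max_left _ _, fun z hz => hν₀ n (LinearMap.mem_ker.2 (by
      exact (Groth.Agent.S9534.tr_π X (le_max_right n (ν₀ n)) z).symm.trans
        ((congrArg _ (LinearMap.mem_ker.1 hz)).trans (map_zero _))))⟩
  let p : ∀ n, limit X ⟶ ModuleCat.of A (Formal2.quotPow A I ↑(limit X) n) :=
    fun n => ModuleCat.ofHom (Formal2.quotPowπ A I ↑(limit X) n)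
  refine ⟨fun n => ?_, fun f hf x hx h0 => ?_⟩
  · obtain ⟨ν, -, hν⟩ := hb' n
    exact isCoh_restrict_of_sections (R := CommRingCat.of A) 𝔞 (G.obj (op ν)) (hG.1 ν) (limit.π X (op ν))
      (ModuleCat.of A (Formal2.quotPow A I ↑(limit X) n)) (p n) (Submodule.mkQ_surjective _)
      (fun z hz => LinearMap.mem_ker.2 ((Submodule.Quotient.mk_eq_zero _).2 (hν hz)))
  · exact sections_eq_zero (R := CommRingCat.of A) I 𝔞 G (fun n => (hG.1 n).1) (limit X)
      (fun n => limit.π X (op n)) hb'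
      (fun n => ModuleCat.of A (Formal2.quotPow A I ↑(limit X) n)) p (fun n => Submodule.mkQ_surjective _)
      (fun n => Submodule.ker_mkQ _) (fun n => ModuleCat.ofHom (Formal2.quotPowTrans A I ↑(limit X) n))
      (fun n => ModuleCat.hom_ext (LinearMap.ext fun z => rfl)) ℓ hℓ f x hx h0

end Groth.Agent.S9553
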