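import Groth.Statements.S9560
import Groth.Agent.HenselLib.LocalEtale

set_option autoImplicit false
universe u
open EtLocal

namespace Groth.Agent.S9560

/-- Suppose A is a Noetherian ring and B is a finite-type A-algebra, and consider a prime q of B lying
over the prime p of A, where B_q carries its A_p-algebra structure. Then B is étale at q over A (the
local ring B_q is formally étale over A) if and only if the local homomorphism A_p → B_q is étale,
which means three things: B_q is A_p-flat, the ideal p B_q equals the maximal ideal of B_q, and the
residue field of q is a finite separable extension of the residue field of p (that B_q is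
essentially of finite type over A_p holds automatically). -/
theorem result (A B : Type u) [CommRing A] [CommRing B]
    [Algebra A B] [IsNoetherianRing A] [Algebra.FiniteType A B]
    (p : Ideal A) [p.IsPrime] (q : Ideal B) [q.IsPrime] [q.LiesOver p]
    [Algebra (Localization.AtPrime p) (Localization.AtPrime q)]
    [Localization.AtPrime.IsLiesOverAlgebra p q] :
    Algebra.IsEtaleAt A q ↔
      Module.Flat (Localization.AtPrime p) (Localization.AtPrime q) ∧
        p.map (algebraMap A (Localization.AtPrime q)) = IsLocalRing.maximalIdeal (Localization.AtPrime q) ∧
        Module.Finite p.ResidueField q.ResidueField ∧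
        Algebra.IsSeparable p.ResidueField q.ResidueField := by
  haveI : Algebra.FinitePresentation A B := Algebra.FinitePresentation.of_finiteType.mp inferInstance
  constructor
  · intro h
    haveI : Algebra.IsUnramifiedAt A q := (inferInstance : Algebra.FormallyUnramified A (Localization.AtPrime q))
    haveI := HenselLib.LocalEtale.flat_localization_of_isEtaleAt A B q
    obtain ⟨hs, hm⟩ := (Algebra.isUnramifiedAt_iff_map_eq A p q).mp inferInstance
    exact ⟨(Module.flat_iff_of_isLocalization (Localization.AtPrime p) p.primeCompl _).mpr inferInstance,
      hm, inferInstance, hs⟩
  · rintro ⟨hf, hm, hfin, hs⟩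
    haveI : Algebra.IsUnramifiedAt A q := (Algebra.isUnramifiedAt_iff_map_eq A p q).mpr ⟨hs, hm⟩
    haveI : Module.Flat A (Localization.AtPrime q) := Module.Flat.trans A (Localization.AtPrime p) _
    exact FlatLocal.isEtaleAt_of_flatAt q

end Groth.Agent.S9560
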