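import Groth.Statements.S9568
import Mathlib.RingTheory.Kaehler.Basic
import Mathlib.LinearAlgebra.TensorProduct.Quotient
import Mathlib.Algebra.Module.LocalizedModule.Submodule

set_option autoImplicit false
universe u
open EtLocal

namespace Groth.Agent.S9568

theorem span_image_eq_top_iff {R : Type u} [CommRing R] {S : Type u} [CommRing S] [Algebra R S]
    (p : Submonoid R) [IsLocalization p S] {M M' : Type u} [AddCommGroup M] [Module R M]
    [AddCommGroup M'] [Module R M'] [Module S M'] [IsScalarTower R S M'] (f : M →ₗ[R] M')
    [IsLocalizedModule p f] (T : Set M) :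
    Submodule.span S (f '' T) = ⊤ ↔ ∀ m : M, ∃ t ∈ p, t • m ∈ Submodule.span R T := by
  rw [← Submodule.localized'_span S p f T]
  constructor
  · intro h m
    have hm : f m ∈ (Submodule.span R T).localized' S p f := by rw [h]; exact Submodule.mem_top
    obtain ⟨n, hn, s, hs⟩ := (Submodule.mem_localized' S p f _ _).mp hm
    rw [IsLocalizedModule.mk'_eq_iff] at hs
    have hs' : f n = f ((s : R) • m) := by rw [hs, map_smul]; rfl
    obtain ⟨c, hc⟩ := IsLocalizedModule.exists_of_eq (S := p) hs'
    refine ⟨(c : R) * s, (c * s).2, ?_⟩
    rw [mul_smul]
    have hc' : (c : R) • n = (c : R) • (s : R) • m := hc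
    rw [← hc']
    exact Submodule.smul_mem _ _ hn
  · intro h
    rw [eq_top_iff]
    intro z _
    obtain ⟨⟨m, s⟩, rfl⟩ := IsLocalizedModule.mk'_surjective p f z
    obtain ⟨t, ht, htm⟩ := h m
    exact (Submodule.mem_localized' S p f _ _).mpr
      ⟨t • m, htm, ⟨t, ht⟩ * s, IsLocalizedModule.mk'_cancel_left f m ⟨t, ht⟩ s⟩

/-- Let A be a ring, φ a surjection from the polynomial ring P = A[x_1, …, x_n] onto an A-algebra B with
kernel I, q a prime of B and 𝔮 its preimage in P. Then the localization at q of the module of
differentials Ω_{B/A} vanishes if and only if the images of the differentials dg, g ∈ I, span the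
localization of Ω_{P/A} at 𝔮 over P_𝔮. (Geometrically: for f locally of finite type, the stalk of
Ω_{X/Y} at x vanishes iff near x the scheme X is a closed subscheme of an affine space over the base
cut out by an ideal whose germs at the point have differentials generating the stalk of Ω of the
affine space; the published statement also lists the equivalence with f being unramified at x and
with the diagonal being a local isomorphism at x, which this row does not restate. The published
statement asks for one such presentation near the point; this row states the equivalence for every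
presentation, which is what the published proof shows and which implies the existential form.) -/
theorem result {A B : Type u} [CommRing A] [CommRing B]
    [Algebra A B] (n : ℕ) (φ : MvPolynomial (Fin n) A →ₐ[A] B) (hφ : Function.Surjective φ)
    (q : Ideal B) [q.IsPrime] :
    Subsingleton (LocalizedModule q.primeCompl (KaehlerDifferential A B)) ↔
      Submodule.span (Localization.AtPrime (q.comap φ.toRingHom))
        ((LocalizedModule.mkLinearMap (q.comap φ.toRingHom).primeCompl
            (KaehlerDifferential A (MvPolynomial (Fin n) A))) ''
          ((KaehlerDifferential.D A (MvPolynomial (Fin n) A)) '' (RingHom.ker φ.toRingHom : Set (MvPolynomial (Fin n) A)))) = ⊤ := by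
  classical
  let P := MvPolynomial (Fin n) A
  letI : Algebra P B := φ.toRingHom.toAlgebra
  haveI : IsScalarTower A P B := IsScalarTower.of_algebraMap_eq fun a => (φ.commutes a).symm
  set Q := q.comap φ.toRingHom
  let N : Submodule P (KaehlerDifferential A P) :=
    Submodule.span P ((KaehlerDifferential.D A P) '' (RingHom.ker φ.toRingHom : Set P))
  let μ := KaehlerDifferential.map A A P B
  have hμ : Function.Surjective μ := KaehlerDifferential.map_surjective_of_surjective A A P B hφ
  have hIN : ∀ g ∈ RingHom.ker φ.toRingHom, ∀ ω : KaehlerDifferential A P, g • ω ∈ N := by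
    intro g hg ω
    have hω : ω ∈ Submodule.span P (Set.range (KaehlerDifferential.D A P)) :=
      (KaehlerDifferential.span_range_derivation A P).symm ▸ Submodule.mem_top
    induction hω using Submodule.span_induction with
    | mem ω hω =>
      obtain ⟨x, rfl⟩ := hω
      have e : g • KaehlerDifferential.D A P x =
          KaehlerDifferential.D A P (g * x) - x • KaehlerDifferential.D A P g := by
        rw [Derivation.leibniz, add_sub_cancel_right]
      rw [e]
      exact sub_mem (Submodule.subset_span ⟨g * x, Ideal.mul_mem_right x _ hg, rfl⟩)
        (Submodule.smul_mem _ x (Submodule.subset_span ⟨g, hg, rfl⟩))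
    | zero => rw [smul_zero]; exact zero_mem _
    | add a b _ _ ha hb => rw [smul_add]; exact add_mem ha hb
    | smul r a _ ha => rw [smul_comm]; exact N.smul_mem r ha
  have hker : ∀ ω, μ ω = 0 ↔ ω ∈ N := by
    intro ω
    constructor
    · intro hω
      have h1 : KaehlerDifferential.mapBaseChange A P B ((1 : B) ⊗ₜ[P] ω) = 0 := by
        rw [KaehlerDifferential.mapBaseChange_tmul, one_smul]; exact hω
      obtain ⟨c, hc⟩ := (KaehlerDifferential.exact_kerCotangentToTensor_mapBaseChange A P B hφ _).mp h1
      obtain ⟨g, rfl⟩ := Ideal.toCotangent_surjective _ c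
      rw [KaehlerDifferential.kerCotangentToTensor_toCotangent] at hc
      have h2 : ((1 : B) ⊗ₜ[P] (ω - KaehlerDifferential.D A P g.1)) = 0 := by
        rw [TensorProduct.tmul_sub, hc, sub_self]
      have hK : ω - KaehlerDifferential.D A P g.1 ∈
          (RingHom.ker φ.toRingHom) • (⊤ : Submodule P (KaehlerDifferential A P)) := by
        let e : (P ⧸ RingHom.ker φ.toRingHom) ≃ₐ[P] B :=
          Ideal.quotientKerAlgEquivOfSurjective (f := Algebra.ofId P B) hφ
        have h3 := congrArg (TensorProduct.map e.symm.toLinearMap (LinearMap.id (R := P))) h2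
        rw [TensorProduct.map_tmul, map_zero] at h3
        have h4 := congrArg (TensorProduct.quotTensorEquivQuotSMul (KaehlerDifferential A P) (RingHom.ker φ.toRingHom)) h3
        rw [map_zero, show e.symm.toLinearMap 1 = Ideal.Quotient.mk _ (1 : P) from map_one e.symm,
          LinearMap.id_apply, TensorProduct.quotTensorEquivQuotSMul_mk_tmul, one_smul,
          Submodule.Quotient.mk_eq_zero] at h4
        exact h4
      have h5 := Submodule.smul_le (P := N).mpr (fun r hr m _ => hIN r hr m) hK
      have := add_mem h5 (Submodule.subset_span ⟨g.1, g.2, rfl⟩ : KaehlerDifferential.D A P g.1 ∈ N)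
      simpa using this
    · intro hω
      induction hω using Submodule.span_induction with
      | mem ω hω =>
        obtain ⟨g, hg, rfl⟩ := hω
        rw [KaehlerDifferential.map_D, show algebraMap P B g = 0 from hg, map_zero]
      | zero => exact map_zero _
      | add a b _ _ ha hb => rw [map_add, ha, hb, add_zero]
      | smul r a _ ha => rw [map_smul, ha, smul_zero]
  have hsmul : ∀ (t : P) (ω : KaehlerDifferential A P), μ (t • ω) = φ t • μ ω := fun t ω => by
    rw [map_smul, ← algebraMap_smul B]; rfl
  have hL : Subsingleton (LocalizedModule q.primeCompl (KaehlerDifferential A B)) ↔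
      ∀ ω : KaehlerDifferential A P, ∃ t ∈ Q.primeCompl, t • ω ∈ N := by
    rw [LocalizedModule.subsingleton_iff]
    constructor
    · intro h ω
      obtain ⟨r, hr, hr'⟩ := h (μ ω)
      obtain ⟨t, rfl⟩ := hφ r
      exact ⟨t, hr, (hker _).mp (by rw [hsmul]; exact hr')⟩
    · intro h m
      obtain ⟨ω, rfl⟩ := hμ m
      obtain ⟨t, ht, ht'⟩ := h ω
      exact ⟨φ t, ht, by rw [← hsmul]; exact (hker _).mpr ht'⟩
  rw [hL]
  exact (span_image_eq_top_iff Q.primeCompl _ _).symm

end Groth.Agent.S9568
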