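import Groth.Statements.S9569
import Groth.Agent.Misc15.DefoConnAlg
import Groth.Agent.CurveRR24.GGTensor
import Groth.Agent.Coherent.FinitePres
import Groth.Agent.Coherent.ProjSpaceBC
import Groth.Agent.AmpleLib.Ample
import Groth.Agent.ParGP23.Tensor
import Groth.Agent.Coherent.TensorBasis
-- import your own Groth.Agent.* helpers here

set_option autoImplicit false
universe u
open CategoryTheory CategoryTheory.Limits AlgebraicGeometry TopologicalSpace Opposite
open Constr

set_option backward.isDefEq.respectTransparency false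
set_option backward.isDefEq.respectTransparency.types false
open CategoryTheory.Limits Opposite TopologicalSpace
open Groth.Agent.AmpleLib Groth.Agent.PicLib Groth.Agent.Misc15.DefoConnAlg Groth.Agent.Coherent

namespace Groth.Agent.S9569

theorem ktmul {X : Scheme.{u}} {M M' N N' : X.Modules} (φ : M ⟶ M') (ψ : N ⟶ N') {U : X.Opens} (a : Γ(M, U))
    (b : Γ(N, U)) : (KoszTw.tensorMap φ ψ).app U (tmul a b) = tmul (φ.app U a) (ψ.app U b) := by
  rw [Groth.Agent.ParGP23.koszMap_eq]
  exact AmpleLib.tensorMap_tmul φ ψ a b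

theorem tmul_symm {X : Scheme.{u}} {L : X.Modules} (hL : PicF.IsInvertible L) {U : X.Opens} (a b : Γ(L, U)) :
    tmul a b = tmul b a := by
  refine TopCat.Presheaf.section_ext (⟨(CohB1.tensorMod L L).presheaf, (CohB1.tensorMod L L).isSheaf⟩ :
    TopCat.Sheaf Ab X) U _ _ fun y hy => ?_
  obtain ⟨V, hyV, s, hs⟩ := exists_isGen hL y
  let W : X.Opens := U ⊓ V
  have hW : y ∈ W := ⟨hy, hyV⟩
  refine TopCat.Presheaf.germ_ext _ W hW (homOfLE inf_le_left) (homOfLE inf_le_left) ?_
  show resM (CohB1.tensorMod L L) (inf_le_left : W ≤ U) (tmul a b) = resM (CohB1.tensorMod L L) (inf_le_left : W ≤ U) (tmul b a)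
  rw [resM_tmul, resM_tmul]
  obtain ⟨r, hr⟩ := (hs W inf_le_right).2 (resM L (inf_le_left : W ≤ U) a)
  obtain ⟨t, ht⟩ := (hs W inf_le_right).2 (resM L (inf_le_left : W ≤ U) b)
  rw [← hr, ← ht, tmul_smul_left, tmul_smul_right, tmul_smul_left, tmul_smul_right, smul_comm]

/-- Let X be a scheme, L an invertible O_X-module and s_0, …, s_n global sections of L, given as module
maps O_X → L, which generate L: the map O_X^{n+1} → L they induce is an epimorphism. Let F be the
kernel of that map. Then F ⊗ L is globally generated, i.e. it is a quotient of a free O_X-module. -/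
theorem result (X : Scheme.{u}) (L : X.Modules) (hL : PicF.IsInvertible L)
    (n : ℕ) (s : Fin (n + 1) → (Coh.structureModule X ⟶ L))
    (hs : Epi (Sigma.desc s : FlatMod.freeMod X (n + 1) ⟶ L)) :
    Curv2.IsGloballyGenerated (CohB1.tensorMod (kernel (Sigma.desc s : FlatMod.freeMod X (n + 1) ⟶ L)) L) := by
  let p : FlatMod.freeMod X (n + 1) ⟶ L := Sigma.desc s
  haveI : Epi p := hs
  let S := ShortComplex.mk (kernel.ι p) p (kernel.condition p)
  have hS : S.ShortExact :=
    ShortComplex.ShortExact.mk' (ShortComplex.exact_of_f_is_kernel _ (kernelIsKernel p)) inferInstance inferInstance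
  haveI hLq : Coh.IsQCoh L := AmpleLib.isQCoh_of_isInvertible hL
  haveI : Coh.IsQCoh S.X₃ := hLq
  have hT := shortExact_tensor (S := S) hS (Coherent.isFinLocFree_of_invertible hL) L
  let G := FlatMod.freeMod X (n + 1)
  let Ψ : CohB1.tensorMod G G ⟶ CohB1.tensorMod G L :=
    KoszTw.tensorMap (𝟙 G) p - (tensorComm G G).hom ≫ KoszTw.tensorMap (𝟙 G) p
  have hΨ : Ψ ≫ T L p = 0 := by
    refine AmpleLib.hom_ext fun U a b => ?_
    show (T L p).app U ((KoszTw.tensorMap (𝟙 G) p).app U (tmul a b) -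
      (KoszTw.tensorMap (𝟙 G) p).app U ((tensorComm G G).hom.app U (tmul a b))) = 0
    rw [show (tensorComm G G).hom.app U (tmul a b) = tmul b a from Bilin.desc_tmul _ _ _ _, map_sub,
      ktmul, ktmul, ktmul, ktmul, sub_eq_zero]
    exact tmul_symm hL _ _
  haveI := hT.mono_f
  obtain ⟨Φ, hΦ⟩ : ∃ Φ : CohB1.tensorMod G G ⟶ CohB1.tensorMod (kernel p) L, Φ ≫ T L (kernel.ι p) = Ψ := by
    refine ⟨hT.exact.lift Ψ ?_, ?_⟩
    · exact (congrArg (Ψ ≫ ·) (flip_map L p)).trans hΨ
    · exact (congrArg (hT.exact.lift Ψ _ ≫ ·) (flip_map L (kernel.ι p)).symm).trans (hT.exact.lift_f Ψ _)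
  have hι : Mono (T L (kernel.ι p)) := by
    rw [← flip_map]
    exact hT.mono_f
  have hsplit : KoszTw.tensorMap (kernel.ι p) (𝟙 G) ≫ Φ = KoszTw.tensorMap (𝟙 (kernel p)) p := by
    rw [← cancel_mono (T L (kernel.ι p)), Category.assoc, hΦ]
    refine AmpleLib.hom_ext fun U a b => ?_
    show (KoszTw.tensorMap (𝟙 G) p).app U ((KoszTw.tensorMap (kernel.ι p) (𝟙 G)).app U (tmul a b)) -
      (KoszTw.tensorMap (𝟙 G) p).app U ((tensorComm G G).hom.app U ((KoszTw.tensorMap (kernel.ι p) (𝟙 G)).app U (tmul a b))) =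
      (T L (kernel.ι p)).app U ((KoszTw.tensorMap (𝟙 (kernel p)) p).app U (tmul a b))
    have h0 : p.app U ((kernel.ι p).app U a) = 0 := by
      show (kernel.ι p ≫ p).app U a = 0
      rw [kernel.condition]
      rfl
    rw [ktmul, ktmul, ktmul,
      show (tensorComm G G).hom.app U (tmul ((kernel.ι p).app U a) ((𝟙 G : G ⟶ G).app U b)) =
        tmul ((𝟙 G : G ⟶ G).app U b) ((kernel.ι p).app U a) from Bilin.desc_tmul _ _ _ _, ktmul,
      ktmul, h0, tmul_zero_right, sub_zero]
    rfl
  haveI : Epi (KoszTw.tensorMap (𝟙 (kernel p)) p) := by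
    have h : Epi ((DCoh.tensorBi.obj (kernel p)).map p) := inferInstance
    unfold KoszTw.tensorMap
    rw [CategoryTheory.Functor.map_id, NatTrans.id_app]
    erw [Category.id_comp]
    exact h
  haveI : Epi Φ := epi_of_epi_fac hsplit
  let eG : Coherent.freeMod X (ULift.{u} (Fin (n + 1))) ≅ G :=
    Sigma.whiskerEquiv Equiv.ulift (fun _ => Iso.refl (Coh.structureModule X))
  haveI : Coh.IsQCoh G :=
    haveI := Coherent.isQCoh_freeMod (X := X) (I := ULift.{u} (Fin (n + 1)))
    isQCoh_of_iso eG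
  have hG : Curv2.IsGloballyGenerated G :=
    ⟨ULift.{u} (Fin (n + 1)), (Sigma.whiskerEquiv Equiv.ulift (fun _ => Iso.refl (Coh.structureModule X))).hom,
      inferInstance⟩
  obtain ⟨ι, q, hq⟩ := CurveRR24.gg_tensorMod hG hG
  exact ⟨ι, q ≫ Φ, epi_comp q Φ⟩

end Groth.Agent.S9569
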