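import Groth.Statements.S9578
import Groth.Agent.H8Constr.TwistFrac
-- import your own Groth.Agent.* helpers here

set_option autoImplicit false
set_option linter.unusedSectionVars false
universe u
open CategoryTheory CategoryTheory.Limits AlgebraicGeometry TopologicalSpace Opposite
open Constr

namespace Groth.Agent.S9578

open Groth.Agent.ProjLib Groth.Agent.Coherent Groth.Agent.PicLib Groth.Agent.AmpleLib Groth.Agent.TwistLib
open Groth.Agent.H8Constr

variable {R A : Type u} [CommRing R] [CommRing A] [Algebra R A] {𝒜 : ℕ → Submodule R A} [GradedAlgebra 𝒜]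
  {M : Type u} [AddCommGroup M] [Module R M] [Module A M] (ℳ : ℕ → Submodule R M)
  [DirectSum.Decomposition ℳ] [SetLike.GradedSMul 𝒜 ℳ]

/-- Multiplication by the twist is bijective where a fraction of degree `q` is invertible. -/
theorem desc_mulBilin_bijective_of_frac {p q r : ℤ} (hpq : p + q = r) {i j : ℕ} (P : 𝒜 i) (Q : 𝒜 j)
    (hdeg : (i : ℤ) = j + q) {V : (Proj 𝒜).Opens}
    (hP : V ≤ Proj.basicOpen 𝒜 (P : A)) (hQ : V ≤ Proj.basicOpen 𝒜 (Q : A)) :
    Function.Bijective ((mulBilin ℳ hpq).desc.app V) := by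
  have hneg : r + (-q) = p := by omega
  have hdeg' : (j : ℤ) = i + (-q) := by omega
  let σ : ∀ W : (Proj 𝒜).Opens, W ≤ V → Twist.sectN (𝒜 := 𝒜) q (op W) := fun W hW =>
    Coherent.fracSec q W P Q (fun x => hQ (hW x.2)) hdeg
  let σ' : ∀ W : (Proj 𝒜).Opens, W ≤ V → Twist.sectN (𝒜 := 𝒜) (-q) (op W) := fun W hW =>
    Coherent.fracSec (-q) W Q P (fun x => hP (hW x.2)) hdeg'
  have hmul : ∀ (W : (Proj 𝒜).Opens) (hW : W ≤ V) (x : W),
      ((σ W hW).1 x).1 * ((σ' W hW).1 x).1 = 1 := fun W hW x => by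
    show Localization.mk P.1 _ * Localization.mk Q.1 _ = _
    rw [Localization.mk_mul]
    exact (Localization.mk_eq_mk_iff.2 (Localization.r_iff_exists.2 ⟨1, by
      simp only [Submonoid.coe_mul, Submonoid.coe_one]; ring⟩)).trans Localization.mk_one
  have hgen : ∀ (W : (Proj 𝒜).Opens) (hW : W ≤ V),
      Function.Bijective fun g : Twist.O (𝒜 := 𝒜) (op W) => oSmul g (σ W hW) := fun W hW =>
    smul_fracSec_bijective P Q (fun x => hP (hW x.2)) (fun x => hQ (hW x.2)) hdeg
  let g : ∀ W : (Proj 𝒜).Opens, W ≤ V → Γ(GrTilde.tilde 𝒜 ℳ r, W) →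
      Γ(CohB1.tensorMod (GrTilde.tilde 𝒜 ℳ p) (Twist.twist 𝒜 q), W) := fun W hW y =>
    tmul (show Γ(GrTilde.tilde 𝒜 ℳ p, W) from mulSec ℳ hneg y (σ' W hW))
      (show Γ(Twist.twist 𝒜 q, W) from σ W hW)
  have hφg : ∀ (W : (Proj 𝒜).Opens) (hW : W ≤ V) (y : Γ(GrTilde.tilde 𝒜 ℳ r, W)),
      (mulBilin ℳ hpq).desc.app W (g W hW y) = y := fun W hW y => by
    refine (Bilin.desc_tmul _ W _ _).trans (sect_ext fun x => ?_)
    refine (mulSec_val ℳ hpq _ _ x).trans ?_
    refine (smul_smul _ _ _).trans ?_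
    rw [hmul W hW x, one_smul]
  have hgφ : ∀ (W : (Proj 𝒜).Opens) (z) (hW : W ≤ V),
      z = g W hW ((mulBilin ℳ hpq).desc.app W z) := by
    have hgres : ∀ (W W' : (Proj 𝒜).Opens) (h : W' ≤ W) (hW : W ≤ V) y,
        resM _ h (g W hW y) = g W' (h.trans hW) (resM (GrTilde.tilde 𝒜 ℳ r) h y) := fun W W' h hW y =>
      (resM_tmul h _ _).trans rfl
    have hgadd : ∀ (W : (Proj 𝒜).Opens) (hW : W ≤ V) y y',
        g W hW (y + y') = g W hW y + g W hW y' := fun W hW y y' =>
      (congrArg (tmul · _) (show (show Γ(GrTilde.tilde 𝒜 ℳ p, W) from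
          mulSec ℳ hneg (y + y') (σ' W hW)) =
          (show Γ(GrTilde.tilde 𝒜 ℳ p, W) from mulSec ℳ hneg y (σ' W hW)) +
          (show Γ(GrTilde.tilde 𝒜 ℳ p, W) from mulSec ℳ hneg y' (σ' W hW)) from
        sect_ext fun x => smul_add _ _ _)).trans (tmul_add_left _ _ _)
    refine induction_local (fun W z z' hz hz' hW => ?_) (fun W hW => ?_) (fun W z hloc hW => ?_)
      fun W a b hW => ?_
    · rw [map_add, hgadd W hW, ← hz hW, ← hz' hW]
    · rw [map_zero]
      exact (tmul_zero_left _).symm.trans (congrArg (tmul · _)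
        (sect_ext (fun x => (smul_zero _).symm)))
    · refine sec_ext _ _ _ fun y hy => ?_
      obtain ⟨W', h, hy', hz⟩ := hloc y hy
      exact ⟨W', h, hy', by rw [hgres W W' h hW, ← app_resM]; exact hz (h.trans hW)⟩
    · obtain ⟨c, hc⟩ := (hgen W hW).2 b
      replace hc : (show Γ(Proj 𝒜, W) from c) • (show Γ(Twist.twist 𝒜 q, W) from σ W hW) = b := hc
      subst hc
      rw [Bilin.desc_tmul]
      refine ((tmul_smul_right _ _ _).trans (tmul_smul_left _ _ _).symm).trans
        (congrArg (tmul · _) (sect_ext fun x => ?_))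
      refine Eq.trans ?_ (mulSec_val ℳ hneg _ _ x).symm
      refine Eq.trans ?_ (congrArg (((σ' W hW).1 x).1 • ·) (mulSec_val ℳ hpq _ _ x)).symm
      refine (GrTilde.coe_smul_val p x.1 _ _).trans (Eq.trans ?_
        (congrArg (((σ' W hW).1 x).1 • ·) (congrArg (· • (a.1 x).1) (oSmul_val c _ x))).symm)
      rw [smul_smul, mul_left_comm, mul_comm ((σ' W hW).1 x).1, hmul W hW x, mul_one]
  exact ⟨fun z z' h => (hgφ V z le_rfl).trans ((congrArg (g V le_rfl) h).trans (hgφ V z' le_rfl).symm),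
    fun y => ⟨g V le_rfl y, hφg V le_rfl y⟩⟩

/-- A morphism bijective on the small opens of a cover of `U` restricts to an isomorphism on `U`. -/
theorem isIso_restrict {X : Scheme.{u}} {F G : X.Modules} (φ : F ⟶ G) (U : X.Opens) {ι : Type u}
    (W : ι → X.Opens) (hcov : ∀ x : U, ∃ i, x.1 ∈ W i)
    (h : ∀ (i : ι) (V : X.Opens), V ≤ W i → Function.Bijective (φ.app V)) :
    IsIso ((Scheme.Modules.restrictFunctor U.ι).map φ) := by
  refine isIso_of_bijective_on _ (fun i => U.ι ⁻¹ᵁ W i) hcov fun i V hV => ?_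
  refine h i (U.ι ''ᵁ V) ?_
  exact (U.ι.image_mono hV).trans (by rw [U.ι.image_preimage_eq_opensRange_inf]; exact inf_le_right)

/-- Let S be a graded ring, M a graded S-module (graded in non-negative degrees here), X = Proj S and d
≥ 1; let W_d ⊆ X be the union of the standard opens D_+(ab) over the pairs of homogeneous elements
a, b with deg a = deg b + d (the open over which the twisting sheaves O_X(nd) are invertible with
compatible multiplications). Then for every integer n the restrictions to W_d of M~(nd) = M~ ⊗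
O_X(nd) and of M(nd)~, the module attached to the shifted module, are isomorphic. (Existence of an
isomorphism only; in the published statement it is the canonical multiplication map M~ ⊗ O_X(nd) →
M(nd)~ that restricts to an isomorphism over W_d. That W_d is the largest open over which the
O_X(nd) are invertible with compatible multiplications is not stated here.) -/
theorem result {R A : Type u} [CommRing R] [CommRing A] [Algebra R A] (𝒜 : ℕ → Submodule R A) [GradedAlgebra 𝒜]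
    {M : Type u} [AddCommGroup M] [Module R M] [Module A M] [IsScalarTower R A M] (ℳ : ℕ → Submodule R M)
    [DirectSum.Decomposition ℳ] [SetLike.GradedSMul 𝒜 ℳ]
    {d : ℕ} (hd : 0 < d) (n : ℤ) :
    Nonempty ((Twist.twistBy 𝒜 (GrTilde.tilde 𝒜 ℳ 0) (n * d)).restrict
        (⨆ (j : ℕ) (a : 𝒜 (j + d)) (b : 𝒜 j), Proj.basicOpen 𝒜 ((a : A) * b)).ι ≅
      (GrTilde.tilde 𝒜 ℳ (n * d)).restrict
        (⨆ (j : ℕ) (a : 𝒜 (j + d)) (b : 𝒜 j), Proj.basicOpen 𝒜 ((a : A) * b)).ι) := by
  let W := ⨆ (j : ℕ) (a : 𝒜 (j + d)) (b : 𝒜 j), Proj.basicOpen 𝒜 ((a : A) * b)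
  let φ := (mulBilin (𝒜 := 𝒜) ℳ (p := 0) (q := n * d) (zero_add (n * d : ℤ))).desc
  have hI : IsIso ((Scheme.Modules.restrictFunctor W.ι).map φ) := by
    refine isIso_restrict φ W (ι := Σ j : ℕ, 𝒜 (j + d) × 𝒜 j)
      (fun i => Proj.basicOpen 𝒜 ((i.2.1 : A) * i.2.2)) (fun x => ?_) fun i V hV => ?_
    · obtain ⟨j, hj⟩ := Opens.mem_iSup.1 x.2
      obtain ⟨a, ha⟩ := Opens.mem_iSup.1 hj
      obtain ⟨b, hb⟩ := Opens.mem_iSup.1 ha
      exact ⟨⟨j, a, b⟩, hb⟩
    · obtain ⟨j, a, b⟩ := i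
      have hV' : V ≤ Proj.basicOpen 𝒜 (a : A) ⊓ Proj.basicOpen 𝒜 (b : A) :=
        hV.trans (Proj.basicOpen_mul 𝒜 _ _).le
      have key : ∀ (s t : ℕ), V ≤ Proj.basicOpen 𝒜 ((a : A) ^ s * (b : A) ^ t) := fun s t x hx hmem =>
        (x.isPrime.mem_or_mem hmem).elim (fun h => (hV' hx).1 (x.isPrime.mem_of_pow_mem _ h))
          (fun h => (hV' hx).2 (x.isPrime.mem_of_pow_mem _ h))
      refine desc_mulBilin_bijective_of_frac ℳ _
        ⟨(a : A) ^ n.toNat * (b : A) ^ (-n).toNat,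
          SetLike.mul_mem_graded (pow_mem_deg a.2 _) (pow_mem_deg b.2 _)⟩
        ⟨(a : A) ^ (-n).toNat * (b : A) ^ n.toNat,
          SetLike.mul_mem_graded (pow_mem_deg a.2 _) (pow_mem_deg b.2 _)⟩ ?_ (key _ _) (key _ _)
      push_cast
      linear_combination (d : ℤ) * (Int.toNat_sub_toNat_neg n)
  exact ⟨@asIso _ _ _ _ ((Scheme.Modules.restrictFunctor W.ι).map φ) hI⟩

end Groth.Agent.S9578
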