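import Groth.Statements.S9581
import Groth.Agent.CAlgH3.WeakAss

set_option autoImplicit false
universe u
open CAlg

namespace Groth.Agent.S9581

/-- (1) ⇔ (3): for a ring R, an R-module M and a prime p of R, the prime p is weakly associated to M
(minimal among the primes containing the annihilator of some element of M) if and only if the
localization M_p contains an element whose annihilator in R_p has radical equal to the maximal ideal
p R_p. -/
theorem result {R : Type u} [CommRing R] (M : Type u) [AddCommGroup M] [Module R M] (p : Ideal R) [p.IsPrime] :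
    p ∈ FlatCA.weakAss R M ↔ IsAssociatedPrime (IsLocalRing.maximalIdeal (Localization.AtPrime p)) (LocalizedModule p.primeCompl M) := by
  rw [CAlgH3.weakAss_localized_iff p.primeCompl (Localization.AtPrime p)
    (LocalizedModule.mkLinearMap p.primeCompl M) p inferInstance
    (Set.disjoint_left.2 fun a ha ha' => ha ha'), Localization.AtPrime.map_eq_maximalIdeal,
    CAlgH3.mem_weakAss]
  constructor
  · rintro ⟨x, hx⟩
    exact ⟨inferInstance, x, by rw [CAlgH3.colon_bot_singleton, (CAlgH3.radical_eq_maximalIdeal_iff _).2 hx]⟩
  · rintro ⟨-, x, hx⟩
    rw [CAlgH3.colon_bot_singleton] at hx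
    exact ⟨x, (CAlgH3.radical_eq_maximalIdeal_iff _).1 hx.symm⟩

end Groth.Agent.S9581
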