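import Groth.Statements.S9584
import Groth.Agent.CAlgH3.WeakAss

set_option autoImplicit false
universe u
open CAlg

namespace Groth.Agent.S9584

/-- For a ring R and an R-module M, M has no weakly associated prime (no prime minimal over the
annihilator of an element) if and only if M = 0. -/
theorem result {R : Type u} [CommRing R] (M : Type u) [AddCommGroup M] [Module R M] :
    FlatCA.weakAss R M = ∅ ↔ Subsingleton M := by
  exact CAlgH3.weakAss_eq_empty_iff

end Groth.Agent.S9584
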