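import Groth.Statements.S9597
import Mathlib.RingTheory.Ideal.AssociatedPrime.Finiteness

set_option autoImplicit false
universe u
open CAlg

namespace Groth.Agent.S9597

/-- Let R be a Noetherian ring, M a finite R-module whose associated primes are pairwise incomparable
under inclusion (M has no embedded associated primes), and I the annihilator of M. Then the
associated primes of R/I, viewed as a module over itself, are again pairwise incomparable: R/I has
no embedded primes either. -/
theorem result {R : Type u} [CommRing R] [IsNoetherianRing R] (M : Type u) [AddCommGroup M] [Module R M] [Module.Finite R M] (hM : ∀ p ∈ associatedPrimes R M, ∀ q ∈ associatedPrimes R M, p ≤ q → p = q) :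
    ∀ p ∈ associatedPrimes (R ⧸ Module.annihilator R M) (R ⧸ Module.annihilator R M), ∀ q ∈ associatedPrimes (R ⧸ Module.annihilator R M) (R ⧸ Module.annihilator R M), p ≤ q → p = q := by
  classical
  let I := Module.annihilator R M
  have : IsNoetherianRing (R ⧸ I) := isNoetherianRing_of_surjective R (R ⧸ I) (Ideal.Quotient.mk I) Ideal.Quotient.mk_surjective
  have key : ∀ p ∈ associatedPrimes (R ⧸ I) (R ⧸ I), p.comap (Ideal.Quotient.mk I) ∈ associatedPrimes R M := by
    intro p hp
    obtain ⟨hprime, c, hc⟩ := isAssociatedPrime_iff.1 hp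
    obtain ⟨c, rfl⟩ := Ideal.Quotient.mk_surjective c
    obtain ⟨s, hs⟩ := Module.Finite.fg_top (R := R) (M := M)
    have hco : ∀ r : R, r ∈ p.comap (Ideal.Quotient.mk I) ↔ r * c ∈ I := fun r => by
      rw [Ideal.mem_comap, hc, Submodule.mem_colon_singleton, Submodule.mem_bot, smul_eq_mul, ← map_mul, Ideal.Quotient.eq_zero_iff_mem]
    have heq : s.inf (fun m => (⊥ : Submodule R M).colon {c • m}) = p.comap (Ideal.Quotient.mk I) := by
      ext r
      rw [hco, Submodule.mem_finsetInf, show (r * c ∈ I) = (r * c ∈ Module.annihilator R M) from rfl,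
        ← Submodule.annihilator_top, ← hs, Submodule.mem_annihilator_span]
      simp [Submodule.mem_colon_singleton, smul_smul]
    have hpp : (p.comap (Ideal.Quotient.mk I)).IsPrime := inferInstance
    obtain ⟨m, hm, hle⟩ := hpp.inf_le'.1 heq.le
    exact isAssociatedPrime_iff.2 ⟨hpp, c • m, le_antisymm (heq.symm.le.trans (Finset.inf_le hm)) hle⟩
  intro p hp q hq hpq
  exact Ideal.comap_injective_of_surjective _ Ideal.Quotient.mk_surjective (hM _ (key p hp) _ (key q hq) (Ideal.comap_mono hpq))

end Groth.Agent.S9597
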