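import Groth.Statements.S9598
import Mathlib.RingTheory.Jacobson.Ring
import Mathlib.RingTheory.Ideal.AssociatedPrime.Finiteness
import Mathlib.RingTheory.KrullDimension.Basic
import Mathlib.RingTheory.FiniteType

set_option autoImplicit false
universe u
open CAlg

namespace Groth.Agent.S9598

/-- For a field k and a finite type k-algebra S with dim S > 0, some element of S is a nonzerodivisor
and a nonunit. -/
theorem result {k S : Type u} [Field k] [CommRing S] [Algebra k S] [Algebra.FiniteType k S] (hdim : 0 < ringKrullDim S) :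
    ∃ f : S, f ∈ nonZeroDivisors S ∧ ¬ IsUnit f := by
  by_contra! hc
  have : IsNoetherianRing S := Algebra.FiniteType.isNoetherianRing k S
  obtain ⟨n, φ, hφ⟩ := Algebra.FiniteType.iff_quotient_mvPolynomial''.1 (inferInstance : Algebra.FiniteType k S)
  have : IsJacobsonRing S := isJacobsonRing_of_surjective ⟨φ.toRingHom, hφ⟩
  have hsub : ∀ m : Ideal S, m.IsMaximal → m ∈ associatedPrimes S S := by
    intro m hm
    have h : (m : Set S) ⊆ ⋃ q ∈ (↑(associatedPrimes.finite S S).toFinset : Set (Ideal S)), ((id q : Ideal S) : Set S) := by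
      rw [Set.Finite.coe_toFinset]
      simp only [id_eq]
      rw [biUnion_associatedPrimes_eq_compl_nonZeroDivisors]
      exact fun x hx hx' => hm.ne_top (Ideal.eq_top_of_isUnit_mem _ hx (hc x hx'))
    obtain ⟨q, hq, hmq⟩ := (Ideal.subset_union_prime ⊤ ⊤ (fun i hi _ _ => ((associatedPrimes.finite S S).mem_toFinset.1 hi).1)).1 h
    have hq' := (associatedPrimes.finite S S).mem_toFinset.1 hq
    rwa [hm.eq_of_le hq'.1.ne_top hmq]
  have hfin : {m : Ideal S | m.IsMaximal}.Finite := (associatedPrimes.finite S S).subset hsub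
  have hdim0 : ∀ p : Ideal S, p.IsPrime → p.IsMaximal := by
    intro p hp
    have hj : p.jacobson = p := isJacobsonRing_iff_prime_eq.1 inferInstance p hp
    have hfin' : {m : Ideal S | p ≤ m ∧ m.IsMaximal}.Finite := hfin.subset fun m hm => hm.2
    have : hfin'.toFinset.inf id ≤ p := by
      conv_rhs => rw [← hj]
      refine le_sInf fun m hm => Finset.inf_le (f := id) (hfin'.mem_toFinset.2 hm)
    obtain ⟨m, hm, hmp⟩ := hp.inf_le'.1 this
    obtain ⟨h1, h2⟩ := hfin'.mem_toFinset.1 hm
    rwa [le_antisymm h1 hmp]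
  have : Ring.KrullDimLE 0 S := Ring.krullDimLE_zero_iff.2 hdim0
  exact absurd ((Ring.krullDimLE_iff (n := 0)).1 this) (not_le.2 hdim)

end Groth.Agent.S9598
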