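import Groth.Statements.S9600
import Groth.Agent.CAlgH3.CompletionExact
import Mathlib.RingTheory.AdicCompletion.Basic

set_option autoImplicit false
universe u
open CAlg

namespace Groth.Agent.S9600

/-- Let R be a ring, I an ideal of R and 0 → M → N → Q → 0 a short exact sequence of R-modules in which
Q is killed by some power I^c of I. Then on I-adic completions the map M^ → N^ is injective, N^ → Q^
is surjective with kernel equal to the image of M^, and the canonical map Q → Q^ is bijective; so 0
→ M^ → N^ → Q → 0 is again short exact. -/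
theorem result {R : Type u} [CommRing R] (I : Ideal R) {M N Q : Type u} [AddCommGroup M] [Module R M] [AddCommGroup N] [Module R N] [AddCommGroup Q] [Module R Q] (i : M →ₗ[R] N) (g : N →ₗ[R] Q) (hi : Function.Injective i) (hg : Function.Surjective g) (hig : Function.Exact i g) (c : ℕ) (hc : ∀ x ∈ I ^ c, ∀ q : Q, x • q = 0) :
    Function.Injective (AdicCompletion.map I i) ∧ Function.Exact (AdicCompletion.map I i) (AdicCompletion.map I g) ∧ Function.Surjective (AdicCompletion.map I g) ∧ Function.Bijective (AdicCompletion.of I Q) := by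
  obtain ⟨h1, h2, h3⟩ := CAlgH3.completion_shortExact_of_shift I i g hg hig c fun n k hk => by
    rw [pow_add, Submodule.mul_smul] at hk
    have hle : (I ^ c • ⊤ : Submodule R N) ≤ LinearMap.range i := Submodule.smul_le.2 fun a ha y _ =>
      (hig _).1 (by rw [map_smul, hc a ha])
    have h := Submodule.smul_mono le_rfl hle hk
    rw [LinearMap.range_eq_map, ← Submodule.map_smul''] at h
    obtain ⟨k', hk', he⟩ := h
    exact hi he ▸ hk'
  refine ⟨h1, h2, h3, AdicCompletion.of_bijective_iff.2 ?_⟩
  have hbot : ∀ n, c ≤ n → (I ^ n • ⊤ : Submodule R Q) = ⊥ := fun n hn =>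
    eq_bot_iff.2 (Submodule.smul_le.2 fun a ha y _ => (Submodule.mem_bot R).2 (hc a (Ideal.pow_le_pow_right hn ha) y))
  have : IsHausdorff I Q := ⟨fun x hx => by simpa [SModEq.zero, hbot c le_rfl] using hx c⟩
  have : IsPrecomplete I Q := ⟨fun f hf => ⟨f c, fun n => by
    rcases le_total n c with h | h
    · exact hf h
    · have h' := SModEq.sub_mem.1 (hf h)
      rw [hbot c le_rfl, Submodule.mem_bot, sub_eq_zero] at h'
      rw [h']⟩⟩
  exact ⟨⟩

end Groth.Agent.S9600
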