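import Groth.Statements.S9601
import Mathlib.RingTheory.AdicCompletion.Basic

set_option autoImplicit false
universe u
open CAlg

namespace Groth.Agent.S9601

/-- For a ring R, an ideal I of R and an R-module M, let M^ be the I-adic completion and K_n the kernel
of the projection M^ → M/IⁿM. The completion M^ is I-adically complete exactly when K_n = Iⁿ M^
holds for every n ≥ 1. -/
theorem result {R : Type u} [CommRing R] (I : Ideal R) (M : Type u) [AddCommGroup M] [Module R M] :
    IsAdicComplete I (AdicCompletion I M) ↔ ∀ n : ℕ, 1 ≤ n → LinearMap.ker (AdicCompletion.eval I M n) = I ^ n • (⊤ : Submodule R (AdicCompletion I M)) := by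
  constructor
  · intro hc n _
    refine le_antisymm (fun x hx => ?_) (AdicCompletion.pow_smul_top_le_ker_eval I n)
    have hstep : ∀ k (y : AdicCompletion I M), y ∈ LinearMap.ker (AdicCompletion.eval I M k) →
        ∃ z ∈ LinearMap.ker (AdicCompletion.eval I M (k + 1)), z - y ∈ (I ^ k • ⊤ : Submodule R (AdicCompletion I M)) := by
      intro k y hy
      obtain ⟨m, hm⟩ := Submodule.Quotient.mk_surjective _ (y.1 (k + 1))
      have hm' : m ∈ (I ^ k • ⊤ : Submodule R M) := by
        have h1 := y.2 (Nat.le_succ k)
        rw [← hm, show y.1 k = 0 from hy] at h1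
        exact (Submodule.Quotient.mk_eq_zero _).1 h1
      refine ⟨y - AdicCompletion.of I M m, ?_, ?_⟩
      · rw [LinearMap.mem_ker, map_sub, AdicCompletion.eval_of, sub_eq_zero, AdicCompletion.eval_apply, ← hm]
        rfl
      · rw [sub_right_comm, sub_self, zero_sub]
        refine Submodule.neg_mem _ ?_
        have := Submodule.mem_map_of_mem (f := AdicCompletion.of I M) hm'
        rw [Submodule.map_smul''] at this
        exact Submodule.smul_mono le_rfl le_top this
    choose! next hnext hnext' using hstep
    let seq : ℕ → AdicCompletion I M := fun j => Nat.rec x (fun j y => next (n + j) y) j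
    have hseq : ∀ j, seq j ∈ LinearMap.ker (AdicCompletion.eval I M (n + j)) := fun j => by
      induction j with
      | zero => exact hx
      | succ j ih => exact hnext (n + j) _ ih
    have hdiff : ∀ j d, seq (j + d) - seq j ∈ (I ^ (n + j) • ⊤ : Submodule R (AdicCompletion I M)) := by
      intro j d
      induction d with
      | zero => simp
      | succ d ih =>
        have h1 : seq (j + d + 1) - seq (j + d) ∈ (I ^ (n + (j + d)) • ⊤ : Submodule R (AdicCompletion I M)) :=
          hnext' (n + (j + d)) _ (hseq (j + d))
        have := Submodule.add_mem _ (Submodule.smul_mono_left (Ideal.pow_le_pow_right (show n + j ≤ n + (j + d) by omega)) h1) ih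
        rw [sub_add_sub_cancel] at this
        exact this
    obtain ⟨L, hL⟩ := hc.toIsPrecomplete.prec (f := seq) fun {a b} hab => by
      obtain ⟨d, rfl⟩ := Nat.exists_eq_add_of_le hab
      exact (SModEq.sub_mem.2 (Submodule.smul_mono_left (Ideal.pow_le_pow_right (Nat.le_add_left a n)) (hdiff a d))).symm
    have hL0 : L = 0 := AdicCompletion.ext fun k => by
      have h1 := AdicCompletion.pow_smul_top_le_ker_eval I k (SModEq.sub_mem.1 (hL k))
      have h2 : seq k ∈ LinearMap.ker (AdicCompletion.eval I M k) := by
        rw [LinearMap.mem_ker, AdicCompletion.eval_apply, ← (seq k).2 (Nat.le_add_left k n), show (seq k).1 (n + k) = 0 from LinearMap.mem_ker.1 (hseq k), map_zero]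
      have h3 : AdicCompletion.eval I M k L = 0 := by
        have := LinearMap.mem_ker.1 (Submodule.sub_mem _ h2 h1)
        rwa [sub_sub_cancel] at this
      exact h3
    have h1 : seq n ∈ (I ^ n • ⊤ : Submodule R (AdicCompletion I M)) := by
      have := SModEq.sub_mem.1 (hL n); rwa [hL0, sub_zero] at this
    have h2 : seq (0 + n) - seq 0 ∈ (I ^ n • ⊤ : Submodule R (AdicCompletion I M)) := hdiff 0 n
    rw [Nat.zero_add] at h2
    have h3 := Submodule.sub_mem _ h1 h2
    rwa [sub_sub_cancel] at h3
  · intro h
    have hker : ∀ (n : ℕ) (x : AdicCompletion I M), x.1 n = 0 → x ∈ (I ^ n • ⊤ : Submodule R (AdicCompletion I M)) := by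
      intro n x hx
      by_cases hn : n = 0
      · subst hn; simp
      · exact (h n (Nat.one_le_iff_ne_zero.2 hn)).le hx
    have : IsPrecomplete I (AdicCompletion I M) := by
      constructor
      intro x hx
      refine ⟨⟨fun i => (x i).1 i, fun {m n} h' => ?_⟩, fun i => SModEq.sub_mem.2 (hker _ _ ?_)⟩
      · rw [(x n).2 h']
        have h1 := AdicCompletion.pow_smul_top_le_ker_eval I m (SModEq.sub_mem.1 (hx h'))
        rw [LinearMap.mem_ker, map_sub, sub_eq_zero] at h1
        exact h1.symm
      · exact sub_self _
    have : IsHausdorff I (AdicCompletion I M) := ⟨fun x hx => AdicCompletion.ext fun n =>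
      AdicCompletion.pow_smul_top_le_ker_eval I n (SModEq.zero.1 (hx n))⟩
    exact ⟨⟩

end Groth.Agent.S9601
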