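import Groth.Statements.S9602
import Mathlib.RingTheory.AdicCompletion.Algebra
import Mathlib.RingTheory.Jacobson.Ideal
import Mathlib.RingTheory.Nilpotent.Basic

set_option autoImplicit false
universe u
open CAlg

namespace Groth.Agent.S9602

/-- Let R be a ring, I an ideal of R and R^ = lim R/Iⁿ the I-adic completion. An element of R^ whose
image in R/I is invertible is itself invertible in R^; and the kernel of R^ → R/I as well as the
extended ideal I R^ both lie inside the Jacobson radical of R^. -/
theorem result {R : Type u} [CommRing R] (I : Ideal R) :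
    (∀ x : AdicCompletion I R, IsUnit (AdicCompletion.evalOneₐ I x) → IsUnit x) ∧
      RingHom.ker (AdicCompletion.evalOneₐ I).toRingHom ≤ (⊥ : Ideal (AdicCompletion I R)).jacobson ∧
      I.map (algebraMap R (AdicCompletion I R)) ≤ (⊥ : Ideal (AdicCompletion I R)).jacobson := by
  have key : ∀ x : AdicCompletion I R, IsUnit (AdicCompletion.evalOneₐ I x) → IsUnit x := by
    intro x hx
    have hn : ∀ n, IsUnit (x.val n) := by
      intro n
      obtain ⟨a, ha⟩ := Ideal.Quotient.mk_surjective (I := (I ^ n • ⊤ : Ideal R)) (x.val n)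
      rw [← ha]
      obtain ⟨b, hb⟩ := Ideal.Quotient.mk_surjective (I := I) (↑(hx.unit⁻¹) : R ⧸ I)
      by_cases h0 : n = 0
      · subst h0
        have : Subsingleton (R ⧸ (I ^ 0 • ⊤ : Ideal R)) := Ideal.Quotient.subsingleton_iff.2 (by simp)
        exact isUnit_of_subsingleton _
      have h1 : Ideal.Quotient.mk I a = AdicCompletion.evalOneₐ I x := by
        rw [← AdicCompletion.factorₐ_evalₐ_one]
        have h := x.2 (Nat.one_le_iff_ne_zero.2 h0)
        induction x using AdicCompletion.induction_on with
        | h c =>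
          rw [AdicCompletion.evalₐ_mk, Ideal.Quotient.factor_mk, Ideal.Quotient.eq]
          have h2 : c.1 n - c.1 1 ∈ I := by
            have := SModEq.sub_mem.1 (c.2 (Nat.one_le_iff_ne_zero.2 h0)).symm
            simpa using this
          have h3 : a - c.1 n ∈ I := Ideal.pow_le_self h0 (by simpa using (Ideal.Quotient.eq.1 ha))
          simpa using I.add_mem h3 h2
      have hab : 1 - a * b ∈ I := by
        rw [← Ideal.Quotient.eq_zero_iff_mem, map_sub, map_mul, map_one, h1, hb, IsUnit.mul_val_inv, sub_self]
      have hnil : IsNilpotent (Ideal.Quotient.mk (I ^ n • ⊤ : Ideal R) (1 - a * b)) := by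
        refine ⟨n, ?_⟩
        rw [← map_pow, Ideal.Quotient.eq_zero_iff_mem]
        simpa using Ideal.pow_mem_pow hab n
      have := IsNilpotent.isUnit_one_sub hnil
      rw [map_sub, map_one, sub_sub_cancel, map_mul] at this
      exact isUnit_of_mul_isUnit_left this
    suffices hc : ∀ {m n : ℕ} (hmn : m ≤ n), AdicCompletion.transitionMap I R hmn ↑((hn n).unit⁻¹) = ↑((hn m).unit⁻¹) by
      let y : AdicCompletion I R := ⟨fun n => ↑((hn n).unit⁻¹), hc⟩
      refine IsUnit.of_mul_eq_one y ?_
      apply AdicCompletion.ext
      intro n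
      rw [AdicCompletion.val_mul, AdicCompletion.val_one]
      exact (hn n).mul_val_inv
    intro m n hmn
    have hu := (hn n).mul_val_inv
    refine (hn m).mul_left_cancel ?_
    rw [(hn m).mul_val_inv, ← x.2 hmn, ← AdicCompletion.transitionMap_map_mul, hu, AdicCompletion.transitionMap_map_one]
  have hker : RingHom.ker (AdicCompletion.evalOneₐ I).toRingHom ≤ (⊥ : Ideal (AdicCompletion I R)).jacobson := by
    intro y hy
    rw [Ideal.mem_jacobson_bot]
    intro z
    apply key
    have hy' : AdicCompletion.evalOneₐ I y = 0 := hy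
    rw [map_add, map_mul, hy', zero_mul, zero_add, map_one]
    exact isUnit_one
  refine ⟨key, hker, le_trans ?_ hker⟩
  rw [Ideal.map_le_iff_le_comap]
  intro r hr
  change AdicCompletion.evalOneₐ I (algebraMap R _ r) = 0
  rw [AlgHom.commutes]
  exact Ideal.Quotient.eq_zero_iff_mem.2 hr

end Groth.Agent.S9602
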