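import Groth.Statements.S9603
import Mathlib.RingTheory.AdicCompletion.Basic
import Mathlib.RingTheory.Ideal.Operations
import Mathlib.Algebra.Module.BigOperators
import Mathlib.Tactic.Ring
import Mathlib.LinearAlgebra.DFinsupp
import Mathlib.Algebra.Algebra.Operations

set_option autoImplicit false
universe u
open CAlg

namespace Groth.Agent.S9603

/-- For a ring A, elements f_1, …, f_r generating an ideal I and an A-module M, if the canonical map
from M to its (f_i)-adic completion is surjective for every i, then the canonical map from M to its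
I-adic completion is surjective. -/
theorem result {A : Type u} [CommRing A] {r : ℕ} (f : Fin r → A) (M : Type u) [AddCommGroup M] [Module A M] (h : ∀ i, Function.Surjective (AdicCompletion.of (Ideal.span {f i}) M)) :
    Function.Surjective (AdicCompletion.of (Ideal.span (Set.range f)) M) := by
  classical
  rw [AdicCompletion.of_surjective_iff]
  have hp : ∀ i, IsPrecomplete (Ideal.span {f i}) M := fun i => AdicCompletion.of_surjective_iff.1 (h i)
  constructor
  intro x hx
  rcases Nat.eq_zero_or_pos r with hr | hr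
  · subst hr
    refine ⟨x 1, fun n => ?_⟩
    have hb : (Ideal.span (Set.range f) : Ideal A) = ⊥ := by simp [Set.range_eq_empty]
    rcases Nat.eq_zero_or_pos n with hn | hn
    · subst hn; rw [SModEq.sub_mem]; simp
    · have h1 := SModEq.sub_mem.1 (hx (Nat.one_le_iff_ne_zero.2 hn.ne'))
      rw [hb, ← Ideal.zero_eq_bot, pow_one] at h1
      rw [Ideal.zero_eq_bot, Submodule.bot_smul, Submodule.mem_bot, sub_eq_zero] at h1
      rw [h1]
  set J := Ideal.span (Set.range f) with hJ
  have hpig : ∀ (m : ℕ) (T : Finset (Fin r)), (Ideal.span (f '' ↑T)) ^ (T.card * m + 1) ≤ Ideal.span ((fun i => f i ^ m) '' ↑T) := by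
    intro m T
    induction T using Finset.induction_on with
    | empty => simp
    | insert a T ha ih =>
      rw [Finset.coe_insert, Set.image_insert_eq, Set.image_insert_eq, Ideal.span_insert, Ideal.span_insert, Finset.card_insert_of_notMem ha]
      calc (Ideal.span {f a} ⊔ Ideal.span (f '' ↑T)) ^ ((T.card + 1) * m + 1)
          = (Ideal.span {f a} ⊔ Ideal.span (f '' ↑T)) ^ (m + (T.card * m + 1)) := by congr 1; ring
        _ ≤ Ideal.span {f a} ^ m ⊔ Ideal.span (f '' ↑T) ^ (T.card * m + 1) := Ideal.sup_pow_add_le_pow_sup_pow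
        _ ≤ _ := sup_le_sup (by rw [Ideal.span_singleton_pow]) ih
  let e : ℕ → ℕ := fun k => k / (r + 1)
  have hle : ∀ k, J ^ k ≤ ⨆ i, Ideal.span {f i} ^ e k := by
    intro k
    by_cases h0 : e k = 0
    · exact le_iSup_of_le (⟨0, hr⟩ : Fin r) (by rw [h0, pow_zero, Ideal.one_eq_top]; exact le_top)
    · have hk : (Finset.univ : Finset (Fin r)).card * e k + 1 ≤ k := by
        rw [Finset.card_univ, Fintype.card_fin]
        have h1 : e k * (r + 1) ≤ k := Nat.div_mul_le_self k (r + 1)
        have h2 : e k * (r + 1) = r * e k + e k := by ring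
        omega
      refine (Ideal.pow_le_pow_right hk).trans ?_
      have := hpig (e k) Finset.univ
      rw [Finset.coe_univ, Set.image_univ, Set.image_univ] at this
      refine this.trans (Ideal.span_le.2 ?_)
      rintro _ ⟨i, rfl⟩
      exact le_iSup (fun i => Ideal.span {f i} ^ e k) i (Ideal.pow_mem_pow (Ideal.mem_span_singleton_self _) _)
  have hdec : ∀ k, ∃ z : Fin r → M, (∀ i, z i ∈ (Ideal.span {f i} ^ e k • ⊤ : Submodule A M)) ∧ ∑ i, z i = x (k + 1) - x k := by
    intro k
    have h1 := Submodule.smul_mono_left (N := (⊤ : Submodule A M)) (hle k) (SModEq.sub_mem.1 (hx (Nat.le_succ k)).symm)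
    rw [Submodule.iSup_smul] at h1
    obtain ⟨μ, hμ, hsum⟩ := (Submodule.mem_iSup_iff_exists_finsupp _ _).1 h1
    exact ⟨fun i => μ i, hμ, by rw [← hsum, Finsupp.sum_fintype]; simp⟩
  choose z hz hzsum using hdec
  let S : Fin r → ℕ → M := fun i b => ∑ k ∈ Finset.range ((r + 1) * b), z k i
  have hS : ∀ i, ∃ L, ∀ b, S i b ≡ L [SMOD (Ideal.span {f i} ^ b • ⊤ : Submodule A M)] := fun i => (hp i).prec (f := S i) fun {a b} hab => by
    refine (SModEq.sub_mem.2 ?_).symm
    simp only [S]
    rw [← Finset.sum_Ico_eq_sub _ (Nat.mul_le_mul_left _ hab)]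
    refine Submodule.sum_mem _ fun k hk => Submodule.smul_mono_left (Ideal.pow_le_pow_right ?_) (hz k i)
    exact (Nat.le_div_iff_mul_le (Nat.succ_pos r)).2 (by rw [mul_comm]; exact (Finset.mem_Ico.1 hk).1)
  choose L hL using hS
  refine ⟨x 0 + ∑ i, L i, fun n => ?_⟩
  refine (hx (show n ≤ (r + 1) * n from Nat.le_mul_of_pos_left n (Nat.succ_pos r))).trans (SModEq.sub_mem.2 ?_)
  have h2 : x ((r + 1) * n) = x 0 + ∑ i, S i n := by
    simp only [S]
    rw [Finset.sum_comm]
    simp only [hzsum, Finset.sum_range_sub]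
    abel
  rw [h2, add_sub_add_left_eq_sub, ← Finset.sum_sub_distrib]
  refine Submodule.sum_mem _ fun i _ => Submodule.smul_mono_left (Ideal.pow_right_mono ?_ n) (SModEq.sub_mem.1 (hL i n))
  exact Ideal.span_mono (Set.singleton_subset_iff.2 ⟨i, rfl⟩)

end Groth.Agent.S9603
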