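import Groth.Statements.S9605
import Mathlib.RingTheory.AdicCompletion.Basic
import Mathlib.RingTheory.AdicCompletion.Exactness

set_option autoImplicit false
universe u
open CAlg

namespace Groth.Agent.S9605

/-- For a ring R, an ideal I of R, an I-adically complete R-module M and a submodule K of M, the
quotient M/K is I-adically complete if and only if K = ⋂ₙ (K + IⁿM). -/
theorem result {R : Type u} [CommRing R] (I : Ideal R) (M : Type u) [AddCommGroup M] [Module R M] [IsAdicComplete I M] (K : Submodule R M) :
    IsAdicComplete I (M ⧸ K) ↔ K = ⨅ n : ℕ, K ⊔ I ^ n • (⊤ : Submodule R M) := by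
  have hmem : ∀ (n : ℕ) (y : M), (Submodule.Quotient.mk y : M ⧸ K) ∈ (I ^ n • ⊤ : Submodule R (M ⧸ K)) ↔ y ∈ K ⊔ I ^ n • ⊤ := by
    intro n y
    rw [← K.range_mkQ, LinearMap.range_eq_map, ← Submodule.map_smul'', ← Submodule.comap_map_mkQ K]
    rfl
  constructor
  · intro h
    refine le_antisymm (le_iInf fun n => le_sup_left) fun y hy => ?_
    rw [Submodule.mem_iInf] at hy
    exact (Submodule.Quotient.mk_eq_zero K).1 (h.toIsHausdorff.haus _ fun n => SModEq.zero.2 ((hmem n y).2 (hy n)))
  · intro hK
    have : IsHausdorff I (M ⧸ K) := by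
      constructor
      intro x hx
      obtain ⟨y, rfl⟩ := Submodule.Quotient.mk_surjective K x
      rw [Submodule.Quotient.mk_eq_zero, hK, Submodule.mem_iInf]
      exact fun n => (hmem n y).1 (SModEq.zero.1 (hx n))
    have : IsPrecomplete I (M ⧸ K) := by
      rw [← AdicCompletion.of_surjective_iff]
      intro x
      obtain ⟨z, hz⟩ := AdicCompletion.map_surjective I K.mkQ_surjective x
      obtain ⟨m, rfl⟩ := AdicCompletion.of_surjective I M z
      exact ⟨K.mkQ m, by rw [← hz, AdicCompletion.map_of]⟩
    exact ⟨⟩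

end Groth.Agent.S9605
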