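import Groth.Statements.S9606
import Mathlib

set_option autoImplicit false
universe u
open CAlg

namespace Groth.Agent.S9606

/-- Let R → S be a ring map with locally nilpotent kernel such that S is generated over R by elements x
with x² and x³ in the image of R. Then the induced map on spectra is a homeomorphism and every
residue field map κ(p) → κ(q), for q a prime of S with inverse image p, is bijective. -/
theorem result {R S : Type u} [CommRing R] [CommRing S] [Algebra R S]
    (hgen : Algebra.adjoin R {x : S | x ^ 2 ∈ Set.range (algebraMap R S) ∧ x ^ 3 ∈ Set.range (algebraMap R S)} = ⊤)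
    (hker : ∀ r : R, algebraMap R S r = 0 → IsNilpotent r) :
    IsHomeomorph (PrimeSpectrum.comap (algebraMap R S)) ∧
      ∀ (q : Ideal S) [q.IsPrime], Function.Bijective (Ideal.ResidueField.map (q.comap (algebraMap R S)) q (algebraMap R S) rfl) := by
  classical
  let G : Set S := {x : S | x ^ 2 ∈ Set.range (algebraMap R S) ∧ x ^ 3 ∈ Set.range (algebraMap R S)}
  haveI : Algebra.IsIntegral R S := by
    refine ⟨fun z => ?_⟩
    refine Algebra.adjoin_le (S := integralClosure R S) (fun x hx => ?_) (hgen ▸ Algebra.mem_top : z ∈ Algebra.adjoin R G)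
    obtain ⟨r, hr⟩ := hx.1
    exact IsIntegral.of_pow two_pos (hr ▸ isIntegral_algebraMap)
  have hbij : ∀ (q : Ideal S) [q.IsPrime],
      Function.Bijective (Ideal.ResidueField.map (q.comap (algebraMap R S)) q (algebraMap R S) rfl) := by
    intro q _
    let φ := Ideal.ResidueField.map (q.comap (algebraMap R S)) q (algebraMap R S) rfl
    have hR : ∀ r, algebraMap S q.ResidueField (algebraMap R S r) ∈ φ.fieldRange := fun r =>
      ⟨_, Ideal.ResidueField.map_algebraMap _ _ _ _ r⟩
    have hS : ∀ z : S, algebraMap S q.ResidueField z ∈ φ.fieldRange := by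
      intro z
      induction (hgen ▸ Algebra.mem_top : z ∈ Algebra.adjoin R G) using Algebra.adjoin_induction with
      | mem x hx =>
        obtain ⟨⟨r, hr⟩, ⟨t, ht⟩⟩ := hx
        by_cases h0 : algebraMap S q.ResidueField x = 0
        · rw [h0]; exact zero_mem _
        · have h1 : algebraMap S q.ResidueField x = algebraMap S q.ResidueField (algebraMap R S t) /
              algebraMap S q.ResidueField (algebraMap R S r) := by
            rw [ht, hr, map_pow, map_pow]
            field_simp
          rw [h1]
          exact div_mem (hR t) (hR r)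
      | algebraMap r => exact hR r
      | add a b _ _ ha hb => rw [map_add]; exact add_mem ha hb
      | mul a b _ _ ha hb => rw [map_mul]; exact mul_mem ha hb
    refine ⟨φ.injective, fun c => ?_⟩
    obtain ⟨a, b, _, rfl⟩ := IsFractionRing.div_surjective (S ⧸ q) (K := q.ResidueField) c
    obtain ⟨a, rfl⟩ := Ideal.Quotient.mk_surjective a
    obtain ⟨b, rfl⟩ := Ideal.Quotient.mk_surjective b
    exact (div_mem (hS a) (hS b) : _ ∈ φ.fieldRange)
  refine ⟨isHomeomorph_iff_continuous_isClosedMap_bijective.2
    ⟨PrimeSpectrum.continuous_comap _, PrimeSpectrum.isClosedMap_comap_of_isIntegral _ (algebraMap_isIntegral_iff.2 inferInstance),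
      fun x y hxy => ?_, fun p => ?_⟩, fun q _ => hbij q⟩
  · let e := fun (z : PrimeSpectrum S) => RingEquiv.ofBijective _ (hbij z.asIdeal)
    let p := x.asIdeal.comap (algebraMap R S)
    have key : ∀ (z : PrimeSpectrum S), z.asIdeal.comap (algebraMap R S) = p → ∃ g : S →+* p.ResidueField,
        (∀ r, g (algebraMap R S r) = algebraMap R p.ResidueField r) ∧ RingHom.ker g = z.asIdeal := by
      intro z hz
      let t : (z.asIdeal.comap (algebraMap R S)).ResidueField →+* p.ResidueField :=
        Ideal.ResidueField.map _ p (RingHom.id R) (by rw [hz]; rfl)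
      refine ⟨t.comp ((e z).symm.toRingHom.comp (algebraMap S z.asIdeal.ResidueField)), fun r => ?_, ?_⟩
      · have h1 : (e z).symm (algebraMap S z.asIdeal.ResidueField (algebraMap R S r)) =
            algebraMap R (z.asIdeal.comap (algebraMap R S)).ResidueField r := by
          rw [RingEquiv.symm_apply_eq]
          exact (Ideal.ResidueField.map_algebraMap _ _ _ _ r).symm
        show t ((e z).symm _) = _
        rw [h1]
        exact Ideal.ResidueField.map_algebraMap _ _ _ _ r
      · ext s
        rw [RingHom.mem_ker, RingHom.comp_apply, map_eq_zero_iff _ t.injective, RingHom.comp_apply]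
        show (e z).symm (algebraMap S z.asIdeal.ResidueField s) = 0 ↔ _
        rw [map_eq_zero_iff _ (e z).symm.injective, Ideal.algebraMap_residueField_eq_zero]
    obtain ⟨g, hg, hgk⟩ := key x rfl
    obtain ⟨g', hg', hgk'⟩ := key y (congrArg PrimeSpectrum.asIdeal hxy).symm
    have : ∀ z : S, g z = g' z := by
      intro z
      induction (hgen ▸ Algebra.mem_top : z ∈ Algebra.adjoin R G) using Algebra.adjoin_induction with
      | mem x hx =>
        obtain ⟨⟨r, hr⟩, ⟨t, ht⟩⟩ := hx
        have h2 : g x ^ 2 = g' x ^ 2 := by rw [← map_pow, ← map_pow, ← hr, hg, hg']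
        have h3 : g x ^ 3 = g' x ^ 3 := by rw [← map_pow, ← map_pow, ← ht, hg, hg']
        by_cases h0 : g x = 0
        · rw [h0, zero_pow two_ne_zero] at h2
          rw [h0, pow_eq_zero_iff two_ne_zero |>.1 h2.symm]
        · refine mul_left_cancel₀ (pow_ne_zero 2 h0) ?_
          conv_rhs => rw [h2]
          rw [← pow_succ, ← pow_succ, h3]
      | algebraMap r => rw [hg, hg']
      | add a b _ _ ha hb => rw [map_add, map_add, ha, hb]
      | mul a b _ _ ha hb => rw [map_mul, map_mul, ha, hb]
    refine PrimeSpectrum.ext ?_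
    rw [← hgk, ← hgk', RingHom.ext this]
  · obtain ⟨Q, -, hQ, hQp⟩ := Ideal.exists_ideal_over_prime_of_isIntegral p.asIdeal (⊥ : Ideal S)
      (fun r hr => nilradical_le_prime _ (hker r hr))
    exact ⟨⟨Q, hQ⟩, PrimeSpectrum.ext hQp⟩

end Groth.Agent.S9606
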