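import Groth.Statements.S9610
import Mathlib.Algebra.Polynomial.Roots

set_option autoImplicit false
universe u
open CAlg

namespace Groth.Agent.S9610

/-- Let k be a field and V a nonzero k-vector space with dim_k V < #k as cardinals. Then every k-linear
endomorphism T of V admits a monic polynomial P over k for which P(T) is not invertible. -/
theorem result {k V : Type u} [Field k] [AddCommGroup V] [Module k V] [Nontrivial V] (hV : Module.rank k V < Cardinal.mk k) (T : Module.End k V) :
    ∃ P : Polynomial k, P.Monic ∧ ¬ IsUnit (Polynomial.aeval T P) := by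
  by_contra hcon
  push Not at hcon
  have h : ∀ a : k, IsUnit (T - algebraMap k (Module.End k V) a) := fun a => by
    simpa using hcon (Polynomial.X - Polynomial.C a) (Polynomial.monic_X_sub_C a)
  obtain ⟨v, hv⟩ := exists_ne (0 : V)
  let w : k → V := fun a => (↑(h a).unit⁻¹ : Module.End k V) v
  have hli : LinearIndependent k w := by
    classical
    rw [linearIndependent_iff']
    intro s c hsum a ha
    by_contra hca
    have hu : ∀ b, (T - algebraMap k (Module.End k V) b) (w b) = v := fun b => by
      change ((h b).unit.val * ↑(h b).unit⁻¹ : Module.End k V) v = v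
      rw [Units.mul_inv, Module.End.one_apply]
    let P : Polynomial k := ∏ b ∈ s, (Polynomial.X - Polynomial.C b)
    let Q : Polynomial k := ∑ b ∈ s, Polynomial.C (c b) * ∏ b' ∈ s.erase b, (Polynomial.X - Polynomial.C b')
    have hQ : Polynomial.aeval T Q v = 0 := by
      have : Polynomial.aeval T P (∑ b ∈ s, c b • w b) = Polynomial.aeval T Q v := by
        simp only [P, Q, map_sum, map_mul, Polynomial.aeval_C, LinearMap.sum_apply, Module.End.mul_apply,
          Module.algebraMap_end_apply]
        refine Finset.sum_congr rfl fun b hb => ?_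
        rw [map_smul]
        congr 1
        rw [← Finset.prod_erase_mul _ _ hb, map_mul, Module.End.mul_apply]
        congr 1
        simpa using hu b
      rw [← this, hsum, map_zero]
    have hQa : Q.eval a ≠ 0 := by
      simp only [Q, Polynomial.eval_finsetSum, Polynomial.eval_mul, Polynomial.eval_C, Polynomial.eval_prod,
        Polynomial.eval_sub, Polynomial.eval_X]
      rw [Finset.sum_eq_single a]
      · exact mul_ne_zero hca (Finset.prod_ne_zero_iff.2 fun b hb => sub_ne_zero.2 (Finset.ne_of_mem_erase hb).symm)
      · intro b _ hba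
        rw [Finset.prod_eq_zero (i := a) (Finset.mem_erase.2 ⟨Ne.symm hba, ha⟩) (sub_self a), mul_zero]
      · exact fun h => absurd ha h
    have hQ0 : Q ≠ 0 := fun h0 => hQa (by rw [h0, Polynomial.eval_zero])
    have hmu := hcon _ (Polynomial.monic_mul_leadingCoeff_inv hQ0)
    apply hv
    have hz : Polynomial.aeval T (Q * Polynomial.C Q.leadingCoeff⁻¹) v = 0 := by
      rw [mul_comm, map_mul, Module.End.mul_apply, hQ, map_zero]
    have h2 := congrArg (↑hmu.unit⁻¹ : Module.End k V) hz
    rw [map_zero, ← Module.End.mul_apply] at h2
    rwa [show (↑hmu.unit⁻¹ : Module.End k V) * Polynomial.aeval T (Q * Polynomial.C Q.leadingCoeff⁻¹) = 1 from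
      hmu.val_inv_mul, Module.End.one_apply] at h2
  exact absurd hli.cardinal_le_rank (not_le.2 hV)

end Groth.Agent.S9610
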