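import Groth.Statements.S9611
import Mathlib.RingTheory.Jacobson.Ring
import Mathlib.RingTheory.Spectrum.Prime.Basic

set_option autoImplicit false
universe u
open CAlg

namespace Groth.Agent.S9611

/-- Let R be a Jacobson ring, p a prime ideal of R which is not maximal, and f an element of R not in p.
Then the set of primes of R containing p and not containing f is infinite. -/
theorem result {R : Type u} [CommRing R] [IsJacobsonRing R] (p : Ideal R) [p.IsPrime] (hp : ¬ p.IsMaximal) (f : R) (hf : f ∉ p) :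
    {q : PrimeSpectrum R | p ≤ q.asIdeal ∧ f ∉ q.asIdeal}.Infinite := by
  intro hfin
  classical
  have hg : ∀ q : PrimeSpectrum R, p ≤ q.asIdeal → q.asIdeal ≠ p → ∃ a ∈ q.asIdeal, a ∉ p :=
    fun q h1 h2 => SetLike.not_le_iff_exists.1 fun h => h2 (le_antisymm h h1)
  let g : PrimeSpectrum R → R := fun q => if h : p ≤ q.asIdeal ∧ q.asIdeal ≠ p then (hg q h.1 h.2).choose else 1
  have hgp : ∀ q, g q ∉ p := by
    intro q
    simp only [g]
    split_ifs with h
    · exact (hg q h.1 h.2).choose_spec.2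
    · exact fun h1 => Ideal.IsPrime.ne_top ‹_› ((Ideal.eq_top_iff_one p).2 h1)
  have hh : f * ∏ q ∈ hfin.toFinset, g q ∉ p := by
    intro h
    rcases Ideal.IsPrime.mem_or_mem ‹_› h with h | h
    · exact hf h
    · obtain ⟨q, -, hq⟩ := Ideal.IsPrime.prod_mem_iff.1 h
      exact hgp q hq
  obtain ⟨m, ⟨hpm, hm⟩, hnot⟩ : ∃ m : Ideal R, (p ≤ m ∧ m.IsMaximal) ∧ f * ∏ q ∈ hfin.toFinset, g q ∉ m := by
    by_contra! hc
    exact hh ((isJacobsonRing_iff_prime_eq.1 ‹IsJacobsonRing R› p ‹_›).le (Submodule.mem_sInf.2 fun m hm => hc m hm))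
  have hmem : (⟨m, hm.isPrime⟩ : PrimeSpectrum R) ∈ hfin.toFinset := hfin.mem_toFinset.2 ⟨hpm, fun h => hnot (m.mul_mem_right _ h)⟩
  have hne : m ≠ p := fun h => hp (h ▸ hm)
  refine hnot (m.mul_mem_left _ (Ideal.IsPrime.prod_mem_iff (hp := hm.isPrime) |>.2 ⟨_, hmem, ?_⟩))
  simp only [g, dif_pos (show p ≤ m ∧ m ≠ p from ⟨hpm, hne⟩)]
  exact (hg ⟨m, hm.isPrime⟩ hpm hne).choose_spec.1

end Groth.Agent.S9611
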