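import Groth.Statements.S9612
import Mathlib.RingTheory.Jacobson.Ring
import Mathlib.RingTheory.PrincipalIdealDomain
import Mathlib.RingTheory.FiniteType

set_option autoImplicit false
universe u
open CAlg

namespace Groth.Agent.S9612

/-- A finite type ℤ-algebra is a Jacobson ring. -/
theorem result {S : Type u} [CommRing S] [Algebra.FiniteType ℤ S] :
    IsJacobsonRing S := by
  have : IsJacobsonRing ℤ := by
    rw [isJacobsonRing_iff_prime_eq]
    intro p hp
    by_cases h : p = ⊥
    · subst h
      refine le_antisymm (fun x hx => ?_) bot_le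
      rw [Ideal.mem_jacobson_bot] at hx
      rcases Int.isUnit_iff.1 (hx 3) with h | h <;> [skip; omega] <;> simp <;> omega
    · exact Ideal.jacobson_eq_self_of_isMaximal (H := IsPrime.to_maximal_ideal (hpi := hp) h)
  obtain ⟨n, φ, hφ⟩ := Algebra.FiniteType.iff_quotient_mvPolynomial''.1 (inferInstance : Algebra.FiniteType ℤ S)
  exact isJacobsonRing_of_surjective ⟨φ.toRingHom, hφ⟩

end Groth.Agent.S9612
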