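import Groth.Statements.S9613
import Mathlib

set_option autoImplicit false
universe u
open CAlg

namespace Groth.Agent.S9613

/-- Let R → K be an injective ring map into a field K which makes K an R-algebra of finite type. Then
for some nonzero f ∈ R the localization R_f is a field over which K is finite; here R_f is realised
as the R-subalgebra of K that is a localization of R away from f. -/
theorem result {R K : Type u} [CommRing R] [Field K] [Algebra R K] (hinj : Function.Injective (algebraMap R K)) [Algebra.FiniteType R K] :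
    ∃ f : R, f ≠ 0 ∧ ∃ Rf : Subalgebra R K, IsLocalization.Away f Rf ∧ IsField Rf ∧ Module.Finite Rf K := by
  classical
  haveI : IsDomain R := hinj.isDomain _
  haveI : FaithfulSMul R K := (faithfulSMul_iff_algebraMap_injective R K).2 hinj
  letI : Algebra (FractionRing R) K := FractionRing.liftAlgebra R K
  haveI : IsScalarTower R (FractionRing R) K := FractionRing.isScalarTower_liftAlgebra R K
  haveI : Algebra.FiniteType (FractionRing R) K := Algebra.FiniteType.of_restrictScalars_finiteType R _ K
  haveI : Module.Finite (FractionRing R) K := finite_of_finite_type_of_isJacobsonRing (FractionRing R) K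
  obtain ⟨G, hG⟩ := (inferInstance : Algebra.FiniteType R K).out
  have halg : ∀ x : K, ∃ q : Polynomial R, q ≠ 0 ∧ Polynomial.aeval x q = 0 := fun x =>
    (IsFractionRing.isAlgebraic_iff R (FractionRing R) K).2 (Algebra.IsAlgebraic.isAlgebraic x)
  choose q hq0 hq using halg
  let f : R := ∏ x ∈ G, (q x).leadingCoeff
  have hf : f ≠ 0 := Finset.prod_ne_zero_iff.2 fun x _ => Polynomial.leadingCoeff_ne_zero.2 (hq0 x)
  have hfK : algebraMap R K f ≠ 0 := by rwa [Ne, ← map_zero (algebraMap R K), hinj.eq_iff]
  let Rf : Subalgebra R K := Algebra.adjoin R {(algebraMap R K f)⁻¹}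
  have hinv : (algebraMap R K f)⁻¹ ∈ Rf := Algebra.subset_adjoin rfl
  have hint : Algebra.IsIntegral Rf K := by
    refine ⟨fun z => ?_⟩
    have hgen : Algebra.adjoin Rf (↑G : Set K) = ⊤ := by
      rw [eq_top_iff]
      intro w hw0
      clear hw0
      have hw : w ∈ Algebra.adjoin R (↑G : Set K) := hG ▸ Algebra.mem_top
      induction hw using Algebra.adjoin_induction with
      | mem x hx => exact Algebra.subset_adjoin hx
      | algebraMap r => exact Subalgebra.algebraMap_mem (Algebra.adjoin Rf (↑G : Set K)) (algebraMap R Rf r)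
      | add a b _ _ ha hb => exact Subalgebra.add_mem _ ha hb
      | mul a b _ _ ha hb => exact Subalgebra.mul_mem _ ha hb
    have hz : z ∈ Algebra.adjoin Rf (↑G : Set K) := hgen ▸ Algebra.mem_top
    refine Algebra.adjoin_le (S := integralClosure Rf K) (fun x hx => ?_) hz
    show IsIntegral Rf x
    obtain ⟨d, hd⟩ : (q x).leadingCoeff ∣ f := Finset.dvd_prod_of_mem _ hx
    have hc : algebraMap R K (q x).leadingCoeff ≠ 0 := fun h => hfK (by rw [hd, map_mul, h, zero_mul])
    let c : Rf := ⟨(algebraMap R K (q x).leadingCoeff)⁻¹, by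
      have : (algebraMap R K (q x).leadingCoeff)⁻¹ = algebraMap R K d * (algebraMap R K f)⁻¹ := by
        field_simp
        rw [hd, map_mul, mul_comm]
      rw [this]
      exact Rf.mul_mem (Rf.algebraMap_mem d) hinv⟩
    refine ⟨Polynomial.C c * (q x).map (algebraMap R Rf), ?_, ?_⟩
    · refine Polynomial.monic_C_mul_of_mul_leadingCoeff_eq_one ?_
      rw [Polynomial.leadingCoeff_map_of_injective]
      · exact Subtype.ext (inv_mul_cancel₀ hc)
      · exact fun a b h => hinj (congrArg Subtype.val h)
    · rw [← Polynomial.aeval_def, map_mul, Polynomial.aeval_map_algebraMap, hq, mul_zero]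
  have hfield : IsField Rf :=
    isField_of_isIntegral_of_isField (R := Rf) (S := K) Subtype.val_injective (Field.toIsField K)
  refine ⟨f, hf, Rf, ?_, hfield, ?_⟩
  · refine ⟨fun y => ?_, fun z => ?_, fun {a b} h => ⟨1, by rw [hinj (congrArg Subtype.val h)]⟩⟩
    · obtain ⟨_, n, rfl⟩ := y
      rw [map_pow]
      exact (IsUnit.of_mul_eq_one (⟨_, hinv⟩ : Rf) (Subtype.ext (mul_inv_cancel₀ hfK))).pow n
    · obtain ⟨z, hz⟩ := z
      obtain ⟨P, rfl⟩ := Algebra.adjoin_mem_exists_aeval _ _ hz
      refine ⟨⟨∑ i ∈ Finset.range (P.natDegree + 1), P.coeff i * f ^ (P.natDegree - i), ⟨f ^ P.natDegree, _, rfl⟩⟩, Subtype.ext ?_⟩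
      show Polynomial.aeval _ P * algebraMap R K (f ^ P.natDegree) = algebraMap R K _
      rw [Polynomial.aeval_eq_sum_range, Finset.sum_mul, map_sum]
      refine Finset.sum_congr rfl fun i hi => ?_
      have hi' : i ≤ P.natDegree := Nat.lt_succ_iff.1 (Finset.mem_range.1 hi)
      rw [Algebra.smul_def, map_mul, map_pow, map_pow, mul_assoc, inv_pow, pow_sub₀ _ hfK hi']
      ring
  · haveI : Algebra.FiniteType Rf K := Algebra.FiniteType.of_restrictScalars_finiteType R Rf K
    exact Algebra.IsIntegral.finite

end Groth.Agent.S9613
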