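import Groth.Statements.S9615
import Mathlib.RingTheory.Polynomial.IsIntegral
import Mathlib.RingTheory.GradedAlgebra.Basic

set_option autoImplicit false
universe u
open CAlg

namespace Groth.Agent.S9615

/-- Let R → S be a homomorphism of ℕ-graded rings, i.e. the structure map carries each graded piece R_i
into S_i. If an element s of S is integral over R, then each homogeneous component of s is integral
over R; so the integral closure of R in S is a graded subring of S. -/
theorem result {R S : Type u} [CommRing R] [CommRing S] [Algebra R S] (ℛ : ℕ → AddSubgroup R) [GradedRing ℛ] (𝒮 : ℕ → AddSubgroup S) [GradedRing 𝒮]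
    (hmap : ∀ i : ℕ, ∀ r ∈ ℛ i, algebraMap R S r ∈ 𝒮 i) (s : S) (hs : IsIntegral R s) (i : ℕ) :
    IsIntegral R ((DirectSum.decompose 𝒮 s i : 𝒮 i) : S) := by
    classical
    let φ : ∀ {A : Type u} [CommRing A] (𝒜 : ℕ → AddSubgroup A) [GradedRing 𝒜], A →+* Polynomial A :=
      fun {A} _ 𝒜 _ => (DirectSum.toSemiring (fun j => (Polynomial.monomial j).toAddMonoidHom.comp (𝒜 j).subtype)
        (by change Polynomial.monomial 0 (1 : A) = 1; rfl)
        (fun {a b} x y => by
          change Polynomial.monomial (a + b) ((x : A) * y) = Polynomial.monomial a (x : A) * Polynomial.monomial b (y : A)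
          rw [Polynomial.monomial_mul_monomial])).comp (DirectSum.decomposeRingEquiv 𝒜).toRingHom
    have hφmem : ∀ {A : Type u} [CommRing A] (𝒜 : ℕ → AddSubgroup A) [GradedRing 𝒜] (j : ℕ) (x : A), x ∈ 𝒜 j → φ 𝒜 x = Polynomial.monomial j x := by
      intro A _ 𝒜 _ j x hx
      simp only [φ, RingHom.comp_apply]
      erw [DirectSum.decompose_of_mem 𝒜 hx, DirectSum.toSemiring_of]
      rfl
    have hcoeff : (φ 𝒮 s).coeff i = ((DirectSum.decompose 𝒮 s i : 𝒮 i) : S) := by
      have : ∀ x, (φ 𝒮 x).coeff i = ((DirectSum.decompose 𝒮 x i : 𝒮 i) : S) := by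
        intro x
        induction x using DirectSum.Decomposition.inductionOn 𝒮 with
        | zero => simp
        | homogeneous m =>
          rename_i j
          rw [hφmem 𝒮 j _ m.2, Polynomial.coeff_monomial, DirectSum.decompose_coe]
          by_cases h : j = i
          · subst h; simp
          · simp [h, DirectSum.of_eq_of_ne _ _ _ (Ne.symm h)]
        | add a b ha hb => simp [ha, hb]
      exact this s
    rw [← hcoeff]
    letI := Polynomial.algebra R S
    refine (Polynomial.isIntegral_iff_isIntegral_coeff.1 ?_) i
    refine IsIntegral.map_of_comp_eq (φ ℛ) (φ 𝒮) ?_ hs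
    ext r : 1
    induction r using DirectSum.Decomposition.inductionOn ℛ with
    | zero => simp
    | homogeneous m =>
      rename_i j
      change algebraMap (Polynomial R) (Polynomial S) (φ ℛ m) = φ 𝒮 (algebraMap R S m)
      rw [hφmem ℛ j _ m.2, hφmem 𝒮 j _ (hmap j _ m.2)]
      simp [Polynomial.algebraMap_def]
    | add a b ha hb => rw [map_add, map_add, ha, hb]

end Groth.Agent.S9615
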