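import Groth.Statements.S9616
import Mathlib.RingTheory.GradedAlgebra.Homogeneous.Ideal
import Mathlib.RingTheory.Ideal.Operations

set_option autoImplicit false
universe u
open CAlg

namespace Groth.Agent.S9616

/-- Let S be an ℕ-graded ring, p_1, …, p_r homogeneous prime ideals of S and I ⊆ S₊ a homogeneous ideal
not contained in any p_i. Then there is a homogeneous element x ∈ I of positive degree with x ∉ p_i
for all i. -/
theorem result {R S : Type u} [CommRing R] [CommRing S] [Algebra R S] (𝒜 : ℕ → Submodule R S) [GradedAlgebra 𝒜]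
    {r : ℕ} (p : Fin r → HomogeneousIdeal 𝒜) (hp : ∀ i, (p i).toIdeal.IsPrime) (I : HomogeneousIdeal 𝒜) (hI : I ≤ HomogeneousIdeal.irrelevant 𝒜) (h : ∀ i, ¬ I ≤ p i) :
    ∃ x : S, ∃ d : ℕ, 0 < d ∧ x ∈ 𝒜 d ∧ x ∈ I ∧ ∀ i, x ∉ p i := by
  classical
  have hpos : ∀ (z : S) (d : ℕ), z ∈ 𝒜 d → z ∈ I → d = 0 → z = 0 := by
    intro z d hz hzI hd
    subst hd
    have := hI hzI
    rw [HomogeneousIdeal.mem_irrelevant_iff, GradedRing.proj_apply, DirectSum.decompose_of_mem_same 𝒜 hz] at this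
    exact this
  have hhom : ∀ (J : HomogeneousIdeal 𝒜) (i : Fin r), ¬ J.toIdeal ≤ (p i).toIdeal → ∃ d z, z ∈ 𝒜 d ∧ z ∈ J ∧ z ∉ p i := by
    intro J i hJ
    obtain ⟨a, haJ, hap⟩ := SetLike.not_le_iff_exists.1 hJ
    by_contra! hc
    apply hap
    rw [← DirectSum.sum_support_decompose 𝒜 a]
    exact Ideal.sum_mem _ fun d _ => hc d _ (SetLike.coe_mem _) (J.isHomogeneous d haJ)
  suffices ∀ (k : ℕ) (t : Finset (Fin r)), t.card ≤ k → ∃ x : S, ∃ d : ℕ, 0 < d ∧ x ∈ 𝒜 d ∧ x ∈ I ∧ ∀ i ∈ t, x ∉ p i by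
    obtain ⟨x, d, h1, h2, h3, h4⟩ := this _ Finset.univ le_rfl
    exact ⟨x, d, h1, h2, h3, fun i => h4 i (Finset.mem_univ i)⟩
  intro k
  induction k with
  | zero => exact fun t ht => ⟨0, 1, one_pos, zero_mem _, zero_mem I, fun i hi => absurd (Finset.card_pos.2 ⟨i, hi⟩) (by omega)⟩
  | succ k ih =>
    intro t ht
    rcases t.eq_empty_or_nonempty with rfl | ⟨j, hj⟩
    · exact ih ∅ (by simp)
    by_cases hd : ∃ i ∈ t.erase j, (p i).toIdeal ≤ (p j).toIdeal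
    · obtain ⟨i, hi, hij⟩ := hd
      obtain ⟨x, d, h1, h2, h3, h4⟩ := ih (t.erase i) (by
        have := Finset.card_erase_of_mem (Finset.mem_of_mem_erase hi); omega)
      refine ⟨x, d, h1, h2, h3, fun a ha hxa => ?_⟩
      by_cases hai : a = i
      · subst hai
        exact h4 j (Finset.mem_erase.2 ⟨(Finset.ne_of_mem_erase hi).symm, hj⟩) (hij hxa)
      · exact h4 a (Finset.mem_erase.2 ⟨hai, ha⟩) hxa
    push Not at hd
    obtain ⟨x, d, hd1, hx2, hx3, hx4⟩ := ih (t.erase j) (by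
      have := Finset.card_erase_of_mem hj; omega)
    by_cases hxj : x ∈ p j
    swap
    · refine ⟨x, d, hd1, hx2, hx3, fun a ha => ?_⟩
      by_cases haj : a = j
      · exact haj ▸ hxj
      · exact hx4 a (Finset.mem_erase.2 ⟨haj, ha⟩)
    choose! e z hz1 hz2 hz3 using fun i (hi : i ∈ t.erase j) => hhom (p i) j (hd i hi)
    obtain ⟨d0, z0, h01, h02, h03⟩ := hhom I j (h j)
    have hd0 : 0 < d0 := Nat.pos_of_ne_zero fun h0 => h03 ((hpos z0 d0 h01 h02 h0) ▸ zero_mem _)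
    let y := z0 * ∏ i ∈ t.erase j, z i
    let dy := d0 + ∑ i ∈ t.erase j, e i
    have hy : y ∈ 𝒜 dy := SetLike.mul_mem_graded h01 (SetLike.prod_mem_graded 𝒜 e z fun i hi => hz1 i hi)
    have hyI : y ∈ I := I.toIdeal.mul_mem_right _ h02
    have hyj : y ∉ p j := fun hh => ((hp j).mem_or_mem hh).elim h03 fun hh => by
      obtain ⟨i, hi, hi'⟩ := (hp j).prod_mem_iff.1 hh
      exact hz3 i hi hi'
    have hdy : 0 < dy := by omega
    refine ⟨x ^ dy + y ^ d, d * dy, Nat.mul_pos hd1 hdy, add_mem ?_ ?_, I.toIdeal.add_mem (Ideal.pow_mem_of_mem _ hx3 _ hdy) (Ideal.pow_mem_of_mem _ hyI _ hd1), fun a ha hh => ?_⟩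
    · simpa [mul_comm] using SetLike.pow_mem_graded dy hx2
    · simpa [mul_comm] using SetLike.pow_mem_graded d hy
    by_cases haj : a = j
    · subst haj
      exact hyj ((hp a).mem_of_pow_mem d (((p a).toIdeal.add_mem_iff_right (Ideal.pow_mem_of_mem _ hxj _ hdy)).1 hh))
    · have hya : y ∈ (p a).toIdeal := Ideal.mul_mem_left _ _ (Ideal.prod_mem _ (Finset.mem_erase.2 ⟨haj, ha⟩) (hz2 a (Finset.mem_erase.2 ⟨haj, ha⟩)))
      exact hx4 a (Finset.mem_erase.2 ⟨haj, ha⟩) ((hp a).mem_of_pow_mem dy (((p a).toIdeal.add_mem_iff_left (Ideal.pow_mem_of_mem _ hya _ hd1)).1 hh))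

end Groth.Agent.S9616
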