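import Groth.Statements.S9618
import Groth.Agent.CAlgH3.Components

set_option autoImplicit false
universe u
open CAlg

namespace Groth.Agent.S9618

/-- For a ring R and a subset T of Spec R the following are equivalent: (1) T is closed and contains the
connected component of each of its points; (2) T can be written as an intersection of subsets of
Spec R that are both open and closed; (3) T is the common zero locus of some set of idempotent
elements of R (equivalently, of the ideal they generate). -/
theorem result {R : Type u} [CommRing R] (T : Set (PrimeSpectrum R)) :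
    [IsClosed T ∧ ∀ x ∈ T, connectedComponent x ⊆ T,
      ∃ U : Set (Set (PrimeSpectrum R)), (∀ u ∈ U, IsClopen u) ∧ T = ⋂₀ U,
      ∃ E : Set R, (∀ e ∈ E, IsIdempotentElem e) ∧ T = PrimeSpectrum.zeroLocus E].TFAE := by
  tfae_have 1 → 3 := by
    rintro ⟨h1, h2⟩
    exact ⟨_, fun e he => he.1, CAlgH3.closed_union_components_eq T h1 h2⟩
  tfae_have 3 → 2 := by
    rintro ⟨E, hE, rfl⟩
    refine ⟨(fun e => PrimeSpectrum.zeroLocus ({e} : Set R)) '' E, ?_, ?_⟩
    · rintro _ ⟨e, he, rfl⟩; exact CAlgH3.isClopen_zeroLocus_idem (hE e he)
    · ext x; simp [PrimeSpectrum.mem_zeroLocus, Set.subset_def]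
  tfae_have 2 → 1 := by
    rintro ⟨U, hU, rfl⟩
    exact ⟨isClosed_sInter fun u hu => (hU u hu).1,
      fun x hx => Set.subset_sInter fun u hu => (hU u hu).connectedComponent_subset (hx u hu)⟩
  tfae_finish

end Groth.Agent.S9618
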