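import Groth.Statements.S9621
import Mathlib.RingTheory.Spectrum.Prime.Topology

set_option autoImplicit false
universe u
open CAlg

namespace Groth.Agent.S9621

/-- Let R be a ring, p a minimal prime of R and W a quasi-compact open subset of Spec R not containing
p. Then there is an f ∈ R, f ∉ p, whose basic open D(f) is disjoint from W. -/
theorem result {R : Type u} [CommRing R] (p : PrimeSpectrum R) (hp : p.asIdeal ∈ minimalPrimes R) (W : Set (PrimeSpectrum R)) (hWo : IsOpen W) (hWc : IsCompact W) (hpW : p ∉ W) :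
    ∃ f : R, f ∉ p.asIdeal ∧ Disjoint (PrimeSpectrum.basicOpen f : Set (PrimeSpectrum R)) W := by
  have key : ∀ g ∈ p.asIdeal, ∃ s ∉ p.asIdeal, IsNilpotent (s * g) := by
    intro g hg
    by_contra! hc
    have hd : Disjoint ((⊥ : Ideal R) : Set R) ((p.asIdeal.primeCompl ⊔ Submonoid.powers g : Submonoid R) : Set R) := by
      rw [Set.disjoint_left]
      rintro x hx hx'
      obtain ⟨s, hs, _, ⟨n, rfl⟩, rfl⟩ := Submonoid.mem_sup.1 hx'
      rw [SetLike.mem_coe, Ideal.mem_bot] at hx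
      refine hc s hs ⟨n + 1, ?_⟩
      calc (s * g) ^ (n + 1) = (s * g ^ n) * (s ^ n * g) := by ring
        _ = 0 := by rw [hx, zero_mul]
    obtain ⟨q, hq, -, hqd⟩ := Ideal.exists_le_prime_disjoint ⊥ _ hd
    have hqp : q ≤ p.asIdeal := fun x hx => by
      by_contra hxp
      exact Set.disjoint_left.1 hqd hx (Submonoid.mem_sup_left hxp)
    have := hp.2 ⟨hq, bot_le⟩ hqp
    exact Set.disjoint_left.1 hqd (this hg) (Submonoid.mem_sup_right (Submonoid.mem_powers g))
  obtain ⟨t, ht⟩ := PrimeSpectrum.isCompact_isOpen_iff.1 ⟨hWc, hWo⟩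
  have hmem : ∀ g ∈ t, g ∈ p.asIdeal := by
    intro g hg
    by_contra hgp
    apply hpW
    rw [← ht]
    simp only [Set.mem_compl_iff, PrimeSpectrum.mem_zeroLocus]
    exact fun hh => hgp (hh hg)
  choose s hs hnil using key
  refine ⟨∏ g ∈ t.attach, s g.1 (hmem g.1 g.2), fun h => ?_, ?_⟩
  · obtain ⟨g, -, hg⟩ := p.isPrime.prod_mem_iff.1 h
    exact hs _ _ hg
  · rw [Set.disjoint_left]
    intro q hq hqW
    rw [← ht, Set.mem_compl_iff, PrimeSpectrum.mem_zeroLocus] at hqW
    apply hqW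
    intro g hg
    have h1 : s g (hmem g hg) * g ∈ q.asIdeal := by
      obtain ⟨n, hn⟩ := hnil g (hmem g hg)
      exact q.isPrime.mem_of_pow_mem n (hn ▸ q.asIdeal.zero_mem)
    refine (q.isPrime.mem_or_mem h1).resolve_left fun h2 => ?_
    exact hq (q.isPrime.prod_mem_iff.2 ⟨⟨g, hg⟩, Finset.mem_attach _ _, h2⟩)

end Groth.Agent.S9621
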