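import Groth.Statements.S9622
import Mathlib.RingTheory.Artinian.Module
import Mathlib.RingTheory.FiniteType
import Mathlib.RingTheory.HopkinsLevitzki

set_option autoImplicit false
universe u
open CAlg

namespace Groth.Agent.S9622

/-- Let R → S be a ring map whose target S is a local Artinian ring, and write m for the maximal ideal
of S. Then S is a finite R-module exactly when S/m is, and S is an R-algebra of finite type exactly
when S/m is. -/
theorem result {R S : Type u} [CommRing R] [CommRing S] [Algebra R S] [IsArtinianRing S] [IsLocalRing S] :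
    (Module.Finite R S ↔ Module.Finite R (S ⧸ IsLocalRing.maximalIdeal S)) ∧
      (Algebra.FiniteType R S ↔ Algebra.FiniteType R (S ⧸ IsLocalRing.maximalIdeal S)) := by
  have key : ∀ (A : Type u) [CommRing A] [Algebra A S], Module.Finite A (S ⧸ IsLocalRing.maximalIdeal S) → Module.Finite A S := by
    intro A _ _ hfin
    let m := IsLocalRing.maximalIdeal S
    suffices H : ∀ (k : ℕ) (I : Ideal S), m ^ k * I = ⊥ → Module.Finite A I by
      obtain ⟨k, hk⟩ := IsArtinianRing.isNilpotent_jacobson_bot (R := S)
      rw [IsLocalRing.jacobson_eq_maximalIdeal ⊥ bot_ne_top] at hk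
      have := H k ⊤ (by rw [hk]; simp)
      exact Module.Finite.equiv ((Submodule.topEquiv (R := S) (M := S)).restrictScalars A)
    intro k
    induction k with
    | zero =>
      intro I hI
      rw [pow_zero, Ideal.one_eq_top, Ideal.top_mul] at hI
      subst hI
      infer_instance
    | succ k ih =>
      intro I hI
      have h1 := ih (m * I) (by rw [← mul_assoc, ← pow_succ, hI])
      obtain ⟨n, s, hs⟩ := Submodule.fg_iff_exists_fin_generating_family.1 (IsNoetherian.noetherian I)
      let Q := ↥I ⧸ Submodule.comap (Submodule.subtype I) (m * I)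
      have hz : ∀ (a : S), a ∈ m → ∀ q : Q, a • q = 0 := by
        intro a ha q
        obtain ⟨q, rfl⟩ := Submodule.Quotient.mk_surjective _ q
        exact (Submodule.Quotient.mk_eq_zero _).2 (Ideal.mul_mem_mul ha q.2)
      have hmem : ∀ i, s i ∈ I := fun i => hs ▸ Submodule.subset_span (Set.mem_range_self i)
      let gen : Fin n → Q := fun i => Submodule.Quotient.mk ⟨s i, hmem i⟩
      let l : (Fin n → S) →ₗ[S] Q := Fintype.linearCombination S gen
      have hl : Function.Surjective l := by
        intro q
        obtain ⟨⟨q, hq⟩, rfl⟩ := Submodule.Quotient.mk_surjective _ q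
        rw [← hs, Submodule.mem_span_range_iff_exists_fun] at hq
        obtain ⟨c, rfl⟩ := hq
        refine ⟨c, ?_⟩
        simp only [l, Fintype.linearCombination_apply, gen, ← Submodule.mkQ_apply, ← map_smul, ← map_sum]
        exact congrArg _ (Subtype.ext (by simp))
      have hle : LinearMap.ker (LinearMap.pi fun i => (m.mkQ).comp (LinearMap.proj (φ := fun _ : Fin n => S) i)) ≤ LinearMap.ker l := by
        intro c hc
        rw [LinearMap.mem_ker] at hc ⊢
        simp only [l, Fintype.linearCombination_apply]
        refine Finset.sum_eq_zero fun i _ => hz _ ?_ _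
        exact (Submodule.Quotient.mk_eq_zero _).1 (congrFun hc i)
      let p : (Fin n → S) →ₗ[S] (Fin n → S ⧸ m) := LinearMap.pi fun i => (m.mkQ).comp (LinearMap.proj i)
      have hp : Function.Surjective p := by
        intro c
        choose d hd using fun i => m.mkQ_surjective (c i)
        exact ⟨d, funext hd⟩
      let l' : (Fin n → S ⧸ m) →ₗ[S] Q := ((LinearMap.ker p).liftQ l hle).comp (LinearMap.quotKerEquivOfSurjective p hp).symm.toLinearMap
      have hl' : Function.Surjective l' := by
        intro q
        obtain ⟨c, rfl⟩ := hl q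
        refine ⟨p c, ?_⟩
        simp [l']
      have : Module.Finite A Q := Module.Finite.of_surjective (l'.restrictScalars A) hl'
      have : Module.Finite A ((Submodule.comap (Submodule.subtype I) (m * I)).restrictScalars A) :=
        Module.Finite.equiv ((Submodule.comapSubtypeEquivOfLe (Ideal.mul_le_right : m * I ≤ I)).symm.restrictScalars A)
      have : Module.Finite A (↥I ⧸ (Submodule.comap (Submodule.subtype I) (m * I)).restrictScalars A) := Module.Finite.of_surjective ((Submodule.Quotient.restrictScalarsEquiv A _).symm.toLinearMap.restrictScalars A) (LinearEquiv.surjective _)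
      exact Module.Finite.of_submodule_quotient ((Submodule.comap (Submodule.subtype I) (m * I)).restrictScalars A)
  refine ⟨⟨fun h => Module.Finite.of_surjective (Ideal.Quotient.mkₐ R _).toLinearMap Ideal.Quotient.mk_surjective, key R⟩, ⟨fun h => h.of_surjective (Ideal.Quotient.mkₐ R _) Ideal.Quotient.mk_surjective, fun h => ?_⟩⟩
  classical
  obtain ⟨s, hs⟩ := h.1
  choose g hg using Ideal.Quotient.mk_surjective (I := IsLocalRing.maximalIdeal S)
  let A := Algebra.adjoin R (↑(s.image g) : Set S)
  have : Algebra.FiniteType R A := (Subalgebra.fg_iff_finiteType A).1 (Subalgebra.fg_adjoin_finset _)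
  have hsurj : Function.Surjective (algebraMap A (S ⧸ IsLocalRing.maximalIdeal S)) := by
    intro q
    have : (Algebra.adjoin R (↑s : Set (S ⧸ IsLocalRing.maximalIdeal S))) ≤ A.map (Ideal.Quotient.mkₐ R _) :=
      Algebra.adjoin_le fun x hx => ⟨g x, Algebra.subset_adjoin (Finset.mem_coe.2 (Finset.mem_image_of_mem g hx)), hg x⟩
    obtain ⟨x, hx, rfl⟩ := this (hs ▸ Algebra.mem_top : q ∈ Algebra.adjoin R (↑s : Set (S ⧸ IsLocalRing.maximalIdeal S)))
    exact ⟨⟨x, hx⟩, rfl⟩
  have : Module.Finite A S := key A (Module.Finite.of_surjective (Algebra.linearMap A _) hsurj)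
  exact Algebra.FiniteType.trans (S := A) inferInstance inferInstance

end Groth.Agent.S9622
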