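import Groth.Statements.S9633
import Mathlib.RingTheory.Spectrum.Prime.Topology
import Mathlib.RingTheory.Ideal.MinimalPrime.Localization
import Mathlib.Topology.Connected.TotallyDisconnected
import Mathlib.Topology.Connected.Separation

set_option autoImplicit false
universe u
open CAlg

namespace Groth.Agent.S9633

/-- For a ring R with spectrum X the following are equivalent: (1) X is profinite, i.e. compact,
Hausdorff and totally disconnected; (2) X is Hausdorff; (3) X is totally disconnected; (4) every
quasi-compact open subset of X is closed; (5) there are no nontrivial inclusions among prime ideals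
of R; (6) every prime ideal of R is maximal; (7) every prime ideal of R is a minimal prime; (8)
every standard open D(f) is closed. -/
theorem result {R : Type u} [CommRing R] :
    [CompactSpace (PrimeSpectrum R) ∧ T2Space (PrimeSpectrum R) ∧ TotallyDisconnectedSpace (PrimeSpectrum R),
      T2Space (PrimeSpectrum R),
      TotallyDisconnectedSpace (PrimeSpectrum R),
      ∀ W : Set (PrimeSpectrum R), IsOpen W → IsCompact W → IsClosed W,
      ∀ p q : PrimeSpectrum R, p ≤ q → p = q,
      ∀ p : Ideal R, p.IsPrime → p.IsMaximal,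
      ∀ p : Ideal R, p.IsPrime → p ∈ minimalPrimes R,
      ∀ f : R, IsClosed (PrimeSpectrum.basicOpen f : Set (PrimeSpectrum R))].TFAE := by
  tfae_have 1 → 2 := fun h => h.2.1
  tfae_have 1 → 3 := fun h => h.2.2
  tfae_have 2 → 4 := fun h W _ hW => hW.isClosed
  tfae_have 4 → 8 := fun h f => h _ (PrimeSpectrum.basicOpen f).isOpen (PrimeSpectrum.isCompact_basicOpen f)
  tfae_have 8 → 5 := by
    intro h p q hpq
    refine le_antisymm hpq fun f hf => ?_
    by_contra hfp
    have : q ∈ closure ({p} : Set (PrimeSpectrum R)) := ((PrimeSpectrum.le_iff_mem_closure _ _).1 hpq)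
    exact closure_minimal (Set.singleton_subset_iff.2 (show p ∈ (PrimeSpectrum.basicOpen f : Set (PrimeSpectrum R)) from hfp)) (h f) this hf
  tfae_have 3 → 5 := by
    intro h p q hpq
    have hc : IsPreconnected (closure ({p} : Set (PrimeSpectrum R))) := isPreconnected_singleton.closure
    exact (hc.subsingleton (subset_closure rfl) ((PrimeSpectrum.le_iff_mem_closure _ _).1 hpq))
  tfae_have 5 → 6 := by
    intro h p hp
    obtain ⟨m, hm, hle⟩ := p.exists_le_maximal hp.ne_top
    have := h ⟨p, hp⟩ ⟨m, hm.isPrime⟩ hle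
    rwa [show p = m from congrArg PrimeSpectrum.asIdeal this]
  tfae_have 6 → 7 := by
    intro h p hp
    exact ⟨⟨hp, bot_le⟩, fun q hq hqp => ((h q hq.1).eq_of_le hp.ne_top hqp).ge⟩
  tfae_have 7 → 8 := by
    intro h f
    rw [← isOpen_compl_iff, isOpen_iff_forall_mem_open]
    intro p hp
    have hfp : f ∈ p.asIdeal := by
      by_contra h'; exact hp h'
    obtain ⟨y, hy, hy'⟩ : ∃ s ∉ p.asIdeal, IsNilpotent (s * f) := by
      by_contra! hc
      have hd : Disjoint ((⊥ : Ideal R) : Set R) ((p.asIdeal.primeCompl ⊔ Submonoid.powers f : Submonoid R) : Set R) := by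
        rw [Set.disjoint_left]
        rintro x hx hx'
        obtain ⟨s, hs, _, ⟨n, rfl⟩, rfl⟩ := Submonoid.mem_sup.1 hx'
        rw [SetLike.mem_coe, Ideal.mem_bot] at hx
        refine hc s hs ⟨n + 1, ?_⟩
        calc (s * f) ^ (n + 1) = (s * f ^ n) * (s ^ n * f) := by ring
          _ = 0 := by rw [hx, zero_mul]
      obtain ⟨q, hq, -, hqd⟩ := Ideal.exists_le_prime_disjoint ⊥ _ hd
      have hqp : q ≤ p.asIdeal := fun x hx => by
        by_contra hxp
        exact Set.disjoint_left.1 hqd hx (Submonoid.mem_sup_left hxp)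
      have := (h p.asIdeal p.isPrime).2 ⟨hq, bot_le⟩ hqp
      exact Set.disjoint_left.1 hqd (this hfp) (Submonoid.mem_sup_right (Submonoid.mem_powers f))
    refine ⟨PrimeSpectrum.basicOpen y, fun z hz hzf => ?_, (PrimeSpectrum.basicOpen y).isOpen, hy⟩
    obtain ⟨n, hn⟩ := hy'
    exact (z.isPrime.mem_or_mem (z.isPrime.mem_of_pow_mem n (hn ▸ z.asIdeal.zero_mem))).elim hz hzf
  tfae_have 8 → 1 := by
    intro h
    have : TotallySeparatedSpace (PrimeSpectrum R) := by
      rw [totallySeparatedSpace_iff_exists_isClopen]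
      intro x y hxy
      have hne : ¬ (x.asIdeal ≤ y.asIdeal ∧ y.asIdeal ≤ x.asIdeal) := fun hh => hxy (PrimeSpectrum.ext (le_antisymm hh.1 hh.2))
      rcases not_and_or.1 hne with h' | h'
      · obtain ⟨f, hfx, hfy⟩ := SetLike.not_le_iff_exists.1 h'
        have hc : IsClopen (PrimeSpectrum.basicOpen f : Set (PrimeSpectrum R)) := ⟨h f, (PrimeSpectrum.basicOpen f).isOpen⟩
        exact ⟨(PrimeSpectrum.basicOpen f : Set (PrimeSpectrum R))ᶜ, hc.compl, fun hh => hh hfx, fun hh => hh hfy⟩
      · obtain ⟨f, hfy, hfx⟩ := SetLike.not_le_iff_exists.1 h'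
        exact ⟨PrimeSpectrum.basicOpen f, ⟨h f, (PrimeSpectrum.basicOpen f).isOpen⟩, hfx, fun hh => hh hfy⟩
    have : T2Space (PrimeSpectrum R) := TotallySeparatedSpace.t2Space
    exact ⟨inferInstance, inferInstance, inferInstance⟩
  tfae_finish

end Groth.Agent.S9633
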