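import Groth.Statements.S9634
import Groth.Agent.AbVarLib.PerfectReduced
import Mathlib.FieldTheory.PurelyInseparable.PerfectClosure
-- import your own Groth.Agent.* helpers here

set_option autoImplicit false
set_option linter.all false
set_option maxHeartbeats 2000000
set_option backward.isDefEq.respectTransparency false
set_option synthInstance.maxHeartbeats 200000
universe u
open CAlg

namespace Groth.Agent.S9634

open TensorProduct in
theorem isReduced_up (k P Ω S : Type u) [Field k] [Field P] [PerfectField P] [Algebra k P] [Field Ω] [Algebra P Ω]
    [Algebra k Ω] [IsScalarTower k P Ω] [CommRing S] [Algebra k S] [IsReduced (P ⊗[k] S)] : IsReduced (Ω ⊗[k] S) := by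
  haveI : IsReduced (Ω ⊗[P] (P ⊗[k] S)) := Groth.Agent.AbVarLib.isReduced_field_tensor_perfect P Ω _
  exact isReduced_of_injective (Algebra.TensorProduct.cancelBaseChange k P P Ω S).symm
    (Algebra.TensorProduct.cancelBaseChange k P P Ω S).symm.injective

open TensorProduct in
/-- (1) ⇔ (4) ⇔ (5): for a field k and a k-algebra S the following are equivalent: (1) the ring k' ⊗_k S
is reduced whenever k'/k is a finite purely inseparable field extension; (4) S is geometrically
reduced in Mathlib's sense, which over a field amounts to k̄ ⊗_k S being reduced for an algebraic
closure k̄; (5) K ⊗_k S is reduced for all field extensions K/k. In (1) and (5) the test fields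
range over field extensions in the universe of k; this is equivalent to the unrestricted notion,
since an algebraic closure of k suffices as a test. -/
theorem result {k S : Type u} [Field k] [CommRing S] [Algebra k S] :
    [∀ (k' : Type u) [Field k'] [Algebra k k'] [Module.Finite k k'] [IsPurelyInseparable k k'], IsReduced (k' ⊗[k] S),
      Algebra.IsGeometricallyReduced k S,
      ∀ (K : Type u) [Field K] [Algebra k K], IsReduced (K ⊗[k] S)].TFAE := by
  tfae_have 3 → 2 := fun h => (Algebra.isGeometricallyReduced_field_iff k S).mpr (h _)
  tfae_have 2 → 1 := fun h k' _ _ _ _ => by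
    haveI : Algebra.IsAlgebraic k k' := Algebra.IsAlgebraic.of_finite k k'
    infer_instance
  tfae_have 1 → 3 := fun h K _ _ => by
    let Ω := AlgebraicClosure K
    let P := perfectClosure k Ω
    haveI : IsReduced (S ⊗[k] P) := IsReduced.tensorProduct_of_flat_of_forall_fg fun B hB => by
      haveI : Algebra.FiniteType k B := B.fg_iff_finiteType.mp hB
      haveI : Algebra.IsAlgebraic k B := Algebra.IsAlgebraic.tower_bot_of_injective (A := P) Subtype.val_injective
      haveI : Module.Finite k B := Algebra.IsIntegral.finite
      letI : Field B := (Subalgebra.isField_of_algebraic B).toField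
      haveI : IsPurelyInseparable k B := IsPurelyInseparable.tower_bot k B P
      haveI := h B
      exact isReduced_of_injective (Algebra.TensorProduct.comm k S B) (Algebra.TensorProduct.comm k S B).injective
    haveI : IsReduced (P ⊗[k] S) :=
      isReduced_of_injective (Algebra.TensorProduct.comm k P S) (Algebra.TensorProduct.comm k P S).injective
    haveI : IsReduced (Ω ⊗[k] S) := isReduced_up k P Ω S
    exact isReduced_of_injective (Algebra.TensorProduct.map (IsScalarTower.toAlgHom k K Ω) (AlgHom.id k S))
      (Module.Flat.rTensor_preserves_injective_linearMap _ (RingHom.injective _))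
  tfae_finish

end Groth.Agent.S9634
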