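import Groth.Statements.S9635
import Groth.Agent.FBaseLib.Geom
import Groth.Agent.CAlgH.RegularSepExt
import Mathlib.RingTheory.Ideal.IdempotentFG
-- import your own Groth.Agent.* helpers here

set_option autoImplicit false
set_option linter.all false
universe u
open CAlg

namespace Groth.Agent.S9635

theorem sub_mem_span_sq {R : Type u} [CommRing R] [IsReduced R] (f : Polynomial R) (hsep : f.Separable)
    (a b : R) (ha : f.eval a = 0) (hb : f.eval b = 0) : a - b ∈ Ideal.span {(a - b) ^ 2} := by
  obtain ⟨u, v, huv⟩ := hsep
  have h1 := congrArg (Polynomial.eval b) huv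
  simp only [Polynomial.eval_add, Polynomial.eval_mul, hb, mul_zero, zero_add, Polynomial.eval_one] at h1
  obtain ⟨w, hw⟩ := Polynomial.binomExpansion f b (a - b)
  rw [add_sub_cancel, ha, hb, zero_add] at hw
  exact Ideal.mem_span_singleton.mpr ⟨-(v.eval b * w), by linear_combination -(a - b) * h1 - (v.eval b) * hw⟩

theorem isReduced_quotient {R : Type u} [CommRing R] [IsReduced R] (D : Set R)
    (hD : ∀ d ∈ D, d ∈ Ideal.span {d ^ 2}) : IsReduced (R ⧸ Ideal.span D) := by
  classical
  rw [← Ideal.isRadical_iff_quotient_reduced]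
  intro x hx
  obtain ⟨n, hn⟩ := hx
  obtain ⟨t, htD, htx⟩ := Submodule.mem_span_finite_of_mem_span hn
  let I : Ideal R := Ideal.span (t : Set R)
  have hI : IsIdempotentElem I := le_antisymm Ideal.mul_le_right (Ideal.span_le.mpr fun d hd => by
    refine (Ideal.span_singleton_le_iff_mem _).mpr ?_ (hD d (htD hd))
    rw [pow_two]
    exact Ideal.mul_mem_mul (Ideal.subset_span hd) (Ideal.subset_span hd))
  obtain ⟨e, he, heI⟩ := (Ideal.isIdempotentElem_iff_of_fg I ⟨t, rfl⟩).mp hI
  refine Ideal.span_mono htD (show x ∈ I from ?_)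
  have hxn : x ^ n ∈ I := htx
  rw [show I = Ideal.span {e} from heI, Ideal.mem_span_singleton] at hxn ⊢
  obtain ⟨c, hc⟩ := hxn
  have : IsNilpotent (x * (1 - e)) := ⟨n + 1, by
    rw [mul_pow, he.one_sub.pow_succ_eq, pow_succ, hc]
    linear_combination -(c * x) * he.eq⟩
  exact ⟨x, by linear_combination this.eq_zero⟩

open TensorProduct in
/-- Let k ⊆ k' be fields with k' separable algebraic over k, and A a k'-algebra. Then A is geometrically
reduced over k (K ⊗_k A reduced for all field extensions K/k) if and only if A is geometrically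
reduced over k' (K ⊗_{k'} A reduced for all field extensions K/k'). Here the test fields K range
over field extensions (of k, respectively of k') in the common universe of k and k'; this is
equivalent to the unrestricted notions, since an algebraic closure of the base field suffices as a
test. -/
theorem result {k k' A : Type u} [Field k] [Field k'] [Algebra k k'] [Algebra.IsSeparable k k'] [CommRing A] [Algebra k' A] [Algebra k A] [IsScalarTower k k' A] :
    (∀ (K : Type u) [Field K] [Algebra k K], IsReduced (K ⊗[k] A)) ↔
      ∀ (K : Type u) [Field K] [Algebra k' K], IsReduced (K ⊗[k'] A) := by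
  constructor
  · intro h K _ _
    letI : Algebra k K := ((algebraMap k' K).comp (algebraMap k k')).toAlgebra
    haveI : IsScalarTower k k' K := IsScalarTower.of_algebraMap_eq fun _ => rfl
    haveI := h K
    let π : K ⊗[k] A →ₐ[K] K ⊗[k'] A := Algebra.TensorProduct.lift (Algebra.ofId K _)
      ((Algebra.TensorProduct.includeRight : A →ₐ[k'] K ⊗[k'] A).restrictScalars k) (fun _ _ => Commute.all _ _)
    let D : Set (K ⊗[k] A) := Set.range fun c : k' => algebraMap k' K c ⊗ₜ[k] (1 : A) - 1 ⊗ₜ[k] algebraMap k' A c
    have hD : ∀ d ∈ D, d ∈ Ideal.span {d ^ 2} := by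
      rintro _ ⟨c, rfl⟩
      refine sub_mem_span_sq ((minpoly k c).map (algebraMap k (K ⊗[k] A)))
        (Polynomial.Separable.map (Algebra.IsSeparable.isSeparable k c)) _ _ ?_ ?_
      · rw [Polynomial.eval_map, ← Polynomial.aeval_def, show algebraMap k' K c ⊗ₜ[k] (1 : A) =
          ((Algebra.TensorProduct.includeLeft : K →ₐ[k] K ⊗[k] A).comp (IsScalarTower.toAlgHom k k' K)) c from rfl,
          Polynomial.aeval_algHom_apply, minpoly.aeval, map_zero]
      · rw [Polynomial.eval_map, ← Polynomial.aeval_def, show (1 : K) ⊗ₜ[k] algebraMap k' A c =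
          ((Algebra.TensorProduct.includeRight : A →ₐ[k] K ⊗[k] A).comp (IsScalarTower.toAlgHom k k' A)) c from rfl,
          Polynomial.aeval_algHom_apply, minpoly.aeval, map_zero]
    haveI := isReduced_quotient D hD
    let J := Ideal.span D
    let right : A →ₐ[k'] (K ⊗[k] A) ⧸ J :=
      { ((Ideal.Quotient.mk J).comp Algebra.TensorProduct.includeRight.toRingHom) with
        commutes' := fun c => by
          show Ideal.Quotient.mk J (1 ⊗ₜ[k] algebraMap k' A c) = Ideal.Quotient.mk J (algebraMap k' (K ⊗[k] A) c)
          symm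
          rw [Ideal.Quotient.eq]
          exact Ideal.subset_span ⟨c, rfl⟩ }
    let g : K ⊗[k'] A →ₐ[K] (K ⊗[k] A) ⧸ J :=
      Algebra.TensorProduct.lift (Algebra.ofId K _) right (fun _ _ => Commute.all _ _)
    have hJ : J ≤ RingHom.ker π := by
      rw [Ideal.span_le]
      rintro _ ⟨c, rfl⟩
      show π _ = 0
      simp [π, sub_eq_zero, Algebra.TensorProduct.algebraMap_apply]
    let π' : (K ⊗[k] A) ⧸ J →+* K ⊗[k'] A := Ideal.Quotient.lift J π.toRingHom hJ
    have hπg : ∀ z, π' (g z) = z := by
      intro z
      induction z using TensorProduct.induction_on with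
      | zero => simp
      | add u v hu hv => rw [map_add, map_add, hu, hv]
      | tmul x a =>
        show π' (algebraMap K ((K ⊗[k] A) ⧸ J) x * Ideal.Quotient.mk J (1 ⊗ₜ[k] a)) = _
        rw [map_mul]
        show π (algebraMap K (K ⊗[k] A) x) * π (1 ⊗ₜ[k] a) = _
        simp [π, Algebra.TensorProduct.algebraMap_apply]
    exact isReduced_of_injective g.toRingHom (Function.LeftInverse.injective hπg)
  · intro h K _ _
    haveI : IsReduced (K ⊗[k] k') := Groth.Agent.CAlgH.isReduced_tensor_separable k k' K
    haveI : IsReduced (k' ⊗[k] K) :=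
      isReduced_of_injective (Algebra.TensorProduct.comm k k' K) (Algebra.TensorProduct.comm k k' K).injective
    haveI := Groth.Agent.FBaseLib.isReduced_tensor A (k' ⊗[k] K) h
    haveI : IsReduced (A ⊗[k'] (k' ⊗[k] K)) := isReduced_of_injective
      (Algebra.TensorProduct.comm k' A (k' ⊗[k] K)) (Algebra.TensorProduct.comm k' A (k' ⊗[k] K)).injective
    haveI : IsReduced (A ⊗[k] K) := isReduced_of_injective (Algebra.TensorProduct.cancelBaseChange k k' k' A K).symm
      (Algebra.TensorProduct.cancelBaseChange k k' k' A K).symm.injective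
    exact isReduced_of_injective (Algebra.TensorProduct.comm k K A) (Algebra.TensorProduct.comm k K A).injective

end Groth.Agent.S9635
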