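import Groth.Statements.S9636
import Groth.Agent.CAlgH.RegularSepExt

set_option autoImplicit false
universe u
open CAlg

namespace Groth.Agent.S9636

open TensorProduct in
/-- Let k'/k be a separable algebraic field extension. Then for some multiplicative subset S of k' ⊗_k
k' the multiplication map k' ⊗_k k' → k' is a localization at S: there is a ring isomorphism S⁻¹(k'
⊗_k k') ≅ k' carrying the localization map to the multiplication map. -/
theorem result {k k' : Type u} [Field k] [Field k'] [Algebra k k'] [Algebra.IsSeparable k k'] :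
    ∃ (S : Submonoid (k' ⊗[k] k')) (e : Localization S ≃+* k'), ∀ x : k' ⊗[k] k', e (algebraMap (k' ⊗[k] k') (Localization S) x) = Algebra.TensorProduct.lmul' (S := k') k x := by
  haveI : IsReduced (k' ⊗[k] k') := Groth.Agent.CAlgH.isReduced_tensor_separable k k' k'
  let μ := (Algebra.TensorProduct.lmul' (S := k') k).toRingHom
  have hμ : Function.Surjective μ := fun x => ⟨x ⊗ₜ[k] 1, by simp [μ]⟩
  haveI hmax : (RingHom.ker μ).IsMaximal := RingHom.ker_isMaximal_of_surjective μ hμ
  haveI : Algebra.IsIntegral k' (k' ⊗[k] k') := Algebra.IsIntegral.tensorProduct k k' k'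
  haveI : Ring.KrullDimLE 0 (k' ⊗[k] k') := by
    rw [Ring.krullDimLE_zero_iff]
    intro P hP
    exact Ideal.isMaximal_of_isIntegral_of_isMaximal_comap (R := k') P
      (by haveI : (P.comap (algebraMap k' (k' ⊗[k] k'))).IsPrime := inferInstance; infer_instance)
  let S := (RingHom.ker μ).primeCompl
  haveI : IsReduced (Localization S) := inferInstance
  haveI : IsLocalRing (Localization S) := IsLocalization.AtPrime.isLocalRing _ (RingHom.ker μ)
  haveI : Ring.KrullDimLE 0 (Localization S) := Ring.KrullDimLE.of_isLocalization (RingHom.ker μ) (Ideal.mem_minimalPrimes_iff_isPrime.2 hmax.isPrime) _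
  have hF : IsField (Localization S) := Ring.KrullDimLE.isField_of_isReduced
  letI := hF.toField
  let f : Localization S →+* k' := IsLocalization.lift (M := S) (g := μ) fun y => isUnit_iff_ne_zero.2 y.2
  refine ⟨S, RingEquiv.ofBijective f ⟨f.injective, fun x => ?_⟩, fun x => IsLocalization.lift_eq _ x⟩
  exact ⟨algebraMap (k' ⊗[k] k') _ (x ⊗ₜ[k] (1 : k')), by rw [IsLocalization.lift_eq]; simp [μ]⟩

end Groth.Agent.S9636
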