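import Groth.Statements.S9637
import Mathlib.RingTheory.Ideal.AssociatedPrime.Finiteness

set_option autoImplicit false
universe u
open CAlg

namespace Groth.Agent.S9637

/-- Let R be a local Noetherian ring, I an ideal contained in its maximal ideal, and M a finite
R-module. Then I contains an M-regular element (one acting injectively on M) if and only if no
associated prime of M contains I. -/
theorem result {R : Type u} [CommRing R] [IsNoetherianRing R] [IsLocalRing R] (I : Ideal R) (hI : I ≤ IsLocalRing.maximalIdeal R) (M : Type u) [AddCommGroup M] [Module R M] [Module.Finite R M] :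
    (∃ x ∈ I, IsSMulRegular M x) ↔ ∀ q ∈ associatedPrimes R M, ¬ I ≤ q := by
  constructor
  · rintro ⟨x, hx, hreg⟩ q hq hle
    have : x ∈ {r : R | ∃ m : M, m ≠ 0 ∧ r • m = 0} := by
      rw [← biUnion_associatedPrimes_eq_zero_divisors]
      exact Set.mem_biUnion hq (hle hx)
    obtain ⟨m, hm, hm'⟩ := this
    exact hm (hreg (by simpa using hm'))
  · intro h
    by_contra! hc
    have hh : (I : Set R) ⊆ ⋃ q ∈ (↑(associatedPrimes.finite R M).toFinset : Set (Ideal R)), ((id q : Ideal R) : Set R) := by
      rw [Set.Finite.coe_toFinset]
      simp only [id_eq]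
      rw [biUnion_associatedPrimes_eq_zero_divisors]
      intro x hx
      by_contra hh
      simp only [Set.mem_setOf_eq, not_exists, not_and] at hh
      refine hc x hx fun a b hab => sub_eq_zero.1 ?_
      simp only at hab
      by_contra hne
      exact hh (a - b) hne (by rw [smul_sub, hab, sub_self])
    obtain ⟨q, hq, hIq⟩ := (Ideal.subset_union_prime ⊤ ⊤ (fun i hi _ _ => ((associatedPrimes.finite R M).mem_toFinset.1 hi).1)).1 hh
    exact h q ((associatedPrimes.finite R M).mem_toFinset.1 hq) hIq

end Groth.Agent.S9637
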