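import Groth.Statements.S9641
import Mathlib.LinearAlgebra.TensorProduct.Finiteness
import Mathlib.RingTheory.Flat.Basic
import Mathlib.LinearAlgebra.Basis.VectorSpace

set_option autoImplicit false
universe u
open CAlg

namespace Groth.Agent.S9641

open TensorProduct in
/-- Let k be a field and R, S two k-algebras. If R ⊗_k S is not reduced then there are finitely
generated k-subalgebras R' ⊆ R and S' ⊆ S such that R' ⊗_k S' is not reduced. -/
theorem result {k R S : Type u} [Field k] [CommRing R] [CommRing S] [Algebra k R] [Algebra k S] (h : ¬ IsReduced (R ⊗[k] S)) :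
    ∃ (R' : Subalgebra k R) (S' : Subalgebra k S), R'.FG ∧ S'.FG ∧ ¬ IsReduced (R' ⊗[k] S') := by
  classical
  obtain ⟨x, hx, hx0⟩ : ∃ x : R ⊗[k] S, IsNilpotent x ∧ x ≠ 0 := by
    by_contra! hc
    exact h ⟨hc⟩
  obtain ⟨T, hT⟩ := TensorProduct.exists_finset x
  have hmem1 : ∀ i : T, i.1.1 ∈ Algebra.adjoin k (↑(T.image Prod.fst) : Set R) :=
    fun i => Algebra.subset_adjoin (Finset.mem_coe.2 (Finset.mem_image_of_mem Prod.fst i.2))
  have hmem2 : ∀ i : T, i.1.2 ∈ Algebra.adjoin k (↑(T.image Prod.snd) : Set S) :=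
    fun i => Algebra.subset_adjoin (Finset.mem_coe.2 (Finset.mem_image_of_mem Prod.snd i.2))
  refine ⟨Algebra.adjoin k (↑(T.image Prod.fst) : Set R), Algebra.adjoin k (↑(T.image Prod.snd) : Set S),
    Subalgebra.fg_adjoin_finset _, Subalgebra.fg_adjoin_finset _, fun hred => hx0 ?_⟩
  let φ := Algebra.TensorProduct.map (Algebra.adjoin k (↑(T.image Prod.fst) : Set R)).val (Algebra.adjoin k (↑(T.image Prod.snd) : Set S)).val
  have hinj : Function.Injective φ := by
    change Function.Injective (TensorProduct.map (Algebra.adjoin k (↑(T.image Prod.fst) : Set R)).val.toLinearMap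
      (Algebra.adjoin k (↑(T.image Prod.snd) : Set S)).val.toLinearMap)
    rw [← LinearMap.rTensor_comp_lTensor]
    exact (Module.Flat.rTensor_preserves_injective_linearMap _ Subtype.val_injective).comp
      (Module.Flat.lTensor_preserves_injective_linearMap _ Subtype.val_injective)
  obtain ⟨y, hy⟩ : ∃ y, φ y = x := by
    refine ⟨∑ i : T, (⟨i.1.1, hmem1 i⟩ : Algebra.adjoin k (↑(T.image Prod.fst) : Set R)) ⊗ₜ[k]
      (⟨i.1.2, hmem2 i⟩ : Algebra.adjoin k (↑(T.image Prod.snd) : Set S)), ?_⟩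
    rw [map_sum, hT]
    exact Finset.sum_coe_sort T (fun i => i.1 ⊗ₜ[k] i.2)
  subst hy
  obtain ⟨n, hn⟩ := hx
  have hy0 : y = 0 := hred.eq_zero y ⟨n, hinj (by rw [map_pow, hn, map_zero])⟩
  rw [hy0, map_zero]

end Groth.Agent.S9641
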