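import Groth.Statements.S9642
import Mathlib

set_option autoImplicit false
universe u
open CAlg

namespace Groth.Agent.S9642

/-- In the general form stated there: let R → S be a ring map inducing an open map Spec(S) → Spec(R),
with Spec(R) irreducible, such that for a dense set of primes p of R the fibre ring κ(p) ⊗_R S has
irreducible spectrum. Then Spec(S) is irreducible. The flat and finitely presented case is the
special case in which the map on spectra is open by fppf-openness. -/
theorem result {R S : Type u} [CommRing R] [CommRing S] [Algebra R S]
    (hopen : IsOpenMap (PrimeSpectrum.comap (algebraMap R S))) [IrreducibleSpace (PrimeSpectrum R)]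
    (D : Set (PrimeSpectrum R)) (hD : Dense D) (hfib : ∀ p ∈ D, IrreducibleSpace (PrimeSpectrum (p.asIdeal.Fiber S))) :
    IrreducibleSpace (PrimeSpectrum S) := by
  have hne : Nonempty (PrimeSpectrum S) := by
    obtain ⟨p, hp⟩ := hD.nonempty
    obtain ⟨Q⟩ := (hfib p hp).toNonempty
    exact ⟨((PrimeSpectrum.preimageHomeomorphFiber R S p).symm Q).1⟩
  have hpre : IsPreirreducible (PrimeSpectrum.comap (algebraMap R S) ⁻¹' Set.univ) := by
    refine (PreirreducibleSpace.isPreirreducible_univ).preimage_of_dense_isPreirreducible_fiber _ hopen ?_
    rw [Set.univ_inter]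
    intro p _
    refine closure_mono (fun q hq => ?_) (hD p)
    have h1 := hfib q hq
    have h2 : PreirreducibleSpace ↥(PrimeSpectrum.comap (algebraMap R S) ⁻¹' {q}) :=
      (PrimeSpectrum.preimageHomeomorphFiber R S q).symm.surjective.preirreducibleSpace
        (PrimeSpectrum.preimageHomeomorphFiber R S q).symm.continuous
    exact isPreirreducible_iff_preirreducibleSpace.2 h2
  exact { isPreirreducible_univ := by simpa using hpre, toNonempty := hne }

end Groth.Agent.S9642
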