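import Groth.Statements.S9643
import Mathlib.RingTheory.Support

set_option autoImplicit false
universe u
open CAlg

namespace Groth.Agent.S9643

/-- Let R be a Noetherian ring, M a finite R-module and 0 = M_0 ⊆ M_1 ⊆ ⋯ ⊆ M_n = M a chain of
submodules whose successive quotients M_i/M_{i-1} are isomorphic to R/p_i for prime ideals p_i. Then
the primes minimal among p_1, …, p_n are exactly the primes minimal in the support of M. -/
theorem result {R : Type u} [CommRing R] [IsNoetherianRing R] (M : Type u) [AddCommGroup M] [Module R M] [Module.Finite R M]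
    {n : ℕ} (N : Fin (n + 1) → Submodule R M) (hN : Monotone N) (h0 : N 0 = ⊥) (hlast : N (Fin.last n) = ⊤)
    (p : Fin n → PrimeSpectrum R)
    (hquot : ∀ i : Fin n, Nonempty ((↥(N i.succ) ⧸ Submodule.comap (N i.succ).subtype (N i.castSucc)) ≃ₗ[R] (R ⧸ (p i).asIdeal))) :
    {q : PrimeSpectrum R | Minimal (fun x => x ∈ Set.range p) q} = {q : PrimeSpectrum R | Minimal (fun x => x ∈ Module.support R M) q} := by
  have hs : ∀ i : Fin (n + 1), Module.support R (N i) =
      {q : PrimeSpectrum R | ∃ j : Fin n, (j : ℕ) < (i : ℕ) ∧ (p j).asIdeal ≤ q.asIdeal} := by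
    intro i
    induction i using Fin.induction with
    | zero =>
      have : Subsingleton (N 0) := by rw [h0]; infer_instance
      rw [Module.support_eq_empty_iff.2 this]
      ext q; simp
    | succ i ih =>
      obtain ⟨e⟩ := hquot i
      have hle : N i.castSucc ≤ N i.succ := hN i.castSucc_le_succ
      have hex : Function.Exact (Submodule.inclusion hle) (Submodule.comap (N i.succ).subtype (N i.castSucc)).mkQ := by
        rw [LinearMap.exact_iff, Submodule.ker_mkQ, Submodule.range_inclusion]
      rw [Module.support_of_exact hex (Submodule.inclusion_injective hle) (Submodule.mkQ_surjective _), ih, e.support_eq,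
        Module.support_eq_zeroLocus, Ideal.annihilator_quotient]
      ext q
      simp only [Set.mem_union, Set.mem_ofPred_eq, PrimeSpectrum.mem_zeroLocus, SetLike.coe_subset_coe, Fin.val_succ, Fin.val_castSucc]
      constructor
      · rintro (⟨j, hj, hq⟩ | hq)
        · exact ⟨j, by omega, hq⟩
        · exact ⟨i, by omega, hq⟩
      · rintro ⟨j, hj, hq⟩
        by_cases hji : (j : ℕ) < i
        · exact Or.inl ⟨j, hji, hq⟩
        · have : j = i := Fin.ext (by omega)
          subst this; exact Or.inr hq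
  have hsupp : ∀ q : PrimeSpectrum R, q ∈ Module.support R M ↔ ∃ j, p j ≤ q := by
    intro q
    have hM : Module.support R M = Module.support R (N (Fin.last n)) :=
      ((LinearEquiv.ofTop _ hlast).support_eq).symm
    rw [hM, hs]
    constructor
    · rintro ⟨j, -, hq⟩; exact ⟨j, hq⟩
    · rintro ⟨j, hq⟩; exact ⟨j, j.isLt, hq⟩
  ext q
  constructor
  · rintro ⟨⟨j, rfl⟩, hmin⟩
    refine ⟨(hsupp _).2 ⟨j, le_rfl⟩, fun y hy hle => ?_⟩
    obtain ⟨l, hl⟩ := (hsupp y).1 hy
    exact (hmin ⟨l, rfl⟩ (hl.trans hle)).trans hl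
  · rintro ⟨hq, hmin⟩
    obtain ⟨j, hj⟩ := (hsupp q).1 hq
    have : p j = q := le_antisymm hj (hmin ((hsupp _).2 ⟨j, le_rfl⟩) hj)
    subst this
    exact ⟨⟨j, rfl⟩, fun y ⟨l, hl⟩ hle => hmin ((hsupp y).2 ⟨l, hl.le⟩) hle⟩

end Groth.Agent.S9643
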