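import Groth.Statements.S9644
import Mathlib.RingTheory.Ideal.AssociatedPrime.Localization

set_option autoImplicit false
universe u
open CAlg

namespace Groth.Agent.S9644

/-- Let R be a Noetherian ring and M a finite R-module. Among the submodules K' of M whose support is
nowhere dense inside Supp(M) there is a largest one, K. The quotient M' = M/K then satisfies
Supp(M') = Supp(M), its associated primes are pairwise incomparable (no embedded ones), and whenever
f ∈ R belongs to every embedded associated prime of M the localized map M_f → M'_f is bijective. -/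
theorem result {R : Type u} [CommRing R] [IsNoetherianRing R] (M : Type u) [AddCommGroup M] [Module R M] [Module.Finite R M] :
    ∃ K : Submodule R M,
      IsGreatest {K' : Submodule R M | ∀ U : Set (PrimeSpectrum R), IsOpen U → U ∩ Module.support R M ⊆ closure (Module.support R ↥K') → U ∩ Module.support R M = ∅} K ∧
      Module.support R (M ⧸ K) = Module.support R M ∧
      (∀ p ∈ associatedPrimes R (M ⧸ K), ∀ q ∈ associatedPrimes R (M ⧸ K), p ≤ q → p = q) ∧
      ∀ f : R, (∀ p ∈ associatedPrimes R M, ¬ Minimal (fun x => x ∈ associatedPrimes R M) p → f ∈ p) →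
        Function.Bijective (LocalizedModule.map (Submonoid.powers f) K.mkQ) := by
  classical
  let P := (Module.annihilator R M).minimalPrimes
  have hPfin : P.Finite := (Module.annihilator R M).finite_minimalPrimes_of_isNoetherianRing R
  let K : Submodule R M :=
    { carrier := {m | ∀ p ∈ P, ∃ s ∉ p, s • m = 0}
      add_mem' := fun {a b} ha hb p hp => by
        obtain ⟨s, hs, hsa⟩ := ha p hp
        obtain ⟨t, ht, htb⟩ := hb p hp
        refine ⟨s * t, fun h => (hp.1.1.mem_or_mem h).elim hs ht, ?_⟩
        rw [smul_add, mul_smul, mul_smul, htb, smul_zero, add_zero, smul_comm, hsa, smul_zero]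
      zero_mem' := fun p hp => ⟨1, fun h => hp.1.1.ne_top ((Ideal.eq_top_iff_one p).2 h), smul_zero _⟩
      smul_mem' := fun r m hm p hp => by
        obtain ⟨s, hs, hsm⟩ := hm p hp
        exact ⟨s, hs, by rw [smul_comm, hsm, smul_zero]⟩ }
  have hsuppM : ∀ q : PrimeSpectrum R, q ∈ Module.support R M ↔ Module.annihilator R M ≤ q.asIdeal := fun q => by
    rw [Module.mem_support_iff_of_finite]
  have hKsupp : ∀ (K' : Submodule R M) (p : Ideal R) [p.IsPrime],
      (⟨p, inferInstance⟩ : PrimeSpectrum R) ∉ Module.support R ↥K' ↔ ∀ m ∈ K', ∃ s ∉ p, s • m = 0 := by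
    intro K' p _
    rw [Module.notMem_support_iff']
    constructor
    · intro h m hm
      obtain ⟨s, hs, hsm⟩ := h ⟨m, hm⟩
      exact ⟨s, hs, congrArg Subtype.val hsm⟩
    · intro h m
      obtain ⟨s, hs, hsm⟩ := h m.1 m.2
      exact ⟨s, hs, Subtype.ext hsm⟩
  have hset : ∀ K' : Submodule R M, K' ≤ K ↔
      ∀ U : Set (PrimeSpectrum R), IsOpen U → U ∩ Module.support R M ⊆ closure (Module.support R ↥K') → U ∩ Module.support R M = ∅ := by
    intro K'
    have hclosed : IsClosed (Module.support R ↥K') := by
      rw [Module.support_eq_zeroLocus]; exact PrimeSpectrum.isClosed_zeroLocus _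
    rw [hclosed.closure_eq]
    constructor
    · intro hle U hU hsub
      rw [Set.eq_empty_iff_forall_notMem]
      rintro q ⟨hqU, hq⟩
      obtain ⟨p, hp, hpq⟩ := Ideal.exists_minimalPrimes_le ((hsuppM q).1 hq)
      have := hp.1.1
      refine (hKsupp K' p).2 (fun m hm => hle hm p hp) (hsub ⟨?_, (hsuppM _).2 hp.1.2⟩)
      exact ((PrimeSpectrum.le_iff_specializes ⟨p, this⟩ q).1 hpq).mem_open hU hqU
    · intro h m hm p hp
      have := hp.1.1
      refine (hKsupp K' p).1 (fun hps => ?_) m hm
      let U : Set (PrimeSpectrum R) := (⋃ q ∈ P \ {p}, PrimeSpectrum.zeroLocus (q : Set R))ᶜ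
      have hU : IsOpen U := ((hPfin.subset Set.sdiff_subset).isClosed_biUnion fun q _ => PrimeSpectrum.isClosed_zeroLocus _).isOpen_compl
      have hpU : (⟨p, this⟩ : PrimeSpectrum R) ∈ U := by
        simp only [U, Set.mem_compl_iff, Set.mem_iUnion, not_exists]
        rintro q ⟨hq, hne⟩ hqp
        exact hne (le_antisymm hqp (hp.2 hq.1 hqp))
      have hsub : U ∩ Module.support R M ⊆ Module.support R ↥K' := by
        rintro q ⟨hqU, hq⟩
        obtain ⟨p', hp', hp'q⟩ := Ideal.exists_minimalPrimes_le ((hsuppM q).1 hq)
        have hpp : p' = p := by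
          by_contra hne
          exact hqU (Set.mem_biUnion (x := p') ⟨hp', hne⟩ hp'q)
        subst hpp
        exact Module.mem_support_mono (p := ⟨p', this⟩) hp'q hps
      exact (Set.eq_empty_iff_forall_notMem.1 (h U hU hsub)) _ ⟨hpU, (hsuppM _).2 hp.1.2⟩
  have hmin : ∀ p, p ∈ P → p ∈ associatedPrimes R M :=
    fun p hp => Module.associatedPrimes.minimalPrimes_annihilator_subset_associatedPrimes R M hp
  refine ⟨K, ⟨(hset K).1 le_rfl, fun K' hK' => (hset K').2 hK'⟩, ?_, ?_, ?_⟩
  · refine subset_antisymm (Module.support_subset_of_surjective K.mkQ K.mkQ_surjective) fun q hq => ?_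
    obtain ⟨p, hp, hpq⟩ := Ideal.exists_minimalPrimes_le ((hsuppM q).1 hq)
    have := hp.1.1
    refine Module.mem_support_mono (p := ⟨p, this⟩) hpq ?_
    obtain ⟨-, m, hm⟩ := isAssociatedPrime_iff.1 (hmin p hp)
    rw [Module.mem_support_iff']
    refine ⟨Submodule.Quotient.mk m, fun s hs h => ?_⟩
    rw [← Submodule.Quotient.mk_smul, Submodule.Quotient.mk_eq_zero] at h
    obtain ⟨t, ht, htm⟩ := h p hp
    rw [← mul_smul, ← Submodule.mem_bot R, ← Submodule.mem_colon_singleton, ← hm] at htm
    exact (this.mem_or_mem htm).elim ht hs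
  · have hK : ∀ a ∈ associatedPrimes R (M ⧸ K), a ∈ P := by
      intro a ha
      have hap := ha.isPrime
      obtain ⟨-, x, hx⟩ := isAssociatedPrime_iff.1 ha
      obtain ⟨m, rfl⟩ := Submodule.Quotient.mk_surjective K x
      have hmK : m ∉ K := fun h => hap.ne_top ((Ideal.eq_top_iff_one a).2 (by
        rw [hx, Submodule.mem_colon_singleton, Submodule.mem_bot, one_smul, Submodule.Quotient.mk_eq_zero]; exact h))
      have hann : Module.annihilator R M ≤ a := fun r hr => by
        rw [hx, Submodule.mem_colon_singleton, Submodule.mem_bot, ← Submodule.Quotient.mk_smul,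
          Module.mem_annihilator.1 hr m]
        rfl
      obtain ⟨p, hp, hno⟩ : ∃ p ∈ P, ∀ s ∉ p, s • m ≠ 0 := by
        by_contra hh
        push Not at hh
        exact hmK hh
      have hap' : a ≤ p := fun r hr => by
        by_contra hrp
        rw [hx, Submodule.mem_colon_singleton, Submodule.mem_bot, ← Submodule.Quotient.mk_smul, Submodule.Quotient.mk_eq_zero] at hr
        obtain ⟨t, ht, htm⟩ := hr p hp
        rw [← mul_smul] at htm
        exact hno _ (fun h => (hp.1.1.mem_or_mem h).elim ht hrp) htm
      exact (le_antisymm hap' (hp.2 ⟨hap, hann⟩ hap') : a = p) ▸ hp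
    intro a ha b hb hab
    exact le_antisymm hab ((hK b hb).2 (hK a ha).1 hab)
  · intro f hf
    have hfK : ∀ m ∈ K, ∃ n : ℕ, f ^ n • m = 0 := by
      intro m hm
      have hrad : f ∈ ((⊥ : Submodule R M).colon {m}).radical := by
        rw [Ideal.radical_eq_sInf, Submodule.mem_sInf]
        rintro J ⟨hJ, hJp⟩
        obtain ⟨q, hq, hqJ⟩ := Ideal.exists_minimalPrimes_le hJ
        have hql : ∀ r : R, r • m = 0 → r ∈ q := fun r hr => hq.1.2 (by rw [Submodule.mem_colon_singleton, hr]; exact zero_mem _)
        have hqa : q ∈ associatedPrimes R ↥(Submodule.span R {m}) := by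
          refine Module.associatedPrimes.minimalPrimes_annihilator_subset_associatedPrimes R _ ?_
          rwa [show Module.annihilator R ↥(Submodule.span R {m}) = (⊥ : Submodule R M).colon {m} by
            rw [← Submodule.annihilator, Submodule.annihilator_span_singleton]
            ext r
            simp [LinearMap.mem_ker, Submodule.mem_colon_singleton]]
        have hqM : q ∈ associatedPrimes R M :=
          associatedPrimes.subset_of_injective (Submodule.injective_subtype _) hqa
        refine hqJ (hf q hqM fun hmin' => ?_)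
        have hqP : q ∈ P := by
          have := hqM.isPrime
          obtain ⟨p, hp, hpq⟩ := Ideal.exists_minimalPrimes_le (I := Module.annihilator R M) (J := q)
            (Submodule.annihilator_top (R := R) (M := M) ▸ hqM.annihilator_le)
          rwa [le_antisymm (hmin'.2 (hmin p hp) hpq) hpq]
        obtain ⟨s, hs, hsm⟩ := hm q hqP
        exact hs (hql s hsm)
      obtain ⟨n, hn⟩ := hrad
      exact ⟨n, by rwa [Submodule.mem_colon_singleton, Submodule.mem_bot] at hn⟩
    refine ⟨(injective_iff_map_eq_zero _).2 fun x hx => ?_, LocalizedModule.map_surjective _ _ K.mkQ_surjective⟩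
    induction x using LocalizedModule.induction_on with
    | h m s =>
      rw [LocalizedModule.map_mk, ← LocalizedModule.zero_mk s, LocalizedModule.mk_eq] at hx
      obtain ⟨u, hu⟩ := hx
      have hmK : (u * s : Submonoid.powers f) • m ∈ K := by
        rw [← Submodule.Quotient.mk_eq_zero, ← Submodule.mkQ_apply]
        rw [Submonoid.smul_def, map_smul]
        simpa [Submonoid.smul_def, mul_smul] using hu
      obtain ⟨n, hn⟩ := hfK _ hmK
      rw [← LocalizedModule.zero_mk s, LocalizedModule.mk_eq]
      refine ⟨⟨f ^ n, n, rfl⟩ * u, ?_⟩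
      simpa [Submonoid.smul_def, mul_smul] using hn

end Groth.Agent.S9644
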