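import Groth.Statements.S9645
import Mathlib.RingTheory.Localization.Integral

set_option autoImplicit false
universe u
open CAlg

namespace Groth.Agent.S9645

/-- Integral closure commutes with localization. Let A → B be a ring map, S a multiplicative subset of
A, and A_S, B_S the localizations of A at S and of B at the image of S. Then an element x of B_S is
integral over A_S if and only if x·s = b for some s ∈ S and some b ∈ B integral over A (images taken
in B_S); that is, the integral closure of A_S in B_S is S⁻¹B' for B' the integral closure of A in B. -/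
theorem result {A B As Bs : Type u} [CommRing A] [CommRing B] [CommRing As] [CommRing Bs] [Algebra A B] [Algebra A As] [Algebra B Bs] [Algebra As Bs] [Algebra A Bs] [IsScalarTower A B Bs] [IsScalarTower A As Bs]
    (S : Submonoid A) [IsLocalization S As] [IsLocalization (Algebra.algebraMapSubmonoid B S) Bs] (x : Bs) :
    IsIntegral As x ↔ ∃ b : B, IsIntegral A b ∧ ∃ s ∈ S, x * algebraMap A Bs s = algebraMap B Bs b := by
  constructor
  · intro hx
    obtain ⟨⟨b, _, s, hs, rfl⟩, hb⟩ := IsLocalization.surj (Algebra.algebraMapSubmonoid B S) x
    simp only [← IsScalarTower.algebraMap_apply A B Bs] at hb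
    have h1 : IsIntegral As (algebraMap B Bs b) := by
      rw [← hb, IsScalarTower.algebraMap_apply A As Bs]
      exact hx.mul isIntegral_algebraMap
    obtain ⟨⟨m, hm⟩, h2⟩ := IsIntegral.exists_multiple_integral_of_isLocalization S (algebraMap B Bs b) h1
    rw [Submonoid.smul_def, Algebra.smul_def, IsScalarTower.algebraMap_apply A B Bs, ← map_mul] at h2
    obtain ⟨t, ht, h3⟩ := IsLocalization.exists_isIntegral_smul_of_isIntegral_map S h2
    refine ⟨_, h3, t * (m * s), S.mul_mem ht (S.mul_mem hm hs), ?_⟩
    rw [Algebra.smul_def, map_mul, map_mul, map_mul, map_mul, ← hb]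
    simp only [← IsScalarTower.algebraMap_apply A B Bs]
    ring
  · rintro ⟨b, hb, s, hs, h⟩
    obtain ⟨u, hu⟩ := isUnit_iff_exists_inv.1 (IsLocalization.map_units As ⟨s, hs⟩)
    have : x = algebraMap B Bs b * algebraMap As Bs u := by
      rw [← h, IsScalarTower.algebraMap_apply A As Bs, mul_assoc, ← map_mul]
      simp [hu]
    rw [this]
    exact ((hb.algebraMap).tower_top).mul isIntegral_algebraMap

end Groth.Agent.S9645
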