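import Groth.Statements.S9646
import Mathlib.RingTheory.Localization.Integral
import Mathlib.RingTheory.Ideal.Maximal

set_option autoImplicit false
universe u
open CAlg

namespace Groth.Agent.S9646

/-- (2) ⇒ (1): let R → S be a ring map and x ∈ S. If for every prime ideal p of R the image of x in S_p
(the localization of S at the image of R ∖ p) is integral over R_p, then x is integral over R. Here
R_p and S_p are any rings satisfying the localization universal properties. -/
theorem result {R S : Type u} [CommRing R] [CommRing S] [Algebra R S] (x : S)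
    (h : ∀ (p : Ideal R) [p.IsPrime] (Rp Sp : Type u) [CommRing Rp] [CommRing Sp] [Algebra R Rp] [Algebra S Sp] [Algebra Rp Sp] [Algebra R Sp] [IsScalarTower R S Sp] [IsScalarTower R Rp Sp] [IsLocalization.AtPrime Rp p] [IsLocalization (Algebra.algebraMapSubmonoid S p.primeCompl) Sp], IsIntegral Rp (algebraMap S Sp x)) :
    IsIntegral R x := by
  let J : Ideal R := (Subalgebra.toSubmodule (integralClosure R S)).comap (LinearMap.toSpanSingleton R S x)
  suffices J = ⊤ by
    have h1 : (1 : R) ∈ J := this ▸ Submodule.mem_top
    simpa [J, mem_integralClosure_iff] using h1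
  by_contra hne
  obtain ⟨p, hp, hle⟩ := Ideal.exists_le_maximal J hne
  have := hp.isPrime
  let Rp := Localization.AtPrime p
  let Sp := Localization (Algebra.algebraMapSubmonoid S p.primeCompl)
  letI : Algebra Rp Sp := localizationAlgebra p.primeCompl S
  have : IsScalarTower R Rp Sp := IsScalarTower.of_algebraMap_eq fun r => by
    rw [RingHom.algebraMap_toAlgebra, IsLocalization.map_eq, ← IsScalarTower.algebraMap_apply]
  have hx := h p Rp Sp
  obtain ⟨⟨m, hm⟩, h1⟩ := IsIntegral.exists_multiple_integral_of_isLocalization p.primeCompl (algebraMap S Sp x) hx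
  rw [Submonoid.smul_def, Algebra.smul_def, IsScalarTower.algebraMap_apply R S Sp, ← map_mul] at h1
  obtain ⟨t, ht, h2⟩ := IsLocalization.exists_isIntegral_smul_of_isIntegral_map p.primeCompl h1
  exact p.primeCompl.mul_mem ht hm (hle (show t * m ∈ J by simpa [J, mem_integralClosure_iff, Algebra.smul_def, mul_assoc] using h2))

end Groth.Agent.S9646
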