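import Groth.Statements.S9648
import Groth.Agent.CAlgH3.FiberMod

set_option autoImplicit false
universe u
open CAlg

namespace Groth.Agent.S9648

open TensorProduct in
/-- The inclusion, valid for any ring R: let R → S be a ring map, M an R-module and N an S-module which
is flat over R. For an associated prime p of M (a prime equal to the annihilator of an element) and
an associated prime Q of the fibre module N ⊗_R κ(p) over the fibre ring S ⊗_R κ(p), the inverse
image of Q in S is an associated prime of N ⊗_R M. -/
theorem result {R S : Type u} [CommRing R] [CommRing S] [Algebra R S] (M : Type u) [AddCommGroup M] [Module R M] (N : Type u) [AddCommGroup N] [Module S N] [Module R N] [IsScalarTower R S N] [Module.Flat R N]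
    (p : Ideal R) [p.IsPrime] (hp : p ∈ FlatCA.ass R M) (Q : Ideal (p.Fiber S)) (hQ : Q ∈ FlatCA.ass (p.Fiber S) (FlatCA.fiberMod p S N)) :
    Q.comap (Algebra.TensorProduct.includeRight (R := R) (A := p.ResidueField) (B := S)).toRingHom ∈ FlatCA.ass S (N ⊗[R] M) := by
  classical
  haveI := hQ.1
  let q := Q.comap (Algebra.TensorProduct.includeRight (R := R) (A := p.ResidueField) (B := S)).toRingHom
  have hq : q.comap (algebraMap R S) = p := by
    ext r
    show (1 : p.ResidueField) ⊗ₜ[R] algebraMap R S r ∈ Q ↔ r ∈ p
    rw [Algebra.algebraMap_eq_smul_one, ← TensorProduct.smul_tmul, ← Algebra.algebraMap_eq_smul_one]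
    constructor
    · intro h
      by_contra hr
      refine hQ.1.ne_top (Ideal.eq_top_of_isUnit_mem _ h ?_)
      exact (isUnit_iff_ne_zero.2 (by rwa [Ne, Ideal.algebraMap_residueField_eq_zero])).map
        (Algebra.TensorProduct.includeLeftRingHom : p.ResidueField →+* p.ResidueField ⊗[R] S)
    · intro hr
      rw [Ideal.algebraMap_residueField_eq_zero.2 hr, TensorProduct.zero_tmul]
      exact zero_mem _
  have h1 : q ∈ FlatCA.ass S (FlatCA.fiberMod p S N) := (Groth.Agent.CAlgH3.FiberMod.ass_fiber_iff p q hq).2 ⟨Q, hQ, rfl⟩
  rw [← (Groth.Agent.CAlgH3.FiberMod.ass_quotient_eq p).1] at h1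
  exact Groth.Agent.CAlgH3.FiberMod.ass_tensor_of_fiber p hp q h1

end Groth.Agent.S9648
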