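import Groth.Statements.S9649
import Groth.Agent.CAlgH3.SepGenPow

set_option autoImplicit false
universe u
open CAlg

namespace Groth.Agent.S9649

/-- A separably generated field extension is separable. Precisely: let K/k be a field extension
admitting a transcendence basis x over whose generated subfield k(x) the field K is separable
algebraic; then every finitely generated subextension K' of K/k also admits such a transcendence
basis. -/
theorem result {k K : Type u} [Field k] [Field K] [Algebra k K]
    (h : ∃ (ι : Type u) (x : ι → K), IsTranscendenceBasis k x ∧ Algebra.IsSeparable (IntermediateField.adjoin k (Set.range x)) K)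
    (K' : IntermediateField k K) (hK' : ∃ s : Finset K, IntermediateField.adjoin k (s : Set K) = K') :
    ∃ (ι : Type u) (x : ι → K'), IsTranscendenceBasis k x ∧ Algebra.IsSeparable (IntermediateField.adjoin k (Set.range x)) K' := by
    classical
    obtain ⟨ι, x, hx, hsep⟩ := h
    obtain ⟨s₀, hs₀⟩ := hK'
    have : Algebra.EssFiniteType k K' := IntermediateField.essFiniteType_iff.mpr ⟨s₀, hs₀⟩
    suffices ∃ s : Finset K', IsTranscendenceBasis k ((↑) : s → K') ∧
        Algebra.IsSeparable (IntermediateField.adjoin k (s : Set K')) K' by
      obtain ⟨s, hs, hsep'⟩ := this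
      refine ⟨s, Subtype.val, hs, ?_⟩
      convert! hsep' <;> simp
    obtain _ | ⟨p, hp, hpk⟩ := CharP.exists' k
    · exact exists_isTranscendenceBasis_and_isSeparable_of_perfectField k K'
    have : ExpChar k p := .prime hp.out
    refine exists_isTranscendenceBasis_and_isSeparable_of_linearIndepOn_pow_of_essFiniteType p hp.out fun s hs => ?_
    have hK := Groth.Agent.CAlgH3.powIndep_of_separablyGenerated k p K hx
    have hli : LinearIndependent k (fun i : (s : Set K') => ((i : K') : K)) :=
      hs.map' K'.val.toLinearMap (LinearMap.ker_eq_bot_of_injective K'.val.injective)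
    rw [LinearIndepOn, Fintype.linearIndependent_iff]
    intro c hc i
    refine congrFun (hK (s : Set K') PUnit.{u + 1} (fun i _ => ((i : K') : K))
      (fun d hd => funext (Fintype.linearIndependent_iff.1 hli d (hd PUnit.unit))) c fun _ => ?_) i
    simpa using congrArg K'.val hc

end Groth.Agent.S9649
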