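import Groth.Statements.S9651
import Mathlib
import Groth.Agent.EGA43.FlatDescent.GenFreeGeneral
-- import your own Groth.Agent.* helpers here

set_option autoImplicit false
universe u
open CAlg

namespace Groth.Agent.S9651

theorem exists_open_subset_range {A B : Type u} [CommRing A] [IsDomain A] [CommRing B] [IsDomain B]
    (φ : A →+* B) (hft : φ.FiniteType) (hinj : Function.Injective φ) :
    ∃ f : A, f ≠ 0 ∧ ∀ P : PrimeSpectrum A, f ∉ P.asIdeal → P ∈ Set.range (PrimeSpectrum.comap φ) := by
  algebraize [φ]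
  haveI : Algebra.FiniteType A B := hft
  obtain ⟨-, f, hf, -, -, -, -, -, -, -, -, -, hfree, -⟩ :=
    Groth.Agent.EGA43.FlatDescent.gFree_general (R := A) (S := B) (M := B)
  let Af := Localization.Away f
  let Bf := TensorProduct A Af B
  have hfB : φ f ≠ 0 := fun h => hf (hinj (h.trans (map_zero _).symm))
  haveI : Nontrivial Bf := by
    let L := Localization.Away (φ f)
    haveI : Nontrivial L :=
      (IsLocalization.injective L (powers_le_nonZeroDivisors_of_noZeroDivisors hfB)).nontrivial
    let a : Af →ₐ[A] L := IsLocalization.liftAlgHom (M := Submonoid.powers f)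
      (f := Algebra.ofId A L) fun ⟨y, n, hn⟩ => by
        subst hn
        simp only [map_pow]
        refine IsUnit.pow n ?_
        rw [Algebra.ofId_apply, IsScalarTower.algebraMap_apply A B L]
        exact IsLocalization.Away.algebraMap_isUnit (S := L) _
    exact (Algebra.TensorProduct.lift a (IsScalarTower.toAlgHom A B L)
      fun _ _ => Commute.all _ _).toRingHom.domain_nontrivial
  haveI : Module.Free Af Bf := hfree
  refine ⟨f, hf, fun P hP => ?_⟩
  obtain ⟨P', rfl⟩ : P ∈ Set.range (PrimeSpectrum.comap (algebraMap A Af)) := by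
    rw [PrimeSpectrum.localization_away_comap_range Af f]; exact hP
  obtain ⟨Z, rfl⟩ := PrimeSpectrum.comap_surjective_of_faithfullyFlat (A := Af) (B := Bf) P'
  refine ⟨PrimeSpectrum.comap (Algebra.TensorProduct.includeRight : B →ₐ[A] Bf).toRingHom Z, ?_⟩
  ext r
  show (Algebra.TensorProduct.includeRight : B →ₐ[A] Bf) (algebraMap A B r) ∈ Z.asIdeal ↔
    algebraMap Af Bf (algebraMap A Af r) ∈ Z.asIdeal
  rw [AlgHom.commutes, IsScalarTower.algebraMap_apply A Af Bf]

/-- Let R → S be a ring map of finite type, f : Spec(S) → Spec(R) the induced map and E ⊆ Spec(S) a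
constructible subset. If ξ ∈ f(E) then f(E) ∩ cl{ξ} contains an open dense subset of the closure
cl{ξ}: some open U of Spec(R) has U ∩ cl{ξ} dense in cl{ξ} and contained in f(E). -/
theorem result {R S : Type u} [CommRing R] [CommRing S] [Algebra R S] [Algebra.FiniteType R S]
    (E : Set (PrimeSpectrum S)) (hE : Topology.IsConstructible E) (ξ : PrimeSpectrum R) (hξ : ξ ∈ PrimeSpectrum.comap (algebraMap R S) '' E) :
    ∃ U : Set (PrimeSpectrum R), IsOpen U ∧ closure ({ξ} : Set (PrimeSpectrum R)) ⊆ closure (U ∩ closure {ξ}) ∧ U ∩ closure {ξ} ⊆ PrimeSpectrum.comap (algebraMap R S) '' E := by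
  classical
  obtain ⟨η, hη, rfl⟩ := hξ
  obtain ⟨C, rfl⟩ := PrimeSpectrum.exists_constructibleSetData_iff.mpr hE
  simp only [PrimeSpectrum.ConstructibleSetData.toSet, Set.mem_iUnion] at hη
  obtain ⟨c, hc, hηc⟩ := hη
  have hc1 : Set.range c.g ⊆ η.asIdeal := by simpa [PrimeSpectrum.mem_zeroLocus] using hηc.1
  have hc2 : c.f ∉ η.asIdeal := by
    intro h; exact hηc.2 (by simpa [PrimeSpectrum.mem_zeroLocus] using h)
  let p := η.asIdeal.comap (algebraMap R S)
  let Q := S ⧸ η.asIdeal
  let g : Q := Ideal.Quotient.mk _ c.f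
  have hg : g ≠ 0 := fun h => hc2 (Ideal.Quotient.eq_zero_iff_mem.1 h)
  let B := Localization.Away g
  haveI : IsDomain B := IsLocalization.isDomain_localization (powers_le_nonZeroDivisors_of_noZeroDivisors hg)
  let ψ : R ⧸ p →+* Q := Ideal.quotientMap η.asIdeal (algebraMap R S) le_rfl
  let φ : R ⧸ p →+* B := (algebraMap Q B).comp ψ
  have hφf : φ.FiniteType := by
    refine RingHom.FiniteType.of_comp_finiteType (f := Ideal.Quotient.mk p) ?_
    have : φ.comp (Ideal.Quotient.mk p) = algebraMap R B := RingHom.ext fun r => by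
      rw [IsScalarTower.algebraMap_apply R Q B]; rfl
    rw [this, RingHom.finiteType_algebraMap]
    exact Algebra.FiniteType.trans (S := Q) inferInstance inferInstance
  have hinj : Function.Injective φ :=
    (IsLocalization.injective B (powers_le_nonZeroDivisors_of_noZeroDivisors hg)).comp
      Ideal.quotientMap_injective
  obtain ⟨f, hf, hfim⟩ := exists_open_subset_range φ hφf hinj
  obtain ⟨f0, hf0⟩ := Ideal.Quotient.mk_surjective f
  refine ⟨(PrimeSpectrum.basicOpen f0 : Set (PrimeSpectrum R)), (PrimeSpectrum.basicOpen f0).2, ?_, ?_⟩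
  · refine closure_mono (Set.singleton_subset_iff.2 ⟨fun h => hf ?_, subset_closure rfl⟩)
    rw [← hf0]
    exact Ideal.Quotient.eq_zero_iff_mem.2 h
  · rintro P ⟨hP1, hP2⟩
    rw [PrimeSpectrum.closure_singleton, PrimeSpectrum.mem_zeroLocus, SetLike.coe_subset_coe] at hP2
    have hP1' : f0 ∉ P.asIdeal := hP1
    obtain ⟨P', hP'⟩ : P ∈ Set.range (PrimeSpectrum.comap (Ideal.Quotient.mk p)) := by
      rw [range_comap_of_surjective _ _ Ideal.Quotient.mk_surjective, Ideal.mk_ker,
        PrimeSpectrum.mem_zeroLocus]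
      exact hP2
    obtain ⟨z, hz⟩ := hfim P' fun h => by
      refine hP1' ?_
      rw [← hP']
      show Ideal.Quotient.mk p f0 ∈ P'.asIdeal
      rw [hf0]; exact h
    let w : PrimeSpectrum S := PrimeSpectrum.comap ((algebraMap Q B).comp (Ideal.Quotient.mk η.asIdeal)) z
    refine ⟨w, ?_, ?_⟩
    · simp only [PrimeSpectrum.ConstructibleSetData.toSet, Set.mem_iUnion]
      refine ⟨c, hc, ?_, ?_⟩
      · rw [PrimeSpectrum.mem_zeroLocus]
        intro x hx
        show algebraMap Q B (Ideal.Quotient.mk _ x) ∈ z.asIdeal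
        rw [Ideal.Quotient.eq_zero_iff_mem.2 (hc1 hx), map_zero]
        exact zero_mem _
      · rw [PrimeSpectrum.mem_zeroLocus, Set.singleton_subset_iff]
        intro h
        exact z.2.ne_top (Ideal.eq_top_of_isUnit_mem _ h (IsLocalization.Away.algebraMap_isUnit (S := B) g))
    · rw [← hP', ← hz]
      rfl

end Groth.Agent.S9651
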