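import Groth.Statements.S9652
import Mathlib
import Groth.Agent.ConsJac15.Basic
import Groth.Agent.S9651
-- import your own Groth.Agent.* helpers here

set_option autoImplicit false
universe u
open CAlg

namespace Groth.Agent.S9652

open Groth.Agent.ConsJac15

/-- Let R and S be Jacobson rings, R → S a ring map of finite type with induced map f : Spec(S) →
Spec(R), and E ⊆ Spec(S) a constructible subset. Writing T₀ for the set of points of a subspace T
which are closed in T, one has f(E)₀ = f(E₀) = (Spec R)₀ ∩ f(E). -/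
theorem result {R S : Type u} [CommRing R] [CommRing S] [Algebra R S] [IsJacobsonRing R] [IsJacobsonRing S] [Algebra.FiniteType R S]
    (E : Set (PrimeSpectrum S)) (hE : Topology.IsConstructible E) :
    {x | x ∈ PrimeSpectrum.comap (algebraMap R S) '' E ∧ closure {x} ∩ PrimeSpectrum.comap (algebraMap R S) '' E = {x}} =
        PrimeSpectrum.comap (algebraMap R S) '' {y | y ∈ E ∧ closure {y} ∩ E = {y}} ∧
      PrimeSpectrum.comap (algebraMap R S) '' {y | y ∈ E ∧ closure {y} ∩ E = {y}} =
        {x | IsClosed ({x} : Set (PrimeSpectrum R))} ∩ PrimeSpectrum.comap (algebraMap R S) '' E := by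
  have key : PrimeSpectrum.comap (algebraMap R S) '' {y | y ∈ E ∧ closure {y} ∩ E = {y}} =
      {x | IsClosed ({x} : Set (PrimeSpectrum R))} ∩ PrimeSpectrum.comap (algebraMap R S) '' E := by
    refine Set.Subset.antisymm ?_ fun x hx => exists_closed_preimage hE hx.1 hx.2
    rintro _ ⟨y, ⟨hy, hyc⟩, rfl⟩
    exact ⟨isClosed_singleton_comap (isClosed_singleton_of_closed_in hE hy hyc), y, hy, rfl⟩
  refine ⟨?_, key⟩
  rw [key]
  refine Set.Subset.antisymm (fun x hx => ⟨?_, hx.1⟩) fun x hx => ⟨hx.2, ?_⟩
  · obtain ⟨U, hU, hdense, hsub⟩ := Groth.Agent.S9651.result E hE x hx.1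
    have hxU : x ∈ U := by
      obtain ⟨w, hwU, hwx⟩ : (U ∩ closure {x}).Nonempty := by
        by_contra hne
        rw [Set.not_nonempty_iff_eq_empty] at hne
        rw [hne, closure_empty] at hdense
        exact hdense (subset_closure rfl)
      exact (mem_closure_iff.1 hwx U hU hwU).elim fun v hv => (Set.mem_singleton_iff.1 hv.2) ▸ hv.1
    refine isClosed_singleton_of_isLocallyClosed_singleton ?_
    have : ({x} : Set (PrimeSpectrum R)) = U ∩ closure {x} :=
      (Set.singleton_subset_iff.2 (show x ∈ U ∩ closure {x} from ⟨hxU, subset_closure rfl⟩)).antisymm fun z hz => hx.2.le ⟨hz.2, hsub hz⟩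
    rw [this]
    exact hU.isLocallyClosed.inter isClosed_closure.isLocallyClosed
  · have hc : IsClosed ({x} : Set (PrimeSpectrum R)) := hx.1
    rw [hc.closure_eq]
    exact Set.inter_eq_left.2 (Set.singleton_subset_iff.2 hx.2)

end Groth.Agent.S9652
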