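import Groth.Statements.S9653
import Mathlib
import Groth.Agent.ConsJac15.Basic
import Groth.Agent.S9651
-- import your own Groth.Agent.* helpers here

set_option autoImplicit false
universe u
open CAlg

namespace Groth.Agent.S9653

open Groth.Agent.ConsJac15

/-- Let R and S be Jacobson rings, R → S a ring map of finite type with induced map f : Spec(S) →
Spec(R), E ⊆ Spec(S) constructible and E₀ the set of points of E closed in E. Then a point ξ of
Spec(R) lies in f(E) if and only if cl{ξ} ∩ f(E₀) is dense in the closure cl{ξ}. -/
theorem result {R S : Type u} [CommRing R] [CommRing S] [Algebra R S] [IsJacobsonRing R] [IsJacobsonRing S] [Algebra.FiniteType R S]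
    (E : Set (PrimeSpectrum S)) (hE : Topology.IsConstructible E) (ξ : PrimeSpectrum R) :
    ξ ∈ PrimeSpectrum.comap (algebraMap R S) '' E ↔
      closure ({ξ} : Set (PrimeSpectrum R)) ⊆ closure (closure {ξ} ∩ PrimeSpectrum.comap (algebraMap R S) '' {y | y ∈ E ∧ closure {y} ∩ E = {y}}) := by
  constructor
  · intro hξ
    obtain ⟨U, hU, hdense, hsub⟩ := Groth.Agent.S9651.result E hE ξ hξ
    refine hdense.trans ?_
    rw [← JacobsonSpace.closure_inter_closedPoints_eq_closure (hU.isLocallyClosed.inter isClosed_closure.isLocallyClosed)]
    refine closure_mono fun x hx => ⟨hx.1.2, exists_closed_preimage hE (mem_closedPoints_iff.1 hx.2) (hsub hx.1)⟩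
  · intro h
    exact mem_image_of_dense hE (h.trans (closure_mono (Set.inter_subset_inter_right _ (Set.image_mono fun y hy => hy.1))))

end Groth.Agent.S9653
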