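import Groth.Statements.S9655
import Mathlib.RingTheory.Valuation.LocalSubring
import Mathlib.RingTheory.EssentialFiniteness
import Mathlib.RingTheory.MvPolynomial.Basic
-- import your own Groth.Agent.* helpers here

set_option autoImplicit false
set_option linter.all false
universe u
open CAlg

namespace Groth.Agent.S9655

/-- Let R and S be local rings and R → S a ring map, not necessarily local, that is essentially of
finite type. Then for some n there is a maximal ideal m of the polynomial ring R[x_1, …, x_n] lying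
over the maximal ideal of R, together with an R-algebra map φ : R[x_1, …, x_n]_m → S making S a
localization of the image of φ; thus S arises from R[x_1, …, x_n]_m by passing to a quotient and
then localizing. -/
theorem result {R S : Type u} [CommRing R] [CommRing S] [Algebra R S] [IsLocalRing R] [IsLocalRing S] [Algebra.EssFiniteType R S] :
    ∃ (n : ℕ) (m : Ideal (MvPolynomial (Fin n) R)) (_ : m.IsMaximal), m.under R = IsLocalRing.maximalIdeal R ∧
      ∃ (φ : Localization.AtPrime m →ₐ[R] S) (T : Submonoid φ.range), IsLocalization T S := by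
  classical
  let A := Algebra.EssFiniteType.subalgebra R S
  let κ := IsLocalRing.ResidueField S
  let r : S →+* κ := IsLocalRing.residue S
  obtain ⟨V, hV, hVloc⟩ := IsLocalRing.exists_factor_valuationRing (r.comp (algebraMap R S))
  let e : Fin (Algebra.EssFiniteType.finset R S).card ≃ ↥(Algebra.EssFiniteType.finset R S) :=
    (Algebra.EssFiniteType.finset R S).equivFin.symm
  let y : Fin (Algebra.EssFiniteType.finset R S).card → S := fun i =>
    if r (e i).1 ∈ V then (e i).1 else Ring.inverse (e i).1
  have hy : ∀ i, r (y i) ∈ V ∧ (y i = (e i).1 ∨ (IsUnit (e i).1 ∧ y i = Ring.inverse (e i).1)) := by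
    intro i
    by_cases h : r (e i).1 ∈ V
    · simp only [y, if_pos h]; exact ⟨h, Or.inl trivial⟩
    · have hu : IsUnit (e i).1 := by
        by_contra hu
        exact h ((show r (e i).1 = 0 from (IsLocalRing.residue_eq_zero_iff _).mpr hu) ▸ V.zero_mem)
      simp only [y, if_neg h]
      refine ⟨?_, Or.inr ⟨hu, trivial⟩⟩
      have hinv : r (Ring.inverse (e i).1) = (r (e i).1)⁻¹ :=
        eq_inv_of_mul_eq_one_left (by rw [← map_mul, Ring.inverse_mul_cancel _ hu, map_one])
      rw [hinv]
      exact (V.mem_or_inv_mem _).resolve_left h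
  let ψ : MvPolynomial (Fin (Algebra.EssFiniteType.finset R S).card) R →ₐ[R] S := MvPolynomial.aeval y
  have hψV : ∀ z, r (ψ z) ∈ V := by
    intro z
    induction z using MvPolynomial.induction_on with
    | C a => simp only [ψ, MvPolynomial.aeval_C]; exact hV a
    | add a b ha hb => rw [map_add, map_add]; exact V.add_mem _ _ ha hb
    | mul_X a j ha => simp only [map_mul, ψ, MvPolynomial.aeval_X]; exact V.mul_mem _ _ ha (hy j).1
  let θ : MvPolynomial (Fin (Algebra.EssFiniteType.finset R S).card) R →+* V :=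
    (r.comp ψ.toRingHom).codRestrict V.toSubring hψV
  let Q := (IsLocalRing.maximalIdeal V).comap θ
  obtain ⟨m, hm, hQm⟩ := Ideal.exists_le_maximal Q (Ideal.IsPrime.ne_top inferInstance)
  have hover : m.under R = IsLocalRing.maximalIdeal R := by
    refine le_antisymm (IsLocalRing.le_maximalIdeal (Ideal.IsPrime.ne_top inferInstance)) fun a ha => hQm ?_
    show θ (algebraMap R _ a) ∈ IsLocalRing.maximalIdeal V
    intro hu
    refine ha (hVloc.map_nonunit a ?_)
    have e : θ (algebraMap R _ a) = (r.comp (algebraMap R S)).codRestrict V.toSubring hV a :=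
      Subtype.ext (show r (ψ (algebraMap R _ a)) = r (algebraMap R S a) by rw [AlgHom.commutes])
    exact e ▸ hu
  have hunit : ∀ z : m.primeCompl, IsUnit (ψ z) := fun z => by
    by_contra hu
    refine z.2 (hQm ?_)
    show θ z ∈ IsLocalRing.maximalIdeal V
    rw [show θ z = 0 from Subtype.ext ((IsLocalRing.residue_eq_zero_iff _).mpr hu)]
    exact zero_mem _
  let φ : Localization.AtPrime m →ₐ[R] S := IsLocalization.liftAlgHom (M := m.primeCompl) (f := ψ) hunit
  have hrange : ∀ z, ψ z ∈ φ.range := fun z => ⟨algebraMap _ _ z, by simp [φ]⟩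
  let T : Submonoid φ.range := (IsUnit.submonoid S).comap (algebraMap φ.range S)
  refine ⟨_, m, hm, hover, φ, T, ?_⟩
  let W : Subalgebra R S :=
    { carrier := {s | ∃ t : S, t ∈ φ.range ∧ IsUnit t ∧ s * t ∈ φ.range}
      add_mem' := fun {a b} ⟨t, h1, h2, h3⟩ ⟨u, g1, g2, g3⟩ => ⟨t * u, mul_mem h1 g1, h2.mul g2, by
        rw [show (a + b) * (t * u) = a * t * u + b * u * t by ring]
        exact add_mem (mul_mem h3 g1) (mul_mem g3 h1)⟩
      mul_mem' := fun {a b} ⟨t, h1, h2, h3⟩ ⟨u, g1, g2, g3⟩ => ⟨t * u, mul_mem h1 g1, h2.mul g2, by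
        rw [show a * b * (t * u) = a * t * (b * u) by ring]
        exact mul_mem h3 g3⟩
      algebraMap_mem' := fun a => ⟨1, one_mem _, isUnit_one, by rw [mul_one]; exact φ.range.algebraMap_mem a⟩ }
  have hA : Algebra.EssFiniteType.subalgebra R S ≤ W := by
    refine Algebra.adjoin_le fun a ha => ?_
    obtain ⟨i, hi⟩ := e.surjective ⟨a, ha⟩
    have hi' : (e i).1 = a := congrArg Subtype.val hi
    have hyr : y i ∈ φ.range := by simpa [ψ] using hrange (MvPolynomial.X i)
    rcases (hy i).2 with h | ⟨hu, h⟩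
    · exact ⟨1, one_mem _, isUnit_one, by rw [mul_one, ← hi', ← h]; exact hyr⟩
    · refine ⟨y i, hyr, ?_, ?_⟩
      · rw [h]; exact hu.ringInverse
      · rw [h, ← hi', Ring.mul_inverse_cancel _ hu]; exact one_mem _
  have hall : ∀ s : S, s ∈ W := by
    intro s
    obtain ⟨⟨a, u⟩, h⟩ := IsLocalization.surj (Algebra.EssFiniteType.submonoid R S) s
    obtain ⟨t, t1, t2, t3⟩ := hA a.2
    obtain ⟨v, v1, v2, v3⟩ := hA u.1.2
    have hu : IsUnit (u.1.1 : S) := u.2
    refine ⟨u.1.1 * v * t, mul_mem v3 t1, (hu.mul v2).mul t2, ?_⟩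
    have h' : s * u.1.1 = a.1 := h
    rw [show s * (u.1.1 * v * t) = (s * u.1.1) * t * v by ring, h']
    exact mul_mem t3 v1
  constructor; constructor
  · exact fun t => t.2
  · intro s
    obtain ⟨t, h1, h2, h3⟩ := hall s
    exact ⟨⟨⟨_, h3⟩, ⟨⟨t, h1⟩, h2⟩⟩, rfl⟩
  · intro a b h
    exact ⟨1, by simpa using Subtype.ext h⟩

end Groth.Agent.S9655
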