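import Groth.Statements.S9656
import Mathlib.RingTheory.IntegralClosure.IsIntegralClosure.Basic
import Mathlib.Algebra.Polynomial.Monic

set_option autoImplicit false
universe u
open CAlg

namespace Groth.Agent.S9656

/-- Let R_i → S_i be ring maps indexed by a finite type ι, with product map R = Π R_i → S = Π S_i. Then
an element (s_i) of S is integral over R exactly when s_i is integral over R_i for every i; so
integral closure in a finite product is computed factor by factor. -/
theorem result {ι : Type u} [Fintype ι] {R S : ι → Type u} [∀ i, CommRing (R i)] [∀ i, CommRing (S i)] (f : ∀ i, R i →+* S i) (s : ∀ i, S i) :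
    (RingHom.pi fun i => (f i).comp (Pi.evalRingHom R i)).IsIntegralElem s ↔ ∀ i, (f i).IsIntegralElem (s i) := by
  classical
  constructor
  · rintro ⟨P, hP, hev⟩ i
    refine ⟨P.map (Pi.evalRingHom R i), hP.map _, ?_⟩
    have h := congrFun hev i
    change (Pi.evalRingHom S i) _ = 0 at h
    rw [Polynomial.hom_eval₂] at h
    rw [Polynomial.eval₂_map]
    exact h
  · intro h
    choose p hp hev using h
    let N := ∑ i, (p i).natDegree
    let q : ∀ i, Polynomial (R i) := fun i => p i * Polynomial.X ^ (N - (p i).natDegree)
    have hq : ∀ i, (q i).Monic := fun i => (hp i).mul (Polynomial.monic_X_pow _)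
    have hqd : ∀ i, (q i).natDegree ≤ N := by
      intro i
      refine Polynomial.natDegree_mul_le.trans ?_
      have h1 := Polynomial.natDegree_X_pow_le (R := R i) (N - (p i).natDegree)
      have h2 : (p i).natDegree ≤ N := Finset.single_le_sum (f := fun i => (p i).natDegree) (fun _ _ => Nat.zero_le _) (Finset.mem_univ i)
      omega
    have hqN : ∀ i, (q i).coeff N = 1 := by
      intro i
      have h2 : (p i).natDegree ≤ N := Finset.single_le_sum (f := fun i => (p i).natDegree) (fun _ _ => Nat.zero_le _) (Finset.mem_univ i)
      have h3 := (hp i).coeff_natDegree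
      simp only [q]
      rw [Polynomial.coeff_mul_X_pow', if_pos (Nat.sub_le _ _), Nat.sub_sub_self h2, h3]
    let P : Polynomial (∀ i, R i) := ∑ j ∈ Finset.range (N + 1), Polynomial.C (fun i => (q i).coeff j) * Polynomial.X ^ j
    have hmap : ∀ i, P.map (Pi.evalRingHom R i) = q i := by
      intro i
      simp only [P, Polynomial.map_sum, Polynomial.map_mul, Polynomial.map_C, Polynomial.map_pow, Polynomial.map_X]
      exact ((q i).as_sum_range_C_mul_X_pow' (Nat.lt_succ_of_le (hqd i))).symm
    refine ⟨P, Polynomial.monic_of_natDegree_le_of_coeff_eq_one N ?_ ?_, ?_⟩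
    · refine Polynomial.natDegree_sum_le_of_forall_le _ _ fun j hj => ?_
      exact (Polynomial.natDegree_C_mul_X_pow_le _ _).trans (Nat.lt_succ_iff.1 (Finset.mem_range.1 hj))
    · simp only [P, Polynomial.finset_sum_coeff, Polynomial.coeff_C_mul_X_pow]
      rw [Finset.sum_ite_eq, if_pos (by simp)]
      funext i; exact hqN i
    · funext i
      change (Pi.evalRingHom S i) _ = 0
      rw [Polynomial.hom_eval₂]
      have h1 : Polynomial.eval₂ (f i) (s i) (P.map (Pi.evalRingHom R i)) = 0 := by
        rw [hmap i]; simp only [q, Polynomial.eval₂_mul, hev i, zero_mul]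
      rw [Polynomial.eval₂_map] at h1
      exact h1

end Groth.Agent.S9656
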