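import Groth.Statements.S9658
import Mathlib.Algebra.Module.LocalizedModule.Basic
import Mathlib.RingTheory.Ideal.Basic
import Mathlib.RingTheory.Finiteness.Basic
import Mathlib.Algebra.Module.BigOperators
import Mathlib.Tactic.Ring

set_option autoImplicit false
universe u
open CAlg

namespace Groth.Agent.S9658

/-- Let R be a ring, f_1, …, f_n ∈ R generating the unit ideal and M an R-module. With M_i = M_{f_i},
M_ij = M_{f_i f_j} (any localizations, with the canonical compatible maps M → M_i → M_ij), the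
sequence 0 → M → ⊕ M_i → ⊕ M_ij is exact: an element of M whose image vanishes in every M_i is zero,
and every family (m_i ∈ M_i) such that m_i and m_j have the same image in M_ij for all i, j is the
image of an element of M. -/
theorem result {R : Type u} [CommRing R] {ι : Type u} [Fintype ι] (f : ι → R) (hf : Ideal.span (Set.range f) = ⊤)
    (M : Type u) [AddCommGroup M] [Module R M]
    (Mi : ι → Type u) [∀ i, AddCommGroup (Mi i)] [∀ i, Module R (Mi i)] (g : ∀ i, M →ₗ[R] Mi i) [∀ i, IsLocalizedModule (Submonoid.powers (f i)) (g i)]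
    (Mij : ι → ι → Type u) [∀ i j, AddCommGroup (Mij i j)] [∀ i j, Module R (Mij i j)] (gij : ∀ i j, M →ₗ[R] Mij i j) [∀ i j, IsLocalizedModule (Submonoid.powers (f i * f j)) (gij i j)]
    (ρ₁ : ∀ i j, Mi i →ₗ[R] Mij i j) (hρ₁ : ∀ i j, ρ₁ i j ∘ₗ g i = gij i j) (ρ₂ : ∀ i j, Mi j →ₗ[R] Mij i j) (hρ₂ : ∀ i j, ρ₂ i j ∘ₗ g j = gij i j) :
    (∀ m : M, (∀ i, g i m = 0) → m = 0) ∧
      ∀ s : ∀ i, Mi i, (∀ i j, ρ₁ i j (s i) = ρ₂ i j (s j)) → ∃ m : M, ∀ i, g i m = s i := by
  classical
  have hunit : ∀ i (n : ℕ) (a b : Mi i), f i ^ n • a = f i ^ n • b → a = b := by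
    intro i n a b h
    have hu := IsLocalizedModule.map_units (g i) (⟨f i ^ n, ⟨n, rfl⟩⟩ : Submonoid.powers (f i))
    exact ((Module.End.isUnit_iff _).1 hu).1 h
  have hone : ∀ N : ℕ, ∃ e : ι → R, ∑ i, e i * f i ^ N = 1 := by
    intro N
    have := Ideal.span_pow_eq_top _ hf N
    rw [← Set.range_comp, Ideal.eq_top_iff_one, Ideal.span, Submodule.mem_span_range_iff_exists_fun] at this
    simpa using this
  constructor
  · intro m hm
    have hz : ∀ i, ∃ n : ℕ, f i ^ n • m = 0 := by
      intro i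
      obtain ⟨⟨_, n, rfl⟩, hn⟩ := (IsLocalizedModule.eq_zero_iff (Submonoid.powers (f i)) (g i)).1 (hm i)
      exact ⟨n, hn⟩
    choose n hn using hz
    obtain ⟨e, he⟩ := hone (∑ i, n i)
    rw [← one_smul R m, ← he, Finset.sum_smul]
    refine Finset.sum_eq_zero fun i _ => ?_
    obtain ⟨d, hd⟩ := Nat.exists_eq_add_of_le (Finset.single_le_sum (fun j _ => Nat.zero_le (n j)) (Finset.mem_univ i))
    rw [hd, pow_add, ← mul_assoc, mul_comm (e i) (f i ^ n i), mul_assoc, mul_comm (f i ^ n i), ← smul_smul, hn, smul_zero]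
  · intro s hs
    have h1 : ∀ i, ∃ n : ℕ, ∃ m : M, f i ^ n • s i = g i m := by
      intro i
      obtain ⟨⟨m, _, n, rfl⟩, hm⟩ := IsLocalizedModule.surj (Submonoid.powers (f i)) (g i) (s i)
      exact ⟨n, m, hm⟩
    choose n m0 hm0 using h1
    let a := ∑ i, n i
    have h2 : ∀ i, ∃ m : M, f i ^ a • s i = g i m := fun i => by
      obtain ⟨d, hd⟩ := Nat.exists_eq_add_of_le (Finset.single_le_sum (fun j _ => Nat.zero_le (n j)) (Finset.mem_univ i))
      exact ⟨f i ^ d • m0 i, by rw [map_smul, ← hm0, smul_smul, ← pow_add, add_comm d, ← hd]⟩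
    choose m hm using h2
    have h3 : ∀ p : ι × ι, ∃ b : ℕ, (f p.1 * f p.2) ^ b • f p.2 ^ a • m p.1 = (f p.1 * f p.2) ^ b • f p.1 ^ a • m p.2 := by
      rintro ⟨i, j⟩
      have : gij i j (f j ^ a • m i) = gij i j (f i ^ a • m j) := by
        conv_lhs => rw [← hρ₁ i j, LinearMap.comp_apply, map_smul, ← hm, map_smul, map_smul, hs i j]
        conv_rhs => rw [← hρ₂ i j, LinearMap.comp_apply, map_smul, ← hm, map_smul, map_smul]
        rw [smul_comm]
      obtain ⟨⟨_, b, rfl⟩, hb⟩ := IsLocalizedModule.exists_of_eq (S := Submonoid.powers (f i * f j)) this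
      exact ⟨b, hb⟩
    choose b hb using h3
    let B := ∑ p, b p
    have h4 : ∀ i j, f i ^ B • f j ^ B • f j ^ a • m i = f i ^ B • f j ^ B • f i ^ a • m j := by
      intro i j
      obtain ⟨d, hd⟩ := Nat.exists_eq_add_of_le (Finset.single_le_sum (fun q _ => Nat.zero_le (b q)) (Finset.mem_univ (i, j)))
      calc f i ^ B • f j ^ B • f j ^ a • m i = (f i * f j) ^ d • (f i * f j) ^ b (i, j) • f j ^ a • m i := by
            simp only [B, hd, smul_smul]; congr 1; ring
        _ = (f i * f j) ^ d • (f i * f j) ^ b (i, j) • f i ^ a • m j := by rw [hb (i, j)]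
        _ = _ := by simp only [B, hd, smul_smul]; congr 1; ring
    obtain ⟨e, he⟩ := hone (a + B)
    refine ⟨∑ i, (e i * f i ^ B) • m i, fun j => hunit j (B + a) _ _ ?_⟩
    calc f j ^ (B + a) • g j (∑ i, (e i * f i ^ B) • m i)
        = g j (∑ i, e i • (f i ^ B • f j ^ B • f j ^ a • m i)) := by
          rw [← map_smul, Finset.smul_sum]
          congr 1
          refine Finset.sum_congr rfl fun i _ => ?_
          simp only [smul_smul]; congr 1; ring
      _ = g j (∑ i, e i • (f i ^ B • f j ^ B • f i ^ a • m j)) := congrArg _ (Finset.sum_congr rfl fun i _ => congrArg (e i • ·) (h4 i j))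
      _ = g j ((∑ i, e i * f i ^ (a + B)) • f j ^ B • m j) := by
          rw [Finset.sum_smul]; congr 1
          refine Finset.sum_congr rfl fun i _ => ?_
          simp only [smul_smul]; congr 1; ring
      _ = f j ^ (B + a) • s j := by rw [he, one_smul, map_smul, ← hm, smul_smul, ← pow_add]

end Groth.Agent.S9658
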