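import Groth.Statements.S9659
import Mathlib
-- import your own Groth.Agent.* helpers here

set_option autoImplicit false
universe u
open CAlg

namespace Groth.Agent.S9659

/-- Let S be a ℤ-graded ring which contains an invertible homogeneous element of positive degree. Then
the set of homogeneous prime ideals of S, with the topology induced from Spec(S), maps
homeomorphically onto Spec(S₀) by p ↦ p ∩ S₀. -/
theorem result {R S : Type u} [CommRing R] [CommRing S] [Algebra R S] (𝒜 : ℤ → Submodule R S) [GradedAlgebra 𝒜]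
    (f : S) (d : ℤ) (hd : 0 < d) (hf : f ∈ 𝒜 d) (hu : IsUnit f) :
    IsHomeomorph (fun p : {p : PrimeSpectrum S // p.asIdeal.IsHomogeneous 𝒜} => PrimeSpectrum.comap (SetLike.GradeZero.subring 𝒜).subtype p.1) := by
  classical
  let R₀ := SetLike.GradeZero.subring 𝒜
  obtain ⟨u, hu⟩ := hu
  subst hu
  have hmemhom : ∀ {p : Ideal S}, p.IsHomogeneous 𝒜 → ∀ g, g ∈ p ↔ ∀ i, (DirectSum.decompose 𝒜 g i : S) ∈ p :=
    fun {p} hp g => ⟨fun hg i => hp i hg, fun h => by
      rw [← DirectSum.sum_support_decompose 𝒜 g]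
      exact Ideal.sum_mem _ fun i _ => h i⟩
  -- a degree zero representative of a homogeneous element
  have hrep : ∀ (i : ℤ) (x : S), x ∈ 𝒜 i → ∃ a : R₀, ∀ p : Ideal S, p.IsPrime → ((a : S) ∈ p ↔ x ∈ p) := by
    intro i x hx
    have hpow : ∀ n : ℕ, ((u : S) ^ n) ∈ 𝒜 ((n : ℤ) * d) := fun n => by
      simpa using SetLike.pow_mem_graded n hf
    have hinv : ((u⁻¹ : Sˣ) : S) ∈ 𝒜 (-d) := by
      have h1 : (u : S) * (DirectSum.decompose 𝒜 ((u⁻¹ : Sˣ) : S) (-d) : S) = 1 := by
        have h2 := DirectSum.coe_decompose_mul_add_of_left_mem 𝒜 (i := d) (j := -d) (b := ((u⁻¹ : Sˣ) : S)) hf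
        rw [Units.mul_inv, add_neg_cancel, DirectSum.decompose_of_mem_same 𝒜 (SetLike.one_mem_graded 𝒜)] at h2
        exact h2.symm
      rw [show ((u⁻¹ : Sˣ) : S) = (DirectSum.decompose 𝒜 ((u⁻¹ : Sˣ) : S) (-d) : S) from
        (Units.inv_eq_of_mul_eq_one_right h1)]
      exact SetLike.coe_mem _
    have hz : ∀ z : ℤ, ((u ^ z : Sˣ) : S) ∈ 𝒜 (z * d) := by
      rintro (n | n)
      · simpa using hpow n
      · rw [zpow_negSucc, ← inv_pow, Units.val_pow_eq_pow_val]
        have h3 := SetLike.pow_mem_graded (n + 1) hinv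
        rw [nsmul_eq_mul] at h3
        rw [Int.negSucc_eq]
        push_cast at h3 ⊢
        rwa [show (-(n + 1 : ℤ)) * d = (n + 1 : ℤ) * (-d) by ring]
    have hmem : x ^ d.toNat * ((u ^ (-i) : Sˣ) : S) ∈ 𝒜 0 := by
      have h4 := SetLike.mul_mem_graded (SetLike.pow_mem_graded d.toNat hx) (hz (-i))
      rwa [nsmul_eq_mul, Int.toNat_of_nonneg hd.le, show d * i + -i * d = 0 by ring] at h4
    refine ⟨⟨_, hmem⟩, fun p hp => ⟨fun h => ?_, fun h => ?_⟩⟩
    · rcases hp.mem_or_mem h with h | h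
      · exact hp.mem_of_pow_mem _ h
      · exact absurd (Ideal.eq_top_of_isUnit_mem _ h (Units.isUnit _)) hp.ne_top
    · exact p.mul_mem_right _ (Ideal.pow_mem_of_mem _ h _ (by omega))
  have hsurj : Function.Surjective (fun q : {p : PrimeSpectrum S // p.asIdeal.IsHomogeneous 𝒜} => PrimeSpectrum.comap R₀.subtype q.1) := by
    intro q
    have hret : (q.asIdeal.map R₀.subtype).comap R₀.subtype = q.asIdeal := by
      refine le_antisymm (fun y hy => ?_) Ideal.le_comap_map
      suffices ∀ z ∈ q.asIdeal.map R₀.subtype, ∀ s : R₀, (s : S) = DirectSum.decompose 𝒜 z 0 → s ∈ q.asIdeal from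
        this _ hy y (DirectSum.decompose_of_mem_same 𝒜 y.2).symm
      intro z hz
      induction hz using Submodule.span_induction with
      | mem z hz =>
        obtain ⟨w, hw, rfl⟩ := hz
        intro s hs
        rw [show s = w from Subtype.ext (hs.trans (DirectSum.decompose_of_mem_same 𝒜 w.2))]
        exact hw
      | zero =>
        intro s hs
        rw [show s = 0 from Subtype.ext (by rw [hs, DirectSum.decompose_zero]; rfl)]
        exact zero_mem _
      | add z z' _ _ ih ih' =>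
        intro s hs
        rw [show s = ⟨_, SetLike.coe_mem (DirectSum.decompose 𝒜 z 0)⟩ + ⟨_, SetLike.coe_mem (DirectSum.decompose 𝒜 z' 0)⟩ from
          Subtype.ext (by rw [hs, DirectSum.decompose_add]; rfl)]
        exact add_mem (ih _ rfl) (ih' _ rfl)
      | smul c z hz ih =>
        intro s hs
        -- expand `z` as a combination of elements of `q`
        clear ih
        induction hz using Submodule.span_induction generalizing c s with
        | mem z hz =>
          obtain ⟨w, hw, rfl⟩ := hz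
          rw [show s = w * ⟨_, SetLike.coe_mem (DirectSum.decompose 𝒜 c 0)⟩ from Subtype.ext (by
            rw [hs, smul_eq_mul, mul_comm c]
            exact DirectSum.coe_decompose_mul_of_left_mem_zero 𝒜 w.2)]
          exact q.asIdeal.mul_mem_right _ hw
        | zero =>
          rw [show s = 0 from Subtype.ext (by rw [hs, smul_zero, DirectSum.decompose_zero]; rfl)]
          exact zero_mem _
        | add z z' _ _ ih ih' =>
          rw [show s = ⟨_, SetLike.coe_mem (DirectSum.decompose 𝒜 (c • z) 0)⟩ + ⟨_, SetLike.coe_mem (DirectSum.decompose 𝒜 (c • z') 0)⟩ from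
            Subtype.ext (by rw [hs, smul_add, DirectSum.decompose_add]; rfl)]
          exact add_mem (ih _ _ rfl) (ih' _ _ rfl)
        | smul c' z _ ih => exact ih (c * c') _ (by rw [hs, smul_smul])
    obtain ⟨P, hP, hPq⟩ := (Ideal.comap_map_eq_self_iff_of_isPrime q.asIdeal).1 hret
    refine ⟨⟨⟨(P.homogeneousCore 𝒜).toIdeal, Ideal.IsPrime.homogeneousCore hP⟩,
      (P.homogeneousCore 𝒜).isHomogeneous⟩, PrimeSpectrum.ext (Ideal.ext fun y => ?_)⟩
    refine ⟨fun hy => hPq ▸ Ideal.toIdeal_homogeneousCore_le 𝒜 P hy, fun hy => ?_⟩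
    rw [← hPq] at hy
    exact Ideal.mem_homogeneousCore_of_homogeneous_of_mem ⟨0, y.2⟩ hy
  let X := {p : PrimeSpectrum S // p.asIdeal.IsHomogeneous 𝒜}
  refine ⟨(PrimeSpectrum.continuous_comap R₀.subtype).comp continuous_subtype_val, ?_, ?_, ?_⟩
  · -- open map
    intro V hV
    obtain ⟨W, hW, rfl⟩ := isOpen_induced_iff.1 hV
    refine isOpen_iff_forall_mem_open.2 ?_
    rintro _ ⟨p, hp, rfl⟩
    obtain ⟨_, ⟨g, rfl⟩, hpg, hgW⟩ :=
      PrimeSpectrum.isTopologicalBasis_basic_opens.exists_subset_of_mem_open hp hW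
    obtain ⟨i, hi⟩ := not_forall.1 (mt (hmemhom p.2 g).2 hpg)
    obtain ⟨a, ha⟩ := hrep i _ (SetLike.coe_mem _)
    refine ⟨(PrimeSpectrum.basicOpen a : Set (PrimeSpectrum R₀)) ∩
        Set.range (fun q : X => PrimeSpectrum.comap R₀.subtype q.1), ?_, ?_, ?_⟩
    · rintro _ ⟨hq, q, rfl⟩
      exact ⟨q, hgW fun hgq => hq ((ha _ q.1.2).2 ((hmemhom q.2 g).1 hgq i)), rfl⟩
    · rw [Set.range_eq_univ.2 ?_, Set.inter_univ]
      · exact (PrimeSpectrum.basicOpen a).2
      · exact hsurj
    · exact ⟨fun h => hi ((ha _ p.1.2).1 h), p, rfl⟩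
  · -- injective
    intro p p' h
    have h' := congrArg PrimeSpectrum.asIdeal h
    refine Subtype.ext (PrimeSpectrum.ext (Ideal.ext fun g => ?_))
    rw [hmemhom p.2 g, hmemhom p'.2 g]
    refine forall_congr' fun i => ?_
    obtain ⟨a, ha⟩ := hrep i _ (SetLike.coe_mem (DirectSum.decompose 𝒜 g i))
    rw [← ha _ p.1.2, ← ha _ p'.1.2]
    exact SetLike.ext_iff.1 h' a
  · exact hsurj


end Groth.Agent.S9659
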