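import Groth.Statements.S9661
import Groth.Agent.Hilb24.Dim
import Groth.Agent.DimLib.ProjDim

set_option autoImplicit false
universe u
attribute [local instance] MvPolynomial.gradedAlgebra
open CAlg

namespace Groth.Agent.S9661

/-- Let k be a field, d ≥ 1, and I a nonzero homogeneous ideal of the standard-graded polynomial ring
k[X_1, …, X_d]; put M = k[X_1, …, X_d]/I. Then the function n ↦ dim_k M_n (equal to dim_k of the
degree-n part of the polynomial ring minus dim_k of the degree-n part of I) coincides for all large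
n with a polynomial of degree < d - 1, the zero polynomial if d = 1. -/
theorem result {k : Type u} [Field k] (d : ℕ) (hd : 0 < d)
    (I : HomogeneousIdeal (MvPolynomial.homogeneousSubmodule (Fin d) k)) (hI : I ≠ ⊥) :
    ∃ P : Polynomial ℚ, P.degree < ((d - 1 : ℕ) : WithBot ℕ) ∧ ∃ N : ℕ, ∀ n : ℕ, N ≤ n →
      ((Module.finrank k ↥(MvPolynomial.homogeneousSubmodule (Fin d) k n) : ℚ) -
        (Module.finrank k ↥(I.toIdeal.restrictScalars k ⊓ MvPolynomial.homogeneousSubmodule (Fin d) k n) : ℚ)) = P.eval (n : ℚ) := by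
  obtain ⟨n, rfl⟩ : ∃ n, d = n + 1 := ⟨d - 1, by omega⟩
  have hh : I.toIdeal.IsHomogeneous (CohB1.polyGrading n k) := I.isHomogeneous
  have hI0 : I.toIdeal ≠ ⊥ := fun h => hI (HomogeneousIdeal.toIdeal_injective (h.trans HomogeneousIdeal.toIdeal_bot.symm))
  obtain ⟨P, ⟨m₀, hm⟩, hb, -⟩ := Hilb24.formula hh n fun q hq _ hle => by
    have hne : (⊥ : Ideal _) ≠ q := fun h => hI0 (le_bot_iff.1 (h.symm ▸ hle))
    have := DimLib.PN.cdim_lt (n := n) (k := k) Ideal.isPrime_bot hq bot_le hne
    rw [DimLib.PN.cdim_bot] at this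
    omega
  refine ⟨P, ?_, m₀, fun m h => (hm m h).symm⟩
  rw [Nat.add_sub_cancel, Polynomial.degree_lt_iff_coeff_zero]
  exact hb

end Groth.Agent.S9661
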