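import Groth.Statements.S9663
import Mathlib.Algebra.Module.LocalizedModule.Basic

set_option autoImplicit false
universe u
open CAlg

namespace Groth.Agent.S9663

/-- Let R be a ring and f_i, i in a finite index set, elements of R (no condition on the ideal they
generate). Suppose given for each i an R-module M_i on which f_i acts invertibly, for each pair (i,
j) an R-linear isomorphism ψ_ij : (M_i)_{f_j} → (M_j)_{f_i}, and suppose the cocycle condition ψ_jk
∘ ψ_ij = ψ_ik holds as maps (M_i)_{f_j f_k} → (M_k)_{f_i f_j} for all triples (i, j, k). All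
localizations are given through their universal properties: (M_i)_{f_j} with its map g from M_i;
(M_i)_{f_j f_k} with its map t from M_i and the compatible maps u from (M_i)_{f_j} and v from
(M_i)_{f_k}; and the three localized isomorphisms Ψ₁ (ψ_ij on (M_i)_{f_j f_k}), Ψ₂ (ψ_jk on
(M_j)_{f_i f_k}) and Ψ₃ (ψ_ik on (M_i)_{f_j f_k}) are given as maps compatible with the ψ's. Let M ⊆
Π_i M_i be the submodule of families (m_i) with m_i/1 = ψ_ji(m_j/1) in (M_i)_{f_j} for all i, j.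
Then for each i the projection M → M_i exhibits M_i as the localization of M at f_i. -/
theorem result {R : Type u} [CommRing R] {ι : Type u} [Finite ι] (f : ι → R)
    (Mi : ι → Type u) [∀ i, AddCommGroup (Mi i)] [∀ i, Module R (Mi i)]
    (hMi : ∀ i, IsUnit (algebraMap R (Module.End R (Mi i)) (f i)))
    (Mij : ι → ι → Type u) [∀ i j, AddCommGroup (Mij i j)] [∀ i j, Module R (Mij i j)]
    (g : ∀ i j, Mi i →ₗ[R] Mij i j) [∀ i j, IsLocalizedModule (Submonoid.powers (f j)) (g i j)]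
    (ψ : ∀ i j, Mij i j ≃ₗ[R] Mij j i)
    (T : ι → ι → ι → Type u) [∀ i j k, AddCommGroup (T i j k)] [∀ i j k, Module R (T i j k)]
    (t : ∀ i j k, Mi i →ₗ[R] T i j k) [∀ i j k, IsLocalizedModule (Submonoid.powers (f j * f k)) (t i j k)]
    (u : ∀ i j k, Mij i j →ₗ[R] T i j k) (hu : ∀ i j k, u i j k ∘ₗ g i j = t i j k)
    (v : ∀ i j k, Mij i k →ₗ[R] T i j k) (hv : ∀ i j k, v i j k ∘ₗ g i k = t i j k)
    (Ψ₁ : ∀ i j k, T i j k →ₗ[R] T j i k) (hΨ₁ : ∀ i j k, Ψ₁ i j k ∘ₗ u i j k = u j i k ∘ₗ (ψ i j).toLinearMap)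
    (Ψ₂ : ∀ i j k, T j i k →ₗ[R] T k i j) (hΨ₂ : ∀ i j k, Ψ₂ i j k ∘ₗ v j i k = v k i j ∘ₗ (ψ j k).toLinearMap)
    (Ψ₃ : ∀ i j k, T i j k →ₗ[R] T k i j) (hΨ₃ : ∀ i j k, Ψ₃ i j k ∘ₗ v i j k = u k i j ∘ₗ (ψ i k).toLinearMap)
    (hcoc : ∀ i j k, Ψ₂ i j k ∘ₗ Ψ₁ i j k = Ψ₃ i j k)
    (M : Submodule R (∀ i, Mi i)) (hM : ∀ m : ∀ i, Mi i, m ∈ M ↔ ∀ i j, g i j (m i) = ψ j i (g j i (m j))) (i : ι) :
    IsLocalizedModule (Submonoid.powers (f i)) ((LinearMap.proj i).comp M.subtype : ↥M →ₗ[R] Mi i) := by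
  classical
  have : Fintype ι := Fintype.ofFinite ι
  have hpow : ∀ (j : ι) (n : ℕ) (z z' : Mi j), f j ^ n • z = f j ^ n • z' → z = z' := fun j n z z' h =>
    ((Module.End.isUnit_iff _).1 ((hMi j).pow n)).1 (by rw [← map_pow]; exact h)
  have hker : ∀ a b c (d : Mij a c), v a b c d = 0 → ∃ N : ℕ, f b ^ N • d = 0 := by
    intro a b c d hd
    obtain ⟨⟨z, ⟨_, n, rfl⟩⟩, hz⟩ := IsLocalizedModule.surj (Submonoid.powers (f c)) (g a c) d
    simp only [Submonoid.smul_def] at hz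
    have h0 : t a b c z = 0 := by rw [← hv, LinearMap.comp_apply, ← hz, map_smul, hd, smul_zero]
    obtain ⟨⟨_, N, rfl⟩, hN⟩ := (IsLocalizedModule.eq_zero_iff (Submonoid.powers (f b * f c)) (t a b c)).1 h0
    simp only [Submonoid.smul_def] at hN
    refine ⟨N, ?_⟩
    have h1 : f b ^ N • g a c z = 0 := by
      refine ((Module.End.isUnit_iff _).1 (IsLocalizedModule.map_units (g a c) (⟨f c ^ N, N, rfl⟩ : Submonoid.powers (f c)))).1 ?_
      change f c ^ N • f b ^ N • g a c z = f c ^ N • (0 : Mij a c)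
      rw [smul_zero, smul_smul, ← mul_pow, mul_comm, ← map_smul, hN, map_zero]
    refine ((Module.End.isUnit_iff _).1 (IsLocalizedModule.map_units (g a c) (⟨f c ^ n, n, rfl⟩ : Submonoid.powers (f c)))).1 ?_
    change f c ^ n • f b ^ N • d = f c ^ n • (0 : Mij a c)
    rw [smul_zero, smul_comm, hz, h1]
  have hgii : ∀ j, Function.Injective (g j j) := fun j => by
    refine (injective_iff_map_eq_zero _).2 fun z hz => ?_
    obtain ⟨⟨_, n, rfl⟩, hn⟩ := (IsLocalizedModule.eq_zero_iff (Submonoid.powers (f j)) (g j j)).1 hz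
    exact hpow j n z 0 (by simpa [Submonoid.smul_def] using hn)
  refine ⟨fun x => ?_, fun x => ?_, fun {m m'} h => ?_⟩
  · obtain ⟨_, n, rfl⟩ := x
    rw [map_pow]
    exact (hMi i).pow n
  · have hex : ∀ j, ∃ (n : ℕ) (z : Mi j), f i ^ n • ψ i j (g i j x) = g j i z := fun j => by
      obtain ⟨⟨z, ⟨_, n, rfl⟩⟩, hz⟩ := IsLocalizedModule.surj (Submonoid.powers (f i)) (g j i) (ψ i j (g i j x))
      exact ⟨n, z, hz⟩
    choose n z hz using hex
    let n₀ := ∑ j, n j
    let m : ∀ j, Mi j := fun j => f i ^ (n₀ - n j) • z j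
    have hm : ∀ j, g j i (m j) = f i ^ n₀ • ψ i j (g i j x) := fun j => by
      have hle : n j ≤ n₀ := Finset.single_le_sum (fun k _ => Nat.zero_le (n k)) (Finset.mem_univ j)
      rw [map_smul, ← hz j, smul_smul, ← pow_add, Nat.sub_add_cancel hle]
    have hv0 : ∀ j k, v j i k (g j k (m j) - ψ k j (g k j (m k))) = 0 := by
      intro j k
      rw [map_sub, sub_eq_zero]
      have hc := LinearMap.congr_fun (hcoc i k j) (t i k j x)
      have e1 : Ψ₁ i k j (t i k j x) = u k i j (ψ i k (g i k x)) := by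
        rw [← hu i k j]; exact LinearMap.congr_fun (hΨ₁ i k j) (g i k x)
      have e3 : Ψ₃ i k j (t i k j x) = u j i k (ψ i j (g i j x)) := by
        rw [← hv i k j]; exact LinearMap.congr_fun (hΨ₃ i k j) (g i j x)
      rw [LinearMap.comp_apply, e1, e3] at hc
      have hc' := congrArg (fun w => f i ^ n₀ • w) hc
      simp only [← map_smul, ← hm] at hc'
      have l1 : u j i k (g j i (m j)) = v j i k (g j k (m j)) := by
        rw [← LinearMap.comp_apply, hu, ← hv j i k]; rfl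
      have l2 : u k i j (g k i (m k)) = v k i j (g k j (m k)) := by
        rw [← LinearMap.comp_apply, hu, ← hv k i j]; rfl
      have l3 : Ψ₂ i k j (v k i j (g k j (m k))) = v j i k (ψ k j (g k j (m k))) := LinearMap.congr_fun (hΨ₂ i k j) _
      rw [l1, l2, l3] at hc'
      exact hc'.symm
    choose N hN using fun jk : ι × ι => hker jk.1 i jk.2 _ (hv0 jk.1 jk.2)
    let N₀ := ∑ jk, N jk
    have hmem : (fun j => f i ^ N₀ • m j) ∈ M := by
      rw [hM]
      intro j k
      have hle : N (j, k) ≤ N₀ := Finset.single_le_sum (fun p _ => Nat.zero_le (N p)) (Finset.mem_univ (j, k))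
      obtain ⟨c, hc⟩ := Nat.exists_eq_add_of_le hle
      rw [map_smul (g j k) (f i ^ N₀) (m j), map_smul (g k j) (f i ^ N₀) (m k), map_smul (ψ k j), ← sub_eq_zero, ← smul_sub, hc, pow_add, mul_comm, mul_smul]
      exact (congrArg (fun w => f i ^ c • w) (hN (j, k))).trans (smul_zero _)
    refine ⟨⟨⟨_, hmem⟩, ⟨f i ^ (N₀ + n₀), N₀ + n₀, rfl⟩⟩, ?_⟩
    change f i ^ (N₀ + n₀) • x = f i ^ N₀ • m i
    rw [pow_add, mul_smul]
    congr 1
    refine hgii i ?_
    obtain ⟨a, ha⟩ := hker i i i _ (hv0 i i)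
    have hfix : g i i (m i) = ψ i i (g i i (m i)) := by
      refine sub_eq_zero.1 (((Module.End.isUnit_iff _).1 (IsLocalizedModule.map_units (g i i) (⟨f i ^ a, a, rfl⟩ : Submonoid.powers (f i)))).1 ?_)
      change f i ^ a • _ = f i ^ a • (0 : Mij i i)
      rw [smul_zero]; exact ha
    rw [map_smul]
    refine ((ψ i i).injective ?_)
    rw [← hfix, map_smul, hm]
  · have hmem := (hM _).1 (Submodule.sub_mem M m.2 m'.2)
    have hzero : ∀ j, ∃ N : ℕ, f i ^ N • ((m : ∀ j, Mi j) j - (m' : ∀ j, Mi j) j) = 0 := fun j => by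
      have h1 := hmem i j
      simp only [Pi.sub_apply] at h1
      rw [show (m : ∀ j, Mi j) i - (m' : ∀ j, Mi j) i = 0 from sub_eq_zero.2 h, map_zero, eq_comm, LinearEquiv.map_eq_zero_iff] at h1
      obtain ⟨⟨_, N, rfl⟩, hN⟩ := (IsLocalizedModule.eq_zero_iff (Submonoid.powers (f i)) (g j i)).1 h1
      exact ⟨N, hN⟩
    choose N hN using hzero
    refine ⟨⟨f i ^ (∑ j, N j), _, rfl⟩, Subtype.ext (funext fun j => ?_)⟩
    have hle : N j ≤ ∑ k, N k := Finset.single_le_sum (fun p _ => Nat.zero_le (N p)) (Finset.mem_univ j)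
    obtain ⟨c, hc⟩ := Nat.exists_eq_add_of_le hle
    change f i ^ (∑ k, N k) • (m : ∀ j, Mi j) j = f i ^ (∑ k, N k) • (m' : ∀ j, Mi j) j
    rw [← sub_eq_zero, ← smul_sub, hc, pow_add, mul_comm, mul_smul, hN j, smul_zero]

end Groth.Agent.S9663
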