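import Groth.Statements.S9671
import Mathlib

set_option autoImplicit false
universe u
open CAlg

namespace Groth.Agent.S9671

/-- Let R be a ring and R' an R-algebra of finite type. Then there are an ℕ-graded R-algebra S such that
R → S₀ is bijective and S is generated as an R-algebra by a finite set of degree-1 elements, an
element f ∈ S₁, and a ring isomorphism e between the degree-zero part S_(f) of the localization S_f
and R' which matches r/1 with the image of r in R' for every r ∈ R (so R' is identified with S_(f)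
as an R-algebra). The published statement also produces, from a finite R'-module, a finite graded
S-module whose degree-zero localization at f recovers it; that half is not part of this row. -/
theorem result (R R' : Type u) [CommRing R] [CommRing R'] [Algebra R R'] [Algebra.FiniteType R R'] :
    ∃ (S : Type u) (_ : CommRing S) (_ : Algebra R S) (𝒜 : ℕ → Submodule R S) (_ : GradedAlgebra 𝒜) (f : S) (_ : f ∈ 𝒜 1) (s : Finset S)
      (e : HomogeneousLocalization.Away 𝒜 f ≃+* R'),
      Function.Injective (algebraMap R S) ∧ (∀ x ∈ 𝒜 0, x ∈ Set.range (algebraMap R S)) ∧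
      (↑s ⊆ (𝒜 1 : Set S)) ∧ Algebra.adjoin R (s : Set S) = ⊤ ∧
      ∀ r : R, (e.symm (algebraMap R R' r)).val = algebraMap S (Localization.Away f) (algebraMap R S r) := by
  classical
  obtain ⟨n, φ, hφ⟩ := Algebra.FiniteType.iff_quotient_mvPolynomial''.1 ‹Algebra.FiniteType R R'›
  let y : Option (Fin n) → R' := fun o => o.elim 1 fun i => φ (MvPolynomial.X i)
  let G : Option (Fin n) → Polynomial (R × R') := fun o => Polynomial.monomial 1 ((0 : R), y o)
  obtain ⟨S, hSdef⟩ : ∃ S : Subalgebra R (Polynomial (R × R')), S = Algebra.adjoin R (Set.range G) := ⟨_, rfl⟩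
  have hsub : Set.range G ⊆ (S : Set (Polynomial (R × R'))) := hSdef ▸ Algebra.subset_adjoin
  have hS0 : ∀ P ∈ S, (Polynomial.coeff P 0) ∈ Set.range (algebraMap R (R × R')) := by
    intro P hP
    rw [hSdef] at hP
    induction hP using Algebra.adjoin_induction with
    | mem x hx => obtain ⟨o, rfl⟩ := hx; exact ⟨0, by simp [G]⟩
    | algebraMap r => exact ⟨r, by simp [Polynomial.algebraMap_apply]⟩
    | add a b _ _ ha hb =>
      obtain ⟨r, hr⟩ := ha; obtain ⟨r', hr'⟩ := hb
      exact ⟨r + r', by rw [map_add, hr, hr', Polynomial.coeff_add]⟩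
    | mul a b _ _ ha hb =>
      obtain ⟨r, hr⟩ := ha; obtain ⟨r', hr'⟩ := hb
      exact ⟨r * r', by rw [map_mul, hr, hr', Polynomial.mul_coeff_zero]⟩
  have hSpos : ∀ P ∈ S, ∀ m, 0 < m → (Polynomial.coeff P m).1 = 0 := by
    intro P hP
    rw [hSdef] at hP
    induction hP using Algebra.adjoin_induction with
    | mem x hx =>
      obtain ⟨o, rfl⟩ := hx
      intro m hm
      simp only [G, Polynomial.coeff_monomial]
      split_ifs <;> rfl
    | algebraMap r => intro m hm; simp [Polynomial.algebraMap_apply, Polynomial.coeff_C, hm.ne']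
    | add a b _ _ ha hb => intro m hm; simp [ha m hm, hb m hm]
    | mul a b _ _ ha hb =>
      intro m hm
      rw [Polynomial.coeff_mul, Prod.fst_sum]
      refine Finset.sum_eq_zero fun x hx => ?_
      rw [Finset.HasAntidiagonal.mem_antidiagonal] at hx
      rw [Prod.fst_mul]
      rcases Nat.eq_zero_or_pos x.1 with h | h
      · rw [hb x.2 (by omega), mul_zero]
      · rw [ha x.1 h, zero_mul]
  have hScomp : ∀ P ∈ S, ∀ m, Polynomial.monomial m (Polynomial.coeff P m) ∈ S := by
    intro P hP
    rw [hSdef] at hP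
    induction hP using Algebra.adjoin_induction with
    | mem x hx =>
      obtain ⟨o, rfl⟩ := hx
      intro m
      by_cases h : 1 = m
      · subst h; simpa [G] using (hsub ⟨o, rfl⟩ : G o ∈ S)
      · simp [G, Polynomial.coeff_monomial, h]
    | algebraMap r =>
      intro m
      rcases m with _ | m
      · rw [hSdef]; simpa [Polynomial.algebraMap_apply] using Subalgebra.algebraMap_mem (Algebra.adjoin R (Set.range G)) r
      · simp [Polynomial.algebraMap_apply, Polynomial.coeff_C]
    | add a b _ _ ha hb => intro m; rw [Polynomial.coeff_add, map_add]; exact add_mem (ha m) (hb m)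
    | mul a b _ _ ha hb =>
      intro m
      rw [Polynomial.coeff_mul, map_sum]
      refine sum_mem fun x hx => ?_
      rw [Finset.HasAntidiagonal.mem_antidiagonal] at hx
      rw [← hx, ← Polynomial.monomial_mul_monomial]
      exact mul_mem (ha _) (hb _)
  haveI : AddSubgroupClass (Submodule R ↥S) ↥S :=
    { neg_mem := fun {p x} hx => by
        rw [show -x = (-1 : R) • x from Subtype.ext (by simp)]
        exact p.smul_mem _ hx }
  let 𝒜 : ℕ → Submodule R ↥S := fun m =>
    { carrier := {P | ∀ k, k ≠ m → Polynomial.coeff (P : Polynomial (R × R')) k = 0}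
      add_mem' := fun {a b} ha hb k hk => by simp [ha k hk, hb k hk]
      zero_mem' := fun k _ => by simp
      smul_mem' := fun r P hP k hk => by
        change Polynomial.coeff (r • (P : Polynomial (R × R'))) k = 0
        rw [Polynomial.coeff_smul, hP k hk, smul_zero] }
  have hmon : ∀ {m : ℕ} {P : ↥S}, P ∈ 𝒜 m → (P : Polynomial (R × R')) = Polynomial.monomial m (Polynomial.coeff (P : Polynomial (R × R')) m) := by
    intro m P hP
    ext1 k
    rw [Polynomial.coeff_monomial]
    by_cases h : m = k
    · subst h; rw [if_pos rfl]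
    · rw [if_neg h]; exact hP k (Ne.symm h)
  have hmem : ∀ (P : ↥S) (m : ℕ), (⟨_, hScomp P P.2 m⟩ : ↥S) ∈ 𝒜 m := fun P m k hk => by
    simp [Polynomial.coeff_monomial, Ne.symm hk]
  have : SetLike.GradedMonoid 𝒜 :=
    { one_mem := fun k hk => by simp [Polynomial.coeff_one, hk]
      mul_mem := fun i j a b ha hb k hk => by
        rw [MulMemClass.coe_mul, hmon ha, hmon hb, Polynomial.monomial_mul_monomial, Polynomial.coeff_monomial, if_neg hk.symm] }
  let dec : ↥S → DirectSum ℕ (fun i => ↥(𝒜 i)) := fun P =>
    ∑ m ∈ (P : Polynomial (R × R')).support, DirectSum.of (fun i => ↥(𝒜 i)) m ⟨_, hmem P m⟩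
  have hdec : ∀ P, DirectSum.coeAddMonoidHom 𝒜 (dec P) = P := fun P => by
    rw [map_sum]
    simp only [DirectSum.coeAddMonoidHom_of]
    apply Subtype.ext
    rw [AddSubmonoidClass.coe_finset_sum]
    exact (Polynomial.as_sum_support _).symm
  have hcoe : ∀ (x : DirectSum ℕ (fun i => ↥(𝒜 i))) (m : ℕ),
      Polynomial.coeff ((DirectSum.coeAddMonoidHom 𝒜 x : ↥S) : Polynomial (R × R')) m = Polynomial.coeff ((x m : ↥S) : Polynomial (R × R')) m := by
    intro x m
    induction x using DirectSum.induction_on with
    | zero => simp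
    | of i a =>
      rw [DirectSum.coeAddMonoidHom_of]
      by_cases h : i = m
      · subst h; rw [DirectSum.of_eq_same]
      · rw [DirectSum.of_eq_of_ne _ _ _ (Ne.symm h), a.2 m (Ne.symm h)]; simp
    | add a b ha hb => rw [map_add, DirectSum.add_apply, Submodule.coe_add, AddMemClass.coe_add, AddMemClass.coe_add, Polynomial.coeff_add, Polynomial.coeff_add, ha, hb]
  have hinjd : Function.Injective (DirectSum.coeAddMonoidHom 𝒜) := fun a b h => DFinsupp.ext fun m => by
    apply Subtype.ext
    apply Subtype.ext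
    rw [hmon (a m).2, hmon (b m).2, ← hcoe, ← hcoe, h]
  letI : DirectSum.Decomposition 𝒜 :=
    { decompose' := dec
      left_inv := hdec
      right_inv := fun x => hinjd (hdec _) }
  letI : GradedRing 𝒜 := { (inferInstance : SetLike.GradedMonoid 𝒜), (inferInstance : DirectSum.Decomposition 𝒜) with }
  let f : ↥S := ⟨G none, hsub ⟨none, rfl⟩⟩
  have hG : ∀ o, (⟨G o, hsub ⟨o, rfl⟩⟩ : ↥S) ∈ 𝒜 1 := fun o k hk => by simp [G, Polynomial.coeff_monomial, Ne.symm hk]
  have hf : f ∈ 𝒜 1 := hG none
  let θ : ↥S →+* R' := ((Polynomial.eval₂RingHom (RingHom.snd R R') 1)).comp S.val.toRingHom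
  have hθf : θ f = 1 := by simp [θ, f, G, y]
  have hθu : IsUnit (θ f) := by rw [hθf]; exact isUnit_one
  let θ' : HomogeneousLocalization.Away 𝒜 f →+* R' :=
    (IsLocalization.Away.lift (S := Localization.Away f) f hθu).comp (algebraMap _ (Localization.Away f))
  have hθ' : ∀ (N : ℕ) (a : ↥S) (ha : a ∈ 𝒜 (N • 1)), θ' (HomogeneousLocalization.Away.mk 𝒜 hf N a ha) = θ a := by
    intro N a ha
    change IsLocalization.Away.lift (S := Localization.Away f) f hθu (HomogeneousLocalization.Away.mk 𝒜 hf N a ha).val = _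
    rw [HomogeneousLocalization.Away.val_mk]
    have h1 := IsLocalization.Away.lift_eq (S := Localization.Away f) f hθu a
    have h2 : Localization.mk a (⟨f ^ N, N, rfl⟩ : Submonoid.powers f) * algebraMap _ (Localization.Away f) (f ^ N) = algebraMap _ _ a := by
      rw [Localization.mk_eq_mk']; exact IsLocalization.mk'_spec _ a _
    have h3 := congrArg (IsLocalization.Away.lift (S := Localization.Away f) f hθu) h2
    rwa [map_mul, map_pow, map_pow, IsLocalization.Away.lift_eq, hθf, one_pow, mul_one, h1] at h3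
  have hinj : Function.Injective θ' := by
    rw [injective_iff_map_eq_zero]
    intro z hz
    obtain ⟨N, a, ha, rfl⟩ := HomogeneousLocalization.Away.mk_surjective 𝒜 hf z
    rw [hθ'] at hz
    have hz' : (Polynomial.coeff (a : Polynomial (R × R')) (N • 1)).2 = 0 := by
      have : θ a = (Polynomial.coeff (a : Polynomial (R × R')) (N • 1)).2 := by
        change Polynomial.eval₂ (RingHom.snd R R') 1 (a : Polynomial (R × R')) = _
        rw [hmon ha, Polynomial.eval₂_monomial, Polynomial.coeff_monomial, if_pos rfl]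
        simp
      rwa [this] at hz
    apply HomogeneousLocalization.val_injective
    rw [HomogeneousLocalization.Away.val_mk, HomogeneousLocalization.val_zero, Localization.mk_eq_mk', IsLocalization.mk'_eq_zero_iff]
    refine ⟨⟨f, 1, pow_one f⟩, Subtype.ext ?_⟩
    change G none * (a : Polynomial (R × R')) = 0
    rw [hmon ha, Polynomial.monomial_mul_monomial, Polynomial.monomial_eq_zero_iff]
    exact Prod.ext (zero_mul _) (by simpa [y] using hz')
  have hsurj : Function.Surjective θ' := by
    intro v
    have hθS : ∀ v : R', ∃ P, θ P = v := by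
      intro v
      obtain ⟨q, rfl⟩ := hφ v
      induction q using MvPolynomial.induction_on with
      | C r =>
        refine ⟨algebraMap R ↥S r, ?_⟩
        change Polynomial.eval₂ (RingHom.snd R R') 1 (algebraMap R (Polynomial (R × R')) r) = φ (MvPolynomial.C r)
        rw [Polynomial.algebraMap_apply, Polynomial.eval₂_C, MvPolynomial.algHom_C]
        rfl
      | add a b ha hb =>
        obtain ⟨Pa, hPa⟩ := ha; obtain ⟨Pb, hPb⟩ := hb
        exact ⟨Pa + Pb, by rw [map_add, map_add, hPa, hPb]⟩
      | mul_X a i ha =>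
        rw [map_mul]
        obtain ⟨Pa, hPa⟩ := ha
        exact ⟨Pa * ⟨G (some i), hsub ⟨some i, rfl⟩⟩, by rw [map_mul, hPa]; congr 1; simp [θ, G, y]⟩
    obtain ⟨P, rfl⟩ := hθS v
    refine ⟨∑ m ∈ (P : Polynomial (R × R')).support, HomogeneousLocalization.Away.mk 𝒜 hf m _ (show _ ∈ 𝒜 (m • 1) by rw [smul_eq_mul, mul_one]; exact hmem P m), ?_⟩
    rw [map_sum]
    simp only [hθ']
    rw [← map_sum]
    congr 1
    apply Subtype.ext
    rw [AddSubmonoidClass.coe_finset_sum]
    exact (Polynomial.as_sum_support _).symm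
  refine ⟨↥S, inferInstance, inferInstance, 𝒜, inferInstance, f, hf,
    Finset.univ.image (fun o => (⟨G o, hsub ⟨o, rfl⟩⟩ : ↥S)),
    RingEquiv.ofBijective θ' ⟨hinj, hsurj⟩, ?_, ?_, ?_, ?_, ?_⟩
  · intro r r' h
    have := congrArg (fun P : ↥S => (Polynomial.coeff (P : Polynomial (R × R')) 0).1) h
    simpa [Polynomial.algebraMap_apply] using this
  · intro x hx
    obtain ⟨r, hr⟩ := hS0 x x.2
    refine ⟨r, Subtype.ext ?_⟩
    rw [hmon hx, ← hr, Polynomial.monomial_zero_left]
    rfl
  · intro x hx
    simp only [Finset.coe_image, Finset.coe_univ, Set.image_univ, Set.mem_range] at hx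
    obtain ⟨o, rfl⟩ := hx
    exact hG o
  · refine eq_top_iff.2 fun x _ => ?_
    rw [Finset.coe_image, Finset.coe_univ, Set.image_univ]
    subst hSdef
    refine le_of_eq_of_le (Algebra.adjoin_adjoin_coe_preimage (R := R) (s := Set.range G)).symm (Algebra.adjoin_mono ?_) Algebra.mem_top
    rintro ⟨z, hz⟩ ⟨o, ho⟩
    exact ⟨o, Subtype.ext ho⟩
  · intro r
    have hr0 : algebraMap R ↥S r ∈ 𝒜 (0 • 1) := fun k hk => by
      change Polynomial.coeff (algebraMap R (Polynomial (R × R')) r) k = 0
      rw [Polynomial.algebraMap_apply, Polynomial.coeff_C, if_neg (by simpa using hk)]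
    have h1 : (RingEquiv.ofBijective θ' ⟨hinj, hsurj⟩).symm (algebraMap R R' r) = HomogeneousLocalization.Away.mk 𝒜 hf 0 _ hr0 := by
      rw [RingEquiv.symm_apply_eq, RingEquiv.ofBijective_apply, hθ']
      change _ = Polynomial.eval₂ (RingHom.snd R R') 1 (algebraMap R (Polynomial (R × R')) r)
      rw [Polynomial.algebraMap_apply, Polynomial.eval₂_C]
      rfl
    rw [h1, HomogeneousLocalization.Away.val_mk, Localization.mk_eq_mk']
    refine IsLocalization.mk'_eq_iff_eq_mul.2 ?_
    simp

end Groth.Agent.S9671
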