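import Mathlib.AlgebraicGeometry.Normalization
import Mathlib.AlgebraicGeometry.Morphisms.Finite
import Mathlib.AlgebraicGeometry.Morphisms.FiniteType
import Mathlib.Topology.Irreducible
import Groth.Agent.H8Top.SchemeBasic
import Groth.Agent.CAlgSmall.NormalNormalization

set_option autoImplicit false
universe u
namespace CategoryTheory
end CategoryTheory
namespace CategoryTheory.Limits
end CategoryTheory.Limits
namespace AlgebraicGeometry
end AlgebraicGeometry
open CategoryTheory CategoryTheory.Limits AlgebraicGeometry
namespace Mor
end Mor
open Mor

namespace Groth.Agent.S9672

/-- Let f : Y ⟶ X be quasi-compact and quasi-separated, and write X' for the normalization of X relative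
to Y. If x' ∈ X' is the generic point of some irreducible component of X', then there is a point y ∈
Y that is generic in an irreducible component of Y and is sent to x' by the canonical morphism Y ⟶
X'. -/
theorem result {X Y : Scheme.{u}} (f : Y ⟶ X)
    [QuasiCompact f] [QuasiSeparated f] (x' : ↥f.normalization)
    (hx' : closure {x'} ∈ irreducibleComponents ↥f.normalization) :
    ∃ y : Y, closure {y} ∈ irreducibleComponents ↥Y ∧ f.toNormalization.base y = x' := by
  have : QuasiCompact f.toNormalization := by
    have : QuasiCompact (f.toNormalization ≫ f.fromNormalization) := by
      rw [f.toNormalization_fromNormalization]; infer_instance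
    exact QuasiCompact.of_comp _ f.fromNormalization
  obtain ⟨y0, hy0⟩ := Groth.Agent.H8Top.exists_specializes_of_mem_closure_range f.toNormalization
    (show x' ∈ closure (Set.range f.toNormalization) from f.toNormalization.denseRange.closure_range.ge trivial)
  obtain ⟨η, hη⟩ : ∃ η, IsGenericPoint η (irreducibleComponent y0) :=
    QuasiSober.sober isIrreducible_irreducibleComponent isClosed_irreducibleComponent
  refine ⟨η, hη.def ▸ irreducibleComponent_mem_irreducibleComponents y0, ?_⟩
  exact (Groth.Agent.CAlgSmall.NormalNormalization.closure_mem_irreducibleComponents_iff x').1 hx' _
    (((hη.specializes mem_irreducibleComponent).map f.toNormalization.continuous).trans hy0)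

end Groth.Agent.S9672
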