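import Groth.Statements.S9677
import Mathlib
import Groth.Agent.Misc15.StalkLoc
-- import your own Groth.Agent.* helpers here

set_option autoImplicit false
universe u
open CategoryTheory CategoryTheory.Limits AlgebraicGeometry
open Mor

namespace Groth.Agent.S9677
set_option backward.isDefEq.respectTransparency false

/-- Suppose X and Y have finitely many irreducible components and f : X ⟶ Y is birational, i.e. f
restricts to a bijection between the generic points of the irreducible components of X and those of
Y and induces an isomorphism of local rings at every generic point of an irreducible component of X.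
Then for any generic point y of a component of Y, pulling f back along the canonical map Spec
O_{Y,y} ⟶ Y gives an isomorphism onto Spec O_{Y,y}. -/
theorem result {X Y : Scheme.{u}} (f : X ⟶ Y)
    (hXfin : (irreducibleComponents ↥X).Finite) (hYfin : (irreducibleComponents ↥Y).Finite)
    (hbij : Set.BijOn (fun x : X => f.base x) {x : X | closure {x} ∈ irreducibleComponents ↥X}
      {y : Y | closure {y} ∈ irreducibleComponents ↥Y})
    (hiso : ∀ x : X, closure {x} ∈ irreducibleComponents ↥X → IsIso (f.stalkMap x))
    (y : Y) (hy : closure {y} ∈ irreducibleComponents ↥Y) :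
    IsIso (pullback.snd f (Y.fromSpecStalk y)) := by
  -- stability of generic points under generization
  have hmax : ∀ {Z : Scheme.{u}} (z : Z), closure {z} ∈ irreducibleComponents ↥Z →
      ∀ w : Z, w ⤳ z → w = z := by
    intro Z z hz w hw
    have h1 : closure {z} ⊆ closure {w} := specializes_iff_closure_subset.1 hw
    have h2 := hz.2 ((isIrreducible_singleton (x := w)).closure) h1
    exact ((specializes_iff_closure_subset.2 h2).antisymm hw).eq.symm
  have hgen : ∀ {Z : Scheme.{u}} (z : Z), ∃ w : Z, closure {w} ∈ irreducibleComponents ↥Z ∧ w ⤳ z := by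
    intro Z z
    refine ⟨(isIrreducible_irreducibleComponent (x := z)).genericPoint, ?_, ?_⟩
    · rw [IsIrreducible.closure_genericPoint _ isClosed_irreducibleComponent]
      exact irreducibleComponent_mem_irreducibleComponents z
    · exact (isIrreducible_irreducibleComponent (x := z)).isGenericPoint_genericPoint
        isClosed_irreducibleComponent |>.specializes mem_irreducibleComponent
  obtain ⟨x, hx, rfl⟩ := hbij.surjOn hy
  have hxiso := hiso x hx
  set y := f x
  -- the fibre is a single point
  have hfib : ∀ x' : X, f x' = y → x' = x := by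
    intro x' hx'
    obtain ⟨w, hw, hwx⟩ := hgen x'
    have hfw : f w = y := hmax y hy _ (hx' ▸ hwx.map f.continuous)
    obtain rfl : w = x := hbij.injOn hw hx hfw
    set σ := X.presheaf.stalkSpecializes hwx
    have hρ : Function.Surjective (σ ≫ X.residue w).hom := by
      have h1 : Function.Surjective ((f.stalkMap x' ≫ σ) ≫ X.residue w).hom := by
        haveI : IsIso (Y.presheaf.stalkSpecializes (hwx.map f.continuous)) := by
          have : ∀ {a b : Y} (e : a = b) (h : a ⤳ b), IsIso (Y.presheaf.stalkSpecializes h) := by
            rintro a b rfl h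
            rw [TopCat.Presheaf.stalkSpecializes_refl]
            infer_instance
          exact this hx'.symm _
        rw [← Scheme.Hom.stalkSpecializes_stalkMap f w x' hwx]
        haveI : IsIso (f.stalkMap w) := hxiso
        exact (X.residue_surjective w).comp (ConcreteCategory.bijective_of_isIso
          (Y.presheaf.stalkSpecializes (hwx.map f.continuous) ≫ f.stalkMap w)).2
      intro a
      obtain ⟨b, hb⟩ := h1 a
      exact ⟨f.stalkMap x' b, hb⟩
    have hker : RingHom.ker (σ ≫ X.residue w).hom = IsLocalRing.maximalIdeal _ :=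
      IsLocalRing.eq_maximalIdeal (RingHom.ker_isMaximal_of_surjective _ hρ)
    have hcl : Spec.map σ (IsLocalRing.closedPoint _) = IsLocalRing.closedPoint _ := by
      refine PrimeSpectrum.ext (Eq.trans ?_ hker)
      ext a
      exact (IsLocalRing.residue_eq_zero_iff (σ.hom a)).symm
    have := congr($(Scheme.SpecMap_stalkSpecializes_fromSpecStalk hwx) (IsLocalRing.closedPoint _))
    rw [Scheme.Hom.comp_apply, hcl, Scheme.fromSpecStalk_closedPoint,
      Scheme.fromSpecStalk_closedPoint] at this
    exact this
  let Z := pullback f (Y.fromSpecStalk y)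
  let p₂ : Z ⟶ Spec (Y.presheaf.stalk y) := pullback.snd _ _
  let p₁ : Z ⟶ X := pullback.fst _ _
  let s : Spec (Y.presheaf.stalk y) ⟶ X := Spec.map (inv (f.stalkMap x)) ≫ X.fromSpecStalk x
  have hs : s ≫ f = Y.fromSpecStalk y := by
    rw [Category.assoc, ← Scheme.SpecMap_stalkMap_fromSpecStalk, ← Spec.map_comp_assoc,
      IsIso.hom_inv_id, Spec.map_id, Category.id_comp]
  have hz : ∀ z : Z, p₁ z = x := by
    intro z
    refine hfib _ ?_
    have h1 : f (p₁ z) = Y.fromSpecStalk y (p₂ z) := congr($(pullback.condition (f := f) (g := Y.fromSpecStalk y)) z)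
    have h2 : Y.fromSpecStalk y (p₂ z) ⤳ y := Scheme.range_fromSpecStalk.le ⟨_, rfl⟩
    rw [h1]
    exact hmax y hy _ h2
  haveI : IsPreimmersion p₁ := MorphismProperty.pullback_fst _ _ inferInstance
  have hsub : Subsingleton Z := ⟨fun a b => p₁.isEmbedding.injective ((hz a).trans (hz b).symm)⟩
  refine ⟨pullback.lift s (𝟙 _) (by rw [hs, Category.id_comp]), ?_, pullback.lift_snd _ _ _⟩
  apply pullback.hom_ext
  · rw [Category.assoc, pullback.lift_fst, Category.id_comp]
    show p₂ ≫ s = p₁
    -- compare on the unique local ring
    obtain hemp | ⟨⟨z⟩⟩ := isEmpty_or_nonempty Z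
    · exact (isInitialOfIsEmpty (X := Z)).hom_ext _ _
    haveI : Surjective (Z.fromSpecStalk z) := ⟨fun w => ⟨IsLocalRing.closedPoint _, by
      rw [Scheme.fromSpecStalk_closedPoint]; exact Subsingleton.elim _ _⟩⟩
    haveI : CompactSpace Z := Finite.compactSpace
    haveI : QuasiCompact (Z.fromSpecStalk z) := by
      haveI : IsAffine Z := by
        obtain ⟨U, hU, hzU, -⟩ := exists_isAffineOpen_mem_and_subset (x := z) (U := ⊤) trivial
        have : U = ⊤ := top_le_iff.1 fun w _ => Subsingleton.elim z w ▸ hzU
        subst this
        haveI : IsAffine (⊤ : Z.Opens).toScheme := hU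
        exact IsAffine.of_isIso Z.topIso.inv
      infer_instance
    haveI : Flat (Z.fromSpecStalk z) := by
      obtain ⟨U, hU, hzU, -⟩ := exists_isAffineOpen_mem_and_subset (x := z) (U := ⊤) trivial
      rw [← hU.fromSpecStalk_eq_fromSpecStalk hzU, IsAffineOpen.fromSpecStalk]
      haveI : Flat (Spec.map (Z.presheaf.germ U z hzU)) := by
        rw [Flat.SpecMap_iff]
        letI := Z.presheaf.algebra_section_stalk (⟨z, hzU⟩ : U)
        haveI := hU.isLocalization_stalk ⟨z, hzU⟩
        exact IsLocalization.flat (Z.presheaf.stalk z) (hU.primeIdealOf ⟨z, hzU⟩).asIdeal.primeCompl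
      infer_instance
    haveI := Flat.isIso_of_surjective_of_mono (Z.fromSpecStalk z)
    rw [← cancel_epi (Z.fromSpecStalk z)]
    have gen : ∀ {R : CommRingCat.{u}} [IsLocalRing R] (t : Spec R ⟶ X)
        (γ : Y.presheaf.stalk y ⟶ R), t (IsLocalRing.closedPoint R) = x →
        t ≫ f = Spec.map γ ≫ Y.fromSpecStalk y → t = Spec.map γ ≫ s := by
      intro R _ t γ ht htf
      obtain ⟨α, rfl⟩ : ∃ α : X.presheaf.stalk x ⟶ R, t = Spec.map α ≫ X.fromSpecStalk x := by
        subst ht
        exact ⟨_, (Scheme.Spec_stalkClosedPointTo_fromSpecStalk t).symm⟩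
      have hγ : γ = f.stalkMap x ≫ α := by
        apply Spec.map_injective
        rw [← cancel_mono (Y.fromSpecStalk y), ← htf, Spec.map_comp, Category.assoc, Category.assoc,
          ← Scheme.SpecMap_stalkMap_fromSpecStalk]
      rw [hγ, Spec.map_comp, Category.assoc, ← Spec.map_comp_assoc (inv (f.stalkMap x))]
      simp
    obtain ⟨γ, hγ⟩ := Spec.map_surjective (Z.fromSpecStalk z ≫ p₂)
    rw [reassoc_of% hγ.symm]
    symm
    refine gen _ γ ?_ ?_
    · rw [Scheme.Hom.comp_apply]; exact hz _
    · rw [Category.assoc, pullback.condition, ← Category.assoc, hγ]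
  · rw [Category.assoc, pullback.lift_snd, Category.comp_id, Category.id_comp]

end Groth.Agent.S9677
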