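import Groth.Statements.S9679
import Mathlib
import Groth.Agent.S9678
import Groth.Agent.Misc15.GenericPoints
import Groth.Agent.H8Top.SchemeBasic
import Groth.Agent.S9677
-- import your own Groth.Agent.* helpers here

set_option autoImplicit false
universe u
open CategoryTheory CategoryTheory.Limits AlgebraicGeometry
open Mor

namespace Groth.Agent.S9679
set_option backward.isDefEq.respectTransparency false

/-- Suppose X and Y have finitely many irreducible components and f : X ⟶ Y is birational, i.e. f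
restricts to a bijection between the generic points of the irreducible components of X and those of
Y and induces an isomorphism of local rings at every generic point of an irreducible component of X.
Assume that f is quasi-compact or separated, and moreover that f is locally of finite presentation,
or else Y is reduced and f is locally of finite type. Under these hypotheses, some dense open V ⊆ Y
has the property that the restriction f⁻¹(V) ⟶ V of f is an isomorphism. -/
theorem result {X Y : Scheme.{u}} (f : X ⟶ Y)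
    (hXfin : (irreducibleComponents ↥X).Finite) (hYfin : (irreducibleComponents ↥Y).Finite)
    (hbij : Set.BijOn (fun x : X => f.base x) {x : X | closure {x} ∈ irreducibleComponents ↥X}
      {y : Y | closure {y} ∈ irreducibleComponents ↥Y})
    (hiso : ∀ x : X, closure {x} ∈ irreducibleComponents ↥X → IsIso (f.stalkMap x))
    (hf₁ : QuasiCompact f ∨ IsSeparated f)
    (hf₂ : (LocallyOfFiniteType f ∧ IsReduced Y) ∨ LocallyOfFinitePresentation f) :
    ∃ V : Y.Opens, Dense (V : Set ↥Y) ∧ IsIso (f ∣_ V) := by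
  classical
  obtain ⟨U, V, hUV, hUd, hVd, hiso'⟩ := S9678.result f hXfin hYfin hbij hiso hf₂
  have hfib : ∀ (y : Y), closure {y} ∈ irreducibleComponents ↥Y → ∀ x' : X, f x' = y →
      closure {x'} ∈ irreducibleComponents ↥X := by
    intro y hy x' hx'
    obtain ⟨x, hx, rfl⟩ := hbij.surjOn hy
    haveI := S9677.result f hXfin hYfin hbij hiso (f x) hy
    obtain ⟨z, hz, -⟩ := Scheme.Pullback.exists_preimage_pullback (f := f) (g := Y.fromSpecStalk (f x))
      x' (IsLocalRing.closedPoint _) (hx'.trans Scheme.fromSpecStalk_closedPoint.symm)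
    obtain ⟨z', hz', -⟩ := Scheme.Pullback.exists_preimage_pullback (f := f) (g := Y.fromSpecStalk (f x))
      x (IsLocalRing.closedPoint _) Scheme.fromSpecStalk_closedPoint.symm
    have : z = z' := by
      apply (pullback.snd f (Y.fromSpecStalk (f x))).homeomorph.injective
      have hsub : Subsingleton ↥(Spec (Y.presheaf.stalk (f x))) := ⟨fun a b => by
        apply (Y.fromSpecStalk (f x)).isEmbedding.injective
        have key : ∀ c, Y.fromSpecStalk (f x) c = f x := fun c =>
          (Misc15.closure_mem_components_iff _).1 hy _ (Scheme.range_fromSpecStalk.le ⟨c, rfl⟩)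
        rw [key a, key b]⟩
      exact Subsingleton.elim _ _
    rw [← hz, this, hz']
    exact hx
  -- restriction of the isomorphism
  have hrestrict : ∀ V' : Y.Opens, V' ≤ V → f ⁻¹ᵁ V' ≤ U → IsIso (f ∣_ V') := by
    intro V' hV' hU'
    let g : V.toScheme ⟶ X := inv (f.resLE V U hUV) ≫ U.ι
    have hg : g ≫ f = V.ι := by
      rw [Category.assoc, ← Scheme.Hom.resLE_comp_ι f hUV, IsIso.inv_hom_id_assoc]
    have hr : Set.range (Y.homOfLE hV' ≫ g) ⊆ Set.range (f ⁻¹ᵁ V').ι := by
      rintro _ ⟨v, rfl⟩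
      rw [Scheme.Opens.range_ι]
      show f ((Y.homOfLE hV' ≫ g) v) ∈ V'
      rw [← Scheme.Hom.comp_apply, Category.assoc, hg, Scheme.homOfLE_ι]
      exact v.2
    refine ⟨IsOpenImmersion.lift (f ⁻¹ᵁ V').ι (Y.homOfLE hV' ≫ g) hr, ?_, ?_⟩
    · rw [← cancel_mono (f ⁻¹ᵁ V').ι, Category.assoc, IsOpenImmersion.lift_fac, Category.id_comp]
      have h1 : X.homOfLE hU' ≫ f.resLE V U hUV = (f ∣_ V') ≫ Y.homOfLE hV' := by
        rw [← cancel_mono V.ι, Category.assoc, Category.assoc, Scheme.Hom.resLE_comp_ι,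
          Scheme.homOfLE_ι, Scheme.homOfLE_ι_assoc, morphismRestrict_ι]
      rw [← reassoc_of% h1]
      simp [g]
    · rw [← cancel_mono V'.ι, Category.assoc, morphismRestrict_ι, IsOpenImmersion.lift_fac_assoc,
        Category.assoc, hg, Scheme.homOfLE_ι, Category.id_comp]
  have hVmem : ∀ y : Y, closure {y} ∈ irreducibleComponents ↥Y → y ∈ V := by
    intro y hy
    obtain ⟨W, hW, hWd⟩ := Misc15.exists_disjoint_nhds hYfin
    obtain ⟨u, huW, huV⟩ := hVd.inter_open_nonempty _ (W y).2 ⟨y, hW y hy⟩
    obtain ⟨w, hw, hwu⟩ := Misc15.exists_generic_specializes u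
    have : w = y := by
      by_contra hne
      exact (hWd w y hw hy hne).le_bot ⟨hW w hw, hwu.mem_open (W y).2 huW⟩
    exact this ▸ hwu.mem_open V.2 huV
  have hUmem : ∀ x : X, closure {x} ∈ irreducibleComponents ↥X → x ∈ U := by
    intro x hx
    obtain ⟨W, hW, hWd⟩ := Misc15.exists_disjoint_nhds hXfin
    obtain ⟨u, huW, huU⟩ := hUd.inter_open_nonempty _ (W x).2 ⟨x, hW x hx⟩
    obtain ⟨w, hw, hwu⟩ := Misc15.exists_generic_specializes u
    have : w = x := by
      by_contra hne
      exact (hWd w x hw hx hne).le_bot ⟨hW w hw, hwu.mem_open (W x).2 huW⟩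
    exact this ▸ hwu.mem_open U.2 huU
  rcases hf₁ with hqc | hsep
  · let Z : TopologicalSpace.Closeds X := ⟨(U : Set X)ᶜ, U.2.isClosed_compl⟩
    let ι := (Scheme.IdealSheafData.vanishingIdeal Z).subschemeι
    have hι : Set.range ι = (U : Set X)ᶜ := by
      rw [Scheme.IdealSheafData.range_subschemeι, Scheme.IdealSheafData.coe_support_vanishingIdeal]
      rfl
    let C := closure (Set.range (ι ≫ f))
    refine ⟨⟨(V : Set Y) \ C, V.2.sdiff isClosed_closure⟩, ?_, hrestrict _ (fun y hy => hy.1) ?_⟩
    · refine Misc15.dense_of_generic_mem hYfin fun y hy => ⟨hVmem y hy, fun hC => ?_⟩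
      obtain ⟨z, hz⟩ := H8Top.exists_specializes_of_mem_closure_range (ι ≫ f) hC
      have h1 : f (ι z) = y := (Misc15.closure_mem_components_iff y).1 hy _ hz
      have h2 : ι z ∈ (U : Set X)ᶜ := hι ▸ Set.mem_range_self z
      exact h2 (hUmem _ (hfib y hy _ h1))
    · intro x hx
      by_contra hxU
      obtain ⟨z, hz⟩ : x ∈ Set.range ι := hι.symm ▸ hxU
      exact hx.2 (subset_closure ⟨z, by rw [Scheme.Hom.comp_apply, hz]⟩)
  · have hle : f ⁻¹ᵁ V ≤ U := by
      let g : V.toScheme ⟶ (f ⁻¹ᵁ V).toScheme :=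
        inv (f.resLE V U hUV) ≫ X.homOfLE hUV
      have hg : g ≫ (f ∣_ V) = 𝟙 _ := by
        rw [← cancel_mono V.ι, Category.assoc, morphismRestrict_ι, Category.id_comp]
        simp only [g, Category.assoc, Scheme.homOfLE_ι_assoc]
        rw [← Scheme.Hom.resLE_comp_ι f hUV, IsIso.inv_hom_id_assoc]
      haveI : IsSeparated (f ∣_ V) := inferInstance
      haveI : IsClosedImmersion g := by
        haveI : IsClosedImmersion (g ≫ (f ∣_ V)) := by rw [hg]; infer_instance
        exact IsClosedImmersion.of_comp g (f ∣_ V)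
      have hcl : IsClosed (Set.range g) := g.isClosedEmbedding.isClosed_range
      have hrange : ∀ q : (f ⁻¹ᵁ V).toScheme, (q ∈ Set.range g ↔ (f ⁻¹ᵁ V).ι q ∈ U) := by
        intro q
        constructor
        · rintro ⟨v, rfl⟩
          rw [← Scheme.Hom.comp_apply, Category.assoc, Scheme.homOfLE_ι]
          exact (inv (f.resLE V U hUV) v).2
        · intro hq
          refine ⟨f.resLE V U hUV ⟨_, hq⟩, ?_⟩
          rw [← Scheme.Hom.comp_apply, IsIso.hom_inv_id_assoc]
          exact Subtype.ext (X.homOfLE_apply _ _)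
      intro x hx
      obtain ⟨w, hw, hwx⟩ := Misc15.exists_generic_specializes x
      by_contra hxU
      have hwV : w ∈ f ⁻¹ᵁ V := hwx.mem_open (f ⁻¹ᵁ V).2 hx
      have hmem : (⟨x, hx⟩ : (f ⁻¹ᵁ V).toScheme) ∈ Set.range g := by
        have hsp : (⟨w, hwV⟩ : (f ⁻¹ᵁ V).toScheme) ⤳ ⟨x, hx⟩ :=
          (f ⁻¹ᵁ V).ι.isOpenEmbedding.isInducing.specializes_iff.1 hwx
        exact hsp.mem_closed hcl ((hrange _).2 (hUmem w hw))
      exact hxU ((hrange _).1 hmem)
    exact ⟨V, hVd, hrestrict V le_rfl hle⟩

end Groth.Agent.S9679
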