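import Groth.Statements.S9680
import Mathlib
import Groth.Agent.H8Lim.SpreadOut
-- import your own Groth.Agent.* helpers here

set_option autoImplicit false
universe u
open CategoryTheory CategoryTheory.Limits AlgebraicGeometry
open Mor

namespace Groth.Agent.S9680

/-- Suppose X and Y are irreducible S-schemes, each locally of finite presentation over S, with generic
points x and y. Then X and Y are S-birational (they admit S-isomorphic nonempty opens) if and only
if x and y map to the same point s of S and the local rings of X at x and of Y at y are isomorphic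
as algebras over the local ring of S at s. -/
theorem result {S X Y : Scheme.{u}}
    [IrreducibleSpace ↥X] [IrreducibleSpace ↥Y] (sX : X ⟶ S) (sY : Y ⟶ S)
    [LocallyOfFinitePresentation sX] [LocallyOfFinitePresentation sY] :
    Scheme.BirationalOver sX sY ↔
      ∃ (hs : sX.base (genericPoint ↥X) = sY.base (genericPoint ↥Y))
        (e : X.presheaf.stalk (genericPoint ↥X) ≅ Y.presheaf.stalk (genericPoint ↥Y)),
        sX.stalkMap (genericPoint ↥X) ≫ e.hom =
          eqToHom (congrArg S.presheaf.stalk hs) ≫ sY.stalkMap (genericPoint ↥Y) := by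
  have key : ∀ {a b : S} (h : a = b), eqToHom (congrArg S.presheaf.stalk h) =
      S.presheaf.stalkSpecializes (Inseparable.of_eq h.symm).specializes := by
    rintro a b rfl
    simp
  constructor
  · rintro ⟨φ, hφ⟩
    have : Nonempty φ.source.toScheme := by
      obtain ⟨x, hx⟩ := φ.dense_source.nonempty
      exact ⟨⟨x, hx⟩⟩
    have : IrreducibleSpace φ.source.toScheme :=
      have : PreirreducibleSpace φ.source.toScheme :=
        Subtype.preirreducibleSpace ((PreirreducibleSpace.isPreirreducible_univ).open_subset φ.source.2 (Set.subset_univ _))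
      { toPreirreducibleSpace := this, toNonempty := inferInstance }
    let b : φ.source.toScheme ⟶ Y := φ.iso.hom ≫ φ.target.ι
    have hx := genericPoint_eq_of_isOpenImmersion φ.source.ι
    have hy := genericPoint_eq_of_isOpenImmersion b
    rw [← hx, ← hy]
    generalize genericPoint φ.source.toScheme = u
    have hb : b ≫ sY = φ.source.ι ≫ sX := by simp only [b, Category.assoc]; exact hφ
    have hs : sX (φ.source.ι u) = sY (b u) := by
      rw [← Scheme.Hom.comp_apply, ← Scheme.Hom.comp_apply, hb]
    refine ⟨hs, asIso (φ.source.ι.stalkMap u) ≪≫ (asIso (b.stalkMap u)).symm, ?_⟩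
    rw [Iso.trans_hom, Iso.symm_hom, asIso_hom, asIso_inv, ← Category.assoc, IsIso.comp_inv_eq,
      Category.assoc]
    erw [← Scheme.Hom.stalkMap_comp, ← Scheme.Hom.stalkMap_comp]
    rw [key hs]
    exact Scheme.Hom.stalkMap_congr_hom _ _ hb.symm u
  · rintro ⟨hs, e, he⟩
    rw [key hs] at he
    obtain ⟨U, hxU, V, f, _, h1, h2⟩ := H8Lim.spread_out_isIso sX sY hs e.inv (by
      rw [Iso.comp_inv_eq, Category.assoc, he, TopCat.Presheaf.stalkSpecializes_comp_assoc]
      simp)
    refine ⟨⟨U, U.2.dense ⟨_, hxU⟩, V, V.2.dense ⟨_, (f ⟨_, hxU⟩).2⟩, asIso f⟩, ?_⟩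
    exact h2

end Groth.Agent.S9680
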