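import Groth.Statements.S9681
import Mathlib
import Groth.Agent.Misc15.SpreadIso
-- import your own Groth.Agent.* helpers here

set_option autoImplicit false
universe u
open CategoryTheory CategoryTheory.Limits AlgebraicGeometry
open Mor

namespace Groth.Agent.S9681

/-- Suppose X and Y are integral S-schemes, each locally of finite type over S, with generic points x
and y. Then X and Y are S-birational (they admit S-isomorphic nonempty opens) if and only if x and y
map to the same point s of S and the residue fields of x and y are isomorphic as extensions of the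
residue field of s. -/
theorem result {S X Y : Scheme.{u}}
    [IsIntegral X] [IsIntegral Y] (sX : X ⟶ S) (sY : Y ⟶ S)
    [LocallyOfFiniteType sX] [LocallyOfFiniteType sY] :
    Scheme.BirationalOver sX sY ↔
      ∃ (hs : sX.base (genericPoint ↥X) = sY.base (genericPoint ↥Y))
        (e : X.residueField (genericPoint ↥X) ≅ Y.residueField (genericPoint ↥Y)),
        sX.residueFieldMap (genericPoint ↥X) ≫ e.hom =
          eqToHom (congrArg S.residueField hs) ≫ sY.residueFieldMap (genericPoint ↥Y) := by
  have key : ∀ {a b : S} (h : a = b), eqToHom (congrArg S.presheaf.stalk h) =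
      S.presheaf.stalkSpecializes (Inseparable.of_eq h.symm).specializes := by
    rintro a b rfl
    simp
  have key' : ∀ {a b : S} (h : a = b), eqToHom (congrArg S.presheaf.stalk h) ≫ S.residue b =
      S.residue a ≫ eqToHom (congrArg S.residueField h) := by
    rintro a b rfl
    simp
  have keyM : ∀ {U : Scheme.{u}} {g g' : U ⟶ S} (h : g = g') (u : U), g.residueFieldMap u =
      eqToHom (congrArg S.residueField congr($h u)) ≫ g'.residueFieldMap u := by
    rintro U g g' rfl u
    simp
  have hres : ∀ (Z : Scheme.{u}) [IsIntegral Z], IsIso (Z.residue (genericPoint Z)) := by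
    intro Z _
    rw [ConcreteCategory.isIso_iff_bijective]
    refine ⟨?_, Ideal.Quotient.mk_surjective⟩
    exact RingHom.injective (R := Z.functionField) _
  have := hres X
  have := hres Y
  constructor
  · rintro ⟨φ, hφ⟩
    have : Nonempty φ.source.toScheme := by
      obtain ⟨x, hx⟩ := φ.dense_source.nonempty
      exact ⟨⟨x, hx⟩⟩
    let b : φ.source.toScheme ⟶ Y := φ.iso.hom ≫ φ.target.ι
    have : IsIntegral φ.source.toScheme := isIntegral_of_isOpenImmersion φ.source.ι
    have hx := genericPoint_eq_of_isOpenImmersion φ.source.ι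
    have hy := genericPoint_eq_of_isOpenImmersion b
    rw [← hx, ← hy]
    generalize genericPoint φ.source.toScheme = u
    have hb : b ≫ sY = φ.source.ι ≫ sX := by simp only [b, Category.assoc]; exact hφ
    have hs : sX (φ.source.ι u) = sY (b u) := by
      rw [← Scheme.Hom.comp_apply, ← Scheme.Hom.comp_apply, hb]
    refine ⟨hs, asIso (φ.source.ι.residueFieldMap u) ≪≫ (asIso (b.residueFieldMap u)).symm, ?_⟩
    rw [Iso.trans_hom, Iso.symm_hom, asIso_hom, asIso_inv, ← Category.assoc, IsIso.comp_inv_eq,
      Category.assoc, ← Scheme.residueFieldMap_comp, ← Scheme.residueFieldMap_comp]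
    exact keyM hb.symm u
  · rintro ⟨hs, e, he⟩
    let φ : Y.presheaf.stalk (genericPoint Y) ⟶ X.presheaf.stalk (genericPoint X) :=
      Y.residue _ ≫ e.inv ≫ inv (X.residue _)
    have h : sY.stalkMap (genericPoint Y) ≫ φ =
        S.presheaf.stalkSpecializes (Inseparable.of_eq hs).specializes ≫
          sX.stalkMap (genericPoint X) := by
      rw [← key hs.symm]
      simp only [φ]
      rw [← Scheme.residue_residueFieldMap_assoc, ← cancel_mono (X.residue (genericPoint X))]
      simp only [Category.assoc, IsIso.inv_hom_id, Category.comp_id]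
      rw [← Scheme.residue_residueFieldMap, reassoc_of% (key' hs.symm)]
      congr 1
      rw [← Iso.eq_comp_inv] at he
      rw [he]
      simp
    obtain ⟨U, hxU, V, f, _, h1, h2⟩ := Misc15.spread_out_isIso_of_lft sX sY hs φ h
    refine ⟨⟨U, U.2.dense ⟨_, hxU⟩, V, V.2.dense ⟨_, (f ⟨_, hxU⟩).2⟩, asIso f⟩, ?_⟩
    exact h2

end Groth.Agent.S9681
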