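import Mathlib.AlgebraicGeometry.Morphisms.Integral
import Mathlib.Topology.KrullDimension
import Groth.Agent.SGA3cLib.MonoClosed
import Groth.Agent.CommAlg6.DimMaps

set_option autoImplicit false
universe u
namespace CategoryTheory
end CategoryTheory
namespace CategoryTheory.Limits
end CategoryTheory.Limits
namespace AlgebraicGeometry
end AlgebraicGeometry
open CategoryTheory CategoryTheory.Limits AlgebraicGeometry
namespace Mor
end Mor
open Mor

namespace Groth.Agent.S9683

/-- For any integral morphism of schemes f : X ⟶ Y, the dimension of X is at most that of Y, and if f is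
surjective then dim X = dim Y (dimensions of the underlying topological spaces). -/
theorem result {X Y : Scheme.{u}} (f : X ⟶ Y) [IsIntegralHom f] :
    topologicalKrullDim ↥X ≤ topologicalKrullDim ↥Y ∧
      (Surjective f → topologicalKrullDim ↥X = topologicalKrullDim ↥Y) := by
  have h1 : topologicalKrullDim ↥X ≤ topologicalKrullDim ↥Y :=
    Groth.Agent.CommAlg6.topologicalKrullDim_le_of_fibres f.continuous
      fun x x' h e => Groth.Agent.SGA3cLib.eq_of_specializes_of_isIntegralHom f h e
  exact ⟨h1, fun hs => le_antisymm h1
    (Groth.Agent.CommAlg6.topologicalKrullDim_le_of_specializingMap f.surjective f.isClosedMap.specializingMap)⟩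

end Groth.Agent.S9683
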