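import Mathlib.AlgebraicGeometry.Morphisms.FiniteType
import Mathlib.AlgebraicGeometry.Morphisms.UnderlyingMap
import Mathlib.AlgebraicGeometry.Noetherian
import Mathlib.AlgebraicGeometry.ResidueField
import Mathlib.Topology.KrullDimension
import Mathlib.RingTheory.AlgebraicIndependent.Basic
import Groth.Agent.CAlgSmall.DimFormulaBounds

set_option autoImplicit false
universe u
namespace CategoryTheory
end CategoryTheory
namespace CategoryTheory.Limits
end CategoryTheory.Limits
namespace AlgebraicGeometry
end AlgebraicGeometry
open CategoryTheory CategoryTheory.Limits AlgebraicGeometry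
namespace Mor
end Mor
open Mor

namespace Groth.Agent.S9685

/-- Let X and Y be integral schemes with Y locally Noetherian and f : X ⟶ Y dominant and locally of
finite type. If n is the transcendence degree of the function field of X over the function field of
Y (computed on residue fields at the generic points), then dim X ≤ dim Y + n, and equality holds
when the underlying map of f is closed. -/
theorem result {X Y : Scheme.{u}} [IsIntegral X] [IsIntegral Y]
    [IsLocallyNoetherian Y] (f : X ⟶ Y) [IsDominant f] [LocallyOfFiniteType f] (n : ℕ)
    (hn : letI := (f.residueFieldMap (genericPoint ↥X)).hom.toAlgebra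
      Algebra.trdeg (Y.residueField (f.base (genericPoint ↥X))) (X.residueField (genericPoint ↥X)) = n) :
    topologicalKrullDim ↥X ≤ topologicalKrullDim ↥Y + n ∧
      (IsClosedMap f.base → topologicalKrullDim ↥X = topologicalKrullDim ↥Y + n) := by
  have h : Groth.Agent.EGA43.DimFormula.trdAt f (genericPoint ↥X) = n :=
    Groth.Agent.CAlgSmall.trdAt_eq_of_trdeg_eq f hn
  have hle : topologicalKrullDim ↥X ≤ topologicalKrullDim ↥Y + n := by
    refine Groth.Agent.CAlgSmall.topologicalKrullDim_le_add f n fun ξ hξ => ?_
    rw [irreducibleComponents_eq_singleton] at hξ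
    have hgp : IsGenericPoint ξ (Set.univ : Set ↥X) := Set.mem_singleton_iff.mp hξ
    rw [hgp.eq (genericPoint_spec ↥X), h]
  exact ⟨hle, fun hc => le_antisymm hle
    (Groth.Agent.CAlgSmall.le_topologicalKrullDim_of_isClosedMap f hc n h)⟩

end Groth.Agent.S9685
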