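import Groth.Statements.S9688
import Groth.Agent.S7689
import Mathlib
-- import your own Groth.Agent.* helpers here

set_option autoImplicit false
universe u
open CategoryTheory CategoryTheory.Limits AlgebraicGeometry
open Mor

namespace Groth.Agent.S9688

open Groth.Agent.VarietyLib Groth.Agent.VarietyLib.NormStalk

theorem fg_integralClosure {A : Type u} [CommRing A] [IsDomain A] {K : Type u} [Field K] [Algebra A K]
    [IsFractionRing A K] (hN : CAlg.IsN2 A) : (integralClosure A K).toSubmodule.FG := by
  letI : Algebra (FractionRing A) K := FractionRing.liftAlgebra A K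
  haveI : FiniteDimensional (FractionRing A) K := by
    refine Module.Finite.of_surjective (Algebra.linearMap (FractionRing A) K) fun z => ?_
    obtain ⟨a, b, -, rfl⟩ := IsFractionRing.div_surjective A z
    exact ⟨algebraMap _ _ a / algebraMap _ _ b, by
      simp [IsScalarTower.algebraMap_apply A (FractionRing A) K]⟩
  haveI h1 : Module.Finite A (integralClosure A K) := hN K inferInstance
  exact Module.Finite.iff_fg.1 (show Module.Finite A ↥(integralClosure A K).toSubmodule from h1)

variable {X : Scheme.{u}} [IsIntegral X]
  [QuasiCompact (X.fromSpecStalk (genericPoint X))] [QuasiSeparated (X.fromSpecStalk (genericPoint X))]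

theorem finite_app (hJ : ∀ (U : X.Opens), IsAffineOpen U → ∀ (hne : Nonempty ↥U),
      @CAlg.IsN2 ↑Γ(X, U) _ (@IsIntegral.component_integral X _ U hne))
    (U : X.Opens) (hU : IsAffineOpen U) : ((Curv2.normalizationι X).app U).hom.Finite := by
  by_cases hne : Nonempty U
  · letI alg : Algebra Γ(X, U) X.functionField := (X.germToFunctionField U).hom.toAlgebra
    haveI : IsFractionRing Γ(X, U) X.functionField := functionField_isFractionRing_of_isAffineOpen X U hU
    have hfg := fg_integralClosure (K := X.functionField) (hJ U hU hne)
    letI algC := ((Curv2.normalizationι X).app U).hom.toAlgebra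
    let L : Γ(Curv2.normalization X, Curv2.normalizationι X ⁻¹ᵁ U) →ₗ[Γ(X, U)] X.functionField :=
      { toFun := sec X U
        map_add' := map_add _
        map_smul' := fun a b => by
          show sec X U ((Curv2.normalizationι X).app U a * b) = X.germToFunctionField U a * sec X U b
          rw [map_mul, sec_app] }
    have hr : LinearMap.range L = (integralClosure Γ(X, U) X.functionField).toSubmodule :=
      Submodule.ext fun y => ⟨fun ⟨b, hb⟩ => (S7689.sec_range hU y).2 ⟨b, hb⟩, fun h => (S7689.sec_range hU y).1 h⟩
    haveI : Module.Finite Γ(X, U) (LinearMap.range L) := Module.Finite.iff_fg.2 (hr ▸ hfg)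
    exact Module.Finite.equiv (LinearEquiv.ofInjective L (sec_injective X U)).symm
  · have : U = ⊥ := le_bot_iff.1 fun x hx => (hne ⟨⟨x, hx⟩⟩).elim
    subst this
    exact RingHom.Finite.of_surjective _ fun b =>
      ⟨0, @Subsingleton.elim _ (by
        show Subsingleton Γ(Curv2.normalization X, (⊥ : (Curv2.normalization X).Opens))
        infer_instance) _ _⟩


/-- Let X be an integral Japanese scheme (every nonempty affine open has Japanese, i.e. N-2, coordinate
ring). Then the normalization morphism X^ν ⟶ X is finite. (The quasi-compactness and
quasi-separatedness binders on Spec K(X) ⟶ X always hold; they are only needed to form the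
normalization.) -/
theorem result (X : Scheme.{u}) [IsIntegral X] [QuasiCompact (X.fromSpecStalk (genericPoint ↥X))] [QuasiSeparated (X.fromSpecStalk (genericPoint ↥X))]
    (hJ : ∀ (U : X.Opens), IsAffineOpen U → ∀ (hne : Nonempty ↥U),
      @CAlg.IsN2 ↑Γ(X, U) _ (@IsIntegral.component_integral X _ U hne)) :
    IsFinite (Curv2.normalizationι X) := by
  exact ⟨fun U hU => finite_app hJ U hU⟩

end Groth.Agent.S9688
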