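import Groth.Statements.S9696
import Mathlib
import Groth.Agent.EGA43.Cons.Unramified
import Groth.Agent.FlatLocal.StalkCrit
-- import your own Groth.Agent.* helpers here

set_option autoImplicit false
universe u
open CategoryTheory CategoryTheory.Limits AlgebraicGeometry
open Mor

namespace Groth.Agent.S9696

/-- Let f : X ⟶ S be flat and locally of finite presentation and g : S' ⟶ S any morphism, with base
change f' : X ×_S S' ⟶ S' and projection g' : X ×_S S' ⟶ X. Then the open set of points where f' is
etale is the inverse image under g' of the open set of points where f is etale. -/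
theorem result {X S S' : Scheme.{u}} (f : X ⟶ S) [Flat f]
    [LocallyOfFinitePresentation f] (g : S' ⟶ S) (x' : ↑(pullback f g)) :
    (∃ U' : (pullback f g).Opens, x' ∈ U' ∧ Etale (U'.ι ≫ pullback.snd f g)) ↔
      (∃ U : X.Opens, (pullback.fst f g).base x' ∈ U ∧ Etale (U.ι ≫ f)) := by
  have key : ∀ {X S : Scheme.{u}} (f : X ⟶ S) [Flat f] [LocallyOfFinitePresentation f] (x : X),
      (∃ U : X.Opens, x ∈ U ∧ Etale (U.ι ≫ f)) ↔ x ∈ EGA43.Cons.unramLocus f := by
    intro X S f _ _ x
    rw [FlatLocal.etale_nhd_iff]
    exact ⟨fun h => (FlatLocal.formallyUnramified_nhd_iff f x).2 h.2,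
      fun h => ⟨Flat.stalkMap f x, (FlatLocal.formallyUnramified_nhd_iff f x).1 h⟩⟩
  rw [key, key]
  exact Set.ext_iff.1 (EGA43.Cons.unramLocus_isPullback (IsPullback.of_hasPullback f g)) x'

end Groth.Agent.S9696
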