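import Mathlib.AlgebraicGeometry.ValuativeCriterion
import Mathlib.AlgebraicGeometry.Morphisms.Separated
import Groth.Agent.ValCritLib.Refined

set_option autoImplicit false
universe u
namespace CategoryTheory
end CategoryTheory
namespace CategoryTheory.Limits
end CategoryTheory.Limits
namespace AlgebraicGeometry
end AlgebraicGeometry
open CategoryTheory CategoryTheory.Limits AlgebraicGeometry
namespace Mor
end Mor
open Mor

namespace Groth.Agent.S9700

/-- Let f : X ⟶ S and h : U ⟶ X be quasi-compact with h(U) dense in X. Suppose each valuative square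
over f, whose map Spec K ⟶ X factors through h, has a unique diagonal lift. Then f is universally
closed, and f is also separated provided it is quasi-separated. -/
theorem result {U X S : Scheme.{u}} (f : X ⟶ S) (h : U ⟶ X)
    [QuasiCompact f] [QuasiCompact h] (hd : DenseRange h.base)
    (H : ∀ sq : ValuativeCommSq f, (∃ i : Spec (.of sq.K) ⟶ U, i ≫ h = sq.i₁) →
      Nonempty (Unique sq.commSq.LiftStruct)) :
    UniversallyClosed f ∧ (QuasiSeparated f → IsSeparated f) := by
  have key : ∀ (z : U) (R : ValuationSubring (U.residueField z)) (φ : Spec (CommRingCat.of R) ⟶ S),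
      Spec.map (CommRingCat.ofHom R.subtype) ≫ φ = U.fromSpecResidueField z ≫ h ≫ f →
      Nonempty (Unique {l : Spec (CommRingCat.of R) ⟶ X //
        Spec.map (CommRingCat.ofHom R.subtype) ≫ l = U.fromSpecResidueField z ≫ h ∧ l ≫ f = φ}) := by
    intro z R φ hw
    let sq : ValuativeCommSq f :=
      { R := R, K := U.residueField z, i₁ := U.fromSpecResidueField z ≫ h, i₂ := φ
        commSq := ⟨by rw [Category.assoc, ← hw]; rfl⟩ }
    obtain ⟨hu⟩ := H sq ⟨U.fromSpecResidueField z, rfl⟩
    exact ⟨{ default := ⟨hu.default.l, hu.default.fac_left, hu.default.fac_right⟩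
             uniq := fun l => Subtype.ext (congrArg CommSq.LiftStruct.l (hu.uniq ⟨l.1, l.2.1, l.2.2⟩)) }⟩
  have hu : Groth.Agent.ValCritLib.RefinedUniqueness h f := by
    intro z R φ₁ φ₂ h₁ h₂ hf
    obtain ⟨huq⟩ := key z R (φ₁ ≫ f) (by rw [← Category.assoc, h₁, Category.assoc])
    exact congrArg Subtype.val ((huq.uniq ⟨φ₁, h₁, rfl⟩).trans (huq.uniq ⟨φ₂, h₂, hf.symm⟩).symm)
  have he : Groth.Agent.ValCritLib.RefinedExistence h f := fun z R φ hw => by
    obtain ⟨huq⟩ := key z R φ hw
    exact ⟨huq.default.1, huq.default.2⟩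
  exact ⟨UniversallyClosed.of_valuativeCriterion f
      (Groth.Agent.ValCritLib.existence_of_refined h f hd he hu),
    fun _ => Groth.Agent.ValCritLib.isSeparated_of_refined h f hd hu⟩

end Groth.Agent.S9700
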