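import Mathlib.AlgebraicGeometry.Morphisms.Integral
import Groth.Agent.SGA3cLib.MonoClosed

set_option autoImplicit false
universe u
namespace CategoryTheory
end CategoryTheory
namespace CategoryTheory.Limits
end CategoryTheory.Limits
namespace AlgebraicGeometry
end AlgebraicGeometry
open CategoryTheory CategoryTheory.Limits AlgebraicGeometry
namespace Mor
end Mor
open Mor

namespace Groth.Agent.S9709

/-- Let f : X ⟶ S be an integral morphism. Then every point x of X is closed in its fibre: a point of
f⁻¹(f x) specialising from x equals x. -/
theorem result {X S : Scheme.{u}} (f : X ⟶ S) [IsIntegralHom f] (x : X) :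
    closure {x} ∩ f.base ⁻¹' {f.base x} = {x} := by
  refine le_antisymm (fun y ⟨hy, hyf⟩ => ?_) (Set.singleton_subset_iff.2 ⟨subset_closure rfl, rfl⟩)
  exact (Groth.Agent.SGA3cLib.eq_of_specializes_of_isIntegralHom f (specializes_iff_mem_closure.2 hy) (Eq.symm hyf)).symm

end Groth.Agent.S9709
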