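import Groth.Statements.S9714
import Mathlib
-- import your own Groth.Agent.* helpers here

set_option autoImplicit false
universe u
open CategoryTheory CategoryTheory.Limits AlgebraicGeometry
open Mor

namespace Groth.Agent.S9714

/-- Let k be a field and X a scheme over k. The structure morphism X ⟶ Spec k is unramified (formally
unramified and locally of finite type) if and only if X is isomorphic over k to a disjoint union of
spectra of finite separable field extensions of k. -/
theorem result (k : Type u) [Field k] {X : Scheme.{u}}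
    (f : X ⟶ Spec (CommRingCat.of k)) :
    (FormallyUnramified f ∧ LocallyOfFiniteType f) ↔
      ∃ (ι : Type u) (K : ι → Type u) (_ : ∀ i, Field (K i)) (_ : ∀ i, Algebra k (K i)),
        (∀ i, FiniteDimensional k (K i) ∧ Algebra.IsSeparable k (K i)) ∧
        ∃ e : X ≅ ∐ (fun i => Spec (CommRingCat.of (K i))),
          e.hom ≫ Sigma.desc (fun i => Spec.map (CommRingCat.ofHom (algebraMap k (K i)))) = f := by
  classical
  constructor
  · rintro ⟨_, _⟩
    -- sections over affine opens
    have key : ∀ U : X.Opens, IsAffineOpen U → ∃ (_ : Algebra k Γ(X, U)) (h : IsAffineOpen U),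
        h.fromSpec ≫ f = Spec.map (CommRingCat.ofHom (algebraMap k Γ(X, U))) ∧
        Module.Finite k Γ(X, U) ∧ _root_.IsReduced Γ(X, U) ∧
        Algebra.FormallyUnramified k Γ(X, U) := by
      intro U hU
      obtain ⟨ψ, hψ⟩ := Spec.map_surjective (hU.fromSpec ≫ f)
      letI : Algebra k Γ(X, U) := ψ.hom.toAlgebra
      have e : CommRingCat.ofHom (algebraMap k Γ(X, U)) = ψ := rfl
      have hft : ψ.hom.FiniteType := by
        rw [← HasRingHomProperty.Spec_iff (P := @LocallyOfFiniteType.{u}), hψ]
        infer_instance
      have hfu : ψ.hom.FormallyUnramified := by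
        rw [← HasRingHomProperty.Spec_iff (P := @FormallyUnramified.{u}), hψ]
        exact MorphismProperty.comp_mem (W := @FormallyUnramified.{u}) _ _ inferInstance ‹_›
      haveI : Algebra.FiniteType k Γ(X, U) := hft
      haveI : Algebra.FormallyUnramified k Γ(X, U) := hfu
      exact ⟨inferInstance, hU, (e ▸ hψ).symm, Algebra.FormallyUnramified.finite_of_free k _,
        Algebra.FormallyUnramified.isReduced_of_field k _, inferInstance⟩
    have hdisc : ∀ x : X, IsOpen ({x} : Set X) := by
      intro x
      obtain ⟨U, hU, hxU, -⟩ := exists_isAffineOpen_mem_and_subset (x := x) (U := ⊤) trivial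
      obtain ⟨_, h, -, hfin, -, -⟩ := key U hU
      haveI := hfin
      haveI : IsArtinianRing Γ(X, U) := IsArtinianRing.of_finite k Γ(X, U)
      haveI : DiscreteTopology (Spec Γ(X, U)) := inferInstanceAs (DiscreteTopology (PrimeSpectrum Γ(X, U)))
      obtain ⟨q, rfl⟩ : x ∈ Set.range hU.fromSpec := by rwa [hU.range_fromSpec]
      rw [← Set.image_singleton]
      exact hU.fromSpec.isOpenEmbedding.isOpenMap _ (isOpen_discrete _)
    let W : X → X.Opens := fun x => ⟨{x}, hdisc x⟩
    haveI hsub : ∀ x, Subsingleton ↥(W x : Scheme.{u}) := fun x =>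
      ⟨fun a b => Subtype.ext ((Set.mem_singleton_iff.1 a.2).trans (Set.mem_singleton_iff.1 b.2).symm)⟩
    have hW : ∀ x, IsAffineOpen (W x) := fun x => by
      haveI : Finite ↥(W x : Scheme.{u}) := inferInstance
      haveI : DiscreteTopology ↥(W x : Scheme.{u}) := inferInstance
      exact (inferInstance : IsAffine (W x : Scheme.{u}))
    choose alg haff hf hfin hred hunr using fun x => key (W x) (hW x)
    have hfield : ∀ x, IsField Γ(X, W x) := by
      intro x
      letI := alg x
      haveI := hfin x
      haveI := hred x
      haveI : IsArtinianRing Γ(X, W x) := IsArtinianRing.of_finite k Γ(X, W x)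
      haveI hs : Subsingleton (PrimeSpectrum Γ(X, W x)) :=
        (haff x).isoSpec.inv.homeomorph.injective.subsingleton
      haveI hne : Nonempty (PrimeSpectrum Γ(X, W x)) := ⟨(haff x).isoSpec.hom ⟨x, rfl⟩⟩
      haveI : Nontrivial Γ(X, W x) := PrimeSpectrum.nonempty_iff_nontrivial.1 hne
      haveI : IsLocalRing Γ(X, W x) := IsLocalRing.of_unique_max_ideal ⟨
        (Classical.choice hne).asIdeal,
        IsArtinianRing.isMaximal_of_isPrime _,
        fun m hm => congrArg PrimeSpectrum.asIdeal (Subsingleton.elim (⟨m, hm.isPrime⟩ : PrimeSpectrum Γ(X, W x)) (Classical.choice hne))⟩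
      exact IsArtinianRing.isField_of_isReduced_of_isLocalRing _
    let K : X → Type u := fun x => Γ(X, W x)
    letI instF : ∀ x, Field (K x) := fun x => (hfield x).toField
    letI instA : ∀ x, Algebra k (K x) := alg
    refine ⟨X, K, instF, instA, fun x => ⟨hfin x, ?_⟩, ?_⟩
    · haveI := hfin x
      haveI : Algebra.FormallyUnramified k (K x) := hunr x
      exact Algebra.FormallyUnramified.isSeparable k (K x)
    · let d : (∐ fun x => Spec (CommRingCat.of (K x))) ⟶ X := Sigma.desc fun x => (haff x).fromSpec
      haveI : IsOpenImmersion d := by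
        refine isOpenImmersion_sigmaDesc _ _ (fun x y hxy => ?_)
        simp only [Function.onFun]
        have hr : ∀ z, Set.range (haff z).fromSpec = ({z} : Set X) := fun z => (haff z).range_fromSpec
        exact ((hr x).symm ▸ (hr y).symm ▸ Set.disjoint_singleton.2 hxy :)
      haveI : Surjective d := by
        constructor
        intro x
        obtain ⟨q, hq⟩ : x ∈ Set.range (haff x).fromSpec := by
          rw [IsAffineOpen.range_fromSpec]; rfl
        refine ⟨Sigma.ι (fun x => Spec (CommRingCat.of (K x))) x q, ?_⟩
        rw [← Scheme.Hom.comp_apply]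
        simpa [d] using hq
      haveI : IsIso d := isIso_of_isOpenImmersion_of_opensRange_eq_top d
        (top_le_iff.1 fun x _ => d.surjective x)
      refine ⟨(asIso d).symm, ?_⟩
      rw [Iso.symm_hom, asIso_inv, IsIso.inv_comp_eq]
      refine Sigma.hom_ext _ _ fun x => ?_
      simp only [d, colimit.ι_desc_assoc, colimit.ι_desc, Cofan.mk_ι_app]
      exact (hf x).symm
  · rintro ⟨ι, K, _, _, hK, e, rfl⟩
    refine ⟨MorphismProperty.comp_mem (W := @FormallyUnramified.{u}) _ _ inferInstance ?_,
      MorphismProperty.comp_mem (W := @LocallyOfFiniteType.{u}) _ _ inferInstance ?_⟩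
    · refine IsZariskiLocalAtSource.sigmaDesc (P := @FormallyUnramified.{u}) fun i => ?_
      haveI := (hK i).1
      haveI := (hK i).2
      rw [HasRingHomProperty.Spec_iff (P := @FormallyUnramified.{u})]
      exact RingHom.formallyUnramified_algebraMap.mpr (Algebra.FormallyUnramified.of_isSeparable k (K i))
    · refine IsZariskiLocalAtSource.sigmaDesc (P := @LocallyOfFiniteType.{u}) fun i => ?_
      haveI := (hK i).1
      rw [HasRingHomProperty.Spec_iff (P := @LocallyOfFiniteType.{u})]
      exact RingHom.finiteType_algebraMap.mpr inferInstance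

end Groth.Agent.S9714
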