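import Groth.Prelude.Def_FlatMod2
import Groth.Prelude.Def_Mor2
import Mathlib.AlgebraicGeometry.Morphisms.Affine
import Groth.Agent.MorProj.FinFree

set_option autoImplicit false
universe u
namespace CategoryTheory
end CategoryTheory
namespace AlgebraicGeometry
end AlgebraicGeometry
open CategoryTheory AlgebraicGeometry
namespace Mor
end Mor
open Mor

namespace Groth.Agent.S9716

/-- (1) ⇔ (2): a morphism f : X ⟶ S is affine with direct image f_*O_X a finite locally free O_S-module
(locally on S isomorphic to a finite direct sum of copies of the structure sheaf, of possibly
varying rank) if and only if f is finite, flat and locally of finite presentation. -/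
theorem result {X S : Scheme.{u}} (f : X ⟶ S) :
    (IsAffineHom f ∧ FlatMod.IsFinLocFree ((Scheme.Modules.pushforward f).obj (Coh.structureModule X))) ↔
      Mor2.IsFinLocFree f := by
  refine ⟨fun h => ?_, fun h => ?_⟩
  · haveI := h.1
    exact Groth.Agent.MorProj.isFinLocFree_of_isAffineHom f h.2
  · exact Groth.Agent.MorProj.finLocFree_pushforward_of_isFinLocFree f h

end Groth.Agent.S9716
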