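import Mathlib.AlgebraicGeometry.Morphisms.Smooth
import Groth.Agent.MorProj.EtaleNbhd

set_option autoImplicit false
universe u
namespace CategoryTheory
end CategoryTheory
namespace AlgebraicGeometry
end AlgebraicGeometry
open CategoryTheory AlgebraicGeometry
namespace Mor
end Mor
open Mor

namespace Groth.Agent.S9721

/-- Let f : X ⟶ S be a morphism, x a point of X and V an affine open neighbourhood of f(x) in S. Then f
is smooth on some open neighbourhood of x if and only if there is an affine open neighbourhood U of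
x with f(U) ⊆ V such that the induced ring map Γ(S, V) ⟶ Γ(X, U) is standard smooth. -/
theorem result {X S : Scheme.{u}} (f : X ⟶ S) (x : X)
    (V : S.Opens) (hV : IsAffineOpen V) (hxV : f x ∈ V) :
    (∃ W : X.Opens, x ∈ W ∧ Smooth (W.ι ≫ f)) ↔
      ∃ (U : X.Opens) (_ : IsAffineOpen U) (_ : x ∈ U) (e : U ≤ f ⁻¹ᵁ V),
        (f.appLE V U e).hom.IsStandardSmooth := by
  constructor
  · rintro ⟨W, hxW, hW⟩
    exact MorProj.EtaleNbhd.exists_isStandardSmooth_nhd f x hV hxV hxW
  · rintro ⟨U, hU, hxU, e, h⟩
    haveI : Smooth (f.resLE V U e) :=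
      MorProj.EtaleNbhd.of_appLE (P := @Smooth) f hV hU e h.smooth
    exact ⟨U, hxU, by rw [← f.resLE_comp_ι e]; infer_instance⟩

end Groth.Agent.S9721
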