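import Groth.Statements.S9723

set_option autoImplicit false
universe u
open FlatMor

namespace Groth.Agent.S9723

open AlgebraicGeometry CategoryTheory in
/-- Let f : X ⟶ S be formally étale (unique infinitesimal lifting against square-zero thickenings of
affine schemes), and let U be an open subscheme of X and V an open subscheme of S such that f maps U
into V. Then the restricted morphism U ⟶ V is formally étale. -/
theorem result {X S : Scheme.{u}} (f : X ⟶ S) (hf : MoreMor.IsFormallyEtaleHom f)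
    (U : X.Opens) (V : S.Opens) (h : U ≤ f ⁻¹ᵁ V) : MoreMor.IsFormallyEtaleHom (f.resLE V U h) := by
  intro A _ I hI a b hab
  have hpre := @hf A _ I hI (a ≫ U.ι) (b ≫ V.ι)
    (by rw [← Category.assoc, hab, Category.assoc, Category.assoc, Scheme.Hom.resLE_comp_ι])
  obtain ⟨l, ⟨hl₁, hl₂⟩, huniq⟩ := hpre
  have hr : Set.range l ⊆ Set.range U.ι := by
    rintro _ ⟨p, rfl⟩
    obtain ⟨q, rfl⟩ : p ∈ Set.range (Spec.map (CommRingCat.ofHom (Ideal.Quotient.mk I))) := by
      have : IsNilpotent I := ⟨2, hI⟩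
      change p ∈ Set.range (PrimeSpectrum.comap (Ideal.Quotient.mk I))
      rw [range_comap_of_surjective _ _ Ideal.Quotient.mk_surjective, Ideal.mk_ker]
      intro r hr
      exact p.2.mem_of_pow_mem 2 (Ideal.le_of_dvd (dvd_refl _) (by
        have : r ^ 2 ∈ I ^ 2 := Ideal.pow_mem_pow hr 2
        rw [hI] at this
        rw [(Ideal.mem_bot.1 this)]; exact Ideal.zero_mem _))
    exact ⟨a q, by rw [← Scheme.Hom.comp_apply, ← hl₁]; rfl⟩
  refine ⟨IsOpenImmersion.lift U.ι l hr, ⟨?_, ?_⟩, ?_⟩
  · rw [← cancel_mono U.ι, Category.assoc, IsOpenImmersion.lift_fac, hl₁]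
  · rw [← cancel_mono V.ι, Category.assoc, Scheme.Hom.resLE_comp_ι, IsOpenImmersion.lift_fac_assoc,
      hl₂]
  · rintro l' ⟨h₁, h₂⟩
    rw [← cancel_mono U.ι, IsOpenImmersion.lift_fac]
    refine huniq _ ⟨by rw [← Category.assoc, h₁], ?_⟩
    rw [← h₂, Category.assoc, Category.assoc, Scheme.Hom.resLE_comp_ι]

end Groth.Agent.S9723
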