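import Groth.Statements.S9724
import Groth.Agent.FlatMor12.SmoothCutScheme
import Groth.Agent.EGA43.FibDepth.Open
import Groth.Agent.SectionLib.FibreDVR

set_option autoImplicit false
universe u
open FlatMor

namespace Groth.Agent.S9724

open AlgebraicGeometry CategoryTheory Limits in
/-- Let f : X ⟶ S be a morphism and x a point such that f is smooth on an open neighbourhood of x, the
residue field extension κ(x)/κ(f x) is separable (formally smooth), and x is not the generic point
of any irreducible component of the fibre over f x, i.e. (the fibre being smooth over a field near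
x) the maximal ideal of the local ring of the fibre at x is nonzero. Then there are an affine open U
∋ x and a nonzerodivisor h' of Γ(X, U) vanishing at x such that the closed subscheme V(h') of U, an
effective Cartier divisor through x, is smooth over S. -/
theorem result {X S : Scheme.{u}} (f : X ⟶ S) (x : X)
    (W : X.Opens) (hxW : x ∈ W) (hW : Smooth (W.ι ≫ f))
    (hsep : letI := (f.residueFieldMap x).hom.toAlgebra
      Algebra.FormallySmooth (S.residueField (f x)) (X.residueField x))
    (hgen : IsLocalRing.maximalIdeal ↑((f.fiber (f x)).presheaf.stalk (f.asFiber x)) ≠ ⊥) :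
    ∃ (U : X.Opens) (hU : IsAffineOpen U) (hx : x ∈ U) (h' : Γ(X, U)), h' ∈ nonZeroDivisors Γ(X, U) ∧
      X.presheaf.germ U x hx h' ∈ IsLocalRing.maximalIdeal ↑(X.presheaf.stalk x) ∧
      Smooth (Spec.map (CommRingCat.ofHom (Ideal.Quotient.mk (Ideal.span {h'}))) ≫ hU.fromSpec ≫ f) := by
  obtain ⟨σ, hσ, hker⟩ := Groth.Agent.SectionLib.exists_fibre_quotient f x
  have : IsNoetherianRing ((f.fiber (f x)).presheaf.stalk (f.asFiber x)) := by
    let w : (W : Scheme.{u}) := ⟨x, hxW⟩
    let g := W.ι ≫ f
    have := Groth.Agent.EGA43.FibDepth.isNoetherianRing_fiber_stalk g (g w) (g.asFiber w)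
    obtain ⟨σW, hσW, hkW⟩ := Groth.Agent.SectionLib.exists_fibre_quotient g w
    let i : ↑(X.presheaf.stalk x) →+* ↑((W : Scheme.{u}).presheaf.stalk w) := (W.ι.stalkMap w).hom
    have hi : Function.Bijective i := ConcreteCategory.bijective_of_isIso (W.ι.stalkMap w)
    have hτ : Function.Surjective (σW.comp i) := hσW.comp hi.2
    have hk : RingHom.ker (σW.comp i) = RingHom.ker σ := by
      rw [← RingHom.comap_ker, hkW, hker]
      refine Eq.trans ?_ (Ideal.comap_map_of_bijective i hi)
      congr 1
      rw [Ideal.map_map, show (g.stalkMap w).hom = i.comp (f.stalkMap x).hom from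
        congrArg CommRingCat.Hom.hom (Scheme.Hom.stalkMap_comp W.ι f w)]
      rfl
    let θ := RingHom.liftOfSurjective (σW.comp i) hτ ⟨σ, hk.le⟩
    refine isNoetherianRing_of_surjective _ _ θ fun y => ?_
    obtain ⟨a, rfl⟩ := hσ y
    exact ⟨σW (i a), RingHom.liftOfRightInverse_comp_apply (σW.comp i) _ (Function.rightInverse_surjInv hτ) ⟨σ, hk.le⟩ a⟩
  let _ : Algebra (S.presheaf.stalk (f x)) (X.presheaf.stalk x) := (f.stalkMap x).hom.toAlgebra
  have : IsLocalHom (algebraMap (S.presheaf.stalk (f x)) (X.presheaf.stalk x)) :=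
    inferInstanceAs (IsLocalHom (f.stalkMap x).hom)
  have : Algebra.FormallySmooth (IsLocalRing.ResidueField (S.presheaf.stalk (f x)))
      (IsLocalRing.ResidueField (X.presheaf.stalk x)) := by
    have e : (IsLocalRing.ResidueField.instAlgebra : Algebra (IsLocalRing.ResidueField (S.presheaf.stalk (f x)))
        (IsLocalRing.ResidueField (X.presheaf.stalk x))) = (f.residueFieldMap x).hom.toAlgebra :=
      Algebra.algebra_ext _ _ fun r => by
        obtain ⟨a, rfl⟩ := IsLocalRing.residue_surjective r
        rfl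
    rw [e]
    exact hsep
  let M := IsLocalRing.maximalIdeal ↑((f.fiber (f x)).presheaf.stalk (f.asFiber x))
  have hlt : ¬ M ≤ M ^ 2 := fun hle => hgen (Submodule.eq_bot_of_le_smul_of_le_jacobson_bot M M
    (IsNoetherian.noetherian M) (by rwa [smul_eq_mul, ← pow_two]) (IsLocalRing.maximalIdeal_le_jacobson _))
  obtain ⟨z, hzM, hz⟩ := SetLike.not_le_iff_exists.1 hlt
  obtain ⟨h, rfl⟩ := hσ z
  have hM : (IsLocalRing.maximalIdeal (X.presheaf.stalk x)).map σ = M :=
    IsLocalRing.map_maximalIdeal_of_surjective σ hσ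
  have hm : h ∈ IsLocalRing.maximalIdeal (X.presheaf.stalk x) :=
    (IsLocalRing.mem_maximalIdeal _).2 fun hu => (IsLocalRing.mem_maximalIdeal _).1 hzM (hu.map σ)
  have hn : h ∉ (IsLocalRing.maximalIdeal (S.presheaf.stalk (f x))).map
      (algebraMap (S.presheaf.stalk (f x)) (X.presheaf.stalk x)) ⊔
        IsLocalRing.maximalIdeal (X.presheaf.stalk x) ^ 2 := fun hc => hz (by
    have := Ideal.mem_map_of_mem σ hc
    rwa [Ideal.map_sup, show algebraMap (S.presheaf.stalk (f x)) (X.presheaf.stalk x) = (f.stalkMap x).hom from rfl,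
      ← hker, (Ideal.map_eq_bot_iff_le_ker σ).2 le_rfl, bot_sup_eq, Ideal.map_pow, hM] at this)
  obtain ⟨U, hU, hx, h', hg, hnz, hs⟩ := Groth.Agent.FlatMor12.exists_smooth_effCartier f x W hxW hW h hm
    (Groth.Agent.FlatMor12.exists_d_ne_zero h hm hn)
  exact ⟨U, hU, hx, h', hnz, hg ▸ hm, hs⟩

end Groth.Agent.S9724
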