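import Groth.Statements.S9727
import Groth.Agent.FlatMor12.EtaleFibreLift

set_option autoImplicit false
universe u
set_option backward.isDefEq.respectTransparency false
open FlatMor

namespace Groth.Agent.S9727

open AlgebraicGeometry CategoryTheory Limits in
/-- Let f : X ⟶ S be a morphism, x a point of X with image s, and (V, v) ⟶ (X_s, x) an étale
neighbourhood of x in its fibre. Then there is an étale neighbourhood (U, u) ⟶ (X, x) whose fibre
U_s over s admits a morphism of étale neighbourhoods (U_s, u) ⟶ (V, v) over X_s which is an open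
immersion. -/
theorem result {X S V : Scheme.{u}} (f : X ⟶ S) (x : X)
    (g : V ⟶ f.fiber (f x)) [Etale g] (v : V) (hv : g v = f.asFiber x) :
    ∃ (U : Scheme.{u}) (p : U ⟶ X) (u : U) (m : (p ≫ f).fiber (f x) ⟶ V) (u' : ↑((p ≫ f).fiber (f x))),
      Etale p ∧ p u = x ∧ IsOpenImmersion m ∧ m ≫ g = MoreMor.fiberMap p f (f x) ∧
      (p ≫ f).fiberι (f x) u' = u ∧ m u' = v := by
  classical
  let s := f x
  let xs := f.asFiber x
  obtain ⟨A₀, hA₀, hsA, -⟩ := exists_isAffineOpen_mem_and_subset (x := s) (U := ⊤) trivial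
  obtain ⟨U₀, hU₀, hxU, hUA⟩ := exists_isAffineOpen_mem_and_subset (x := x) (U := f ⁻¹ᵁ A₀) hsA
  let A := Γ(S, A₀)
  let B := Γ(X, U₀)
  let e : U₀ ≤ f ⁻¹ᵁ A₀ := hUA
  let k := S.residueField s
  let ev := S.evaluation A₀ s hsA
  let _ : Algebra A B := (f.appLE A₀ U₀ e).hom.toAlgebra
  let _ : Algebra A k := ev.hom.toAlgebra
  let T := TensorProduct A k B
  let _ : Algebra B T := Algebra.TensorProduct.rightAlgebra
  let a : CommRingCat.of A ⟶ CommRingCat.of B := CommRingCat.ofHom (algebraMap A B)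
  let iB : CommRingCat.of B ⟶ CommRingCat.of T := CommRingCat.ofHom (algebraMap B T)
  let iK : CommRingCat.of k ⟶ CommRingCat.of T := CommRingCat.ofHom (algebraMap k T)
  have hTpo : IsPushout (CommRingCat.ofHom (algebraMap A k)) a iK iB := by
    rw [CommRingCat.isPushout_iff_isPushout]; infer_instance
  have h0 : IsPullback (Spec.map iB) (Spec.map iK) (Spec.map a ≫ hA₀.fromSpec)
      (Spec.map (CommRingCat.ofHom (algebraMap A k)) ≫ hA₀.fromSpec) := by
    have h := (AlgebraicGeometry.isPullback_SpecMap_of_isPushout _ _ _ _ hTpo).flip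
    exact ⟨⟨by rw [reassoc_of% h.w]⟩, ⟨PullbackCone.isLimitOfCompMono _ _ hA₀.fromSpec h.cone h.isLimit⟩⟩
  have hk : Spec.map (CommRingCat.ofHom (algebraMap A k)) ≫ hA₀.fromSpec = S.fromSpecResidueField s := by
    show Spec.map ev ≫ _ = _
    rw [show ev = S.presheaf.germ A₀ s hsA ≫ S.residue s from rfl, Spec.map_comp, Category.assoc,
      Scheme.fromSpecResidueField, ← hA₀.fromSpecStalk_eq_fromSpecStalk hsA]
    rfl
  have ha : Spec.map a ≫ hA₀.fromSpec = hU₀.fromSpec ≫ f := hA₀.SpecMap_appLE_fromSpec f hU₀ e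
  rw [hk, ha] at h0
  let j : Spec (CommRingCat.of T) ⟶ f.fiber s :=
    pullback.lift (Spec.map iB ≫ hU₀.fromSpec) (Spec.map iK) (by rw [Category.assoc]; exact h0.w)
  have hj1 : j ≫ f.fiberι s = Spec.map iB ≫ hU₀.fromSpec := pullback.lift_fst _ _ _
  have hj2 : j ≫ pullback.snd f (S.fromSpecResidueField s) = Spec.map iK := pullback.lift_snd _ _ _
  have hsq : IsPullback (Spec.map iB) j hU₀.fromSpec (f.fiberι s) :=
    IsPullback.of_bot (by rw [hj2]; exact h0) hj1.symm (IsPullback.of_hasPullback f (S.fromSpecResidueField s))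
  have : IsOpenImmersion j := MorphismProperty.of_isPullback hsq inferInstance
  have hxs : xs ∈ j.opensRange := by
    show xs ∈ Set.range j
    obtain ⟨b, hb⟩ : f.fiberι s xs ∈ Set.range hU₀.fromSpec := by
      rw [Scheme.Hom.fiberι_asFiber, hU₀.range_fromSpec]; exact hxU
    obtain ⟨z, -, hz⟩ := Scheme.Pullback.exists_preimage_pullback b xs hb
    refine ⟨hsq.isoPullback.inv z, ?_⟩
    rw [← Scheme.Hom.comp_apply, hsq.isoPullback_inv_snd, hz]
  obtain ⟨W, hW, hvW, hWj⟩ := exists_isAffineOpen_mem_and_subset (x := v) (U := g ⁻¹ᵁ j.opensRange)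
    (show g v ∈ j.opensRange from hv ▸ hxs)
  let γ : Spec Γ(V, W) ⟶ Spec (CommRingCat.of T) := IsOpenImmersion.lift j (hW.fromSpec ≫ g) (by
    rintro _ ⟨z, rfl⟩
    have : hW.fromSpec z ∈ W := by
      have := Set.mem_range_self (f := hW.fromSpec) z
      rwa [hW.range_fromSpec] at this
    exact hWj this)
  have hγ : γ ≫ j = hW.fromSpec ≫ g := IsOpenImmersion.lift_fac _ _ _
  have : Etale (γ ≫ j) := by rw [hγ]; infer_instance
  have : Etale γ := MorphismProperty.of_postcomp (W := @Etale) (W' := @IsOpenImmersion) γ j inferInstance inferInstance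
  obtain ⟨ω, hω⟩ := Spec.map_surjective γ
  let _ : Algebra T Γ(V, W) := ω.hom.toAlgebra
  have : Algebra.Etale T Γ(V, W) := by
    rw [← RingHom.etale_algebraMap]
    exact (HasRingHomProperty.Spec_iff (P := @Etale)).1 (show Etale (Spec.map ω) by rw [hω]; infer_instance)
  let q := (hW.primeIdealOf ⟨v, hvW⟩)
  obtain ⟨h, hhq, hstd⟩ := Algebra.IsEtaleAt.exists_isStandardEtale (R := T) q.asIdeal
  let C := Localization.Away h
  let _ : Algebra B C := ((algebraMap T C).comp (algebraMap B T)).toAlgebra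
  have : IsScalarTower B T C := .of_algebraMap_eq' rfl
  have hclear : ∀ r : k, ∃ m b : A, IsUnit (algebraMap A k m) ∧ algebraMap A k m * r = algebraMap A k b := fun r => by
    obtain ⟨z, rfl⟩ := IsLocalRing.residue_surjective r
    let _ := S.presheaf.algebra_section_stalk ⟨s, hsA⟩
    have := hA₀.isLocalization_stalk ⟨s, hsA⟩
    obtain ⟨⟨b, m⟩, hbm⟩ := IsLocalization.surj (hA₀.primeIdealOf ⟨s, hsA⟩).asIdeal.primeCompl z
    refine ⟨m.1, b, ?_, ?_⟩
    · exact (IsLocalization.map_units (S.presheaf.stalk s) m).map (S.residue s).hom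
    · show S.residue s _ * S.residue s z = S.residue s _
      rw [← map_mul, mul_comm]
      exact congrArg _ hbm
  let M : Submonoid B := (IsUnit.submonoid T).comap (algebraMap B T).toMonoidHom
  have hcl : ∀ z : T, ∃ m ∈ M, ∃ b, algebraMap B T m * z = algebraMap B T b := fun z => by
    induction z using TensorProduct.induction_on with
    | zero => exact ⟨1, M.one_mem, 0, by simp⟩
    | add z w hz hw =>
      obtain ⟨m, hm, b, hb⟩ := hz
      obtain ⟨n, hn, c, hc⟩ := hw
      exact ⟨m * n, M.mul_mem hm hn, n * b + m * c, by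
        rw [map_add, map_mul, map_mul, map_mul, ← hb, ← hc]; ring⟩
    | tmul r b =>
      obtain ⟨m, b', hm, hr⟩ := hclear r
      have key : ∀ a : A, algebraMap B T (algebraMap A B a) = algebraMap k T (algebraMap A k a) := fun a => by
        show (1 : k) ⊗ₜ[A] algebraMap A B a = algebraMap A k a ⊗ₜ[A] (1 : B)
        rw [Algebra.algebraMap_eq_smul_one, Algebra.algebraMap_eq_smul_one, TensorProduct.smul_tmul]
      refine ⟨algebraMap A B m, ?_, algebraMap A B b' * b, ?_⟩
      · show IsUnit (algebraMap B T (algebraMap A B m))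
        rw [key]; exact hm.map _
      · rw [map_mul, key, key, ← hr, map_mul,
          show r ⊗ₜ[A] b = algebraMap k T r * algebraMap B T b from by
            show _ = (r ⊗ₜ[A] (1 : B)) * ((1 : k) ⊗ₜ[A] b)
            rw [Algebra.TensorProduct.tmul_mul_tmul, mul_one, one_mul]]
        ring
  obtain ⟨L, _, _, _, _, hL, hpo⟩ := Groth.Agent.FlatMor12.exists_etale_lift_standard M (fun m hm => hm) hcl C
  let lB : CommRingCat.of B ⟶ CommRingCat.of L := CommRingCat.ofHom (algebraMap B L)
  let cT : CommRingCat.of T ⟶ CommRingCat.of C := CommRingCat.ofHom (algebraMap T C)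
  let cL : CommRingCat.of L ⟶ CommRingCat.of C := CommRingCat.ofHom (algebraMap L C)
  have hpoC : IsPushout iB lB cT cL := by
    rw [CommRingCat.isPushout_iff_isPushout]; exact hpo
  have h1 : IsPullback (Spec.map cL) (Spec.map cT) (Spec.map lB) (Spec.map iB) :=
    (AlgebraicGeometry.isPullback_SpecMap_of_isPushout _ _ _ _ hpoC).flip
  let p := Spec.map lB ≫ hU₀.fromSpec
  have : Etale (Spec.map lB) := (HasRingHomProperty.Spec_iff (P := @Etale)).2 (RingHom.etale_algebraMap.2 hL)
  have hp : Etale p := inferInstanceAs (Etale (Spec.map lB ≫ hU₀.fromSpec))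
  have h2 : IsPullback (Spec.map cL) (Spec.map cT ≫ j) p (f.fiberι s) := h1.paste_vert hsq
  have h3 : IsPullback (Spec.map cL) ((Spec.map cT ≫ j) ≫ pullback.snd f (S.fromSpecResidueField s))
      (p ≫ f) (S.fromSpecResidueField s) :=
    h2.paste_vert (IsPullback.of_hasPullback f (S.fromSpecResidueField s))
  let i := h3.isoPullback
  let w : Spec (CommRingCat.of C) ⟶ V :=
    Spec.map (CommRingCat.ofHom (algebraMap Γ(V, W) C)) ≫ hW.fromSpec
  have : IsOpenImmersion (Spec.map (CommRingCat.ofHom (algebraMap Γ(V, W) C))) :=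
    IsOpenImmersion.of_isLocalization h
  have hw : w ≫ g = Spec.map cT ≫ j := by
    show (_ ≫ hW.fromSpec) ≫ g = _
    rw [Category.assoc, ← hγ, ← hω, ← Category.assoc, ← Spec.map_comp]
    rfl
  let q' : PrimeSpectrum C := PrimeSpectrum.mk (q.asIdeal.map (algebraMap Γ(V, W) C))
    (IsLocalization.isPrime_of_isPrime_disjoint (Submonoid.powers h) C _ inferInstance
      (Set.disjoint_left.2 fun _ ⟨n, hn⟩ hq => hhq (Ideal.IsPrime.mem_of_pow_mem inferInstance n (by rwa [show h ^ n = _ from hn]))))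
  have hq' : w q' = v := by
    show hW.fromSpec (Spec.map (CommRingCat.ofHom (algebraMap Γ(V, W) C)) q') = v
    refine Eq.trans ?_ (hW.fromSpec_primeIdealOf ⟨v, hvW⟩)
    refine congrArg (fun z => hW.fromSpec z) ?_
    exact PrimeSpectrum.ext (IsLocalization.comap_map_of_isPrime_disjoint (Submonoid.powers h) C inferInstance
      (Set.disjoint_left.2 fun _ ⟨n, hn⟩ hq => hhq (Ideal.IsPrime.mem_of_pow_mem inferInstance n (by rwa [show h ^ n = _ from hn]))))
  refine ⟨Spec (CommRingCat.of L), p, Spec.map cL q', i.inv ≫ w, i.hom q', hp, ?_, inferInstance, ?_, ?_, ?_⟩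
  · rw [← Scheme.Hom.comp_apply, h2.w, Category.assoc, Scheme.Hom.comp_apply, Scheme.Hom.comp_apply,
      ← Scheme.Hom.comp_apply (Spec.map cT), ← hw, Scheme.Hom.comp_apply, hq', hv, Scheme.Hom.fiberι_asFiber]
  · refine (Category.assoc _ _ _).trans ((Iso.inv_comp_eq i).2 (hw.trans ?_))
    refine pullback.hom_ext ?_ ?_
    · refine Eq.trans ?_ (Category.assoc _ _ _).symm
      refine Eq.trans ?_ (congrArg (fun t => i.hom ≫ t) (pullback.lift_fst _ _ _).symm)
      show (Spec.map cT ≫ j) ≫ f.fiberι s = i.hom ≫ pullback.fst _ _ ≫ p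
      rw [← reassoc_of% h3.isoPullback_hom_fst.symm]
      exact h2.w.symm
    · refine Eq.trans ?_ (Category.assoc _ _ _).symm
      refine Eq.trans ?_ (congrArg (fun t => i.hom ≫ t) (pullback.lift_snd _ _ _).symm)
      exact h3.isoPullback_hom_snd.symm
  · exact congrArg (fun t : Spec (CommRingCat.of C) ⟶ Spec (CommRingCat.of L) => t q') h3.isoPullback_hom_fst
  · exact (congrArg (fun t : Spec (CommRingCat.of C) ⟶ V => t q') (Iso.hom_inv_id_assoc i w)).trans hq'

end Groth.Agent.S9727
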