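import Groth.Statements.S9728
import Groth.Agent.Synt15.LCIPermanence

set_option autoImplicit false
universe u
open FlatMor

namespace Groth.Agent.S9728

open AlgebraicGeometry CategoryTheory Limits in
/-- Given S-schemes U, P, P' with P and P' smooth over S, immersions i : U ⟶ P and i' : U ⟶ P'
compatible with the structure maps to S, and a point u of U, some restriction of i to an open
neighbourhood of u is a Koszul-regular immersion exactly when some restriction of i' to an open
neighbourhood of u is. -/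
theorem result {S U P P' : Scheme.{u}} (q : U ⟶ S)
    (p : P ⟶ S) (p' : P' ⟶ S) [Smooth p] [Smooth p'] (i : U ⟶ P) (i' : U ⟶ P') [IsImmersion i] [IsImmersion i']
    (hi : i ≫ p = q) (hi' : i' ≫ p' = q) (u : U) :
    (∃ V : U.Opens, u ∈ V ∧ RegImm.IsRegularImmersion RegImm.Kind.koszul (V.ι ≫ i)) ↔
      (∃ V : U.Opens, u ∈ V ∧ RegImm.IsRegularImmersion RegImm.Kind.koszul (V.ι ≫ i')) := by
  have key : ∀ (R : Scheme.{u}) (r : R ⟶ S) [Smooth r] (j : U ⟶ R) [IsImmersion j], j ≫ r = q →
      ((∃ V : U.Opens, u ∈ V ∧ RegImm.IsRegularImmersion RegImm.Kind.koszul (V.ι ≫ j)) ↔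
        Groth.Agent.FlatMorKoszul.IsKoszulPt q u) := by
    intro R r _ j _ hj
    constructor
    · rintro ⟨V, hu, hV⟩
      have h1 := Groth.Agent.Synt15.isKoszulPt_of_isRegularImmersion _ hV (⟨u, hu⟩ : V)
      have h2 := Groth.Agent.Synt15.isKoszulPt_comp (V.ι ≫ j) r h1 (Groth.Agent.Synt15.isKoszulPt_of_smooth r _)
      rw [Category.assoc, hj] at h2
      exact Groth.Agent.Synt15.isKoszulPt_of_openImmersion_comp V.ι q h2
    · rintro ⟨V, W, hV, hW, hVW, hu, hl⟩
      refine ⟨V, hu, Groth.Agent.Synt15.isRegularImmersion_of_isKoszulPt (V.ι ≫ j) fun x => ?_⟩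
      refine Groth.Agent.Synt15.isKoszulPt_of_comp_smooth (V.ι ≫ j) r ?_
      rw [Category.assoc, hj]
      exact Groth.Agent.Synt15.isKoszulPt_comp V.ι q (Groth.Agent.Synt15.isKoszulPt_of_smooth V.ι x)
        ⟨V, W, hV, hW, hVW, x.2, hl⟩
  exact (key P p i hi).trans (key P' p' i' hi').symm

end Groth.Agent.S9728
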