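import Groth.Statements.S9729
import Groth.Agent.Synt15.LCIPermanence

set_option autoImplicit false
universe u
open FlatMor

namespace Groth.Agent.S9729

open AlgebraicGeometry CategoryTheory Limits in
/-- Let f : X ⟶ Y and g : Y ⟶ S be morphisms with g smooth. If f ≫ g is a local complete intersection
morphism (Koszul at every point of X) then f is a local complete intersection morphism. -/
theorem result {X Y S : Scheme.{u}} (f : X ⟶ Y) (g : Y ⟶ S) [Smooth g]
    (h : ∀ x : X, Synt.IsKoszulAt (f ≫ g) x) (x : X) : Synt.IsKoszulAt f x := by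
  exact Groth.Agent.Synt15.isKoszulAt_of_isKoszulPt _ (Groth.Agent.Synt15.isKoszulPt_of_comp_smooth f g
    (Groth.Agent.Synt15.isKoszulPt_of_isKoszulAt _ (h x)))

end Groth.Agent.S9729
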