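import Groth.Statements.S9736
import Groth.Agent.Synt15.Descent

set_option autoImplicit false
universe u
open FlatMor

namespace Groth.Agent.S9736

open AlgebraicGeometry CategoryTheory Limits in
/-- Let f : X ⟶ S be a standard syntomic morphism of affine schemes. Then f is the base change of a
morphism of finite type f₀ : X₀ ⟶ S₀ between affine schemes with S₀ of finite type over ℤ and f₀
standard syntomic. -/
theorem result {X S : Scheme.{u}} (f : X ⟶ S) [IsAffine X] [IsAffine S] (hf : Synt.IsStandardSyntomic f) :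
    ∃ (X₀ S₀ : Scheme.{u}) (f₀ : X₀ ⟶ S₀) (g : S ⟶ S₀) (g' : X ⟶ X₀), IsAffine X₀ ∧ IsAffine S₀ ∧ IsPullback g' f f₀ g ∧
      Algebra.FiniteType ℤ Γ(S₀, ⊤) ∧ LocallyOfFiniteType f₀ ∧ Synt.IsStandardSyntomic f₀ := by
  obtain ⟨R, _, n, c, F, hF, e₁, e₂, he⟩ := hf
  obtain ⟨R₀, F₀, hft, hmap, hF₀⟩ := Groth.Agent.Synt15.exists_descent hF
  obtain ⟨eb, heb⟩ := Groth.Agent.Synt15.exists_baseChangeEquiv (K := R) F₀
  rw [show (fun i => MvPolynomial.map (algebraMap R₀ R) (F₀ i)) = F from funext hmap] at eb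
  let A₀ := Synt.RelGCIRing R₀ n c F₀
  let A := Synt.RelGCIRing R n c F
  have h0 := (CommRingCat.isPushout_tensorProduct R₀ R A₀).flip
  let j : A₀ →+* A := eb.toRingHom.comp (Algebra.TensorProduct.includeRight : A₀ →ₐ[R₀] _).toRingHom
  have h1 : IsPushout (CommRingCat.ofHom (algebraMap R₀ A₀)) (CommRingCat.ofHom (algebraMap R₀ R))
      (CommRingCat.ofHom j) (CommRingCat.ofHom (algebraMap R A)) := by
    refine h0.of_iso (Iso.refl _) (Iso.refl _) (Iso.refl _) eb.toRingEquiv.toCommRingCatIso ?_ ?_ ?_ ?_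
    · simp
    · simp
    · rfl
    · ext x
      show eb (x ⊗ₜ 1) = algebraMap R A x
      exact eb.commutes x
  have h2 := isPullback_SpecMap_of_isPushout _ _ _ _ h1
  refine ⟨_, _, Spec.map (CommRingCat.ofHom (algebraMap R₀ A₀)), e₂.hom ≫ Spec.map (CommRingCat.ofHom (algebraMap R₀ R)),
    e₁.hom ≫ Spec.map (CommRingCat.ofHom j), inferInstance, inferInstance, ?_, ?_, ?_,
    ⟨R₀, inferInstance, n, c, F₀, hF₀, Iso.refl _, Iso.refl _, by simp [A₀]⟩⟩
  · exact h2.of_iso e₁.symm (Iso.refl _) e₂.symm (Iso.refl _) (by simp) (by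
      simp only [Iso.symm_hom]
      rw [← cancel_epi e₁.hom, Iso.hom_inv_id_assoc, ← Category.assoc, he, Category.assoc, Iso.hom_inv_id,
        Category.comp_id]) (by simp) (by simp)
  · exact Algebra.FiniteType.equiv hft
      (AlgEquiv.ofRingEquiv (f := (Scheme.ΓSpecIso (CommRingCat.of R₀)).commRingCatIsoToRingEquiv.symm) (fun z => by simp))
  · haveI : Algebra.FiniteType R₀ A₀ := inferInstance
    exact (HasRingHomProperty.Spec_iff (P := @LocallyOfFiniteType)).2 (RingHom.finiteType_algebraMap.2 inferInstance)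

end Groth.Agent.S9736
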