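import Groth.Statements.S9737
import Groth.Agent.FlatMor12.Combine.Descend

set_option autoImplicit false
set_option backward.isDefEq.respectTransparency false
universe u
open FlatMor TensorProduct

namespace Groth.Agent.S9737

open AlgebraicGeometry CategoryTheory Limits in
theorem aux_stage {X S S₁ : Scheme.{u}} [IsAffine X] [IsAffine S] [IsAffine S₁] (f : X ⟶ S)
    {X₁ : Scheme.{u}} [IsAffine X₁] (f₁ : X₁ ⟶ S₁) [LocallyOfFiniteType f₁] (g₁ : S ⟶ S₁) (g₁' : X ⟶ X₁)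
    (h : IsPullback g₁' f f₁ g₁) (A₀ : Subalgebra ℤ Γ(S, ⊤)) [Algebra.FiniteType ℤ A₀]
    (ψ : Γ(S₁, ⊤) →+* A₀) (hψ : A₀.val.toRingHom.comp ψ = g₁.appTop.hom) :
    ∃ (C : Type u) (_ : CommRing C) (_ : Algebra A₀ C) (ε : X ≅ Spec (.of (Γ(S, ⊤) ⊗[A₀] C)))
      (k : Spec (.of C) ⟶ X₁),
      Algebra.FinitePresentation A₀ C ∧
      ε.hom ≫ Spec.map (CommRingCat.ofHom (Algebra.TensorProduct.includeLeftRingHom)) = f ≫ S.isoSpec.hom ∧
      IsPullback k (Spec.map (CommRingCat.ofHom (algebraMap A₀ C))) f₁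
        (Spec.map (CommRingCat.ofHom ψ) ≫ S₁.isoSpec.inv) := by
  let h₁ : Spec (.of A₀) ⟶ S₁ := Spec.map (CommRingCat.ofHom ψ) ≫ S₁.isoSpec.inv
  let Y := pullback f₁ h₁
  let c : CommRingCat.of A₀ ⟶ Γ(Y, ⊤) := (Scheme.ΓSpecIso (.of A₀)).inv ≫ (pullback.snd f₁ h₁).appTop
  algebraize [c.hom]
  have hc : Y.isoSpec.hom ≫ Spec.map c = pullback.snd f₁ h₁ := by
    rw [Spec.map_comp, ← Category.assoc, Scheme.isoSpec_hom_naturality, Category.assoc]
    have : (Spec (CommRingCat.of A₀)).isoSpec.hom ≫ Spec.map (Scheme.ΓSpecIso (.of A₀)).inv = 𝟙 _ := by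
      rw [Scheme.isoSpec_Spec_hom, ← Spec.map_comp, Iso.inv_hom_id, Spec.map_id]
    rw [this, Category.comp_id]
  have hft : Algebra.FiniteType A₀ Γ(Y, ⊤) := by
    have h' : LocallyOfFiniteType (Y.isoSpec.inv ≫ pullback.snd f₁ h₁) := inferInstance
    rw [← hc, Iso.inv_hom_id_assoc] at h'
    exact (HasRingHomProperty.Spec_iff (P := @LocallyOfFiniteType)).1 h'
  haveI : IsNoetherianRing A₀ := Algebra.FiniteType.isNoetherianRing ℤ A₀
  -- the square over `Spec A₀`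
  have hY : IsPullback (Y.isoSpec.inv ≫ pullback.fst f₁ h₁) (Spec.map c) f₁ h₁ :=
    (IsPullback.of_hasPullback f₁ h₁).of_iso Y.isoSpec (Iso.refl _) (Iso.refl _) (Iso.refl _)
      (by simp) (by simp [hc]) (by simp) (by simp)
  let gA : S ⟶ Spec (.of A₀) := S.isoSpec.hom ≫ Spec.map (CommRingCat.ofHom A₀.val.toRingHom)
  have hg : gA ≫ h₁ = g₁ := by
    simp only [gA, h₁, Category.assoc]
    rw [← Spec.map_comp_assoc, ← CommRingCat.ofHom_comp, hψ]
    show S.isoSpec.hom ≫ Spec.map g₁.appTop ≫ S₁.isoSpec.inv = g₁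
    rw [Scheme.isoSpec_hom_naturality_assoc, Iso.hom_inv_id, Category.comp_id]
  have hw : g₁' ≫ f₁ = (f ≫ gA) ≫ h₁ := by rw [Category.assoc, hg, h.w]
  have hX : IsPullback (hY.lift g₁' (f ≫ gA) hw) f (Spec.map c) gA :=
    IsPullback.of_right (by rw [IsPullback.lift_fst, hg]; exact h) (IsPullback.lift_snd ..) hY
  have hX' : IsPullback (hY.lift g₁' (f ≫ gA) hw) (f ≫ S.isoSpec.hom) (Spec.map c)
      (Spec.map (CommRingCat.ofHom A₀.val.toRingHom)) :=
    hX.of_iso (Iso.refl _) (Iso.refl _) S.isoSpec (Iso.refl _) (by simp) (by simp) (by simp) (by simp [gA])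
  have sq := (isPullback_SpecMap_of_isPushout _ _ _ _
    (CommRingCat.isPushout_tensorProduct A₀ Γ(S, ⊤) Γ(Y, ⊤))).flip
  refine ⟨Γ(Y, ⊤), inferInstance, inferInstance, hX'.isoIsPullback _ _ sq, Y.isoSpec.inv ≫ pullback.fst f₁ h₁,
    Algebra.FinitePresentation.of_finiteType.1 hft, hX'.isoIsPullback_hom_snd _ _ sq, hY⟩

open AlgebraicGeometry CategoryTheory Limits in
/-- Suppose P and Q are classes of morphisms of schemes preserved by arbitrary pullback, and f : X ⟶ S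
is a finitely presented morphism of affine schemes. If f arises by pullback from a finite-type
morphism f₁ : X₁ ⟶ S₁ satisfying P, and also from a finite-type morphism f₂ : X₂ ⟶ S₂ satisfying Q,
where all four schemes are affine and Γ(S₁), Γ(S₂) are finitely generated ℤ-algebras, then f arises
by pullback from a single finite-type morphism f₀ : X₀ ⟶ S₀ of affine schemes, with Γ(S₀) finitely
generated over ℤ, satisfying both P and Q. -/
theorem result (P Q : MorphismProperty Scheme.{u}) [P.IsStableUnderBaseChange] [Q.IsStableUnderBaseChange]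
    {X S : Scheme.{u}} (f : X ⟶ S) [IsAffine X] [IsAffine S] [LocallyOfFinitePresentation f]
    {X₁ S₁ X₂ S₂ : Scheme.{u}} [IsAffine X₁] [IsAffine S₁] [IsAffine X₂] [IsAffine S₂]
    (f₁ : X₁ ⟶ S₁) (g₁ : S ⟶ S₁) (g₁' : X ⟶ X₁) (h₁ : IsPullback g₁' f f₁ g₁)
    (f₂ : X₂ ⟶ S₂) (g₂ : S ⟶ S₂) (g₂' : X ⟶ X₂) (h₂ : IsPullback g₂' f f₂ g₂)
    (hS₁ : Algebra.FiniteType ℤ Γ(S₁, ⊤)) (hS₂ : Algebra.FiniteType ℤ Γ(S₂, ⊤))
    [LocallyOfFiniteType f₁] [LocallyOfFiniteType f₂] (hP : P f₁) (hQ : Q f₂) :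
    ∃ (X₀ S₀ : Scheme.{u}) (f₀ : X₀ ⟶ S₀) (g : S ⟶ S₀) (g' : X ⟶ X₀), IsAffine X₀ ∧ IsAffine S₀ ∧ IsPullback g' f f₀ g ∧
      Algebra.FiniteType ℤ Γ(S₀, ⊤) ∧ LocallyOfFiniteType f₀ ∧ P f₀ ∧ Q f₀ := by
  let φ₁ := g₁.appTop.hom.toIntAlgHom
  let φ₂ := g₂.appTop.hom.toIntAlgHom
  let A₀ : Subalgebra ℤ Γ(S, ⊤) := φ₁.range ⊔ φ₂.range
  haveI : Algebra.FiniteType ℤ A₀ := (Subalgebra.fg_iff_finiteType A₀).1 (Subalgebra.FG.sup
    (by rw [← Algebra.map_top]; exact hS₁.out.map φ₁) (by rw [← Algebra.map_top]; exact hS₂.out.map φ₂))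
  obtain ⟨C₁, _, _, ε₁, k₁, hC₁, hε₁, hY₁⟩ := aux_stage f f₁ g₁ g₁' h₁ A₀
    (((Subalgebra.inclusion (le_sup_left : φ₁.range ≤ A₀)).comp φ₁.rangeRestrict).toRingHom) rfl
  obtain ⟨C₂, _, _, ε₂, k₂, hC₂, hε₂, hY₂⟩ := aux_stage f f₂ g₂ g₂' h₂ A₀
    (((Subalgebra.inclusion (le_sup_right : φ₂.range ≤ A₀)).comp φ₂.rangeRestrict).toRingHom) rfl
  -- the comparison over the limit
  let r : CommRingCat.of (Γ(S, ⊤) ⊗[A₀] C₁) ≅ CommRingCat.of (Γ(S, ⊤) ⊗[A₀] C₂) :=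
    (Scheme.Spec.preimageIso (ε₂.symm ≪≫ ε₁)).unop
  have hr : CommRingCat.ofHom Algebra.TensorProduct.includeLeftRingHom ≫ r.hom =
      CommRingCat.ofHom (Algebra.TensorProduct.includeLeftRingHom (R := A₀) (A := Γ(S, ⊤)) (B := C₂)) := by
    apply Spec.map_injective
    rw [Spec.map_comp]
    have : Spec.map r.hom = (ε₂.symm ≪≫ ε₁).hom := by
      simp [r]
      exact Scheme.Spec.map_preimage _
    rw [this, Iso.trans_hom, Iso.symm_hom, Category.assoc, hε₁, ← hε₂, Iso.inv_hom_id_assoc]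
  let e : Γ(S, ⊤) ⊗[A₀] C₁ ≃ₐ[Γ(S, ⊤)] Γ(S, ⊤) ⊗[A₀] C₂ :=
    AlgEquiv.ofRingEquiv (f := r.commRingCatIsoToRingEquiv) fun a => congr($(hr).hom a)
  haveI := hC₁; haveI := hC₂
  obtain ⟨T, hT, ⟨eT⟩⟩ := Groth.Agent.FlatMor12.Combine.exists_stage_algEquiv e
  haveI : Algebra.FiniteType A₀ T := (Subalgebra.fg_iff_finiteType T).1 hT
  haveI : Algebra.FiniteType ℤ T := Algebra.FiniteType.trans (S := A₀) inferInstance inferInstance
  have sqT₁ := (isPullback_SpecMap_of_isPushout _ _ _ _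
    (CommRingCat.isPushout_tensorProduct A₀ T C₁)).flip
  have sqT₂ := (isPullback_SpecMap_of_isPushout _ _ _ _
    (CommRingCat.isPushout_tensorProduct A₀ T C₂)).flip
  let f₀ : Spec (.of (T ⊗[A₀] C₁)) ⟶ Spec (.of T) :=
    Spec.map (CommRingCat.ofHom Algebra.TensorProduct.includeLeftRingHom)
  have hP₀ : P f₀ := MorphismProperty.of_isPullback (sqT₁.paste_horiz hY₁) hP
  have hQ₀ : Q f₀ := by
    have h' := MorphismProperty.of_isPullback (sqT₂.paste_horiz hY₂) hQ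
    have hf₀ : f₀ = (Scheme.Spec.mapIso eT.symm.toRingEquiv.toCommRingCatIso.op).hom ≫
        Spec.map (CommRingCat.ofHom (R := T) (S := T ⊗[A₀] C₂) Algebra.TensorProduct.includeLeftRingHom) := by
      simp only [Scheme.Spec_map, Functor.mapIso_hom, Iso.op_hom, Quiver.Hom.unop_op, f₀]
      rw [← Spec.map_comp]
      congr 1
      ext a
      exact (eT.symm.commutes a).symm
    rw [hf₀]
    exact MorphismProperty.RespectsIso.precomp Q _ _ h'
  have sqS := (isPullback_SpecMap_of_isPushout _ _ _ _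
    (CommRingCat.isPushout_tensorProduct A₀ Γ(S, ⊤) C₁)).flip
  let g : S ⟶ Spec (.of T) := S.isoSpec.hom ≫ Spec.map (CommRingCat.ofHom T.val.toRingHom)
  have hbase : Spec.map (CommRingCat.ofHom (algebraMap A₀ Γ(S, ⊤))) =
      Spec.map (CommRingCat.ofHom T.val.toRingHom) ≫ Spec.map (CommRingCat.ofHom (algebraMap A₀ T)) := by
    rw [← Spec.map_comp]; rfl
  have hX : IsPullback (ε₁.hom ≫ Spec.map (CommRingCat.ofHom Algebra.TensorProduct.includeRight.toRingHom)) f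
      (Spec.map (CommRingCat.ofHom (algebraMap A₀ C₁))) (g ≫ Spec.map (CommRingCat.ofHom (algebraMap A₀ T))) :=
    sqS.of_iso ε₁.symm (Iso.refl _) S.isoSpec.symm (Iso.refl _) (by simp)
      (by
        rw [← cancel_epi ε₁.hom]
        refine ((reassoc_of% hε₁) S.isoSpec.inv).trans ?_
        simp) (by simp) (by simp [g, hbase])
  refine ⟨_, _, f₀, g, sqT₁.lift (ε₁.hom ≫ Spec.map (CommRingCat.ofHom Algebra.TensorProduct.includeRight.toRingHom))
    (f ≫ g) (by rw [Category.assoc f g]; exact hX.w), inferInstance, inferInstance,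
    IsPullback.of_right ?_ (IsPullback.lift_snd ..) sqT₁, ?_, ?_, hP₀, hQ₀⟩
  · rw [IsPullback.lift_fst]; exact hX
  · exact Algebra.FiniteType.equiv ‹Algebra.FiniteType ℤ T›
      (Scheme.ΓSpecIso (.of T)).commRingCatIsoToRingEquiv.symm.toIntAlgEquiv
  · exact MorphismProperty.of_isPullback (sqT₁.paste_horiz hY₁) ‹LocallyOfFiniteType f₁›

end Groth.Agent.S9737
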