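import Groth.Statements.S9743
import Groth.Agent.Flatn12.RelFPScheme

set_option autoImplicit false
universe u
open Flatn

namespace Groth.Agent.S9743

open AlgebraicGeometry CategoryTheory Limits in
/-- Suppose π : X ⟶ Y is finite, g : Y ⟶ S is locally of finite type, and F is a quasi-coherent
O_X-module. Then F is relatively finitely presented over S via π ≫ g exactly when the direct image
π_*F is relatively finitely presented over S via g. -/
theorem result {X Y S : Scheme.{u}} (π : X ⟶ Y) (g : Y ⟶ S) [IsFinite π] [LocallyOfFiniteType g]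
    (F : X.Modules) [Coh.IsQCoh F] : Flatn.IsRelFP (π ≫ g) F ↔ Flatn.IsRelFP g ((Coh.push π).obj F) := by
  have : Coh.IsQCoh ((Coh.push π).obj F) := Groth.Agent.Coherent.isQCoh_push π F
  constructor
  · intro H
    refine Groth.Agent.Flatn12.isRelFP_of_forall g _ fun W V h => ?_
    rw [Groth.Agent.Flatn12.relFPOn_push_iff F π g W V h (π.preimage_mono h)]
    exact (Groth.Agent.Flatn12.isRelFP_iff_forall (π ≫ g) F).1 H _ V _
  · intro H
    refine Groth.Agent.Flatn12.isRelFP_of_local (π ≫ g) F fun s => ?_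
    obtain ⟨V, hV, hs, -⟩ := TopologicalSpace.Opens.isBasis_iff_nbhd.mp S.isBasis_affineOpens
      (TopologicalSpace.Opens.mem_top s)
    refine ⟨⟨V, hV⟩, hs, fun x hx => ?_⟩
    obtain ⟨W, hW, hxW, hle⟩ := TopologicalSpace.Opens.isBasis_iff_nbhd.mp Y.isBasis_affineOpens
      (show π x ∈ g ⁻¹ᵁ V from hx)
    have h : π ⁻¹ᵁ W ≤ (π ≫ g) ⁻¹ᵁ V := π.preimage_mono hle
    exact ⟨⟨π ⁻¹ᵁ W, hW.preimage π⟩, h, hxW,
      (Groth.Agent.Flatn12.relFPOn_push_iff F π g ⟨W, hW⟩ ⟨V, hV⟩ hle h).1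
        ((Groth.Agent.Flatn12.isRelFP_iff_forall g _).1 H _ _ hle)⟩

end Groth.Agent.S9743
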