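import Groth.Statements.S9744
import Groth.Agent.Flatn12.RelFPScheme

set_option autoImplicit false
universe u
open Flatn

namespace Groth.Agent.S9744

open AlgebraicGeometry CategoryTheory Limits in
/-- Let f : X ⟶ S be locally of finite type and F a quasi-coherent O_X-module of finite presentation
relative to S. For a base change f' : X' ⟶ S' of f along S' ⟶ S with projection g' : X' ⟶ X, the
pullback (g')^*F is of finite presentation relative to S'. -/
theorem result {X S X' S' : Scheme.{u}} (f : X ⟶ S) [LocallyOfFiniteType f] (F : X.Modules) [Coh.IsQCoh F]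
    (g : S' ⟶ S) (f' : X' ⟶ S') (g' : X' ⟶ X) (hc : IsPullback g' f' f g) (hF : Flatn.IsRelFP f F) :
    Flatn.IsRelFP f' ((Scheme.Modules.pullback g').obj F) := by
  refine Groth.Agent.Flatn12.isRelFP_of_local f' _ fun s => ?_
  obtain ⟨V, hV, hs, -⟩ := TopologicalSpace.Opens.isBasis_iff_nbhd.mp S.isBasis_affineOpens
    (TopologicalSpace.Opens.mem_top (g s))
  obtain ⟨V', hV', hs', hle'⟩ := TopologicalSpace.Opens.isBasis_iff_nbhd.mp S'.isBasis_affineOpens
    (show s ∈ g ⁻¹ᵁ V from hs)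
  refine ⟨⟨V', hV'⟩, hs', fun x hx => ?_⟩
  have hxV : f (g' x) ∈ V := by
    rw [← Scheme.Hom.comp_apply, hc.w, Scheme.Hom.comp_apply]
    exact hle' hx
  obtain ⟨U, hU, hxU, hle⟩ := TopologicalSpace.Opens.isBasis_iff_nbhd.mp X.isBasis_affineOpens
    (show g' x ∈ f ⁻¹ᵁ V from hxV)
  let U' : X'.Opens := g' ⁻¹ᵁ U ⊓ f' ⁻¹ᵁ V'
  have : IsAffine (AlgebraicGeometry.Scheme.Opens.toScheme U) := hU
  have : IsAffine (AlgebraicGeometry.Scheme.Opens.toScheme V) := hV
  have : IsAffine (AlgebraicGeometry.Scheme.Opens.toScheme V') := hV'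
  have hU' : IsAffineOpen U' :=
    .of_isIso (Scheme.Hom.isPullback_resLE hc hle' hle (rfl : U' = _)).isoPullback.hom
  exact ⟨⟨U', hU'⟩, inf_le_right, ⟨hxU, hx⟩,
    Groth.Agent.Flatn12.relFPOn_baseChange f F g f' g' hc ⟨U, hU⟩ ⟨V, hV⟩ ⟨U', hU'⟩ ⟨V', hV'⟩ hle
      hle' inf_le_right rfl ((Groth.Agent.Flatn12.isRelFP_iff_forall f F).1 hF _ _ _)⟩

end Groth.Agent.S9744
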