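import Groth.Statements.S9745
import Groth.Agent.Flatn12.RelFPScheme

set_option autoImplicit false
universe u
open Flatn

namespace Groth.Agent.S9745

open AlgebraicGeometry CategoryTheory Limits in
/-- Let f : X ⟶ Y be locally of finite presentation and g : Y ⟶ S locally of finite type, and let G be a
quasi-coherent O_Y-module that is finitely presented relative to S. Then the pullback f^*G is
finitely presented relative to S along f ≫ g. -/
theorem result {X Y S : Scheme.{u}} (f : X ⟶ Y) (g : Y ⟶ S) [LocallyOfFinitePresentation f] [LocallyOfFiniteType g]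
    (G : Y.Modules) [Coh.IsQCoh G] (hG : Flatn.IsRelFP g G) : Flatn.IsRelFP (f ≫ g) ((Scheme.Modules.pullback f).obj G) := by
  refine Groth.Agent.Flatn12.isRelFP_of_local (f ≫ g) _ fun s => ?_
  obtain ⟨V, hV, hs, -⟩ := TopologicalSpace.Opens.isBasis_iff_nbhd.mp S.isBasis_affineOpens
    (TopologicalSpace.Opens.mem_top s)
  refine ⟨⟨V, hV⟩, hs, fun x hx => ?_⟩
  obtain ⟨W, hW, hxW, hWV⟩ := TopologicalSpace.Opens.isBasis_iff_nbhd.mp Y.isBasis_affineOpens
    (show f x ∈ g ⁻¹ᵁ V from hx)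
  obtain ⟨U, hU, hxU, hUW⟩ := TopologicalSpace.Opens.isBasis_iff_nbhd.mp X.isBasis_affineOpens
    (show x ∈ f ⁻¹ᵁ W from hxW)
  have h : U ≤ (f ≫ g) ⁻¹ᵁ V := hUW.trans (f.preimage_mono hWV)
  exact ⟨⟨U, hU⟩, h, hxU,
    (Groth.Agent.Flatn12.relFPOn_pullback f g G ⟨U, hU⟩ ⟨W, hW⟩ ⟨V, hV⟩ hUW hWV h ((Groth.Agent.Flatn12.isRelFP_iff_forall g G).1 hG _ _ _))⟩

end Groth.Agent.S9745
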