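import Groth.Statements.S9746
import Groth.Agent.Flatn12.RelFPScheme

set_option autoImplicit false
universe u
open Flatn

namespace Groth.Agent.S9746

open AlgebraicGeometry CategoryTheory Limits in
/-- Let f : X ⟶ Y be locally of finite type, g : Y ⟶ S locally of finite presentation, and F a
quasi-coherent O_X-module that is finitely presented relative to Y. Then F, viewed over S through
the composite f ≫ g, is finitely presented relative to S. -/
theorem result {X Y S : Scheme.{u}} (f : X ⟶ Y) (g : Y ⟶ S) [LocallyOfFiniteType f] [LocallyOfFinitePresentation g]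
    (F : X.Modules) [Coh.IsQCoh F] (hF : Flatn.IsRelFP f F) : Flatn.IsRelFP (f ≫ g) F := by
  refine Groth.Agent.Flatn12.isRelFP_of_local (f ≫ g) _ fun s => ?_
  obtain ⟨V, hV, hs, -⟩ := TopologicalSpace.Opens.isBasis_iff_nbhd.mp S.isBasis_affineOpens
    (TopologicalSpace.Opens.mem_top s)
  refine ⟨⟨V, hV⟩, hs, fun x hx => ?_⟩
  obtain ⟨W, hW, hxW, hWV⟩ := TopologicalSpace.Opens.isBasis_iff_nbhd.mp Y.isBasis_affineOpens
    (show f x ∈ g ⁻¹ᵁ V from hx)
  obtain ⟨U, hU, hxU, hUW⟩ := TopologicalSpace.Opens.isBasis_iff_nbhd.mp X.isBasis_affineOpens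
    (show x ∈ f ⁻¹ᵁ W from hxW)
  have h : U ≤ (f ≫ g) ⁻¹ᵁ V := hUW.trans (f.preimage_mono hWV)
  exact ⟨⟨U, hU⟩, h, hxU,
    (Groth.Agent.Flatn12.relFPOn_trans F f g ⟨U, hU⟩ ⟨W, hW⟩ ⟨V, hV⟩ hUW hWV h ((Groth.Agent.Flatn12.isRelFP_iff_forall f F).1 hF _ _ _))⟩

end Groth.Agent.S9746
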