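import Groth.Statements.S9748
import Groth.Agent.Flatn12.RelFPScheme

set_option autoImplicit false
universe u
open Flatn

namespace Groth.Agent.S9748

open AlgebraicGeometry CategoryTheory Limits in
/-- Let f : X ⟶ S be locally of finite type and let 0 → F' → F → F'' → 0 be exact in quasi-coherent
O_X-modules. Suppose the submodule F' is of finite type and F has finite presentation relative to
the base S. Then the quotient F'' also has finite presentation relative to S. -/
theorem result {X S : Scheme.{u}} (f : X ⟶ S) [LocallyOfFiniteType f] (E : ShortComplex X.Modules) (hE : E.ShortExact)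
    [Coh.IsQCoh E.X₁] [Coh.IsQCoh E.X₂] [Coh.IsQCoh E.X₃] (h₁ : CohB1.IsFT E.X₁) (h₂ : Flatn.IsRelFP f E.X₂) :
    Flatn.IsRelFP f E.X₃ := by
  refine Groth.Agent.Flatn12.isRelFP_of_forall f _ fun U V h => ?_
  let _ := (f.appLE (V : S.Opens) (U : X.Opens) h).hom.toAlgebra
  have : Module.Finite Γ(X, (U : X.Opens)) Γ(E.X₁, (U : X.Opens)) :=
    Groth.Agent.Coherent.finite_sections E.X₁
      (hM := Groth.Agent.Coherent.locallyFinGen_of_isFT E.X₁ h₁) U.2
  exact Groth.Agent.Flatn12.RelFP.of_quotient (Groth.Agent.Coherent.appLin E.f U)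
    (Groth.Agent.Coherent.appLin E.g U)
    (fun s => ⟨Groth.Agent.Coherent.sections_exact hE s, by
      rintro ⟨t, rfl⟩; exact Groth.Agent.Coherent.sections_zero _ t⟩)
    (Groth.Agent.Coherent.sections_surjective hE U.2)
    ((Groth.Agent.Flatn12.isRelFP_iff_forall f _).1 h₂ U V h)

end Groth.Agent.S9748
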