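import Groth.Statements.S9754
import Groth.Agent.EtLib9.FibreBranches
import Groth.Agent.S9727
import Groth.Agent.S9753
-- import your own Groth.Agent.* helpers here

set_option autoImplicit false
set_option backward.isDefEq.respectTransparency false
set_option linter.all false
universe u
open Brnch

namespace Groth.Agent.S9754
open Groth.Agent.EtLib9.FibreBranches AlgebraicGeometry

open AlgebraicGeometry CategoryTheory Limits in
/-- For a morphism f : X ⟶ S and a point x of X over s = f x, the geometric branch count of the fibre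
X_s at x equals the supremum, over étale neighbourhoods (U, u) of (X, x), of how many irreducible
components of U_s (the fibre of U ⟶ X ⟶ S over s) contain the point of U_s lying over u. -/
theorem result {X S : Scheme.{u}} (f : X ⟶ S) (x : X) :
    Brnch.numGeomBranchesAt (f.fiber (f x)) (f.asFiber x) = ⨆ (U : Scheme.{u}) (g : U ⟶ X) (u : U) (_ : Etale g ∧ g u = x),
      {Z : Set ↑((g ≫ f).fiber (f x)) | Z ∈ irreducibleComponents ↑((g ≫ f).fiber (f x)) ∧
        ∃ u' ∈ Z, (g ≫ f).fiberι (f x) u' = u}.encard := by
  rw [Groth.Agent.S9753.result]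
  refine le_antisymm (iSup_le fun V => iSup_le fun g => iSup_le fun v => iSup_le ?_) ?_
  · revert V g v
    intro V g v h; obtain ⟨hg, hv⟩ := h
    obtain ⟨U, p, u, m, u', hp, hpu, hm, hmg, hu, hm'⟩ := Groth.Agent.S9727.result f x g v hv
    refine le_iSup_of_le U (le_iSup_of_le p (le_iSup_of_le u (le_iSup_of_le ⟨hp, hpu⟩ ?_)))
    subst hu
    rw [setOf_components_eq, encard_components_openImmersion m, hm']
  · refine iSup_le fun U => iSup_le fun g => iSup_le fun u => iSup_le ?_
    revert U g u
    intro U g u h
    obtain ⟨hge, hgu⟩ := h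
    obtain ⟨u', rfl⟩ : u ∈ Set.range ((g ≫ f).fiberι (f x)) := by
      rw [Scheme.Hom.range_fiberι]
      show (g ≫ f) u = f x
      rw [Scheme.Hom.comp_apply, hgu]
    have hq : MoreMor.fiberMap g f (f x) u' = f.asFiber x := by
      apply (f.fiberι (f x)).isEmbedding.injective
      rw [fiberι_fiberMap, hgu, Scheme.Hom.fiberι_asFiber]
    rw [setOf_components_eq]
    exact le_iSup_of_le _ (le_iSup_of_le (MoreMor.fiberMap g f (f x)) (le_iSup_of_le u'
      (le_iSup_of_le ⟨etale_fiberMap g f (f x), hq⟩ le_rfl)))

end Groth.Agent.S9754
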