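import Groth.Statements.S9755
import Groth.Agent.EtLib9.FibreBranches
import Groth.Agent.S9727
import Groth.Agent.S9752
-- import your own Groth.Agent.* helpers here

set_option autoImplicit false
set_option backward.isDefEq.respectTransparency false
set_option linter.all false
universe u
open Brnch

namespace Groth.Agent.S9755
open Groth.Agent.EtLib9.FibreBranches AlgebraicGeometry

open AlgebraicGeometry CategoryTheory Limits in
/-- For f : X ⟶ S and x ∈ X lying over s, the branch number of the fibre X_s at x equals the supremum,
over elementary étale neighbourhoods (U, u) of (X, x) (étale, u ↦ x, trivial residue field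
extension), of how many irreducible components of U_s contain the point of U_s above u. -/
theorem result {X S : Scheme.{u}} (f : X ⟶ S) (x : X) :
    Brnch.numBranchesAt (f.fiber (f x)) (f.asFiber x) = ⨆ (U : Scheme.{u}) (g : U ⟶ X) (u : U) (_ : Hens2.IsEtaleNbhd g u x),
      {Z : Set ↑((g ≫ f).fiber (f x)) | Z ∈ irreducibleComponents ↑((g ≫ f).fiber (f x)) ∧
        ∃ u' ∈ Z, (g ≫ f).fiberι (f x) u' = u}.encard := by
  rw [Groth.Agent.S9752.result]
  refine le_antisymm (iSup_le fun V => iSup_le fun g => iSup_le fun v => iSup_le ?_) ?_
  · revert V g v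
    intro V g v h; have hg : Etale g := h.etale; have hv : g v = f.asFiber x := h.base_eq
    obtain ⟨U, p, u, m, u', hp, hpu, hm, hmg, hu, hm'⟩ := Groth.Agent.S9727.result f x g v hv
    refine le_iSup_of_le U (le_iSup_of_le p (le_iSup_of_le u (le_iSup_of_le ⟨hp, hpu, ?_⟩ ?_)))
    · subst hu
      rw [← residue_bijective_iff, ← hmg, Scheme.residueFieldMap_comp]
      haveI := Groth.Agent.DimLib.isIso_residueFieldMap_of_isPreimmersion m u'
      have h2 : Function.Bijective (g.residueFieldMap (m u')) := by rw [hm']; exact h.residue_bijective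
      exact (ConcreteCategory.bijective_of_isIso (m.residueFieldMap u')).comp h2
    · subst hu
      rw [setOf_components_eq, encard_components_openImmersion m, hm']
  · refine iSup_le fun U => iSup_le fun g => iSup_le fun u => iSup_le ?_
    revert U g u
    intro U g u h
    haveI := h.etale
    obtain ⟨hgu, hres⟩ : g u = x ∧ Function.Bijective (g.residueFieldMap u) := ⟨h.base_eq, h.residue_bijective⟩
    obtain ⟨u', rfl⟩ : u ∈ Set.range ((g ≫ f).fiberι (f x)) := by
      rw [Scheme.Hom.range_fiberι]
      show (g ≫ f) u = f x
      rw [Scheme.Hom.comp_apply, hgu]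
    have hq : MoreMor.fiberMap g f (f x) u' = f.asFiber x := by
      apply (f.fiberι (f x)).isEmbedding.injective
      rw [fiberι_fiberMap, hgu, Scheme.Hom.fiberι_asFiber]
    rw [setOf_components_eq]
    exact le_iSup_of_le _ (le_iSup_of_le (MoreMor.fiberMap g f (f x)) (le_iSup_of_le u'
      (le_iSup_of_le ⟨etale_fiberMap g f (f x), hq, (residue_bijective_iff g f (f x) u').2 hres⟩ le_rfl)))

end Groth.Agent.S9755
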