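import Groth.Statements.S9756
import Groth.Agent.FlatMorSlice.Bridge
import Groth.Agent.EGA43.FibDepth.Open
import Groth.Agent.CAlgH3.Depth
import Mathlib.AlgebraicGeometry.Morphisms.FinitePresentation

set_option autoImplicit false
universe u
open FlatMor

namespace Groth.Agent.S9756

open AlgebraicGeometry CategoryTheory Limits in
/-- Let f : X ⟶ S be locally of finite presentation and flat at a point x, and assume the local ring of
the fibre X_{f x} at x has depth at least 1. Then there are an affine open U ∋ x and a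
nonzerodivisor h' of Γ(X, U) vanishing at x such that the closed subscheme V(h') of U, an effective
Cartier divisor through x, is flat and locally of finite presentation over S. The published
statement concludes that V(h') ⟶ S is of finite presentation; this row concludes only that it is
flat and locally of finite presentation, which is what the published argument (slicing by a lift of
a fibrewise nonzerodivisor) yields, and which is equivalent when S is quasi-separated, V(h') being
affine. -/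
theorem result {X S : Scheme.{u}} (f : X ⟶ S) [LocallyOfFinitePresentation f] (x : X)
    (hflat : (f.stalkMap x).hom.Flat)
    (hdepth : 1 ≤ LocCoh.depth ↑((f.fiber (f x)).presheaf.stalk (f.asFiber x)) ↑((f.fiber (f x)).presheaf.stalk (f.asFiber x))) :
    ∃ (U : X.Opens) (hU : IsAffineOpen U) (hx : x ∈ U) (h' : Γ(X, U)), h' ∈ nonZeroDivisors Γ(X, U) ∧
      X.presheaf.germ U x hx h' ∈ IsLocalRing.maximalIdeal ↑(X.presheaf.stalk x) ∧
      Flat (Spec.map (CommRingCat.ofHom (Ideal.Quotient.mk (Ideal.span {h'}))) ≫ hU.fromSpec ≫ f) ∧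
      LocallyOfFinitePresentation (Spec.map (CommRingCat.ofHom (Ideal.Quotient.mk (Ideal.span {h'}))) ≫ hU.fromSpec ≫ f) := by
  have := EGA43.FibDepth.isNoetherianRing_fiber_stalk f (f x) (f.asFiber x)
  obtain ⟨r, hr, hrreg⟩ := CAlgH3.exists_regular_of_one_le_depth hdepth
  obtain ⟨T, hT, hsT, -⟩ := exists_isAffineOpen_mem_and_subset (x := f x) (U := ⊤) trivial
  obtain ⟨U, hU, hxU, hUT⟩ := exists_isAffineOpen_mem_and_subset (x := x) (U := f ⁻¹ᵁ T) hsT
  let e : U ≤ f ⁻¹ᵁ T := hUT
  let φ := f.appLE T U e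
  algebraize [φ.hom]
  have : Algebra.FinitePresentation Γ(S, T) Γ(X, U) :=
    LocallyOfFinitePresentation.finitePresentation_appLE f hT hU e
  let q := (hU.primeIdealOf ⟨x, hxU⟩).asIdeal
  have hfl := FlatMorSlice.flat_localized_of_stalkMap f hT hU e hxU hflat
  obtain ⟨ψ, hψ⟩ := FlatMorSlice.exists_fibPres f hT hU e hxU
  obtain ⟨b, c₀, hc₀, hb⟩ := hψ.surj r
  have hbq : b ∈ q := by
    by_contra h
    exact (IsLocalRing.mem_maximalIdeal _).1 hr (isUnit_of_mul_isUnit_left (hb ▸ hψ.unit b h))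
  have hreg : FlatMorSlice.FibReg Γ(S, T) q [b] := by
    intro i hi y ⟨c, hc, hcy⟩
    obtain rfl : i = 0 := by simpa using hi
    simp only [List.getElem_cons_zero, List.take_zero, Ideal.ofList_nil, sup_bot_eq] at hcy ⊢
    have h0 : ψ (c * (b * y)) = 0 := hψ.le_ker hcy
    rw [map_mul, (hψ.unit c hc).mul_right_eq_zero, map_mul, ← hb, mul_assoc] at h0
    have h1 : ψ c₀ * ψ y = 0 := hrreg (show r • (ψ c₀ * ψ y) = r • (0 : _) by rw [smul_eq_mul, h0, smul_zero])
    exact hψ.ker y ((hψ.unit c₀ hc₀).mul_right_eq_zero.1 h1)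
  obtain ⟨d, hd, h₁, h₂⟩ := FlatMorSlice.exists_regular_sequence ⟨q, inferInstance⟩ hfl [b] hreg
  have hxd : x ∈ X.basicOpen d := by
    have h : hU.primeIdealOf ⟨x, hxU⟩ ∈ hU.fromSpec ⁻¹ᵁ X.basicOpen d := by
      rw [hU.fromSpec_preimage_basicOpen]; exact hd
    have h2 : hU.fromSpec (hU.primeIdealOf ⟨x, hxU⟩) ∈ X.basicOpen d := h
    rwa [hU.fromSpec_primeIdealOf ⟨x, hxU⟩] at h2
  have hVd : IsAffineOpen (X.basicOpen d) := hU.basicOpen d
  let res : Γ(X, U) ⟶ Γ(X, X.basicOpen d) := X.presheaf.map (homOfLE (X.basicOpen_le d)).op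
  let _ : Algebra Γ(X, U) Γ(X, X.basicOpen d) := res.hom.toAlgebra
  let φd := f.appLE T (X.basicOpen d) ((X.basicOpen_le d).trans e)
  let _ : Algebra Γ(S, T) Γ(X, X.basicOpen d) := φd.hom.toAlgebra
  have : IsScalarTower Γ(S, T) Γ(X, U) Γ(X, X.basicOpen d) := .of_algebraMap_eq' (by
    show φd.hom = res.hom.comp φ.hom
    rw [← CommRingCat.hom_comp, Scheme.Hom.appLE_map])
  have : IsLocalization.Away d Γ(X, X.basicOpen d) := hU.isLocalization_basicOpen d
  obtain ⟨hw, hflat'⟩ := FlatMorSlice.isWeaklyRegular_and_flat_away (A := Γ(S, T)) [b] h₁ h₂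
    (dvd_refl d) Γ(X, X.basicOpen d)
  let h' : Γ(X, X.basicOpen d) := res b
  have hI : (Ideal.ofList [b]).map (algebraMap Γ(X, U) Γ(X, X.basicOpen d)) = Ideal.span {h'} := by
    rw [Ideal.ofList_singleton, Ideal.map_span, Set.image_singleton]; rfl
  rw [hI] at hflat'
  have hnzd : h' ∈ nonZeroDivisors Γ(X, X.basicOpen d) := by
    have h := ((RingTheory.Sequence.isWeaklyRegular_cons_iff Γ(X, X.basicOpen d) _ _).1 hw).1
    exact mem_nonZeroDivisors_iff_right.2 fun z hz => h (show h' • z = h' • (0 : _) by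
      rw [smul_eq_mul, smul_zero, mul_comm, hz])
  have : Algebra.FinitePresentation Γ(S, T) (Γ(X, X.basicOpen d) ⧸ Ideal.span {h'}) := by
    have := IsLocalization.Away.finitePresentation d (S := Γ(X, X.basicOpen d))
    have : Algebra.FinitePresentation Γ(S, T) Γ(X, X.basicOpen d) := .trans _ Γ(X, U) _
    exact Algebra.FinitePresentation.quotient ⟨{h'}, by rw [Finset.coe_singleton]⟩
  have hcomp : Spec.map (CommRingCat.ofHom (Ideal.Quotient.mk (Ideal.span {h'}))) ≫ hVd.fromSpec ≫ f =
      Spec.map (CommRingCat.ofHom (algebraMap Γ(S, T) (Γ(X, X.basicOpen d) ⧸ Ideal.span {h'}))) ≫ hT.fromSpec := by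
    rw [← hT.SpecMap_appLE_fromSpec f hVd ((X.basicOpen_le d).trans e), ← Category.assoc, ← Spec.map_comp]
    rfl
  refine ⟨X.basicOpen d, hVd, hxd, h', hnzd, ?_, ?_, ?_⟩
  · show X.presheaf.germ _ x hxd (X.presheaf.map (homOfLE (X.basicOpen_le d)).op b) ∈ _
    rw [TopCat.Presheaf.germ_res_apply]
    let _ := X.presheaf.algebra_section_stalk ⟨x, hxU⟩
    have := hU.isLocalization_stalk ⟨x, hxU⟩
    exact (IsLocalization.AtPrime.to_map_mem_maximal_iff (X.presheaf.stalk x) q b).2 hbq
  · rw [hcomp]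
    exact MorphismProperty.comp_mem @Flat _ _
      ((HasRingHomProperty.Spec_iff (P := @Flat)).2 (RingHom.flat_algebraMap_iff.2 hflat')) inferInstance
  · rw [hcomp]
    exact MorphismProperty.comp_mem @LocallyOfFinitePresentation _ _
      ((HasRingHomProperty.Spec_iff (P := @LocallyOfFinitePresentation)).2
        (RingHom.finitePresentation_algebraMap.2 ‹_›)) inferInstance

end Groth.Agent.S9756
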