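import Groth.Statements.S9759
import Groth.Agent.AlgSpLib.FppfRing
import Mathlib.AlgebraicGeometry.Morphisms.Flat
import Mathlib.AlgebraicGeometry.Morphisms.FinitePresentation

set_option autoImplicit false
universe u
open FlatMor

namespace Groth.Agent.S9759

open AlgebraicGeometry CategoryTheory Limits in
/-- Let f : X ⟶ S be a flat morphism of finite presentation between affine schemes. Then f is the base
change of a morphism of finite type f₀ : X₀ ⟶ S₀ between affine schemes with S₀ of finite type over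
ℤ and f₀ flat. -/
theorem result {X S : Scheme.{u}} (f : X ⟶ S) [IsAffine X] [IsAffine S] [LocallyOfFinitePresentation f] [Flat f] :
    ∃ (X₀ S₀ : Scheme.{u}) (f₀ : X₀ ⟶ S₀) (g : S ⟶ S₀) (g' : X ⟶ X₀), IsAffine X₀ ∧ IsAffine S₀ ∧ IsPullback g' f f₀ g ∧
      Algebra.FiniteType ℤ Γ(S₀, ⊤) ∧ LocallyOfFiniteType f₀ ∧ Flat f₀ := by
  algebraize [f.appTop.hom]
  have : Algebra.FinitePresentation Γ(S, ⊤) Γ(X, ⊤) :=
    (HasRingHomProperty.iff_of_isAffine (P := @LocallyOfFinitePresentation)).1 ‹_›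
  have : Module.Flat Γ(S, ⊤) Γ(X, ⊤) :=
    RingHom.flat_algebraMap_iff.1 ((HasRingHomProperty.iff_of_isAffine (P := @Flat)).1 ‹_›)
  obtain ⟨C, _, _, B₀, _, _, hC, hB, hfl, ⟨e⟩⟩ :=
    AlgSpLib.FppfRing.exists_flat_model Γ(S, ⊤) Γ(X, ⊤)
  have sq := (isPullback_SpecMap_of_isPushout _ _ _ _
    (CommRingCat.isPushout_tensorProduct C Γ(S, ⊤) B₀)).flip
  let ε : X ≅ Spec (CommRingCat.of (TensorProduct C Γ(S, ⊤) B₀)) :=
    X.isoSpec ≪≫ Scheme.Spec.mapIso e.toRingEquiv.toCommRingCatIso.op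
  refine ⟨Spec (.of B₀), Spec (.of C), Spec.map (CommRingCat.ofHom (algebraMap C B₀)),
    S.isoSpec.hom ≫ Spec.map (CommRingCat.ofHom (algebraMap C Γ(S, ⊤))),
    ε.hom ≫ Spec.map (CommRingCat.ofHom Algebra.TensorProduct.includeRight.toRingHom),
    inferInstance, inferInstance, ?_, ?_, ?_, ?_⟩
  · refine sq.of_iso ε.symm (Iso.refl _) S.isoSpec.symm (Iso.refl _) ?_ ?_ ?_ ?_
    · simp
    · simp only [ε, Iso.trans_symm, Iso.trans_hom, Iso.symm_hom, Category.assoc]
      rw [← Scheme.isoSpec_inv_naturality f, ← Category.assoc]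
      congr 1
      simp only [Scheme.Spec_map, Functor.mapIso_inv, Iso.op_inv, Quiver.Hom.unop_op]
      rw [← Spec.map_comp]
      congr 1
      ext a
      exact (e.symm.commutes a).symm
    · simp
    · simp
  · let eC := (Scheme.ΓSpecIso (CommRingCat.of C)).commRingCatIsoToRingEquiv.symm
    exact Algebra.FiniteType.of_surjective (AlgHom.mk eC.toRingHom (fun n => by simp)) eC.surjective
  · exact (HasRingHomProperty.Spec_iff (P := @LocallyOfFiniteType)).2
      (RingHom.finiteType_algebraMap.2 inferInstance)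
  · exact (HasRingHomProperty.Spec_iff (P := @Flat)).2 (RingHom.flat_algebraMap_iff.2 hfl)

end Groth.Agent.S9759
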