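import Groth.Statements.S9770
import Groth.Agent.FlatMor12.UnivOpenDescent

set_option autoImplicit false
universe u
open CategoryTheory AlgebraicGeometry
open FlatMor

namespace Groth.Agent.S9770

/-- Let S = lim S_i be a cofiltered limit of schemes with affine transition morphisms, i₀ an index with
S_{i₀} quasi-compact and quasi-separated, and f₀ : X₀ ⟶ Y₀ a morphism of schemes over S_{i₀} with X₀
and Y₀ quasi-compact and quasi-separated and f₀ locally of finite presentation. Write f : X ⟶ Y for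
the pullback of f₀ along S ⟶ S_{i₀} (all base changes given by pullback squares). Assuming f is
universally open and locally quasi-finite (with locally of finite type, as the book's notion
includes), there is a stage S_i over S_{i₀} where the pulled-back morphism f_i : X_i ⟶ Y_i already
has both properties. -/
theorem result {I : Type u} [SmallCategory I] [IsCofiltered I]
    (D : I ⥤ Scheme.{u}) (c : Limits.Cone D) (hc : Limits.IsLimit c)
    [∀ (i j : I) (φ : i ⟶ j), IsAffineHom (D.map φ)] (i₀ : I) [CompactSpace (D.obj i₀)] [QuasiSeparatedSpace (D.obj i₀)]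
    {X₀ Y₀ : Scheme.{u}} (f₀ : X₀ ⟶ Y₀) (g₀ : Y₀ ⟶ D.obj i₀) [CompactSpace X₀] [QuasiSeparatedSpace X₀]
    [CompactSpace Y₀] [QuasiSeparatedSpace Y₀] [LocallyOfFinitePresentation f₀]
    {X Y : Scheme.{u}} (f : X ⟶ Y) (g : Y ⟶ c.pt) (qY : Y ⟶ Y₀) (qX : X ⟶ X₀)
    (hY : IsPullback qY g g₀ (c.π.app i₀)) (hX : IsPullback qX f f₀ qY)
    [LocallyQuasiFinite f] [LocallyOfFiniteType f] [UniversallyOpen f] :
    ∃ (i : I) (φ : i ⟶ i₀) (Xi Yi : Scheme.{u}) (fi : Xi ⟶ Yi) (gi : Yi ⟶ D.obj i) (pY : Yi ⟶ Y₀) (pX : Xi ⟶ X₀),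
      IsPullback pY gi g₀ (D.map φ) ∧ IsPullback pX fi f₀ pY ∧ LocallyQuasiFinite fi ∧ LocallyOfFiniteType fi ∧ UniversallyOpen fi := by
  haveI : QuasiCompact f₀ := quasiCompact_of_compactSpace f₀
  haveI : QuasiSeparated f₀ := inferInstance
  haveI : QuasiCompact g₀ := quasiCompact_of_compactSpace g₀
  haveI : QuasiSeparated g₀ := inferInstance
  obtain ⟨j, φ, hj⟩ := Groth.Agent.EGA43.Limit.Descends.transfer
    Groth.Agent.EGA43.Limit.descends_locallyQuasiFinite hc f₀ g₀ inferInstance hY hX ‹LocallyQuasiFinite f›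
  haveI := hj
  let f₁ := Limits.pullback.snd f₀ (Limits.pullback.fst g₀ (D.map φ))
  let g₁ := Limits.pullback.snd g₀ (D.map φ)
  haveI : CompactSpace (D.obj j) := QuasiCompact.compactSpace_of_compactSpace (D.map φ)
  haveI : QuasiSeparatedSpace (D.obj j) := quasiSeparatedSpace_of_quasiSeparated (D.map φ)
  have hw : qY ≫ g₀ = (g ≫ c.π.app j) ≫ D.map φ := by rw [Category.assoc, c.w, hY.w]
  have hY₁ : IsPullback (Limits.pullback.lift qY (g ≫ c.π.app j) hw) g g₁ (c.π.app j) := by
    refine IsPullback.of_right ?_ (Limits.pullback.lift_snd _ _ _) (IsPullback.of_hasPullback g₀ (D.map φ))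
    rw [Limits.pullback.lift_fst, c.w]
    exact hY
  have hX₁ : IsPullback (Limits.pullback.lift qX (f ≫ Limits.pullback.lift qY (g ≫ c.π.app j) hw)
      (by rw [Category.assoc, Limits.pullback.lift_fst, hX.w])) f f₁
      (Limits.pullback.lift qY (g ≫ c.π.app j) hw) := by
    refine IsPullback.of_right ?_ (Limits.pullback.lift_snd _ _ _)
      (IsPullback.of_hasPullback f₀ (Limits.pullback.fst g₀ (D.map φ)))
    rw [Limits.pullback.lift_fst, Limits.pullback.lift_fst]
    exact hX
  obtain ⟨k, ψ, hk⟩ := Groth.Agent.EGA43.Limit.Descends.transfer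
    Groth.Agent.FlatMor12.descends_universallyOpen hc f₁ g₁ ⟨inferInstance, hj⟩ hY₁ hX₁ ‹UniversallyOpen f›
  refine ⟨k, ψ ≫ φ, _, _, Limits.pullback.snd f₁ (Limits.pullback.fst g₁ (D.map ψ)), Limits.pullback.snd g₁ (D.map ψ),
    Limits.pullback.fst g₁ (D.map ψ) ≫ Limits.pullback.fst g₀ (D.map φ),
    Limits.pullback.fst f₁ (Limits.pullback.fst g₁ (D.map ψ)) ≫
      Limits.pullback.fst f₀ (Limits.pullback.fst g₀ (D.map φ)), ?_, ?_, inferInstance, inferInstance, hk⟩
  · rw [D.map_comp]
    exact (IsPullback.of_hasPullback g₁ (D.map ψ)).paste_horiz (IsPullback.of_hasPullback g₀ (D.map φ))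
  · exact (IsPullback.of_hasPullback f₁ (Limits.pullback.fst g₁ (D.map ψ))).paste_horiz
      (IsPullback.of_hasPullback f₀ (Limits.pullback.fst g₀ (D.map φ)))

end Groth.Agent.S9770
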