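import Groth.Statements.S9771
import Groth.Agent.FlatMor12.FlatUnramified
import Groth.Agent.FlatMorGeom.FormallyEtaleHom

set_option autoImplicit false
universe u
open FlatMor

namespace Groth.Agent.S9771

open AlgebraicGeometry CategoryTheory Limits in
/-- An unramified (formally unramified and locally of finite type) flat morphism of schemes is formally
étale. (When the morphism is moreover locally of finite presentation this is the statement that flat
unramified morphisms are étale; the content here is the case without finite presentation.) -/
theorem result {X S : Scheme.{u}} (f : X ⟶ S)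
    [Flat f] [FormallyUnramified f] [LocallyOfFiniteType f] : MoreMor.IsFormallyEtaleHom f := by
  refine Groth.Agent.FlatMorGeom.isFormallyEtaleHom_of_appLE fun U V hU hV hUV => ?_
  let := (f.appLE V U hUV).hom.toAlgebra
  have : Algebra.FormallyUnramified Γ(S, V) Γ(X, U) := f.formallyUnramified_appLE hV hU hUV
  have : Module.Flat Γ(S, V) Γ(X, U) := f.flat_appLE hV hU hUV
  have : Algebra.FiniteType Γ(S, V) Γ(X, U) := f.finiteType_appLE hV hU hUV
  exact Groth.Agent.FlatMor12.formallyEtale_of_flat_unramified _ _

end Groth.Agent.S9771
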