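import Groth.Statements.S9772
import Groth.Agent.Omega15.UnivConormal
-- import your own Groth.Agent.* helpers here

set_option autoImplicit false
universe u
open OmegaSh

namespace Groth.Agent.S9772

open AlgebraicGeometry CategoryTheory Limits in
/-- Suppose f : X ⟶ Y is Koszul at every point of X (a local complete intersection morphism) and
formally unramified, and (i : X ⟶ X', h' : X' ⟶ Y) is universal first order thickening data for f.
Then the conormal sheaf of i (the conormal sheaf of f) is finite locally free. The published
statement also asserts that for a local complete intersection morphism unramified and formally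
unramified are equivalent; this row states only the conormal clause. -/
theorem result {X Y X' : Scheme.{u}} (f : X ⟶ Y)
    (hf : ∀ x : X, Synt.IsKoszulAt f x) [FormallyUnramified f] (i : X ⟶ X') (h' : X' ⟶ Y)
    (hu : OmegaSh.IsUnivThickening f i h') : FlatMod.IsFinLocFree (Omega.conormal i) := by
  haveI := hu.1.1.1
  refine DQCoh.isFinLocFree_of_local (Omega.conormal i) fun x => ?_
  obtain ⟨U₀, P₀, j, _, e, _, π, _, _, n, r, hx, hfac, hr, hk⟩ := Omega15.exists_koszul_chart f x (hf x)
  obtain ⟨O, hO, hOe⟩ := i.isClosedEmbedding.isInducing.isOpen_iff.1 j.opensRange.2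
  let O' : X'.Opens := ⟨O, hO⟩
  have hO' : i ⁻¹ᵁ O' = j.opensRange := TopologicalSpace.Opens.ext hOe
  have sq₀ := Thick15.isPullback_resLE_of_eq i hO'
  let s := j.isoOpensRange
  let t : U₀ ⟶ O' := s.hom ≫ i.resLE O' j.opensRange hO'.ge
  have sq : IsPullback t j O'.ι i := by
    refine sq₀.of_iso s.symm (Iso.refl _) (Iso.refl _) (Iso.refl _) ?_ ?_ ?_ ?_
    all_goals simp [t, s]
  have hu' := Thick15.isUnivThickening_of_isPullback hu sq
  rw [← hfac] at hu'
  have hfree := Omega15.isFinLocFree_conormal_chart e π r hr hk hu'
  haveI := (Thick15.isFirstOrderThickening_of_isPullback sq hu.1).1.1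
  obtain ⟨θ, hθ⟩ := Omega15.exists_conormalMap (i := t) (i' := i) (g := O'.ι) (gZ := j) sq.w.symm
  haveI : IsIso θ := (S9372.result t i O'.ι j sq θ hθ).2 inferInstance
  exact ⟨U₀, j, inferInstance, hx, DCat.PerfTensor.isFinLocFree_of_iso
    ((asIso θ).symm ≪≫ (Scheme.Modules.restrictFunctorIsoPullback j).symm.app _) hfree⟩

end Groth.Agent.S9772
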