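import Groth.Statements.S9786
import Groth.Agent.Omega15.ThickRetract
-- import your own Groth.Agent.* helpers here

set_option autoImplicit false
universe u
open OmegaSh

namespace Groth.Agent.S9786

open AlgebraicGeometry CategoryTheory Limits in
/-- Let i : Z ⟶ X be a morphism and p : X ⟶ Y a formally smooth morphism (infinitesimal lifting against
square-zero thickenings of affine schemes) with i and i ≫ p formally unramified. Let (i' : Z ⟶ Z',
a) be the universal first-order thickening attached to i, (i'' : Z ⟶ Z'', b) the one attached to i ≫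
p, and k : Z' ⟶ Z'' the morphism of thickenings (i' ≫ k = i'', k ≫ b = a ≫ p). Let d : O_{Z'} → Ω be
a universal derivation over Z'', ψ : C_{Z/Z''} ⟶ C_{Z/Z'} the canonical map of conormal sheaves
induced by (id, k) and φ : C_{Z/Z'} ⟶ (i')^*Ω the map induced by d. Then 0 ⟶ C_{Z/Z''} ⟶ C_{Z/Z'} ⟶
(i')^*Ω ⟶ 0 is short exact and locally split: every point of Z has an open neighbourhood over which
ψ admits a left inverse. The published statement concerns the conormal–differential sequence of Z in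
X over Y; this row states it on the thickenings Z ⊂ Z' ⟶ Z'', whose terms identify with the
published ones by the definition of the conormal sheaf of a formally unramified morphism and by the
isomorphism of (i')^*Ω_{Z'/S} with i^*Ω_{X/S} for a universal thickening (with Ω_{Z'/Z''} =
Ω_{Z'/Y}, as Z'' ⟶ Y is formally unramified). -/
theorem result {Z X Y Z' Z'' : Scheme.{u}} (i : Z ⟶ X) (p : X ⟶ Y)
    (hp : MoreMor.IsFormallySmoothHom p) [FormallyUnramified i] [FormallyUnramified (i ≫ p)]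
    (i' : Z ⟶ Z') (a : Z' ⟶ X) (hZ' : OmegaSh.IsUnivThickening i i' a)
    (i'' : Z ⟶ Z'') (b : Z'' ⟶ Y) (hZ'' : OmegaSh.IsUnivThickening (i ≫ p) i'' b)
    (k : Z' ⟶ Z'') (hk₁ : i' ≫ k = i'') (hk₂ : k ≫ b = a ≫ p)
    (Ω : Z'.Modules) (d : OmegaSh.Der k Ω) (hd : OmegaSh.IsUniversal d)
    (ψ : (Scheme.Modules.pullback (𝟙 Z)).obj (Omega.conormal i'') ⟶ Omega.conormal i') (hψ : OmegaSh.IsConormalMap i' i'' k (𝟙 Z) ψ)
    (φ : Omega.conormal i' ⟶ (Scheme.Modules.pullback i').obj Ω) (hφ : OmegaSh.IsConormalDiff i' d φ) :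
    ∃ w : ψ ≫ φ = 0, (ShortComplex.mk ψ φ w).ShortExact ∧
      ∀ z : Z, ∃ (U : Z.Opens) (r : (Scheme.Modules.restrictFunctor U.ι).obj (Omega.conormal i') ⟶
          (Scheme.Modules.restrictFunctor U.ι).obj ((Scheme.Modules.pullback (𝟙 Z)).obj (Omega.conormal i''))),
        z ∈ U ∧ (Scheme.Modules.restrictFunctor U.ι).map ψ ≫ r = 𝟙 _ := by
  haveI := hZ'.1.1.1
  haveI := hZ''.1.1.1
  obtain ⟨w, hex, hepi⟩ := Omega15.conormal_omega_exact hd hψ hφ
  have hmono : Mono ψ := by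
    refine OmegaLib.mono_of_stalks_injective ψ fun z => ?_
    rw [injective_iff_map_eq_zero]
    intro v hv
    obtain ⟨V'', t, r, hz, -, -, hr₁, hr₂⟩ := Omega15.exists_retraction hp hZ' hZ'' hk₁ hk₂ z
    have hwy : i'' z = k (i' z) := congrArg (fun f : Z ⟶ Z'' => f z) hk₁.symm
    obtain ⟨π, hπ⟩ := Omega15.exists_pi i' z (y := i' z) rfl
    obtain ⟨π', hπ'⟩ := Omega15.exists_pi i'' ((𝟙 Z : Z ⟶ Z) z) (y := k (i' z)) hwy
    obtain ⟨P, hPs, hP⟩ := Thick15.exists_pullId (Omega.conormal i'') z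
    obtain ⟨m, rfl⟩ := hPs v
    obtain ⟨x, rfl⟩ := hπ'.1 m
    replace hv := (Omega15.pi_conormalMap hψ z rfl rfl hwy hπ hπ' hP x).symm.trans hv
    have h2 : (Thick15.tm k (x := i' z) rfl) x.1 ∈ RingHom.ker (Thick15.tm i' (x := z) rfl).hom ^ 2 :=
      (hπ.2.1 _).1 hv
    rw [Thick15.tm_self i' z, Thick15.ker_stalkMap_sq hZ'.1 z, Ideal.mem_bot] at h2
    let u : ((i'' ⁻¹ᵁ V'' : Z.Opens) : Scheme.{u}) := ⟨z, hz⟩
    have pr : r (t u) = i' z := (congrArg (fun f : ((i'' ⁻¹ᵁ V'' : Z.Opens) : Scheme.{u}) ⟶ Z' => f u) hr₁).symm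
    have pv : V''.ι (t u) = k (i' z) := by
      rw [← pr]; exact (congrArg (fun f : (V'' : Scheme.{u}) ⟶ Z'' => f (t u)) hr₂).symm
    have h3 := congrArg (Thick15.tm r pr) h2
    have h4 := congr($(Thick15.tm_factor hr₂ (x := t u) pr rfl pv) x.1)
    rw [CommRingCat.comp_apply] at h4
    have h5 : Thick15.tm V''.ι pv x.1 = 0 := h4.symm.trans (h3.trans (map_zero _))
    have hx : x = 0 := Subtype.ext (Omega15.tm_injective_of_isOpenImmersion V''.ι pv (h5.trans (map_zero _).symm))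
    subst hx; exact (congrArg P (map_zero π')).trans (map_zero P)
  haveI := hepi
  refine ⟨w, ShortComplex.ShortExact.mk' hex hmono ‹Epi φ›, fun z => ?_⟩
  obtain ⟨V'', t, r, hz, sq, ht, hr₁, hr₂⟩ := Omega15.exists_retraction hp hZ' hZ'' hk₁ hk₂ z
  obtain ⟨R, hR⟩ := Omega15.exists_local_retract hψ sq ht hr₁ hr₂
  exact ⟨_, R, hz, hR⟩

end Groth.Agent.S9786
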