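import Groth.Statements.S9787
import Groth.Agent.CAlgH.ExceptionalChart
import Groth.Agent.CAlgH.SmoothCenter
import Groth.Agent.BlowUpLib.Disjoint
import Groth.Agent.CAlgH.KoszulH1
import Groth.Agent.BlowUpKoszul.Relations
import Groth.Agent.Synt15.Bridge
import Groth.Agent.S1677
import Groth.Agent.S2894
import Groth.Agent.S9699
-- import your own Groth.Agent.* helpers here

set_option autoImplicit false
universe u
open CategoryTheory CategoryTheory.Limits AlgebraicGeometry TopologicalSpace
open FlatMor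

namespace Groth.Agent.S9787

open CategoryTheory AlgebraicGeometry

set_option backward.isDefEq.respectTransparency.types false
set_option maxHeartbeats 1000000

/-- Charts of a blow-up in a Koszul regular ideal are finitely presented. -/
theorem fp_chart {A : Type u} [CommRing A] {m : ℕ} (f : Fin (m + 1) → A) (k : Fin (m + 1))
    (hf : CAlgH.KoszulRegular.KReg f) {I : Ideal A} (hI : I = Ideal.span (Set.range f)) :
    Algebra.FinitePresentation A ↥(BlowUp.affineAlgebra A I (f k)) := by
  let φ : MvPolynomial (Fin m) A →ₐ[A] ↥(BlowUp.affineAlgebra A I (f k)) :=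
    (MvPolynomial.aeval (R := A) (BlowUpKoszul.ratio f k)).codRestrict _ fun r => by
      rw [← BlowUpKoszul.range_aeval_ratio f k hI]; exact ⟨r, rfl⟩
  have hφ : Function.Surjective φ := fun ⟨z, hz⟩ => by
    rw [← BlowUpKoszul.range_aeval_ratio f k hI] at hz
    obtain ⟨r, hr⟩ := hz
    exact ⟨r, Subtype.ext hr⟩
  have hker : RingHom.ker φ.toRingHom = Ideal.span (Set.range (BlowUpKoszul.rel f k)) := by
    rw [← BlowUpKoszul.ker_aeval_ratio f k hf]
    ext r
    simp [φ, RingHom.mem_ker, Subtype.ext_iff]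
  exact Algebra.FinitePresentation.of_surjective hφ (hker ▸ Submodule.fg_span (Set.finite_range _))

open BlowUpLib in
/-- Near each point, a regular-immersion blow-up is finitely presented, and an isomorphism off the centre. -/
theorem exists_nhd {X X' Z : Scheme.{u}} (i : Z ⟶ X) [IsClosedImmersion i] (hreg : Mor2.IsRegularClosedImmersion i)
    (b : X' ⟶ X) (hb : BlowUp.IsBlowUp b i.ker) (x' : X') :
    ∃ W : X'.Opens, x' ∈ W ∧ LocallyOfFinitePresentation (W.ι ≫ b) ∧
      (b x' ∉ i.ker.support → IsOpenImmersion (W.ι ≫ b)) := by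
  have hchart : ∃ (U : X.affineOpens) (a : Γ(X, U.1)) (j : chart i.ker U a ⟶ X'), IsOpenImmersion j ∧
      j ≫ b = chartMap i.ker U a ∧ x' ∈ Set.range j ∧
      Algebra.FinitePresentation Γ(X, U.1) (ChartRing i.ker U a) ∧
      (b x' ∉ i.ker.support → a = 1) := by
    by_cases hx : b x' ∈ i.ker.support
    · obtain ⟨z, hz⟩ : b x' ∈ Set.range i := by
        rw [← i.isClosedEmbedding.isClosed_range.closure_eq, ← Scheme.Hom.support_ker]
        exact hx
      obtain ⟨U, hU, hzU, rs, hrs, hI⟩ := hreg.2 z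
      rw [hz] at hzU
      have hI' : i.ker.ideal ⟨U, hU⟩ = Ideal.span (Set.range rs.get) := by
        rw [hI, Ideal.ofList]
        congr 1
        ext a
        exact List.mem_iff_get
      obtain ⟨a, ⟨k, rfl⟩, j, hj, hjb, hxj⟩ :=
        CAlgH.ExceptionalChart.exists_chart b hb x' ⟨U, hU⟩ hzU _ hI'.symm
      obtain ⟨m, hm⟩ : ∃ m, rs.length = m + 1 := ⟨rs.length - 1, by have := k.2; omega⟩
      refine ⟨⟨U, hU⟩, _, j, hj, hjb, hxj, ?_, fun h => absurd hx h⟩
      have hf : CAlgH.KoszulRegular.KReg fun l : Fin (m + 1) => rs.get (Fin.cast hm.symm l) :=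
        CAlgH.KoszulH1.kreg_of_isWeaklyRegular (by
          rw [show List.ofFn (fun l : Fin (m + 1) => rs.get (Fin.cast hm.symm l)) = rs from
            List.ext_get (by rw [List.length_ofFn, hm]) (fun n h1 h2 => by rw [List.get_ofFn]; rfl)]
          exact hrs.toIsWeaklyRegular)
      have := fp_chart _ (Fin.cast hm k) hf (I := i.ker.ideal ⟨U, hU⟩) (hI'.trans (by
        congr 1
        ext a
        exact ⟨fun ⟨l, hl⟩ => ⟨Fin.cast hm l, hl⟩, fun ⟨l, hl⟩ => ⟨_, hl⟩⟩))
      exact this
    · obtain ⟨U, hU, hxU, hle⟩ := TopologicalSpace.Opens.isBasis_iff_nbhd.mp X.isBasis_affineOpens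
        (show b x' ∈ i.ker.support.compl from hx)
      have htop : i.ker.ideal ⟨U, hU⟩ = ⊤ := by
        by_contra hne
        obtain ⟨P, hP, hPle⟩ := Ideal.exists_le_maximal _ hne
        have hmem : hU.fromSpec ⟨P, hP.isPrime⟩ ∈ U := by
          rw [← SetLike.mem_coe, ← hU.range_fromSpec]; exact ⟨_, rfl⟩
        refine hle hmem ?_
        have h1 : hU.fromSpec ⟨P, hP.isPrime⟩ ∈ hU.fromSpec '' PrimeSpectrum.zeroLocus (i.ker.ideal ⟨U, hU⟩ : Set Γ(X, U)) :=
          ⟨_, hPle, rfl⟩
        rw [hU.fromSpec_image_zeroLocus] at h1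
        exact ((i.ker.coe_support_inter ⟨U, hU⟩).ge h1).1
      obtain ⟨a, ha, j, hj, hjb, hxj⟩ := CAlgH.ExceptionalChart.exists_chart b hb x' ⟨U, hU⟩ hxU {1}
        (by rw [Ideal.span_singleton_one, htop])
      rw [Set.mem_singleton_iff] at ha
      subst ha
      refine ⟨⟨U, hU⟩, 1, j, hj, hjb, hxj, ?_, fun _ => rfl⟩
      have hf : CAlgH.KoszulRegular.KReg (fun _ : Fin 1 => (1 : Γ(X, U))) := CAlgH.KoszulH1.kreg_of_isWeaklyRegular (by
        rw [RingTheory.Sequence.isWeaklyRegular_iff_Fin]
        intro l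
        simp [IsSMulRegular, Function.Injective])
      exact fp_chart _ 0 hf (I := i.ker.ideal ⟨U, hU⟩) (by rw [htop, Set.range_const, Ideal.span_singleton_one])
  obtain ⟨U, a, j, hj, hjb, hxj, hfp, hone⟩ := hchart
  refine ⟨j.opensRange, hxj, ?_, fun hx => ?_⟩
  · rw [← MorphismProperty.cancel_left_of_respectsIso @LocallyOfFinitePresentation j.isoOpensRange.hom,
      ← Category.assoc, Scheme.Hom.isoOpensRange_hom_ι, hjb]
    haveI : LocallyOfFinitePresentation
        (Spec.map (CommRingCat.ofHom (algebraMap Γ(X, U.1) (ChartRing i.ker U a)))) :=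
      HasRingHomProperty.Spec_iff.2 (RingHom.finitePresentation_algebraMap.2 hfp)
    show LocallyOfFinitePresentation (_ ≫ _)
    infer_instance
  · obtain rfl := hone hx
    rw [← MorphismProperty.cancel_left_of_respectsIso @IsOpenImmersion j.isoOpensRange.hom,
      ← Category.assoc, Scheme.Hom.isoOpensRange_hom_ι, hjb]
    have hbij : Function.Bijective (algebraMap Γ(X, U.1) (ChartRing i.ker U 1)) := by
      have hA : Function.Bijective (algebraMap Γ(X, U.1) (Localization.Away (1 : Γ(X, U.1)))) :=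
        (IsLocalization.atUnits _ (Submonoid.powers (1 : Γ(X, U.1)))
          (by rintro _ ⟨n, rfl⟩; simp)).bijective
      refine ⟨fun x y h => hA.1 (congrArg Subtype.val h), fun z => ?_⟩
      obtain ⟨x, hx⟩ := hA.2 z.1
      exact ⟨x, Subtype.ext hx⟩
    haveI : IsIso (CommRingCat.ofHom (algebraMap Γ(X, U.1) (ChartRing i.ker U 1))) :=
      (ConcreteCategory.isIso_iff_bijective _).2 hbij
    show IsOpenImmersion (_ ≫ _)
    infer_instance

/-- For a smooth q : X ⟶ S and a closed immersion i : Z ⟶ X whose composite with q is smooth, any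
blowing up b : X' ⟶ X of the ideal sheaf of Z (given by its universal property) is smooth over S,
and so is its exceptional divisor. The published statement also identifies the exceptional divisor
over Z with the projective bundle of the conormal sheaf, with O(1) the restriction of O_{X'}(−E);
this row proves only the two smoothness claims. -/
theorem result {Z X X' S : Scheme.{u}} (q : X ⟶ S) [Smooth q] (i : Z ⟶ X) [IsClosedImmersion i]
    [Smooth (i ≫ q)] (b : X' ⟶ X) (hb : BlowUp.IsBlowUp b i.ker) :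
    Smooth (b ≫ q) ∧ Smooth ((BlowUp.exceptional b i.ker).subschemeι ≫ b ≫ q) := by
  have hreg : Mor2.IsRegularClosedImmersion i :=
    _root_.Groth.Agent.S1677.result q i ((Synt15.isSyntomicMor_iff (i ≫ q)).1 (_root_.Groth.Agent.S9699.result (i ≫ q)))
  let E := BlowUp.exceptional b i.ker
  have hle : i.ker ≤ (E.subschemeι ≫ b).ker := by
    rw [Scheme.Hom.ker_comp, Scheme.IdealSheafData.ker_subschemeι]
    exact Scheme.IdealSheafData.le_map_iff_comap_le.2 le_rfl
  let g : E.subscheme ⟶ Z := IsClosedImmersion.lift i _ hle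
  have hg : g ≫ i = E.subschemeι ≫ b := IsClosedImmersion.lift_fac i _ hle
  haveI : Smooth g := _root_.Groth.Agent.S2894.result i hreg b hb g hg
  have hE : Smooth (E.subschemeι ≫ b ≫ q) := by
    rw [← reassoc_of% hg]
    infer_instance
  haveI : LocallyOfFinitePresentation b := by
    choose W hW hfp _ using exists_nhd i hreg b hb
    rw [IsZariskiLocalAtSource.iff_of_iSup_eq_top (P := @LocallyOfFinitePresentation) W
      (top_unique fun x _ => TopologicalSpace.Opens.mem_iSup.2 ⟨x, hW x⟩)]
    exact hfp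
  refine ⟨?_, hE⟩
  have hloc : ∀ x' : X', ∃ W : X'.Opens, x' ∈ W ∧ Smooth (W.ι ≫ b ≫ q) := fun x' => by
    by_cases hx : b x' ∈ i.ker.support
    · obtain ⟨z, rfl⟩ : x' ∈ Set.range E.subschemeι := by
        rw [Scheme.IdealSheafData.range_subschemeι, SetLike.mem_coe]
        show x' ∈ (i.ker.comap b).support
        rw [Scheme.IdealSheafData.support_comap]
        exact hx
      refine CAlgH.SmoothCenter.smooth_nhd_of_effCartier (b ≫ q) hb.1 z ⟨⊤, trivial, ?_⟩
      infer_instance
    · obtain ⟨W, hW, -, hopen⟩ := exists_nhd i hreg b hb x'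
      haveI := hopen hx
      exact ⟨W, hW, by rw [← Category.assoc]; infer_instance⟩
  choose W hW hsm using hloc
  rw [IsZariskiLocalAtSource.iff_of_iSup_eq_top (P := @Smooth) W
    (top_unique fun x _ => TopologicalSpace.Opens.mem_iSup.2 ⟨x, hW x⟩)]
  exact hsm

end Groth.Agent.S9787
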