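import Groth.Statements.S9790
import Groth.Agent.FlatMorAssOpen.ClosureFibre

set_option autoImplicit false
universe u
open FlatMor

namespace Groth.Agent.S9790

open AlgebraicGeometry CategoryTheory Limits in
/-- Let f : X ⟶ S be locally of finite type, F a quasi-coherent O_X-module of finite type and y a point
of the relative assassin of F over S. Let Y ⊆ X be the closure of y with its reduced induced
(integral) closed subscheme structure. Suppose F is S-flat at every point of Y that is a generic
point of an irreducible component of its fibre over S (e.g. F flat over S everywhere). Then Y ⟶ S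
has constant fibre dimension: there is d ≥ 0 with dim_x(Y_{f x}) = d for every point x of Y, i.e. Y
has relative dimension d over the closure of f y. The published statement also contains a part (1),
that such generic points are again relative associated points of F; this row states only part (2),
the relative-dimension clause. -/
theorem result {X S : Scheme.{u}} (f : X ⟶ S) [LocallyOfFiniteType f] (F : X.Modules) [Coh.IsQCoh F]
    (hF : CohB1.IsFT F) (y : X) (hy : y ∈ MoreMor.relAss f F)
    (hflat : ∀ x : ↑(Scheme.IdealSheafData.vanishingIdeal (TopologicalSpace.Closeds.closure {y})).subscheme,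
      (∃ Z ∈ irreducibleComponents ↥(((Scheme.IdealSheafData.vanishingIdeal (TopologicalSpace.Closeds.closure {y})).subschemeι ≫ f).fiber (f ((Scheme.IdealSheafData.vanishingIdeal (TopologicalSpace.Closeds.closure {y})).subschemeι x))),
        IsGenericPoint (((Scheme.IdealSheafData.vanishingIdeal (TopologicalSpace.Closeds.closure {y})).subschemeι ≫ f).asFiber x) Z) →
      FlatMod.IsFlatOverAt f F ((Scheme.IdealSheafData.vanishingIdeal (TopologicalSpace.Closeds.closure {y})).subschemeι x)) :
    ∃ d : ℕ, ∀ x : ↑(Scheme.IdealSheafData.vanishingIdeal (TopologicalSpace.Closeds.closure {y})).subscheme, FlatMor.fibreDimAt ((Scheme.IdealSheafData.vanishingIdeal (TopologicalSpace.Closeds.closure {y})).subschemeι ≫ f) x = d := by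
  have hr : Set.range ((Scheme.IdealSheafData.vanishingIdeal (TopologicalSpace.Closeds.closure {y})).subschemeι) =
      closure {y} := by
    rw [Scheme.IdealSheafData.range_subschemeι, Scheme.IdealSheafData.coe_support_vanishingIdeal]
    rfl
  let i := (Scheme.IdealSheafData.vanishingIdeal (TopologicalSpace.Closeds.closure {y})).subschemeι
  let h := i ≫ f
  refine ⟨DimLib.trdegHom (f.residueFieldMap y).hom, fun x => ?_⟩
  obtain ⟨z, hzx, hzf, hzmax, hzd⟩ := Groth.Agent.EGA43.Chevalley.exists_maximal_fibreDimAt h x
  rw [hzd, Groth.Agent.EGA43.Chevalley.trdegHom_residueFieldMap_comp i f z]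
  have hzy : i z ∈ closure ({y} : Set X) := hr.le ⟨z, rfl⟩
  have hfl : FlatMod.IsFlatOverAt f F (i z) := by
    refine hflat z ⟨closure {h.asFiber z}, ⟨isIrreducible_singleton.closure, fun Z' hZ' hle => ?_⟩, rfl⟩
    obtain ⟨w, hw⟩ := QuasiSober.sober hZ'.closure isClosed_closure
    have hwz : w ⤳ h.asFiber z := specializes_iff_mem_closure.2
      (hw.def.ge (subset_closure (hle (subset_closure rfl))))
    have h1 : h.fiberι (h z) w = z := hzmax _
      (by simpa only [h.fiberι_asFiber] using hwz.map (h.fiberι (h z)).continuous)
      (by have : h.fiberι (h z) w ∈ Set.range (h.fiberι (h z)) := ⟨w, rfl⟩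
          rw [h.range_fiberι] at this; exact this)
    have h2 : w = h.asFiber z := (h.fiberι (h z)).isEmbedding.injective (h1.trans (h.fiberι_asFiber z).symm)
    exact (subset_closure.trans (hw.def.symm.le)).trans (h2 ▸ le_rfl)
  have hd := Groth.Agent.FlatMorAssOpen.trd_le_of_maximal f y (i z) hzy fun w hw hwf hwz => by
    obtain ⟨w₀, rfl⟩ := hr.ge hw
    exact congrArg i (hzmax w₀ (i.isClosedEmbedding.isEmbedding.isInducing.specializes_iff.1 hwz) hwf)
  exact_mod_cast (Groth.Agent.FlatMorAssOpen.relAss_of_specializes f F hF
    (specializes_iff_mem_closure.2 hzy) hfl hy hd).2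

end Groth.Agent.S9790
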