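import Groth.Statements.S9791
import Groth.Agent.CAlgSmall.NormalFactor
import Groth.Agent.NeronLib.NormalSmooth
-- import your own Groth.Agent.* helpers here

set_option autoImplicit false
universe u
open CategoryTheory CategoryTheory.Limits AlgebraicGeometry
open FlatMor

namespace Groth.Agent.S9791

open Groth.Agent.CAlgSmall

theorem isNormal_normalization (Z : Scheme.{u}) [IsIntegral Z]
    [QuasiCompact (Z.fromSpecStalk (genericPoint Z))] [QuasiSeparated (Z.fromSpecStalk (genericPoint Z))] :
    Pi1.IsNormalScheme (Curv2.normalization Z) := by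
  haveI : QuasiCompact (Z.fromSpecStalk (genericPoint Z)) := inferInstance
  exact NormalizationLib.isNormal (X := Z) (K := Z.functionField) (RingHom.id Z.functionField)
    (Z.fromSpecStalk (genericPoint Z)) NormalFactor.hgen

theorem range_toNormalization (Z : Scheme.{u}) [IsIntegral Z]
    [QuasiCompact (Z.fromSpecStalk (genericPoint Z))] [QuasiSeparated (Z.fromSpecStalk (genericPoint Z))] :
    Set.range (Z.fromSpecStalk (genericPoint Z)).toNormalization =
      {genericPoint (Z.fromSpecStalk (genericPoint Z)).normalization} := by
  refine Set.eq_singleton_iff_unique_mem.mpr ⟨⟨_, NormalizationLib.toNormalization_closedPoint (X := Z)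
    (K := Z.functionField) (Z.fromSpecStalk (genericPoint Z))⟩, ?_⟩
  rintro _ ⟨z, rfl⟩
  rw [(inferInstance : Subsingleton (PrimeSpectrum Z.functionField)).elim z (IsLocalRing.closedPoint Z.functionField)]
  exact NormalizationLib.toNormalization_closedPoint (X := Z) (K := Z.functionField)
    (Z.fromSpecStalk (genericPoint Z))

theorem eq_of_specializes {T : Type*} [TopologicalSpace T] [T0Space T] {ζ x : T}
    (h : closure {ζ} ∈ irreducibleComponents T) (hx : x ⤳ ζ) : x = ζ :=
  hx.antisymm (specializes_iff_mem_closure.2
    (h.2 isIrreducible_singleton.closure (closure_minimal (Set.singleton_subset_iff.2 hx.mem_closure) isClosed_closure)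
      (subset_closure (Set.mem_singleton x)))) |>.eq

/-- In the case of integral schemes: let f : X ⟶ Y be a smooth morphism with X and Y integral, and let
X^ν ⟶ X and Y^ν ⟶ Y be the normalizations (in the function fields). Then X^ν is isomorphic over X to
the fibre product X ×_Y Y^ν, and such an isomorphism is unique. (The published statement requires
only that each quasi-compact open subset of Y meet finitely many irreducible components of Y, and
also derives this for X; this row assumes X and Y integral, the case in which the normalization used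
here is defined. The quasi-compactness and quasi-separatedness binders on Spec K(X) → X and Spec
K(Y) → Y always hold and are needed only to form the normalization.) -/
theorem result {X Y : Scheme.{u}} (f : X ⟶ Y) [Smooth f] [IsIntegral X] [IsIntegral Y]
    [QuasiCompact (X.fromSpecStalk (genericPoint X))] [QuasiSeparated (X.fromSpecStalk (genericPoint X))]
    [QuasiCompact (Y.fromSpecStalk (genericPoint Y))] [QuasiSeparated (Y.fromSpecStalk (genericPoint Y))] :
    ∃! e : Curv2.normalization X ≅ pullback f (Curv2.normalizationι Y),
      e.hom ≫ pullback.fst f (Curv2.normalizationι Y) = Curv2.normalizationι X := by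
  haveI : Flat f := inferInstance
  have hη : f (genericPoint X) = genericPoint Y := by
    have ho : IsOpen (Set.range f) := f.isOpenMap.isOpen_range
    obtain ⟨x, hx⟩ := ((genericPoint_spec Y).mem_open_set_iff ho).2 ⟨_, Set.mem_univ _, ⟨genericPoint X, rfl⟩⟩
    refine (Specializes.antisymm ?_ ((genericPoint_spec Y).specializes (Set.mem_univ _))).eq
    rw [← hx]
    exact ((genericPoint_spec X).specializes (Set.mem_univ x)).map f.continuous
  let νY : Curv2.normalization Y ⟶ Y := Curv2.normalizationι Y
  haveI : IsIntegralHom νY := inferInstanceAs (IsIntegralHom (Y.fromSpecStalk (genericPoint Y)).fromNormalization)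
  let P := pullback f νY
  have hP : Pi1.IsNormalScheme P :=
    NeronLib.isNormalScheme_of_smooth (pullback.snd f νY) (isNormal_normalization Y)
  let gY : Spec Y.functionField ⟶ Curv2.normalization Y := (Y.fromSpecStalk (genericPoint Y)).toNormalization
  have hgY : gY ≫ νY = Y.fromSpecStalk (genericPoint Y) :=
    (Y.fromSpecStalk (genericPoint Y)).toNormalization_fromNormalization
  -- maximal points lie over the generic point
  have hmax : ∀ ζ : P, closure {ζ} ∈ irreducibleComponents P → pullback.fst f νY ζ = genericPoint X := by
    intro ζ hζ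
    let ξ := genericPoint (Y.fromSpecStalk (genericPoint Y)).normalization
    obtain ⟨ζ', hζ', hξ⟩ := (Flat.generalizingMap (pullback.snd f νY))
      ((genericPoint_spec (Y.fromSpecStalk (genericPoint Y)).normalization).specializes
        (Set.mem_univ (pullback.snd f νY ζ)))
    rw [eq_of_specializes hζ hζ'] at hξ
    let j := pullback.fst (pullback.snd f νY) gY
    have hH : IsPullback (j ≫ pullback.fst f νY) (pullback.snd (pullback.snd f νY) gY) f
        (Y.fromSpecStalk (genericPoint Y)) := by
      rw [← hgY]
      exact (IsPullback.of_hasPullback _ gY).paste_horiz (IsPullback.of_hasPullback f νY)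
    obtain ⟨q, hq⟩ : ζ ∈ Set.range j := by
      rw [Scheme.Pullback.range_fst]
      exact (range_toNormalization Y).ge hξ
    haveI : IsPreimmersion (j ≫ pullback.fst f νY) :=
      MorphismProperty.of_isPullback (P := @IsPreimmersion) hH.flip inferInstance
    have hr : genericPoint X ∈ Set.range (j ≫ pullback.fst f νY) := by
      rw [← hH.isoPullback_hom_fst, Scheme.Hom.comp_base, TopCat.coe_comp,
        Set.range_comp, (Set.range_eq_univ (f := hH.isoPullback.hom)).2 hH.isoPullback.hom.surjective, Set.image_univ,
        Scheme.Pullback.range_fst, Scheme.range_fromSpecStalk]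
      show f (genericPoint X) ⤳ genericPoint Y
      rw [hη]
    obtain ⟨q', hq'⟩ := hr
    have hqq : q' ⤳ q := (j ≫ pullback.fst f νY).isEmbedding.isInducing.specializes_iff.1 (by
      rw [hq']; exact (genericPoint_spec X).specializes (Set.mem_univ _))
    have := eq_of_specializes hζ (hq ▸ hqq.map j.continuous)
    rw [← this, ← Scheme.Hom.comp_apply]
    exact hq'
  have hg₁ : NormalFactor.Good (pullback.fst f νY) := NormalFactor.good_of_normal _ hP hmax
  have hg₂ : NormalFactor.Good (pullback.fst f νY ≫ f) := NormalFactor.good_of_normal _ hP fun ζ hζ => by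
    rw [Scheme.Hom.comp_apply, hmax ζ hζ, hη]
  have hg₃ : NormalFactor.Good (Curv2.normalizationι X) := fun z => ⟨isNormal_normalization X z,
    genericPoint (X.fromSpecStalk (genericPoint X)).normalization,
    (genericPoint_spec (X.fromSpecStalk (genericPoint X)).normalization).specializes (Set.mem_univ z),
    NormalizationLib.fromNormalization_genericPoint (X := X) (RingHom.id X.functionField) _ NormalFactor.hgen⟩
  let s₀ : Spec X.functionField ⟶ Spec Y.functionField :=
    Spec.map (Y.presheaf.stalkSpecializes (specializes_of_eq hη) ≫ f.stalkMap (genericPoint X))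
  have hs₀ : X.fromSpecStalk (genericPoint X) ≫ f = (s₀ ≫ gY) ≫ νY := by
    rw [Category.assoc, hgY, Spec.map_comp_assoc, Scheme.SpecMap_stalkSpecializes_fromSpecStalk,
      Scheme.SpecMap_stalkMap_fromSpecStalk]
  let s : Spec X.functionField ⟶ P := pullback.lift (X.fromSpecStalk (genericPoint X)) (s₀ ≫ gY) hs₀
  let h₁ : Curv2.normalization X ⟶ P :=
    (X.fromSpecStalk (genericPoint X)).normalizationDesc s (pullback.fst f νY) (pullback.lift_fst _ _ _).symm
  have h₁f : h₁ ≫ pullback.fst f νY = Curv2.normalizationι X :=
    (X.fromSpecStalk (genericPoint X)).normalizationDesc_comp _ _ _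
  obtain ⟨h₂, hh₂, hu₂⟩ := NormalFactor.existsUnique_fac hg₁
  have e₁ : h₁ ≫ h₂ = 𝟙 _ := (NormalFactor.existsUnique_fac hg₃).unique
    (by rw [Category.assoc, hh₂, h₁f]) (Category.id_comp _)
  have e₂ : h₂ ≫ h₁ = 𝟙 _ := by
    have hf : (h₂ ≫ h₁) ≫ pullback.fst f νY = pullback.fst f νY := by rw [Category.assoc, h₁f, hh₂]
    refine pullback.hom_ext (by rw [hf, Category.id_comp]) ((NormalFactor.existsUnique_fac hg₂).unique ?_ ?_)
    · show ((h₂ ≫ h₁) ≫ pullback.snd f νY) ≫ νY = _
      rw [Category.assoc, ← pullback.condition, ← Category.assoc, hf]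
    · show (𝟙 P ≫ pullback.snd f νY) ≫ νY = _
      rw [Category.id_comp, ← pullback.condition]
  haveI : IsIso h₂ := ⟨h₁, e₂, e₁⟩
  refine ⟨⟨h₁, h₂, e₁, e₂⟩, h₁f, fun e he => ?_⟩
  have he' : e.inv ≫ Curv2.normalizationι X = pullback.fst f νY := by rw [← he, e.inv_hom_id_assoc]
  exact Iso.ext ((cancel_mono h₂).1 ((NormalFactor.existsUnique_fac hg₃).unique
    (show (e.hom ≫ h₂) ≫ Curv2.normalizationι X = Curv2.normalizationι X by rw [Category.assoc, hh₂]; exact he)
    (show (h₁ ≫ h₂) ≫ Curv2.normalizationι X = Curv2.normalizationι X by rw [e₁, Category.id_comp])))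

end Groth.Agent.S9791
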