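import Groth.Statements.S9794
import Groth.Agent.Props12.Topo

set_option autoImplicit false
universe u
open CategoryTheory AlgebraicGeometry TopologicalSpace
open Props

namespace Groth.Agent.S9794

/-- In a Noetherian scheme, an infinite dense set of points contains a countable subset which is dense. -/
theorem result (S : Scheme.{u}) [IsNoetherian S]
    (T : Set S) (hT : T.Infinite) (hd : Dense T) :
    ∃ E : Set S, E ⊆ T ∧ E.Countable ∧ Dense E := by
  obtain ⟨E, hE1, hE2, hE3⟩ := Groth.Agent.Props12.exists_countable_dense T
  exact ⟨E, hE1, hE2, fun x => closure_minimal hE3 isClosed_closure (hd x)⟩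

end Groth.Agent.S9794
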