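import Groth.Statements.S9799
import Groth.Agent.Props12.Components

set_option autoImplicit false
universe u
open CategoryTheory AlgebraicGeometry TopologicalSpace
open Props

namespace Groth.Agent.S9799

/-- Let X be a normal scheme (all local rings are integrally closed domains) such that every
quasi-compact open subset has finitely many irreducible components. Then the irreducible components
of X are open and pairwise disjoint; hence X is the disjoint union of its irreducible components,
each an open subscheme which is normal and integral. -/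
theorem result (X : Scheme.{u})
    (hfin : ∀ U : X.Opens, IsCompact (U : Set X) → (irreducibleComponents ↥U).Finite)
    (hN : Pi1.IsNormalScheme X) :
    (∀ Z ∈ irreducibleComponents X, IsOpen Z) ∧
      ∀ Z ∈ irreducibleComponents X, ∀ Z' ∈ irreducibleComponents X, Z ≠ Z' → Disjoint Z Z' := by
  have hdom : ∀ x : X, IsDomain (X.presheaf.stalk x) := fun x => (hN x).1
  refine ⟨fun Z hZ => Groth.Agent.Props12.isOpen_component hdom (fun x => ?_) hZ, fun Z hZ Z' hZ' hne =>
    Set.disjoint_left.2 fun x hx hx' => hne (Groth.Agent.Props12.component_unique_of_isDomain hZ hZ' hx hx')⟩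
  obtain ⟨W, hW, hxW, -⟩ := TopologicalSpace.Opens.isBasis_iff_nbhd.mp X.isBasis_affineOpens
    (TopologicalSpace.Opens.mem_top x)
  refine ⟨W, hxW, ?_⟩
  refine Set.Finite.of_finite_image (f := fun C : Set X => (Subtype.val ⁻¹' C : Set W))
    ((hfin W hW.isCompact).subset ?_) ?_
  · rintro _ ⟨C, ⟨hC, y, hyC, hyW⟩, rfl⟩
    exact preimage_mem_irreducibleComponents hC W.2.isOpenEmbedding_subtypeVal
      ⟨y, hyC, ⟨y, hyW⟩, rfl⟩
  · rintro C ⟨hC, y, hyC, hyW⟩ C' ⟨hC', -, -, -⟩ e
    have hy' : y ∈ C' := (Set.ext_iff.1 e ⟨y, hyW⟩).1 hyC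
    exact Groth.Agent.Props12.component_unique_of_isDomain (x := y) hC hC' hyC hy'

end Groth.Agent.S9799
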