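import Groth.Statements.S9801
import Groth.Agent.CAlgH3.Serre
import Groth.Agent.CAlgH3.CMRing
import Groth.Agent.CAlgH3.RegularCore
import Mathlib.AlgebraicGeometry.Properties
import Mathlib.Topology.KrullDimension

set_option autoImplicit false
universe u
open CategoryTheory AlgebraicGeometry TopologicalSpace
open Props

namespace Groth.Agent.S9801

/-- A locally Noetherian normal scheme of dimension at most two is Cohen-Macaulay, that is, all of its
local rings are Cohen-Macaulay local rings. -/
theorem result (X : Scheme.{u})
    [IsLocallyNoetherian X] (hN : Pi1.IsNormalScheme X) (hd : topologicalKrullDim X ≤ 2) (x : X) :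
    LocCoh.IsCohenMacaulayLocalRing (X.presheaf.stalk x) := by
  have := (hN x).1
  have := (hN x).2
  have hd' : topologicalKrullDim (PrimeSpectrum (X.presheaf.stalk x)) ≤ 2 :=
    (X.fromSpecStalk x).isEmbedding.isInducing.topologicalKrullDim_le.trans hd
  rw [PrimeSpectrum.topologicalKrullDim_eq_ringKrullDim] at hd'
  by_cases h1 : ringKrullDim (X.presheaf.stalk x) ≤ 1
  · have := Groth.Agent.CAlgH3.isRegularLocalRing_of_normal_dim_le_one h1
    exact Groth.Agent.CAlgH3.isCohenMacaulayLocalRing_of_regular _
  · have h2 : 2 ≤ ringKrullDim (X.presheaf.stalk x) := by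
      generalize ringKrullDim (X.presheaf.stalk x) = d at h1
      induction d using WithBot.recBotCoe with
      | bot => exact absurd bot_le h1
      | coe n =>
        have h1' : (1 : ℕ∞) < n := by simpa using h1
        exact WithBot.coe_le_coe.2 (show (2 : ℕ∞) ≤ n by
          simpa [one_add_one_eq_two] using Order.add_one_le_of_lt h1')
    have hdepth : (2 : WithBot ℕ∞) ≤ ((LocCoh.depth (X.presheaf.stalk x) (X.presheaf.stalk x) : ℕ∞) : WithBot ℕ∞) :=
      WithBot.coe_le_coe.2 (Groth.Agent.CAlgH3.two_le_depth_of_normal h2)
    have hle := Groth.Agent.CAlgH3.depth_le_supportDim (R := X.presheaf.stalk x) (M := X.presheaf.stalk x)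
    rw [Module.supportDim_self_eq_ringKrullDim] at hle
    rw [Groth.Agent.CAlgH3.isCohenMacaulayLocalRing_iff_depth]
    exact le_antisymm (hd'.trans hdepth) hle

end Groth.Agent.S9801
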