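import Groth.Statements.S9835
import Groth.Agent.CAlgH.Nagata
import Mathlib.AlgebraicGeometry.Properties

set_option autoImplicit false
universe u
open CategoryTheory AlgebraicGeometry TopologicalSpace
open Props

namespace Groth.Agent.S9835

/-- If an integral scheme has an affine open covering by spectra of Japanese (N-2) domains, then the
coordinate ring of every nonempty affine open is a Japanese domain. -/
theorem result (X : Scheme.{u}) [IsIntegral X] {ι : Type u}
    (U : ι → X.Opens) [∀ i, Nonempty (U i)] (hU : iSup U = ⊤) (haff : ∀ i, IsAffineOpen (U i))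
    (hJ : ∀ i, CAlg.IsN2 Γ(X, U i)) (V : X.Opens) [Nonempty V] (hV : IsAffineOpen V) :
    CAlg.IsN2 Γ(X, V) := by
  refine of_affine_open_cover
    (P := fun W : X.affineOpens => ∀ [Nonempty (W : X.Opens)], CAlg.IsN2 Γ(X, (W : X.Opens)))
    (fun i => (⟨U i, haff i⟩ : X.affineOpens)) hU ⟨V, hV⟩ (fun W f hW _ => ?_) (fun W s hs h _ => ?_)
    (fun i _ => hJ i)
  · have : IsLocalization.Away f Γ(X, X.basicOpen f) := W.2.isLocalization_basicOpen f
    have : Nonempty (W : X.Opens) :=
      ‹Nonempty (X.affineBasicOpen f : X.Opens)›.map fun x => ⟨x.1, X.basicOpen_le f x.2⟩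
    have : Nonempty (X.basicOpen f) := ‹Nonempty (X.affineBasicOpen f : X.Opens)›
    show CAlg.IsN2 Γ(X, X.basicOpen f)
    exact Groth.Agent.CAlgH.isN2_localization (Submonoid.powers f) hW
  · let ν := {i : s // (i : Γ(X, (W : X.Opens))) ≠ 0}
    have hne : ∀ i : ν, Nonempty (X.basicOpen (i.1 : Γ(X, (W : X.Opens)))) := fun i => by
      obtain ⟨x, hx⟩ := Set.nonempty_iff_ne_empty.2 (fun e : ((X.basicOpen (i.1 : Γ(X, (W : X.Opens))) : X.Opens) : Set X) = ∅ =>
        i.2 ((basicOpen_eq_bot_iff _).1 (SetLike.coe_injective (e.trans TopologicalSpace.Opens.coe_bot.symm))))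
      exact ⟨⟨x, hx⟩⟩
    have := fun i : ν => W.2.isLocalization_basicOpen (i.1 : Γ(X, (W : X.Opens)))
    refine Groth.Agent.CAlgH.isN2_of_cover _ (fun i : ν => (i.1 : Γ(X, (W : X.Opens)))) ?_
      (fun i : ν => Γ(X, X.basicOpen (i.1 : Γ(X, (W : X.Opens))))) fun i => @h i.1 (hne i)
    rw [← top_le_iff, ← hs, Ideal.span_le]
    intro f hf
    by_cases h0 : f = 0
    · rw [h0]; exact Ideal.zero_mem _
    · exact Ideal.subset_span ⟨⟨⟨f, hf⟩, h0⟩, rfl⟩

end Groth.Agent.S9835
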