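import Groth.Statements.S9802
import Groth.Agent.Props12.KerReduced
import Groth.Agent.S9835
import Groth.Agent.CAlgH.NagataBase

set_option autoImplicit false
universe u
open CategoryTheory AlgebraicGeometry TopologicalSpace
open Props

namespace Groth.Agent.S9802

/-- A locally Noetherian scheme is Nagata (every affine open has a Nagata coordinate ring) if and only
if every integral closed subscheme is Japanese (every nonempty affine open of it has an N-2
coordinate ring). -/
theorem result (X : Scheme.{u})
    [IsLocallyNoetherian X] :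
    (∀ U : X.Opens, IsAffineOpen U → CAlg.IsNagata Γ(X, U)) ↔
      ∀ (Z : Scheme.{u}) (i : Z ⟶ X) [IsClosedImmersion i] [IsIntegral Z]
        (V : Z.Opens) [Nonempty V], IsAffineOpen V → CAlg.IsN2 Γ(Z, V) := by
  constructor
  · intro H Z i _ _ V _ hV
    choose U hU hxU using fun z : Z => show ∃ U : X.Opens, IsAffineOpen U ∧ i z ∈ U by
      obtain ⟨U, hU, hx, -⟩ := TopologicalSpace.Opens.isBasis_iff_nbhd.mp X.isBasis_affineOpens
        (TopologicalSpace.Opens.mem_top (i z))
      exact ⟨U, hU, hx⟩
    have : ∀ z, Nonempty (i ⁻¹ᵁ U z) := fun z => ⟨⟨z, hxU z⟩⟩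
    refine Groth.Agent.S9835.result Z (fun z => i ⁻¹ᵁ U z)
      (top_le_iff.1 fun z _ => TopologicalSpace.Opens.mem_iSup.2 ⟨z, hxU z⟩)
      (fun z => (hU z).preimage i) (fun z => ?_) V hV
    have hs := i.app_surjective (U z) (hU z)
    let φ := (i.app (U z)).hom
    have : (RingHom.ker φ).IsPrime := RingHom.ker_isPrime φ
    exact Groth.Agent.CAlgH.isN2_of_ringEquiv (RingHom.quotientKerEquivOfSurjective hs)
      ((H (U z) (hU z)).2 (RingHom.ker φ))
  · intro H U hU
    refine ⟨IsLocallyNoetherian.component_noetherian ⟨U, hU⟩, fun p hp => ?_⟩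
    let η : X := hU.fromSpec ⟨p, hp⟩
    let C : TopologicalSpace.Closeds X := ⟨closure {η}, isClosed_closure⟩
    let I := Scheme.IdealSheafData.vanishingIdeal C
    let Z := I.subscheme
    have hred : IsReduced Z := Groth.Agent.Props12.isReduced_subscheme_vanishingIdeal C
    have hsupp : Set.range I.subschemeι = closure {η} := by
      rw [Scheme.IdealSheafData.range_subschemeι]
      rfl
    have hirr : IsIrreducible (Set.univ : Set Z) := by
      obtain ⟨ζ, hζ⟩ := hsupp.ge (subset_closure rfl)
      have hcl : (Set.univ : Set Z) ⊆ closure {ζ} := fun z _ => by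
        rw [I.subschemeι.isClosedEmbedding.isEmbedding.isInducing.closure_eq_preimage_closure_image,
          Set.image_singleton, hζ]
        exact hsupp.le ⟨z, rfl⟩
      rw [show (Set.univ : Set Z) = closure {ζ} from subset_antisymm hcl (Set.subset_univ _)]
      exact isIrreducible_singleton.closure
    have hirr' : IrreducibleSpace Z := (irreducibleSpace_def _).2 hirr
    have hint : IsIntegral Z := isIntegral_of_irreducibleSpace_of_isReduced Z
    have hηU : η ∈ U := hU.range_fromSpec.le ⟨_, rfl⟩
    have hne : Nonempty (I.subschemeι ⁻¹ᵁ U) := by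
      obtain ⟨ζ, hζ⟩ := hsupp.ge (subset_closure rfl)
      exact ⟨⟨ζ, show I.subschemeι ζ ∈ U by rw [hζ]; exact hηU⟩⟩
    have h1 := H Z I.subschemeι (I.subschemeι ⁻¹ᵁ U) (hU.preimage I.subschemeι)
    have hIU : I.ideal ⟨U, hU⟩ = p := by
      rw [Scheme.IdealSheafData.vanishingIdeal_ideal]
      show PrimeSpectrum.vanishingIdeal (hU.fromSpec ⁻¹' closure {η}) = p
      have e : (hU.fromSpec ⁻¹' closure {η} : Set (PrimeSpectrum Γ(X, U))) =
          closure {(⟨p, hp⟩ : PrimeSpectrum Γ(X, U))} := by
        refine (hU.fromSpec.isOpenEmbedding.isOpenMap.preimage_closure_eq_closure_preimage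
          hU.fromSpec.continuous {η}).trans (congrArg closure ?_)
        ext q
        exact hU.fromSpec.isOpenEmbedding.injective.eq_iff
      refine (congrArg PrimeSpectrum.vanishingIdeal e).trans ?_
      rw [PrimeSpectrum.vanishingIdeal_closure, PrimeSpectrum.vanishingIdeal_singleton]
    exact Groth.Agent.CAlgH.isN2_of_ringEquiv
      ((I.subschemeObjIso ⟨U, hU⟩).commRingCatIsoToRingEquiv.trans (Ideal.quotEquivOfEq hIU)) h1

end Groth.Agent.S9802
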