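import Groth.Statements.S9803
import Mathlib.AlgebraicGeometry.QuasiAffine
import Mathlib.AlgebraicGeometry.AffineSpace

set_option autoImplicit false
set_option backward.isDefEq.respectTransparency false
universe u
open CategoryTheory AlgebraicGeometry TopologicalSpace
open Props

namespace Groth.Agent.S9803

open MvPolynomial TensorProduct CategoryTheory CategoryTheory.Limits AlgebraicGeometry

section Algebra

variable {A : Type u} [CommRing A] {ι : Type u} [Fintype ι] (f : ι → A)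

/-- `A[x, t]/(Σ fᵢ xᵢ - 1)`. -/
abbrev J : Type u :=
  MvPolynomial (Option ι) A ⧸ Ideal.span {∑ i, MvPolynomial.C (f i) * MvPolynomial.X (some i) - 1}

theorem J_rel : ∑ i, algebraMap A (J f) (f i) * Ideal.Quotient.mk _ (MvPolynomial.X (some i)) = 1 := by
  have h := Ideal.Quotient.eq_zero_iff_mem.2 (Ideal.mem_span_singleton_self
    (∑ i, MvPolynomial.C (f i) * MvPolynomial.X (some i) - 1 : MvPolynomial (Option ι) A))
  rw [map_sub, map_sum, map_one, sub_eq_zero] at h
  refine Eq.trans (Finset.sum_congr rfl fun i _ => ?_) h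
  rw [map_mul]
  rfl

variable {A' : Type u} [CommRing A'] [Algebra A A'] (c : ι → A') (hc : ∑ i, algebraMap A A' (f i) * c i = 1)

/-- `Σ fᵢ yᵢ`. -/
noncomputable def tau : MvPolynomial ι A' := ∑ i, MvPolynomial.C (algebraMap A A' (f i)) * MvPolynomial.X i

/-- The images of the generators. -/
noncomputable def gens : Option ι → MvPolynomial ι A'
  | none => tau f
  | some i => MvPolynomial.C (c i) + MvPolynomial.X i - tau f * MvPolynomial.C (c i)

include hc in
theorem gens_rel : MvPolynomial.aeval (gens f c) (∑ i, MvPolynomial.C (f i) * MvPolynomial.X (some i) - 1 :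
    MvPolynomial (Option ι) A) = 0 := by
  have hC : ∀ a : A, algebraMap A (MvPolynomial ι A') a = MvPolynomial.C (algebraMap A A' a) := fun a => rfl
  have h1 : ∑ i, MvPolynomial.C (σ := ι) (algebraMap A A' (f i)) * MvPolynomial.C (c i) = 1 := by
    simp only [← map_mul, ← map_sum, hc, map_one]
  simp only [map_sub, map_sum, map_mul, map_one, aeval_C, aeval_X, hC, gens, mul_sub, mul_add,
    Finset.sum_sub_distrib, Finset.sum_add_distrib, mul_left_comm _ (tau f), ← Finset.mul_sum, h1, mul_one]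
  rw [← tau]
  ring

/-- `A' ⊗ A[x, t]/(Σ fᵢ xᵢ - 1) → A'[y]`. -/
noncomputable def fwd : A' ⊗[A] J f →ₐ[A'] MvPolynomial ι A' :=
  Algebra.TensorProduct.lift (Algebra.ofId A' _)
    (Ideal.Quotient.liftₐ _ (MvPolynomial.aeval (gens f c)) fun a ha => by
      obtain ⟨b, rfl⟩ := Ideal.mem_span_singleton'.1 ha
      rw [map_mul, gens_rel f c hc, mul_zero]) fun _ _ => Commute.all _ _

/-- The constants. -/
noncomputable def cst (a : A') : A' ⊗[A] J f := a ⊗ₜ 1

/-- The classes of the variables in `A' ⊗ A[x, t]/(Σ fᵢ xᵢ - 1)`. -/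
noncomputable def xv (o : Option ι) : A' ⊗[A] J f :=
  Algebra.TensorProduct.includeRight (R := A) (A := A') (Ideal.Quotient.mk _ (MvPolynomial.X o) : J f)

/-- `A'[y] → A' ⊗ A[x, t]/(Σ fᵢ xᵢ - 1)`. -/
noncomputable def bwd : MvPolynomial ι A' →ₐ[A'] A' ⊗[A] J f :=
  MvPolynomial.aeval fun i =>
    xv f (A' := A') (some i) + xv f (A' := A') none * cst f (c i) - cst f (c i)

theorem sum_aux {R : Type u} [CommRing R] (a x b : ι → R) (t : R) (h1 : ∑ i, a i * b i = 1) (h2 : ∑ i, a i * x i = 1) :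
    ∑ i, a i * (x i + t * b i - b i) = t := by
  simp only [mul_sub, mul_add, Finset.sum_sub_distrib, Finset.sum_add_distrib, mul_left_comm _ t, ← Finset.mul_sum, h1, h2]
  ring

include hc in
theorem bwd_tau : bwd f c (tau f) = xv f none := by
  have h1 : ∑ i, cst f (algebraMap A A' (f i)) * cst f (c i) = 1 := by
    simp only [cst, Algebra.TensorProduct.tmul_mul_tmul, one_mul, ← TensorProduct.sum_tmul, hc]
    rfl
  have h2 : ∑ i, cst f (algebraMap A A' (f i)) *
      xv f (some i) = 1 := by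
    have h := congrArg (Algebra.TensorProduct.includeRight : J f →ₐ[A] A' ⊗[A] J f) (J_rel f)
    simp only [map_sum, map_mul, map_one, AlgHom.commutes] at h
    simp only [cst, ← Algebra.TensorProduct.algebraMap_apply, ← IsScalarTower.algebraMap_apply]
    exact h
  simp only [tau, bwd, map_sum, map_mul, aeval_C, aeval_X, Algebra.TensorProduct.algebraMap_apply, Algebra.algebraMap_self, RingHom.id_apply, ← cst.eq_1]
  exact sum_aux (R := A' ⊗[A] J f) _ _ _ _ h1 h2

/-- `A' ⊗ A[x, t]/(Σ fᵢ xᵢ - 1) ≅ A'[y]`. -/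
noncomputable def jEquiv : A' ⊗[A] J f ≃ₐ[A'] MvPolynomial ι A' :=
  AlgEquiv.ofAlgHom (fwd f c hc) (bwd f c)
    (MvPolynomial.algHom_ext fun i => by
      simp [fwd, bwd, gens, xv, cst]
      ring)
    (Algebra.TensorProduct.ext (Subsingleton.elim _ _) (by
      refine Ideal.Quotient.algHom_ext _ (MvPolynomial.algHom_ext fun o => ?_)
      cases o with
      | none =>
        simp only [fwd, AlgHom.coe_comp, AlgHom.coe_restrictScalars', Function.comp_apply,
          Algebra.TensorProduct.includeRight_apply, Algebra.TensorProduct.lift_tmul, map_one, one_mul,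
          Ideal.Quotient.mkₐ_eq_mk, Ideal.Quotient.liftₐ_apply, Ideal.Quotient.lift_mk, RingHom.coe_coe, aeval_X, gens]
        exact bwd_tau f c hc
      | some i =>
        simp only [fwd, AlgHom.coe_comp, AlgHom.coe_restrictScalars', Function.comp_apply,
          Algebra.TensorProduct.includeRight_apply, Algebra.TensorProduct.lift_tmul, map_one, one_mul,
          Ideal.Quotient.mkₐ_eq_mk, Ideal.Quotient.liftₐ_apply, Ideal.Quotient.lift_mk, RingHom.coe_coe, aeval_X, gens,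
          map_sub, map_add, map_mul, bwd_tau f c hc, AlgHom.id_apply]
        simp only [bwd, aeval_C, aeval_X, Algebra.TensorProduct.algebraMap_apply, Algebra.algebraMap_self, RingHom.id_apply, ← cst.eq_1]
        change _ = xv f (some i)
        ring))

end Algebra

/-- A quasi-affine scheme X admits a morphism from an affine scheme T which, after base change to any
affine scheme over X, becomes isomorphic over that affine scheme to an affine space of fixed
dimension n. -/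
theorem result (X : Scheme.{u}) [X.IsQuasiAffine] :
    ∃ (n : ℕ) (T : Scheme.{u}) (_ : IsAffine T) (p : T ⟶ X),
      ∀ (X' : Scheme.{u}) [IsAffine X'] (g : X' ⟶ X),
        ∃ e : Limits.pullback g p ≅ 𝔸(ULift.{u} (Fin n); X'),
          e.hom ≫ (𝔸(ULift.{u} (Fin n); X') ↘ X') = Limits.pullback.fst g p := by
  classical
  obtain ⟨s, hs, hsX⟩ : ∃ s : Finset Γ(X, ⊤), (s : Set Γ(X, ⊤)).Finite ∧
      Set.range X.toSpecΓ.base = (PrimeSpectrum.zeroLocus (s : Set Γ(X, ⊤)))ᶜ := by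
    obtain ⟨I, hIfg, hI⟩ := (PrimeSpectrum.isCompact_isOpen_iff_ideal (R := Γ(X, ⊤))).1
      ⟨isCompact_range X.toSpecΓ.continuous, X.toSpecΓ.isOpenEmbedding.isOpen_range⟩
    obtain ⟨s, rfl⟩ := hIfg
    exact ⟨s, s.finite_toSet, hI.symm.trans (congrArg _ (PrimeSpectrum.zeroLocus_span _))⟩
  let n := s.card
  let f : ULift.{u} (Fin n) → Γ(X, ⊤) := fun i => (s.equivFin.symm i.down : Γ(X, ⊤))
  have hf : Set.range f = (s : Set Γ(X, ⊤)) := by
    ext a
    constructor
    · rintro ⟨i, rfl⟩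
      exact (s.equivFin.symm i.down).2
    · exact fun ha => ⟨⟨s.equivFin ⟨a, ha⟩⟩, by simp [f]⟩
  let π : Spec (CommRingCat.of (J f)) ⟶ Spec Γ(X, ⊤) := Spec.map (CommRingCat.ofHom (algebraMap Γ(X, ⊤) (J f)))
  have hπ : Set.range π.base ⊆ Set.range X.toSpecΓ.base := by
    rintro _ ⟨q, rfl⟩
    refine hsX.ge fun h => ?_
    replace h : ∀ i, f i ∈ (π.base q).asIdeal := fun i => (PrimeSpectrum.mem_zeroLocus _ _).1 h (hf.le ⟨i, rfl⟩)
    apply q.2.ne_top
    rw [Ideal.eq_top_iff_one, ← J_rel f]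
    exact Ideal.sum_mem _ fun i _ => Ideal.mul_mem_right _ _ (h i)
  refine ⟨n, Spec (CommRingCat.of (J f)), inferInstance, IsOpenImmersion.lift X.toSpecΓ π hπ, ?_⟩
  intro X' _ g
  let g' : Spec Γ(X', ⊤) ⟶ Spec Γ(X, ⊤) := X'.isoSpec.inv ≫ g ≫ X.toSpecΓ
  let φ := Spec.preimage g'
  letI : Algebra Γ(X, ⊤) Γ(X', ⊤) := φ.hom.toAlgebra
  obtain ⟨c, hc⟩ : ∃ c : ULift.{u} (Fin n) → Γ(X', ⊤), ∑ i, algebraMap Γ(X, ⊤) Γ(X', ⊤) (f i) * c i = 1 := by
    have h : Ideal.span (Set.range fun i => algebraMap Γ(X, ⊤) Γ(X', ⊤) (f i)) = ⊤ := by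
      by_contra h
      obtain ⟨m, hm, hle⟩ := Ideal.exists_le_maximal _ h
      let q : PrimeSpectrum Γ(X', ⊤) := ⟨m, hm.isPrime⟩
      have hq : g'.base q ∈ Set.range X.toSpecΓ.base := ⟨g.base (X'.isoSpec.inv.base q), rfl⟩
      rw [show g' = Spec.map φ from (Spec.map_preimage g').symm] at hq
      refine hsX.le hq ((PrimeSpectrum.mem_zeroLocus _ _).2 fun a ha => ?_)
      obtain ⟨i, rfl⟩ := hf.ge ha
      exact hle (Ideal.subset_span ⟨i, rfl⟩)
    rw [Ideal.eq_top_iff_one, Ideal.span, Submodule.mem_span_range_iff_exists_fun] at h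
    obtain ⟨c, hc⟩ := h
    exact ⟨c, by simpa [mul_comm] using hc⟩
  have hsq : Spec.map (CommRingCat.ofHom (algebraMap Γ(X, ⊤) Γ(X', ⊤))) = X'.isoSpec.inv ≫ g ≫ X.toSpecΓ := by
    rw [show CommRingCat.ofHom (algebraMap Γ(X, ⊤) Γ(X', ⊤)) = φ from rfl, Spec.map_preimage]
  let p := IsOpenImmersion.lift X.toSpecΓ π hπ
  let e₁ : Limits.pullback g p ≅ Limits.pullback (Spec.map (CommRingCat.ofHom (algebraMap Γ(X, ⊤) Γ(X', ⊤))))
      (Spec.map (CommRingCat.ofHom (algebraMap Γ(X, ⊤) (J f)))) :=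
    (IsPullback.of_isLimit (pullbackIsPullbackOfCompMono g p X.toSpecΓ)).isoPullback ≪≫
      asIso (pullback.map (g ≫ X.toSpecΓ) (p ≫ X.toSpecΓ) _ _ X'.isoSpec.hom (𝟙 _) (𝟙 _)
        (by rw [hsq]; simp) (by simp [p, π]))
  let e₂ := pullbackSpecIso Γ(X, ⊤) Γ(X', ⊤) (J f)
  let e₃ := Scheme.Spec.mapIso (RingEquiv.toCommRingCatIso (R := MvPolynomial (ULift.{u} (Fin n)) Γ(X', ⊤)) (S := Γ(X', ⊤) ⊗[Γ(X, ⊤)] J f) (jEquiv f c hc).symm.toRingEquiv).op
  refine ⟨e₁ ≪≫ e₂ ≪≫ e₃ ≪≫ (AffineSpace.isoOfIsAffine _ X').symm, ?_⟩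
  simp only [Iso.trans_hom, Iso.symm_hom, Category.assoc, AffineSpace.isoOfIsAffine_inv_over]
  have h3 : e₃.hom ≫ Spec.map (CommRingCat.ofHom MvPolynomial.C) =
      Spec.map (CommRingCat.ofHom (algebraMap Γ(X', ⊤) (Γ(X', ⊤) ⊗[Γ(X, ⊤)] J f))) := by
    simp only [e₃, Functor.mapIso_hom, Scheme.Spec_map, Iso.op_hom, Quiver.Hom.unop_op, ← Spec.map_comp]
    congr 1
    ext a
    exact (jEquiv f c hc).symm.commutes a
  have h2 : e₂.hom ≫ Spec.map (CommRingCat.ofHom (algebraMap Γ(X', ⊤) (Γ(X', ⊤) ⊗[Γ(X, ⊤)] J f))) = pullback.fst _ _ :=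
    pullbackSpecIso_hom_fst _ _ _
  rw [reassoc_of% h3, reassoc_of% h2]
  simp [e₁, -Scheme.isoSpec_hom]
  rfl

end Groth.Agent.S9803
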