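import Groth.Statements.S9804

set_option autoImplicit false
universe u
open CategoryTheory AlgebraicGeometry TopologicalSpace
open Props

namespace Groth.Agent.S9804

/-- For quasi-affine schemes U and V and an open immersion j : U → V, the scheme U is the fibre product
of the composite U → V → Spec Γ(V, O_V) and the morphism Spec Γ(U, O_U) → Spec Γ(V, O_V) induced by
restriction of sections along j: the square whose sides are the identity of U, the canonical
morphism U → Spec Γ(U, O_U), that composite and that induced morphism is cartesian. -/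
theorem result {U V : Scheme.{u}} (j : U ⟶ V)
    [IsOpenImmersion j] [U.IsQuasiAffine] [V.IsQuasiAffine] :
    IsPullback (𝟙 U) U.toSpecΓ (j ≫ V.toSpecΓ) (Spec.map j.appTop) := by
  have w : j ≫ V.toSpecΓ = U.toSpecΓ ≫ Spec.map j.appTop := Scheme.toSpecΓ_naturality j
  have : IsOpenImmersion (j ≫ V.toSpecΓ) := inferInstance
  have key : ∀ p : Spec Γ(U, ⊤), Spec.map j.appTop p ∈ Set.range (j ≫ V.toSpecΓ) →
      p ∈ Set.range U.toSpecΓ := by
    rintro p ⟨u, hu⟩
    obtain ⟨_, ⟨_, ⟨r, rfl⟩, rfl⟩, hur, hrU⟩ := (PrimeSpectrum.isBasis_basic_opens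
      (R := Γ(V, ⊤))).exists_subset_of_mem_open (Set.mem_range_self (f := j ≫ V.toSpecΓ) u)
        (j ≫ V.toSpecΓ).isOpenEmbedding.isOpen_range
    have hgr : U.basicOpen (j.appTop r) = (j ≫ V.toSpecΓ) ⁻¹ᵁ PrimeSpectrum.basicOpen r := by
      rw [Scheme.Hom.comp_preimage, Scheme.toSpecΓ_preimage_basicOpen,
        Scheme.preimage_basicOpen_top]
    have haff : IsAffineOpen (U.basicOpen (j.appTop r)) := by
      rw [hgr, ← Scheme.Hom.isAffineOpen_iff_of_isOpenImmersion (j ≫ V.toSpecΓ)]
      convert IsAffineOpen.Spec_basicOpen r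
      exact SetLike.coe_injective (Set.image_preimage_eq_of_subset hrU)
    have hp : p ∈ PrimeSpectrum.basicOpen (j.appTop r) := by
      have : Spec.map j.appTop p ∈ PrimeSpectrum.basicOpen r := hu ▸ hur
      exact this
    have := isLocalization_basicOpen_of_qcqs (X := U) (U := ⊤) isCompact_univ
      isQuasiSeparated_univ (j.appTop r)
    have hr : Set.range ((U.basicOpen (j.appTop r)).toSpecΓ ≫
        Spec.map (U.presheaf.map (homOfLE le_top).op)) = (↑(PrimeSpectrum.basicOpen (j.appTop r)) : Set (PrimeSpectrum Γ(U, ⊤))) := by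
      have : IsIso (U.basicOpen (j.appTop r)).toSpecΓ := inferInstanceAs (IsIso haff.isoSpec.hom)
      rw [Scheme.Hom.comp_base, TopCat.coe_comp, Set.range_comp,
        Set.range_eq_univ.2 (U.basicOpen (j.appTop r)).toSpecΓ.surjective, Set.image_univ]
      exact PrimeSpectrum.localization_away_comap_range _ _
    obtain ⟨q, hq⟩ : p ∈ Set.range ((U.basicOpen (j.appTop r)).toSpecΓ ≫
        Spec.map (U.presheaf.map (homOfLE le_top).op)) := hr ▸ hp
    rw [Scheme.Opens.toSpecΓ_SpecMap_presheaf_map_top] at hq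
    exact ⟨_, hq⟩
  refine IsPullback.of_isLimit' ⟨(Category.id_comp _).trans w⟩
    (Limits.PullbackCone.IsLimit.mk _ (fun s => s.fst) (fun s => Category.comp_id _) (fun s => ?_)
      (fun s m hm _ => (Category.comp_id m).symm.trans hm))
  have hsub : Set.range s.snd ⊆ Set.range U.toSpecΓ := by
    rintro _ ⟨y, rfl⟩
    exact key _ ⟨s.fst y, by
      rw [← Scheme.Hom.comp_apply, ← Scheme.Hom.comp_apply]
      exact congr($(s.condition) y)⟩
  have hl := IsOpenImmersion.lift_fac U.toSpecΓ s.snd hsub
  have : s.fst = IsOpenImmersion.lift U.toSpecΓ s.snd hsub := by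
    rw [← cancel_mono (j ≫ V.toSpecΓ)]
    refine s.condition.trans ?_
    exact (congrArg (fun t => t ≫ Spec.map j.appTop) hl.symm).trans
      ((Category.assoc _ _ _).trans (congrArg (_ ≫ ·) w.symm))
  exact (congrArg (· ≫ U.toSpecΓ) this).trans hl

end Groth.Agent.S9804
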