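import Groth.Statements.S9807
import Groth.Agent.Props12.ClosedPointLocal
import Groth.Agent.CAlgH3.RegularHom

set_option autoImplicit false
universe u
open CategoryTheory AlgebraicGeometry TopologicalSpace
open Props

namespace Groth.Agent.S9807

/-- A locally Noetherian scheme is regular (all local rings regular) as soon as its local rings at
closed points are regular, and conversely. -/
theorem result (X : Scheme.{u}) [IsLocallyNoetherian X] :
    (∀ x : X, IsRegularLocalRing (X.presheaf.stalk x)) ↔
      ∀ x : X, IsClosed ({x} : Set X) → IsRegularLocalRing (X.presheaf.stalk x) := by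
  refine Groth.Agent.Props12.forall_stalk_iff_closedPoints (fun A _ => IsRegularLocalRing A) ?_ ?_
  · intro A _ _ p _ h
    exact Groth.Agent.CAlgH3.isRegularLocalRing_localization p
  · intro A B _ _ e h
    exact IsRegularLocalRing.of_ringEquiv e

end Groth.Agent.S9807
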