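import Groth.Statements.S9813
import Groth.Agent.Props12.SepCover
import Groth.Agent.AmpleLib.Ample

set_option autoImplicit false
universe u
open CategoryTheory CategoryTheory.Limits AlgebraicGeometry TopologicalSpace
open Props

namespace Groth.Agent.S9813

/-- Let L be an invertible module on a scheme X such that every point lies in an affine open of the form
X_s for some global section s of a positive tensor power of L. Then X is separated. In particular a
scheme carrying an ample invertible module is separated. -/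
theorem result (X : Scheme.{u}) (L : X.Modules) (hL : PicF.IsInvertible L)
    (h : ∀ x : X, ∃ (n : ℕ) (s : Coh.structureModule X ⟶ CohB1.tensorPow L (n + 1)),
      x ∈ CohB1.genLocus _ s ∧ IsAffineOpen (CohB1.genLocus _ s)) :
    X.IsSeparated := by
  classical
  choose n s hx ha using h
  let b := fun x => (Groth.Agent.AmpleLib.glocus (CohB1.tensorPow L (n x + 1)) (Groth.Agent.Coherent.unitVal (s x) ⊤))
  have hb : ∀ x, CohB1.genLocus _ (s x) = b x := fun x => Groth.Agent.AmpleLib.genLocus_eq_glocus _
  have key : ∀ (M : X.Modules) (_ : PicF.IsInvertible M) (p q : Γ(M, ⊤))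
      (_ : IsAffineOpen (Groth.Agent.AmpleLib.glocus M q)) (z : Γ(X, Groth.Agent.AmpleLib.glocus M p ⊓ Groth.Agent.AmpleLib.glocus M q)),
      z ∈ Subring.closure
      (Set.range (X.presheaf.map (homOfLE (inf_le_left :
          Groth.Agent.AmpleLib.glocus M p ⊓ Groth.Agent.AmpleLib.glocus M q ≤ Groth.Agent.AmpleLib.glocus M p)).op).hom ∪
        Set.range (X.presheaf.map (homOfLE (inf_le_right :
          Groth.Agent.AmpleLib.glocus M p ⊓ Groth.Agent.AmpleLib.glocus M q ≤ Groth.Agent.AmpleLib.glocus M q)).op).hom) := by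
    intro M hM p q hV z
    let O := Groth.Agent.AmpleLib.glocus M p ⊓ Groth.Agent.AmpleLib.glocus M q
    have hgp := Groth.Agent.AmpleLib.isGen_glocus (L := M) p
    have hgq := Groth.Agent.AmpleLib.isGen_glocus (L := M) q
    let cq := hgq.coef le_rfl (Groth.Agent.Coherent.resM M le_top p)
    let dp := hgp.coef le_rfl (Groth.Agent.Coherent.resM M le_top q)
    have hO : O = X.basicOpen cq := Groth.Agent.AmpleLib.glocus_inf p hgq
    have h1 := hgq.coef_spec le_rfl (Groth.Agent.Coherent.resM M (le_top (a := Groth.Agent.AmpleLib.glocus M q)) p)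
    have h2 := hgp.coef_spec le_rfl (Groth.Agent.Coherent.resM M (le_top (a := Groth.Agent.AmpleLib.glocus M p)) q)
    let c' := X.presheaf.map (homOfLE (inf_le_right : O ≤ Groth.Agent.AmpleLib.glocus M q)).op cq
    let d' := X.presheaf.map (homOfLE (inf_le_left : O ≤ Groth.Agent.AmpleLib.glocus M p)).op dp
    have e1 : c' • Groth.Agent.Coherent.resM M (le_top (a := O)) q = Groth.Agent.Coherent.resM M (le_top (a := O)) p := by
      have := congrArg (Groth.Agent.Coherent.resM M (inf_le_right : O ≤ _)) h1
      simpa only [Groth.Agent.Coherent.resM_smul, Groth.Agent.Coherent.resM_resM] using this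
    have e2 : d' • Groth.Agent.Coherent.resM M (le_top (a := O)) p = Groth.Agent.Coherent.resM M (le_top (a := O)) q := by
      have := congrArg (Groth.Agent.Coherent.resM M (inf_le_left : O ≤ _)) h2
      simpa only [Groth.Agent.Coherent.resM_smul, Groth.Agent.Coherent.resM_resM] using this
    have hcd : c' * d' = 1 := by
      refine (hgq.restrict (inf_le_right : O ≤ _) O le_rfl).1 ?_
      simp only [Groth.Agent.Coherent.resM_resM, one_smul]
      rw [mul_comm, mul_smul, e1, e2]
    let res := X.presheaf.map (homOfLE (inf_le_right : O ≤ Groth.Agent.AmpleLib.glocus M q)).op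
    let _ : Algebra Γ(X, Groth.Agent.AmpleLib.glocus M q) Γ(X, O) := res.hom.toAlgebra
    have : IsLocalization.Away cq Γ(X, O) := hV.isLocalization_of_eq_basicOpen cq
      (homOfLE (inf_le_right : O ≤ Groth.Agent.AmpleLib.glocus M q)) hO
    obtain ⟨k, r, hr⟩ := IsLocalization.Away.surj cq z
    have hz : z = res r * d' ^ k := by
      rw [show res r = algebraMap _ _ r from rfl, ← hr, mul_assoc,
        show algebraMap Γ(X, Groth.Agent.AmpleLib.glocus M q) Γ(X, O) cq = c' from rfl, ← mul_pow, hcd,
        one_pow, mul_one]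
    rw [hz]
    refine mul_mem ?_ (pow_mem ?_ k)
    · exact Subring.subset_closure (Set.mem_union_right _ ⟨r, rfl⟩)
    · exact Subring.subset_closure (Set.mem_union_left _ ⟨dp, rfl⟩)
  refine Groth.Agent.Props12.isSeparated_of_affine_cover b (fun x => hb x ▸ ha x)
    (eq_top_iff.2 fun x _ => Opens.mem_iSup.2 ⟨x, hb x ▸ hx x⟩)
    (fun x y => Groth.Agent.AmpleLib.isAffineOpen_glocus_inf
      (Groth.Agent.AmpleLib.isInvertible_tensorPow hL _) _ (hb y ▸ ha y)) fun x y => ?_
  have hpow := Groth.Agent.AmpleLib.exists_glocus_pow hL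
  obtain ⟨p, hp⟩ := hpow (n x + 1) (Groth.Agent.Coherent.unitVal (s x) ⊤) (n y + 1) (Nat.succ_pos _)
  obtain ⟨q, hq⟩ : ∃ q : Γ(CohB1.tensorPow L ((n x + 1) * (n y + 1)), ⊤),
      Groth.Agent.AmpleLib.glocus _ q = b y := by
    rw [Nat.mul_comm]
    exact hpow (n y + 1) (Groth.Agent.Coherent.unitVal (s y) ⊤) (n x + 1) (Nat.succ_pos _)
  have haq : IsAffineOpen (Groth.Agent.AmpleLib.glocus _ q) := hq ▸ hb y ▸ ha y
  intro z
  have hp' : Groth.Agent.AmpleLib.glocus _ p = b x := hp
  generalize b x = U, b y = V at hp' hq z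
  subst hp' hq
  exact key _ (Groth.Agent.AmpleLib.isInvertible_tensorPow hL _) p q haq z

end Groth.Agent.S9813
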