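import Groth.Statements.S9814
import Groth.Agent.AmpleLib.Ample

set_option autoImplicit false
universe u
open CategoryTheory CategoryTheory.Limits AlgebraicGeometry TopologicalSpace
open Props

namespace Groth.Agent.S9814

/-- Let L be an invertible module on a scheme X. If the opens X_s (s a global section of a positive
tensor power of L) form a basis for the topology, then so do the affine ones among them. -/
theorem result (X : Scheme.{u}) (L : X.Modules) (hL : PicF.IsInvertible L)
    (hB : Opens.IsBasis {U : X.Opens | ∃ (n : ℕ) (s : Coh.structureModule X ⟶ CohB1.tensorPow L (n + 1)),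
      U = CohB1.genLocus _ s}) :
    Opens.IsBasis {U : X.Opens | IsAffineOpen U ∧ ∃ (n : ℕ) (s : Coh.structureModule X ⟶ CohB1.tensorPow L (n + 1)),
      U = CohB1.genLocus _ s} := by
  rw [Opens.isBasis_iff_nbhd] at hB ⊢
  intro V x hx
  obtain ⟨W, hW, hxW, hWV⟩ := exists_isAffineOpen_mem_and_subset (x := x) (U := V) hx
  obtain ⟨G, ⟨n, s, rfl⟩, hxG, hGW⟩ := hB (U := W) hxW
  refine ⟨_, ⟨?_, n, s, rfl⟩, hxG, hGW.trans hWV⟩
  have h := Groth.Agent.AmpleLib.isAffineOpen_glocus_inf
    (Groth.Agent.AmpleLib.isInvertible_tensorPow hL (n + 1)) (Groth.Agent.Coherent.unitVal s ⊤) hW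
  rwa [← Groth.Agent.AmpleLib.genLocus_eq_glocus, inf_eq_left.2 hGW] at h

end Groth.Agent.S9814
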