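import Groth.Statements.S9822
import Mathlib.AlgebraicGeometry.Limits

set_option autoImplicit false
universe u
open CategoryTheory CategoryTheory.Limits AlgebraicGeometry TopologicalSpace Opposite
open Props

namespace Groth.Agent.S9822

/-- A scheme is irreducible if and only if it is nonempty and every nonempty affine open subset is
irreducible. -/
theorem result (X : Scheme.{u}) :
    IrreducibleSpace X ↔ Nonempty X ∧ ∀ U : X.Opens, IsAffineOpen U → (U : Set X).Nonempty → IsIrreducible (U : Set X) := by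
  constructor
  · intro h
    exact ⟨inferInstance, fun U _ hne =>
      ⟨hne, (PreirreducibleSpace.isPreirreducible_univ (X := X)).open_subset U.2 (Set.subset_univ _)⟩⟩
  · rintro ⟨hne, hirr⟩
    have hmeet : ∀ U V : X.Opens, IsAffineOpen U → IsAffineOpen V → (U : Set X).Nonempty →
        (V : Set X).Nonempty → ((U : Set X) ∩ V).Nonempty := by
      intro U V hU hV hUn hVn
      by_contra hno
      have hd : Disjoint (U : Set X) V := Set.disjoint_iff_inter_eq_empty.mpr (Set.not_nonempty_iff_eq_empty.mp hno)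
      have hW := hirr (U ⊔ V) (hU.sup_of_disjoint hV (TopologicalSpace.Opens.coe_disjoint.mp hd))
        (hUn.mono fun _ h => Or.inl h)
      obtain ⟨z, hz, hzU, hzV⟩ := hW.2 U V U.2 V.2
        (hUn.mono fun _ h => ⟨Or.inl h, h⟩) (hVn.mono fun _ h => ⟨Or.inr h, h⟩)
      exact hno ⟨z, hzU, hzV⟩
    refine @IrreducibleSpace.mk X _ ⟨?_⟩ hne
    rintro u v hu hv ⟨x, -, hx⟩ ⟨y, -, hy⟩
    obtain ⟨_, ⟨(U : X.Opens), hU, rfl⟩, hxU, hUu⟩ :=
      X.isBasis_affineOpens.exists_subset_of_mem_open hx hu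
    obtain ⟨_, ⟨(V : X.Opens), hV, rfl⟩, hyV, hVv⟩ :=
      X.isBasis_affineOpens.exists_subset_of_mem_open hy hv
    obtain ⟨z, hzU, hzV⟩ := hmeet U V hU hV ⟨x, hxU⟩ ⟨y, hyV⟩
    exact ⟨z, trivial, hUu hzU, hVv hzV⟩

end Groth.Agent.S9822
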