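import Groth.Statements.S9823
import Groth.Agent.FlatMorStrata.Extend

set_option autoImplicit false
universe u
open CategoryTheory CategoryTheory.Limits AlgebraicGeometry TopologicalSpace Opposite
open Props

namespace Groth.Agent.S9823

/-- In a quasi-compact quasi-separated scheme, an open subset is quasi-compact exactly when its
complement is the support of some quasi-coherent ideal sheaf of finite type. -/
theorem result (X : Scheme.{u}) [CompactSpace X] [QuasiSeparatedSpace X]
    (U : X.Opens) :
    IsCompact (U : Set X) ↔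
      ∃ I : X.IdealSheafData, (∀ V : X.affineOpens, (I.ideal V).FG) ∧ (I.support : Set X) = (U : Set X)ᶜ := by
  constructor
  · intro hU
    by_cases hne : (U : Set X).Nonempty
    · obtain ⟨x, hx⟩ := hne
      obtain ⟨W, hW, hxW, hWU⟩ := TopologicalSpace.Opens.isBasis_iff_nbhd.1 X.isBasis_affineOpens hx
      let Z : TopologicalSpace.Closeds X := ⟨(U : Set X)ᶜ, U.2.isClosed_compl⟩
      let G₀ := Scheme.IdealSheafData.vanishingIdeal Z
      have hsupp : (G₀.support : Set X) = (U : Set X)ᶜ := rfl
      have htop : G₀.ideal ⟨W, hW⟩ = ⊤ := by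
        by_contra hne
        obtain ⟨m, hm, hle⟩ := Ideal.exists_le_maximal _ hne
        have hx : hW.fromSpec ⟨m, hm.isPrime⟩ ∈ W := by
          have : hW.fromSpec ⟨m, hm.isPrime⟩ ∈ Set.range hW.fromSpec := ⟨_, rfl⟩
          rwa [hW.range_fromSpec] at this
        have h2 : hW.fromSpec ⟨m, hm.isPrime⟩ ∈ (G₀.support : Set X) := by
          refine (G₀.mem_support_iff_of_mem (U := ⟨W, hW⟩) hx).2
            (Scheme.mem_zeroLocus_iff _ _ _ |>.2 fun f hf hxf => ?_)
          have : (⟨m, hm.isPrime⟩ : PrimeSpectrum Γ(X, W)) ∈ hW.fromSpec ⁻¹ᵁ X.basicOpen f := hxf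
          rw [hW.fromSpec_preimage_basicOpen] at this
          exact this (hle hf)
        rw [hsupp] at h2
        exact h2 (hWU hx)
      obtain ⟨G, -, hG, -, hGs⟩ := Groth.Agent.FlatMorStrata.exists_fg_le G₀ ⟨W, hW⟩ (htop ▸ ⟨{1}, by simp⟩)
      exact ⟨G, hG, (congrArg SetLike.coe (hGs (by rw [hsupp, compl_compl]; exact hU))).trans hsupp⟩
    · refine ⟨⊥, fun V => ?_, ?_⟩
      · exact Submodule.fg_bot
      · rw [Set.not_nonempty_iff_eq_empty.1 hne, Scheme.IdealSheafData.support_bot]
        simp
  · rintro ⟨I, hI, hsupp⟩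
    obtain ⟨c, hc⟩ := isCompact_univ.elim_finite_subcover (fun V : X.affineOpens => (V.1 : Set X))
      (fun V => V.1.2) (fun x _ => by
        obtain ⟨W, hW, hxW, -⟩ := TopologicalSpace.Opens.isBasis_iff_nbhd.1 X.isBasis_affineOpens
          (show x ∈ (⊤ : X.Opens) from trivial)
        exact Set.mem_iUnion.2 ⟨⟨W, hW⟩, hxW⟩)
    choose s hs using fun V : X.affineOpens => hI V
    have key : (U : Set X) = ⋃ V ∈ c, ⋃ g ∈ s V, (X.basicOpen g : Set X) := by
      ext x
      simp only [Set.mem_iUnion, exists_prop]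
      constructor
      · intro hx
        obtain ⟨V, hV, hxV⟩ := Set.mem_iUnion₂.1 (hc (Set.mem_univ x))
        refine ⟨V, hV, by_contra fun hno => ?_⟩
        have : x ∈ (I.support : Set X) := by
          refine (I.mem_support_iff_of_mem hxV).2 ?_
          rw [← hs V, Scheme.zeroLocus_span, Scheme.mem_zeroLocus_iff]
          exact fun g hg hxg => hno ⟨g, hg, hxg⟩
        rw [hsupp] at this
        exact this hx
      · rintro ⟨V, -, g, hg, hxg⟩
        by_contra hx
        have : x ∈ (I.support : Set X) := hsupp ▸ hx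
        rw [SetLike.mem_coe, I.mem_support_iff_of_mem (X.basicOpen_le g hxg), ← hs V,
          Scheme.zeroLocus_span, Scheme.mem_zeroLocus_iff] at this
        exact this g hg hxg
    rw [key]
    exact c.finite_toSet.isCompact_biUnion fun V _ => (s V).finite_toSet.isCompact_biUnion fun g _ =>
      (V.2.basicOpen g).isCompact

end Groth.Agent.S9823
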