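import Groth.Statements.S9824
import Groth.Agent.Props12.FinLocFree

set_option autoImplicit false
universe u
open CategoryTheory CategoryTheory.Limits AlgebraicGeometry TopologicalSpace Opposite
open Props

namespace Groth.Agent.S9824

/-- Over a reduced scheme, a quasi-coherent module is finite locally free if and only if it is of finite
type and its fibre rank (the dimension of the stalk tensored with the residue field) is a locally
constant function. -/
theorem result (X : Scheme.{u}) [IsReduced X]
    (M : X.Modules) [Coh.IsQCoh M] :
    FlatMod.IsFinLocFree M ↔ CohB1.IsFT M ∧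
      IsLocallyConstant (fun x : X => Module.finrank (IsLocalRing.ResidueField (X.presheaf.stalk x))
          (TensorProduct (X.presheaf.stalk x) (IsLocalRing.ResidueField (X.presheaf.stalk x)) (M.presheaf.stalk x))) := by
  have key : ∀ x : X, Module.Free (X.presheaf.stalk x) (M.presheaf.stalk x) →
      Module.finrank (IsLocalRing.ResidueField (X.presheaf.stalk x))
        (TensorProduct (X.presheaf.stalk x) (IsLocalRing.ResidueField (X.presheaf.stalk x))
          (M.presheaf.stalk x)) = Module.finrank (X.presheaf.stalk x) (M.presheaf.stalk x) :=
    fun x hx => Module.finrank_baseChange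
  constructor
  · intro h
    have hfree := Groth.Agent.Props12.free_stalk_of_isFinLocFree M h
    have : SheafOfModules.IsFinitePresentation (R := X.ringCatSheaf) M :=
      Groth.Agent.Props12.isFP_of_isFinLocFree M h
    refine ⟨inferInstance, (IsLocallyConstant.iff_exists_open _).2 fun x => ?_⟩
    obtain ⟨U, n, hxU, hb⟩ := Groth.Agent.Props12.exists_nhd_basis_stalk M h x
    refine ⟨U, U.2, hxU, fun y hy => ?_⟩
    obtain ⟨b⟩ := hb y hy
    obtain ⟨b'⟩ := hb x hxU
    rw [key y (hfree y), key x (hfree x), Module.finrank_eq_card_basis b,
      Module.finrank_eq_card_basis b']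
  · rintro ⟨hT, hrank⟩
    exact Groth.Agent.Props12.isFinLocFree_of_fibreRank_locallyConstant M hT hrank

end Groth.Agent.S9824
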