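import Groth.Statements.S9836
import Groth.Agent.FlatMor12.HomQCoh
import Groth.Agent.SerreDual.ExtShRep
import Groth.Agent.S1178
import Groth.Agent.EGA43.FibDepth.GeomChart

set_option autoImplicit false
universe u
open CategoryTheory CategoryTheory.Limits AlgebraicGeometry
open Props

namespace Groth.Agent.S9836

/-- For a closed immersion i : Z → X with ideal sheaf of finite type and a quasi-coherent O_X-module F,
the subsheaf of sections of F annihilated by the ideal, namely i_* Hom(O_Z, F) for the right adjoint
Hom(O_Z, -) of i_*, is a quasi-coherent O_X-module. -/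
theorem result {Z X : Scheme.{u}} (i : Z ⟶ X)
    [IsClosedImmersion i] [LocallyOfFinitePresentation i] [Dual3.HasHomO i] (F : X.Modules) [Coh.IsQCoh F] :
    Coh.IsQCoh ((Scheme.Modules.pushforward i).obj ((Dual3.homO i).obj F)) := by
  have : Coh.IsQCoh (Coh.structureModule Z) := Groth.Agent.Coherent.isQCoh_structureModule
  have hP : CohB1.IsFP ((Scheme.Modules.pushforward i).obj (Coh.structureModule Z)) :=
    (Groth.Agent.S1178.result i (Coh.structureModule Z)).1 (Groth.Agent.EGA43.FibDepth.isFP_structureModule Z)
  have : Coh.IsQCoh ((Scheme.Modules.pushforward i).obj (Coh.structureModule Z)) :=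
    Groth.Agent.Coherent.isQCoh_push i _
  have h := Groth.Agent.FlatMor12.isQCoh_internalHom_of_isFP (N := F) hP
  have : Coh.IsQCoh ((Groth.Agent.Coherent.internalHomFunctor
    ((Scheme.Modules.pushforward i).obj (Coh.structureModule Z))).obj F) := h
  exact Groth.Agent.Coherent.isQCoh_of_iso ((Groth.Agent.SerreDual.internalHomPushIso i).app F ≪≫
    (Scheme.Modules.pushforward i).mapIso
      (((Groth.Agent.SerreDual.shriekAdj i).rightAdjointUniq (Dual3.homOAdj i)).app F))

end Groth.Agent.S9836
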