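import Groth.Statements.S9838
import Groth.Agent.Coherent.FinitePres

set_option autoImplicit false
open CategoryTheory CategoryTheory.Limits AlgebraicGeometry Opposite
universe u
open Desc

set_option backward.isDefEq.respectTransparency.types false
set_option backward.isDefEq.respectTransparency false

namespace Groth.Agent.S9838


/-- Let f : X ⟶ Y be a finite morphism of schemes and F a quasi-coherent O_X-module. The pushforward
f_*F is of finite type as an O_Y-module exactly when F itself is of finite type as an O_X-module. -/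
theorem result {X Y : Scheme.{u}} (f : X ⟶ Y) [IsFinite f]
    (F : X.Modules) [F.IsQuasicoherent] :
    SheafOfModules.IsFiniteType (R := X.ringCatSheaf) F ↔
      SheafOfModules.IsFiniteType (R := Y.ringCatSheaf) ((Scheme.Modules.pushforward f).obj F) := by
  have hq : Coh.IsQCoh ((Scheme.Modules.pushforward f).obj F) := Groth.Agent.Coherent.isQCoh_push f F
  have hF : Coh.IsQCoh F := ‹F.IsQuasicoherent›
  constructor
  · intro h
    have hc : Coh.IsCoh F := ⟨hF, h⟩
    refine ((Groth.Agent.Coherent.isCoh_iff_finite_sections _).2 ⟨hq, fun V hV => ?_⟩).2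
    let := (f.app V).hom.toAlgebra
    have : Module.Finite Γ(Y, V) Γ(X, f ⁻¹ᵁ V) := IsFinite.finite_app f V hV
    have := ((Groth.Agent.Coherent.isCoh_iff_finite_sections F).1 hc).2 _ (hV.preimage f)
    let := Module.compHom Γ(F, f ⁻¹ᵁ V) (f.app V).hom
    have : IsScalarTower Γ(Y, V) Γ(X, f ⁻¹ᵁ V) Γ(F, f ⁻¹ᵁ V) :=
      IsScalarTower.of_algebraMap_smul fun _ _ => rfl
    exact (Module.Finite.trans Γ(X, f ⁻¹ᵁ V) Γ(F, f ⁻¹ᵁ V) :
      Module.Finite Γ(Y, V) Γ(F, f ⁻¹ᵁ V))
  · intro h
    have hP := ((Groth.Agent.Coherent.isCoh_iff_finite_sections _).1 (⟨hq, h⟩ : Coh.IsCoh _)).2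
    refine (Groth.Agent.Coherent.isCoh_of_finite_sections_cover F hF
      (fun V : Y.affineOpens => f ⁻¹ᵁ V.1) (fun V => V.2.preimage f) (fun x => ?_) (fun V => ?_)).2
    · obtain ⟨V, hV, hy, -⟩ := exists_isAffineOpen_mem_and_subset (x := f x) (U := ⊤) trivial
      exact ⟨⟨V, hV⟩, hy⟩
    · have hM := hP V.1 V.2
      let := (f.app V.1).hom.toAlgebra
      let := Module.compHom Γ(F, f ⁻¹ᵁ V.1) (f.app V.1).hom
      have : IsScalarTower Γ(Y, V.1) Γ(X, f ⁻¹ᵁ V.1) Γ(F, f ⁻¹ᵁ V.1) :=
        IsScalarTower.of_algebraMap_smul fun _ _ => rfl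
      have : Module.Finite Γ(Y, V.1) Γ(F, f ⁻¹ᵁ V.1) := hM
      exact Module.Finite.of_restrictScalars_finite Γ(Y, V.1) _ _

end Groth.Agent.S9838
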