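import Groth.Statements.S9858
import Groth.Agent.Desc19b.EffReduce
import Groth.Agent.Desc19b.ZariskiRefine

set_option linter.style.haveILetI false
set_option backward.isDefEq.respectTransparency false
set_option backward.isDefEq.respectTransparency.types false

set_option autoImplicit false
open CategoryTheory CategoryTheory.Limits AlgebraicGeometry Opposite
universe u
open Desc

namespace Groth.Agent.S9858

theorem hasAffineQuotient_of_equiv {S : Scheme.{u}} {A : CommRingCat.{u}} {j : Spec A ⟶ S} {κ : Type u}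
    {B : κ → CommRingCat.{u}} {b : ∀ k, A ⟶ B k} {D : SchDDFam (fun k => Spec.map (b k) ≫ j)} {U : Scheme.{u}}
    (π : U ⟶ Spec A)
    (Φ : ∀ {T : Scheme.{u}} (k : κ) (x : T ⟶ Spec (B k)),
      Lifts (D.obj k) x ≃ {τ : T ⟶ U // τ ≫ π = x ≫ Spec.map (b k)})
    (nat : ∀ {T T' : Scheme.{u}} (g : T' ⟶ T) (k : κ) (x : T ⟶ Spec (B k)) (y : T' ⟶ Spec (B k)) (_ : g ≫ x = y)
      (t : Lifts (D.obj k) x) (t' : Lifts (D.obj k) y), t'.1 = g ≫ t.1 → (Φ k y t').1 = g ≫ (Φ k x t).1)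
    (inv : ∀ {T : Scheme.{u}} {k l : κ} (x : T ⟶ Spec (B k)) (y : T ⟶ Spec (B l))
      (h : x ≫ Spec.map (b k) ≫ j = y ≫ Spec.map (b l) ≫ j) (t : Lifts (D.obj k) x),
      (Φ l y (D.φ x y h t)).1 = (Φ k x t).1) : Desc19b.HasAffineQuotient j b D := by
  let q : ∀ k, (D.obj k).left ⟶ U := fun k => (Φ k (D.obj k).hom ⟨𝟙 _, Category.id_comp _⟩).1
  have spec : ∀ {T : Scheme.{u}} (k : κ) (x : T ⟶ Spec (B k)) (t : Lifts (D.obj k) x), (Φ k x t).1 = t.1 ≫ q k :=
    fun k x t => nat t.1 k _ x t.2 _ t (Category.comp_id _).symm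
  refine ⟨U, π, q, fun k => ?_, fun {T k l} x y h t => by rw [← spec, ← spec, inv]⟩
  refine ⟨⟨(Φ k (D.obj k).hom ⟨𝟙 _, Category.id_comp _⟩).2⟩, ⟨PullbackCone.IsLimit.mk _
    (fun s => ((Φ k s.snd).symm ⟨s.fst, s.condition⟩).1) ?_ (fun s => ((Φ k s.snd).symm ⟨s.fst, s.condition⟩).2) ?_⟩⟩
  · intro s
    rw [← spec, Equiv.apply_symm_apply]
  · intro s m h1 h2
    have : (⟨m, h2⟩ : Lifts (D.obj k) s.snd) = (Φ k s.snd).symm ⟨s.fst, s.condition⟩ := by
      rw [Equiv.eq_symm_apply]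
      exact Subtype.ext ((spec k s.snd ⟨m, h2⟩).trans h1)
    exact congrArg Subtype.val this

theorem exists_lifts_of_iso {S₀ Z : Scheme.{u}} {c : Z ⟶ S₀} {D₁ : SchDDFam (fun _ : PUnit.{u + 1} => c)} {U : Over S₀}
    (e₁ : (toDDFam (fun _ : PUnit.{u + 1} => c)).obj U ≅ D₁) :
    ∃ Φ : ∀ {T : Scheme.{u}} (x : T ⟶ Z), Lifts (D₁.obj ⟨⟩) x ≃ {τ : T ⟶ U.left // τ ≫ U.hom = x ≫ c},
      (∀ {T T' : Scheme.{u}} (l : T' ⟶ T) (x : T ⟶ Z) (y : T' ⟶ Z) (_ : l ≫ x = y) (t : Lifts (D₁.obj ⟨⟩) x)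
        (t' : Lifts (D₁.obj ⟨⟩) y), t'.1 = l ≫ t.1 → (Φ y t').1 = l ≫ (Φ x t).1) ∧
      ∀ {T : Scheme.{u}} (x y : T ⟶ Z) (h : x ≫ c = y ≫ c) (t : Lifts (D₁.obj ⟨⟩) x),
        (Φ y (D₁.φ x y h t)).1 = (Φ x t).1 := by
  have el : (e₁.hom.hom ⟨⟩).left ≫ (e₁.inv.hom ⟨⟩).left = 𝟙 _ :=
    (Over.comp_left _ _ _ (e₁.hom.hom ⟨⟩) (e₁.inv.hom ⟨⟩)).symm.trans (congrArg
      (fun q : (toDDFam (fun _ : PUnit.{u + 1} => c)).obj U ⟶ (toDDFam (fun _ : PUnit.{u + 1} => c)).obj U =>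
        (q.hom ⟨⟩).left) e₁.hom_inv_id)
  have er : (e₁.inv.hom ⟨⟩).left ≫ (e₁.hom.hom ⟨⟩).left = 𝟙 _ :=
    (Over.comp_left _ _ _ (e₁.inv.hom ⟨⟩) (e₁.hom.hom ⟨⟩)).symm.trans (congrArg
      (fun q : D₁ ⟶ D₁ => (q.hom ⟨⟩).left) e₁.inv_hom_id)
  refine ⟨fun {T} x =>
    { toFun := fun t => ⟨(e₁.inv.push t).1 ≫ pullback.snd c U.hom, by
        have h1 : (e₁.inv.push t).1 ≫ pullback.fst c U.hom = x := (e₁.inv.push t).2
        rw [Category.assoc, ← pullback.condition, reassoc_of% h1]⟩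
      invFun := fun τ => e₁.hom.push (x := x) (show Lifts (((toDDFam (fun _ : PUnit.{u + 1} => c)).obj U).obj ⟨⟩) x
        from ⟨pullback.lift x τ.1 τ.2.symm, pullback.lift_fst _ _ _⟩)
      left_inv := fun t => Subtype.ext (by
        show pullback.lift x ((t.1 ≫ (e₁.inv.hom ⟨⟩).left) ≫ pullback.snd c U.hom) _ ≫ (e₁.hom.hom ⟨⟩).left = t.1
        erw [show pullback.lift x ((t.1 ≫ (e₁.inv.hom ⟨⟩).left) ≫ pullback.snd c U.hom) _ = t.1 ≫ (e₁.inv.hom ⟨⟩).left
          from pullback.hom_ext ((pullback.lift_fst _ _ _).trans (e₁.inv.push t).2.symm) (pullback.lift_snd _ _ _)]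
        rw [Category.assoc, er]
        exact Category.comp_id _)
      right_inv := fun τ => Subtype.ext (by
        simp only [SchDDFam.Hom.push, Category.assoc]
        erw [reassoc_of% el, pullback.lift_snd]) }, ?_, ?_⟩
  · intro T T' l x y _ t t' ht
    simp [SchDDFam.Hom.push, ht]
  · intro T x y h t
    have h2 := e₁.inv.comm (i := PUnit.unit) (j := PUnit.unit) x y h t (e₁.inv.push t) rfl
    show ((D₁.φ x y h t).1 ≫ _) ≫ _ = _
    rw [← h2]
    exact pullback.lift_snd _ _ _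

/-- Case τ = fpqc: let P be a property of morphisms of schemes which is stable under base change and
under finite disjoint unions, and such that for every flat surjective morphism of affine schemes p :
X ⟶ S, every descent datum relative to p whose structure morphism to X has P is effective. Then for
every fpqc covering family u i : U i ⟶ S of a scheme S, every descent datum for schemes relative to
(u i) all of whose structure morphisms have P is effective. -/
theorem result (P : MorphismProperty Scheme.{u}) [P.IsStableUnderBaseChange]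
    (h2 : ∀ (m : ℕ) (Y V : Fin m → Scheme.{u}) (q : ∀ j, Y j ⟶ V j), (∀ j, P (q j)) → P (Limits.Sigma.map q))
    (h3 : ∀ (X S : Scheme.{u}) (p : X ⟶ S), IsAffine X → IsAffine S → Flat p → Surjective p →
      ∀ D : Desc.SchDD p, P D.obj.hom → ∃ U : Over S, Nonempty ((Desc.toDD p).obj U ≅ D))
    {ι : Type u} {S : Scheme.{u}} {U : ι → Scheme.{u}} (u : ∀ i, U i ⟶ S)
    (hu : Presieve.ofArrows U u ∈ Scheme.fpqcPrecoverage S) (D : Desc.SchDDFam u) (hD : ∀ i, P (D.obj i).hom) :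
    D.IsEffective := by
  refine Desc19b.isEffective_of_core P hu D hD fun {S'} {A} j _ {κ} _ {B} b hb hs D' hD' => ?_
  obtain ⟨m, ⟨ε⟩⟩ := Finite.exists_equiv_fin κ
  let Z : Fin m → Scheme.{u} := fun i => Spec (B (ε.symm i))
  let c : (∐ Z) ⟶ Spec A := Sigma.desc fun i => Spec.map (b (ε.symm i))
  let g : ∀ k, Spec (B k) ⟶ ∐ Z := fun k =>
    eqToHom (congrArg (fun l => Spec (B l)) (ε.symm_apply_apply k).symm) ≫ Sigma.ι Z (ε k)
  have hgc : ∀ k, g k ≫ c = Spec.map (b k) := fun k => by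
    simp only [g, c, Category.assoc, Sigma.ι_desc]
    generalize_proofs h
    revert h
    generalize ε.symm (ε k) = l, ε.symm_apply_apply k = hl
    subst hl
    simp
  have w : ∀ k, g k ≫ c ≫ j = Spec.map (b k) ≫ j := fun k => by rw [reassoc_of% (hgc k)]
  have hcov : ∀ i : PUnit.{u + 1}, Presieve.ofArrows (fun k : {_k : κ // PUnit.unit = i} => Spec (B k.1))
      (Desc19b.ZariskiRefine.gj (α := fun _ => PUnit.unit) (V := fun _ : PUnit.{u + 1} => ∐ Z) g i) ∈
        Scheme.zariskiPrecoverage (∐ Z) := fun i => by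
    refine (Scheme.presieve₀_mem_precoverage_iff (PreZeroHypercover.mk _ _ _)).2 ⟨fun x => ?_, fun k => ?_⟩
    · obtain ⟨i', y, hy⟩ := (sigmaOpenCover Z).exists_eq x
      obtain ⟨k, rfl⟩ := ε.surjective i'
      haveI : IsIso (eqToHom (congrArg (fun l => Spec (B l)) (ε.symm_apply_apply k).symm)) := inferInstance
      obtain ⟨y', hy'⟩ := (Scheme.Hom.surjective (eqToHom (congrArg (fun l => Spec (B l)) (ε.symm_apply_apply k).symm))) y
      refine ⟨⟨k, rfl⟩, y', ?_⟩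
      simp [Desc19b.ZariskiRefine.gj, g]
      exact (congrArg _ hy').trans hy
    · show IsOpenImmersion (g k.1 ≫ eqToHom _)
      infer_instance
  obtain ⟨E, ⟨a⟩⟩ := Desc19b.ZariskiRefine.exists_preimage (v := fun _ : PUnit.{u + 1} => c ≫ j)
    (α := fun _ => PUnit.unit) (g := g) w hcov D'
  have hiso : P.RespectsIso := inferInstance
  let PDE := Desc19b.PullRefine.PD (v := fun _ : PUnit.{u + 1} => c ≫ j) (α := fun _ => PUnit.unit) (g := g) w E
  have hpiece : ∀ k, P (pullback.snd (E.obj ⟨⟩).hom (g k)) := fun k => by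
    have hl : (a.hom.hom k).left ≫ (a.inv.hom k).left = 𝟙 _ := (Over.comp_left _ _ _ (a.hom.hom k) (a.inv.hom k)).symm.trans
      (congrArg (fun q : PDE ⟶ PDE => (q.hom k).left) a.hom_inv_id)
    have hr : (a.inv.hom k).left ≫ (a.hom.hom k).left = 𝟙 _ := (Over.comp_left _ _ _ (a.inv.hom k) (a.hom.hom k)).symm.trans
      (congrArg (fun q : D' ⟶ D' => (q.hom k).left) a.inv_hom_id)
    haveI : IsIso (a.hom.hom k).left := ⟨_, hl, hr⟩
    have := (P.cancel_left_of_respectsIso (a.hom.hom k).left (D'.obj k).hom).2 (hD' k)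
    rwa [show (a.hom.hom k).left ≫ (D'.obj k).hom = pullback.snd (E.obj ⟨⟩).hom (g k) from Over.w (a.hom.hom k)]
      at this
  have hP : P (E.obj ⟨⟩).hom := by
    let p : ∀ i, pullback (E.obj ⟨⟩).hom (Sigma.ι Z i) ⟶ (E.obj ⟨⟩).left := fun i => pullback.fst _ _
    haveI : IsOpenImmersion (Sigma.desc p) := isOpenImmersion_sigmaDesc _ _ fun i i' hne => by
      rw [Function.onFun, Set.disjoint_left]
      rintro x ⟨y, rfl⟩ ⟨y', hy'⟩
      have h1 : Sigma.ι Z i ((pullback.snd (E.obj ⟨⟩).hom (Sigma.ι Z i)) y) =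
          Sigma.ι Z i' ((pullback.snd (E.obj ⟨⟩).hom (Sigma.ι Z i')) y') := by
        rw [← Scheme.Hom.comp_apply, ← Scheme.Hom.comp_apply, ← pullback.condition, ← pullback.condition,
          Scheme.Hom.comp_apply, Scheme.Hom.comp_apply]
        exact congrArg _ hy'.symm
      exact Set.disjoint_left.1 (TopologicalSpace.Opens.coe_disjoint.2 (disjoint_opensRange_sigmaι Z i i' hne))
        ⟨_, rfl⟩ ⟨_, h1.symm⟩
    haveI : Surjective (Sigma.desc p) := ⟨fun x => by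
      obtain ⟨i, y, hy⟩ := (sigmaOpenCover Z).exists_eq ((E.obj ⟨⟩).hom x)
      obtain ⟨z, hz, -⟩ := Scheme.Pullback.exists_preimage_pullback (f := (E.obj ⟨⟩).hom) (g := Sigma.ι Z i) x y hy.symm
      refine ⟨Sigma.ι (fun i => pullback (E.obj ⟨⟩).hom (Sigma.ι Z i)) i z, ?_⟩
      rw [← Scheme.Hom.comp_apply, Sigma.ι_desc]
      exact hz⟩
    haveI : IsIso (Sigma.desc p) := (isIso_iff_isOpenImmersion_and_surjective _).2 ⟨inferInstance, inferInstance⟩
    have e : Sigma.desc p ≫ (E.obj ⟨⟩).hom = Limits.Sigma.map fun i => pullback.snd (E.obj ⟨⟩).hom (Sigma.ι Z i) :=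
      Limits.Sigma.hom_ext _ _ fun i => by simp [p, pullback.condition]
    refine (P.cancel_left_of_respectsIso (Sigma.desc p) _).1 ?_
    rw [e]
    refine h2 m _ Z _ fun i => ?_
    obtain ⟨k, rfl⟩ := ε.surjective i
    let η := eqToHom (congrArg (fun l => Spec (B l)) (ε.symm_apply_apply k).symm)
    have sq : IsPullback (pullback.fst (E.obj ⟨⟩).hom (g k)) (pullback.snd (E.obj ⟨⟩).hom (g k) ≫ η)
        (E.obj ⟨⟩).hom (Sigma.ι Z (ε k)) :=
      (IsPullback.of_hasPullback _ (g k)).of_iso (Iso.refl _) (Iso.refl _)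
        (asIso η) (Iso.refl _) (by simp) (by simp) (by simp) (by simp [η, g])
    have h1 := (P.cancel_right_of_respectsIso (pullback.snd (E.obj ⟨⟩).hom (g k)) η).2 (hpiece k)
    rw [← sq.isoPullback_hom_snd] at h1
    exact (P.cancel_left_of_respectsIso sq.isoPullback.hom _).1 h1
  -- the single morphism
  have hflat : Flat c := IsZariskiLocalAtSource.sigmaDesc fun i =>
    (HasRingHomProperty.Spec_iff (P := @Flat)).2 (hb (ε.symm i))
  have hsurj : Surjective c := ⟨fun y => by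
    obtain ⟨k, z, hz⟩ := hs y
    refine ⟨g k z, ?_⟩
    rw [← Scheme.Hom.comp_apply, hgc]
    exact hz⟩
  let D₁ : SchDDFam (fun _ : PUnit.{u + 1} => c) :=
    (pullDDFam (f := fun _ : PUnit.{u + 1} => c ≫ j) (f' := fun _ : PUnit.{u + 1} => c) (α := fun _ => PUnit.unit)
      (p := j) (p' := fun _ => 𝟙 (∐ Z)) (fun _ => Category.id_comp _)).obj E
  obtain ⟨U, ⟨e⟩⟩ := h3 (∐ Z) (Spec A) c inferInstance inferInstance hflat hsurj
    ((SchDDFam.toSchDD c).obj D₁) (MorphismProperty.pullback_snd _ _ hP)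
  obtain ⟨Φ₁, Φ₁nat, Φ₁inv⟩ := exists_lifts_of_iso (U := U) ((SchDDFam.ofSchDD c).mapIso e : _ ≅ D₁)
  have al : ∀ k, (a.hom.hom k).left ≫ (a.inv.hom k).left = 𝟙 _ := fun k =>
    (Over.comp_left _ _ _ (a.hom.hom k) (a.inv.hom k)).symm.trans
      (congrArg (fun q : PDE ⟶ PDE => (q.hom k).left) a.hom_inv_id)
  have ar : ∀ k, (a.inv.hom k).left ≫ (a.hom.hom k).left = 𝟙 _ := fun k =>
    (Over.comp_left _ _ _ (a.inv.hom k) (a.hom.hom k)).symm.trans
      (congrArg (fun q : D' ⟶ D' => (q.hom k).left) a.inv_hom_id)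
  let toE : ∀ {T : Scheme.{u}} (k : κ) (x : T ⟶ Spec (B k)), Lifts (D'.obj k) x ≃ Lifts (E.obj ⟨⟩) (x ≫ g k) :=
    fun {T} k x => Equiv.trans
      { toFun := fun t => a.inv.push t
        invFun := fun t => a.hom.push t
        left_inv := fun t => Subtype.ext (by simp only [SchDDFam.Hom.push, Category.assoc]; rw [ar]; exact Category.comp_id _)
        right_inv := fun t => Subtype.ext (by simp only [SchDDFam.Hom.push, Category.assoc]; rw [al]; exact Category.comp_id _) }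
      (liftsPullbackEquiv (E.obj ⟨⟩) (g k) x)
  refine hasAffineQuotient_of_equiv U.hom (fun {T} k x => (((toE k x).trans
      ((Equiv.subtypeEquivRight fun _ => by rw [Category.comp_id]).trans
        (liftsPullbackEquiv (E.obj ⟨⟩) (𝟙 (∐ Z)) (x ≫ g k)).symm)).trans (Φ₁ (x ≫ g k))).trans
      (Equiv.subtypeEquivRight fun _ => by rw [Category.assoc, hgc])) ?_ ?_
  · intro T T' l k x y hy t t' ht
    subst hy
    refine Φ₁nat l _ _ (Category.assoc _ _ _).symm _ _ ?_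
    apply pullback.hom_ext <;> simp [toE, liftsPullbackEquiv, SchDDFam.Hom.push, ht, Category.assoc]
  · intro T k l x y h t
    have hgE : (x ≫ g k) ≫ c ≫ j = (y ≫ g l) ≫ c ≫ j := by simpa only [Category.assoc, w] using h
    have hgc' : (x ≫ g k) ≫ c = (y ≫ g l) ≫ c := by
      rw [← cancel_mono j, Category.assoc, hgE]
      simp only [Category.assoc]
    have hE : toE l y (D'.φ x y h t) = E.φ _ _ hgE (toE k x t) := by
      have h2 : PDE.φ x y h (a.inv.push t) = a.inv.push (D'.φ x y h t) :=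
        Subtype.ext (a.inv.comm x y h t (a.inv.push t) rfl)
      show liftsPullbackEquiv _ _ _ (a.inv.push (D'.φ x y h t)) = _
      rw [← h2]
      exact Equiv.apply_symm_apply _ _
    simp only [Equiv.trans_apply, Equiv.subtypeEquivRight_apply_coe]
    erw [hE, ← Φ₁inv (x ≫ g k) (y ≫ g l) hgc']
    refine congrArg (fun z => (Φ₁ (y ≫ g l) z).1) ?_
    show (liftsPullbackEquiv (E.obj ⟨⟩) (𝟙 (∐ Z)) (y ≫ g l)).symm _ =
      (liftsPullbackEquiv (E.obj ⟨⟩) (𝟙 (∐ Z)) (y ≫ g l)).symm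
        (E.φ ((x ≫ g k) ≫ 𝟙 (∐ Z)) ((y ≫ g l) ≫ 𝟙 (∐ Z)) (by simpa only [Category.comp_id] using hgE)
          (liftsPullbackEquiv (E.obj ⟨⟩) (𝟙 (∐ Z)) (x ≫ g k)
            ((liftsPullbackEquiv (E.obj ⟨⟩) (𝟙 (∐ Z)) (x ≫ g k)).symm _)))
    rw [Equiv.apply_symm_apply]
    refine congrArg _ ?_
    apply Subtype.ext
    show (E.φ _ _ _ _).1 = (E.φ _ _ _ _).1
    have key := E.φ_natural (i := PUnit.unit) (j := PUnit.unit) (𝟙 T) _ _ hgE ((x ≫ g k) ≫ 𝟙 (∐ Z)) ((y ≫ g l) ≫ 𝟙 (∐ Z)) (by simp) (by simp)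
      (by simpa only [Category.comp_id] using hgE) (toE k x t) ⟨(toE k x t).1, by simpa using (toE k x t).2⟩ (by simp)
    exact ((Category.id_comp _).symm.trans key.symm)

end Groth.Agent.S9858
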