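import Groth.Statements.S9860

set_option linter.style.haveILetI false

set_option autoImplicit false
open CategoryTheory CategoryTheory.Limits AlgebraicGeometry Opposite
universe u
open Desc

namespace Groth.Agent.S9860

/-- Consider morphisms of schemes f i : X i ⟶ X indexed by i. Suppose that, whenever Y is an affine
scheme and g : Y ⟶ X is a morphism, the sieve on Y obtained by pulling back along g (generated by
the base changes X i ×_X Y ⟶ Y) is effective epimorphic. Then the pulled-back sieve along every
morphism Y ⟶ X of schemes is effective epimorphic; in other words, within schemes the family forms a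
universal effective epimorphism. -/
theorem result {ι : Type u} {X : Scheme.{u}} {Xi : ι → Scheme.{u}} (f : ∀ i, Xi i ⟶ X)
    (h : ∀ (Y : Scheme.{u}) (g : Y ⟶ X), IsAffine Y → ((Sieve.ofArrows Xi f).pullback g).EffectiveEpimorphic)
    {Y : Scheme.{u}} (g : Y ⟶ X) : ((Sieve.ofArrows Xi f).pullback g).EffectiveEpimorphic := by
  rw [Sieve.EffectiveEpimorphic.iff_forall_isSheafFor_yoneda]
  intro W x hx
  let S : Sieve Y := (Sieve.ofArrows Xi f).pullback g
  -- amalgamations over affine schemes mapping to `Y`
  have key : ∀ (T : Scheme.{u}) [IsAffine T] (k : T ⟶ Y), ∃! a : T ⟶ W,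
      ∀ (T' : Scheme.{u}) (l : T' ⟶ T) (hl : S (l ≫ k)), l ≫ a = x (l ≫ k) hl := by
    intro T _ k
    have hT : (S.pullback k).EffectiveEpimorphic := by
      have := h T (k ≫ g) inferInstance
      rwa [Sieve.pullback_comp] at this
    have hsh := (Sieve.EffectiveEpimorphic.iff_forall_isSheafFor_yoneda _).1 hT W
    let y : Presieve.FamilyOfElements (yoneda.obj W) (S.pullback k).arrows := fun T' l hl => x (l ≫ k) hl
    have hy : y.Compatible := fun T₁ T₂ Z g₁ g₂ f₁ f₂ h₁ h₂ e =>
      hx g₁ g₂ h₁ h₂ (by rw [reassoc_of% e])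
    obtain ⟨a, ha, hu⟩ := hsh y hy
    exact ⟨a, fun T' l hl => ha l hl, fun b hb => hu b fun T' l hl => hb T' l hl⟩
  choose s hs hu using fun (T : Scheme.{u}) (hT : IsAffine T) (k : T ⟶ Y) => @key T hT k
  have nat : ∀ (T T' : Scheme.{u}) (hT : IsAffine T) (hT' : IsAffine T') (k : T ⟶ Y) (m : T' ⟶ T) (k' : T' ⟶ Y),
      m ≫ k = k' → m ≫ s T hT k = s T' hT' k' := by
    rintro T T' hT hT' k m k' rfl
    refine hu T' hT' _ _ fun T'' l hl => ?_
    have := hs T hT k T'' (l ≫ m) (by rw [Category.assoc]; exact hl)
    simp only [Category.assoc] at this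
    exact this
  let G : Y ⟶ W := Y.affineCover.glueMorphisms (fun i => s _ inferInstance (Y.affineCover.f i)) fun i j => by
    refine (Limits.pullback (Y.affineCover.f i) (Y.affineCover.f j)).affineCover.hom_ext _ _ fun k => ?_
    rw [← Category.assoc, ← Category.assoc, nat _ _ _ inferInstance _ _ _ rfl,
      nat _ _ _ inferInstance _ _ _ rfl]
    simp only [Category.assoc, Limits.pullback.condition]
  have hG : ∀ (T : Scheme.{u}) (hT : IsAffine T) (k : T ⟶ Y), k ≫ G = s T hT k := by
    intro T hT k
    refine Scheme.Cover.hom_ext (Y.affineCover.pullback₁ k) _ _ fun (i : Y.affineCover.I₀) => ?_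
    refine (Limits.pullback k (Y.affineCover.f i)).affineCover.hom_ext _ _ fun j => ?_
    show _ ≫ Limits.pullback.fst k (Y.affineCover.f i) ≫ k ≫ G = _ ≫ Limits.pullback.fst k (Y.affineCover.f i) ≫ s T hT k
    have h0 : Y.affineCover.f i ≫ G = s _ inferInstance (Y.affineCover.f i) :=
      Scheme.Cover.ι_glueMorphisms _ _ _ i
    rw [Limits.pullback.condition_assoc, h0, ← Category.assoc, ← Category.assoc,
      nat _ _ _ inferInstance _ _ _ rfl, nat _ _ _ inferInstance _ _ _ rfl]
    simp only [Category.assoc, Limits.pullback.condition]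
  refine ⟨G, fun T k hk => ?_, fun G' hG' => Y.affineCover.hom_ext _ _ fun i => ?_⟩
  · refine T.affineCover.hom_ext _ _ fun i => ?_
    show T.affineCover.f i ≫ k ≫ G = T.affineCover.f i ≫ x k hk
    rw [← Category.assoc, hG _ inferInstance]
    have h1 : S (T.affineCover.f i ≫ k) := S.downward_closed hk _
    have h2 := hs _ inferInstance (T.affineCover.f i ≫ k) _ (𝟙 _) (by simpa using h1)
    rw [Category.id_comp] at h2
    rw [h2]
    exact ((Category.id_comp _).symm.trans
      (hx (𝟙 _) (T.affineCover.f i) (by rw [Category.id_comp]; exact h1) hk (by simp)))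
  · rw [hG _ inferInstance]
    refine hu _ inferInstance _ _ fun T' l hl => ?_
    rw [← Category.assoc]
    exact hG' _ hl

end Groth.Agent.S9860
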