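import Groth.Statements.S9863
import Groth.Agent.Desc19b.SyntSerre

set_option autoImplicit false
open CategoryTheory CategoryTheory.Limits AlgebraicGeometry Opposite
universe u
open Desc

set_option backward.isDefEq.respectTransparency.types false
set_option backward.isDefEq.respectTransparency false

namespace Groth.Agent.S9863


/-- The property 'locally Noetherian and (S_k)' is local in the syntomic topology: for a jointly
surjective family of syntomic morphisms f i : X i ⟶ S and k a natural number, S is locally
Noetherian with all local rings satisfying Serre's condition (S_k) if and only if every X i is. -/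
theorem result {ι : Type u} {S : Scheme.{u}} {X : ι → Scheme.{u}} (f : ∀ i, X i ⟶ S)
    (hsurj : ∀ s : S, ∃ i, s ∈ Set.range (f i).base) (hsyn : ∀ i, Synt.IsSyntomicMor (f i)) (k : ℕ) :
    (IsLocallyNoetherian S ∧ ∀ s : S, LocCoh.HasSk k (S.presheaf.stalk s) (S.presheaf.stalk s)) ↔
      ∀ i, IsLocallyNoetherian (X i) ∧ ∀ x : X i, LocCoh.HasSk k ((X i).presheaf.stalk x) ((X i).presheaf.stalk x) := by
  rw [Groth.Agent.Desc19b.SyntSerre.isLocallyNoetherian_iff f hsurj hsyn]
  constructor
  · rintro ⟨hX, h⟩ i
    refine ⟨hX i, fun x => ?_⟩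
    have := hX i
    have := (Groth.Agent.Desc19b.SyntSerre.isLocallyNoetherian_iff f hsurj hsyn).2 hX
    exact (Groth.Agent.Desc19b.SyntSerre.hasSk_stalk_iff (f i) (hsyn i) x k).1 (h _)
  · intro h
    have := (Groth.Agent.Desc19b.SyntSerre.isLocallyNoetherian_iff f hsurj hsyn).2 fun i => (h i).1
    refine ⟨fun i => (h i).1, fun s => ?_⟩
    obtain ⟨i, x, rfl⟩ := hsurj s
    have := (h i).1
    exact (Groth.Agent.Desc19b.SyntSerre.hasSk_stalk_iff (f i) (hsyn i) x k).2 ((h i).2 x)

end Groth.Agent.S9863
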