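import Groth.Statements.S9866
import Groth.Agent.Desc19b.SubQuot

set_option backward.isDefEq.respectTransparency false
set_option backward.isDefEq.respectTransparency.types false

set_option autoImplicit false
open CategoryTheory CategoryTheory.Limits AlgebraicGeometry Opposite
universe u
open Desc

namespace Groth.Agent.S9866

/-- Let p : X ⟶ S be a surjective, flat, quasi-compact morphism of schemes and D = (V, φ) a descent
datum for schemes relative to p. Suppose every point v of V lies in the image of some morphism of
descent data D' ⟶ D whose underlying morphism of schemes over X is an open immersion and whose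
source D' is effective (isomorphic to the canonical descent datum of a scheme over S). Then D is
effective. (A φ-stable open W ⊆ V with its restricted descent datum, as in the published statement,
is the same thing as such a morphism D' ⟶ D up to isomorphism.) -/
theorem result {X S : Scheme.{u}} (p : X ⟶ S) [Surjective p] [Flat p] [QuasiCompact p]
    (D : Desc.SchDD p)
    (h : ∀ v : D.obj.left, ∃ (D' : Desc.SchDD p) (j : D' ⟶ D), IsOpenImmersion j.hom.left ∧
      v ∈ Set.range j.hom.left.base ∧ ∃ U' : Over S, Nonempty ((Desc.toDD p).obj U' ≅ D')) :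
    ∃ U : Over S, Nonempty ((Desc.toDD p).obj U ≅ D) := by
  have hf : Presieve.ofArrows (fun _ : PUnit.{u + 1} => X) (fun _ => p) ∈ Scheme.fpqcPrecoverage S := by
    rw [Presieve.ofArrows_pUnit]; exact p.singleton_mem_fpqcPrecoverage
  obtain ⟨U, ⟨e⟩⟩ := Desc19b.SubQuotGlue.isEffective (D := (SchDDFam.ofSchDD p).obj D) hf fun i v => by
    obtain ⟨D', j, hj, hv, U', ⟨e'⟩⟩ := h v
    let a := (SchDDFam.ofSchDD p).map j
    have : ∀ i, IsOpenImmersion (a.hom i).left := fun _ => hj
    exact ⟨⟨_, Desc19b.SubQuot.exists_of_open_sub a ⟨U', ⟨(SchDDFam.ofSchDD p).mapIso e'⟩⟩⟩, hv⟩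
  exact ⟨U, ⟨(SchDDFam.toSchDD p).mapIso e⟩⟩

end Groth.Agent.S9866
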