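import Groth.Statements.S9867
import Groth.Agent.Et18.Descent
import Groth.Agent.FlatLocal.Descent
import Mathlib.AlgebraicGeometry.Morphisms.LocalFlatDescent
import Mathlib.AlgebraicGeometry.Morphisms.FlatRank

set_option autoImplicit false
open CategoryTheory CategoryTheory.Limits AlgebraicGeometry Opposite
universe u
open Desc

namespace Groth.Agent.S9867

/-- Being finite locally free (finite, flat and locally of finite presentation), and being finite
locally free of a given degree d, are fpqc local on the base; the descent directions, stated as
descent along surjective flat quasi-compact morphisms: if the base change of f along such a morphism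
is finite locally free then so is f, and if moreover that base change has constant rank d (Mathlib's
rank function of a finite flat morphism) then f has constant rank d. (With Zariski-locality on the
target these give the statements for arbitrary fpqc coverings; stability under base change is the
other direction.) -/
theorem result :
    MorphismProperty.DescendsAlong (fun _ _ f => Mor2.IsFinLocFree f : MorphismProperty Scheme.{u})
      (@Surjective ⊓ @Flat ⊓ @QuasiCompact : MorphismProperty Scheme.{u}) ∧
    ∀ d : ℕ, MorphismProperty.DescendsAlong (fun _ _ f => Mor2.IsFinLocFreeOfDeg d f : MorphismProperty Scheme.{u})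
      (@Surjective ⊓ @Flat ⊓ @QuasiCompact : MorphismProperty Scheme.{u}) := by
  haveI := Groth.Agent.Et18.descends_isFinite.{u}
  have key : ∀ {A X Y Z : Scheme.{u}} {fst : A ⟶ X} {snd : A ⟶ Y} {f : X ⟶ Z} {g : Y ⟶ Z}, IsPullback fst snd f g → (@Surjective ⊓ @Flat ⊓ @QuasiCompact : MorphismProperty Scheme.{u}) f → Mor2.IsFinLocFree fst → Mor2.IsFinLocFree g := by
    rintro A X Y Z fst snd f g h hf ⟨h1, h2, h3⟩
    refine ⟨MorphismProperty.of_isPullback_of_descendsAlong (P := @IsFinite) (Q := Groth.Agent.Et18.FPQC) h hf h1, ?_, MorphismProperty.of_isPullback_of_descendsAlong (P := @LocallyOfFinitePresentation) (Q := @Surjective ⊓ @Flat ⊓ @QuasiCompact) h hf h3⟩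
    obtain ⟨⟨_, _⟩, _⟩ := hf
    haveI : Surjective snd := MorphismProperty.of_isPullback (P := @Surjective) h ‹Surjective f›
    haveI : Flat snd := MorphismProperty.of_isPullback (P := @Flat) h ‹Flat f›
    haveI : Flat (snd ≫ g) := by rw [← h.w]; infer_instance
    exact Groth.Agent.FlatLocal.flat_of_comp snd g
  refine ⟨⟨key⟩, fun d => ⟨fun {A X Y Z fst snd f g} h hf hd => ⟨key h hf hd.1, fun z => ?_⟩⟩⟩
  obtain ⟨x, rfl⟩ := hf.1.1.surj z
  obtain ⟨_, _, _⟩ := key h hf hd.1
  rw [← Scheme.Hom.finrank_of_isPullback snd fst g f h.flip x]
  exact hd.2 x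

end Groth.Agent.S9867
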