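import Groth.Statements.S9869
import Groth.Agent.AlgSpLib.EqvQuot
-- import your own Groth.Agent.* helpers here

set_option autoImplicit false
universe u
open CategoryTheory CategoryTheory.Limits AlgebraicGeometry
open AlgSp

namespace Groth.Agent.S9869

/-- Let `s, t : R ⟶ U` be an etale equivalence relation on a scheme `U` over `S` and suppose that the
fppf quotient sheaf `U/R` is an algebraic space over `S`. Then the quotient map `h_U ⟶ U/R` is
representable etale and representable surjective, and `(U, R, h_U ⟶ U/R)` is a presentation of `U/R`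
(in particular `h_R`, with `h_t` and `h_s`, is the fibre product `h_U ×_{U/R} h_U`). The quotient
map is written on `h_U` through the canonical identification of `h_U` with the sheafified
representable presheaf. -/
theorem result (S : Scheme.{u}) {R U : Over S} (s t : R ⟶ U)
    (h : AlgSp.IsEtaleEqvRel s t) (hq : AlgSp.IsAlgSpace (QuotSh.quot Scheme.fppfPrecoverage s t)) :
    AlgSp.IsPresentation s t
      ((QuotSh.repIsoUliftYoneda Scheme.fppfPrecoverage U).inv ≫ QuotSh.quotπ Scheme.fppfPrecoverage s t) := by
  obtain ⟨e, he⟩ := Groth.Agent.AlgSpLib.exists_iso_quot s t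
  have hp := Groth.Agent.AlgSpLib.isPresentation_quotSp h
  rw [← he]
  refine ⟨h, Groth.Agent.AlgSpLib.RepWith.comp hp.etale (Groth.Agent.AlgSpLib.repWith_of_isIso _ e.hom),
    Groth.Agent.AlgSpLib.RepWith.comp hp.surjective (Groth.Agent.AlgSpLib.repWith_of_isIso _ e.hom), ?_⟩
  exact hp.isPullback.of_iso (Iso.refl _) (Iso.refl _) (Iso.refl _) e (by simp) (by simp) (by simp) (by simp)

end Groth.Agent.S9869
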