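import Groth.Statements.S9870
import Groth.Agent.AlgSpLib.EqvQuot
-- import your own Groth.Agent.* helpers here

set_option autoImplicit false
universe u
open CategoryTheory CategoryTheory.Limits AlgebraicGeometry
open AlgSp

namespace Groth.Agent.S9870

/-- Let `s, t : R ⟶ U` be a pre-relation on a scheme `U` over `S` which is an equivalence relation (on
`T`-points, for every scheme `T` over `S`), with `s` and `t` surjective, flat and locally of finite
presentation, and let `g : U' ⟶ U` be flat and locally of finite presentation. Let `s', t' : R' ⟶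
U'` be the restriction of the pre-relation to `U'`, i.e. `R'` with `(t', s')` and `R' ⟶ R` is the
fibre product of `U' ×_S U'` and `R` over `U ×_S U`. Then the map of fppf quotient sheaves `U'/R' ⟶
U/R` induced by `g` (the unique map under the quotient maps compatible with `h_g`) is representable
and an open immersion. -/
theorem result (S : Scheme.{u}) {R U R' U' : Over S} (s t : R ⟶ U)
    (g : U' ⟶ U) (s' t' : R' ⟶ U') (r : R' ⟶ R)
    (hsq : IsPullback (prod.lift t' s') r (prod.map g g) (prod.lift t s))
    (hR : AlgSp.IsEqvRel s t)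
    [Surjective s.left] [Flat s.left] [LocallyOfFinitePresentation s.left]
    [Surjective t.left] [Flat t.left] [LocallyOfFinitePresentation t.left]
    [Flat g.left] [LocallyOfFinitePresentation g.left]
    (φ : QuotSh.quot Scheme.fppfPrecoverage s' t' ⟶ QuotSh.quot Scheme.fppfPrecoverage s t)
    (hφ : QuotSh.quotπ Scheme.fppfPrecoverage s' t' ≫ φ = QuotSh.repMap Scheme.fppfPrecoverage g ≫ QuotSh.quotπ Scheme.fppfPrecoverage s t) :
    AlgSp.RepWith @IsOpenImmersion φ := by
  obtain ⟨e, he⟩ := Groth.Agent.AlgSpLib.exists_iso_quot s t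
  obtain ⟨e', he'⟩ := Groth.Agent.AlgSpLib.exists_iso_quot s' t'
  have key : AlgSp.RepWith @IsOpenImmersion (e'.hom ≫ φ ≫ e.inv) := by
    refine Groth.Agent.AlgSpLib.repWith_isOpenImmersion_quotSp_restrict hR g hsq _ ?_
    rw [← Category.assoc, he', Category.assoc, ← Category.assoc (QuotSh.quotπ _ s' t'), hφ,
      Category.assoc, ← Category.assoc, ← cancel_mono e.hom]
    simp only [Category.assoc, Iso.inv_hom_id, Category.comp_id, he]
    rw [← Category.assoc, ← Category.assoc]
    congr 1
    rw [Iso.inv_comp_eq, ← Category.assoc, Iso.eq_comp_inv]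
    exact Groth.Agent.AlgSpLib.repMap_comp_repIso g
  exact (MorphismProperty.cancel_left_of_respectsIso (AlgSp.RepWith @IsOpenImmersion) e'.hom φ).1
    ((MorphismProperty.cancel_right_of_respectsIso (AlgSp.RepWith @IsOpenImmersion) (e'.hom ≫ φ) e.inv).1
      (by rw [Category.assoc]; exact key))

end Groth.Agent.S9870
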