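import Groth.Statements.S9871
import Groth.Agent.AlgSpLib.Basic
-- import your own Groth.Agent.* helpers here

set_option autoImplicit false
universe u
open CategoryTheory CategoryTheory.Limits AlgebraicGeometry
open AlgSp

namespace Groth.Agent.S9871

/-- Let `s, t : R ⟶ U` be an etale equivalence relation on a scheme `U` over `S` and let `g : U' ⟶ U` be
an etale morphism over `S`. Let `s', t' : R' ⟶ U'` be the restriction to `U'`: `R'`, with `(t', s')`
and `R' ⟶ R`, is the fibre product of `U' ×_S U'` and `R` over `U ×_S U`. Then `s', t'` is again an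
etale equivalence relation. -/
theorem result (S : Scheme.{u}) {R U R' U' : Over S} (s t : R ⟶ U)
    (g : U' ⟶ U) (s' t' : R' ⟶ U') (r : R' ⟶ R)
    (hsq : IsPullback (prod.lift t' s') r (prod.map g g) (prod.lift t s))
    (h : AlgSp.IsEtaleEqvRel s t) [Etale g.left] :
    AlgSp.IsEtaleEqvRel s' t' := by
  have fac : ∀ {T : Over S} (x : T ⟶ R'), (x ≫ t') ≫ g = (x ≫ r) ≫ t ∧
      (x ≫ s') ≫ g = (x ≫ r) ≫ s := by
    intro T x
    have h1 := congrArg (fun z => x ≫ z ≫ prod.fst) hsq.w
    have h2 := congrArg (fun z => x ≫ z ≫ prod.snd) hsq.w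
    simp [prod.lift_fst, prod.lift_snd, prod.lift_fst_assoc, prod.lift_snd_assoc] at h1 h2
    exact ⟨by simpa using h1, by simpa using h2⟩
  have mkl : ∀ {T : Over S} (a b : T ⟶ U') (z : T ⟶ R), z ≫ t = a ≫ g → z ≫ s = b ≫ g →
      ∃ x : T ⟶ R', x ≫ t' = a ∧ x ≫ s' = b := by
    intro T a b z h1 h2
    obtain ⟨x, hx, -⟩ := hsq.exists_lift (prod.lift a b) z (by
      apply Limits.prod.hom_ext <;> simp [prod.lift_fst, prod.lift_snd, prod.lift_fst_assoc, prod.lift_snd_assoc, h1, h2])
    exact ⟨x, by simpa [prod.lift_fst] using congrArg (· ≫ prod.fst) hx,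
      by simpa [prod.lift_snd] using congrArg (· ≫ prod.snd) hx⟩
  have het : Etale (prod.map g g).left := by
    have e : prod.map g g = prod.map g (𝟙 U') ≫ prod.map (𝟙 U) g := by
      apply Limits.prod.hom_ext <;> simp
    rw [e, Over.comp_left]
    have h1 : Etale (prod.map g (𝟙 U')).left := MorphismProperty.of_isPullback (P := @Etale)
      ((Groth.Agent.AlgSpLib.isPullback_prod_map_id g).map (Over.forget S)) (inferInstanceAs (Etale g.left))
    have h2 : Etale (prod.map (𝟙 U) g).left := MorphismProperty.of_isPullback (P := @Etale)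
      ((Groth.Agent.AlgSpLib.isPullback_prod_id_map g).map (Over.forget S)) (inferInstanceAs (Etale g.left))
    exact inferInstance
  have hr : Etale r.left :=
    MorphismProperty.of_isPullback (P := @Etale) (hsq.map (Over.forget S)) het
  have key : ∀ (σ' : R' ⟶ U') (σ : R ⟶ U), Etale σ.left → σ' ≫ g = r ≫ σ → Etale σ'.left := by
    intro σ' σ hσ e
    have : Etale (σ'.left ≫ g.left) := by
      rw [← Over.comp_left, e, Over.comp_left]
      infer_instance
    exact Etale.of_comp σ'.left g.left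
  refine ⟨⟨fun T x y h1 h2 => ?_, fun T => ?_⟩, key s' s h.etale_left ?_, key t' t h.etale_right ?_⟩
  · apply hsq.hom_ext
    · apply Limits.prod.hom_ext <;> simp [prod.lift_fst, prod.lift_snd, h1, h2]
    · refine h.injective T _ _ ?_ ?_
      · rw [← (fac x).1, ← (fac y).1, h1]
      · rw [← (fac x).2, ← (fac y).2, h2]
  · refine ⟨fun a => ?_, ?_, ?_⟩
    · obtain ⟨z, hz1, hz2⟩ := (h.equivalence T).refl (a ≫ g)
      exact mkl a a z hz1 hz2
    · rintro a b ⟨x, rfl, rfl⟩
      obtain ⟨z, hz1, hz2⟩ := (h.equivalence T).symm ⟨x ≫ r, (fac x).1.symm, (fac x).2.symm⟩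
      exact mkl _ _ z hz1 hz2
    · rintro a b c ⟨x, rfl, hb⟩ ⟨y, hb', rfl⟩
      obtain ⟨z, hz1, hz2⟩ := (h.equivalence T).trans ⟨x ≫ r, (fac x).1.symm, (fac x).2.symm⟩
        ⟨y ≫ r, by rw [← (fac y).1, hb', ← hb], (fac y).2.symm⟩
      exact mkl _ _ z hz1 hz2
  · simpa using (fac (𝟙 R')).2
  · simpa using (fac (𝟙 R')).1

end Groth.Agent.S9871
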