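import Groth.Statements.S9886
import Groth.Agent.AlgSpLib.Diag
-- import your own Groth.Agent.* helpers here

set_option autoImplicit false
universe u
open CategoryTheory CategoryTheory.Limits AlgebraicGeometry
open AlgSp

namespace Groth.Agent.S9886

/-- Let `F` be an fppf sheaf of sets over `S` and `P` a property of morphisms of schemes stable under
base change. Assume that for all schemes `U`, `V` over `S` and all `a : h_U ⟶ F`, `b : h_V ⟶ F` the
fibre product `h_U ×_F h_V` is represented by some scheme `W` over `S` with its projections induced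
by morphisms `W ⟶ U`, `W ⟶ V`, and that for every such represented fibre product the morphism `W ⟶ U
×_S V` has `P`. Then the diagonal `F ⟶ F × F` is representable by schemes and has `P`. (The
published statement is for a presheaf of sets `F` and a property `P` that is also fppf local on the
base; this row takes `F` an fppf sheaf and `P` only stable under base change.) -/
theorem result (S : Scheme.{u}) (F : AlgSp.Sp S) (P : MorphismProperty Scheme.{u})
    [P.IsStableUnderBaseChange]
    (h₁ : ∀ ⦃U V : Over S⦄ (a : (AlgSp.yon S).obj U ⟶ F) (b : (AlgSp.yon S).obj V ⟶ F),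
      ∃ (W : Over S) (fst : W ⟶ U) (snd : W ⟶ V), IsPullback ((AlgSp.yon S).map fst) ((AlgSp.yon S).map snd) a b)
    (h₂ : ∀ ⦃U V W : Over S⦄ (a : (AlgSp.yon S).obj U ⟶ F) (b : (AlgSp.yon S).obj V ⟶ F) (fst : W ⟶ U)
      (snd : W ⟶ V), IsPullback ((AlgSp.yon S).map fst) ((AlgSp.yon S).map snd) a b → P (prod.lift fst snd).left) :
    AlgSp.RepWith P (Limits.diag F) := by
  refine MorphismProperty.relative.of_exists fun T g => ?_
  obtain ⟨W, fst, snd, sq⟩ := h₁ (g ≫ prod.fst) (g ≫ prod.snd)
  have hP := h₂ _ _ fst snd sq
  have sqd := Groth.Agent.AlgSpLib.isPullback_diag_prod_map sq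
  have sqO := IsPullback.of_hasPullback (prod.lift fst snd) (Limits.diag T)
  have hsnd : P (pullback.snd (prod.lift fst snd) (Limits.diag T)).left :=
    P.of_isPullback (sqO.map (Over.forget S)) hP
  have sqy := sqO.map (yon S)
  have sq₂ : IsPullback ((yon S).map (pullback.fst (prod.lift fst snd) (Limits.diag T)))
      ((yon S).map (pullback.snd (prod.lift fst snd) (Limits.diag T)))
      (prod.lift ((yon S).map fst) ((yon S).map snd))
      ((yon S).map (Limits.diag T) ≫ prodComparison (yon S) T T) := by
    have e : prod.lift ((yon S).map fst) ((yon S).map snd) =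
        (yon S).map (prod.lift fst snd) ≫ prodComparison (yon S) T T := by
      apply Limits.prod.hom_ext <;> simp [prod.lift_fst, prod.lift_snd, ← Functor.map_comp]
    rw [e]
    exact IsPullback.of_iso sqy (Iso.refl _) (Iso.refl _) (Iso.refl _)
      (asIso (prodComparison (yon S) T T)) (by simp) (by simp) (by simp) (by simp)
  have sq₃ := sq₂.paste_horiz sqd
  have e2 : ((yon S).map (Limits.diag T) ≫ prodComparison (yon S) T T) ≫
      prod.map (g ≫ prod.fst) (g ≫ prod.snd) = g := by
    apply Limits.prod.hom_ext
    · simp [prod.lift_fst, ← Functor.map_comp_assoc]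
    · simp [prod.lift_snd, ← Functor.map_comp_assoc]
  rw [e2] at sq₃
  exact ⟨_, _, _, sq₃, hsnd⟩

end Groth.Agent.S9886
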