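import Groth.Statements.S9889
import Mathlib.AlgebraicGeometry.Morphisms.Flat
-- import your own Groth.Agent.* helpers here

set_option autoImplicit false
universe u
open CategoryTheory CategoryTheory.Limits AlgebraicGeometry
open AlgSp

namespace Groth.Agent.S9889

set_option backward.isDefEq.respectTransparency.types false in
/-- Let `U` be a scheme over `S` and `G` a group acting on `U` by automorphisms over `S`, freely: no
non-identity element of `G` fixes a point `x` of `U` while inducing the identity on its residue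
field (equivalently, composing `Spec κ(x) ⟶ U` with the automorphism changes it). Let `R = ∐_{g ∈ G}
U` (coproduct in schemes over `S`) with `s` the identity and `t` the action of `g` on the `g`-th
copy. Then `s, t : R ⟶ U` is an etale equivalence relation on `U` over `S` (so that `U/R` is an
algebraic space). -/
theorem result (S : Scheme.{u}) (U : Over S) (G : Type u) [Group G] (ρ : G →* Aut U)
    (hfree : ∀ (g : G) (x : U.left), g ≠ 1 →
      U.left.fromSpecResidueField x ≫ (ρ g).hom.left ≠ U.left.fromSpecResidueField x)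
    (c : Cofan (fun _ : G => U)) (hc : IsColimit c) (s t : c.pt ⟶ U)
    (hs : ∀ g, c.inj g ≫ s = 𝟙 U) (ht : ∀ g, c.inj g ≫ t = (ρ g).hom) :
    AlgSp.IsEtaleEqvRel s t := by
  let W : G → Scheme.{u} := fun _ => U.left
  have hc' : IsColimit (Cofan.mk c.pt.left fun g => (c.inj g).left : Cofan W) :=
    isColimitCofanMkObjOfIsColimit (Over.forget S) (fun _ : G => U) (fun g => c.inj g)
      (hc.ofIsoColimit (Cofan.ext (Iso.refl _) (fun g => Category.comp_id _)))
  let e : (∐ W) ≅ c.pt.left := (colimit.isColimit (Discrete.functor W)).coconePointUniqueUpToIso hc'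
  have he : ∀ g, Sigma.ι W g ≫ e.hom = (c.inj g).left := fun g =>
    IsColimit.comp_coconePointUniqueUpToIso_hom (colimit.isColimit (Discrete.functor W)) hc' ⟨g⟩
  have : ∀ g, IsOpenImmersion (c.inj g).left := fun g => by rw [← he]; infer_instance
  let 𝒱 : c.pt.left.OpenCover := (sigmaOpenCover W).pushforwardIso e.hom
  -- local form of a point
  have loc : ∀ {T : Over S} (r : T ⟶ c.pt) (z : T.left), ∃ (O : T.left.Opens) (g : G) (x : (O : Scheme.{u}) ⟶ U.left),
      z ∈ O ∧ O.ι ≫ r.left = x ≫ (c.inj g).left := by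
    intro T r z
    obtain ⟨g, u, hu⟩ := (sigmaOpenCover W).exists_eq (e.inv (r.left z))
    refine ⟨r.left ⁻¹ᵁ (c.inj g).left.opensRange, g,
      IsOpenImmersion.lift (c.inj g).left (_ ≫ r.left) ?_, ⟨u, ?_⟩, (IsOpenImmersion.lift_fac _ _ _).symm⟩
    · rintro _ ⟨w, rfl⟩
      exact w.2
    · show (c.inj g).left u = r.left z
      rw [← he, Scheme.Hom.comp_apply]
      exact (congrArg e.hom hu).trans (by rw [← Scheme.Hom.comp_apply, e.inv_hom_id]; rfl)
  have hsl : ∀ g, (c.inj g).left ≫ s.left = 𝟙 _ := fun g => congrArg CommaMorphism.left (hs g)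
  have htl : ∀ g, (c.inj g).left ≫ t.left = (ρ g).hom.left := fun g => congrArg CommaMorphism.left (ht g)
  have hmul : ∀ g h, (ρ (g * h)).hom.left = (ρ h).hom.left ≫ (ρ g).hom.left := fun g h => by
    rw [map_mul]; rfl
  have hone : (ρ 1).hom.left = 𝟙 _ := by rw [map_one]; rfl
  -- equal sources and targets force equal indices
  have key : ∀ {O : Scheme.{u}} (x : O ⟶ U.left) (g h : G) (z : O),
      x ≫ (ρ g).hom.left = x ≫ (ρ h).hom.left → g = h := by
    intro O x g h z hx
    by_contra hne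
    refine hfree (h⁻¹ * g) (x z) (fun hh => hne ?_) ?_
    · exact (inv_mul_eq_one.mp hh).symm
    let p := O.fromSpecResidueField z ≫ x
    have : Surjective (Spec.map (x.residueFieldMap z)) := ⟨fun q => ⟨IsLocalRing.closedPoint _, Subsingleton.elim _ _⟩⟩
    have : Flat (Spec.map (x.residueFieldMap z)) := by
      rw [HasRingHomProperty.Spec_iff (P := @Flat)]
      exact RingHom.Flat.of_isField (Field.toIsField _) _
    have : Epi (Spec.map (x.residueFieldMap z)) := Flat.epi_of_flat_of_surjective _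
    rw [← cancel_epi (Spec.map (x.residueFieldMap z)), Scheme.Hom.SpecMap_residueFieldMap_fromSpecResidueField,
      Scheme.Hom.SpecMap_residueFieldMap_fromSpecResidueField_assoc, hmul, reassoc_of% hx, ← hmul,
      inv_mul_cancel, hone, Category.comp_id]
  have injl : ∀ {O : Scheme.{u}} (x y : O ⟶ U.left) (g h : G),
      x ≫ (c.inj g).left ≫ s.left = y ≫ (c.inj h).left ≫ s.left →
      x ≫ (c.inj g).left ≫ t.left = y ≫ (c.inj h).left ≫ t.left →
      x ≫ (c.inj g).left = y ≫ (c.inj h).left := by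
    intro O x y g h h1 h2
    rw [hsl, hsl, Category.comp_id, Category.comp_id] at h1
    subst h1
    rw [htl, htl] at h2
    rcases isEmpty_or_nonempty O with hO | ⟨⟨z⟩⟩
    · exact (isInitialOfIsEmpty (X := O)).hom_ext _ _
    · rw [key x g h z h2]
  have inj' : ∀ (T : Over S) (r r' : T ⟶ c.pt), r ≫ t = r' ≫ t → r ≫ s = r' ≫ s → r = r' := by
    intro T r r' h1 h2
    apply Over.OverMorphism.ext
    choose O g x hz hx using fun z => loc r z
    choose O' g' x' hz' hx' using fun z => loc r' z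
    refine Scheme.Cover.hom_ext (T.left.openCoverOfIsOpenCover (fun z => O z ⊓ O' z)
      (top_unique fun z _ => TopologicalSpace.Opens.mem_iSup.mpr ⟨z, hz z, hz' z⟩)) _ _ fun z => ?_
    show (O z ⊓ O' z).ι ≫ r.left = (O z ⊓ O' z).ι ≫ r'.left
    have e1 : (O z ⊓ O' z).ι ≫ r.left = (T.left.homOfLE inf_le_left ≫ x z) ≫ (c.inj (g z)).left := by
      rw [Category.assoc, ← hx, ← Category.assoc, Scheme.homOfLE_ι]
    have e2 : (O z ⊓ O' z).ι ≫ r'.left = (T.left.homOfLE inf_le_right ≫ x' z) ≫ (c.inj (g' z)).left := by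
      rw [Category.assoc, ← hx', ← Category.assoc, Scheme.homOfLE_ι]
    have k1 : r.left ≫ s.left = r'.left ≫ s.left := congrArg CommaMorphism.left h2
    have k2 : r.left ≫ t.left = r'.left ≫ t.left := congrArg CommaMorphism.left h1
    have q1 : ((O z ⊓ O' z).ι ≫ r.left) ≫ s.left = ((O z ⊓ O' z).ι ≫ r'.left) ≫ s.left := by
      rw [Category.assoc, Category.assoc, k1]
    have q2 : ((O z ⊓ O' z).ι ≫ r.left) ≫ t.left = ((O z ⊓ O' z).ι ≫ r'.left) ≫ t.left := by
      rw [Category.assoc, Category.assoc, k2]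
    rw [e1, e2] at q1 q2
    rw [e1, e2]
    exact injl _ _ _ _ ((Category.assoc _ _ _).symm.trans (q1.trans (Category.assoc _ _ _)))
      ((Category.assoc _ _ _).symm.trans (q2.trans (Category.assoc _ _ _)))
  -- glueing local relations
  have glue : ∀ {T : Over S} (a b : T ⟶ U), (∀ z : T.left, ∃ (O : T.left.Opens) (x : (O : Scheme.{u}) ⟶ c.pt.left),
      z ∈ O ∧ x ≫ t.left = O.ι ≫ a.left ∧ x ≫ s.left = O.ι ≫ b.left) → ∃ r : T ⟶ c.pt, r ≫ t = a ∧ r ≫ s = b := by
    intro T a b h
    choose O x hz hxa hxb using h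
    let 𝒰 := T.left.openCoverOfIsOpenCover O
      (top_unique fun z _ => TopologicalSpace.Opens.mem_iSup.mpr ⟨z, hz z⟩)
    have hw : ∀ z, x z ≫ c.pt.hom = (O z).ι ≫ T.hom := fun z => by
      rw [← Over.w s, reassoc_of% hxb, Over.w b]
    have hcompat : ∀ i j, pullback.fst (𝒰.f i) (𝒰.f j) ≫ x i = pullback.snd (𝒰.f i) (𝒰.f j) ≫ x j := by
      intro i j
      let P : Over S := Over.mk ((pullback.fst (O i).ι (O j).ι) ≫ (O i).ι ≫ T.hom)
      let r1 : P ⟶ c.pt := Over.homMk (pullback.fst (O i).ι (O j).ι ≫ x i) (by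
        show (pullback.fst _ _ ≫ x i) ≫ c.pt.hom = _
        rw [Category.assoc, hw]
        rfl)
      let r2 : P ⟶ c.pt := Over.homMk (pullback.snd (O i).ι (O j).ι ≫ x j) (by
        show (pullback.snd _ _ ≫ x j) ≫ c.pt.hom = _
        rw [Category.assoc, hw, ← pullback.condition_assoc]
        rfl)
      exact congrArg CommaMorphism.left (inj' P r1 r2
        (Over.OverMorphism.ext (show (pullback.fst _ _ ≫ x i) ≫ t.left = (pullback.snd _ _ ≫ x j) ≫ t.left by
          rw [Category.assoc, Category.assoc, hxa, hxa, pullback.condition_assoc]))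
        (Over.OverMorphism.ext (show (pullback.fst _ _ ≫ x i) ≫ s.left = (pullback.snd _ _ ≫ x j) ≫ s.left by
          rw [Category.assoc, Category.assoc, hxb, hxb, pullback.condition_assoc])))
    let r := 𝒰.glueMorphisms x hcompat
    have hr : ∀ z, (O z).ι ≫ r = x z := fun z => 𝒰.ι_glueMorphisms x hcompat z
    refine ⟨Over.homMk r (Scheme.Cover.hom_ext 𝒰 _ _ fun z => ?_), Over.OverMorphism.ext (Scheme.Cover.hom_ext 𝒰 _ _ fun z => ?_),
      Over.OverMorphism.ext (Scheme.Cover.hom_ext 𝒰 _ _ fun z => ?_)⟩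
    · show (O z).ι ≫ r ≫ c.pt.hom = (O z).ι ≫ T.hom
      rw [reassoc_of% hr, hw]
    · show (O z).ι ≫ r ≫ t.left = (O z).ι ≫ a.left
      rw [reassoc_of% hr, hxa]
    · show (O z).ι ≫ r ≫ s.left = (O z).ι ≫ b.left
      rw [reassoc_of% hr, hxb]
  refine ⟨⟨inj', fun T => ⟨fun a => ⟨a ≫ c.inj 1, ?_, ?_⟩, ?_, ?_⟩⟩, ?_, ?_⟩
  · apply Over.OverMorphism.ext
    show (a.left ≫ (c.inj 1).left) ≫ t.left = a.left
    rw [Category.assoc, htl, hone]
    exact Category.comp_id _
  · apply Over.OverMorphism.ext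
    show (a.left ≫ (c.inj 1).left) ≫ s.left = a.left
    rw [Category.assoc, hsl]
    exact Category.comp_id _
  · rintro _ _ ⟨r, rfl, rfl⟩
    refine glue _ _ fun z => ?_
    obtain ⟨O, g, x, hz, hx⟩ := loc r z
    refine ⟨O, (x ≫ (ρ g).hom.left) ≫ (c.inj g⁻¹).left, hz, ?_, ?_⟩
    · show _ = O.ι ≫ r.left ≫ s.left
      rw [reassoc_of% hx, hsl, Category.assoc, htl, Category.assoc, ← hmul, inv_mul_cancel, hone]
    · show _ = O.ι ≫ r.left ≫ t.left
      rw [reassoc_of% hx, htl, Category.assoc, hsl]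
      exact Category.comp_id _
  · rintro a b d ⟨r, hr1, hr2⟩ ⟨r', hr1', hr2'⟩
    refine glue _ _ fun z => ?_
    obtain ⟨O, g, x, hz, hx⟩ := loc r z
    obtain ⟨O', g', x', hz', hx'⟩ := loc r' z
    let i₁ := T.left.homOfLE (inf_le_left : O ⊓ O' ≤ O)
    let i₂ := T.left.homOfLE (inf_le_right : O ⊓ O' ≤ O')
    have ea : (O ⊓ O').ι ≫ a.left = i₁ ≫ x ≫ (ρ g).hom.left := by
      rw [← hr1, ← htl, ← reassoc_of% hx]
      show _ = i₁ ≫ O.ι ≫ r.left ≫ t.left
      rw [Scheme.homOfLE_ι_assoc]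
      rfl
    have eb : i₁ ≫ x = i₂ ≫ x' ≫ (ρ g').hom.left := by
      have k1 : i₁ ≫ O.ι ≫ r.left ≫ s.left = i₂ ≫ O'.ι ≫ r'.left ≫ t.left := by
        rw [Scheme.homOfLE_ι_assoc, Scheme.homOfLE_ι_assoc]
        exact congrArg _ (congrArg CommaMorphism.left (hr2.trans hr1'.symm))
      rw [reassoc_of% hx, reassoc_of% hx', hsl, htl, Category.comp_id] at k1
      exact k1
    have ed : (O ⊓ O').ι ≫ d.left = i₂ ≫ x' := by
      rw [← hr2']
      show (O ⊓ O').ι ≫ r'.left ≫ s.left = _
      rw [← Scheme.homOfLE_ι T.left (inf_le_right : O ⊓ O' ≤ O'), Category.assoc, reassoc_of% hx', hsl]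
      exact congrArg _ (Category.comp_id _)
    refine ⟨O ⊓ O', (i₂ ≫ x') ≫ (c.inj (g * g')).left, ⟨hz, hz'⟩, ?_, ?_⟩
    · rw [ea, Category.assoc, htl, hmul, Category.assoc, reassoc_of% eb]
    · rw [ed, Category.assoc, hsl]
      exact Category.comp_id _
  · refine IsZariskiLocalAtSource.of_openCover (P := @Etale) 𝒱 fun g => ?_
    show Etale ((Sigma.ι W g ≫ e.hom) ≫ s.left)
    rw [he, hsl]
    infer_instance
  · refine IsZariskiLocalAtSource.of_openCover (P := @Etale) 𝒱 fun g => ?_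
    show Etale ((Sigma.ι W g ≫ e.hom) ≫ t.left)
    rw [he, htl]
    have : IsIso (ρ g).hom.left := (inferInstance : IsIso ((Over.forget S).map (ρ g).hom))
    infer_instance

end Groth.Agent.S9889
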