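import Groth.Statements.S9890
import Groth.Agent.S9889
import Groth.Agent.AlgSpLib.EqvQuot
import Groth.Agent.AlgSpLib.DiagCrit
import Groth.Agent.AlgSpLib.FppfLocal
import Groth.Agent.SGA1Quot.GeomTransitive
-- import your own Groth.Agent.* helpers here

set_option autoImplicit false
universe u
open CategoryTheory CategoryTheory.Limits AlgebraicGeometry
open AlgSp

namespace Groth.Agent.S9890

open CategoryTheory CategoryTheory.Limits AlgebraicGeometry
open Groth.Agent Groth.Agent.AlgSpLib

theorem repWith_diag_of_iso {S : Scheme.{u}} {A B : AlgSp.Sp S} (e : A ≅ B) (P : MorphismProperty Scheme.{u})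
    [P.IsStableUnderBaseChange] (h : AlgSp.RepWith P (Limits.diag A)) : AlgSp.RepWith P (Limits.diag B) := by
  have : P.RespectsIso := MorphismProperty.IsStableUnderBaseChange.respectsIso
  have w : e.hom ≫ Limits.diag B = Limits.diag A ≫ (prod.mapIso e e).hom := by
    apply Limits.prod.hom_ext <;> simp
  rw [← MorphismProperty.cancel_left_of_respectsIso (AlgSp.RepWith P) e.hom, w,
    MorphismProperty.cancel_right_of_respectsIso (AlgSp.RepWith P)]
  exact h

/-- Let a finite group `G` act freely (no non-identity element fixes a point together with its residue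
field) by `S`-automorphisms on a scheme `U` over `S`, and let `s, t : R = ∐_{g ∈ G} U ⟶ U` be the
identity and the action. When `U ⟶ S` is quasi-separated, so is the quotient sheaf `U/G = U/R` over
`S`; when `U ⟶ S` is separated, `U/G` is also separated over `S`. -/
theorem result (S : Scheme.{u}) (U : Over S) (G : Type u) [Group G] [Finite G]
    (ρ : G →* Aut U)
    (hfree : ∀ (g : G) (x : U.left), g ≠ 1 →
      U.left.fromSpecResidueField x ≫ (ρ g).hom.left ≠ U.left.fromSpecResidueField x)
    (c : Cofan (fun _ : G => U)) (hc : IsColimit c) (s t : c.pt ⟶ U)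
    (hs : ∀ g, c.inj g ≫ s = 𝟙 U) (ht : ∀ g, c.inj g ≫ t = (ρ g).hom) :
    (QuasiSeparated U.hom → AlgSp.IsQuasiSeparatedSp (QuotSh.quot Scheme.fppfPrecoverage s t)) ∧
      (IsSeparated U.hom → AlgSp.IsSeparatedSp (QuotSh.quot Scheme.fppfPrecoverage s t)) := by
  have hR := S9889.result S U G ρ hfree c hc s t hs ht
  have := hR.etale_right
  let W : G → Scheme.{u} := fun _ => U.left
  have hc' : IsColimit (Cofan.mk c.pt.left fun g => (c.inj g).left : Cofan W) :=
    isColimitCofanMkObjOfIsColimit (Over.forget S) (fun _ : G => U) (fun g => c.inj g)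
      (hc.ofIsoColimit (Cofan.ext (Iso.refl _) (fun g => Category.comp_id _)))
  let e : (∐ W) ≅ c.pt.left := (colimit.isColimit (Discrete.functor W)).coconePointUniqueUpToIso hc'
  have hfin : IsFinite t.left := by
    have h1 : IsFinite (e.hom ≫ t.left) := by
      have h2 : e.hom ≫ t.left = Sigma.desc fun g => (ρ g).hom.left := Sigma.hom_ext _ _ fun g => by
        rw [Sigma.ι_desc, ← Category.assoc,
          show Sigma.ι W g ≫ e.hom = (c.inj g).left from
            IsColimit.comp_coconePointUniqueUpToIso_hom (colimit.isColimit (Discrete.functor W)) hc' ⟨g⟩]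
        exact congrArg CommaMorphism.left (ht g)
      rw [h2]
      refine SGA1Quot.GeomTrans.isFinite_sigmaDesc _ fun g => ?_
      have : IsIso (ρ g).hom.left := (inferInstance : IsIso ((Over.forget S).map (ρ g).hom))
      infer_instance
    exact (MorphismProperty.cancel_left_of_respectsIso @IsFinite e.hom _).1 h1
  obtain ⟨i, -⟩ := exists_iso_quot s t
  have hP := isPresentation_quotSp hR
  have hA := isAlgSpace_quotSp hR
  refine ⟨fun hq => ?_, fun hsep => ?_⟩
  · exact repWith_diag_of_iso i _ (isQuasiSeparatedSp_of_chart hA _ hP.etale hP.surjective s t hP.isPullback)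
  · refine repWith_diag_of_iso i _ ?_
    let π := quotSpπ ((AlgSp.yon S).map s) ((AlgSp.yon S).map t)
    have hl : Sheaf.IsLocallySurjective (prod.map π π) :=
      isLocallySurjective_of_etale (repWith_prod_map hP.etale hP.etale) (repWith_prod_map hP.surjective hP.surjective)
    refine repWith_of_isLocallySurjective hA.diag (prod.map π π) (isPullback_diag_prod_map hP.isPullback) _ ?_
    refine repWith_prod_lift t s ?_
    let l := pullback.lift t.left s.left ((Over.w t).trans (Over.w s).symm)
    have hl1 : l ≫ pullback.fst U.hom U.hom = t.left := pullback.lift_fst _ _ _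
    have : IsProper (l ≫ pullback.fst U.hom U.hom) := by rw [hl1]; infer_instance
    have : IsProper l := IsProper.of_comp l (pullback.fst U.hom U.hom)
    have : Mono l := by
      constructor
      intro T p q hpq
      let T' : Over S := Over.mk (p ≫ c.pt.hom)
      have hw : q ≫ c.pt.hom = p ≫ c.pt.hom := by
        rw [← Over.w t, ← hl1, Category.assoc, reassoc_of% hpq]
      let p' : T' ⟶ c.pt := Over.homMk p rfl
      let q' : T' ⟶ c.pt := Over.homMk q hw
      have e1 := congrArg (· ≫ pullback.fst U.hom U.hom) hpq
      have e2 := congrArg (· ≫ pullback.snd U.hom U.hom) hpq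
      simp only [Category.assoc] at e1 e2
      rw [hl1] at e1
      rw [show l ≫ pullback.snd U.hom U.hom = s.left from pullback.lift_snd _ _ _] at e2
      exact congrArg CommaMorphism.left (hR.injective T' p' q' (Over.OverMorphism.ext e1) (Over.OverMorphism.ext e2))
    exact (IsClosedImmersion.iff_isProper_and_mono l).2 ⟨‹IsProper l›, ‹Mono l›⟩

end Groth.Agent.S9890
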