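import Groth.Statements.S9895
import Groth.Agent.S9889
import Groth.Agent.AlgSpLib.EqvQuot
import Groth.Agent.AlgSpLib.ValuationPoint
import Groth.Agent.AlgSpLib.ClosedSub
-- import your own Groth.Agent.* helpers here

set_option autoImplicit false
universe u
open CategoryTheory CategoryTheory.Limits AlgebraicGeometry
open AlgSp

namespace Groth.Agent.S9895

open Opposite Groth.Agent.AlgSpLib

set_option backward.isDefEq.respectTransparency false

/-- field points fixed by a free action come from the trivial element -/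
theorem eq_one_of_fixed {S : Scheme.{u}} {U : Over S} {G : Type u} [Group G] (ρ : G →* Aut U)
    (hfree : ∀ (g : G) (x : U.left), g ≠ 1 →
      U.left.fromSpecResidueField x ≫ (ρ g).hom.left ≠ U.left.fromSpecResidueField x)
    {L : Type u} [Field L] (x : Spec (CommRingCat.of L) ⟶ U.left) (g : G)
    (h : x ≫ (ρ g).hom.left = x) : g = 1 := by
  by_contra hg
  obtain ⟨⟨p, α⟩, rfl⟩ := (Scheme.SpecToEquivOfField L U.left).symm.surjective x
  refine hfree g p hg ?_
  have h' : (Spec.map α ≫ U.left.fromSpecResidueField p) ≫ (ρ g).hom.left = Spec.map α ≫ U.left.fromSpecResidueField p := h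
  rw [Category.assoc] at h'
  have : Flat (Spec.map α) := by
    rw [HasRingHomProperty.Spec_iff (P := @Flat)]
    algebraize [α.hom]
    exact (inferInstance : Module.Flat (U.left.residueField p) L)
  have : Surjective (Spec.map α) := ⟨fun q => ⟨IsLocalRing.closedPoint L, Subsingleton.elim _ _⟩⟩
  have := Flat.epi_of_flat_of_surjective (Spec.map α)
  exact (cancel_epi _).1 h'

/-- Let a group `G` act freely (no non-identity element fixes a point together with its residue field)
by `S`-automorphisms on a scheme `U` over `S`, let `s, t : R = ∐_{g ∈ G} U ⟶ U` be the identity and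
the action, and let `ξ : h_{Spec k} ⟶ U/R` be a morphism from the spectrum of a field `k` over `S`
to the quotient sheaf. Then one can find a finite Galois extension `k'/k` together with a finite
subgroup `H ⊆ G`, a group isomorphism `e : H ≅ Gal(k'/k)` and a morphism `x' : Spec k' ⟶ U` over `S`
which is `H`-equivariant (with `h ∈ H` acting on `Spec k'` through `Spec` of `(e h)⁻¹`) and whose
composite with `U ⟶ U/R` is the restriction of `ξ` to `Spec k'`. (The published statement also
asserts that such data determine a morphism from `Spec k` to the quotient; this row states only the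
direction above.) -/
theorem result (S : Scheme.{u}) (U : Over S) (G : Type u) [Group G]
    (ρ : G →* Aut U)
    (hfree : ∀ (g : G) (x : U.left), g ≠ 1 →
      U.left.fromSpecResidueField x ≫ (ρ g).hom.left ≠ U.left.fromSpecResidueField x)
    (c : Cofan (fun _ : G => U)) (hc : IsColimit c) (s t : c.pt ⟶ U)
    (hs : ∀ g, c.inj g ≫ s = 𝟙 U) (ht : ∀ g, c.inj g ≫ t = (ρ g).hom)
    (k : Type u) [Field k] (σ : Spec (CommRingCat.of k) ⟶ S)
    (ξ : (AlgSp.yon S).obj (Over.mk σ) ⟶ QuotSh.quot Scheme.fppfPrecoverage s t) :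
    ∃ (k' : Type u) (_ : Field k') (_ : Algebra k k') (_ : FiniteDimensional k k') (_ : IsGalois k k')
      (H : Subgroup G) (_ : Finite H) (e : H ≃* (k' ≃ₐ[k] k'))
      (x' : Over.mk (Spec.map (CommRingCat.ofHom (algebraMap k k')) ≫ σ) ⟶ U),
      (∀ h : H, Spec.map (CommRingCat.ofHom (e h).symm.toRingEquiv.toRingHom) ≫ x'.left =
        x'.left ≫ (ρ (h : G)).hom.left) ∧
      (AlgSp.yon S).map x' ≫ (QuotSh.repIsoUliftYoneda Scheme.fppfPrecoverage U).inv ≫ QuotSh.quotπ Scheme.fppfPrecoverage s t =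
        (AlgSp.yon S).map (Over.homMk (Spec.map (CommRingCat.ofHom (algebraMap k k'))) :
          Over.mk (Spec.map (CommRingCat.ofHom (algebraMap k k')) ≫ σ) ⟶ Over.mk σ) ≫ ξ := by
  classical
  have hR := Groth.Agent.S9889.result S U G ρ hfree c hc s t hs ht
  obtain ⟨iq, hiq⟩ := exists_iso_quot s t
  have hP := isPresentation_quotSp hR
  let π := quotSpπ ((yon S).map s) ((yon S).map t)
  let ξ' : (yon S).obj (Over.mk σ) ⟶ quotSp ((yon S).map s) ((yon S).map t) := ξ ≫ iq.inv
  -- a separable point over the given one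
  have sqT := hP.etale.1.isPullback ξ'
  have hTe : Etale (hP.etale.1.snd ξ').left := hP.etale.property_snd ξ'
  have hTs : Surjective (hP.etale.1.snd ξ').left := hP.surjective.2 _ _ _ (hP.surjective.1.isPullback ξ')
  obtain ⟨τ, -⟩ := (hP.etale.1.snd ξ').left.surjective (IsLocalRing.closedPoint k)
  obtain ⟨Ω, _, _, y, _, _, -, hy⟩ := exists_finite_separable_point (hP.etale.1.snd ξ').left hTe τ
  let jΩ : Ω →ₐ[k] SeparableClosure k := IsSepClosed.lift
  letI := jΩ.toRingHom.toAlgebra
  have : IsScalarTower k Ω (SeparableClosure k) := IsScalarTower.of_algebraMap_eq fun a => (jΩ.commutes a).symm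
  let L : IntermediateField k (SeparableClosure k) := IntermediateField.normalClosure k Ω (SeparableClosure k)
  have hGal : IsGalois k L := IsGalois.normalClosure k Ω (SeparableClosure k)
  have hLf : FiniteDimensional k L := normalClosure.is_finiteDimensional k Ω (SeparableClosure k)
  let jL : Ω →ₐ[k] L := jΩ.codRestrict L.toSubalgebra fun a => AlgHom.fieldRange_le_normalClosure jΩ ⟨a, rfl⟩
  let strL : Spec (CommRingCat.of ↥L) ⟶ S := Spec.map (CommRingCat.ofHom (algebraMap k ↥L)) ≫ σ
  have : Subsingleton ↥(Over.mk strL).left := inferInstanceAs (Subsingleton ↥(Spec (CommRingCat.of ↥L)))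
  let cL : Over.mk strL ⟶ Over.mk σ := Over.homMk (Spec.map (CommRingCat.ofHom (algebraMap k ↥L)))
  let yL : Over.mk strL ⟶ hP.etale.1.pullback ξ' := Over.homMk (Spec.map (CommRingCat.ofHom jL.toRingHom) ≫ y) (by
    rw [← Over.w (hP.etale.1.snd ξ'), ← Category.assoc, Category.assoc _ y, hy, ← Spec.map_comp,
      ← CommRingCat.ofHom_comp, show jL.toRingHom.comp (algebraMap k Ω) = algebraMap k ↥L from jL.comp_algebraMap]
    rfl)
  have hyL : yL ≫ hP.etale.1.snd ξ' = cL := Over.OverMorphism.ext (by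
    show (Spec.map (CommRingCat.ofHom jL.toRingHom) ≫ y) ≫ _ = _
    rw [Category.assoc, hy, ← Spec.map_comp, ← CommRingCat.ofHom_comp,
      show jL.toRingHom.comp (algebraMap k Ω) = algebraMap k ↥L from jL.comp_algebraMap]
    rfl)
  obtain ⟨x, hx⟩ := (yon S).map_surjective ((yon S).map yL ≫ hP.etale.1.fst ξ')
  have hxπ : (yon S).map x ≫ π = (yon S).map cL ≫ ξ' := by
    rw [hx, ← hyL, Functor.map_comp, Category.assoc, Category.assoc, sqT.w]
  -- the Galois twists
  let W : G → Scheme.{u} := fun _ => U.left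
  have hc' : IsColimit (Cofan.mk c.pt.left fun g => (c.inj g).left : Cofan W) :=
    isColimitCofanMkObjOfIsColimit (Over.forget S) (fun _ : G => U) (fun g => c.inj g)
      (hc.ofIsoColimit (Cofan.ext (Iso.refl _) (fun g => Category.comp_id _)))
  let ew : (∐ W) ≅ c.pt.left := (colimit.isColimit (Discrete.functor W)).coconePointUniqueUpToIso hc'
  have hew : ∀ g, Sigma.ι W g ≫ ew.hom = (c.inj g).left := fun g =>
    IsColimit.comp_coconePointUniqueUpToIso_hom (colimit.isColimit (Discrete.functor W)) hc' ⟨g⟩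
  let Sσ : (↥L ≃ₐ[k] ↥L) → (Over.mk strL ⟶ Over.mk strL) := fun γ =>
    Over.homMk (Spec.map (CommRingCat.ofHom γ.toRingEquiv.toRingHom)) (by
      show Spec.map _ ≫ Spec.map _ ≫ σ = Spec.map _ ≫ σ
      rw [← Spec.map_comp_assoc, ← CommRingCat.ofHom_comp,
        show γ.toRingEquiv.toRingHom.comp (algebraMap k ↥L) = algebraMap k ↥L from RingHom.ext γ.commutes])
  have hSc : ∀ γ, Sσ γ ≫ cL = cL := fun γ => Over.OverMorphism.ext (by
    show Spec.map _ ≫ Spec.map _ = Spec.map _
    rw [← Spec.map_comp, ← CommRingCat.ofHom_comp,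
      show γ.toRingEquiv.toRingHom.comp (algebraMap k ↥L) = algebraMap k ↥L from RingHom.ext γ.commutes])
  have hex : ∀ γ, ∃ g : G, Sσ γ ≫ x = x ≫ (ρ g).hom := fun γ => by
    obtain ⟨r, hr1, hr2⟩ := hP.isPullback.exists_lift ((yon S).map (Sσ γ ≫ x)) ((yon S).map x) (by
      show _ ≫ π = _ ≫ π
      rw [Functor.map_comp, Category.assoc, hxπ, ← Category.assoc, ← Functor.map_comp, hSc])
    obtain ⟨r, rfl⟩ := (yon S).map_surjective r
    rw [← Functor.map_comp] at hr1 hr2
    have hr1' := (yon S).map_injective hr1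
    have hr2' := (yon S).map_injective hr2
    obtain ⟨g, q, hq⟩ := (sigmaOpenCover W).exists_eq ((r.left ≫ ew.inv) (IsLocalRing.closedPoint ↥L))
    let jg : U.left ⟶ ∐ W := Sigma.ι W g
    have hrange : Set.range (r.left ≫ ew.inv) ⊆ Set.range jg := by
      rintro _ ⟨p, rfl⟩
      exact ⟨q, hq.trans (congrArg _ (Subsingleton.elim _ p))⟩
    let z := IsOpenImmersion.lift jg (r.left ≫ ew.inv) hrange
    have hz : z ≫ (c.inj g).left = r.left := by
      rw [← hew, IsOpenImmersion.lift_fac_assoc, Category.assoc, Iso.inv_hom_id, Category.comp_id]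
    have hzx : z = x.left := by
      rw [← hr2', Over.comp_left, ← hz, Category.assoc, ← Over.comp_left, hs, Over.id_left, Category.comp_id]
    refine ⟨g, Over.OverMorphism.ext ?_⟩
    rw [← hr1', Over.comp_left, ← hz, Category.assoc, ← Over.comp_left, ht, hzx, ← Over.comp_left]
  have huniq : ∀ g g' : G, x ≫ (ρ g).hom = x ≫ (ρ g').hom → g = g' := fun g g' h => by
    refine (inv_mul_eq_one.1 (eq_one_of_fixed ρ hfree x.left (g⁻¹ * g') ?_))
    have h2 : x ≫ (ρ (g⁻¹ * g')).hom = x := by
      rw [map_mul, map_inv]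
      show x ≫ (ρ g').hom ≫ (ρ g).inv = x
      rw [← Category.assoc, ← h, Category.assoc, Iso.hom_inv_id, Category.comp_id]
    exact congrArg (fun m => m.left) h2
  choose ψ hψ using hex
  have hSmul : ∀ γ δ, Sσ (γ * δ) = Sσ γ ≫ Sσ δ := fun γ δ => Over.OverMorphism.ext (by
    show Spec.map _ = Spec.map _ ≫ Spec.map _
    rw [← Spec.map_comp]
    rfl)
  have hS1 : Sσ 1 = 𝟙 _ := Over.OverMorphism.ext (by
    show Spec.map _ = 𝟙 _
    rw [← Spec.map_id]
    rfl)
  have hmul : ∀ γ δ, ψ (γ * δ) = ψ δ * ψ γ := fun γ δ => huniq _ _ (by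
    rw [← hψ, hSmul, Category.assoc, hψ, ← Category.assoc, hψ, Category.assoc, map_mul]
    rfl)
  have hone : ψ 1 = 1 := huniq _ _ (by rw [← hψ, hS1, Category.id_comp, map_one]; exact (Category.comp_id x).symm)
  let Φ : (↥L ≃ₐ[k] ↥L) →* G :=
    { toFun := fun γ => ψ γ⁻¹
      map_one' := by simp [hone]
      map_mul' := fun γ δ => by simp [hmul] }
  -- descend to the fixed field
  let N := Φ.ker
  let K : IntermediateField k ↥L := IntermediateField.fixedField N
  obtain ⟨⟨p, α⟩, hα⟩ := (Scheme.SpecToEquivOfField ↥L U.left).symm.surjective x.left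
  have hfix : ∀ a, (α a : ↥L) ∈ K := fun a n => by
    obtain ⟨n, hn⟩ := n
    have hn' : ψ n = 1 := by
      have h1 : Φ n⁻¹ = 1 := by rw [map_inv, MonoidHom.mem_ker.1 hn, inv_one]
      simpa [Φ] using h1
    have h2 : (Sσ n).left ≫ x.left = x.left := by
      rw [← Over.comp_left, hψ, hn', map_one]
      exact congrArg (fun m => m.left) (Category.comp_id x)
    have h3 : (Scheme.SpecToEquivOfField ↥L U.left).symm ⟨p, α ≫ CommRingCat.ofHom n.toRingEquiv.toRingHom⟩ =
        (Scheme.SpecToEquivOfField ↥L U.left).symm ⟨p, α⟩ := by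
      show Spec.map (α ≫ _) ≫ _ = _
      rw [Spec.map_comp, Category.assoc, hα]
      exact (congrArg ((Sσ n).left ≫ ·) hα).trans h2
    have h4 := eq_of_heq (Sigma.mk.inj ((Equiv.injective _) h3)).2
    exact congr($(h4) a)
  let str' : Spec (CommRingCat.of ↥K) ⟶ S := Spec.map (CommRingCat.ofHom (algebraMap k ↥K)) ≫ σ
  let α' : U.left.residueField p ⟶ CommRingCat.of ↥K := CommRingCat.ofHom (α.hom.codRestrict K hfix)
  let cKL : Over.mk strL ⟶ Over.mk str' := Over.homMk (Spec.map (CommRingCat.ofHom (algebraMap ↥K ↥L))) (by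
    show Spec.map _ ≫ Spec.map _ ≫ σ = Spec.map _ ≫ σ
    rw [← Spec.map_comp_assoc, ← CommRingCat.ofHom_comp, ← IsScalarTower.algebraMap_eq])
  have hflat : Flat cKL.left := (HasRingHomProperty.Spec_iff (P := @Flat)).2
    (RingHom.flat_algebraMap_iff.2 inferInstance)
  have : Subsingleton ↥(Over.mk str').left := inferInstanceAs (Subsingleton ↥(Spec (CommRingCat.of ↥K)))
  have hsurj : Surjective cKL.left := ⟨fun q => ⟨IsLocalRing.closedPoint ↥L, Subsingleton.elim _ _⟩⟩
  have hfp : LocallyOfFinitePresentation cKL.left := (HasRingHomProperty.Spec_iff (P := @LocallyOfFinitePresentation)).2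
    (RingHom.finitePresentation_algebraMap.2 (Algebra.FinitePresentation.of_finiteType.1 inferInstance))
  have : QuasiCompact cKL.left := inferInstanceAs (QuasiCompact (Spec.map _))
  have := Flat.epi_of_flat_of_surjective cKL.left
  have hxl : cKL.left ≫ Spec.map α' ≫ U.left.fromSpecResidueField p = x.left := by
    show Spec.map _ ≫ _ = _
    rw [← Spec.map_comp_assoc]
    exact hα
  let x' : Over.mk str' ⟶ U := Over.homMk (Spec.map α' ≫ U.left.fromSpecResidueField p) (by
    rw [← cancel_epi cKL.left, ← Category.assoc, hxl, Over.w x, Over.w cKL])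
  have hx' : cKL ≫ x' = x := Over.OverMorphism.ext hxl
  have hK : IsGalois k K := IsGalois.of_fixedField_normal_subgroup N
  let E : ↥Φ.range ≃* (↥K ≃ₐ[k] ↥K) :=
    (QuotientGroup.quotientKerEquivRange Φ).symm.trans (IsGalois.normalAutEquivQuotient N)
  refine ⟨↥K, inferInstance, inferInstance, inferInstance, hK, Φ.range,
    Finite.of_surjective Φ.rangeRestrict Φ.rangeRestrict_surjective, E, x', fun h => ?_, ?_⟩
  · obtain ⟨γ, rfl⟩ := Φ.rangeRestrict_surjective h
    have hE : E (Φ.rangeRestrict γ) = IsGalois.normalAutEquivQuotient N (γ : (↥L ≃ₐ[k] ↥L) ⧸ N) := by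
      have : (QuotientGroup.quotientKerEquivRange Φ).symm (Φ.rangeRestrict γ) = (γ : (↥L ≃ₐ[k] ↥L) ⧸ N) := by
        rw [MulEquiv.symm_apply_eq]; rfl
      show IsGalois.normalAutEquivQuotient N ((QuotientGroup.quotientKerEquivRange Φ).symm (Φ.rangeRestrict γ)) = _
      rw [this]
    have h5 : cKL.left ≫ Spec.map (CommRingCat.ofHom (E (Φ.rangeRestrict γ)).symm.toRingEquiv.toRingHom) =
        (Sσ γ⁻¹).left ≫ cKL.left := by
      show Spec.map _ ≫ Spec.map _ = Spec.map _ ≫ Spec.map _
      rw [← Spec.map_comp, ← Spec.map_comp, hE]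
      refine congrArg _ (CommRingCat.hom_ext (RingHom.ext fun a => ?_))
      show algebraMap ↥K ↥L ((IsGalois.normalAutEquivQuotient N (γ : (↥L ≃ₐ[k] ↥L) ⧸ N)).symm a) = γ.symm (algebraMap ↥K ↥L a)
      rw [IsGalois.normalAutEquivQuotient_apply, ← AlgEquiv.aut_inv, ← map_inv]
      exact AlgEquiv.restrictNormal_commutes γ.symm ↥K a
    rw [← cancel_epi cKL.left, ← Category.assoc, h5, Category.assoc, ← Category.assoc cKL.left, ← Over.comp_left,
      hx', ← Over.comp_left, hψ, Over.comp_left]
    rfl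
  · let cK : Over.mk str' ⟶ Over.mk σ := Over.homMk (Spec.map (CommRingCat.ofHom (algebraMap k ↥K)))
    have hcc : cKL ≫ cK = cL := Over.OverMorphism.ext (by
      show Spec.map _ ≫ Spec.map _ = Spec.map _
      rw [← Spec.map_comp, ← CommRingCat.ofHom_comp, ← IsScalarTower.algebraMap_eq])
    have := isLocallySurjective_of_repWith ((repWith_yon_map_iff @Flat cKL).2 hflat)
      ((repWith_yon_map_iff @LocallyOfFinitePresentation cKL).2 hfp) ((repWith_yon_map_iff @Surjective cKL).2 hsurj)
    have := Sheaf.epi_of_isLocallySurjective ((yon S).map cKL)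
    rw [← cancel_epi ((yon S).map cKL), ← Category.assoc, ← Functor.map_comp, hx', ← hiq, ← Category.assoc]
    show ((yon S).map x ≫ π) ≫ iq.hom = (yon S).map cKL ≫ (yon S).map cK ≫ ξ
    rw [hxπ, ← Functor.map_comp_assoc, hcc]
    simp [ξ']

end Groth.Agent.S9895
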