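import Groth.Statements.S9921
import Groth.Agent.AlgSpLib.MorProper
-- import your own Groth.Agent.* helpers here

set_option autoImplicit false
universe u
open CategoryTheory CategoryTheory.Limits AlgebraicGeometry
open AlgSp

namespace Groth.Agent.S9921

open Groth.Agent.AlgSpLib

/-- Over a base scheme with quasi-separated underlying space, a fibre product of algebraic spaces that
are quasi-compact and quasi-separated over S is again quasi-compact and quasi-separated over S. (The
published statement takes quasi-separatedness in the absolute sense; this row takes it over S and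
assumes S quasi-separated.) -/
theorem result {S : Scheme.{u}} [QuasiSeparatedSpace ↥S] {X Y Z P : AlgSp.Space S}
    (f : X ⟶ Y) (g : Z ⟶ Y) (fst : P ⟶ X) (snd : P ⟶ Z) (sq : IsPullback fst.hom snd.hom f.hom g.hom)
    (hX : AlgSp.IsQuasiCompactSp X.obj ∧ AlgSp.IsQuasiSeparatedSp X.obj)
    (hY : AlgSp.IsQuasiCompactSp Y.obj ∧ AlgSp.IsQuasiSeparatedSp Y.obj)
    (hZ : AlgSp.IsQuasiCompactSp Z.obj ∧ AlgSp.IsQuasiSeparatedSp Z.obj) :
    AlgSp.IsQuasiCompactSp P.obj ∧ AlgSp.IsQuasiSeparatedSp P.obj := by
  have hg := isQuasiCompactMor_of_qc_qs Z.property Y.property g.hom hZ.1 hY.2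
  have hfst : AlgSp.IsQuasiCompactMor fst.hom :=
    isQuasiCompactMor_of_isPullback Z.property Y.property X.property sq.flip hg
  refine ⟨?_, ?_⟩
  · refine (isQuasiCompactSp_iff_compactSpace P.property).2 ?_
    exact compactSpace_points_of_isQuasiCompactSp
      (hfst X.property hX.1 (𝟙 _) (𝟙 _) fst.hom (IsPullback.of_horiz_isIso ⟨by simp⟩))
  · obtain ⟨qX, hqX⟩ := exists_to_base X.obj
    obtain ⟨qZ, hqZ⟩ := exists_to_base Z.obj
    have : Mono (prod.lift fst.hom snd.hom) := ⟨fun a b w => sq.hom_ext
      (by simpa [prod.lift_fst] using congrArg (· ≫ prod.fst) w)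
      (by simpa [prod.lift_snd] using congrArg (· ≫ prod.snd) w)⟩
    have sqp : IsPullback (prod.snd : X.obj ⨯ Z.obj ⟶ Z.obj) prod.fst qZ qX := by
      have h := (IsPullback.of_isLimit_binaryFan_of_isTerminal (prodIsProd X.obj Z.obj)
        (isTerminal_yon_base S).some).flip
      rw [← hqX ((isTerminal_yon_base S).some.from X.obj),
        ← hqZ ((isTerminal_yon_base S).some.from Z.obj)]
      exact h
    exact (isQuasiSeparatedMor_iff_sp _).1 (isQuasiSeparatedMor_comp
      (isQuasiSeparatedMor_of_mono (prod.lift fst.hom snd.hom)) (isQuasiSeparatedMor_comp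
        (isQuasiSeparatedMor_of_isPullback sqp ((isQuasiSeparatedMor_iff_sp qZ).2 hZ.2))
        ((isQuasiSeparatedMor_iff_sp qX).2 hX.2)))

end Groth.Agent.S9921
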