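import Groth.Statements.S9931
import Groth.Agent.AlgSpLib.FpqcBaseAffine2
-- import your own Groth.Agent.* helpers here

set_option autoImplicit false
universe u
open CategoryTheory CategoryTheory.Limits AlgebraicGeometry
open AlgSp

namespace Groth.Agent.S9931

/-- (3) ⇒ (1): for P = closed immersion, open immersion or immersion, a morphism of algebraic spaces
whose base change to every affine scheme over the target is representable with P is itself
representable with P. -/
theorem result {S : Scheme.{u}} (P : MorphismProperty Scheme.{u})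
    (hP : P = @IsClosedImmersion ∨ P = @IsOpenImmersion ∨ P = @IsImmersion) {X Y : AlgSp.Space S} (f : X ⟶ Y)
    (h : ∀ (Z : Over S), IsAffine Z.left → ∀ (g : (AlgSp.yon S).obj Z ⟶ Y.obj) (P₀ : AlgSp.Sp S)
      (fst : P₀ ⟶ X.obj) (snd : P₀ ⟶ (AlgSp.yon S).obj Z), IsPullback fst snd f.hom g → AlgSp.RepWith P snd) :
    AlgSp.RepWith P f.hom := by
  have key : ∀ (Q : MorphismProperty Scheme.{u}), Q.IsStableUnderBaseChange → IsZariskiLocalAtTarget Q →
      P = Q → AlgSp.RepWith P f.hom := by
    intro Q h1 h2 e
    subst e
    refine Groth.Agent.AlgSpLib.repWith_of_affine P fun Z hZ g => ?_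
    have sq := IsPullback.of_hasPullback f.hom g
    obtain ⟨W, w, fst, sqW, hw⟩ :=
      Groth.Agent.AlgSpLib.exists_yon_of_repWith (h Z hZ g _ _ _ sq) (𝟙 ((AlgSp.yon S).obj Z))
    exact ⟨W, w, fst ≫ pullback.fst f.hom g, by simpa using sqW.paste_horiz sq, hw⟩
  rcases hP with e | e | e
  · exact key _ inferInstance inferInstance e
  · exact key _ inferInstance inferInstance e
  · exact key _ inferInstance inferInstance e

end Groth.Agent.S9931
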