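import Groth.Statements.S9932
import Groth.Agent.AlgSpLib.FpqcBaseImm
-- import your own Groth.Agent.* helpers here

set_option autoImplicit false
universe u
open CategoryTheory CategoryTheory.Limits AlgebraicGeometry
open AlgSp

namespace Groth.Agent.S9932

/-- (4) ⇒ (1): for P = closed immersion, open immersion or immersion, being representable with P
descends along a surjective etale base change from a scheme. -/
theorem result {S : Scheme.{u}} (P : MorphismProperty Scheme.{u})
    (hP : P = @IsClosedImmersion ∨ P = @IsOpenImmersion ∨ P = @IsImmersion) {X Y : AlgSp.Space S} (f : X ⟶ Y)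
    (V : Over S) (p : (AlgSp.yon S).obj V ⟶ Y.obj) (hp : AlgSp.RepWith @Etale p) (hps : AlgSp.RepWith @Surjective p)
    {P₀ : AlgSp.Sp S} (fst : P₀ ⟶ X.obj) (snd : P₀ ⟶ (AlgSp.yon S).obj V) (sq : IsPullback fst snd f.hom p)
    (h : AlgSp.RepWith P snd) : AlgSp.RepWith P f.hom := by
  have hQ : AlgSp.IsAlgSpace P₀ := Groth.Agent.AlgSpLib.isAlgSpace_of_isPullback Y.property.diag
    X.property (AlgSp.IsAlgSpace.yon_obj _) sq
  rcases hP with e | e | e <;> subst e
  · exact (Groth.Agent.AlgSpLib.iff_of_etale_cover Groth.Agent.AlgSpLib.isLocalOnBase_fpqc_closedImmersion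
      X.property Y.property f.hom p hp hps sq).2 h
  · exact (Groth.Agent.AlgSpLib.iff_of_etale_cover Groth.Agent.AlgSpLib.isLocalOnBase_fpqc_openImmersion
      X.property Y.property f.hom p hp hps sq).2 h
  · exact (Groth.Agent.AlgSpLib.isLocalOnBase_fppf_immersion (fun _ : PUnit.{u + 1} => (AlgSp.yon S).obj V)
      (fun _ => p) Y.property (fun _ => AlgSp.IsAlgSpace.yon_obj _)
      ⟨fun _ => ⟨Groth.Agent.AlgSpLib.locP_of_repWith Groth.Agent.AlgSpLib.etLocal_flat
          (AlgSp.IsAlgSpace.yon_obj _) (Groth.Agent.AlgSpLib.RepWith.mono Groth.Agent.AlgSpLib.etale_le_flat hp),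
        Groth.Agent.AlgSpLib.locP_of_repWith Groth.Agent.AlgSpLib.etLocal_lfp
          (AlgSp.IsAlgSpace.yon_obj _) (Groth.Agent.AlgSpLib.RepWith.mono Groth.Agent.AlgSpLib.etale_le_lfp hp)⟩,
        fun x => ⟨⟨⟩, Groth.Agent.AlgSpLib.surjective_map_of_repWith hps x⟩⟩
      f.hom X.property (fun _ => P₀) (fun _ => snd) (fun _ => fst) (fun _ => hQ) (fun _ => sq)).2
      fun _ => h

end Groth.Agent.S9932
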