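import Groth.Statements.S9933
import Groth.Agent.AlgSpLib.MorMore2
import Groth.Agent.AlgSpLib.Diag
-- import your own Groth.Agent.* helpers here

set_option autoImplicit false
universe u
open CategoryTheory CategoryTheory.Limits AlgebraicGeometry
open AlgSp

namespace Groth.Agent.S9933

open Groth.Agent.AlgSpLib

/-- Permanence for Z -> Y -> X: the five representable finiteness/separation properties of Z -> X pass
to Z -> Y, and a closed immersion Z -> X with Y -> X separated gives a closed immersion Z -> Y. -/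
theorem result {S : Scheme.{u}} {Z Y X : AlgSp.Space S} (a : Z ⟶ Y) (b : Y ⟶ X) :
    ((AlgSp.Representable (a ≫ b).hom ∧ AlgSp.RepWith @LocallyOfFiniteType (a ≫ b).hom ∧
        AlgSp.RepWith (@LocallyQuasiFinite ⊓ @LocallyOfFiniteType) (a ≫ b).hom ∧
        AlgSp.RepWith @IsSeparated (a ≫ b).hom ∧
        AlgSp.RepWith (MorphismProperty.monomorphisms Scheme.{u}) (a ≫ b).hom) →
      (AlgSp.Representable a.hom ∧ AlgSp.RepWith @LocallyOfFiniteType a.hom ∧
        AlgSp.RepWith (@LocallyQuasiFinite ⊓ @LocallyOfFiniteType) a.hom ∧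
        AlgSp.RepWith @IsSeparated a.hom ∧
        AlgSp.RepWith (MorphismProperty.monomorphisms Scheme.{u}) a.hom)) ∧
    (AlgSp.RepWith @IsClosedImmersion (a ≫ b).hom → AlgSp.IsSeparatedMor b.hom →
      AlgSp.RepWith @IsClosedImmersion a.hom) := by

  obtain ⟨d1, d2, d3, d4, d5⟩ : AlgSp.Representable (pullback.diagonal b.hom) ∧ _ :=
    diag_package Y.property (pullback.diagonal b.hom) (fun _ hP => repWith_diagonal b.hom hP)
  refine ⟨fun ⟨h1, h2, h3, h4, h5⟩ => ?_, fun h hb => repWith_of_comp _ h hb⟩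
  have k2 : AlgSp.RepWith @LocallyOfFiniteType a.hom := repWith_of_comp _ h2 d2
  exact ⟨k2.1, k2, repWith_of_comp _ h3 d3, repWith_of_comp _ h4 d4, repWith_of_comp _ h5 d5⟩

end Groth.Agent.S9933
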