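import Groth.Statements.S9934
import Groth.Agent.AlgSpLib.FpqcBaseImm
-- import your own Groth.Agent.* helpers here

set_option autoImplicit false
universe u
open CategoryTheory CategoryTheory.Limits AlgebraicGeometry
open AlgSp

namespace Groth.Agent.S9934

/-- An immersion of algebraic spaces is a closed immersion exactly when its image on points is closed. -/
theorem result {S : Scheme.{u}} {Z X : AlgSp.Space S} (i : Z ⟶ X)
    (hi : AlgSp.RepWith @IsImmersion i.hom) :
    AlgSp.RepWith @IsClosedImmersion i.hom ↔ IsClosed (Set.range (AlgSp.Points.map i.hom)) := by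
  refine ⟨fun h => ?_, fun h => Groth.Agent.AlgSpLib.repWith_closedImmersion_of_isClosed_range hi h⟩
  obtain ⟨U, a, hae, has⟩ := X.property.atlas
  have hq := (Groth.Agent.AlgSpLib.isOpenQuotientMap_ofPt a hae has).isQuotientMap
  rw [← hq.isClosed_preimage]
  have : IsClosedImmersion (h.1.snd a).left := h.property_snd a
  have e : AlgSp.Points.ofPt a ⁻¹' Set.range (AlgSp.Points.map i.hom) = Set.range (h.1.snd a).left := by
    rw [Groth.Agent.AlgSpLib.schemeHomeo_preimage a,
      Groth.Agent.AlgSpLib.range_map_preimage (h.1.isPullback a), AlgSp.Points.map_yon_map_eq]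
    ext x
    constructor
    · rintro ⟨r, hr⟩
      exact ⟨_, (AlgSp.Points.schemeHomeo U).injective hr⟩
    · rintro ⟨r, rfl⟩
      exact ⟨AlgSp.Points.schemeHomeo _ r, by simp⟩
  rw [e]
  exact (h.1.snd a).left.isClosedEmbedding.isClosed_range

end Groth.Agent.S9934
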