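import Groth.Statements.S9945
import Groth.Agent.AlgSpLib.MorProper
import Groth.Agent.AlgSpLib.MorQC
import Groth.Agent.AlgSpLib.FpqcBaseAffine2
import Groth.Agent.AlgSpLib.UnivBdd
-- import your own Groth.Agent.* helpers here

set_option autoImplicit false
universe u
open CategoryTheory CategoryTheory.Limits AlgebraicGeometry
open AlgSp

namespace Groth.Agent.S9945

set_option backward.isDefEq.respectTransparency.types false

/-- Over a base scheme with quasi-separated underlying space, every morphism from the spectrum of an
Artinian ring to an algebraic space quasi-separated over S is affine. (The published statement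
assumes X quasi-separated in the absolute sense over any base; this row assumes the base
quasi-separated and X quasi-separated over it, which on such bases is the same condition.) -/
theorem result {S : Scheme.{u}} [QuasiSeparatedSpace ↥S] (X : AlgSp.Space S)
    (hX : AlgSp.IsQuasiSeparatedSp X.obj) (A : Type u) [CommRing A] [IsArtinianRing A]
    (str : Spec (CommRingCat.of A) ⟶ S) (a : (AlgSp.yon S).obj (Over.mk str) ⟶ X.obj) :
    AlgSp.IsAffineMor a := by
  have hT := AlgSp.IsAlgSpace.yon_obj (Over.mk str)
  have : CompactSpace ↥(Over.mk str).left := inferInstanceAs (CompactSpace ↥(Spec (CommRingCat.of A)))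
  have hac : AlgSp.IsQuasiCompactMor a := AlgSpLib.isQuasiCompactMor_of_qc_qs hT X.property a
    ⟨Over.mk str, 𝟙 _, AlgSpLib.repWith_of_isIso _ _, AlgSpLib.repWith_of_isIso _ _, this⟩ hX
  refine AlgSpLib.isAffineMor_of_affine_charts hT X.property a fun V hV b hb P fst snd sq => ?_
  obtain ⟨W, w, g, sqW, hw⟩ : ∃ (W : Over S) (w : W ⟶ Over.mk str) (g : (AlgSp.yon S).obj W ⟶ (AlgSp.yon S).obj V),
      IsPullback ((AlgSp.yon S).map w) g a b ∧ Etale w.left :=
    ⟨_, hb.1.snd a, hb.1.fst a, (hb.1.isPullback a).flip, hb.property_snd a⟩
  have : CompactSpace (AlgSp.Points ((AlgSp.yon S).obj W)) := by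
    have : CompactSpace ↥V.left := inferInstance
    exact AlgSpLib.compactSpace_of_isQuasiCompactMor hac sqW
  have : CompactSpace ↥W.left := (AlgSp.Points.schemeHomeo W).symm.compactSpace
  have : DiscreteTopology ↥(Over.mk str).left := inferInstanceAs (DiscreteTopology ↥(Spec (CommRingCat.of A)))
  have : Etale w.left := hw
  have : LocallyQuasiFinite w.left := AlgSpLib.lqf_of_unramified w.left
  have : DiscreteTopology ↥W.left := discreteTopology_iff_isOpen_singleton.2 fun z => by
    let F : Set ↥W.left := w.left ⁻¹' {w.left z}
    have : DiscreteTopology ↥F := isDiscrete_iff_discreteTopology.1 (w.left.isDiscrete_preimage_singleton (w.left z))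
    have hF : IsOpen F := (isOpen_discrete _).preimage w.left.continuous
    have := hF.isOpenMap_subtype_val _ (isOpen_discrete ({⟨z, rfl⟩} : Set ↥F))
    rwa [Set.image_singleton] at this
  have : Finite ↥W.left := finite_of_compact_of_discrete
  exact ⟨W, inferInstance, ⟨sqW.isoIsPullback _ _ sq⟩⟩

end Groth.Agent.S9945
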