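import Groth.Statements.S9954
import Groth.Agent.AlgSpLib.LocP
import Groth.Agent.AlgSpLib.PointsTop
import Groth.Agent.AlgSpLib.EtLocalInst
import Mathlib
-- import your own Groth.Agent.* helpers here

set_option autoImplicit false
universe u
open CategoryTheory CategoryTheory.Limits AlgebraicGeometry
open AlgSp

namespace Groth.Agent.S9954

set_option backward.isDefEq.respectTransparency.types false

/-- A morphism locally of finite type is surjective if and only if it is surjective on k-valued points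
for every algebraically closed field k over the base. -/
theorem result {S : Scheme.{u}} {X Y : AlgSp.Space S} (f : X ⟶ Y)
    (hf : AlgSp.LocP @LocallyOfFiniteType f.hom) :
    AlgSp.IsSurjectiveMor f.hom ↔
      ∀ (k : Type u) [Field k] [IsAlgClosed k] (str : Spec (CommRingCat.of k) ⟶ S)
        (y : (AlgSp.yon S).obj (Over.mk str) ⟶ Y.obj),
        ∃ x : (AlgSp.yon S).obj (Over.mk str) ⟶ X.obj, x ≫ f.hom = y := by
  refine ⟨fun hs k _ _ str y => ?_, fun h y => ?_⟩
  · obtain ⟨P, fst, snd, sq⟩ : ∃ (P : AlgSp.Sp S) (fst : P ⟶ X.obj) (snd : P ⟶ _), IsPullback fst snd f.hom y :=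
      ⟨_, _, _, IsPullback.of_hasPullback _ _⟩
    have hP := AlgSpLib.isAlgSpace_of_isPullback Y.property.diag X.property (AlgSp.IsAlgSpace.yon_obj _) sq
    obtain ⟨U, a, hae, has⟩ := hP.atlas
    obtain ⟨q, hq⟩ := (AlgSp.yon S).map_surjective (a ≫ snd)
    have hl : LocallyOfFiniteType q.left :=
      AlgSpLib.locP_of_isPullback AlgSpLib.etLocal_lft X.property Y.property hP sq hf a (𝟙 _) q hae
        (haveI : AlgSp.RepWith @Etale (𝟙 ((AlgSp.yon S).obj (Over.mk str))) := AlgSpLib.repWith_of_isIso _ _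
         this) (by rw [hq, Category.comp_id])
    obtain ⟨x₀, hx₀⟩ := hs (AlgSpLib.ptOfHom y)
    have e : AlgSp.Points.map f.hom x₀ =
        AlgSp.Points.map y (AlgSpLib.ptOfHom (𝟙 ((AlgSp.yon S).obj (Over.mk str)))) := by
      rw [hx₀, AlgSpLib.map_ptOfHom, Category.id_comp]
    obtain ⟨w, -, -⟩ := AlgSpLib.exists_point_of_isPullback sq e
    obtain ⟨u₀, -⟩ := AlgSpLib.surjective_ofPt a has w
    have : Nonempty ↥U.left := ⟨u₀⟩
    have : JacobsonSpace ↥(Over.mk str).left := inferInstanceAs (JacobsonSpace ↥(Spec (CommRingCat.of k)))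
    have : JacobsonSpace ↥U.left := LocallyOfFiniteType.jacobsonSpace q.left
    obtain ⟨u, -, hu⟩ := nonempty_inter_closedPoints (X := ↥U.left) Set.univ_nonempty isClosed_univ.isLocallyClosed
    let t : Over.mk str ⟶ U := Over.homMk (pointOfClosedPoint q.left u hu) (by
      rw [← Over.w q, ← Category.assoc, pointOfClosedPoint_comp]; exact Category.id_comp str)
    refine ⟨(AlgSp.yon S).map t ≫ a ≫ fst, ?_⟩
    rw [Category.assoc, Category.assoc, sq.w, ← Category.assoc a, ← hq, ← Category.assoc, ← (AlgSp.yon S).map_comp,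
      show t ≫ q = 𝟙 _ from Over.OverMorphism.ext (pointOfClosedPoint_comp q.left u hu), (AlgSp.yon S).map_id,
      Category.id_comp]
  · obtain ⟨K, _, sK, a, rfl⟩ := AlgSpLib.exists_ptOfHom y
    let i : Over.mk (Spec.map (CommRingCat.ofHom (algebraMap K (AlgebraicClosure K))) ≫ sK) ⟶ Over.mk sK :=
      Over.homMk (Spec.map (CommRingCat.ofHom (algebraMap K (AlgebraicClosure K)))) rfl
    obtain ⟨x, hx⟩ := h (AlgebraicClosure K) _ ((AlgSp.yon S).map i ≫ a)
    exact ⟨AlgSpLib.ptOfHom x, by rw [AlgSpLib.map_ptOfHom, hx, AlgSpLib.ptOfHom_map]⟩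

end Groth.Agent.S9954
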