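import Groth.Statements.S9955
import Groth.Agent.AlgSpLib.FibreConditions
import Groth.Agent.AlgSpLib.DiscreteFibres
-- import your own Groth.Agent.* helpers here

set_option autoImplicit false
universe u
open CategoryTheory CategoryTheory.Limits AlgebraicGeometry
open AlgSp

namespace Groth.Agent.S9955

set_option backward.isDefEq.respectTransparency.types false

/-- A morphism locally of finite type is locally quasi-finite if and only if all its fibres over
field-valued points have discrete spaces of points. -/
theorem result {S : Scheme.{u}} {X Y : AlgSp.Space S} (f : X ⟶ Y)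
    (hf : AlgSp.LocP @LocallyOfFiniteType f.hom) :
    AlgSp.LocP ((@LocallyQuasiFinite : MorphismProperty Scheme.{u}) ⊓ @LocallyOfFiniteType) f.hom ↔
      ∀ (k : Type u) [Field k] (str : Spec (CommRingCat.of k) ⟶ S) (y : (AlgSp.yon S).obj (Over.mk str) ⟶ Y.obj)
        (P : AlgSp.Sp S) (fst : P ⟶ X.obj) (snd : P ⟶ (AlgSp.yon S).obj (Over.mk str)),
        IsPullback fst snd f.hom y → DiscreteTopology (AlgSp.Points P) := by
  refine ⟨fun h k _ str y P fst snd sq => ?_, fun H =>
    AlgSpLib.locP_lqf_of_discrete_fibres X.property Y.property hf fun r Xk fst snd sq =>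
      H r.K r.str r.toHom Xk fst snd sq⟩
  let r : AlgSp.FieldPt Y.obj := ⟨k, str, (AlgSp.J S).uliftYonedaEquiv.{u + 1} y⟩
  have hr : r.toHom = y := (AlgSp.J S).uliftYonedaEquiv.{u + 1}.symm_apply_apply y
  exact (AlgSpLib.fibre_conditions X.property Y.property hf r (by rw [hr]; exact sq)).2 fun x _ =>
    (AlgSpLib.hasAtMor_lqf_iff X.property Y.property hf x).2
      (AlgSpLib.relDim_zero_of_locP_lqf X.property Y.property h x)

end Groth.Agent.S9955
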