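import Groth.Statements.S9956
import Groth.Agent.AlgSpLib.LocPMore
-- import your own Groth.Agent.* helpers here

set_option autoImplicit false
universe u
open CategoryTheory CategoryTheory.Limits AlgebraicGeometry
open AlgSp

namespace Groth.Agent.S9956

/-- For morphisms X -> Y -> Z of algebraic spaces, local quasi-finiteness of the composite implies that
of the first map (locally quasi-finite includes locally of finite type, etale locally on source and
target). -/
theorem result {S : Scheme.{u}} {X Y Z : AlgSp.Space S} (f : X ⟶ Y) (g : Y ⟶ Z)
    (h : AlgSp.LocP ((@LocallyQuasiFinite : MorphismProperty Scheme.{u}) ⊓ @LocallyOfFiniteType) (f ≫ g).hom) :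
    AlgSp.LocP ((@LocallyQuasiFinite : MorphismProperty Scheme.{u}) ⊓ @LocallyOfFiniteType) f.hom := by
  exact Groth.Agent.AlgSpLib.locP_of_comp' (Q := ⊤) Groth.Agent.AlgSpLib.etLocal_lqf X.property Y.property Z.property
    (fun _ _ _ a b h' _ => by
      have := h'.1; have := h'.2
      exact ⟨LocallyQuasiFinite.of_comp a b, locallyOfFiniteType_of_comp a b⟩) h (Groth.Agent.AlgSpLib.locP_top _)

end Groth.Agent.S9956
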