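import Groth.Statements.S9957
import Groth.Agent.AlgSpLib.MorProper
-- import your own Groth.Agent.* helpers here

set_option autoImplicit false
universe u
open CategoryTheory CategoryTheory.Limits AlgebraicGeometry
open AlgSp

namespace Groth.Agent.S9957

open Groth.Agent.AlgSpLib

/-- The source of a morphism of finite presentation whose target is Noetherian is itself Noetherian,
Noetherian meaning quasi-compact, quasi-separated over S and locally Noetherian. (The published
statement uses quasi-separatedness in the absolute sense; this row uses quasi-separatedness over S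
in hypothesis and conclusion.) -/
theorem result {S : Scheme.{u}} {X Y : AlgSp.Space S} (f : X ⟶ Y)
    (hf : AlgSp.IsFinitePresentationMor f.hom)
    (hY : AlgSp.IsQuasiCompactSp Y.obj ∧ AlgSp.IsQuasiSeparatedSp Y.obj ∧ AlgSp.IsLocNoethSp Y.obj) :
    AlgSp.IsQuasiCompactSp X.obj ∧ AlgSp.IsQuasiSeparatedSp X.obj ∧ AlgSp.IsLocNoethSp X.obj := by
  obtain ⟨hl, hq, hs⟩ := hf
  obtain ⟨hYc, hYs, V, b, hbe, hbs, hV⟩ := hY
  obtain ⟨q, -⟩ := exists_to_base Y.obj
  refine ⟨hq Y.property hYc (𝟙 _) (𝟙 _) f.hom (IsPullback.of_horiz_isIso ⟨by simp⟩),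
    (isQuasiSeparatedMor_iff_sp _).1
      (isQuasiSeparatedMor_comp hs ((isQuasiSeparatedMor_iff_sp q).2 hYs)), ?_⟩
  obtain ⟨U, a, h, hae, has, w⟩ := exists_chart_over X.property Y.property f.hom b hbe hbs
  have : LocallyOfFinitePresentation h.left := hl a b h hae hbe w
  have : IsLocallyNoetherian V.left := hV
  exact ⟨U, a, hae, has, LocallyOfFiniteType.isLocallyNoetherian h.left⟩

end Groth.Agent.S9957
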