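import Groth.Statements.S9959
import Groth.Agent.AlgSpLib.MorProper
import Groth.Agent.EGA43.Limit.Basic
-- import your own Groth.Agent.* helpers here

set_option autoImplicit false
universe u
open CategoryTheory CategoryTheory.Limits AlgebraicGeometry
open AlgSp

namespace Groth.Agent.S9959

open Groth.Agent.AlgSpLib

/-- Given X -> Y -> Z with X -> Z locally finitely presented and Y -> Z locally of finite type, X -> Y
is locally finitely presented (all three etale locally on source and target). -/
theorem result {S : Scheme.{u}} {X Y Z : AlgSp.Space S} (f : X ⟶ Y) (g : Y ⟶ Z)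
    (hX : AlgSp.LocP @LocallyOfFinitePresentation (f ≫ g).hom) (hY : AlgSp.LocP @LocallyOfFiniteType g.hom) :
    AlgSp.LocP @LocallyOfFinitePresentation f.hom := by
  exact locP_of_comp' etLocal_lfp X.property Y.property Z.property
    (fun _ _ _ a b h1 h2 =>
      @Groth.Agent.EGA43.Limit.locallyOfFinitePresentation_of_comp _ _ _ a b h2 h1) hX hY

end Groth.Agent.S9959
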