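import Groth.Statements.S9978
import Groth.Agent.AlgSpLib.LocP
import Groth.Agent.S9833
import Groth.Agent.CAlgH.NagataFiniteType
-- import your own Groth.Agent.* helpers here

set_option autoImplicit false
universe u
open CategoryTheory CategoryTheory.Limits AlgebraicGeometry
open AlgSp

namespace Groth.Agent.S9978

/-- An algebraic space locally of finite type over a Nagata algebraic space is Nagata. -/
theorem result {S : Scheme.{u}} {X Y : AlgSp.Space S} (f : X ⟶ Y)
    (hf : AlgSp.LocP @LocallyOfFiniteType f.hom)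
    (hY : AlgSp.EtaleLocally (fun U => ∀ V : U.Opens, IsAffineOpen V → CAlg.IsNagata ↑Γ(U, V)) Y.obj) :
    AlgSp.EtaleLocally (fun U => ∀ V : U.Opens, IsAffineOpen V → CAlg.IsNagata ↑Γ(U, V)) X.obj := by
  obtain ⟨V, b, hbe, hbs, hV⟩ := hY
  obtain ⟨U, a, k, hae, has, w⟩ := AlgSpLib.exists_chart_over X.property Y.property f.hom b hbe hbs
  have : LocallyOfFiniteType k.left := hf a b k hae hbe w
  refine ⟨U, a, hae, has, fun W hW => ?_⟩
  have key : ∀ x : ↥U.left, ∃ O : U.left.Opens, IsAffineOpen O ∧ x ∈ O ∧ CAlg.IsNagata Γ(U.left, O) := fun x => by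
    obtain ⟨_, ⟨B, hB, rfl⟩, hxB, -⟩ :=
      V.left.isBasis_affineOpens.exists_subset_of_mem_open (Set.mem_univ (k.left x)) isOpen_univ
    obtain ⟨_, ⟨O, hO, rfl⟩, hxO, hle⟩ :=
      U.left.isBasis_affineOpens.exists_subset_of_mem_open (show x ∈ k.left ⁻¹ᵁ B from hxB) (k.left ⁻¹ᵁ B).2
    let _ := (k.left.appLE B O hle).hom.toAlgebra
    have : Algebra.FiniteType Γ(V.left, B) Γ(U.left, O) := LocallyOfFiniteType.finiteType_appLE (f := k.left) hB hO hle
    exact ⟨O, hO, hxO, CAlgH.isNagata_of_finiteType (hV B hB) _⟩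
  choose O hO hxO hN using key
  exact S9833.result U.left O (eq_top_iff.2 fun x _ => TopologicalSpace.Opens.mem_iSup.2 ⟨x, hxO x⟩) hO hN W hW

end Groth.Agent.S9978
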