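import Groth.Statements.S9980
import Groth.Agent.AlgSpLib.ResidualSpace
import Groth.Agent.AlgSpLib.FtPoints
-- import your own Groth.Agent.* helpers here

set_option autoImplicit false
universe u
open CategoryTheory CategoryTheory.Limits AlgebraicGeometry
open AlgSp

namespace Groth.Agent.S9980

set_option backward.isDefEq.respectTransparency.types false

/-- Characterizations of finite type points via one-point algebraic spaces locally of finite type over X
and via monomorphisms from quotients of spectra of fields. -/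
theorem result {S : Scheme.{u}} (X : AlgSp.Space S) (x : AlgSp.Points X.obj) :
    ((∃ (k : Type u) (_ : Field k) (str : Spec (CommRingCat.of k) ⟶ S) (ξ : (AlgSp.yon S).obj (Over.mk str) ⟶ X.obj),
        AlgSp.LocP @LocallyOfFiniteType ξ ∧ AlgSp.Points.ofPt ξ (IsLocalRing.closedPoint k) = x) ↔
      ∃ (Z : AlgSp.Space S) (f : Z ⟶ X), Nonempty (Unique (AlgSp.Points Z.obj)) ∧
        AlgSp.LocP @LocallyOfFiniteType f.hom ∧ Set.range (AlgSp.Points.map f.hom) = {x}) ∧
    ((∃ (k : Type u) (_ : Field k) (str : Spec (CommRingCat.of k) ⟶ S) (ξ : (AlgSp.yon S).obj (Over.mk str) ⟶ X.obj),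
        AlgSp.LocP @LocallyOfFiniteType ξ ∧ AlgSp.Points.ofPt ξ (IsLocalRing.closedPoint k) = x) ↔
      ∃ (Z : AlgSp.Space S) (f : Z ⟶ X) (k : Type u) (_ : Field k) (str : Spec (CommRingCat.of k) ⟶ S)
        (z : (AlgSp.yon S).obj (Over.mk str) ⟶ Z.obj), AlgSp.RepWith @Etale z ∧ AlgSp.RepWith @Surjective z ∧
        AlgSp.LocP @LocallyOfFiniteType f.hom ∧ Mono f.hom ∧
        AlgSp.Points.ofPt (z ≫ f.hom) (IsLocalRing.closedPoint k) = x) := by
  refine ⟨⟨?_, ?_⟩, ⟨?_, ?_⟩⟩
  · rintro ⟨k, _, str, ξ, hξ, rfl⟩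
    have hsub : Subsingleton ↥(Over.mk str).left :=
      inferInstanceAs (Subsingleton ↥(Spec (CommRingCat.of k)))
    have : Subsingleton (Points ((yon S).obj (Over.mk str))) :=
      (Points.schemeHomeo (Over.mk str)).symm.toEquiv.subsingleton
    refine ⟨⟨_, IsAlgSpace.yon_obj (Over.mk str)⟩, ObjectProperty.homMk ξ,
      ⟨uniqueOfSubsingleton (AlgSpLib.ptOfHom (𝟙 _))⟩, hξ, ?_⟩
    refine Set.eq_singleton_iff_unique_mem.2
      ⟨⟨Points.ofScheme (Over.mk str) (IsLocalRing.closedPoint k),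
        (Points.ofPt_eq_map_ofScheme ξ _).symm⟩, ?_⟩
    rintro _ ⟨w, rfl⟩
    rw [Subsingleton.elim w (Points.ofScheme (Over.mk str) (IsLocalRing.closedPoint k))]
    exact (Points.ofPt_eq_map_ofScheme ξ _).symm
  · rintro ⟨Z, f, ⟨hu⟩, hf, hr⟩
    obtain ⟨z, -, hz⟩ := AlgSpLib.exists_hasAt_closed_mem Z.property
      (isOpen_univ.isLocallyClosed : IsLocallyClosed (Set.univ : Set (Points Z.obj)))
      ⟨hu.default, trivial⟩
    obtain ⟨k, _, str, ξ, hξ, rfl⟩ := (AlgSpLib.ftPt_iff Z.property z).2 hz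
    refine ⟨k, inferInstance, str, ξ ≫ f.hom,
      AlgSpLib.locP_comp AlgSpLib.etLocal_lft (IsAlgSpace.yon_obj _) Z.property X.property hξ hf, ?_⟩
    rw [← Points.map_ofPt]
    have : Points.map f.hom (Points.ofPt ξ (IsLocalRing.closedPoint k)) ∈ Set.range (Points.map f.hom) :=
      ⟨_, rfl⟩
    rwa [hr, Set.mem_singleton_iff] at this
  · intro h
    obtain ⟨U, a, hae, has⟩ := X.property.atlas
    obtain ⟨t, ht, rfl⟩ := AlgSpLib.exists_ftPt_of_hasAt_closed X.property
      ((AlgSpLib.ftPt_iff X.property x).1 h) a hae has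
    obtain ⟨Z, hZ, i, z, him, hze, hzs, hzi⟩ := AlgSpLib.exists_quot_field X.property a hae t
    refine ⟨⟨Z, hZ⟩, ObjectProperty.homMk i, U.left.residueField t, inferInstance, _, z, hze, hzs, ?_,
      him, ?_⟩
    · refine AlgSpLib.locP_of_atlas AlgSpLib.etLocal_lft hZ z hze hzs ?_
      show RepWith @LocallyOfFiniteType (z ≫ i)
      rw [hzi]
      exact AlgSpLib.RepWith.comp ((repWith_yon_map_iff (P := @LocallyOfFiniteType) _).2 ht)
        (AlgSpLib.RepWith.mono AlgSpLib.etLocal_lft.of_etale hae)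
    · show Points.ofPt (z ≫ i) _ = _
      rw [hzi, AlgSpLib.ofPt_map]
      exact congrArg _ (Scheme.fromSpecResidueField_apply _ _)
  · rintro ⟨Z, f, k, _, str, z, hze, hzs, hf, hfm, rfl⟩
    exact ⟨k, inferInstance, str, z ≫ f.hom,
      AlgSpLib.locP_comp AlgSpLib.etLocal_lft (IsAlgSpace.yon_obj _) Z.property X.property
        (AlgSpLib.locP_of_repWith AlgSpLib.etLocal_lft (IsAlgSpace.yon_obj _)
          (AlgSpLib.RepWith.mono AlgSpLib.etLocal_lft.of_etale hze)) hf, rfl⟩

end Groth.Agent.S9980
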