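import Groth.Statements.S9981
import Groth.Agent.AlgSpLib.Constructible
import Groth.Agent.AlgSpLib.LocP
import Groth.Agent.AlgSpLib.PointsTop
-- import your own Groth.Agent.* helpers here

set_option autoImplicit false
universe u
open CategoryTheory CategoryTheory.Limits AlgebraicGeometry
open AlgSp

namespace Groth.Agent.S9981

/-- The inverse image of an etale locally constructible subset under a morphism of algebraic spaces is
etale locally constructible. -/
theorem result {S : Scheme.{u}} {X Y : AlgSp.Space S} (f : X ⟶ Y)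
    (E : Set (AlgSp.Points Y.obj))
    (hE : (∀ (U : Over S) (φ : (AlgSp.yon S).obj U ⟶ Y.obj), AlgSp.RepWith @Etale φ →
        Topology.IsLocallyConstructible (AlgSp.Points.ofPt φ ⁻¹' E))) :
    (∀ (U : Over S) (φ : (AlgSp.yon S).obj U ⟶ X.obj), AlgSp.RepWith @Etale φ →
        Topology.IsLocallyConstructible (AlgSp.Points.ofPt φ ⁻¹' (AlgSp.Points.map f.hom ⁻¹' E))) := by
  intro U φ hφ
  obtain ⟨V, b, hbe, hbs⟩ := Y.property.atlas
  have hb := Y.property.representable_from_yon b
  have sq := hb.isPullback' (φ ≫ f.hom)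
  have : Etale (hb.snd (φ ≫ f.hom)).left := hbe.property_snd _
  have : Surjective (hb.snd (φ ≫ f.hom)).left := hbs.property_snd _
  apply AlgSpLib.isLocallyConstructible_of_preimage (hb.snd (φ ≫ f.hom)).left
  convert AlgSpLib.isLocallyConstructible_preimage (hb.fst' (φ ≫ f.hom)).left (hE V b hbe) using 1
  ext z
  show AlgSp.Points.map f.hom (AlgSp.Points.ofPt φ _) ∈ E ↔ AlgSp.Points.ofPt b _ ∈ E
  rw [AlgSp.Points.map_ofPt, ← AlgSpLib.ofPt_map, ← AlgSpLib.ofPt_map, sq.w]

end Groth.Agent.S9981
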