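import Groth.Statements.S9982
import Groth.Agent.AlgSpLib.GeomRedFibre
-- import your own Groth.Agent.* helpers here

set_option autoImplicit false
universe u
open CategoryTheory CategoryTheory.Limits AlgebraicGeometry
open AlgSp

namespace Groth.Agent.S9982

open Groth.Agent.AlgSpLib

set_option backward.isDefEq.respectTransparency.types false

theorem preimage_image_affine {S : Scheme.{u}} {X Y : AlgSp.Space S} (f : X ⟶ Y)
    (hq : AlgSp.IsQuasiCompactMor f.hom) (hfp : AlgSp.LocP @LocallyOfFinitePresentation f.hom)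
    (E : Set (AlgSp.Points X.obj))
    (hE : (∀ (U : Over S) (φ : (AlgSp.yon S).obj U ⟶ X.obj), AlgSp.RepWith @Etale φ →
        Topology.IsLocallyConstructible (AlgSp.Points.ofPt φ ⁻¹' E)))
    {V : Over S} [IsAffine V.left] (b : (AlgSp.yon S).obj V ⟶ Y.obj) (hbe : AlgSp.RepWith @Etale b) :
    Topology.IsLocallyConstructible (AlgSp.Points.ofPt b ⁻¹' (AlgSp.Points.map f.hom '' E)) := by
  have hT := AlgSp.IsAlgSpace.yon_obj (S := S) V
  have sqP := IsPullback.of_hasPullback f.hom b
  have hP := isAlgSpace_of_isPullback Y.property.diag X.property hT sqP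
  have : CompactSpace (AlgSp.Points ((AlgSp.yon S).obj V)) :=
    ⟨(AlgSp.Points.schemeEquiv V).surjective.range_eq ▸ isCompact_range (AlgSp.Points.continuous_ofPt _)⟩
  have := compactSpace_points_of_isQuasiCompactSp
    (hq hT ((isQuasiCompactSp_iff_compactSpace hT).2 this) b _ _ sqP)
  obtain ⟨U, ψ, hU, hψe, hψs⟩ := exists_affine_chart hP
  obtain ⟨m, hm'⟩ := (AlgSp.yon S).map_surjective (ψ ≫ pullback.snd f.hom b)
  obtain ⟨hae, haw⟩ := chart_of_baseChange f.hom b hbe hψe hm'.symm
  have : LocallyOfFinitePresentation m.left := hfp _ b m hae hbe haw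
  have : QuasiCompact m.left := inferInstance
  have e : AlgSp.Points.ofPt b ⁻¹' (AlgSp.Points.map f.hom '' E) =
      m.left '' (AlgSp.Points.ofPt (ψ ≫ pullback.fst f.hom b) ⁻¹' E) := by
    ext v
    constructor
    · rintro ⟨x, hx, e⟩
      obtain ⟨z, hz1, hz2⟩ := exists_point_of_isPullback sqP (x := x) (y := AlgSp.Points.ofScheme V v)
        (e.trans (AlgSp.Points.ofPt_eq_map_ofScheme _ _))
      obtain ⟨u, rfl⟩ := surjective_ofPt ψ hψs z
      have hxu : AlgSp.Points.ofPt (ψ ≫ pullback.fst f.hom b) u = x := hz1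
      refine ⟨u, by rw [Set.mem_preimage, hxu]; exact hx, (AlgSp.Points.schemeEquiv V).injective ?_⟩
      refine Eq.trans ?_ hz2
      rw [AlgSp.Points.map_ofPt, ← hm', ← Category.comp_id ((AlgSp.yon S).map m), ofPt_map]
      rfl
    · rintro ⟨u, hu, rfl⟩
      exact ⟨_, hu, by rw [AlgSp.Points.map_ofPt, haw, ofPt_map]⟩
  rw [e]
  exact m.left.isLocallyConstructible_image (hE U _ hae)

/-- A quasi-compact morphism locally of finite presentation between algebraic spaces maps etale locally
constructible sets to etale locally constructible sets. -/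
theorem result {S : Scheme.{u}} {X Y : AlgSp.Space S} (f : X ⟶ Y)
    (hq : AlgSp.IsQuasiCompactMor f.hom) (hfp : AlgSp.LocP @LocallyOfFinitePresentation f.hom)
    (E : Set (AlgSp.Points X.obj))
    (hE : (∀ (U : Over S) (φ : (AlgSp.yon S).obj U ⟶ X.obj), AlgSp.RepWith @Etale φ →
        Topology.IsLocallyConstructible (AlgSp.Points.ofPt φ ⁻¹' E))) :
    (∀ (U : Over S) (φ : (AlgSp.yon S).obj U ⟶ Y.obj), AlgSp.RepWith @Etale φ →
        Topology.IsLocallyConstructible (AlgSp.Points.ofPt φ ⁻¹' (AlgSp.Points.map f.hom '' E))) := by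
  intro V a ha
  refine Topology.IsLocallyConstructible.of_isOpenCover (U := fun W : V.left.affineOpens ↦ W.1)
    (iSup_affineOpens_eq_top V.left) fun W ↦ ?_
  let W' : Over S := Over.mk (W.1.ι ≫ V.hom)
  let g : W' ⟶ V := Over.homMk W.1.ι rfl
  have : IsAffine W'.left := W.2
  have hge : AlgSp.RepWith @Etale ((AlgSp.yon S).map g ≫ a) :=
    RepWith.comp ((AlgSp.repWith_yon_map_iff _ g).2 (show Etale W.1.ι from inferInstance)) ha
  have key := preimage_image_affine f hq hfp E hE ((AlgSp.yon S).map g ≫ a) hge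
  have e : AlgSp.Points.ofPt ((AlgSp.yon S).map g ≫ a) ⁻¹' (AlgSp.Points.map f.hom '' E) =
      W.1.ι ⁻¹' (AlgSp.Points.ofPt a ⁻¹' (AlgSp.Points.map f.hom '' E)) := by
    ext w
    rw [Set.mem_preimage, Set.mem_preimage, Set.mem_preimage, ofPt_map]
    rfl
  rw [e] at key
  exact key

end Groth.Agent.S9982
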