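import Groth.Statements.S9986
import Groth.Agent.AlgSpLib.SchDenseCharts
import Mathlib.Algebra.Category.Ring.Limits
import Mathlib.Algebra.Category.Ring.FilteredColimits
-- import your own Groth.Agent.* helpers here

set_option autoImplicit false
universe u
open CategoryTheory CategoryTheory.Limits AlgebraicGeometry
open AlgSp

namespace Groth.Agent.S9986

set_option backward.isDefEq.respectTransparency.types false

/-- For an open immersion j : U -> X of algebraic spaces, U is scheme theoretically dense in X exactly
when the comparison map from O_X to j_* O_U on the small etale site of X is a monomorphism of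
sheaves of rings. -/
theorem result {S : Scheme.{u}} {U X : AlgSp.Space S} (j : U ⟶ X)
    (hj : AlgSp.RepWith @IsOpenImmersion j.hom) :
    AlgSp.IsSchDense j.hom ↔ Mono (AlgSp.bcRingHom hj.1) := by
  rw [Groth.Agent.AlgSpLib.isSchDense_iff_mono X.property hj]
  have : PreservesLimitsOfShape WalkingCospan (forget RingCat.{u+1}) :=
    (RingCat.forget_preservesLimitsOfSize.{0, u+1}).preservesLimitsOfShape
  constructor
  · intro h
    have : Mono (AlgSp.bcRingHom hj.1).hom := by
      rw [NatTrans.mono_iff_mono_app]
      intro E
      refine ConcreteCategory.mono_of_injective _ ?_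
      intro a b e
      exact ULift.ext _ _ (h E.unop (congrArg ULift.down e))
    exact (sheafToPresheaf _ _).mono_of_mono_map this
  · intro h E a b e
    have h1 : Mono (AlgSp.bcRingHom hj.1).hom := (sheafToPresheaf _ _).map_mono (AlgSp.bcRingHom hj.1)
    rw [NatTrans.mono_iff_mono_app] at h1
    have h2 := h1 (Opposite.op E)
    replace h2 := @ConcreteCategory.injective_of_mono_of_preservesPullback _ _ _ _ _ _ _ _ _ h2 this
    exact congrArg ULift.down (h2 (a₁ := ULift.up a) (a₂ := ULift.up b) (congrArg ULift.up e))

end Groth.Agent.S9986
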