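import Groth.Statements.S9987
import Groth.Agent.AlgSpLib.PushEtExact
-- import your own Groth.Agent.* helpers here

set_option autoImplicit false
universe u
open CategoryTheory CategoryTheory.Limits AlgebraicGeometry Opposite
open AlgSp

namespace Groth.Agent.S9987

set_option backward.isDefEq.respectTransparency.types false
set_option backward.isDefEq.respectTransparency false
open Groth.Agent.AlgSpLib Groth.Agent.Stk19b

theorem exists_local_section {S : Scheme.{u}} {Z X : AlgSp.Sp S} (i : Z ⟶ X) (hi : AlgSp.RepWith @IsClosedImmersion i)
    (E : AlgSp.EtOver X) (e : ↥E.obj.left.left) (s : Γ(((AlgSp.EtOver.bc hi.1).obj E).obj.left.left, ⊤)) :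
    ∃ (P : AlgSp.EtOver X) (g : P ⟶ E) (t : Γ(P.obj.left.left, ⊤)), e ∈ Set.range g.hom.left.left ∧
      (hi.1.snd P.obj.hom).left.appTop t = (AlgSp.EtOver.bcMap hi.1 g).hom.left.left.appTop s := by
  obtain ⟨U, hU, he, -⟩ := exists_isAffineOpen_mem_and_subset (X := E.obj.left.left) (x := e) (U := ⊤) trivial
  let P := PushEtExact.piece E U
  have : IsAffine P.obj.left.left := hU
  have : IsClosedImmersion (hi.1.snd P.obj.hom).left := hi.property_snd _
  obtain ⟨t, ht⟩ := (IsClosedImmersion.isAffine_surjective_of_isAffine (f := (hi.1.snd P.obj.hom).left)).2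
    ((AlgSp.EtOver.bcMap hi.1 (PushEtExact.pieceHom E U)).hom.left.left.appTop s)
  exact ⟨P, PushEtExact.pieceHom E U, t, ⟨⟨e, he⟩, rfl⟩, ht⟩

/-- For a closed immersion i : Z ⟶ X of algebraic spaces over S (representable, every base change to a
scheme a closed immersion), the comparison map O_X ⟶ i_* O_Z of sheaves of rings on the small etale
site of X is locally surjective. (The published statement also asserts that i_* O_Z is a
quasi-coherent O_X-module and that the kernel of O_X ⟶ i_* O_Z is a quasi-coherent sheaf of ideals;
those two assertions are the closed-immersion cases of the general facts that direct images along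
quasi-compact quasi-separated morphisms preserve quasi-coherence and that the kernel ideal of a
quasi-compact morphism is quasi-coherent, a closed immersion being quasi-compact and separated, and
only the surjectivity is stated here.) -/
theorem result {S : Scheme.{u}} {Z X : AlgSp.Space S} (i : Z ⟶ X)
    (hi : AlgSp.RepWith @IsClosedImmersion i.hom) :
    Presheaf.IsLocallySurjective (AlgSp.etTop X.obj) (AlgSp.bcRingHom hi.1).hom := by
  refine ⟨fun {E} s => StalkPoint.mem_etTop_of_forall _ fun e => ?_⟩
  obtain ⟨P, g, t, hmem, ht⟩ := exists_local_section i.hom hi E e s.down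
  exact ⟨P, g, ⟨ULift.up t, ULift.ext _ _ ht⟩, hmem⟩

end Groth.Agent.S9987
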