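import Groth.Statements.S9992
import Groth.Agent.AlgSpLib.QCohEtSub
-- import your own Groth.Agent.* helpers here

set_option autoImplicit false
universe u
open CategoryTheory CategoryTheory.Limits AlgebraicGeometry Opposite
open AlgSp

namespace Groth.Agent.S9992

open Groth.Agent.AlgSpLib

/-- For a quasi-coherent O_X-module F on the small etale site of an algebraic space X and a submodule G
of F, there is a quasi-coherent submodule G' of G through which every map from a quasi-coherent
module to G factors uniquely; G' is the largest quasi-coherent submodule of F contained in G (it is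
unique up to isomorphism over G, which is formal and not restated). -/
theorem result {S : Scheme.{u}} (X : AlgSp.Space S) (F G : AlgSp.ModEt X.obj)
    [F.IsQuasicoherent] (ι : G ⟶ F) [Mono ι] :
    ∃ (G' : AlgSp.ModEt X.obj) (κ : G' ⟶ G), Mono κ ∧ G'.IsQuasicoherent ∧
      ∀ H : AlgSp.ModEt X.obj, H.IsQuasicoherent → Function.Bijective (fun φ : H ⟶ G' => φ ≫ κ) := by
  let Q : QCohEt.QSub F := QCohEt.QSub.iSup
    (fun q : {q : QCohEt.QSub F // ∀ E hE, q.P E hE ≤ LinearMap.range (QCohEt.secMap ι E)} => q.1)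
  have hQ : ∀ E (hE : IsAffine E.obj.left.left), Q.P E hE ≤ LinearMap.range (QCohEt.secMap ι E) :=
    fun E hE => iSup_le fun q => q.2 E hE
  obtain ⟨κ, hκ⟩ := QCohEt.exists_lift Q.incl ι fun E hE => by
    rw [Q.range_incl hE]
    exact fun s hs => hQ E hE hs
  haveI : Mono (κ ≫ ι) := hκ.symm ▸ Q.mono_incl
  haveI hm : Mono κ := mono_of_mono κ ι
  refine ⟨Q.obj, κ, hm, Q.isQuasicoherent_obj, fun H hH => ⟨fun a b h => (cancel_mono κ).1 h, fun ψ => ?_⟩⟩
  haveI := hH
  have hle : ∀ E hE, (QCohEt.QSub.image (ψ ≫ ι)).P E hE ≤ Q.P E hE := fun E hE =>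
    le_iSup (fun q : {q : QCohEt.QSub F // ∀ E hE, q.P E hE ≤ LinearMap.range (QCohEt.secMap ι E)} => q.1.P E hE)
      ⟨QCohEt.QSub.image (ψ ≫ ι), fun E' hE' => by
        rintro _ ⟨a, rfl⟩
        exact ⟨QCohEt.secMap ψ E' a, rfl⟩⟩
  obtain ⟨l, hl⟩ := QCohEt.exists_lift (ψ ≫ ι) Q.incl fun E hE => by
    rw [Q.range_incl hE]
    rintro _ ⟨a, rfl⟩
    exact hle E hE ⟨a, rfl⟩
  refine ⟨l, (cancel_mono ι).1 ?_⟩
  rw [Category.assoc, hκ, hl]

end Groth.Agent.S9992
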