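import Groth.Statements.S9994
import Groth.Agent.AlgSpLib.HasAtNbhd
-- import your own Groth.Agent.* helpers here

set_option autoImplicit false
universe u
open CategoryTheory CategoryTheory.Limits AlgebraicGeometry
open AlgSp

namespace Groth.Agent.S9994

open Groth.Agent.AlgSpLib

/-- A morphism f : X ⟶ Y of algebraic spaces has P etale locally on the source and target if and only if
it has P at every point of |X| in the neighbourhood sense (some chart diagram through the point
whose top arrow has P on an open neighbourhood of the chosen point). -/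
theorem result {S : Scheme.{u}} (P : MorphismProperty Scheme.{u})
    (hP : P = @LocallyOfFiniteType ∨ P = @LocallyOfFinitePresentation ∨ P = @Flat ∨ P = @Smooth ∨ P = @Etale ∨
      (∀ ⦃A B : Scheme.{u}⦄ (g : A ⟶ B), P g ↔ (LocallyQuasiFinite g ∧ LocallyOfFiniteType g)) ∨
      (∀ ⦃A B : Scheme.{u}⦄ (g : A ⟶ B), P g ↔ (LocallyOfFiniteType g ∧ FormallyUnramified g)))
    {X Y : AlgSp.Space S} (f : X ⟶ Y) :
    AlgSp.LocP P f.hom ↔
      ∀ x : AlgSp.Points X.obj, AlgSp.HasAtMor (fun U _ h u => ∃ W : U.Opens, u ∈ W ∧ P (W.ι ≫ h)) f.hom x := by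
  have hE := etLocal_of_mem hP
  refine ⟨fun h x => ?_, fun h => locP_of_forall_hasAtMor hE
    (fun g _ O hO hg => sourceGlue_of_mem hP g O hO hg) X.property h⟩
  obtain ⟨V, b, hbe, hbs⟩ := Y.property.atlas
  obtain ⟨U, a, l, hae, has, w⟩ := exists_chart_over X.property Y.property f.hom b hbe hbs
  obtain ⟨u, rfl⟩ := surjective_ofPt a has x
  have := hE.comp
  exact ⟨U, V, a, b, l, u, hae, hbe, w, rfl, ⊤, trivial,
    P.comp_mem _ _ (hE.of_etale _ _ _ (inferInstance : Etale (⊤ : U.left.Opens).ι))
      (h a b l hae hbe w)⟩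

end Groth.Agent.S9994
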