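import Groth.Statements.S9996
import Groth.Agent.AlgSpLib.FerrandSpace
import Groth.Agent.AlgSpLib.CutOut
import Groth.Agent.AlgSpLib.EffCartierSub
import Groth.Agent.Desc19b.UnionPushout
-- import your own Groth.Agent.* helpers here

set_option autoImplicit false
universe u
open CategoryTheory CategoryTheory.Limits AlgebraicGeometry Opposite
open AlgSp

set_option backward.isDefEq.respectTransparency false
set_option backward.isDefEq.respectTransparency.types false
set_option linter.style.haveILetI false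

namespace Groth.Agent.AlgSpLib.UnionSpace

open CategoryTheory CategoryTheory.Limits AlgebraicGeometry

variable {S : Scheme.{u}}

/-- ideals of charts of intersections and sums -/
theorem chartIdeal_inf_sup {X : AlgSp.Sp S} {DY DZ DW DV : AlgSp.Sp S} {I J K : AlgSp.IdealEt X}
    (hK : ∀ (E : AlgSp.EtOver X) (hE : IsAffine E.obj.left.left), K.ideal E hE = I.ideal E hE ⊓ J.ideal E hE)
    {iY : DY ⟶ X} {iZ : DZ ⟶ X} {w : DW ⟶ X} {v : DV ⟶ X}
    (hY : AlgSp.IsCutOutBy I iY) (hZ : AlgSp.IsCutOutBy J iZ) (hW : AlgSp.IsCutOutBy K w)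
    (hV : AlgSp.IsCutOutBy (I ⊔ J) v) {U : Over S} {p : (AlgSp.yon S).obj U ⟶ X} (he : AlgSp.RepWith @Etale p) :
    chartIdeal hW.1 p = chartIdeal hY.1 p ⊓ chartIdeal hZ.1 p ∧
      chartIdeal hV.1 p = chartIdeal hY.1 p ⊔ chartIdeal hZ.1 p := by
  have key : ∀ O : U.left.affineOpens,
      (chartIdeal hW.1 p).ideal O = (chartIdeal hY.1 p).ideal O ⊓ (chartIdeal hZ.1 p).ideal O ∧
      (chartIdeal hV.1 p).ideal O = (chartIdeal hY.1 p).ideal O ⊔ (chartIdeal hZ.1 p).ideal O := by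
    intro O
    haveI : IsAffine O.1.toScheme := O.2
    let E := affineObj p he O
    have hE : IsAffine E.obj.left.left := O.2
    have hle : (⊤ : O.1.toScheme.Opens) ≤ O.1.ι ⁻¹ᵁ O.1 := by rw [Scheme.Opens.ι_preimage_self]
    let α := O.1.ι.appLE O.1 ⊤ hle
    have hα : Function.Bijective α.hom := by
      have := isIso_ι_appLE O.1 hle
      exact ConcreteCategory.bijective_of_isIso α
    have hd : ∀ {D : AlgSp.Sp S} {d : D ⟶ X} {L : AlgSp.IdealEt X} (h : AlgSp.IsCutOutBy L d),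
        L.ideal E hE = ((chartIdeal h.1 p).ideal O).map α.hom := by
      intro D d L h
      refine (congrArg (fun L => AlgSp.IdealEt.ideal L E hE) h.2).symm.trans ((idealOfRep_eq_chartIdeal h.1 E hE).trans ?_)
      show (chartIdeal h.1 ((AlgSp.yon S).map _ ≫ p)).ideal _ = _
      rw [chartIdeal_comap_open]
      exact ProjLib.comap_ideal_eq _ O.1.ι O ⟨⊤, isAffineOpen_top O.1.toScheme⟩ hle
    have hc : ∀ A : Ideal Γ(U.left, O.1), (A.map α.hom).comap α.hom = A := fun A =>
      Ideal.comap_map_of_bijective α.hom hα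
    constructor
    · rw [← hc ((chartIdeal hW.1 p).ideal O), ← hd hW, hK E hE, hd hY, hd hZ, Ideal.comap_inf, hc, hc]
    · rw [← hc ((chartIdeal hV.1 p).ideal O), ← hd hV,
        show (I ⊔ J).ideal E hE = I.ideal E hE ⊔ J.ideal E hE from rfl, hd hY, hd hZ, ← Ideal.map_sup, hc]
  constructor
  · ext O : 2
    rw [Scheme.IdealSheafData.ideal_inf]
    exact (key O).1
  · ext O : 2
    rw [Scheme.IdealSheafData.ideal_sup]
    exact (key O).2

/-- comparison of the chosen base changes of closed subspaces -/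
theorem exists_map {X D D' : AlgSp.Sp S} {d : D ⟶ X} {d' : D' ⟶ X} (hd : AlgSp.RepWith @IsClosedImmersion d)
    (hd' : AlgSp.RepWith @IsClosedImmersion d') (k : D ⟶ D') (hk : k ≫ d' = d) {U : Over S}
    (p : (AlgSp.yon S).obj U ⟶ X) :
    ∃ c : hd.1.pullback p ⟶ hd'.1.pullback p, c ≫ hd'.1.snd p = hd.1.snd p ∧
      (AlgSp.yon S).map c ≫ hd'.1.fst p = hd.1.fst p ≫ k := by
  obtain ⟨c, hc⟩ := (AlgSp.yon S).map_surjective ((hd'.1.isPullback p).lift (hd.1.fst p ≫ k)
    ((AlgSp.yon S).map (hd.1.snd p)) (by rw [Category.assoc, hk, (hd.1.isPullback p).w]))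
  exact ⟨c, (AlgSp.yon S).map_injective (by rw [Functor.map_comp, hc, (hd'.1.isPullback p).lift_snd]),
    by rw [hc, (hd'.1.isPullback p).lift_fst]⟩

/-- a closed immersion is the subscheme of its kernel -/
theorem exists_iso_subscheme {U D : Scheme.{u}} (g : D ⟶ U) [IsClosedImmersion g] :
    ∃ e : D ≅ g.ker.subscheme, e.hom ≫ g.ker.subschemeι = g :=
  ⟨asIso g.toImage, g.toImage_imageι⟩

/-- a chosen base change of a union is a pushout of schemes -/
theorem isPushout_charts {U A B C D : Scheme.{u}} (gA : A ⟶ U) (gB : B ⟶ U) (gW : C ⟶ U) (gV : D ⟶ U)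
    [IsClosedImmersion gA] [IsClosedImmersion gB] [IsClosedImmersion gW] [IsClosedImmersion gV]
    (hW : gW.ker = gA.ker ⊓ gB.ker) (hV : gV.ker = gA.ker ⊔ gB.ker)
    (c : D ⟶ A) (d : D ⟶ B) (a : A ⟶ C) (b : B ⟶ C) (hc : c ≫ gA = gV) (hd : d ≫ gB = gV)
    (ha : a ≫ gW = gA) (hb : b ≫ gW = gB) : IsPushout c d a b := by
  obtain ⟨eA, hA⟩ := exists_iso_subscheme gA
  obtain ⟨eB, hB⟩ := exists_iso_subscheme gB
  have hW' : ∃ e : C ≅ (gA.ker ⊓ gB.ker).subscheme, e.hom ≫ (gA.ker ⊓ gB.ker).subschemeι = gW :=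
    hW ▸ exists_iso_subscheme gW
  have hV' : ∃ e : D ≅ (gA.ker ⊔ gB.ker).subscheme, e.hom ≫ (gA.ker ⊔ gB.ker).subschemeι = gV :=
    hV ▸ exists_iso_subscheme gV
  obtain ⟨eC, hC⟩ := hW'
  obtain ⟨eD, hD⟩ := hV'
  refine (Desc19b.isPushout_inf_sup U gA.ker gB.ker).of_iso eD.symm eA.symm eB.symm eC.symm ?_ ?_ ?_ ?_
  · rw [← cancel_mono gA, Category.assoc, Category.assoc, Iso.symm_hom, Iso.symm_hom, hc,
      eA.inv_comp_eq.2 hA.symm, eD.inv_comp_eq.2 hD.symm, Scheme.IdealSheafData.inclusion_subschemeι]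
  · rw [← cancel_mono gB, Category.assoc, Category.assoc, Iso.symm_hom, Iso.symm_hom, hd,
      eB.inv_comp_eq.2 hB.symm, eD.inv_comp_eq.2 hD.symm, Scheme.IdealSheafData.inclusion_subschemeι]
  · rw [← cancel_mono gW, Category.assoc, Category.assoc, Iso.symm_hom, Iso.symm_hom, ha,
      eA.inv_comp_eq.2 hA.symm, eC.inv_comp_eq.2 hC.symm, Scheme.IdealSheafData.inclusion_subschemeι]
  · rw [← cancel_mono gW, Category.assoc, Category.assoc, Iso.symm_hom, Iso.symm_hom, hb,
      eB.inv_comp_eq.2 hB.symm, eC.inv_comp_eq.2 hC.symm, Scheme.IdealSheafData.inclusion_subschemeι]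

/-- a monomorphism detects base changes -/
theorem repWith_of_comp_mono {A W X : AlgSp.Sp S} (a : A ⟶ W) (w : W ⟶ X) [Mono w]
    (h : AlgSp.RepWith @IsClosedImmersion (a ≫ w)) : AlgSp.RepWith @IsClosedImmersion a :=
  RepWith.baseChange (IsPullback.of_horiz_isIso_mono (show CommSq (𝟙 A) a (a ≫ w) w from ⟨by simp⟩)) h

end Groth.Agent.AlgSpLib.UnionSpace

namespace Groth.Agent.S9996

open Groth.Agent.AlgSpLib

/-- For closed subspaces Y, Z of an algebraic space X with scheme theoretic union W (cut out by the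
intersection of the two ideal sheaves) and scheme theoretic intersection V (cut out by their sum),
the inclusions Y ⟶ W and Z ⟶ W are closed immersions and the square V ⟶ Y, V ⟶ Z, Y ⟶ W, Z ⟶ W is
cocartesian among algebraic spaces over S (W = Y ⨿_V Z). (The published statement also gives the
short exact sequence 0 → O_W → O_Y × O_Z → O_V → 0; that clause is not stated here.) -/
theorem result {S : Scheme.{u}} {X Y Z W V : AlgSp.Space S} (iY : Y ⟶ X) (iZ : Z ⟶ X)
    (w : W ⟶ X) (v : V ⟶ X) (I J K : AlgSp.IdealEt X.obj) (hI : I.IsQCoh) (hJ : J.IsQCoh)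
    (hK : ∀ (E : AlgSp.EtOver X.obj) (hE : IsAffine E.obj.left.left), K.ideal E hE = I.ideal E hE ⊓ J.ideal E hE)
    (hY : AlgSp.IsCutOutBy I iY.hom) (hZ : AlgSp.IsCutOutBy J iZ.hom) (hW : AlgSp.IsCutOutBy K w.hom)
    (hV : AlgSp.IsCutOutBy (I ⊔ J) v.hom) (a : Y ⟶ W) (b : Z ⟶ W) (c : V ⟶ Y) (d : V ⟶ Z)
    (ha : a ≫ w = iY) (hb : b ≫ w = iZ) (hc : c ≫ iY = v) (hd : d ≫ iZ = v) :
    AlgSp.RepWith @IsClosedImmersion a.hom ∧ AlgSp.RepWith @IsClosedImmersion b.hom ∧ IsPushout c d a b := by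
  haveI := mono_closedImmersion hW.1
  haveI := mono_closedImmersion hY.1
  haveI := mono_closedImmersion hZ.1
  have ha' : a.hom ≫ w.hom = iY.hom := congrArg (fun m => m.hom) ha
  have hb' : b.hom ≫ w.hom = iZ.hom := congrArg (fun m => m.hom) hb
  have hc' : c.hom ≫ iY.hom = v.hom := congrArg (fun m => m.hom) hc
  have hd' : d.hom ≫ iZ.hom = v.hom := congrArg (fun m => m.hom) hd
  have hw : c ≫ a = d ≫ b := ObjectProperty.hom_ext _ (by
    rw [ObjectProperty.FullSubcategory.comp_hom, ObjectProperty.FullSubcategory.comp_hom, ← cancel_mono w.hom,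
      Category.assoc, Category.assoc, ha', hb', hc', hd'])
  refine ⟨UnionSpace.repWith_of_comp_mono a.hom w.hom (by rw [ha']; exact hY.1),
    UnionSpace.repWith_of_comp_mono b.hom w.hom (by rw [hb']; exact hZ.1), ?_⟩
  -- pushouts on charts
  have chart : ∀ {U : Over S} (p : (AlgSp.yon S).obj U ⟶ X.obj), AlgSp.RepWith @Etale p →
      ∀ (B : AlgSp.Sp S), AlgSp.IsAlgSpace B →
        (∀ t t' : (AlgSp.yon S).obj (hW.1.1.pullback p) ⟶ B,
          (∀ (l : hY.1.1.pullback p ⟶ hW.1.1.pullback p), (AlgSp.yon S).map l ≫ hW.1.1.fst p = hY.1.1.fst p ≫ a.hom →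
            (AlgSp.yon S).map l ≫ t = (AlgSp.yon S).map l ≫ t') →
          (∀ (l : hZ.1.1.pullback p ⟶ hW.1.1.pullback p), (AlgSp.yon S).map l ≫ hW.1.1.fst p = hZ.1.1.fst p ≫ b.hom →
            (AlgSp.yon S).map l ≫ t = (AlgSp.yon S).map l ≫ t') → t = t') ∧
        (∀ (u : Y.obj ⟶ B) (z : Z.obj ⟶ B), c.hom ≫ u = d.hom ≫ z →
          ∃ t : (AlgSp.yon S).obj (hW.1.1.pullback p) ⟶ B,
            ∀ (T : Over S) (m : T ⟶ hW.1.1.pullback p),
              (∀ y : (AlgSp.yon S).obj T ⟶ Y.obj, y ≫ a.hom = (AlgSp.yon S).map m ≫ hW.1.1.fst p →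
                (AlgSp.yon S).map m ≫ t = y ≫ u) ∧
              (∀ y : (AlgSp.yon S).obj T ⟶ Z.obj, y ≫ b.hom = (AlgSp.yon S).map m ≫ hW.1.1.fst p →
                (AlgSp.yon S).map m ≫ t = y ≫ z)) := by
    intro U p he B hB
    obtain ⟨cc, hcc, hcc'⟩ := UnionSpace.exists_map hV.1 hY.1 c.hom hc' p
    obtain ⟨dd, hdd, hdd'⟩ := UnionSpace.exists_map hV.1 hZ.1 d.hom hd' p
    obtain ⟨aa, haa, haa'⟩ := UnionSpace.exists_map hY.1 hW.1 a.hom ha' p
    obtain ⟨bb, hbb, hbb'⟩ := UnionSpace.exists_map hZ.1 hW.1 b.hom hb' p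
    haveI : IsClosedImmersion (hY.1.1.snd p).left := hY.1.property_snd p
    haveI : IsClosedImmersion (hZ.1.1.snd p).left := hZ.1.property_snd p
    haveI : IsClosedImmersion (hW.1.1.snd p).left := hW.1.property_snd p
    haveI : IsClosedImmersion (hV.1.1.snd p).left := hV.1.property_snd p
    obtain ⟨kW, kV⟩ := UnionSpace.chartIdeal_inf_sup hK hY hZ hW hV he
    have hpo := UnionSpace.isPushout_charts (hY.1.1.snd p).left (hZ.1.1.snd p).left (hW.1.1.snd p).left
      (hV.1.1.snd p).left kW kV cc.left dd.left aa.left bb.left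
      (congrArg CommaMorphism.left hcc) (congrArg CommaMorphism.left hdd)
      (congrArg CommaMorphism.left haa) (congrArg CommaMorphism.left hbb)
    haveI : IsClosedImmersion (cc.left ≫ (hY.1.1.snd p).left) := by rw [← Over.comp_left, hcc]; infer_instance
    haveI : IsClosedImmersion cc.left := IsClosedImmersion.of_comp cc.left (hY.1.1.snd p).left
    haveI : IsClosedImmersion (dd.left ≫ (hZ.1.1.snd p).left) := by rw [← Over.comp_left, hdd]; infer_instance
    haveI : IsClosedImmersion dd.left := IsClosedImmersion.of_comp dd.left (hZ.1.1.snd p).left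
    haveI := FlatMorPush.hasPairs_of_isClosedImmersion cc.left dd.left
    haveI := mono_closedImmersion hW.1
    refine ⟨fun t t' h1 h2 => FerrandSpace.hom_ext_pushout cc dd aa bb hB hpo t t' (h1 aa haa') (h2 bb hbb'),
      fun u z huz => ?_⟩
    obtain ⟨t, ht1, ht2⟩ := FerrandSpace.exists_desc_pushout cc dd aa bb hB hpo
      (FerrandSpace.liftable_of_integral hpo) (hY.1.1.fst p ≫ u) (hZ.1.1.fst p ≫ z) (by
        rw [← Category.assoc, hcc', ← Category.assoc, hdd', Category.assoc, huz, Category.assoc])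
    refine ⟨t, fun T m => ⟨fun y hy => ?_, fun y hy => ?_⟩⟩
    · obtain ⟨y', hy'⟩ := (AlgSp.yon S).map_surjective ((hY.1.1.isPullback p).lift y
        ((AlgSp.yon S).map (m ≫ hW.1.1.snd p)) (by
          rw [← ha', ← Category.assoc, hy, Category.assoc, (hW.1.1.isPullback p).w, Functor.map_comp, Category.assoc]))
      have e : y' ≫ aa = m := by
        refine (AlgSp.yon S).map_injective ((hW.1.1.isPullback p).hom_ext ?_ ?_)
        · rw [Functor.map_comp, Category.assoc, haa', ← Category.assoc, hy', (hY.1.1.isPullback p).lift_fst, hy]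
        · rw [← Functor.map_comp, Category.assoc, haa, Functor.map_comp, hy', (hY.1.1.isPullback p).lift_snd,
            Functor.map_comp]
      rw [← e, Functor.map_comp, Category.assoc, ht1, ← Category.assoc, hy', (hY.1.1.isPullback p).lift_fst]
    · obtain ⟨y', hy'⟩ := (AlgSp.yon S).map_surjective ((hZ.1.1.isPullback p).lift y
        ((AlgSp.yon S).map (m ≫ hW.1.1.snd p)) (by
          rw [← hb', ← Category.assoc, hy, Category.assoc, (hW.1.1.isPullback p).w, Functor.map_comp, Category.assoc]))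
      have e : y' ≫ bb = m := by
        refine (AlgSp.yon S).map_injective ((hW.1.1.isPullback p).hom_ext ?_ ?_)
        · rw [Functor.map_comp, Category.assoc, hbb', ← Category.assoc, hy', (hZ.1.1.isPullback p).lift_fst, hy]
        · rw [← Functor.map_comp, Category.assoc, hbb, Functor.map_comp, hy', (hZ.1.1.isPullback p).lift_snd,
            Functor.map_comp]
      rw [← e, Functor.map_comp, Category.assoc, ht2, ← Category.assoc, hy', (hZ.1.1.isPullback p).lift_fst]
  obtain ⟨U, p, he, hs⟩ := X.property.atlas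
  let R := he.1.pullback p
  let r₁ : R ⟶ U := he.1.fst' p
  let r₂ : R ⟶ U := he.1.snd p
  have sqR : IsPullback ((AlgSp.yon S).map r₁) ((AlgSp.yon S).map r₂) p p := he.1.isPullback' p
  have heR : AlgSp.RepWith @Etale ((AlgSp.yon S).map r₂ ≫ p) :=
    RepWith.comp ((repWith_yon_map_iff _ _).2 (he.property _ _ _ sqR)) he
  have sqW := hW.1.1.isPullback p
  haveI : Epi (hW.1.1.fst p) :=
    epi_of_etale_surjective (RepWith.baseChange sqW.flip he) (RepWith.baseChange sqW.flip hs)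
  haveI : IsRegularEpi (hW.1.1.fst p) := IsRegularEpiCategory.regularEpiOfEpi _
  refine IsPushout.of_isColimit' ⟨hw⟩ (PushoutCocone.isColimitAux' _ fun s => ?_)
  have huz : c.hom ≫ s.inl.hom = d.hom ≫ s.inr.hom := congrArg (fun m => m.hom) s.condition
  have ht := (chart p he s.pt.obj s.pt.property).2 s.inl.hom s.inr.hom huz
  have hdesc : ∀ (Q : AlgSp.Sp S) (g₁ g₂ : Q ⟶ (AlgSp.yon S).obj (hW.1.1.pullback p)),
      g₁ ≫ hW.1.1.fst p = g₂ ≫ hW.1.1.fst p → g₁ ≫ ht.choose = g₂ ≫ ht.choose := by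
    intro Q g₁ g₂ hg
    refine hom_ext_of_yon fun T q => ?_
    obtain ⟨x₁, hx₁⟩ := (AlgSp.yon S).map_surjective (q ≫ g₁)
    obtain ⟨x₂, hx₂⟩ := (AlgSp.yon S).map_surjective (q ≫ g₂)
    rw [← Category.assoc, ← Category.assoc, ← hx₁, ← hx₂]
    have hx : (AlgSp.yon S).map x₁ ≫ hW.1.1.fst p = (AlgSp.yon S).map x₂ ≫ hW.1.1.fst p := by
      rw [hx₁, hx₂, Category.assoc, Category.assoc, hg]
    have hp : (AlgSp.yon S).map (x₁ ≫ hW.1.1.snd p) ≫ p = (AlgSp.yon S).map (x₂ ≫ hW.1.1.snd p) ≫ p := by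
      rw [Functor.map_comp, Functor.map_comp, Category.assoc, Category.assoc, ← sqW.w, ← Category.assoc, hx,
        Category.assoc]
    obtain ⟨l, hl⟩ := (AlgSp.yon S).map_surjective (sqR.lift _ _ hp)
    have hl₁ : l ≫ r₁ = x₁ ≫ hW.1.1.snd p :=
      (AlgSp.yon S).map_injective (by rw [Functor.map_comp, hl, sqR.lift_fst])
    have hl₂ : l ≫ r₂ = x₂ ≫ hW.1.1.snd p :=
      (AlgSp.yon S).map_injective (by rw [Functor.map_comp, hl, sqR.lift_snd])
    let pR := (AlgSp.yon S).map r₂ ≫ p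
    have sqWR := hW.1.1.isPullback pR
    have lifts : ∀ (r : R ⟶ U), (AlgSp.yon S).map r ≫ p = pR →
        ∃ q : hW.1.1.pullback pR ⟶ hW.1.1.pullback p, (AlgSp.yon S).map q ≫ hW.1.1.fst p = hW.1.1.fst pR ∧
          q ≫ hW.1.1.snd p = hW.1.1.snd pR ≫ r := by
      intro r hr
      obtain ⟨q, hq⟩ := (AlgSp.yon S).map_surjective (sqW.lift (hW.1.1.fst pR)
        ((AlgSp.yon S).map (hW.1.1.snd pR ≫ r)) (by rw [sqWR.w, Functor.map_comp, Category.assoc, hr]))
      exact ⟨q, by rw [hq, sqW.lift_fst], (AlgSp.yon S).map_injective (by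
        rw [Functor.map_comp, hq, sqW.lift_snd])⟩
    obtain ⟨q₁, hq₁, hq₁'⟩ := lifts r₁ sqR.w
    obtain ⟨q₂, hq₂, hq₂'⟩ := lifts r₂ rfl
    obtain ⟨n, hn⟩ := (AlgSp.yon S).map_surjective (sqWR.lift ((AlgSp.yon S).map x₁ ≫ hW.1.1.fst p)
      ((AlgSp.yon S).map l) (by
        rw [hx, Category.assoc, sqW.w, ← Category.assoc, ← Functor.map_comp, ← hl₂, Functor.map_comp, Category.assoc]))
    have hn₁ : n ≫ q₁ = x₁ := by
      refine (AlgSp.yon S).map_injective (sqW.hom_ext ?_ ?_)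
      · rw [Functor.map_comp, Category.assoc, hq₁, hn, sqWR.lift_fst]
      · rw [← Functor.map_comp, ← Functor.map_comp, Category.assoc, hq₁', ← Category.assoc, ← hl₁]
        congr 2
        exact (AlgSp.yon S).map_injective (by rw [Functor.map_comp, hn, sqWR.lift_snd])
    have hn₂ : n ≫ q₂ = x₂ := by
      refine (AlgSp.yon S).map_injective (sqW.hom_ext ?_ ?_)
      · rw [Functor.map_comp, Category.assoc, hq₂, hn, sqWR.lift_fst, hx]
      · rw [← Functor.map_comp, ← Functor.map_comp, Category.assoc, hq₂', ← Category.assoc, ← hl₂]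
        congr 2
        exact (AlgSp.yon S).map_injective (by rw [Functor.map_comp, hn, sqWR.lift_snd])
    have key : (AlgSp.yon S).map q₁ ≫ ht.choose = (AlgSp.yon S).map q₂ ≫ ht.choose := by
      refine (chart pR heR s.pt.obj s.pt.property).1 _ _ (fun m hm => ?_) (fun m hm => ?_)
      · rw [← Functor.map_comp_assoc, ← Functor.map_comp_assoc,
          (ht.choose_spec _ (m ≫ q₁)).1 (hY.1.1.fst pR) (by rw [Functor.map_comp, Category.assoc, hq₁, hm]),
          (ht.choose_spec _ (m ≫ q₂)).1 (hY.1.1.fst pR) (by rw [Functor.map_comp, Category.assoc, hq₂, hm])]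
      · rw [← Functor.map_comp_assoc, ← Functor.map_comp_assoc,
          (ht.choose_spec _ (m ≫ q₁)).2 (hZ.1.1.fst pR) (by rw [Functor.map_comp, Category.assoc, hq₁, hm]),
          (ht.choose_spec _ (m ≫ q₂)).2 (hZ.1.1.fst pR) (by rw [Functor.map_comp, Category.assoc, hq₂, hm])]
    rw [← hn₁, ← hn₂, Functor.map_comp, Functor.map_comp, Category.assoc, Category.assoc, key]
  let t := EffectiveEpi.desc (hW.1.1.fst p) ht.choose fun {Q} g₁ g₂ hg => hdesc Q g₁ g₂ hg
  have htf : hW.1.1.fst p ≫ t = ht.choose := EffectiveEpi.fac _ _ _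
  have hfac : ∀ {D : AlgSp.Space S} (k : D ⟶ W) (i : D ⟶ X) (hk : k.hom ≫ w.hom = i.hom) (val : D.obj ⟶ s.pt.obj),
      AlgSp.RepWith @IsClosedImmersion i.hom →
      (∀ (T : Over S) (m : T ⟶ hW.1.1.pullback p) (y : (AlgSp.yon S).obj T ⟶ D.obj),
        y ≫ k.hom = (AlgSp.yon S).map m ≫ hW.1.1.fst p → (AlgSp.yon S).map m ≫ ht.choose = y ≫ val) →
      k.hom ≫ t = val := by
    intro D k i hk val hi hval
    have sqD := hi.1.isPullback p
    haveI : Epi (hi.1.fst p) :=
      epi_of_etale_surjective (RepWith.baseChange sqD.flip he) (RepWith.baseChange sqD.flip hs)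
    obtain ⟨m, -, hm⟩ := UnionSpace.exists_map hi hW.1 k.hom hk p
    rw [← cancel_epi (hi.1.fst p), ← Category.assoc, ← hm, Category.assoc, htf,
      hval _ m (hi.1.fst p) hm.symm]
  refine ⟨ObjectProperty.homMk t, ObjectProperty.hom_ext _ (hfac a iY ha' _ hY.1 fun T m y hy => (ht.choose_spec T m).1 y hy),
    ObjectProperty.hom_ext _ (hfac b iZ hb' _ hZ.1 fun T m y hy => (ht.choose_spec T m).2 y hy),
    fun {m} h₁ h₂ => ObjectProperty.hom_ext _ ?_⟩
  change m.hom = t
  have h₁' : a.hom ≫ m.hom = s.inl.hom := congrArg (fun m => m.hom) h₁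
  have h₂' : b.hom ≫ m.hom = s.inr.hom := congrArg (fun m => m.hom) h₂
  rw [← cancel_epi (hW.1.1.fst p), htf]
  refine (chart p he s.pt.obj s.pt.property).1 _ _ (fun l hl => ?_) (fun l hl => ?_)
  · rw [← Category.assoc, hl, Category.assoc, h₁', (ht.choose_spec _ l).1 (hY.1.1.fst p) hl.symm]
  · rw [← Category.assoc, hl, Category.assoc, h₂', (ht.choose_spec _ l).2 (hZ.1.1.fst p) hl.symm]

end Groth.Agent.S9996
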