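import Groth.Statements.S9999
import Groth.Agent.AlgSpLib.QCohEtClosedImage
import Groth.Agent.AlgSpLib.QCohEtSub
-- import your own Groth.Agent.* helpers here

set_option autoImplicit false
universe u
open CategoryTheory CategoryTheory.Limits AlgebraicGeometry Opposite
open AlgSp

namespace Groth.Agent.S9999

open Groth.Agent.AlgSpLib Groth.Agent.AlgSpLib.QCohEt
set_option backward.isDefEq.respectTransparency false
set_option linter.style.haveILetI false

/-- the largest quasi-coherent submodule killed by the ideal, as a direct image -/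
theorem exists_largest {S : Scheme.{u}} {Z X : AlgSp.Sp S} {f : Z ⟶ X} (hX : IsAlgSpace X) (hZ : IsAlgSpace Z)
    (hi : RepWith @IsClosedImmersion f) (F : ModEt X) [F.IsQuasicoherent] :
    ∃ (G : ModEt Z) (ε : (pushModEt hi.1).obj G ⟶ F), G.IsQuasicoherent ∧ Mono ε ∧
      ∀ (G' : ModEt Z), ((pushModEt hi.1).obj G').IsQuasicoherent →
        ∀ φ : (pushModEt hi.1).obj G' ⟶ F, ∃ ψ : G' ⟶ G, (pushModEt hi.1).map ψ ≫ ε = φ := by
  let K : Type (u + 1) := {Q : QSub F // ∀ (E : EtOver X) (hE : IsAff E) (r : ΓE E), bcΓ hi.1 E r = 0 →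
    ∀ s ∈ Q.P E hE, r • s = 0}
  let H : QSub F := QSub.iSup fun Q : K => Q.1
  haveI := H.isQuasicoherent_obj
  have hM : Kills hi H.obj := fun E hE r hr m => by
    refine H.injective_incl E ?_
    rw [map_smul, map_zero]
    have hm : secMap H.incl E m ∈ ⨆ Q : K, Q.1.P E hE := (H.mem_sub_iff hE m.val).1 m.property
    generalize secMap H.incl E m = x at hm ⊢
    induction hm using Submodule.iSup_induction' with
    | mem Q s hs => exact Q.2 E hE r hr s hs
    | zero => exact smul_zero r
    | add a b _ _ ha hb => rw [smul_add, ha, hb, add_zero]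
  obtain ⟨G, ⟨e⟩⟩ := exists_iso_push hi hX H.obj hM hZ
  haveI : ((pushModEt hi.1).obj G).IsQuasicoherent :=
    ObjectProperty.prop_of_iso (SheafOfModules.isQuasicoherent (OEtRing X)) e.symm inferInstance
  haveI := full_pushModEt hi hZ hX
  haveI : Mono H.incl := H.mono_incl
  refine ⟨G, e.hom ≫ H.incl, isQuasicoherent_of_push hi hX G, inferInstance, fun G' hG' φ => ?_⟩
  haveI := hG'
  let Q₀ : K := ⟨QSub.image φ, fun E hE r hr s hs => by
    obtain ⟨a, rfl⟩ := hs
    rw [← map_smul]
    have h0 : r • a = 0 := by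
      change (bcΓ hi.1 E r) • (show Sec G' (EtOver.bcObj hi.1 E) from a) = 0
      rw [hr, zero_smul]
    rw [h0, map_zero]⟩
  obtain ⟨l, hl⟩ := exists_lift φ H.incl fun E hE => by
    rw [H.range_incl hE]
    rintro _ ⟨a, rfl⟩
    exact Submodule.mem_iSup_of_mem Q₀ ⟨a, rfl⟩
  refine ⟨(pushModEt hi.1).preimage (l ≫ e.inv), ?_⟩
  rw [(pushModEt hi.1).map_preimage, Category.assoc, e.inv_hom_id_assoc, hl]

/-- For a closed immersion i : Z ⟶ X of algebraic spaces over S, the direct image functor i_* from
quasi-coherent O_Z-modules to quasi-coherent O_X-modules (on the small etale sites; that i_*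
preserves quasi-coherence is taken as a hypothesis) has a right adjoint. -/
theorem result {S : Scheme.{u}} {Z X : AlgSp.Space S} (i : Z ⟶ X)
    (hi : AlgSp.RepWith @IsClosedImmersion i.hom)
    (hq : ∀ G : AlgSp.ModEt Z.obj, G.IsQuasicoherent → ((AlgSp.pushModEt hi.1).obj G).IsQuasicoherent) :
    ((SheafOfModules.isQuasicoherent (AlgSp.OEtRing X.obj)).lift
        ((SheafOfModules.isQuasicoherent (AlgSp.OEtRing Z.obj)).ι ⋙ AlgSp.pushModEt hi.1)
        (fun G => hq G.obj G.property)).IsLeftAdjoint := by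
  choose G ε hG hm hψ using fun F : (SheafOfModules.isQuasicoherent (OEtRing X.obj)).FullSubcategory =>
    haveI : F.obj.IsQuasicoherent := F.property
    exists_largest X.property Z.property hi F.obj
  haveI := faithful_pushModEt hi Z.property X.property
  let p : (SheafOfModules.isQuasicoherent (OEtRing Z.obj)).FullSubcategory →
      ModEt X.obj := fun G' => (pushModEt hi.1).obj G'.obj
  let e : ∀ (G' : (SheafOfModules.isQuasicoherent (OEtRing Z.obj)).FullSubcategory)
      (F : (SheafOfModules.isQuasicoherent (OEtRing X.obj)).FullSubcategory),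
      (G'.obj ⟶ G F) ≃ (p G' ⟶ F.obj) := fun G' F => Equiv.ofBijective
    (fun ψ => (pushModEt hi.1).map ψ ≫ ε F)
    ⟨fun a b hab => by
      haveI := hm F
      exact (pushModEt hi.1).map_injective ((cancel_mono (ε F)).1 hab),
      fun φ => hψ F G'.obj (hq _ G'.property) φ⟩
  let e' : ∀ (G' : (SheafOfModules.isQuasicoherent (OEtRing Z.obj)).FullSubcategory)
      (F : (SheafOfModules.isQuasicoherent (OEtRing X.obj)).FullSubcategory),
      (((SheafOfModules.isQuasicoherent (OEtRing X.obj)).lift
        ((SheafOfModules.isQuasicoherent (OEtRing Z.obj)).ι ⋙ pushModEt hi.1)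
        (fun G => hq G.obj G.property)).obj G' ⟶ F) ≃ (G' ⟶ ⟨G F, hG F⟩) := fun G' F =>
    { toFun := fun φ => ObjectProperty.homMk ((e G' F).symm φ.hom)
      invFun := fun ψ => ObjectProperty.homMk (e G' F ψ.hom)
      left_inv := fun φ => InducedCategory.hom_ext ((e G' F).apply_symm_apply φ.hom)
      right_inv := fun ψ => InducedCategory.hom_ext ((e G' F).symm_apply_apply ψ.hom) }
  refine (Adjunction.adjunctionOfEquivRight e' fun X' X'' F g φ => ?_).isLeftAdjoint
  refine InducedCategory.hom_ext ((e X' F).injective ?_)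
  refine ((e X' F).apply_symm_apply _).trans ?_
  change (pushModEt hi.1).map g.hom ≫ φ.hom = (pushModEt hi.1).map (g.hom ≫ (e X'' F).symm φ.hom) ≫ ε F
  rw [Functor.map_comp, Category.assoc]
  exact congrArg (fun t => (pushModEt hi.1).map g.hom ≫ t) ((e X'' F).apply_symm_apply φ.hom).symm

end Groth.Agent.S9999
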